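import Mathlib

set_option autoImplicit false

namespace Cfsg.Agent.Lib.Helper4

variable {G : Type*} [Group G]

/-- `|N| * |L : N| = |L|` for `N ≤ L`. -/
theorem card_mul_relIndex {N L : Subgroup G} (h : N ≤ L) :
    Nat.card N * N.relIndex L = Nat.card L := by
  have := Subgroup.relIndex_mul_relIndex (H := (⊥ : Subgroup G)) (K := N) (L := L) bot_le h
  rwa [Subgroup.relIndex_bot_left, Subgroup.relIndex_bot_left] at this

/-- Second isomorphism theorem, index form. -/
theorem relIndex_sup_of_le_normalizer (H N : Subgroup G) (hLE : H ≤ Subgroup.normalizer (N : Set G)) :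
    N.relIndex (H ⊔ N) = N.relIndex H := by
  let _i1 := Subgroup.normal_subgroupOf_of_le_normalizer hLE
  let _i2 := Subgroup.normal_subgroupOf_sup_of_le_normalizer hLE
  exact Nat.card_congr (QuotientGroup.quotientInfEquivProdNormalizerQuotient H N hLE).toEquiv.symm

/-- The product formula `|HN| * |H ∩ N| = |H| * |N|` when `H` normalizes `N`. -/
theorem card_sup_mul_card_inf (H N : Subgroup G) (hLE : H ≤ Subgroup.normalizer (N : Set G)) :
    Nat.card (H ⊔ N : Subgroup G) * Nat.card (H ⊓ N : Subgroup G) = Nat.card H * Nat.card N := by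
  have h1 : Nat.card N * N.relIndex (H ⊔ N) = Nat.card (H ⊔ N : Subgroup G) :=
    card_mul_relIndex le_sup_right
  have h2 : Nat.card (H ⊓ N : Subgroup G) * (H ⊓ N).relIndex H = Nat.card H :=
    card_mul_relIndex inf_le_left
  rw [Subgroup.inf_relIndex_left] at h2
  rw [relIndex_sup_of_le_normalizer H N hLE] at h1
  rw [← h1, ← h2]
  ring

end Cfsg.Agent.Lib.Helper4

namespace Cfsg.Agent.Lib.Helper4

variable {G : Type*} [Group G]

/-- Second isomorphism theorem, the other index form: `|TH : T| = |H : T ∩ H|` when `T` normalizes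
`H` (finite group). -/
theorem relIndex_sup_left_of_le_normalizer [Finite G] (T H : Subgroup G)
    (hLE : T ≤ Subgroup.normalizer (H : Set G)) : T.relIndex (T ⊔ H) = T.relIndex H := by
  have h1 := card_sup_mul_card_inf T H hLE
  have h2 : Nat.card (T ⊓ H : Subgroup G) * (T ⊓ H).relIndex H = Nat.card H :=
    card_mul_relIndex inf_le_right
  rw [Subgroup.inf_relIndex_right] at h2
  have h3 : Nat.card T * T.relIndex (T ⊔ H) = Nat.card (T ⊔ H : Subgroup G) :=
    card_mul_relIndex le_sup_left
  have ha : 0 < Nat.card (T ⊓ H : Subgroup G) := Nat.card_pos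
  have hb : 0 < Nat.card T := Nat.card_pos
  rw [← h2, ← h3] at h1
  have : Nat.card T * Nat.card (T ⊓ H : Subgroup G) * T.relIndex (T ⊔ H) =
      Nat.card T * Nat.card (T ⊓ H : Subgroup G) * T.relIndex H := by
    calc _ = Nat.card ↥T * T.relIndex (T ⊔ H) * Nat.card ↥(T ⊓ H) := by ring
      _ = Nat.card ↥T * (Nat.card ↥(T ⊓ H) * T.relIndex H) := h1
      _ = _ := by ring
  exact Nat.eq_of_mul_eq_mul_left (Nat.mul_pos hb ha) this

/-- A Sylow `p`-subgroup of `G` has `p'`-index intersection with every subnormal subgroup. -/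
theorem not_dvd_relIndex_of_isSubnormal [Finite G] {p : ℕ} [Fact p.Prime] {H : Subgroup G}
    (hH : H.IsSubnormal) (S : Sylow p G) : ¬ p ∣ (S : Subgroup G).relIndex H := by
  induction hH with
  | top =>
    rw [Subgroup.relIndex_top_right]
    exact S.not_dvd_index
  | step H K hHK _ hN ih =>
    have hKN : K ≤ Subgroup.normalizer (H : Set G) :=
      (Subgroup.normal_subgroupOf_iff_le_normalizer hHK).mp hN
    set T : Subgroup G := (S : Subgroup G) ⊓ K with hT
    have hTK : T ≤ K := inf_le_right
    have e1 : (S : Subgroup G).relIndex H = T.relIndex H := by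
      rw [← Subgroup.inf_relIndex_right (S : Subgroup G) H, ← Subgroup.inf_relIndex_right T H, hT,
        inf_assoc, inf_eq_right.mpr hHK]
    have e2 : T.relIndex K = (S : Subgroup G).relIndex K := by
      rw [hT, Subgroup.inf_relIndex_right]
    have e3 : T.relIndex (T ⊔ H) = T.relIndex H :=
      relIndex_sup_left_of_le_normalizer T H (hTK.trans hKN)
    have e4 : T.relIndex (T ⊔ H) * (T ⊔ H).relIndex K = T.relIndex K :=
      Subgroup.relIndex_mul_relIndex _ _ _ le_sup_left (sup_le hTK hHK)
    intro hdvd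
    apply ih
    rw [← e2, ← e4, e3, ← e1]
    exact Dvd.dvd.mul_right hdvd _

end Cfsg.Agent.Lib.Helper4
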