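import Mathlib
import Cfsg.Prelude.Def_Transfer
import Cfsg.Prelude.Def_PLocal

set_option autoImplicit false
open Cfsg

namespace Cfsg.Agent.Lib.Helper4

universe u

variable {S S' : Type u} [Group S] [Group S'] {p : ℕ}

theorem isElementaryAbelian_map_mulEquiv (e : S ≃* S') {A : Subgroup S}
    (hA : IsElementaryAbelian p A) : IsElementaryAbelian p (A.map e.toMonoidHom) := by
  obtain ⟨hc, hp⟩ := hA
  refine ⟨⟨⟨?_⟩⟩, ?_⟩
  · rintro ⟨_, ⟨a, ha, rfl⟩⟩ ⟨_, ⟨b, hb, rfl⟩⟩
    apply Subtype.ext
    have h1 : a * b = b * a := congrArg Subtype.val (mul_comm' (⟨a, ha⟩ : A) ⟨b, hb⟩)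
    show e.toMonoidHom a * e.toMonoidHom b = e.toMonoidHom b * e.toMonoidHom a
    rw [← map_mul, ← map_mul, h1]
  · rintro _ ⟨a, ha, rfl⟩
    rw [← map_pow, hp a ha, map_one]

theorem card_map_mulEquiv (e : S ≃* S') (A : Subgroup S) :
    Nat.card (A.map e.toMonoidHom) = Nat.card A :=
  Subgroup.card_map_of_injective e.injective

theorem map_symm_map_mulEquiv (e : S ≃* S') (A : Subgroup S) :
    (A.map e.toMonoidHom).map e.symm.toMonoidHom = A := by
  rw [Subgroup.map_map]
  have : e.symm.toMonoidHom.comp e.toMonoidHom = MonoidHom.id S := by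
    ext x; simp
  rw [this, Subgroup.map_id]

theorem map_map_symm_mulEquiv (e : S ≃* S') (B : Subgroup S') :
    (B.map e.symm.toMonoidHom).map e.toMonoidHom = B := by
  have := map_symm_map_mulEquiv e.symm B
  simpa using this

theorem maxEA_map_mulEquiv (e : S ≃* S') {A : Subgroup S}
    (hA : A ∈ maxElementaryAbelianSubgroups p S) :
    A.map e.toMonoidHom ∈ maxElementaryAbelianSubgroups p S' := by
  refine ⟨isElementaryAbelian_map_mulEquiv e hA.1, fun B hB => ?_⟩
  have h1 := hA.2 _ (isElementaryAbelian_map_mulEquiv e.symm hB)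
  rw [card_map_mulEquiv] at h1 ⊢
  exact h1

theorem thompsonSubgroup_map_mulEquiv (e : S ≃* S') :
    (thompsonSubgroup p S).map e.toMonoidHom = thompsonSubgroup p S' := by
  unfold thompsonSubgroup
  apply le_antisymm
  · rw [Subgroup.map_le_iff_le_comap]
    apply sSup_le
    intro A hA
    rw [← Subgroup.map_le_iff_le_comap]
    exact le_sSup (maxEA_map_mulEquiv e hA)
  · apply sSup_le
    intro B hB
    have h1 := maxEA_map_mulEquiv (p := p) e.symm hB
    have h2 : B.map e.symm.toMonoidHom ≤ sSup (maxElementaryAbelianSubgroups p S) := le_sSup h1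
    have h3 := Subgroup.map_mono (f := e.toMonoidHom) h2
    rwa [map_map_symm_mulEquiv] at h3

theorem omegaOne_map_mulEquiv (e : S ≃* S') (H : Subgroup S) :
    (omegaOne p H).map e.toMonoidHom = omegaOne p (H.map e.toMonoidHom) := by
  unfold omegaOne
  rw [MonoidHom.map_closure]
  congr 1
  ext y
  constructor
  · rintro ⟨x, ⟨hx, hxp⟩, rfl⟩
    exact ⟨⟨x, hx, rfl⟩, by rw [← map_pow, hxp, map_one]⟩
  · rintro ⟨⟨x, hx, rfl⟩, hxp⟩
    refine ⟨x, ⟨hx, ?_⟩, rfl⟩
    apply e.injective
    rw [map_one]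
    rw [← map_pow] at hxp
    exact hxp

theorem centralizer_map_mulEquiv (e : S ≃* S') (H : Subgroup S) :
    (Subgroup.centralizer (H : Set S)).map e.toMonoidHom =
      Subgroup.centralizer ((H.map e.toMonoidHom : Subgroup S') : Set S') := by
  ext y
  constructor
  · rintro ⟨x, hx, rfl⟩
    rw [Subgroup.mem_centralizer_iff]
    rintro _ ⟨h, hh, rfl⟩
    have := (Subgroup.mem_centralizer_iff.mp hx) h hh
    show e.toMonoidHom h * e.toMonoidHom x = e.toMonoidHom x * e.toMonoidHom h
    rw [← map_mul, ← map_mul, this]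
  · intro hy
    refine ⟨e.symm y, ?_, by simp⟩
    show e.symm y ∈ Subgroup.centralizer (H : Set S)
    rw [Subgroup.mem_centralizer_iff]
    intro h hh
    have := (Subgroup.mem_centralizer_iff.mp hy) (e h) ⟨h, hh, rfl⟩
    apply e.injective
    rw [map_mul, map_mul]
    simpa using this

theorem center_map_mulEquiv (e : S ≃* S') :
    (Subgroup.center S).map e.toMonoidHom = Subgroup.center S' := by
  ext y
  constructor
  · rintro ⟨x, hx, rfl⟩
    rw [Subgroup.mem_center_iff]
    intro g
    obtain ⟨g', rfl⟩ := e.surjective g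
    have := Subgroup.mem_center_iff.mp hx g'
    show e g' * e x = e x * e g'
    rw [← map_mul, ← map_mul, this]
  · intro hy
    refine ⟨e.symm y, ?_, by simp⟩
    show e.symm y ∈ Subgroup.center S
    rw [Subgroup.mem_center_iff]
    intro g
    have := Subgroup.mem_center_iff.mp hy (e g)
    apply e.injective
    rw [map_mul, map_mul]
    simpa using this

theorem map_inf_mulEquiv (e : S ≃* S') (A B : Subgroup S) :
    (A ⊓ B).map e.toMonoidHom = A.map e.toMonoidHom ⊓ B.map e.toMonoidHom :=
  Subgroup.map_inf A B e.toMonoidHom e.injective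

theorem omegaCenterThompson_map_mulEquiv (e : S ≃* S') :
    (omegaCenterThompson p S).map e.toMonoidHom = omegaCenterThompson p S' := by
  unfold omegaCenterThompson
  rw [omegaOne_map_mulEquiv, map_inf_mulEquiv, centralizer_map_mulEquiv,
    thompsonSubgroup_map_mulEquiv]

end Cfsg.Agent.Lib.Helper4
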