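import Mathlib
import Cfsg.Prelude.Def_Transfer
import Cfsg.Prelude.Def_PLocal
import Cfsg.Agent.Lib.Helper4.StableNC1

set_option autoImplicit false
open Cfsg

namespace Cfsg.Agent.Lib.Helper4

universe u

variable {S S' : Type u} [Group S] [Group S'] {p : ℕ}

theorem isStableEmbedding_comp_mulEquiv (η : S ≃* S') {H : Type u} [Group H] (τ' : S' →* H)
    (h : IsStableEmbedding p τ') : IsStableEmbedding p (τ'.comp η.toMonoidHom) := by
  obtain ⟨hinj, hfin, ⟨P, hP⟩, hcent, hJ, hV⟩ := h
  refine ⟨hinj.comp η.injective, hfin, ⟨P, ?_⟩, hcent, ?_, ?_⟩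
  · rw [hP]
    ext y
    constructor
    · rintro ⟨x, rfl⟩
      exact ⟨η.symm x, by simp⟩
    · rintro ⟨x, rfl⟩
      exact ⟨η x, rfl⟩
  · rw [← Subgroup.map_map, thompsonSubgroup_map_mulEquiv]
    exact hJ
  · intro V _ hVle
    apply hV V
    rwa [← Subgroup.map_map, omegaCenterThompson_map_mulEquiv] at hVle

/-- The family of subgroups whose intersection is the stable normal closure. -/
def stableFamily (p : ℕ) (S : Type u) [Group S] : Set (Subgroup S) :=
  {W : Subgroup S | omegaOne p (Subgroup.center S) ≤ W ∧
    ∀ (H : Type u) [Group H] (τ : S →* H), IsStableEmbedding p τ → (W.map τ).Normal}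

theorem stableNormalClosure_eq (p : ℕ) (S : Type u) [Group S] :
    stableNormalClosure p S = sInf (stableFamily p S) := rfl

theorem stableFamily_map (η : S ≃* S') {W : Subgroup S} (hW : W ∈ stableFamily p S) :
    W.map η.toMonoidHom ∈ stableFamily p S' := by
  obtain ⟨h1, h2⟩ := hW
  refine ⟨?_, ?_⟩
  · rw [← center_map_mulEquiv η, ← omegaOne_map_mulEquiv]
    exact Subgroup.map_mono h1
  · intro H _ τ' hτ'
    rw [Subgroup.map_map]
    exact h2 H _ (isStableEmbedding_comp_mulEquiv η τ' hτ')

theorem stableNormalClosure_map_le (η : S ≃* S') :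
    (stableNormalClosure p S).map η.toMonoidHom ≤ stableNormalClosure p S' := by
  rw [stableNormalClosure_eq, stableNormalClosure_eq]
  apply le_sInf
  intro W' hW'
  have h1 := stableFamily_map η.symm hW'
  have h2 : sInf (stableFamily p S) ≤ W'.map η.symm.toMonoidHom := sInf_le h1
  have h3 := Subgroup.map_mono (f := η.toMonoidHom) h2
  rwa [map_map_symm_mulEquiv] at h3

theorem stableNormalClosure_map (η : S ≃* S') :
    (stableNormalClosure p S).map η.toMonoidHom = stableNormalClosure p S' := by
  apply le_antisymm (stableNormalClosure_map_le η)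
  have h1 := stableNormalClosure_map_le (p := p) η.symm
  have h2 := Subgroup.map_mono (f := η.toMonoidHom) h1
  rwa [map_map_symm_mulEquiv] at h2

theorem stableNormalClosure_characteristic : (stableNormalClosure p S).Characteristic := by
  rw [Subgroup.characteristic_iff_map_eq]
  intro ϕ
  exact stableNormalClosure_map ϕ

theorem omegaOne_center_le_stableNormalClosure :
    omegaOne p (Subgroup.center S) ≤ stableNormalClosure p S := by
  rw [stableNormalClosure_eq]
  apply le_sInf
  intro W hW
  exact hW.1

end Cfsg.Agent.Lib.Helper4
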