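import Mathlib
import Cfsg.Prelude.Def_Transfer
import Cfsg.Prelude.Def_PLocal
import Cfsg.Agent.Lib.Helper4.StableNC2

set_option autoImplicit false
open Cfsg

namespace Cfsg.Agent.Lib.Helper4

universe u

variable {S : Type u} [Group S] {p : ℕ}

/-- A central element of order dividing `p` lies in every elementary abelian subgroup of largest
order. -/
theorem mem_of_mem_maxEA_of_central [Finite S] {A : Subgroup S}
    (hA : A ∈ maxElementaryAbelianSubgroups p S) {x : S} (hxc : x ∈ Subgroup.center S)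
    (hxp : x ^ p = 1) : x ∈ A := by
  have hZc : Subgroup.zpowers x ≤ Subgroup.center S := by
    rw [Subgroup.zpowers_le]; exact hxc
  have hZn : (Subgroup.zpowers x).Normal := by
    constructor
    intro z hz g
    have := Subgroup.mem_center_iff.mp (hZc hz) g
    rw [this, mul_assoc, mul_inv_cancel, mul_one]
    exact hz
  have hZp : ∀ z ∈ Subgroup.zpowers x, z ^ p = 1 := by
    intro z hz
    obtain ⟨k, rfl⟩ := Subgroup.mem_zpowers_iff.mp hz
    rw [← zpow_natCast, ← zpow_mul, mul_comm, zpow_mul, zpow_natCast, hxp, one_zpow]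
  have hAc : ∀ a ∈ A, ∀ b ∈ A, a * b = b * a := fun a ha b hb =>
    haveI := hA.1.1
    congrArg Subtype.val (mul_comm' (⟨a, ha⟩ : A) ⟨b, hb⟩)
  have hmem : ∀ b ∈ A ⊔ Subgroup.zpowers x, ∃ a ∈ A, ∃ z ∈ Subgroup.zpowers x, b = a * z := by
    intro b hb
    have h1 : b ∈ ((A ⊔ Subgroup.zpowers x : Subgroup S) : Set S) := hb
    rw [Subgroup.mul_normal] at h1
    obtain ⟨a, ha, z, hz, rfl⟩ := h1
    exact ⟨a, ha, z, hz, rfl⟩
  have hB : IsElementaryAbelian p (A ⊔ Subgroup.zpowers x) := by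
    refine ⟨⟨⟨?_⟩⟩, ?_⟩
    · rintro ⟨b, hb⟩ ⟨c, hc⟩
      apply Subtype.ext
      obtain ⟨a, ha, z, hz, rfl⟩ := hmem b hb
      obtain ⟨a', ha', z', hz', rfl⟩ := hmem c hc
      have hz1 : ∀ g : S, g * z = z * g := fun g => Subgroup.mem_center_iff.mp (hZc hz) g
      have hz2 : ∀ g : S, g * z' = z' * g := fun g => Subgroup.mem_center_iff.mp (hZc hz') g
      show a * z * (a' * z') = a' * z' * (a * z)
      calc a * z * (a' * z') = a * (z * a') * z' := by simp only [mul_assoc]
        _ = a * (a' * z) * z' := by rw [hz1 a']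
        _ = (a * a') * (z * z') := by simp only [mul_assoc]
        _ = (a' * a) * (z' * z) := by rw [hAc a ha a' ha', hz1 z']
        _ = a' * (a * z') * z := by simp only [mul_assoc]
        _ = a' * (z' * a) * z := by rw [hz2 a]
        _ = a' * z' * (a * z) := by simp only [mul_assoc]
    · intro b hb
      obtain ⟨a, ha, z, hz, rfl⟩ := hmem b hb
      have hz1 : Commute a z := Subgroup.mem_center_iff.mp (hZc hz) a
      rw [hz1.mul_pow, hA.1.2 a ha, hZp z hz, one_mul]
  have h1 := hA.2 _ hB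
  have h2 : A = A ⊔ Subgroup.zpowers x := Subgroup.eq_of_le_of_card_ge le_sup_left h1
  rw [h2]
  exact le_sup_right (a := A) (Subgroup.mem_zpowers x)

theorem maxEA_nonempty [Finite S] (p : ℕ) : (maxElementaryAbelianSubgroups p S).Nonempty := by
  classical
  let F := {A : Subgroup S // IsElementaryAbelian p A}
  have hbot : IsElementaryAbelian p (⊥ : Subgroup S) := by
    refine ⟨⟨⟨?_⟩⟩, ?_⟩
    · rintro ⟨a, ha⟩ ⟨b, hb⟩
      apply Subtype.ext
      rw [Subgroup.mem_bot] at ha hb
      show a * b = b * a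
      rw [ha, hb]
    · intro a ha
      rw [Subgroup.mem_bot] at ha
      rw [ha, one_pow]
  have : Nonempty F := ⟨⟨⊥, hbot⟩⟩
  obtain ⟨⟨A, hA⟩, hmax⟩ := Finite.exists_max (fun X : F => Nat.card X.1)
  exact ⟨A, hA, fun B hB => hmax ⟨B, hB⟩⟩

theorem omegaOne_center_le_omegaCenterThompson [Finite S] :
    omegaOne p (Subgroup.center S) ≤ omegaCenterThompson p S := by
  unfold omegaOne omegaCenterThompson omegaOne
  apply Subgroup.closure_mono
  rintro x ⟨hxc, hxp⟩
  refine ⟨Subgroup.mem_inf.mpr ⟨?_, ?_⟩, hxp⟩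
  · obtain ⟨A, hA⟩ := maxEA_nonempty (S := S) p
    have h1 : A ≤ thompsonSubgroup p S := le_sSup hA
    exact h1 (mem_of_mem_maxEA_of_central hA hxc hxp)
  · rw [Subgroup.mem_centralizer_iff]
    intro h _
    exact (Subgroup.mem_center_iff.mp hxc h)

end Cfsg.Agent.Lib.Helper4
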