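import Mathlib
import Cfsg.Prelude.Def_Transfer
import Cfsg.Prelude.Def_PLocal
import Cfsg.Agent.Lib.Helper4.StableNC3

set_option autoImplicit false
open Cfsg

namespace Cfsg.Agent.Lib.Helper4

universe u

variable {S : Type u} [Group S] {p : ℕ}

/-- The image of `Ω₁(Z(J(S)))` under an injective hom is normal once the image of `J(S)` is. -/
theorem omegaCenterThompson_map_normal {H : Type u} [Group H] (τ : S →* H)
    (hinj : Function.Injective τ) (hJ : ((thompsonSubgroup p S).map τ).Normal) :
    ((omegaCenterThompson p S).map τ).Normal := by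
  set J := thompsonSubgroup p S with hJdef
  have hgen : (omegaCenterThompson p S).map τ =
      Subgroup.closure {y : H | y ∈ J.map τ ∧
        y ∈ Subgroup.centralizer ((J.map τ : Subgroup H) : Set H) ∧ y ^ p = 1} := by
    unfold omegaCenterThompson omegaOne
    rw [MonoidHom.map_closure]
    congr 1
    ext y
    constructor
    · rintro ⟨x, ⟨hx, hxp⟩, rfl⟩
      obtain ⟨hxJ, hxC⟩ := Subgroup.mem_inf.mp hx
      refine ⟨⟨x, hxJ, rfl⟩, ?_, by rw [← map_pow, hxp, map_one]⟩
      rw [Subgroup.mem_centralizer_iff]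
      rintro _ ⟨j, hj, rfl⟩
      have := (Subgroup.mem_centralizer_iff.mp hxC) j hj
      rw [← map_mul, ← map_mul, this]
    · rintro ⟨⟨x, hxJ, rfl⟩, hyC, hyp⟩
      refine ⟨x, ⟨Subgroup.mem_inf.mpr ⟨hxJ, ?_⟩, ?_⟩, rfl⟩
      · rw [Subgroup.mem_centralizer_iff]
        intro j hj
        have := (Subgroup.mem_centralizer_iff.mp hyC) (τ j) ⟨j, hj, rfl⟩
        apply hinj
        rw [map_mul, map_mul]
        exact this
      · apply hinj
        rw [map_pow, hyp, map_one]
  rw [hgen]
  constructor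
  intro n hn g
  induction hn using Subgroup.closure_induction with
  | mem y hy =>
    apply Subgroup.subset_closure
    obtain ⟨h1, h2, h3⟩ := hy
    refine ⟨hJ.conj_mem y h1 g, ?_, by rw [conj_pow, h3]; simp⟩
    rw [Subgroup.mem_centralizer_iff]
    intro j hj
    have hj' : g⁻¹ * j * g ∈ J.map τ := by
      have := hJ.conj_mem j hj g⁻¹
      simpa using this
    have h4 := (Subgroup.mem_centralizer_iff.mp h2) _ hj'
    calc j * (g * y * g⁻¹) = g * ((g⁻¹ * j * g) * y) * g⁻¹ := by group
      _ = g * (y * (g⁻¹ * j * g)) * g⁻¹ := by rw [h4]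
      _ = g * y * g⁻¹ * j := by group
  | one => simp
  | mul x y _ _ hx hy =>
    have : g * (x * y) * g⁻¹ = (g * x * g⁻¹) * (g * y * g⁻¹) := by group
    rw [this]; exact Subgroup.mul_mem _ hx hy
  | inv x _ hx =>
    have : g * x⁻¹ * g⁻¹ = (g * x * g⁻¹)⁻¹ := by group
    rw [this]; exact Subgroup.inv_mem _ hx

theorem omegaCenterThompson_mem_stableFamily [Finite S] :
    omegaCenterThompson p S ∈ stableFamily p S := by
  refine ⟨omegaOne_center_le_omegaCenterThompson, ?_⟩
  intro H _ τ hτ
  exact omegaCenterThompson_map_normal τ hτ.1 hτ.2.2.2.2.1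

theorem stableNormalClosure_le_omegaCenterThompson [Finite S] :
    stableNormalClosure p S ≤ omegaCenterThompson p S := by
  rw [stableNormalClosure_eq]
  exact sInf_le omegaCenterThompson_mem_stableFamily

theorem omegaOne_center_ne_bot [Finite S] [Fact p.Prime] (hS : IsPGroup p S) [Nontrivial S] :
    omegaOne p (Subgroup.center S) ≠ ⊥ := by
  have hp : p.Prime := Fact.out
  have hZ : Nontrivial (Subgroup.center S) := hS.center_nontrivial
  obtain ⟨⟨z, hz⟩, hz1⟩ := exists_ne (1 : Subgroup.center S)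
  have hz1' : z ≠ 1 := fun h => hz1 (Subtype.ext h)
  obtain ⟨k, hk⟩ := (IsPGroup.iff_orderOf.mp hS) z
  have hk0 : k ≠ 0 := by
    rintro rfl
    rw [pow_zero, orderOf_eq_one_iff] at hk
    exact hz1' hk
  obtain ⟨j, rfl⟩ := Nat.exists_eq_succ_of_ne_zero hk0
  have hyo : orderOf (z ^ (p ^ j)) = p := by
    rw [orderOf_pow_of_dvd (pow_ne_zero _ hp.ne_zero) (by rw [hk]; exact pow_dvd_pow p (Nat.le_succ j)),
      hk, pow_succ, Nat.mul_div_cancel_left _ (pow_pos hp.pos j)]
  intro hbot
  have h1 : z ^ (p ^ j) ∈ omegaOne p (Subgroup.center S) := by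
    apply Subgroup.subset_closure
    refine ⟨Subgroup.pow_mem _ hz _, ?_⟩
    have h2 := pow_orderOf_eq_one (z ^ (p ^ j))
    rwa [hyo] at h2
  rw [hbot, Subgroup.mem_bot] at h1
  rw [h1, orderOf_one] at hyo
  exact hp.one_lt.ne hyo

theorem stableNormalClosure_props [Finite S] [Fact p.Prime] (hS : IsPGroup p S) :
    (Cfsg.stableNormalClosure p S).Characteristic ∧
    Cfsg.omegaOne p (Subgroup.center S) ≤ Cfsg.stableNormalClosure p S ∧
    Cfsg.stableNormalClosure p S ≤ Cfsg.omegaCenterThompson p S ∧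
    (Nontrivial S → Cfsg.stableNormalClosure p S ≠ ⊥) ∧
    ∀ (S' : Type u) [Group S'] (η : S ≃* S'),
      (Cfsg.stableNormalClosure p S).map η.toMonoidHom = Cfsg.stableNormalClosure p S' := by
  refine ⟨stableNormalClosure_characteristic, omegaOne_center_le_stableNormalClosure,
    stableNormalClosure_le_omegaCenterThompson, ?_, fun S' _ η => stableNormalClosure_map η⟩
  intro hnt hbot
  have h1 := omegaOne_center_le_stableNormalClosure (p := p) (S := S)
  rw [hbot, le_bot_iff] at h1
  exact omegaOne_center_ne_bot hS h1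

end Cfsg.Agent.Lib.Helper4
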