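import Mathlib
import Cfsg.Prelude.Def_Transfer

set_option autoImplicit false

namespace Cfsg.Agent.Lib.Helper4

open Cfsg

variable {G : Type*} [Group G]

theorem elemAb_comm {p : ℕ} {A : Subgroup G} (hA : IsElementaryAbelian p A) :
    ∀ x ∈ A, ∀ y ∈ A, x * y = y * x := by
  obtain ⟨hc, -⟩ := hA
  exact fun x hx y hy => congrArg Subtype.val (mul_comm' (⟨x, hx⟩ : A) ⟨y, hy⟩)

theorem elemAb_of_comm {p : ℕ} {A : Subgroup G} (hc : ∀ x ∈ A, ∀ y ∈ A, x * y = y * x)
    (hp : ∀ a ∈ A, a ^ p = 1) : IsElementaryAbelian p A := by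
  refine ⟨⟨⟨?_⟩⟩, hp⟩
  rintro ⟨x, hx⟩ ⟨y, hy⟩
  exact Subtype.ext (hc x hx y hy)

theorem elemAb_bot (p : ℕ) : IsElementaryAbelian p (⊥ : Subgroup G) := by
  apply elemAb_of_comm
  · intro x hx y hy
    rw [Subgroup.mem_bot] at hx hy
    rw [hx, hy]
  · intro a ha
    rw [Subgroup.mem_bot] at ha
    rw [ha, one_pow]

theorem elemAb_mono {p : ℕ} {A B : Subgroup G} (h : B ≤ A) (hA : IsElementaryAbelian p A) :
    IsElementaryAbelian p B :=
  elemAb_of_comm (fun x hx y hy => elemAb_comm hA x (h hx) y (h hy)) (fun a ha => hA.2 a (h ha))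

theorem elemAb_map {H : Type*} [Group H] {p : ℕ} {A : Subgroup G} (f : G →* H)
    (hA : IsElementaryAbelian p A) : IsElementaryAbelian p (A.map f) := by
  apply elemAb_of_comm
  · rintro _ ⟨x, hx, rfl⟩ _ ⟨y, hy, rfl⟩
    rw [← map_mul, ← map_mul, elemAb_comm hA x hx y hy]
  · rintro _ ⟨x, hx, rfl⟩
    rw [← map_pow, hA.2 x hx, map_one]

theorem elemAb_comap_injective {H : Type*} [Group H] {p : ℕ} {A : Subgroup H} (f : G →* H)
    (hf : Function.Injective f) (hA : IsElementaryAbelian p A) :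
    IsElementaryAbelian p (A.comap f) := by
  apply elemAb_of_comm
  · intro x hx y hy
    apply hf
    rw [map_mul, map_mul]
    exact elemAb_comm hA _ hx _ hy
  · intro x hx
    apply hf
    rw [map_pow, map_one]
    exact hA.2 _ hx

theorem elemAb_sup {p : ℕ} {A B : Subgroup G} (hA : IsElementaryAbelian p A)
    (hB : IsElementaryAbelian p B) (hAB : ∀ a ∈ A, ∀ b ∈ B, a * b = b * a) :
    IsElementaryAbelian p (A ⊔ B) := by
  have hS : A ⊔ B = Subgroup.closure ((A : Set G) ∪ B) := by
    rw [Subgroup.closure_union, Subgroup.closure_eq, Subgroup.closure_eq]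
  have hcS : ∀ x ∈ ((A : Set G) ∪ B), ∀ y ∈ ((A : Set G) ∪ B), x * y = y * x := by
    rintro x (hx | hx) y (hy | hy)
    · exact elemAb_comm hA x hx y hy
    · exact hAB x hx y hy
    · exact (hAB y hy x hx).symm
    · exact elemAb_comm hB x hx y hy
  have hcomm : IsMulCommutative (Subgroup.closure ((A : Set G) ∪ B)) :=
    Subgroup.isMulCommutative_closure hcS
  have hc : ∀ x ∈ Subgroup.closure ((A : Set G) ∪ B), ∀ y ∈ Subgroup.closure ((A : Set G) ∪ B),
      x * y = y * x :=
    fun x hx y hy => congrArg Subtype.val (mul_comm' (⟨x, hx⟩ : Subgroup.closure ((A : Set G) ∪ B)) ⟨y, hy⟩)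
  rw [hS]
  apply elemAb_of_comm hc
  intro a ha
  induction ha using Subgroup.closure_induction with
  | mem x hx =>
    rcases hx with hx | hx
    · exact hA.2 x hx
    · exact hB.2 x hx
  | one => exact one_pow p
  | mul x y hx hy ihx ihy =>
    have : Commute x y := hc x hx y hy
    rw [this.mul_pow, ihx, ihy, one_mul]
  | inv x hx ih => rw [inv_pow, ih, inv_one]

theorem elemAb_isPGroup {p : ℕ} {A : Subgroup G} (hA : IsElementaryAbelian p A) :
    IsPGroup p A := by
  rintro ⟨a, ha⟩
  refine ⟨1, ?_⟩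
  apply Subtype.ext
  simpa using hA.2 a ha

theorem elemAb_zpowers {p : ℕ} {x : G} (hx : x ^ p = 1) :
    IsElementaryAbelian p (Subgroup.zpowers x) := by
  apply elemAb_of_comm
  · intro a ha b hb
    obtain ⟨k, rfl⟩ := Subgroup.mem_zpowers_iff.mp ha
    obtain ⟨l, rfl⟩ := Subgroup.mem_zpowers_iff.mp hb
    rw [← zpow_add, ← zpow_add, add_comm]
  · intro a ha
    obtain ⟨k, rfl⟩ := Subgroup.mem_zpowers_iff.mp ha
    rw [← zpow_natCast, ← zpow_mul, mul_comm, zpow_mul, zpow_natCast, hx, one_zpow]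

/-- In a finite group there is an elementary abelian `p`-subgroup of largest order. -/
theorem exists_maxElemAb [Finite G] (p : ℕ) :
    ∃ A : Subgroup G, A ∈ maxElementaryAbelianSubgroups p G := by
  have : Nonempty {A : Subgroup G // IsElementaryAbelian p A} := ⟨⟨⊥, elemAb_bot p⟩⟩
  obtain ⟨A, hA⟩ := Finite.exists_max (fun A : {A : Subgroup G // IsElementaryAbelian p A} => Nat.card A.1)
  exact ⟨A.1, A.2, fun B hB => hA ⟨B, hB⟩⟩

/-- Every elementary abelian subgroup has order at most that of a maximal one, and a maximal one has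
order at least `p` when `p` divides the group order. -/
theorem maxElemAb_card_ge [Finite G] {p : ℕ} [Fact p.Prime] (hp : p ∣ Nat.card G)
    {A : Subgroup G} (hA : A ∈ maxElementaryAbelianSubgroups p G) : p ≤ Nat.card A := by
  obtain ⟨x, hx⟩ := exists_prime_orderOf_dvd_card' p hp
  have h1 : IsElementaryAbelian p (Subgroup.zpowers x) := by
    apply elemAb_zpowers
    rw [← hx]; exact pow_orderOf_eq_one x
  have := hA.2 _ h1
  rwa [Nat.card_zpowers, hx] at this

end Cfsg.Agent.Lib.Helper4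

namespace Cfsg.Agent.Lib.Helper4

open Cfsg

variable {G : Type*} [Group G]

theorem thompsonOf_le [Finite G] {p : ℕ} (U : Subgroup G)
    (hU : ∃ A ∈ maxElementaryAbelianSubgroups p G, A ≤ U) :
    thompsonSubgroupOf p U ≤ thompsonSubgroup p G := by
  obtain ⟨A0, hA0, hA0U⟩ := hU
  have hcardsub : ∀ A : Subgroup G, A ≤ U → Nat.card (A.subgroupOf U) = Nat.card A :=
    fun A hA => Nat.card_congr (Subgroup.subgroupOfEquivOfLe hA).toEquiv
  have hcardmap : ∀ B : Subgroup U, Nat.card (B.map U.subtype) = Nat.card B :=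
    fun B => Subgroup.card_map_of_injective U.subtype_injective
  unfold thompsonSubgroupOf thompsonSubgroup
  rw [Subgroup.map_le_iff_le_comap]
  apply sSup_le
  intro B hB
  rw [← Subgroup.map_le_iff_le_comap]
  apply le_sSup
  refine ⟨elemAb_map _ hB.1, ?_⟩
  intro C hC
  calc Nat.card C ≤ Nat.card A0 := hA0.2 C hC
    _ = Nat.card (A0.subgroupOf U) := (hcardsub A0 hA0U).symm
    _ ≤ Nat.card B := hB.2 _ (elemAb_comap_injective U.subtype U.subtype_injective hA0.1)
    _ = Nat.card (B.map U.subtype) := (hcardmap B).symm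

theorem le_thompsonOf [Finite G] {p : ℕ} (U : Subgroup G) {A : Subgroup G}
    (hA : A ∈ maxElementaryAbelianSubgroups p G) (hAU : A ≤ U) :
    A ≤ thompsonSubgroupOf p U := by
  have hcardsub : ∀ A : Subgroup G, A ≤ U → Nat.card (A.subgroupOf U) = Nat.card A :=
    fun A hA => Nat.card_congr (Subgroup.subgroupOfEquivOfLe hA).toEquiv
  have hcardmap : ∀ B : Subgroup U, Nat.card (B.map U.subtype) = Nat.card B :=
    fun B => Subgroup.card_map_of_injective U.subtype_injective
  unfold thompsonSubgroupOf thompsonSubgroup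
  have : A = (A.subgroupOf U).map U.subtype := by
    rw [Subgroup.map_subgroupOf_eq_of_le hAU]
  rw [this]
  apply Subgroup.map_mono
  apply le_sSup
  refine ⟨elemAb_comap_injective U.subtype U.subtype_injective hA.1, ?_⟩
  intro B hB
  calc Nat.card B = Nat.card (B.map U.subtype) := (hcardmap B).symm
    _ ≤ Nat.card A := hA.2 _ (elemAb_map _ hB)
    _ = Nat.card (A.subgroupOf U) := (hcardsub A hAU).symm

open scoped Pointwise in
theorem maxElemAb_conj {p : ℕ} {A : Subgroup G} (hA : A ∈ maxElementaryAbelianSubgroups p G)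
    (g : G) : MulAut.conj g • A ∈ maxElementaryAbelianSubgroups p G := by
  refine ⟨elemAb_map _ hA.1, ?_⟩
  intro B hB
  have : Nat.card (MulAut.conj g • A : Subgroup G) = Nat.card A :=
    Subgroup.card_map_of_injective (MulAut.conj g).injective
  rw [this]
  exact hA.2 B hB

end Cfsg.Agent.Lib.Helper4
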