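import Mathlib

set_option autoImplicit false
set_option linter.style.haveILetI false

namespace Cfsg.Agent.Lib.Helper4

open Matrix
open scoped commutatorElement

/-- The Heisenberg group of dimension `2n+1` over a commutative ring `F`, as triples `(a,b,c)`. -/
@[ext]
structure HeisG (F : Type) [CommRing F] (n : ℕ) where
  a : Fin n → F
  b : Fin n → F
  c : F

namespace HeisG

variable {F : Type} [CommRing F] {n : ℕ}

instance : Mul (HeisG F n) := ⟨fun x y => ⟨x.a + y.a, x.b + y.b, x.c + y.c + x.a ⬝ᵥ y.b⟩⟩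
instance : One (HeisG F n) := ⟨⟨0, 0, 0⟩⟩
instance : Inv (HeisG F n) := ⟨fun x => ⟨-x.a, -x.b, -x.c + x.a ⬝ᵥ x.b⟩⟩

@[simp] theorem mul_a (x y : HeisG F n) : (x * y).a = x.a + y.a := rfl
@[simp] theorem mul_b (x y : HeisG F n) : (x * y).b = x.b + y.b := rfl
@[simp] theorem mul_c (x y : HeisG F n) : (x * y).c = x.c + y.c + x.a ⬝ᵥ y.b := rfl
@[simp] theorem one_a : (1 : HeisG F n).a = 0 := rfl
@[simp] theorem one_b : (1 : HeisG F n).b = 0 := rfl
@[simp] theorem one_c : (1 : HeisG F n).c = 0 := rfl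
@[simp] theorem inv_a (x : HeisG F n) : (x⁻¹).a = -x.a := rfl
@[simp] theorem inv_b (x : HeisG F n) : (x⁻¹).b = -x.b := rfl
@[simp] theorem inv_c (x : HeisG F n) : (x⁻¹).c = -x.c + x.a ⬝ᵥ x.b := rfl

instance : Group (HeisG F n) where
  mul_assoc x y z := by
    ext
    · simp [add_assoc]
    · simp [add_assoc]
    · simp only [mul_c, mul_a, mul_b, add_dotProduct, dotProduct_add]; ring
  one_mul x := by ext <;> simp
  mul_one x := by ext <;> simp
  inv_mul_cancel x := by
    ext
    · simp
    · simp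
    · simp only [mul_c, inv_c, inv_a, one_c, neg_dotProduct]; ring

theorem pow_a (x : HeisG F n) (k : ℕ) : (x ^ k).a = k • x.a := by
  induction k with
  | zero => simp
  | succ k ih => rw [pow_succ, mul_a, ih, succ_nsmul]

theorem pow_b (x : HeisG F n) (k : ℕ) : (x ^ k).b = k • x.b := by
  induction k with
  | zero => simp
  | succ k ih => rw [pow_succ, mul_b, ih, succ_nsmul]

theorem pow_c (x : HeisG F n) (k : ℕ) :
    (x ^ k).c = k • x.c + (k.choose 2) • (x.a ⬝ᵥ x.b) := by
  induction k with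
  | zero => simp
  | succ k ih =>
    rw [pow_succ, mul_c, ih, pow_a, smul_dotProduct, Nat.choose_succ_succ, Nat.choose_one_right,
      succ_nsmul, add_nsmul]
    ring

/-- Commutators are central elements `(0,0,*)`. -/
theorem comm_a (x y : HeisG F n) : (x * y * x⁻¹ * y⁻¹).a = 0 := by
  simp

theorem comm_b (x y : HeisG F n) : (x * y * x⁻¹ * y⁻¹).b = 0 := by
  simp

theorem comm_c (x y : HeisG F n) : (x * y * x⁻¹ * y⁻¹).c = x.a ⬝ᵥ y.b - y.a ⬝ᵥ x.b := by
  simp only [mul_c, mul_a, inv_a, inv_b, inv_c, add_dotProduct,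
    neg_dotProduct, dotProduct_neg]
  ring

theorem mem_center_iff (x : HeisG F n) : x ∈ Subgroup.center (HeisG F n) ↔ x.a = 0 ∧ x.b = 0 := by
  rw [Subgroup.mem_center_iff]
  constructor
  · intro h
    constructor
    · funext i
      have := congrArg HeisG.c (h ⟨0, Pi.single i 1, 0⟩)
      simp only [mul_c, dotProduct_single, zero_dotProduct, mul_one] at this
      simpa using this.symm
    · funext i
      have := congrArg HeisG.c (h ⟨Pi.single i 1, 0, 0⟩)
      simp only [mul_c, single_dotProduct, dotProduct_zero, one_mul] at this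
      simpa using this
  · rintro ⟨ha, hb⟩ g
    ext
    · simp [ha]
    · simp [hb]
    · simp [ha, hb, add_comm]


/-- The underlying equivalence with a product. -/
def equivProd (F : Type) [CommRing F] (n : ℕ) :
    HeisG F n ≃ (Fin n → F) × (Fin n → F) × F where
  toFun x := (x.a, x.b, x.c)
  invFun t := ⟨t.1, t.2.1, t.2.2⟩
  left_inv x := by cases x; rfl
  right_inv t := by rfl

instance [Finite F] : Finite (HeisG F n) := Finite.of_equiv _ (equivProd F n).symm

theorem card_zmod (p : ℕ) [Fact p.Prime] : Nat.card (HeisG (ZMod p) n) = p ^ (1 + 2 * n) := by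
  rw [Nat.card_congr (equivProd (ZMod p) n), Nat.card_prod, Nat.card_prod, Nat.card_fun,
    Nat.card_eq_fintype_card, Nat.card_eq_fintype_card, ZMod.card, Fintype.card_fin]
  ring

theorem pow_p_zmod (p : ℕ) [Fact p.Prime] (hp2 : p ≠ 2) (x : HeisG (ZMod p) n) : x ^ p = 1 := by
  have hp : p.Prime := Fact.out
  have h3 : 2 < p := lt_of_le_of_ne hp.two_le (Ne.symm hp2)
  have hch : ((p.choose 2 : ℕ) : ZMod p) = 0 := by
    rw [ZMod.natCast_eq_zero_iff]
    exact hp.dvd_choose_self (by norm_num) h3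
  ext
  · rw [pow_a, one_a]
    simp [nsmul_eq_mul]
  · rw [pow_b, one_b]
    simp [nsmul_eq_mul]
  · rw [pow_c, one_c, nsmul_eq_mul, nsmul_eq_mul, hch]
    simp

/-- The centre is in bijection with `F`. -/
def centerEquiv (F : Type) [CommRing F] (n : ℕ) : Subgroup.center (HeisG F n) ≃ F where
  toFun x := x.1.c
  invFun c := ⟨⟨0, 0, c⟩, (mem_center_iff _).mpr ⟨rfl, rfl⟩⟩
  left_inv x := by
    obtain ⟨ha, hb⟩ := (mem_center_iff x.1).mp x.2
    apply Subtype.ext
    ext
    · simp [ha]
    · simp [hb]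
    · rfl
  right_inv c := rfl

theorem card_center_zmod (p : ℕ) [Fact p.Prime] :
    Nat.card (Subgroup.center (HeisG (ZMod p) n)) = p := by
  rw [Nat.card_congr (centerEquiv (ZMod p) n), Nat.card_eq_fintype_card, ZMod.card]

theorem commutator_eq_center (hn : 1 ≤ n) :
    commutator (HeisG F n) = Subgroup.center (HeisG F n) := by
  apply le_antisymm
  · rw [_root_.commutator_def, Subgroup.commutator_le]
    intro x _ y _
    rw [commutatorElement_def, mem_center_iff]
    exact ⟨comm_a x y, comm_b x y⟩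
  · intro z hz
    obtain ⟨ha, hb⟩ := (mem_center_iff z).mp hz
    have key : z = ⁅(⟨Pi.single ⟨0, hn⟩ z.c, 0, 0⟩ : HeisG F n), ⟨0, Pi.single ⟨0, hn⟩ 1, 0⟩⁆ := by
      rw [commutatorElement_def]
      ext
      · rw [comm_a, ha]
      · rw [comm_b, hb]
      · rw [comm_c]
        simp
    rw [key, _root_.commutator_def]
    exact Subgroup.commutator_mem_commutator (Subgroup.mem_top _) (Subgroup.mem_top _)

end HeisG

end Cfsg.Agent.Lib.Helper4
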