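import Mathlib
import Cfsg.Agent.Lib.Helper4.HeisOdd

set_option autoImplicit false
set_option linter.style.haveILetI false

namespace Cfsg.Agent.Lib.Helper4

open Matrix

namespace HeisG

variable {F : Type} [Field F] {n : ℕ}

/-- The natural module of dimension `n + 2`. -/
abbrev HV (F : Type) [Field F] (n : ℕ) := F × (Fin n → F) × F

/-- The linear map by which a Heisenberg element acts on `F × Fⁿ × F`. -/
def heisLin (x : HeisG F n) : HV F n →ₗ[F] HV F n where
  toFun t := (t.1 + x.a ⬝ᵥ t.2.1 + x.c * t.2.2, t.2.1 + t.2.2 • x.b, t.2.2)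
  map_add' s t := by
    refine Prod.ext ?_ (Prod.ext ?_ ?_)
    · simp only [Prod.fst_add, Prod.snd_add, dotProduct_add, mul_add]; ring
    · simp only [Prod.fst_add, Prod.snd_add, add_smul]; abel
    · simp
  map_smul' r t := by
    refine Prod.ext ?_ (Prod.ext ?_ ?_)
    · simp only [Prod.smul_fst, Prod.smul_snd, dotProduct_smul, smul_eq_mul, RingHom.id_apply]; ring
    · simp only [Prod.smul_fst, Prod.smul_snd, smul_eq_mul, RingHom.id_apply, smul_add, mul_smul]
    · simp

@[simp] theorem heisLin_apply (x : HeisG F n) (t : HV F n) :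
    heisLin x t = (t.1 + x.a ⬝ᵥ t.2.1 + x.c * t.2.2, t.2.1 + t.2.2 • x.b, t.2.2) := rfl

/-- The faithful representation of the Heisenberg group on `F × Fⁿ × F`. -/
def heisRep : HeisG F n →* Module.End F (HV F n) where
  toFun := heisLin
  map_one' := by
    apply LinearMap.ext
    intro t
    refine Prod.ext ?_ (Prod.ext ?_ ?_)
    · simp
    · simp
    · simp
  map_mul' x y := by
    apply LinearMap.ext
    intro t
    rw [Module.End.mul_apply]
    refine Prod.ext ?_ (Prod.ext ?_ ?_)
    · simp only [heisLin_apply, mul_a, mul_c, add_dotProduct, dotProduct_add, dotProduct_smul,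
        smul_eq_mul]
      ring
    · simp only [heisLin_apply, mul_b, smul_add]; abel
    · simp

theorem heisRep_injective : Function.Injective (heisRep : HeisG F n →* Module.End F (HV F n)) := by
  intro x y h
  have h1 : ∀ t : HV F n, heisLin x t = heisLin y t := fun t => by
    have := congrArg (fun f : Module.End F (HV F n) => f t) h
    exact this
  have h0 := h1 (0, 0, 1)
  simp only [heisLin_apply, dotProduct_zero, zero_add, mul_one, one_smul, add_zero, Prod.mk.injEq] at h0
  ext i
  · have hi := h1 (0, Pi.single i 1, 0)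
    simp only [heisLin_apply, dotProduct_single, mul_one, zero_add, mul_zero, add_zero, zero_smul,
      Prod.mk.injEq] at hi
    exact hi.1
  · exact congrFun h0.2.1 i
  · exact h0.1

end HeisG

end Cfsg.Agent.Lib.Helper4
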