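import Mathlib
import Cfsg.Prelude.Def_Transfer
import Cfsg.Agent.Lib.Helper4.HeisRep
import Cfsg.Agent.Lib.Helper16.Frattini
import Cfsg.Agent.Lib.Helper1.PGroup

set_option autoImplicit false
set_option linter.style.haveILetI false

namespace Cfsg.Agent.Lib.Helper4

open Matrix

/-- Criterion: a finite group of exponent `p` with `G' = Z(G)` of order `p` is extraspecial. -/
theorem isExtraspecial_of_exponent {Q : Type*} [Group Q] [Finite Q] {p : ℕ} [Fact p.Prime]
    (hexp : ∀ x : Q, x ^ p = 1) (hcz : commutator Q = Subgroup.center Q)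
    (hcard : Nat.card (Subgroup.center Q) = p) : Cfsg.IsExtraspecial p Q := by
  have hPG : IsPGroup p Q := fun g => ⟨1, by rw [pow_one]; exact hexp g⟩
  refine ⟨⟨hPG, ?_, hcz⟩, hcard⟩
  rw [← hcz]
  apply le_antisymm
  · have h1 : frattini Q ≤ (Abelianization.of : Q →* Abelianization Q).ker := by
      apply Cfsg.Agent.Lib.Helper16.frattini_le_ker (p := p)
      intro e
      obtain ⟨x, rfl⟩ := QuotientGroup.mk_surjective e
      change (Abelianization.of x) ^ p = 1
      rw [← map_pow, hexp, map_one]
    rwa [Abelianization.ker_of] at h1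
  · exact Cfsg.Agent.Lib.Helper1.IsPGroup.commutator_le_frattini hPG

/-- Transport of `G' = Z(G)` along an isomorphism. -/
theorem commutator_eq_center_of_mulEquiv {P Q : Type*} [Group P] [Group Q] (e : P ≃* Q)
    (h : commutator P = Subgroup.center P) : commutator Q = Subgroup.center Q := by
  have h1 : commutator Q = (commutator P).map e.toMonoidHom := by
    rw [_root_.commutator_def, _root_.commutator_def, Subgroup.map_commutator,
      Subgroup.map_top_of_surjective _ e.surjective]
  have h2 : Subgroup.center Q = (Subgroup.center P).map e.toMonoidHom := by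
    ext x
    constructor
    · intro hx
      refine ⟨e.symm x, ?_, by simp⟩
      rw [SetLike.mem_coe, Subgroup.mem_center_iff] at *
      intro g
      apply e.injective
      rw [map_mul, map_mul, e.apply_symm_apply]
      exact hx (e g)
    · rintro ⟨y, hy, rfl⟩
      rw [SetLike.mem_coe, Subgroup.mem_center_iff] at *
      intro q
      have := congrArg e (hy (e.symm q))
      rw [map_mul, map_mul, e.apply_symm_apply] at this
      exact this
  rw [h1, h2, h]

namespace HeisG

/-- The embedding of the Heisenberg group over `ZMod p` into `GL (n + 2)`. -/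
noncomputable def toGL (p : ℕ) [Fact p.Prime] (n : ℕ) :
    HeisG (ZMod p) n →* Matrix.GeneralLinearGroup (Fin (n + 2)) (ZMod p) :=
  (Units.map (MonoidHomClass.toMonoidHom (LinearMap.toMatrixAlgEquiv
    (Module.finBasisOfFinrankEq (ZMod p) (HV (ZMod p) n) (n := n + 2) (by
      rw [Module.finrank_prod, Module.finrank_prod, Module.finrank_self, Module.finrank_fin_fun]
      ring))))).comp heisRep.toHomUnits

theorem toGL_injective (p : ℕ) [Fact p.Prime] (n : ℕ) : Function.Injective (toGL p n) := by
  unfold toGL
  rw [MonoidHom.coe_comp]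
  apply Function.Injective.comp
  · apply Units.map_injective
    exact (LinearMap.toMatrixAlgEquiv _).injective
  · intro x y h
    apply heisRep_injective
    have := congrArg Units.val h
    rwa [MonoidHom.coe_toHomUnits, MonoidHom.coe_toHomUnits] at this

end HeisG

/-- Existence of an extraspecial subgroup of order `p ^ (1 + 2n)` and exponent `p` in
`GL (n + 2) p`, for odd `p` and `n ≥ 1`. -/
theorem exists_extraspecial_in_GL (p : ℕ) [Fact p.Prime] (hp : p ≠ 2) (n : ℕ) (hn : 1 ≤ n) :
    ∃ E : Subgroup (Matrix.GeneralLinearGroup (Fin (n + 2)) (ZMod p)),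
      Cfsg.IsExtraspecial p ↥E ∧ Nat.card E = p ^ (1 + 2 * n) ∧ ∀ x ∈ E, x ^ p = 1 := by
  let e : HeisG (ZMod p) n ≃* (HeisG.toGL p n).range :=
    MonoidHom.ofInjective (HeisG.toGL_injective p n)
  haveI : Finite (HeisG.toGL p n).range := Finite.of_equiv _ e.toEquiv
  have hexp : ∀ x : (HeisG.toGL p n).range, x ^ p = 1 := by
    intro x
    obtain ⟨y, rfl⟩ := e.surjective x
    rw [← map_pow, HeisG.pow_p_zmod p hp, map_one]
  refine ⟨(HeisG.toGL p n).range, ?_, ?_, ?_⟩
  · apply isExtraspecial_of_exponent hexp
    · exact commutator_eq_center_of_mulEquiv e (HeisG.commutator_eq_center hn)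
    · rw [← Nat.card_congr (Subgroup.centerCongr e).toEquiv]
      exact HeisG.card_center_zmod p
  · rw [← Nat.card_congr e.toEquiv]
    exact HeisG.card_zmod p
  · intro x hx
    have := hexp ⟨x, hx⟩
    exact congrArg Subtype.val this

end Cfsg.Agent.Lib.Helper4
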