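import Mathlib
import Cfsg.Prelude.Def_Transfer
import Cfsg.Prelude.Def_PLocal
import Cfsg.Agent.Lib.Helper4.StableNC1
import Cfsg.Agent.Lib.Helper9.PLocal

set_option autoImplicit false
open Cfsg

namespace Cfsg.Agent.Lib.Helper4

universe u

variable {G : Type u} [Group G] [Finite G] {p : ℕ} [Fact p.Prime]

section
variable (K : Subgroup G) [K.Normal] (hK : (Nat.card K).Coprime p) (S : Subgroup G)
  (hS : IsPGroup p S)
include hK hS

theorem eq_one_of_mem_pgroup_of_mem_pprime {x : G} (hxS : x ∈ S) (hxK : x ∈ K) : x = 1 := by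
  obtain ⟨k, hk⟩ := IsPGroup.iff_card.mp hS
  have hcop : Nat.Coprime (Nat.card S) (Nat.card K) := by
    rw [hk]; exact (Nat.Coprime.pow_right k hK).symm
  have h1 := (Subgroup.disjoint_of_coprime_natCard hcop).eq_bot
  have h2 : x ∈ S ⊓ K := Subgroup.mem_inf.mpr ⟨hxS, hxK⟩
  rw [h1] at h2
  exact Subgroup.mem_bot.mp h2

theorem mk'_injOn_pgroup {x y : G} (hx : x ∈ S) (hy : y ∈ S)
    (h : QuotientGroup.mk' K x = QuotientGroup.mk' K y) : x = y := by
  rw [QuotientGroup.mk'_apply, QuotientGroup.mk'_apply, QuotientGroup.eq] at h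
  have h1 := eq_one_of_mem_pgroup_of_mem_pprime K hK S hS (S.mul_mem (S.inv_mem hx) hy) h
  calc x = x * (x⁻¹ * y) := by rw [h1, mul_one]
    _ = y := by group

/-- The isomorphism from a `p`-subgroup to its image modulo a normal `p'`-subgroup. -/
noncomputable def pgroupQuotEquiv : S ≃* (S.map (QuotientGroup.mk' K)) :=
  MulEquiv.ofBijective ((QuotientGroup.mk' K).subgroupMap S)
    ⟨by
      intro a b hab
      have h1 := congrArg Subtype.val hab
      simp only [MonoidHom.subgroupMap_apply_coe] at h1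
      exact Subtype.ext (mk'_injOn_pgroup K hK S hS a.2 b.2 h1),
     (QuotientGroup.mk' K).subgroupMap_surjective S⟩

theorem pgroupQuotEquiv_coe (s : S) :
    ((pgroupQuotEquiv K hK S hS s : S.map (QuotientGroup.mk' K)) : G ⧸ K) =
      QuotientGroup.mk' K s := rfl

theorem thompsonSubgroupOf_map_mk' :
    thompsonSubgroupOf p (S.map (QuotientGroup.mk' K)) =
      (thompsonSubgroupOf p S).map (QuotientGroup.mk' K) := by
  unfold thompsonSubgroupOf
  rw [← thompsonSubgroup_map_mulEquiv (pgroupQuotEquiv K hK S hS), Subgroup.map_map,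
    Subgroup.map_map]
  congr 1

theorem omegaOne_map_mk' {H : Subgroup G} (hHS : H ≤ S) :
    (omegaOne p H).map (QuotientGroup.mk' K) = omegaOne p (H.map (QuotientGroup.mk' K)) := by
  unfold omegaOne
  rw [MonoidHom.map_closure]
  congr 1
  ext y
  constructor
  · rintro ⟨x, ⟨hx, hxp⟩, rfl⟩
    exact ⟨⟨x, hx, rfl⟩, by rw [← map_pow, hxp, map_one]⟩
  · rintro ⟨⟨x, hx, rfl⟩, hxp⟩
    refine ⟨x, ⟨hx, ?_⟩, rfl⟩
    rw [← map_pow] at hxp
    apply eq_one_of_mem_pgroup_of_mem_pprime K hK S hS (S.pow_mem (hHS hx) p)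
    rw [QuotientGroup.mk'_apply, QuotientGroup.eq_one_iff] at hxp
    exact hxp

theorem center_map_mk' :
    (S ⊓ Subgroup.centralizer (S : Set G)).map (QuotientGroup.mk' K) =
      S.map (QuotientGroup.mk' K) ⊓
        Subgroup.centralizer ((S.map (QuotientGroup.mk' K) : Subgroup (G ⧸ K)) : Set (G ⧸ K)) := by
  ext y
  constructor
  · rintro ⟨x, hx, rfl⟩
    obtain ⟨hxS, hxC⟩ := Subgroup.mem_inf.mp hx
    refine Subgroup.mem_inf.mpr ⟨⟨x, hxS, rfl⟩, ?_⟩
    rw [Subgroup.mem_centralizer_iff]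
    rintro _ ⟨s, hs, rfl⟩
    have := (Subgroup.mem_centralizer_iff.mp hxC) s hs
    rw [← map_mul, ← map_mul, this]
  · intro hy
    obtain ⟨⟨x, hxS, rfl⟩, hyC⟩ := Subgroup.mem_inf.mp hy
    refine ⟨x, Subgroup.mem_inf.mpr ⟨hxS, ?_⟩, rfl⟩
    rw [Subgroup.mem_centralizer_iff]
    intro s hs
    have := (Subgroup.mem_centralizer_iff.mp hyC) _ ⟨s, hs, rfl⟩
    rw [← map_mul, ← map_mul] at this
    exact mk'_injOn_pgroup K hK S hS (S.mul_mem hs hxS) (S.mul_mem hxS hs) this

/-- `C_{G/K}(XK/K) = C_G(X)K/K` for a `p`-subgroup `X` and a normal `p'`-subgroup `K`. -/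
theorem centralizer_map_mk'_eq_of_coprime :
    Subgroup.centralizer ((S.map (QuotientGroup.mk' K) : Subgroup (G ⧸ K)) : Set (G ⧸ K)) =
      (Subgroup.centralizer (S : Set G)).map (QuotientGroup.mk' K) := by
  apply le_antisymm
  · intro y hy
    have h1 : y ∈ Subgroup.normalizer
        ((S.map (QuotientGroup.mk' K) : Subgroup (G ⧸ K)) : Set (G ⧸ K)) :=
      Subgroup.centralizer_le_normalizer _ hy
    rw [Cfsg.Agent.Lib.Helper9.normalizer_map_mk'_eq_of_coprime K hK hS] at h1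
    obtain ⟨n, hn, rfl⟩ := h1
    refine ⟨n, ?_, rfl⟩
    show n ∈ Subgroup.centralizer (S : Set G)
    have hn' : n ∈ Subgroup.normalizer (S : Set G) := hn
    rw [Subgroup.mem_centralizer_iff]
    intro s hs
    have h2 : n * s * n⁻¹ ∈ S := (Subgroup.mem_normalizer_iff.mp hn' s).mp hs
    have h3 := (Subgroup.mem_centralizer_iff.mp hy) _ ⟨s, hs, rfl⟩
    have h4 : QuotientGroup.mk' K (n * s * n⁻¹) = QuotientGroup.mk' K s := by
      rw [map_mul, map_mul, ← h3, map_inv]
      group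
    have h5 := mk'_injOn_pgroup K hK S hS h2 hs h4
    calc s * n = (n * s * n⁻¹) * n := by rw [h5]
      _ = n * s := by group
  · rintro _ ⟨c, hc, rfl⟩
    rw [Subgroup.mem_centralizer_iff]
    rintro _ ⟨s, hs, rfl⟩
    have := (Subgroup.mem_centralizer_iff.mp hc) s hs
    rw [← map_mul, ← map_mul, this]

end

end Cfsg.Agent.Lib.Helper4
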