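import Mathlib
import Cfsg.Prelude.Def_Transfer
import Cfsg.Prelude.Def_PLocal
import Cfsg.Prelude.Def_CaseTheorems
import Cfsg.Agent.Lib.Helper4.QuotPPrime
import Cfsg.Agent.Lib.Helper9.PComponent

set_option autoImplicit false
open Cfsg

namespace Cfsg.Agent.Lib.Helper4

universe u

variable {G : Type u} [Group G] [Finite G] {p : ℕ} [Fact p.Prime]

theorem omegaOne_le (H : Subgroup G) : omegaOne p H ≤ H := by
  unfold omegaOne
  rw [Subgroup.closure_le]
  intro x hx
  exact hx.1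

theorem thompsonFactorizable_iff_quotient :
    IsThompsonFactorizable p G ↔ IsThompsonFactorizable p (G ⧸ pPrimeCore p G) := by
  have hK : (Nat.card (pPrimeCore p G)).Coprime p := Cfsg.Agent.Lib.Helper12.pPrimeCore_coprime p
  have hbot : pPrimeCore p (G ⧸ pPrimeCore p G) = ⊥ :=
    Cfsg.Agent.Lib.Helper9.pPrimeCore_quotient_eq_bot p
  have hsurj := QuotientGroup.mk'_surjective (pPrimeCore p G)
  constructor
  · intro h Sb gb
    obtain ⟨S, rfl⟩ := Sylow.mapSurjective_surjective hsurj p Sb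
    obtain ⟨g, rfl⟩ := hsurj gb
    obtain ⟨x, hx, c, hc, n, hn, rfl⟩ := h S g
    refine ⟨1, one_mem _, QuotientGroup.mk' _ c, ?_, QuotientGroup.mk' _ n, ?_, ?_⟩
    · rw [Sylow.coe_mapSurjective, ← center_map_mk' _ hK S S.2,
        ← omegaOne_map_mk' _ hK S S.2 inf_le_left]
      rw [Subgroup.mem_centralizer_iff]
      rintro _ ⟨w, hw, rfl⟩
      have := (Subgroup.mem_centralizer_iff.mp hc) w hw
      rw [← map_mul, ← map_mul, this]
    · rw [Sylow.coe_mapSurjective, thompsonSubgroupOf_map_mk' _ hK S S.2]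
      exact Subgroup.le_normalizer_map _ ⟨n, hn, rfl⟩
    · rw [map_mul, map_mul, QuotientGroup.mk'_apply, (QuotientGroup.eq_one_iff x).mpr hx]
  · intro h S g
    obtain ⟨xb, hxb, cb, hcb, nb, hnb, hg⟩ :=
      h (S.mapSurjective hsurj) (QuotientGroup.mk' _ g)
    rw [hbot, Subgroup.mem_bot] at hxb
    rw [Sylow.coe_mapSurjective] at hcb hnb
    have hΩ : IsPGroup p (omegaOne p ((S : Subgroup G) ⊓ Subgroup.centralizer ((S : Subgroup G) : Set G))) :=
      S.2.to_le ((omegaOne_le _).trans inf_le_left)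
    have hJ : IsPGroup p (thompsonSubgroupOf p (S : Subgroup G)) :=
      S.2.to_le (Subgroup.map_subtype_le _)
    rw [← center_map_mk' _ hK S S.2, ← omegaOne_map_mk' _ hK S S.2 inf_le_left,
      centralizer_map_mk'_eq_of_coprime _ hK _ hΩ] at hcb
    rw [thompsonSubgroupOf_map_mk' _ hK S S.2,
      Cfsg.Agent.Lib.Helper9.normalizer_map_mk'_eq_of_coprime _ hK hJ] at hnb
    obtain ⟨c, hc, rfl⟩ := hcb
    obtain ⟨n, hn, rfl⟩ := hnb
    refine ⟨g * (c * n)⁻¹, ?_, c, hc, n, hn, by group⟩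
    rw [hxb, one_mul, ← map_mul] at hg
    rw [← QuotientGroup.eq_one_iff, QuotientGroup.mk_mul, QuotientGroup.mk_inv]
    rw [QuotientGroup.mk'_apply, QuotientGroup.mk'_apply] at hg
    rw [hg]
    exact mul_inv_cancel _

end Cfsg.Agent.Lib.Helper4
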