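import Mathlib
import Cfsg.Prelude.Def_PLocal
import Cfsg.Agent.Lib.Helper27.ZJ3
import Cfsg.Agent.Lib.Helper27.ZJ4
import Cfsg.Agent.Lib.Helper9.OmegaOdd
import Cfsg.Agent.Lib.Helper4.ElemAb

/-!
# Glauberman's ZJ-theorem for `Z(J_e(S))` (elementary abelian version, no `Ω₁`)

`Z(J_𝔛(S))` itself (not only `Ω_𝔛 Z(J_𝔛(S))`) is normal for the class of elementary abelian
subgroups, under the usual hypotheses.
-/

set_option autoImplicit false
open scoped commutatorElement

namespace Cfsg.Agent.Lib.Helper4.ZJE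

open Cfsg.Agent.Lib.Helper27

section gen
variable {G : Type*} [Group G]

/-- If the commutators of the generators lie in the normal subgroup `W`, so does the derived
subgroup of the group they generate. -/
theorem commutator_closure_le {X : Set G} {W : Subgroup G} [hW : W.Normal]
    (h : ∀ x ∈ X, ∀ y ∈ X, ⁅x, y⁆ ∈ W) :
    ⁅Subgroup.closure X, Subgroup.closure X⁆ ≤ W := by
  have h1 : ∀ x ∈ X, ∀ u ∈ Subgroup.closure X, ⁅u, x⁆ ∈ W := by
    intro x hx u hu
    induction hu using Subgroup.closure_induction with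
    | mem y hy => exact h y hy x hx
    | one => rw [commutatorElement_one_left]; exact W.one_mem
    | mul a b _ _ iha ihb =>
      have e : ⁅a * b, x⁆ = a * ⁅b, x⁆ * a⁻¹ * ⁅a, x⁆ := by
        simp only [commutatorElement_def]; group
      rw [e]
      exact W.mul_mem (hW.conj_mem _ ihb a) iha
    | inv a _ iha =>
      have e : ⁅a⁻¹, x⁆ = a⁻¹ * ⁅a, x⁆⁻¹ * a⁻¹⁻¹ := by
        simp only [commutatorElement_def]; group
      rw [e]
      exact hW.conj_mem _ (W.inv_mem iha) a⁻¹
  rw [Subgroup.commutator_le]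
  intro u hu v hv
  induction hv using Subgroup.closure_induction with
  | mem y hy => exact h1 y hy u hu
  | one => rw [commutatorElement_one_right]; exact W.one_mem
  | mul a b _ _ iha ihb =>
    have e : ⁅u, a * b⁆ = ⁅u, a⁆ * (a * ⁅u, b⁆ * a⁻¹) := by
      simp only [commutatorElement_def]; group
    rw [e]
    exact W.mul_mem iha (hW.conj_mem _ ihb a)
  | inv a _ iha =>
    have e : ⁅u, a⁻¹⁆ = a⁻¹ * ⁅u, a⁆⁻¹ * a⁻¹⁻¹ := by
      simp only [commutatorElement_def]; group
    rw [e]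
    exact hW.conj_mem _ (W.inv_mem iha) a⁻¹

/-- `Z(J_𝔛(T))` inside the ambient group. -/
def zSub (𝔛 : Subgroup G → Prop) (T : Subgroup G) : Subgroup G :=
  jSub 𝔛 T ⊓ Subgroup.centralizer (jSub 𝔛 T : Set G)

variable {𝔛 : Subgroup G → Prop}

theorem zSub_le_jSub (T : Subgroup G) : zSub 𝔛 T ≤ jSub 𝔛 T := inf_le_left

theorem zSub_le (T : Subgroup G) : zSub 𝔛 T ≤ T := (zSub_le_jSub T).trans (jSub_le T)

theorem zSub_comm {T : Subgroup G} {x y : G} (hx : x ∈ zSub 𝔛 T) (hy : y ∈ zSub 𝔛 T) :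
    x * y = y * x :=
  Subgroup.mem_centralizer_iff.mp hy.2 x hx.1

theorem normalizer_le_normalizer_jSub (h : GoodClass 𝔛) (T : Subgroup G) :
    Subgroup.normalizer (T : Set G) ≤ Subgroup.normalizer (jSub 𝔛 T : Set G) := by
  intro g hg
  rw [Subgroup.mem_normalizer_iff_map_conj_eq] at hg ⊢
  have hg' : T.map (MulAut.conj g).toMonoidHom = T := hg
  have := jSub_map h (MulAut.conj g) T
  rw [hg'] at this
  exact this.symm

theorem normalizer_le_normalizer_centralizer (J : Subgroup G) :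
    Subgroup.normalizer (J : Set G) ≤ Subgroup.normalizer (Subgroup.centralizer (J : Set G) : Set G) := by
  apply GlaubRepl.Hyp.le_normalizer_of_conj_mem
  intro n hn x hx
  rw [Subgroup.mem_centralizer_iff] at hx ⊢
  intro j hj
  have hj' : n⁻¹ * j * n⁻¹⁻¹ ∈ J :=
    (Subgroup.mem_normalizer_iff.mp (Subgroup.inv_mem _ hn) j).mp hj
  have := hx _ hj'
  calc j * (n * x * n⁻¹) = n * ((n⁻¹ * j * n⁻¹⁻¹) * x) * n⁻¹ := by group
    _ = n * (x * (n⁻¹ * j * n⁻¹⁻¹)) * n⁻¹ := by rw [this]
    _ = n * x * n⁻¹ * j := by group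

theorem normalizer_jSub_le_normalizer_zSub (T : Subgroup G) :
    Subgroup.normalizer (jSub 𝔛 T : Set G) ≤ Subgroup.normalizer (zSub 𝔛 T : Set G) := by
  intro n hn
  have h2 := normalizer_le_normalizer_centralizer _ hn
  rw [Subgroup.mem_normalizer_iff] at hn h2 ⊢
  intro x
  unfold zSub
  rw [Subgroup.mem_inf, Subgroup.mem_inf, ← hn x, ← h2 x]

theorem normalizer_le_normalizer_zSub (h : GoodClass 𝔛) (T : Subgroup G) :
    Subgroup.normalizer (T : Set G) ≤ Subgroup.normalizer (zSub 𝔛 T : Set G) :=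
  (normalizer_le_normalizer_jSub h T).trans (normalizer_jSub_le_normalizer_zSub T)

end gen

section main

variable {G : Type*} [Group G] [Finite G] {p : ℕ} [Fact p.Prime] {𝔛 : Subgroup G → Prop}

/-- `B ∩ C_G(J_𝔛(S ∩ K))` is normal in `G` for `K = kSub p B`. -/
theorem inf_centralizer_jSub_normal (h𝔛 : GoodClass 𝔛) (S : Sylow p G) (B : Subgroup G)
    [hBn : B.Normal] :
    (B ⊓ Subgroup.centralizer (jSub 𝔛 ((S : Subgroup G) ⊓ kSub p B) : Set G)).Normal := by
  rw [← Subgroup.normalizer_eq_top_iff]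
  have hBN : Subgroup.normalizer (B : Set G) = ⊤ := Subgroup.normalizer_eq_top_iff.mpr hBn
  have h1 : Subgroup.normalizer ((((S : Subgroup G) ⊓ kSub p B : Subgroup G)) : Set G) ≤
      Subgroup.normalizer ((B ⊓ Subgroup.centralizer
        (jSub 𝔛 ((S : Subgroup G) ⊓ kSub p B) : Set G) : Subgroup G) : Set G) := by
    intro n hn
    have hnC := normalizer_le_normalizer_centralizer _ (normalizer_le_normalizer_jSub h𝔛 _ hn)
    have hnB : n ∈ Subgroup.normalizer (B : Set G) := by rw [hBN]; exact Subgroup.mem_top n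
    rw [Subgroup.mem_normalizer_iff] at hnC hnB ⊢
    intro x
    rw [Subgroup.mem_inf, Subgroup.mem_inf, ← hnC x, ← hnB x]
  have h2 : Subgroup.centralizer (B : Set G) ≤
      Subgroup.normalizer ((B ⊓ Subgroup.centralizer
        (jSub 𝔛 ((S : Subgroup G) ⊓ kSub p B) : Set G) : Subgroup G) : Set G) := by
    apply GlaubRepl.Hyp.le_normalizer_of_conj_mem
    intro c hc x hx
    have hcx := (Subgroup.mem_centralizer_iff.mp hc) x hx.1
    have : c * x * c⁻¹ = x := by
      calc c * x * c⁻¹ = (x * c) * c⁻¹ := by rw [hcx]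
        _ = x := by group
    rw [this]; exact hx
  have h3 : (Subgroup.normalizer ((((S : Subgroup G) ⊓ kSub p B : Subgroup G)) : Set G)) ⊔
      Subgroup.centralizer (B : Set G) = ⊤ := by
    have hF := frattini_inf S (kSub p B)
    rw [eq_top_iff, ← hF]
    apply sup_le le_sup_left
    refine (kSub_le_sup S B).trans (sup_le ?_ le_sup_right)
    exact Subgroup.le_normalizer.trans le_sup_left
  rw [eq_top_iff, ← h3]
  exact sup_le h1 h2

/-- For `p` odd: if the normal subgroup `E ≤ B` contains all elements of order dividing `p` of the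
normal `p`-subgroup `B`, then `kSub p E ≤ kSub p B`. -/
theorem kSub_le_kSub (hp : p ≠ 2) (B E : Subgroup G) [hBn : B.Normal] [hEn : E.Normal]
    (hB : IsPGroup p B) (hE : ∀ x ∈ B, x ^ p = 1 → x ∈ E) : kSub p E ≤ kSub p B := by
  have hpp := (Fact.out : p.Prime)
  set π := QuotientGroup.mk' (Subgroup.centralizer (B : Set G)) with hπ
  have hπs : Function.Surjective π := QuotientGroup.mk'_surjective _
  have hN : ((kSub p E).map π).Normal := Subgroup.Normal.map (kSub_normal p E) π hπs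
  have hP : IsPGroup p ((kSub p E).map π) := by
    obtain ⟨a, r, hr, hcard⟩ := Nat.exists_eq_pow_mul_and_not_dvd
      (Nat.card_pos (α := G)).ne' p hpp.ne_one
    rintro ⟨_, ⟨x, hx, rfl⟩⟩
    obtain ⟨n, hn⟩ := (pCore_isPGroup p _) ⟨_, mem_kSub_iff.mp hx⟩
    have hn' : (QuotientGroup.mk (x ^ p ^ n) : G ⧸ Subgroup.centralizer (E : Set G)) = 1 := by
      have := congrArg Subtype.val hn
      simpa using this
    have hyE : x ^ p ^ n ∈ Subgroup.centralizer (E : Set G) := (QuotientGroup.eq_one_iff _).mp hn'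
    set w := (x ^ p ^ n) ^ p ^ a with hw
    have hwE : w ∈ Subgroup.centralizer (E : Set G) := Subgroup.pow_mem _ hyE _
    have hwr : w ^ r = 1 := by
      rw [hw, ← pow_mul, ← hcard]
      exact pow_card_eq_one'
    have hcop : (orderOf w).Coprime p := by
      have h1 : orderOf w ∣ r := orderOf_dvd_of_pow_eq_one hwr
      have h2 : r.Coprime p := ((Nat.Prime.coprime_iff_not_dvd hpp).mpr hr).symm
      exact Nat.Coprime.coprime_dvd_left h1 h2
    have hwB : w ∈ Subgroup.centralizer (B : Set G) := by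
      apply Cfsg.Agent.Lib.Helper9.mem_centralizer_of_centralizes_omega hp hB
      · rw [Subgroup.normalizer_eq_top_iff.mpr hBn]; exact Subgroup.mem_top w
      · exact hcop
      · intro d hd hdp
        exact ((Subgroup.mem_centralizer_iff.mp hwE) d (hE d hd hdp)).symm
    refine ⟨n + a, ?_⟩
    apply Subtype.ext
    rw [Subgroup.coe_pow, Subgroup.coe_one]
    show (π x) ^ p ^ (n + a) = 1
    rw [← map_pow, pow_add, pow_mul]
    exact (QuotientGroup.eq_one_iff _).mpr hwB
  have hle : (kSub p E).map π ≤ Cfsg.pCore p (G ⧸ Subgroup.centralizer (B : Set G)) :=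
    le_pCore hN hP
  intro x hx
  rw [mem_kSub_iff]
  exact hle (Subgroup.mem_map_of_mem π hx)

/-- For `z ∈ Z(J_e(S))` and `t` normalizing `Z(J_e(S))` and commuting with `z ^ p`, the commutator
`⁅z, t⁆` lies in `Ω₁ Z(J_e(S))`. -/
theorem comm_mem_wSub (S : Subgroup G) {z t : G}
    (hz : z ∈ zSub (Cfsg.IsElementaryAbelian p) S)
    (ht : t ∈ Subgroup.normalizer (zSub (Cfsg.IsElementaryAbelian p) S : Set G))
    (hc : z ^ p * t = t * z ^ p) : ⁅z, t⁆ ∈ wSub (Cfsg.IsElementaryAbelian p) S := by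
  have hwZ : t * z * t⁻¹ ∈ zSub (Cfsg.IsElementaryAbelian p) S :=
    (Subgroup.mem_normalizer_iff.mp ht z).mp hz
  have e : ⁅z, t⁆ = z * (t * z * t⁻¹)⁻¹ := by rw [commutatorElement_def]; group
  have hxZ : z * (t * z * t⁻¹)⁻¹ ∈ zSub (Cfsg.IsElementaryAbelian p) S :=
    Subgroup.mul_mem _ hz (Subgroup.inv_mem _ hwZ)
  have hcomm : Commute z (t * z * t⁻¹)⁻¹ := zSub_comm hz (Subgroup.inv_mem _ hwZ)
  have hpow : (z * (t * z * t⁻¹)⁻¹) ^ p = 1 := by
    rw [hcomm.mul_pow, inv_pow, conj_pow]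
    have : t * z ^ p * t⁻¹ = z ^ p := by rw [← hc]; group
    rw [this, mul_inv_cancel]
  rw [e]
  apply Subgroup.subset_closure
  exact ⟨hxZ.1, hxZ.2, Cfsg.Agent.Lib.Helper4.elemAb_zpowers hpow⟩

/-- Key step: all conjugates of elements of `Z(J_e(S))` centralize `J_e(S)`. -/
theorem conj_mem_centralizer_jSub (hp : p ≠ 2) (S : Sylow p G)
    (hc : Subgroup.centralizer (Cfsg.pCore p G : Set G) ≤ Cfsg.pCore p G)
    (hq : QuadHyp p (S : Subgroup G)) :
    ∀ k : ℕ, ∀ z ∈ zSub (Cfsg.IsElementaryAbelian p) (S : Subgroup G), z ^ p ^ k = 1 →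
      ∀ g : G, g * z * g⁻¹ ∈
        Subgroup.centralizer (jSub (Cfsg.IsElementaryAbelian p) (S : Subgroup G) : Set G) := by
  classical
  have h𝔛 : GoodClass (Cfsg.IsElementaryAbelian p : Subgroup G → Prop) := goodClass_ea p
  have GR : ReplHyp (Cfsg.IsElementaryAbelian p) (S : Subgroup G) := replHyp_ea hp _ S.isPGroup'
  haveI hWn : (wSub (Cfsg.IsElementaryAbelian p) (S : Subgroup G)).Normal :=
    wSub_normal' h𝔛 S GR hc hq
  haveI hOn : (Cfsg.pCore p G).Normal := pCore_normal p G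
  have hO : IsPGroup p (Cfsg.pCore p G) := pCore_isPGroup p G
  have hOS : Cfsg.pCore p G ≤ (S : Subgroup G) := hO.le_sylow_of_normal S
  have hSNZ : (S : Subgroup G) ≤
      Subgroup.normalizer (zSub (Cfsg.IsElementaryAbelian p) (S : Subgroup G) : Set G) :=
    Subgroup.le_normalizer.trans (normalizer_le_normalizer_zSub h𝔛 _)
  have hZab : AbSub (zSub (Cfsg.IsElementaryAbelian p) (S : Subgroup G)) :=
    fun x hx y hy => zSub_comm hx hy
  have hZQ : zSub (Cfsg.IsElementaryAbelian p) (S : Subgroup G) ≤ Cfsg.pCore p G := by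
    have h1 : zSub (Cfsg.IsElementaryAbelian p) (S : Subgroup G) ≤ kSub p (Cfsg.pCore p G) := by
      apply hq (Cfsg.pCore p G) hO _ (zSub_le _) hZab
      intro a ha b hb
      have h1 : ⁅b, a⁆ = (b * a * b⁻¹) * a⁻¹ := by simp only [commutatorElement_def]
      rw [h1]
      exact Subgroup.mul_mem _ ((Subgroup.mem_normalizer_iff.mp (hSNZ (hOS hb)) a).mp ha)
        (Subgroup.inv_mem _ ha)
    exact h1.trans (le_pCore (kSub_normal p _) (isPGroup_kSub _ (hO.to_le hc)))
  intro k
  induction k with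
  | zero =>
    intro z _ hz1 g
    rw [pow_zero, pow_one] at hz1
    rw [hz1, mul_one, mul_inv_cancel]
    exact Subgroup.one_mem _
  | succ k ih =>
    intro z₀ hz₀ hz₀k g₀
    set Y : Set G := {z | z ∈ zSub (Cfsg.IsElementaryAbelian p) (S : Subgroup G) ∧
      z ^ p ^ (k + 1) = 1} with hY
    set B : Subgroup G := Subgroup.normalClosure Y with hBdef
    haveI hBn : B.Normal := Subgroup.normalClosure_normal
    have hYB : Y ⊆ B := Subgroup.subset_normalClosure
    have hBQ : B ≤ Cfsg.pCore p G := Subgroup.normalClosure_le_normal (fun z hz => hZQ hz.1)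
    have hBS : B ≤ (S : Subgroup G) := hBQ.trans hOS
    have hB : IsPGroup p B := hO.to_le hBQ
    suffices hBC : B ≤ Subgroup.centralizer
        (jSub (Cfsg.IsElementaryAbelian p) (S : Subgroup G) : Set G) by
      exact hBC (hBn.conj_mem _ (hYB ⟨hz₀, hz₀k⟩) g₀)
    -- commutators of the generators of `B` lie in `W`
    have hgen : ∀ x ∈ Group.conjugatesOfSet Y, ∀ y ∈ Group.conjugatesOfSet Y,
        ⁅x, y⁆ ∈ wSub (Cfsg.IsElementaryAbelian p) (S : Subgroup G) := by
      intro x hx y hy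
      rw [Group.mem_conjugatesOfSet_iff] at hx hy
      obtain ⟨z, hz, hzx⟩ := hx
      obtain ⟨z', hz', hzy⟩ := hy
      obtain ⟨g, rfl⟩ := isConj_iff.mp hzx
      obtain ⟨h, rfl⟩ := isConj_iff.mp hzy
      have e : ⁅g * z * g⁻¹, h * z' * h⁻¹⁆ =
          g * ⁅z, (g⁻¹ * h) * z' * (g⁻¹ * h)⁻¹⁆ * g⁻¹ := by
        simp only [commutatorElement_def]; group
      rw [e]
      apply hWn.conj_mem
      have htB : (g⁻¹ * h) * z' * (g⁻¹ * h)⁻¹ ∈ B := hBn.conj_mem _ (hYB hz') _
      apply comm_mem_wSub (S : Subgroup G) hz.1 (hSNZ (hBS htB))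
      have hzp : z ^ p ∈ zSub (Cfsg.IsElementaryAbelian p) (S : Subgroup G) :=
        Subgroup.pow_mem _ hz.1 _
      have hzpk : (z ^ p) ^ p ^ k = 1 := by rw [← pow_mul, ← pow_succ']; exact hz.2
      have h1 := ih (z ^ p) hzp hzpk (g⁻¹ * h)⁻¹
      have h2 := (Subgroup.mem_centralizer_iff.mp h1) z' (zSub_le_jSub _ hz'.1)
      calc z ^ p * ((g⁻¹ * h) * z' * (g⁻¹ * h)⁻¹)
          = (g⁻¹ * h) * (((g⁻¹ * h)⁻¹ * z ^ p * (g⁻¹ * h)⁻¹⁻¹) * z') * (g⁻¹ * h)⁻¹ := by group
        _ = (g⁻¹ * h) * (z' * ((g⁻¹ * h)⁻¹ * z ^ p * (g⁻¹ * h)⁻¹⁻¹)) * (g⁻¹ * h)⁻¹ := by rw [h2]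
        _ = (g⁻¹ * h) * z' * (g⁻¹ * h)⁻¹ * z ^ p := by group
    have hBB : ⁅B, B⁆ ≤ wSub (Cfsg.IsElementaryAbelian p) (S : Subgroup G) :=
      commutator_closure_le hgen
    have hSB : (S : Subgroup G) ≤ Subgroup.normalizer (B : Set G) := by
      rw [Subgroup.normalizer_eq_top_iff.mpr hBn]; exact le_top
    have hBcent : jSub (Cfsg.IsElementaryAbelian p) ((S : Subgroup G) ⊓ kSub p B) ≤
        jSub (Cfsg.IsElementaryAbelian p) (S : Subgroup G) →
        B ≤ Subgroup.centralizer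
          (jSub (Cfsg.IsElementaryAbelian p) ((S : Subgroup G) ⊓ kSub p B) : Set G) := by
      intro hJ
      haveI := inf_centralizer_jSub_normal h𝔛 S B
      have : B ≤ B ⊓ Subgroup.centralizer
          (jSub (Cfsg.IsElementaryAbelian p) ((S : Subgroup G) ⊓ kSub p B) : Set G) := by
        apply Subgroup.normalClosure_le_normal
        intro z hz
        exact ⟨hYB hz, Subgroup.centralizer_le hJ hz.1.2⟩
      exact this.trans inf_le_right
    have hall : ∀ A ∈ maxIn (Cfsg.IsElementaryAbelian p) (S : Subgroup G), A ≤ kSub p B := by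
      by_contra hcon
      push Not at hcon
      have hfin : {A : Subgroup G | A ∈ maxIn (Cfsg.IsElementaryAbelian p) (S : Subgroup G) ∧
          ¬ A ≤ kSub p B}.Finite := Set.toFinite _
      obtain ⟨A₀, hA₀⟩ := hcon
      obtain ⟨A, hA, hmax⟩ := Set.exists_max_image _
        (fun A : Subgroup G => Nat.card ↥(A ⊓ B)) hfin ⟨A₀, hA₀⟩
      have hAab : AbSub A := h𝔛.ab A hA.1.2.1
      have hnotN : ¬ B ≤ Subgroup.normalizer (A : Set G) := by
        intro hle
        apply hA.2
        apply hq B hB A hA.1.1 hAab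
        intro a ha b hb
        have h1 : ⁅b, a⁆ = (b * a * b⁻¹) * a⁻¹ := by simp only [commutatorElement_def]
        rw [h1]
        exact A.mul_mem ((Subgroup.mem_normalizer_iff.mp (hle hb) a).mp ha) (A.inv_mem ha)
      obtain ⟨A', hA', hlt, hA'N⟩ := GR A hA.1 B hBS hSB
        (hBB.trans (wSub_le_of_mem_maxIn h𝔛 hA.1)) hnotN
      have hA'K : A' ≤ kSub p B := by
        by_contra hnK
        have := hmax A' ⟨hA', hnK⟩
        exact hlt.ne (Subgroup.eq_of_le_of_card_ge hlt.le this)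
      have hA'T : A' ≤ (S : Subgroup G) ⊓ kSub p B := le_inf hA'.1 hA'K
      have hJ : jSub (Cfsg.IsElementaryAbelian p) ((S : Subgroup G) ⊓ kSub p B) ≤
          jSub (Cfsg.IsElementaryAbelian p) (S : Subgroup G) :=
        sSup_le_sSup (maxIn_subset_of_mem hA' hA'T inf_le_left)
      have hBcA' : B ≤ Subgroup.centralizer (A' : Set G) :=
        (hBcent hJ).trans
          (Subgroup.centralizer_le (le_jSub (mem_maxIn_of_le hA' hA'T inf_le_left)))
      have hE : ∀ x ∈ B, x ^ p = 1 → x ∈ A' := by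
        intro x hx hxp
        have hcomm : ∀ a ∈ A', a * x = x * a := fun a ha =>
          (Subgroup.mem_centralizer_iff.mp (hBcA' hx)) a ha
        have h1 : Cfsg.IsElementaryAbelian p (A' ⊔ Subgroup.zpowers x) :=
          h𝔛.join A' x hA'.2.1 (Cfsg.Agent.Lib.Helper4.elemAb_zpowers hxp) hcomm
        have h2 : A' ⊔ Subgroup.zpowers x ≤ (S : Subgroup G) :=
          sup_le hA'.1 ((Subgroup.zpowers_le).mpr (hBS hx))
        have h3 := hA'.2.2 _ h2 h1
        have h4 : A' = A' ⊔ Subgroup.zpowers x := Subgroup.eq_of_le_of_card_ge le_sup_left h3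
        rw [h4]
        exact Subgroup.mem_sup_right (Subgroup.mem_zpowers x)
      haveI hEn : (A' ⊓ B).Normal := by
        refine ⟨fun x hx g => ⟨hE _ (hBn.conj_mem x hx.2 g) ?_, hBn.conj_mem x hx.2 g⟩⟩
        rw [conj_pow, hA'.2.1.2 x hx.1]; group
      have hAE : A ≤ kSub p (A' ⊓ B) := by
        apply hq (A' ⊓ B) (hB.to_le inf_le_right) A hA.1.1 hAab
        intro a ha e he
        have h1 : ⁅e, a⁆ = (e * a * e⁻¹) * a⁻¹ := by simp only [commutatorElement_def]
        rw [h1]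
        exact A.mul_mem ((Subgroup.mem_normalizer_iff.mp (hA'N he.1) a).mp ha) (A.inv_mem ha)
      exact hA.2 (hAE.trans (kSub_le_kSub hp B (A' ⊓ B) hB
        (fun x hx hxp => ⟨hE x hx hxp, hx⟩)))
    have hJeq : jSub (Cfsg.IsElementaryAbelian p) ((S : Subgroup G) ⊓ kSub p B) =
        jSub (Cfsg.IsElementaryAbelian p) (S : Subgroup G) := by
      unfold jSub
      rw [maxIn_eq_of_forall_le h𝔛 (fun A hA => le_inf hA.1 (hall A hA)) inf_le_left]
    have := hBcent (le_of_eq hJeq)
    rwa [hJeq] at this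

/-- **ZJ-theorem, elementary abelian version**: for `p` odd, `Z(J_e(S))` is normal in `G` when
`C_G(O_p(G)) ≤ O_p(G)` and the quadratic hypothesis (a consequence of `p`-stability) holds. -/
theorem zSub_normal (hp : p ≠ 2) (S : Sylow p G)
    (hc : Subgroup.centralizer (Cfsg.pCore p G : Set G) ≤ Cfsg.pCore p G)
    (hq : QuadHyp p (S : Subgroup G)) :
    (zSub (Cfsg.IsElementaryAbelian p) (S : Subgroup G)).Normal := by
  classical
  have h𝔛 : GoodClass (Cfsg.IsElementaryAbelian p : Subgroup G → Prop) := goodClass_ea p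
  have key := conj_mem_centralizer_jSub hp S hc hq
  have hZS : zSub (Cfsg.IsElementaryAbelian p) (S : Subgroup G) ≤ (S : Subgroup G) := zSub_le _
  have hkey : ∀ z ∈ zSub (Cfsg.IsElementaryAbelian p) (S : Subgroup G), ∀ g : G, g * z * g⁻¹ ∈
      Subgroup.centralizer (jSub (Cfsg.IsElementaryAbelian p) (S : Subgroup G) : Set G) := by
    intro z hz g
    obtain ⟨k, hk⟩ := (S.isPGroup'.to_le hZS) ⟨z, hz⟩
    have hk' : z ^ p ^ k = 1 := by
      have := congrArg Subtype.val hk
      simpa using this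
    exact key k z hz hk' g
  set Binf : Subgroup G := Subgroup.normalClosure
    ((zSub (Cfsg.IsElementaryAbelian p) (S : Subgroup G) : Subgroup G) : Set G) with hBinf
  haveI hBn : Binf.Normal := Subgroup.normalClosure_normal
  have hBC : Binf ≤ Subgroup.centralizer
      (jSub (Cfsg.IsElementaryAbelian p) (S : Subgroup G) : Set G) := by
    show Subgroup.closure (Group.conjugatesOfSet _) ≤ _
    rw [Subgroup.closure_le]
    intro x hx
    obtain ⟨z, hz, hzx⟩ := Group.mem_conjugatesOfSet_iff.mp hx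
    obtain ⟨g, rfl⟩ := isConj_iff.mp hzx
    exact hkey z hz g
  set C : Subgroup G := Subgroup.centralizer (Binf : Set G) with hC
  haveI hCn : C.Normal := Subgroup.normal_centralizer
  have hJC : jSub (Cfsg.IsElementaryAbelian p) (S : Subgroup G) ≤ C := by
    intro j hj
    rw [hC, Subgroup.mem_centralizer_iff]
    intro b hb
    exact ((Subgroup.mem_centralizer_iff.mp (hBC hb)) j hj).symm
  have hmaxeq : maxIn (Cfsg.IsElementaryAbelian p) ((S : Subgroup G) ⊓ C) =
      maxIn (Cfsg.IsElementaryAbelian p) (S : Subgroup G) :=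
    maxIn_eq_of_forall_le h𝔛 (fun A hA => le_inf hA.1 ((le_jSub hA).trans hJC)) inf_le_left
  have hZeq : zSub (Cfsg.IsElementaryAbelian p) ((S : Subgroup G) ⊓ C) =
      zSub (Cfsg.IsElementaryAbelian p) (S : Subgroup G) := by
    unfold zSub jSub
    rw [hmaxeq]
  rw [← Subgroup.normalizer_eq_top_iff]
  have h1 : Subgroup.normalizer ((((S : Subgroup G) ⊓ C : Subgroup G)) : Set G) ≤
      Subgroup.normalizer (zSub (Cfsg.IsElementaryAbelian p) (S : Subgroup G) : Set G) := by
    have := normalizer_le_normalizer_zSub h𝔛 ((S : Subgroup G) ⊓ C)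
    rwa [hZeq] at this
  have h2 : C ≤ Subgroup.normalizer
      (zSub (Cfsg.IsElementaryAbelian p) (S : Subgroup G) : Set G) := by
    apply GlaubRepl.Hyp.le_normalizer_of_conj_mem
    intro c hc x hx
    have hxB : x ∈ Binf := Subgroup.subset_normalClosure hx
    have hcx := (Subgroup.mem_centralizer_iff.mp hc) x hxB
    have : c * x * c⁻¹ = x := by
      calc c * x * c⁻¹ = (x * c) * c⁻¹ := by rw [hcx]
        _ = x := by group
    rw [this]; exact hx
  have hF := frattini_inf S C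
  rw [eq_top_iff, ← hF]
  exact sup_le h1 h2

end main

end Cfsg.Agent.Lib.Helper4.ZJE
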