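import Mathlib
import Cfsg.Agent.Lib.Helper4.ZJE
import Cfsg.Agent.Lib.Helper4.QuotPPrime2

/-!
# `Z(J_e(S))`: identification with `Cfsg.centerThompsonOf`, and passage modulo a normal `p'`-subgroup
-/

set_option autoImplicit false
open Cfsg

namespace Cfsg.Agent.Lib.Helper4.ZJE

open Cfsg.Agent.Lib.Helper27

theorem centerThompsonOf_eq_zSub {G : Type*} [Group G] (p : ℕ) (P : Subgroup G) :
    Cfsg.centerThompsonOf p P = zSub (Cfsg.IsElementaryAbelian p) P := by
  unfold Cfsg.centerThompsonOf zSub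
  rw [thompsonSubgroupOf_eq_jSub]

universe u

variable {G : Type u} [Group G] [Finite G] {p : ℕ} [Fact p.Prime]

/-- `Z(J_e(S))` is normal (statement with `Cfsg.centerThompsonOf`). -/
theorem centerThompsonOf_normal (hp : p ≠ 2) (S : Sylow p G)
    (hc : Subgroup.centralizer (Cfsg.pCore p G : Set G) ≤ Cfsg.pCore p G)
    (hq : QuadHyp p (S : Subgroup G)) :
    (Cfsg.centerThompsonOf p (S : Subgroup G)).Normal := by
  rw [centerThompsonOf_eq_zSub]
  exact zSub_normal hp S hc hq

/-- `Z(J_e)` of the image of a `p`-subgroup modulo a normal `p'`-subgroup. -/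
theorem centerThompsonOf_map_mk' (K : Subgroup G) [K.Normal] (hK : (Nat.card K).Coprime p)
    (S : Subgroup G) (hS : IsPGroup p S) :
    Cfsg.centerThompsonOf p (S.map (QuotientGroup.mk' K)) =
      (Cfsg.centerThompsonOf p S).map (QuotientGroup.mk' K) := by
  have hJ : IsPGroup p (thompsonSubgroupOf p S) := hS.to_le (Subgroup.map_subtype_le _)
  unfold Cfsg.centerThompsonOf
  rw [Cfsg.Agent.Lib.Helper4.thompsonSubgroupOf_map_mk' K hK S hS,
    Cfsg.Agent.Lib.Helper4.center_map_mk' K hK (thompsonSubgroupOf p S) hJ]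

end Cfsg.Agent.Lib.Helper4.ZJE
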