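import Mathlib
import Cfsg.Prelude.Def_PLocal
import Cfsg.Prelude.Def_ConjugacyFunctors
import Cfsg.Agent.Lib.Helper4.ZJEQuot
import Cfsg.Agent.Lib.Helper4.StableNC1
import Cfsg.Agent.Lib.Helper4.ElemAb

/-!
# `Z(J_e(Q))` (elementary abelian version) as an isomorphism-invariant `p`-group functor
-/

set_option autoImplicit false
open Cfsg

namespace Cfsg.Agent.Lib.Helper4.ZJEFun

universe u

/-- `Z(J_e(Q))`: the centre of the Thompson subgroup (elementary abelian version). -/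
def zjE (p : ℕ) (Q : Type u) [Group Q] : Subgroup Q :=
  Cfsg.thompsonSubgroup p Q ⊓ Subgroup.centralizer (Cfsg.thompsonSubgroup p Q : Set Q)

theorem mem_inf_centralizer_iff' {Q : Type*} [Group Q] {J : Subgroup Q} {x : Q} :
    x ∈ J ⊓ Subgroup.centralizer (J : Set Q) ↔ x ∈ J ∧ ∀ j ∈ J, j * x = x * j := by
  rw [Subgroup.mem_inf, Subgroup.mem_centralizer_iff]
  rfl

theorem zjE_map_equiv {p : ℕ} {Q R : Type u} [Group Q] [Group R] (φ : Q ≃* R) :
    (zjE p Q).map φ.toMonoidHom = zjE p R := by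
  unfold zjE
  rw [← Cfsg.Agent.Lib.Helper4.thompsonSubgroup_map_mulEquiv (p := p) φ]
  ext y
  rw [Subgroup.mem_map, mem_inf_centralizer_iff']
  constructor
  · rintro ⟨x, hx, rfl⟩
    rw [mem_inf_centralizer_iff'] at hx
    refine ⟨Subgroup.mem_map_of_mem _ hx.1, ?_⟩
    rintro _ ⟨j, hj, rfl⟩
    have := hx.2 j hj
    show φ j * φ x = φ x * φ j
    rw [← map_mul, ← map_mul, this]
  · rintro ⟨⟨x, hxJ, rfl⟩, hyC⟩
    refine ⟨x, ?_, rfl⟩
    rw [mem_inf_centralizer_iff']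
    refine ⟨hxJ, fun j hj => ?_⟩
    have := hyC _ (Subgroup.mem_map_of_mem φ.toMonoidHom hj)
    apply φ.injective
    rw [map_mul, map_mul]
    exact this

theorem zjE_ne_bot {p : ℕ} [Fact p.Prime] (Q : Type u) [Group Q] [Finite Q] (hQ : IsPGroup p Q)
    [Nontrivial Q] : zjE p Q ≠ ⊥ := by
  have hcn := hQ.center_nontrivial
  have hcp : IsPGroup p (Subgroup.center Q) := hQ.to_subgroup _
  have hdvd : p ∣ Nat.card (Subgroup.center Q) := by
    obtain ⟨k, hk⟩ := IsPGroup.iff_card.mp hcp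
    rcases Nat.eq_zero_or_pos k with rfl | hk0
    · exfalso
      rw [pow_zero] at hk
      haveI : Subsingleton (Subgroup.center Q) := (Nat.card_eq_one_iff_unique.mp hk).1
      exact not_subsingleton _ this
    · rw [hk]; exact dvd_pow_self p hk0.ne'
  obtain ⟨x, hx⟩ := exists_prime_orderOf_dvd_card' p hdvd
  have hxp : (x : Q) ^ p = 1 := by
    have : x ^ p = 1 := by rw [← hx]; exact pow_orderOf_eq_one x
    have := congrArg Subtype.val this
    simpa using this
  have hx1 : (x : Q) ≠ 1 := by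
    intro h
    have : x = 1 := Subtype.ext h
    rw [this, orderOf_one] at hx
    exact (Fact.out : p.Prime).one_lt.ne hx
  have hxc : ∀ y : Q, y * (x : Q) = (x : Q) * y := fun y => (Subgroup.mem_center_iff.mp x.2 y)
  obtain ⟨A, hA⟩ := Cfsg.Agent.Lib.Helper4.exists_maxElemAb (G := Q) p
  have h1 : IsElementaryAbelian p (A ⊔ Subgroup.zpowers (x : Q)) :=
    Cfsg.Agent.Lib.Helper4.elemAb_sup hA.1 (Cfsg.Agent.Lib.Helper4.elemAb_zpowers hxp)
      (fun a _ b hb => by
        obtain ⟨k, rfl⟩ := Subgroup.mem_zpowers_iff.mp hb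
        exact ((Commute.zpow_right (hxc a) k)).eq)
  have h3 := hA.2 _ h1
  have h4 : A = A ⊔ Subgroup.zpowers (x : Q) := Subgroup.eq_of_le_of_card_ge le_sup_left h3
  have hxA : (x : Q) ∈ A := by
    rw [h4]; exact Subgroup.mem_sup_right (Subgroup.mem_zpowers _)
  intro hbot
  apply hx1
  have hxZ : (x : Q) ∈ zjE p Q := by
    unfold zjE
    rw [mem_inf_centralizer_iff']
    exact ⟨le_sSup hA hxA, fun j _ => hxc j⟩
  rw [hbot, Subgroup.mem_bot] at hxZ
  exact hxZ

theorem isCharPFunctor_zjE (p : ℕ) [Fact p.Prime] :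
    Cfsg.IsCharPFunctor.{u} p (fun (Q : Type u) [Group Q] => zjE p Q) := by
  refine ⟨?_, ?_⟩
  · intro Q _ _ hQ hnt
    exact zjE_ne_bot Q hQ
  · intro Q R _ _ _ _ φ
    exact zjE_map_equiv φ

/-- The induced functor of `zjE` is `Cfsg.centerThompsonOf`. -/
theorem inducedFunctor_zjE {G : Type u} [Group G] (p : ℕ) (T : Subgroup G) :
    Cfsg.inducedFunctor (fun (Q : Type u) [Group Q] => zjE p Q) T = Cfsg.centerThompsonOf p T := by
  unfold Cfsg.inducedFunctor Cfsg.centerThompsonOf Cfsg.thompsonSubgroupOf zjE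
  ext y
  rw [Subgroup.mem_map, mem_inf_centralizer_iff']
  constructor
  · rintro ⟨x, hx, rfl⟩
    rw [mem_inf_centralizer_iff'] at hx
    refine ⟨Subgroup.mem_map_of_mem _ hx.1, ?_⟩
    rintro _ ⟨j, hj, rfl⟩
    have := hx.2 j hj
    exact congrArg Subtype.val this
  · rintro ⟨⟨x, hxJ, rfl⟩, hyC⟩
    refine ⟨x, ?_, rfl⟩
    rw [mem_inf_centralizer_iff']
    refine ⟨hxJ, fun j hj => ?_⟩
    apply Subtype.ext
    exact hyC _ (Subgroup.mem_map_of_mem _ hj)

end Cfsg.Agent.Lib.Helper4.ZJEFun
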