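import Mathlib
import Cfsg.Agent.Lib.Helper12.LocalZJ
import Cfsg.Agent.Lib.Helper4.ZJEFun

/-!
# `Z(J_e)` controls strong fusion in `SL₂(p)`-free groups (`p` odd)
-/

set_option autoImplicit false
set_option linter.unusedSectionVars false
open Subgroup

namespace Cfsg.Agent.Lib.Helper4.ZJEFusion

universe u

open Cfsg.Agent.Lib.Helper12 Cfsg.Agent.Lib.Helper4.ZJEFun

variable {p : ℕ} [Fact p.Prime]

/-- `Z(J_e)` controls strong fusion in every `SL₂(p)`-free subgroup (`p` odd) -/
theorem controlsStrongFusionIn_zjE_of_sl2_free {G : Type u} [Group G] [Finite G] (hp : p ≠ 2)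
    (N : Subgroup G)
    (hfree : ¬ ∃ (H K : Subgroup G) (_ : (K.subgroupOf H).Normal), H ≤ N ∧
      Nonempty ((↥H ⧸ K.subgroupOf H) ≃* Matrix.SpecialLinearGroup (Fin 2) (ZMod p))) :
    Cfsg.ControlsStrongFusionIn p (fun Q : Subgroup G => Cfsg.centerThompsonOf p Q) N := by
  have hqd : ¬ Cfsg.Involves ↥(Cfsg.qd p) ↥N := fun h => hfree (exists_sl2_section_of_involves_qd N h)
  have h1 := controlsStrongFusionIn_of_normal_in_sections (p := p)
    (fun (Q : Type u) [Group Q] => zjE p Q) (isCharPFunctor_zjE p) N (by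
      intro K' R' hR' hC T'
      rw [inducedFunctor_zjE]
      have hfreeQ : ¬ Cfsg.Involves ↥(Cfsg.qd p) (↥K' ⧸ R'.subgroupOf K') := by
        intro h
        apply hqd
        have h1 : Cfsg.Involves ↥(Cfsg.qd p) ↥K' :=
          Cfsg.Agent.Lib.Helper8.ThTwo.involves_of_quotient (R'.subgroupOf K') h
        exact Cfsg.Agent.Lib.Helper27.involves_of_injective K'.subtype K'.subtype_injective h1
      exact Cfsg.Agent.Lib.Helper4.ZJE.centerThompsonOf_normal hp T' hC
        (Cfsg.Agent.Lib.Helper27.quadHyp_of_stable _ (fun P _ hP =>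
          Cfsg.Agent.Lib.Helper29.Qd.isPStableOn_of_not_involves_qd_pGroup hp hfreeQ P hP)))
  have e : (Cfsg.inducedFunctor (G := G) (fun (Q : Type u) [Group Q] => zjE p Q)) =
      fun Q : Subgroup G => Cfsg.centerThompsonOf p Q :=
    funext (fun T => inducedFunctor_zjE p T)
  rwa [e] at h1

/-- `Z(J_e)` as a conjugacy functor -/
theorem isConjugacyFunctor_zjE (G : Type u) [Group G] [Finite G] :
    Cfsg.IsConjugacyFunctor p (fun Q : Subgroup G => Cfsg.centerThompsonOf p Q) := by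
  have h := isConjugacyFunctor_induced (p := p)
    (fun (Q : Type u) [Group Q] => zjE p Q) (isCharPFunctor_zjE p) G
  have e : (Cfsg.inducedFunctor (G := G) (fun (Q : Type u) [Group Q] => zjE p Q)) =
      fun Q : Subgroup G => Cfsg.centerThompsonOf p Q :=
    funext (fun T => inducedFunctor_zjE p T)
  rwa [e] at h

/-- Elementwise form for a given Sylow `p`-subgroup of an `SL₂(p)`-free group. -/
theorem zjE_controls_fusion {G : Type u} [Group G] [Finite G] (hp : p ≠ 2)
    (hfree : ¬ ∃ (H K : Subgroup G) (_ : (K.subgroupOf H).Normal),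
      Nonempty ((↥H ⧸ K.subgroupOf H) ≃* Matrix.SpecialLinearGroup (Fin 2) (ZMod p)))
    (P : Sylow p G) (A : Set G) (hA : A ⊆ (P : Set G)) (x : G)
    (hAx : (fun a => x * a * x⁻¹) '' A ⊆ (P : Set G)) :
    ∃ y ∈ Subgroup.normalizer (Cfsg.centerThompsonOf p (P : Subgroup G) : Set G),
      ∀ a ∈ A, y * a * y⁻¹ = x * a * x⁻¹ := by
  have h1 := controlsStrongFusionIn_zjE_of_sl2_free (G := G) hp ⊤
    (fun ⟨H, K, hK, _, hiso⟩ => hfree ⟨H, K, hK, hiso⟩)
  have hidx : ¬ p ∣ (P : Subgroup G).relIndex ⊤ := by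
    rw [Subgroup.relIndex_top_right]
    exact P.not_dvd_index
  obtain ⟨y, hy, hya⟩ := controlsStrongFusionIn_sylow
    (fun Q : Subgroup G => Cfsg.centerThompsonOf p Q) (isConjugacyFunctor_zjE G) h1 le_top P.2 hidx
    A x (Subgroup.mem_top x) hA hAx
  exact ⟨y, hy.2, hya⟩

end Cfsg.Agent.Lib.Helper4.ZJEFusion
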