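/-
Helper lemmas (helper4): factorized groups G = HK — index and order formulas.
-/
import Mathlib
import Cfsg.Agent.Lib.Helper17.Card

set_option autoImplicit false

namespace Cfsg.Agent.Lib.Helper4

/-- If `G = HK` then `|G : K| = |H : H ∩ K|`. -/
theorem index_eq_relIndex_of_forall_mul {G : Type*} [Group G] (H K : Subgroup G)
    (hHK : ∀ g : G, ∃ h ∈ H, ∃ k ∈ K, g = h * k) : K.index = K.relIndex H := by
  have h1 : MulAction.stabilizer H (((1 : G) : G ⧸ K)) = K.subgroupOf H := by
    ext ⟨h, hh⟩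
    rw [MulAction.mem_stabilizer_iff, Subgroup.mem_subgroupOf]
    change ((h * 1 : G) : G ⧸ K) = ((1 : G) : G ⧸ K) ↔ h ∈ K
    rw [QuotientGroup.eq]
    simp
  have h2 : MulAction.orbit H (((1 : G) : G ⧸ K)) = Set.univ := by
    apply Set.eq_univ_of_forall
    intro q
    induction q using QuotientGroup.induction_on with
    | H g =>
      obtain ⟨h, hh, k, hk, rfl⟩ := hHK g
      refine ⟨⟨h, hh⟩, ?_⟩
      change ((h * 1 : G) : G ⧸ K) = ((h * k : G) : G ⧸ K)
      rw [QuotientGroup.eq]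
      simp [hk]
  rw [Subgroup.relIndex, ← h1, MulAction.index_stabilizer, h2, Set.ncard_univ, Subgroup.index]

/-- If `G = HK` then `|G| |H ∩ K| = |H| |K|`. -/
theorem card_mul_card_inf_of_forall_mul {G : Type*} [Group G] (H K : Subgroup G)
    (hHK : ∀ g : G, ∃ h ∈ H, ∃ k ∈ K, g = h * k) :
    Nat.card G * Nat.card ↥(H ⊓ K) = Nat.card H * Nat.card K := by
  have h1 := index_eq_relIndex_of_forall_mul H K hHK
  have h2 := Subgroup.card_mul_index K
  have h3 := Cfsg.Agent.Lib.Helper17.card_eq_relIndex_mul_card_inf H K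
  rw [← h2, h3, h1]
  ring

end Cfsg.Agent.Lib.Helper4
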