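import Mathlib
import Cfsg.Agent.Lib.Helper4.Factorization

set_option autoImplicit false

namespace Cfsg.Agent.Lib.Helper4
universe u

/-- Subgroups of coprime index: the index of the intersection is the product. -/
theorem index_inf_of_coprime {G : Type u} [Group G] [Finite G] (H K : Subgroup G)
    (h : Nat.Coprime H.index K.index) : (H ⊓ K).index = H.index * K.index := by
  have h1 : H.index ∣ (H ⊓ K).index := Subgroup.index_dvd_of_le inf_le_left
  have h2 : K.index ∣ (H ⊓ K).index := Subgroup.index_dvd_of_le inf_le_right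
  have h3 : H.index * K.index ∣ (H ⊓ K).index := h.mul_dvd_of_dvd_of_dvd h1 h2
  have h4 : (H ⊓ K).index ≤ H.index * K.index := Subgroup.index_inf_le
  have h5 : (H ⊓ K).index ≠ 0 := Subgroup.index_ne_zero_of_finite
  exact le_antisymm h4 (Nat.le_of_dvd (Nat.pos_of_ne_zero h5) h3)

/-- If `|G : K| = |H : H ∩ K|` then `G = HK`. -/
theorem forall_mul_of_index_eq_relIndex {G : Type u} [Group G] [Finite G] (H K : Subgroup G)
    (h : K.index = K.relIndex H) : ∀ g : G, ∃ h ∈ H, ∃ k ∈ K, g = h * k := by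
  have h1 : MulAction.stabilizer H (((1 : G) : G ⧸ K)) = K.subgroupOf H := by
    ext ⟨h, hh⟩
    rw [MulAction.mem_stabilizer_iff, Subgroup.mem_subgroupOf]
    change ((h * 1 : G) : G ⧸ K) = ((1 : G) : G ⧸ K) ↔ h ∈ K
    rw [QuotientGroup.eq]
    simp
  have h2 : (MulAction.orbit H (((1 : G) : G ⧸ K))).ncard = Nat.card (G ⧸ K) := by
    rw [← MulAction.index_stabilizer, h1, ← Subgroup.relIndex, ← h, Subgroup.index]
  have h3 : MulAction.orbit H (((1 : G) : G ⧸ K)) = Set.univ := by
    apply Set.eq_of_subset_of_ncard_le (Set.subset_univ _) _ (Set.toFinite _)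
    rw [Set.ncard_univ, h2]
  intro g
  have hg : ((g : G) : G ⧸ K) ∈ MulAction.orbit H (((1 : G) : G ⧸ K)) := by rw [h3]; trivial
  obtain ⟨⟨x, hx⟩, hxg⟩ := hg
  have hxg' : ((x * 1 : G) : G ⧸ K) = ((g : G) : G ⧸ K) := hxg
  rw [QuotientGroup.eq, mul_one] at hxg'
  exact ⟨x, hx, x⁻¹ * g, hxg', by group⟩

/-- Subgroups of coprime index factorize the group. -/
theorem forall_mul_of_coprime_index {G : Type u} [Group G] [Finite G] (H K : Subgroup G)
    (h : Nat.Coprime H.index K.index) : ∀ g : G, ∃ h ∈ H, ∃ k ∈ K, g = h * k := by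
  apply forall_mul_of_index_eq_relIndex
  have h1 := index_inf_of_coprime H K h
  have h2 : (H ⊓ K).relIndex H * H.index = (H ⊓ K).index := Subgroup.relIndex_mul_index inf_le_left
  rw [Subgroup.inf_relIndex_left, h1, mul_comm] at h2
  have h3 : H.index ≠ 0 := Subgroup.index_ne_zero_of_finite
  exact (Nat.eq_of_mul_eq_mul_left (Nat.pos_of_ne_zero h3) h2).symm

end Cfsg.Agent.Lib.Helper4
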