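import Mathlib
import Cfsg.Agent.Lib.Helper20.Wielandt
import Cfsg.Agent.Lib.Helper1.SZConj
import Cfsg.Agent.Lib.Helper17.Basic

set_option autoImplicit false

namespace Cfsg.Agent.Lib.Helper4
open Cfsg.Agent.Lib.Helper1
universe u

theorem le_normalizer_sup {G : Type u} [Group G] [Finite G] (M A B : Subgroup G)
    (hA : M ≤ Subgroup.normalizer (A : Set G)) (hB : M ≤ Subgroup.normalizer (B : Set G)) :
    M ≤ Subgroup.normalizer ((A ⊔ B : Subgroup G) : Set G) := by
  intro m hm
  apply Cfsg.Agent.Lib.Helper17.mem_normalizer_of_map_conj_le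
  have h1 : A.map (MulAut.conj m).toMonoidHom = A := Subgroup.mem_normalizer_iff_map_conj_eq.mp (hA hm)
  have h2 : B.map (MulAut.conj m).toMonoidHom = B := Subgroup.mem_normalizer_iff_map_conj_eq.mp (hB hm)
  rw [Subgroup.map_sup, h1, h2]

/-- **Wielandt's join theorem** for finite groups. -/
theorem isSubnormal_sup_aux : ∀ (n : ℕ) (G : Type u) [Group G] [Finite G], Nat.card G = n →
    ∀ A B : Subgroup G, A.IsSubnormal → B.IsSubnormal → (A ⊔ B).IsSubnormal := by
  intro n
  induction n using Nat.strong_induction_on with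
  | _ n ih =>
  intro G _ _ hn A B hA hB
  rcases subsingleton_or_nontrivial G with hs | hnt
  · have : A ⊔ B = ⊤ := Subsingleton.elim _ _
    rw [this]; exact Subgroup.IsSubnormal.top
  obtain ⟨M, hM⟩ := exists_isMinNormal (G := G)
  have hMn : M.Normal := hM.1
  have hlt : Nat.card (G ⧸ M) < n := by
    rw [← hn]; exact card_quotient_lt_of_ne_bot hM.2.1
  have hf := QuotientGroup.mk'_surjective M
  have h1 := ih _ hlt (G ⧸ M) rfl _ _ (hA.map hf) (hB.map hf)
  have h2 := h1.comap (QuotientGroup.mk' M)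
  rw [← Subgroup.map_sup, Subgroup.comap_map_eq, QuotientGroup.ker_mk'] at h2
  have hMA := Cfsg.Agent.Lib.Helper20.minNormal_le_normalizer_of_subnormal G A M hA hM
  have hMB := Cfsg.Agent.Lib.Helper20.minNormal_le_normalizer_of_subnormal G B M hB hM
  have hMAB := le_normalizer_sup M A B hMA hMB
  have hle : A ⊔ B ≤ A ⊔ B ⊔ M := le_sup_left
  have hnorm : ((A ⊔ B).subgroupOf (A ⊔ B ⊔ M)).Normal := by
    rw [Subgroup.normal_subgroupOf_iff_le_normalizer hle]
    exact sup_le Subgroup.le_normalizer hMAB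
  exact Subgroup.IsSubnormal.trans hle hnorm.isSubnormal h2

theorem isSubnormal_sup {G : Type u} [Group G] [Finite G] (A B : Subgroup G)
    (hA : A.IsSubnormal) (hB : B.IsSubnormal) : (A ⊔ B).IsSubnormal :=
  isSubnormal_sup_aux _ G rfl A B hA hB

end Cfsg.Agent.Lib.Helper4
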