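import Mathlib
import Cfsg.Prelude.Def_Transfer
import Cfsg.Agent.Lib.Helper20.Subnormal
import Cfsg.Agent.Lib.Helper4.SubnormalJoin

set_option autoImplicit false
open Cfsg
open scoped commutatorElement

namespace Cfsg.Agent.Lib.Helper4

universe u

theorem conj_inv_eq_of_conj_eq {G : Type u} [Group G] {g w : G} (h : g * w * g⁻¹ = w) :
    g⁻¹ * w * g = w := by
  calc g⁻¹ * w * g = g⁻¹ * (g * w * g⁻¹) * g := by rw [h]
    _ = w := by group

/-- The stabilizer of the chain `V ≥ W ≥ 1` (acting by conjugation). -/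
def chainStab {G : Type u} [Group G] (V W : Subgroup G) : Subgroup G where
  carrier := {g | (∀ w ∈ W, g * w * g⁻¹ = w) ∧ (∀ v ∈ V, g * v * g⁻¹ * v⁻¹ ∈ W)}
  one_mem' := by
    refine ⟨fun w _ => by simp, fun v _ => by simp⟩
  mul_mem' := by
    rintro g h ⟨hg1, hg2⟩ ⟨hh1, hh2⟩
    refine ⟨fun w hw => ?_, fun v hv => ?_⟩
    · have e : g * h * w * (g * h)⁻¹ = g * (h * w * h⁻¹) * g⁻¹ := by group
      rw [e, hh1 w hw, hg1 w hw]
    · have h1 := hh2 v hv
      have h2 := hg1 _ h1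
      have e : g * h * v * (g * h)⁻¹ * v⁻¹
          = (g * (h * v * h⁻¹ * v⁻¹) * g⁻¹) * (g * v * g⁻¹ * v⁻¹) := by group
      rw [e, h2]
      exact W.mul_mem h1 (hg2 v hv)
  inv_mem' := by
    rintro g ⟨hg1, hg2⟩
    refine ⟨fun w hw => ?_, fun v hv => ?_⟩
    · rw [inv_inv]; exact conj_inv_eq_of_conj_eq (hg1 w hw)
    · have h1 := hg2 v hv
      have h2 := conj_inv_eq_of_conj_eq (hg1 _ h1)
      have e : g⁻¹ * v * g⁻¹⁻¹ * v⁻¹ = (g⁻¹ * (g * v * g⁻¹ * v⁻¹) * g)⁻¹ := by group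
      rw [e, h2]
      exact W.inv_mem h1

theorem mem_chainStab_iff {G : Type u} [Group G] (V W : Subgroup G) (g : G) :
    g ∈ chainStab V W ↔ (∀ w ∈ W, g * w * g⁻¹ = w) ∧ (∀ v ∈ V, g * v * g⁻¹ * v⁻¹ ∈ W) := Iff.rfl

/-- elements of the chain stabilizer: `g ^ k` conjugates `v` to `w ^ k * v`. -/
theorem chainStab_pow_conj {G : Type u} [Group G] (V W : Subgroup G) {g : G} (hg : g ∈ chainStab V W)
    {v : G} (hv : v ∈ V) (k : ℕ) :
    g ^ k * v * (g ^ k)⁻¹ = (g * v * g⁻¹ * v⁻¹) ^ k * v := by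
  induction k with
  | zero => simp
  | succ k ih =>
    have hw := hg.2 v hv
    have h1 : g * (g * v * g⁻¹ * v⁻¹) ^ k * g⁻¹ = (g * v * g⁻¹ * v⁻¹) ^ k :=
      hg.1 _ (W.pow_mem hw k)
    calc g ^ (k + 1) * v * (g ^ (k + 1))⁻¹ = g * (g ^ k * v * (g ^ k)⁻¹) * g⁻¹ := by
          rw [pow_succ']; group
      _ = g * ((g * v * g⁻¹ * v⁻¹) ^ k * v) * g⁻¹ := by rw [ih]
      _ = (g * (g * v * g⁻¹ * v⁻¹) ^ k * g⁻¹) * ((g * v * g⁻¹ * v⁻¹) * v) := by group
      _ = (g * v * g⁻¹ * v⁻¹) ^ (k + 1) * v := by rw [h1, pow_succ]; simp only [mul_assoc]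

/-- In a faithful situation, the chain stabilizer has exponent `p`. -/
theorem chainStab_pow_eq_one {G : Type u} [Group G] {p : ℕ} (V W H : Subgroup G)
    (hWp : ∀ w ∈ W, w ^ p = 1)
    (hf : H ⊓ Subgroup.centralizer (V : Set G) = ⊥) {g : G} (hg : g ∈ chainStab V W) (hgH : g ∈ H) :
    g ^ p = 1 := by
  have h1 : g ^ p ∈ H ⊓ Subgroup.centralizer (V : Set G) := by
    refine Subgroup.mem_inf.mpr ⟨H.pow_mem hgH p, ?_⟩
    rw [Subgroup.mem_centralizer_iff]
    intro v hv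
    have h2 := chainStab_pow_conj V W hg hv p
    rw [hWp _ (hg.2 v hv), one_mul] at h2
    calc v * g ^ p = (g ^ p * v * (g ^ p)⁻¹) * g ^ p := by rw [h2]
      _ = g ^ p * v := by group
  rw [hf] at h1
  exact Subgroup.mem_bot.mp h1

/-- `⁅A, B⁆` is normal in `A ⊔ B`. -/
theorem commutator_normal_in_sup {G : Type u} [Group G] (A B : Subgroup G) :
    A ⊔ B ≤ Subgroup.normalizer ((⁅A, B⁆ : Subgroup G) : Set G) := by
  have key : ∀ (H K : Subgroup G), ∀ a ∈ H, ∀ x ∈ ⁅H, K⁆, a * x * a⁻¹ ∈ ⁅H, K⁆ := by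
    intro H K a ha x hx
    have hle : ⁅H, K⁆ ≤ (⁅H, K⁆).comap (MulAut.conj a).toMonoidHom := by
      rw [Subgroup.commutator_le]
      intro b hb u hu
      show (MulAut.conj a) ⁅b, u⁆ ∈ ⁅H, K⁆
      rw [MulAut.conj_apply]
      have h1 : a * ⁅b, u⁆ * a⁻¹ = ⁅a * b, u⁆ * ⁅a, u⁆⁻¹ := by
        simp only [commutatorElement_def]
        group
      rw [h1]
      exact Subgroup.mul_mem _ (Subgroup.commutator_mem_commutator (H.mul_mem ha hb) hu)
        (Subgroup.inv_mem _ (Subgroup.commutator_mem_commutator ha hu))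
    have := hle hx
    rw [Subgroup.mem_comap] at this
    simpa [MulAut.conj_apply] using this
  have key2 : ∀ (H K : Subgroup G), H ≤ Subgroup.normalizer ((⁅H, K⁆ : Subgroup G) : Set G) := by
    intro H K a ha
    rw [Subgroup.mem_normalizer_iff]
    intro x
    constructor
    · intro hx
      exact key H K a ha x hx
    · intro hx
      have := key H K a⁻¹ (H.inv_mem ha) _ hx
      simpa [mul_assoc] using this
  refine sup_le (key2 A B) ?_
  rw [Subgroup.commutator_comm A B]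
  exact key2 B A

end Cfsg.Agent.Lib.Helper4
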