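import Mathlib
import Cfsg.Agent.Lib.Helper4.ChainStab
import Cfsg.Agent.Lib.Helper22.Commutator
import Cfsg.Agent.Lib.Helper1.PrimeIndexCent

set_option autoImplicit false

namespace Cfsg.Agent.Lib.Helper4

open Subgroup
open scoped commutatorElement

universe u

theorem commutatorElement_central_mul {Q : Type u} [Group Q] {z₁ z₂ a b : Q}
    (h1 : z₁ ∈ center Q) (h2 : z₂ ∈ center Q) : ⁅z₁ * a, z₂ * b⁆ = ⁅a, b⁆ := by
  rw [Subgroup.mem_center_iff] at h1 h2
  have e1 : ∀ (z : Q), (∀ g, g * z = z * g) → ∀ x y : Q, ⁅z * x, y⁆ = ⁅x, y⁆ := by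
    intro z hz x y
    have h3 : z * x * y = x * y * z := by rw [hz (x * y), mul_assoc]
    rw [commutatorElement_def, h3, ← hz x, commutatorElement_def]
    group
  rw [e1 z₁ h1, ← commutatorElement_inv, e1 z₂ h2, commutatorElement_inv]

/-- If `C` is central modulo the normal subgroup `M`, then commutators do not see `C` modulo `M`. -/
theorem commutatorElement_mem_of_central_mod {G : Type u} [Group G] (M C : Subgroup G) [M.Normal]
    (hC : ⁅C, (⊤ : Subgroup G)⁆ ≤ M) {c₁ c₂ a b : G} (h1 : c₁ ∈ C) (h2 : c₂ ∈ C) :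
    ⁅a, b⁆⁻¹ * ⁅c₁ * a, c₂ * b⁆ ∈ M := by
  have hcen : ∀ c ∈ C, (QuotientGroup.mk' M c) ∈ center (G ⧸ M) := by
    intro c hc
    rw [Subgroup.mem_center_iff]
    intro q
    obtain ⟨g, rfl⟩ := QuotientGroup.mk'_surjective M q
    rw [← map_mul, ← map_mul, QuotientGroup.mk'_apply, QuotientGroup.mk'_apply, QuotientGroup.eq]
    apply hC
    have : (g * c)⁻¹ * (c * g) = ⁅c⁻¹, g⁻¹⁆ := by
      rw [commutatorElement_def]; group
    rw [this]
    exact Subgroup.commutator_mem_commutator (C.inv_mem hc) (Subgroup.mem_top _)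
  rw [← QuotientGroup.eq]
  have := commutatorElement_central_mul (a := QuotientGroup.mk' M a) (b := QuotientGroup.mk' M b)
    (hcen c₁ h1) (hcen c₂ h2)
  rw [← map_mul, ← map_mul, ← map_commutatorElement, ← map_commutatorElement] at this
  exact this.symm

/-- If `G = HK` with `H` central modulo the normal subgroup `M`, then `G' ≤ KM`. -/
theorem commutator_le_sup_of_central_mod {G : Type u} [Group G] (H K M : Subgroup G) [M.Normal]
    (hHK : IsComplement' H K) (hH : ⁅H, (⊤ : Subgroup G)⁆ ≤ M) : commutator G ≤ K ⊔ M := by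
  rw [commutator_def, Subgroup.commutator_le]
  intro g₁ _ g₂ _
  obtain ⟨⟨h₁, k₁⟩, e₁, -⟩ := hHK.existsUnique g₁
  obtain ⟨⟨h₂, k₂⟩, e₂, -⟩ := hHK.existsUnique g₂
  simp only at e₁ e₂
  have hm := commutatorElement_mem_of_central_mod M H hH (a := k₁) (b := k₂) h₁.2 h₂.2
  rw [e₁, e₂] at hm
  have : ⁅g₁, g₂⁆ = ⁅(k₁ : G), (k₂ : G)⁆ * (⁅(k₁ : G), (k₂ : G)⁆⁻¹ * ⁅g₁, g₂⁆) := by group
  rw [this]
  refine Subgroup.mul_mem_sup ?_ hm
  rw [commutatorElement_def]
  exact K.mul_mem (K.mul_mem (K.mul_mem k₁.2 k₂.2) (K.inv_mem k₁.2)) (K.inv_mem k₂.2)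

/-- A normal Hall subgroup `H ≤ G'` of a solvable group with complement `K` satisfies `H = [H, K]`. -/
theorem eq_commutator_of_normal_le_commutator {G : Type u} [Group G] [Finite G] [Group.IsSolvable G]
    (H K : Subgroup G) [hHn : H.Normal] (hHK : IsComplement' H K) (hle : H ≤ commutator G) :
    H = ⁅H, K⁆ := by
  have hsup : H ⊔ K = ⊤ := hHK.sup_eq_top
  have hN : (⁅H, K⁆ : Subgroup G).Normal := by
    rw [← Subgroup.normalizer_eq_top_iff]
    exact top_le_iff.mp (hsup ▸ commutator_normal_in_sup H K)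
  have hNH : ⁅H, K⁆ ≤ H := Subgroup.commutator_le_left H K
  have hHH : ⁅H, H⁆ ≤ H := Subgroup.commutator_le_left H H
  set M : Subgroup G := ⁅H, H⁆ ⊔ ⁅H, K⁆ with hM
  have hMH : M ≤ H := sup_le hHH hNH
  have hHM : ⁅H, (⊤ : Subgroup G)⁆ ≤ M := by
    rw [← hsup]
    exact Cfsg.Agent.Lib.Helper22.commutator_sup_le_normal H K H M le_sup_left le_sup_right
  -- `H ≤ M`
  have h1 : H ≤ M := by
    intro x hx
    have h2 := commutator_le_sup_of_central_mod H K M hHK hHM (hle hx)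
    rw [Subgroup.mem_sup_of_normal_right] at h2
    obtain ⟨k, hk, m, hm, rfl⟩ := h2
    have hkH : k ∈ H := by
      have : k = k * m * m⁻¹ := by group
      rw [this]
      exact H.mul_mem hx (H.inv_mem (hMH hm))
    have hk1 : k = 1 := by
      have := hHK.disjoint.le_bot (Subgroup.mem_inf.mpr ⟨hkH, hk⟩)
      exact Subgroup.mem_bot.mp this
    rw [hk1, one_mul]
    exact hm
  -- pass to `G ⧸ [H, K]`
  have h3 : H.map (QuotientGroup.mk' ⁅H, K⁆) = ⊥ := by
    by_contra hne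
    have hlt := Group.IsSolvable.commutator_lt_of_ne_bot hne
    apply hlt.ne
    apply le_antisymm hlt.le
    rw [← Subgroup.map_commutator]
    calc H.map (QuotientGroup.mk' ⁅H, K⁆) ≤ M.map (QuotientGroup.mk' ⁅H, K⁆) := Subgroup.map_mono h1
      _ = (⁅H, H⁆).map (QuotientGroup.mk' ⁅H, K⁆) := by
        rw [hM, Subgroup.map_sup, QuotientGroup.map_mk'_self, sup_bot_eq]
  rw [Subgroup.map_eq_bot_iff, QuotientGroup.ker_mk'] at h3
  exact le_antisymm h3 hNH

/-- ... and `C_H(K) ≤ H'`. -/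
theorem inf_centralizer_le_commutator_of_normal_le_commutator {G : Type u} [Group G] [Finite G]
    [Group.IsSolvable G] (H K : Subgroup G) [hHn : H.Normal] (hcop : (Nat.card H).Coprime H.index)
    (hHK : IsComplement' H K) (hle : H ≤ commutator G) :
    H ⊓ centralizer (K : Set G) ≤ ⁅H, H⁆ := by
  have h1 := eq_commutator_of_normal_le_commutator H K hHK hle
  intro c hc
  obtain ⟨hcH, hcK⟩ := Subgroup.mem_inf.mp hc
  have hcop' : (Nat.card K).Coprime (Nat.card H) := by
    rw [← hHK.symm.index_eq_card]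
    exact hcop.symm
  have h2 := Cfsg.Agent.Lib.Helper1.mem_commutator_of_mem_centralizer K H
    (by rw [Subgroup.normalizer_eq_top]; exact le_top) hcop' h1.symm ⟨c, hcH⟩ hcK
  rw [← Subgroup.map_subtype_commutator]
  exact ⟨⟨c, hcH⟩, h2, rfl⟩

end Cfsg.Agent.Lib.Helper4
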