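import Mathlib
import Cfsg.Agent.Lib.Helper4.DerivedHall
import Cfsg.Agent.Lib.Helper12.Cores
import Cfsg.Agent.Lib.Helper9.PComponent
import Cfsg.Agent.Lib.Helper1.Fitting

set_option autoImplicit false

namespace Cfsg.Agent.Lib.Helper4

open Subgroup
open scoped commutatorElement

universe u

/-- If `P / P'` is cyclic then `P' = [P', P]`. -/
theorem commutator_le_commutator_top_of_isCyclic {P : Type u} [Group P]
    [hc : IsCyclic (P ⧸ commutator P)] : commutator P ≤ ⁅commutator P, (⊤ : Subgroup P)⁆ := by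
  obtain ⟨g, hg⟩ := hc.exists_generator
  obtain ⟨x, rfl⟩ := QuotientGroup.mk_surjective g
  have hdec : ∀ a : P, ∃ d ∈ commutator P, ∃ i : ℤ, a = d * x ^ i := by
    intro a
    obtain ⟨i, hi⟩ := Subgroup.mem_zpowers_iff.mp (hg (a : P ⧸ commutator P))
    rw [← QuotientGroup.mk_zpow, QuotientGroup.eq] at hi
    have h1 : a * (x ^ i)⁻¹ ∈ commutator P := (inferInstance : (commutator P).Normal).mem_comm hi
    exact ⟨a * (x ^ i)⁻¹, h1, i, by group⟩
  conv_lhs => rw [commutator_def]
  rw [Subgroup.commutator_le]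
  intro a _ b _
  obtain ⟨d₁, hd₁, i, rfl⟩ := hdec a
  obtain ⟨d₂, hd₂, j, rfl⟩ := hdec b
  have hm := commutatorElement_mem_of_central_mod ⁅commutator P, (⊤ : Subgroup P)⁆ (commutator P)
    le_rfl (a := x ^ i) (b := x ^ j) hd₁ hd₂
  have h1 : ⁅x ^ i, x ^ j⁆ = 1 := by
    rw [commutatorElement_eq_one_iff_commute]
    exact (Commute.refl x).zpow_zpow i j
  rw [h1, inv_one, one_mul] at hm
  exact hm

/-- A nilpotent group with cyclic abelianization is abelian. -/
theorem commutator_eq_bot_of_isCyclic_of_isNilpotent {P : Type u} [Group P]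
    [hc : IsCyclic (P ⧸ commutator P)] [hn : Group.IsNilpotent P] : commutator P = ⊥ := by
  have h0 := commutator_le_commutator_top_of_isCyclic (P := P)
  have h1 : ∀ n, commutator P ≤ Subgroup.lowerCentralSeries (⊤ : Subgroup P) (n + 1) := by
    intro n
    induction n with
    | zero =>
      rw [zero_add, Subgroup.top_lowerCentralSeries_one]
    | succ n ih =>
      rw [Subgroup.lowerCentralSeries_succ]
      exact h0.trans (Subgroup.commutator_mono ih le_rfl)
  obtain ⟨n, hn⟩ := Subgroup.nilpotent_iff_lowerCentralSeries.mp hn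
  rw [eq_bot_iff]
  have h2 : Subgroup.lowerCentralSeries (⊤ : Subgroup P) (n + 1)
      ≤ Subgroup.lowerCentralSeries (⊤ : Subgroup P) n :=
    Subgroup.lowerCentralSeries_antitone _ (Nat.le_succ n)
  exact (h1 n).trans (h2.trans hn.le)

/-- If `G'` is nilpotent of prime index `q`, then `q ∤ |G'|`. -/
theorem coprime_of_nilpotent_commutator_prime_index {G : Type u} [Group G] [Finite G]
    (hn : Group.IsNilpotent (commutator G)) (hq : (commutator G).index.Prime) :
    (Nat.card (commutator G)).Coprime (commutator G).index := by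
  set q := (commutator G).index with hqdef
  haveI : Fact q.Prime := ⟨hq⟩
  set R := Cfsg.pPrimeCore q G with hR
  haveI : R.Normal := Cfsg.Agent.Lib.Helper1.pPrimeCore_normal q G
  have hbot : Cfsg.pPrimeCore q (G ⧸ R) = ⊥ := Cfsg.Agent.Lib.Helper9.pPrimeCore_quotient_eq_bot q
  have hsurj : Function.Surjective (QuotientGroup.mk' R) := QuotientGroup.mk'_surjective R
  have hD : commutator (G ⧸ R) = (commutator G).map (QuotientGroup.mk' R) := by
    rw [commutator_def, commutator_def, Subgroup.map_commutator,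
      ← MonoidHom.range_eq_map, MonoidHom.range_eq_top.mpr hsurj]
  have hn' : Group.IsNilpotent (commutator (G ⧸ R)) := by
    rw [hD]
    exact Group.nilpotent_of_surjective _ (MonoidHom.subgroupMap_surjective (QuotientGroup.mk' R) _)
  -- every prime divisor of `|(G/R)'|` is `q`
  have hprime : ∀ r : ℕ, r.Prime → r ∣ Nat.card (commutator (G ⧸ R)) → r = q := by
    intro r hr hdvd
    by_contra hne
    haveI : Fact r.Prime := ⟨hr⟩
    obtain ⟨Y⟩ : Nonempty (Sylow r (commutator (G ⧸ R))) := inferInstance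
    have h03 := (Group.isNilpotent_of_finite_tfae (G := commutator (G ⧸ R))).out 0 3
    have hYn : (Y : Subgroup (commutator (G ⧸ R))).Normal := h03.mp hn' r inferInstance Y
    haveI hYc : (Y : Subgroup (commutator (G ⧸ R))).Characteristic :=
      Sylow.characteristic_of_normal Y hYn
    have hYG : ((Y : Subgroup (commutator (G ⧸ R))).map (commutator (G ⧸ R)).subtype).Normal :=
      inferInstance
    obtain ⟨k, hk⟩ := Y.2.exists_card_eq
    have hcard : Nat.card ((Y : Subgroup (commutator (G ⧸ R))).map (commutator (G ⧸ R)).subtype)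
        = r ^ k := by
      rw [Subgroup.card_map_of_injective (Subgroup.subtype_injective _)]
      exact hk
    have hle := Cfsg.Agent.Lib.Helper12.le_pPrimeCore q _ hYG
      (by rw [hcard]; exact ((Nat.coprime_primes hr hq).mpr hne).pow_left k)
    rw [hbot, le_bot_iff, Subgroup.map_eq_bot_iff_of_injective _ (Subgroup.subtype_injective _)] at hle
    exact Y.ne_bot_of_dvd_card hdvd hle
  have hpow : Nat.card (commutator (G ⧸ R)) = q ^ _ :=
    Nat.eq_prime_pow_of_unique_prime_dvd Nat.card_pos.ne' (fun {d} hd hdvd => hprime d hd hdvd)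
  have hidx : (commutator (G ⧸ R)).index ∣ q := by
    rw [hD]
    exact Subgroup.index_map_dvd _ hsurj
  -- `G/R` is a `q`-group, hence nilpotent
  have hPG : IsPGroup q (G ⧸ R) := by
    obtain ⟨e, -, he⟩ := (Nat.dvd_prime_pow hq).mp (by simpa using hidx : _ ∣ q ^ 1)
    apply IsPGroup.of_card (n := _ + e)
    rw [← Subgroup.card_mul_index (commutator (G ⧸ R)), hpow, he, pow_add]
  haveI : Group.IsNilpotent (G ⧸ R) := hPG.isNilpotent
  haveI : IsCyclic ((G ⧸ R) ⧸ commutator (G ⧸ R)) := by
    rcases (Nat.dvd_prime hq).mp hidx with h1 | h1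
    · haveI : Subsingleton ((G ⧸ R) ⧸ commutator (G ⧸ R)) :=
        (Nat.card_eq_one_iff_unique.mp
          (show Nat.card ((G ⧸ R) ⧸ commutator (G ⧸ R)) = 1 from h1)).1
      infer_instance
    · exact isCyclic_of_prime_card (p := q)
        (show Nat.card ((G ⧸ R) ⧸ commutator (G ⧸ R)) = q from h1)
  have hbotD := commutator_eq_bot_of_isCyclic_of_isNilpotent (P := G ⧸ R)
  rw [hD, Subgroup.map_eq_bot_iff, QuotientGroup.ker_mk'] at hbotD
  exact Nat.Coprime.coprime_dvd_left (Subgroup.card_dvd_of_le hbotD)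
    (Cfsg.Agent.Lib.Helper12.pPrimeCore_coprime q)

end Cfsg.Agent.Lib.Helper4
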