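import Mathlib
import Cfsg.Prelude.Def_SolvableStructure
import Cfsg.Agent.Lib.Helper4.CoprimeIndex
import Cfsg.Agent.Lib.Helper1.Hall

set_option autoImplicit false
open Pointwise

namespace Cfsg.Agent.Lib.Helper4
open Cfsg Cfsg.Agent.Lib.Helper1
universe u

theorem conj_smul_top {G : Type u} [Group G] (g : G) : MulAut.conj g • (⊤ : Subgroup G) = ⊤ := by
  rw [eq_top_iff]
  intro x _
  rw [Subgroup.mem_pointwise_smul_iff_inv_smul_mem]
  trivial

theorem index_conj_smul {G : Type u} [Group G] [Finite G] (H : Subgroup G) (g : G) :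
    (MulAut.conj g • H : Subgroup G).index = H.index := by
  have h1 := (MulAut.conj g • H : Subgroup G).card_mul_index
  have h2 := H.card_mul_index
  rw [card_conj_smul, ← h2] at h1
  exact Nat.eq_of_mul_eq_mul_left Nat.card_pos h1

/-- intersection of the members `L p` for primes `p < n` -/
def lowerInf {G : Type u} [Group G] (L : Nat.Primes → Subgroup G) : ℕ → Subgroup G
  | 0 => ⊤
  | n + 1 => if h : n.Prime then lowerInf L n ⊓ L ⟨n, h⟩ else lowerInf L n

theorem lowerInf_le {G : Type u} [Group G] (L : Nat.Primes → Subgroup G) :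
    ∀ (n : ℕ) (p : Nat.Primes), p.1 < n → lowerInf L n ≤ L p := by
  intro n
  induction n with
  | zero => intro p hp; omega
  | succ n ih =>
    intro p hp
    rw [lowerInf]
    by_cases hn : n.Prime
    · rw [dif_pos hn]
      by_cases hpn : p.1 = n
      · have : p = ⟨n, hn⟩ := Subtype.ext hpn
        rw [this]; exact inf_le_right
      · exact inf_le_left.trans (ih p (by omega))
    · rw [dif_neg hn]
      have hpn : p.1 ≠ n := fun h => hn (h ▸ p.2)
      exact ih p (by omega)

theorem lowerInf_index {G : Type u} [Group G] [Finite G] (L : Nat.Primes → Subgroup G)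
    (hL : IsComplementSystem L) :
    ∀ (n r : ℕ), r.Prime → r ∣ (lowerInf L n).index → r < n := by
  intro n
  induction n with
  | zero =>
    intro r hr hd
    rw [lowerInf, Subgroup.index_top] at hd
    exact absurd (Nat.dvd_one.mp hd) hr.one_lt.ne'
  | succ n ih =>
    intro r hr hd
    rw [lowerInf] at hd
    by_cases hn : n.Prime
    · rw [dif_pos hn] at hd
      have hcop : Nat.Coprime (lowerInf L n).index (L ⟨n, hn⟩).index := by
        rw [hL ⟨n, hn⟩]
        apply Nat.Coprime.pow_right
        apply Nat.Coprime.symm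
        rw [Nat.Prime.coprime_iff_not_dvd hn]
        intro hnd
        exact absurd (ih n hn hnd) (lt_irrefl n)
      rw [index_inf_of_coprime _ _ hcop, hL ⟨n, hn⟩] at hd
      rcases (Nat.Prime.dvd_mul hr).mp hd with h1 | h1
      · exact (ih r hr h1).trans (Nat.lt_succ_self n)
      · have := (Nat.prime_dvd_prime_iff_eq hr hn).mp (hr.dvd_of_dvd_pow h1)
        change r ∣ n ^ _ at h1
        omega
    · rw [dif_neg hn] at hd
      exact (ih r hr hd).trans (Nat.lt_succ_self n)

theorem complementSystem_conj_aux {G : Type u} [Group G] [Finite G] [Group.IsSolvable G]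
    (K L : Nat.Primes → Subgroup G) (hK : IsComplementSystem K) (hL : IsComplementSystem L) :
    ∀ n : ℕ, ∃ g : G, ∀ p : Nat.Primes, p.1 < n → MulAut.conj g • K p = L p := by
  intro n
  induction n with
  | zero => exact ⟨1, fun p hp => by omega⟩
  | succ n ih =>
    obtain ⟨g₀, hg₀⟩ := ih
    by_cases hn : n.Prime
    · set q : Nat.Primes := ⟨n, hn⟩ with hq
      set a := (Nat.card G).factorization n with ha
      set K' : Subgroup G := MulAut.conj g₀ • K q with hK'
      have hK'idx : K'.index = n ^ a := by rw [hK', index_conj_smul]; exact hK q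
      have hLidx : (L q).index = n ^ a := hL q
      have hcardL : Nat.card (L q) * n ^ a = Nat.card G := by rw [← hLidx]; exact (L q).card_mul_index
      have hcardK' : Nat.card K' = Nat.card (L q) := by
        have h1 := K'.card_mul_index
        rw [hK'idx, ← hcardL] at h1
        exact Nat.eq_of_mul_eq_mul_right (pow_pos hn.pos a) h1
      have hcop : Nat.Coprime (Nat.card (L q)) (n ^ a) := by
        have h1 : Nat.card (L q) = Nat.card G / n ^ a :=
          (Nat.div_eq_of_eq_mul_left (pow_pos hn.pos a) hcardL.symm).symm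
        rw [h1]
        exact (Nat.coprime_ordCompl hn Nat.card_pos.ne').symm.pow_right a
      obtain ⟨x, hx⟩ := hall_conj (Nat.card (L q)) (n ^ a) hcardL.symm hcop K' (L q) hcardK' rfl
      -- factor x = l * d
      have hcop2 : Nat.Coprime (L q).index (lowerInf L n).index := by
        rw [hLidx]
        apply Nat.Coprime.pow_left
        rw [Nat.Prime.coprime_iff_not_dvd hn]
        intro hnd
        exact absurd (lowerInf_index L hL n n hn hnd) (lt_irrefl n)
      obtain ⟨l, hl, d, hd, rfl⟩ := forall_mul_of_coprime_index (L q) (lowerInf L n) hcop2 x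
      rw [map_mul, mul_smul] at hx
      have hd' : MulAut.conj d • K' = L q := by
        have h1 : MulAut.conj d • K' = (MulAut.conj l)⁻¹ • L q := by
          rw [← hx, inv_smul_smul]
        rw [h1, ← map_inv]
        exact Subgroup.conj_smul_eq_self_of_mem ((L q).inv_mem hl)
      refine ⟨d * g₀, fun p hp => ?_⟩
      rw [map_mul, mul_smul]
      by_cases hpn : p.1 = n
      · have : p = q := Subtype.ext hpn
        rw [this]; exact hd'
      · have hp' : p.1 < n := by omega
        rw [hg₀ p hp']
        exact Subgroup.conj_smul_eq_self_of_mem (lowerInf_le L n p hp' hd)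
    · refine ⟨g₀, fun p hp => hg₀ p ?_⟩
      have hpn : p.1 ≠ n := fun h => hn (h ▸ p.2)
      omega

theorem complementSystem_conj {G : Type u} [Group G] [Finite G] [Group.IsSolvable G]
    (K L : Nat.Primes → Subgroup G) (hK : IsComplementSystem K) (hL : IsComplementSystem L) :
    ∃ g : G, ∀ p : Nat.Primes, MulAut.conj g • K p = L p := by
  obtain ⟨g, hg⟩ := complementSystem_conj_aux K L hK hL (Nat.card G + 1)
  refine ⟨g, fun p => ?_⟩
  by_cases hp : p.1 < Nat.card G + 1
  · exact hg p hp
  · have hnd : ¬ p.1 ∣ Nat.card G := fun hd => hp (Nat.lt_succ_of_le (Nat.le_of_dvd Nat.card_pos hd))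
    have h0 : (Nat.card G).factorization p = 0 := Nat.factorization_eq_zero_of_not_dvd hnd
    have hKp : K p = ⊤ := by
      rw [← Subgroup.index_eq_one, hK p, h0, pow_zero]
    have hLp : L p = ⊤ := by
      rw [← Subgroup.index_eq_one, hL p, h0, pow_zero]
    rw [hKp, hLp, conj_smul_top]

end Cfsg.Agent.Lib.Helper4
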