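import Mathlib
import Cfsg.Prelude.Def_SolvableStructure
import Cfsg.Agent.Lib.Helper4.HallSystem
import Cfsg.Agent.Lib.Helper4.Basic
import Cfsg.Agent.Lib.Helper1.Transport

set_option autoImplicit false
open Pointwise

namespace Cfsg.Agent.Lib.Helper4
open Cfsg Cfsg.Agent.Lib.Helper1
universe u

theorem mem_normalizer_iff_conj_smul {G : Type u} [Group G] (H : Subgroup G) (g : G) :
    g ∈ Subgroup.normalizer (H : Set G) ↔ MulAut.conj g • H = H := by
  rw [Subgroup.mem_normalizer_iff_map_conj_eq]
  rfl

theorem relIndex_dvd_index_of_normal_right {G : Type u} [Group G] [Finite G]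
    (T N : Subgroup G) [hN : N.Normal] : T.relIndex N ∣ T.index := by
  have h1 : T ≤ Subgroup.normalizer (N : Set G) := by
    rw [Subgroup.normalizer_eq_top_iff.mpr hN]; exact le_top
  rw [← relIndex_sup_left_of_le_normalizer T N h1]
  exact Subgroup.relIndex_dvd_index_of_le le_sup_left

/-- the order of a member of a complement system is prime to `p` -/
theorem complementSystem_card_coprime {G : Type u} [Group G] [Finite G]
    (K : Nat.Primes → Subgroup G) (hK : IsComplementSystem K) (p : Nat.Primes) :
    ¬ (p : ℕ) ∣ Nat.card (K p) := by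
  have h1 := (K p).card_mul_index
  rw [hK p] at h1
  have h2 : Nat.card (K p) = Nat.card G / (p : ℕ) ^ (Nat.card G).factorization p :=
    (Nat.div_eq_of_eq_mul_left (pow_pos p.2.pos _) h1.symm).symm
  rw [h2]
  exact Nat.not_dvd_ordCompl p.2 Nat.card_pos.ne'

/-- if `H` has `p`-power index and order prime to `p`, its index is the full `p`-part. -/
theorem index_eq_pow_factorization {G : Type u} [Group G] [Finite G] (H : Subgroup G)
    (p : ℕ) (hp : p.Prime) (j : ℕ) (hj : H.index = p ^ j) (hH : ¬ p ∣ Nat.card H) :
    H.index = p ^ (Nat.card G).factorization p := by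
  have h1 := H.card_mul_index
  rw [hj] at h1
  rw [hj, ← h1, Nat.factorization_mul Nat.card_pos.ne' (pow_pos hp.pos j).ne']
  simp only [Finsupp.coe_add, Pi.add_apply]
  rw [Nat.factorization_eq_zero_of_not_dvd hH, hp.factorization_pow]
  simp

theorem complementSystem_conj_normal_aux {G : Type u} [Group G] [Finite G] [Group.IsSolvable G]
    (N : Subgroup G) [N.Normal]
    (K L : Nat.Primes → Subgroup G) (hK : IsComplementSystem K) (hL : IsComplementSystem L)
    (hKL : ∀ p, K p ⊔ N = L p ⊔ N) :
    ∀ n : ℕ, ∃ g ∈ N, ∀ p : Nat.Primes, p.1 < n → MulAut.conj g • K p = L p := by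
  intro n
  induction n with
  | zero => exact ⟨1, N.one_mem, fun p hp => by omega⟩
  | succ n ih =>
    obtain ⟨g₀, hg₀N, hg₀⟩ := ih
    by_cases hn : n.Prime
    · set q : Nat.Primes := ⟨n, hn⟩ with hq
      set a := (Nat.card G).factorization n with ha
      set K' : Subgroup G := MulAut.conj g₀ • K q with hK'
      have hK'idx : K'.index = n ^ a := by rw [hK', index_conj_smul]; exact hK q
      have hLidx : (L q).index = n ^ a := hL q
      have hcardL : Nat.card (L q) * n ^ a = Nat.card G := by
        rw [← hLidx]; exact (L q).card_mul_index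
      have hcardK' : Nat.card K' = Nat.card (L q) := by
        have h1 := K'.card_mul_index
        rw [hK'idx, ← hcardL] at h1
        exact Nat.eq_of_mul_eq_mul_right (pow_pos hn.pos a) h1
      have hLnd : ¬ n ∣ Nat.card (L q) := complementSystem_card_coprime L hL q
      set H : Subgroup G := L q ⊔ N with hH
      have hLH : L q ≤ H := le_sup_left
      have hNH : N ≤ H := le_sup_right
      have hK'H : K' ≤ H := by
        have h1 : K' ≤ MulAut.conj g₀ • (K q ⊔ N) := conj_smul_le_conj_smul le_sup_left g₀
        rw [Subgroup.conj_smul_eq_self_of_mem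
          ((le_sup_right : N ≤ K q ⊔ N) hg₀N), hKL q] at h1
        exact h1
      -- Hall conjugacy in H
      have hrel : (L q).relIndex H ∣ n ^ a := by
        rw [← hLidx]; exact Subgroup.relIndex_dvd_index_of_le hLH
      obtain ⟨j, _, hj⟩ := (Nat.dvd_prime_pow hn).mp hrel
      have hcH : Nat.card H = Nat.card (L q) * n ^ j := by
        rw [← hj, card_mul_relIndex hLH] 
      have hc1 : Nat.card ((L q).subgroupOf H) = Nat.card (L q) :=
        Nat.card_congr (Subgroup.subgroupOfEquivOfLe hLH).toEquiv
      have hc2 : Nat.card (K'.subgroupOf H) = Nat.card (L q) := by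
        rw [← hcardK']
        exact Nat.card_congr (Subgroup.subgroupOfEquivOfLe hK'H).toEquiv
      have hcop : Nat.Coprime (Nat.card (L q)) (n ^ j) :=
        ((Nat.Prime.coprime_iff_not_dvd hn).mpr hLnd).symm.pow_right j
      obtain ⟨x, hx⟩ := hall_conj (G := H) (Nat.card (L q)) (n ^ j) hcH hcop
        (K'.subgroupOf H) ((L q).subgroupOf H) hc2 hc1
      have hx' : MulAut.conj (x : G) • K' = L q := conj_eq_of_subgroupOf_conj_eq hK'H hLH x hx
      -- x = l * m with l ∈ L q, m ∈ N
      obtain ⟨l, hl, m, hm, hlm⟩ := Subgroup.mem_sup_of_normal_right.mp x.2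
      rw [← hlm, map_mul, mul_smul] at hx'
      have hm' : MulAut.conj m • K' = L q := by
        have h1 : MulAut.conj m • K' = (MulAut.conj l)⁻¹ • L q := by
          rw [← hx', inv_smul_smul]
        rw [h1, ← map_inv]
        exact Subgroup.conj_smul_eq_self_of_mem ((L q).inv_mem hl)
      -- factor m inside N
      have hcop2 : Nat.Coprime ((L q).subgroupOf N).index ((lowerInf L n).subgroupOf N).index := by
        have h1 : ((L q).subgroupOf N).index ∣ n ^ a := by
          rw [← hLidx]; exact relIndex_dvd_index_of_normal_right (L q) N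
        have h2 : ((lowerInf L n).subgroupOf N).index ∣ (lowerInf L n).index :=
          relIndex_dvd_index_of_normal_right (lowerInf L n) N
        obtain ⟨i, _, hi⟩ := (Nat.dvd_prime_pow hn).mp h1
        rw [hi]
        apply Nat.Coprime.pow_left
        rw [Nat.Prime.coprime_iff_not_dvd hn]
        intro hnd
        exact absurd (lowerInf_index L hL n n hn (hnd.trans h2)) (lt_irrefl n)
      obtain ⟨l', hl', d, hd, hmd⟩ := forall_mul_of_coprime_index _ _ hcop2 (⟨m, hm⟩ : N)
      rw [Subgroup.mem_subgroupOf] at hl' hd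
      have hmd' : m = (l' : G) * (d : G) := by
        have := congrArg (Subtype.val) hmd
        simpa using this
      rw [hmd', map_mul, mul_smul] at hm'
      have hd' : MulAut.conj (d : G) • K' = L q := by
        have h1 : MulAut.conj (d : G) • K' = (MulAut.conj (l' : G))⁻¹ • L q := by
          rw [← hm', inv_smul_smul]
        rw [h1, ← map_inv]
        exact Subgroup.conj_smul_eq_self_of_mem ((L q).inv_mem hl')
      refine ⟨(d : G) * g₀, N.mul_mem d.2 hg₀N, fun p hp => ?_⟩
      rw [map_mul, mul_smul]
      by_cases hpn : p.1 = n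
      · have : p = q := Subtype.ext hpn
        rw [this]; exact hd'
      · have hp' : p.1 < n := by omega
        rw [hg₀ p hp']
        exact Subgroup.conj_smul_eq_self_of_mem (lowerInf_le L n p hp' hd)
    · refine ⟨g₀, hg₀N, fun p hp => hg₀ p ?_⟩
      have hpn : p.1 ≠ n := fun h => hn (h ▸ p.2)
      omega

theorem complementSystem_conj_normal {G : Type u} [Group G] [Finite G] [Group.IsSolvable G]
    (N : Subgroup G) [N.Normal]
    (K L : Nat.Primes → Subgroup G) (hK : IsComplementSystem K) (hL : IsComplementSystem L)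
    (hKL : ∀ p, K p ⊔ N = L p ⊔ N) :
    ∃ g ∈ N, ∀ p : Nat.Primes, MulAut.conj g • K p = L p := by
  obtain ⟨g, hgN, hg⟩ := complementSystem_conj_normal_aux N K L hK hL hKL (Nat.card G + 1)
  refine ⟨g, hgN, fun p => ?_⟩
  by_cases hp : p.1 < Nat.card G + 1
  · exact hg p hp
  · have hnd : ¬ p.1 ∣ Nat.card G := fun hd => hp (Nat.lt_succ_of_le (Nat.le_of_dvd Nat.card_pos hd))
    have h0 : (Nat.card G).factorization p = 0 := Nat.factorization_eq_zero_of_not_dvd hnd
    have hKp : K p = ⊤ := by
      rw [← Subgroup.index_eq_one, hK p, h0, pow_zero]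
    have hLp : L p = ⊤ := by
      rw [← Subgroup.index_eq_one, hL p, h0, pow_zero]
    rw [hKp, hLp, conj_smul_top]

theorem complementSystem_conj_smul {G : Type u} [Group G] [Finite G]
    (K : Nat.Primes → Subgroup G) (hK : IsComplementSystem K) (x : G) :
    IsComplementSystem (fun p => MulAut.conj x • K p) := by
  intro p
  rw [index_conj_smul]; exact hK p

/-- images of a complement system in a quotient form a complement system -/
theorem complementSystem_map {G : Type u} [Group G] [Finite G]
    (K : Nat.Primes → Subgroup G) (hK : IsComplementSystem K) (N : Subgroup G) [N.Normal] :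
    IsComplementSystem (fun p => (K p).map (QuotientGroup.mk' N)) := by
  intro p
  have h1 : ((K p).map (QuotientGroup.mk' N)).index ∣ (K p).index :=
    Subgroup.index_map_dvd (K p) (QuotientGroup.mk'_surjective N)
  rw [hK p] at h1
  obtain ⟨j, _, hj⟩ := (Nat.dvd_prime_pow p.2).mp h1
  apply index_eq_pow_factorization _ p p.2 j hj
  intro hd
  apply complementSystem_card_coprime K hK p
  exact hd.trans (Subgroup.card_map_dvd (K p) (QuotientGroup.mk' N))

theorem systemNormalizer_map {G : Type u} [Group G] [Finite G] [Group.IsSolvable G]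
    (K : Nat.Primes → Subgroup G) (hK : IsComplementSystem K) (N : Subgroup G) [N.Normal] :
    systemNormalizer (fun p => (K p).map (QuotientGroup.mk' N)) =
      (systemNormalizer K).map (QuotientGroup.mk' N) := by
  apply le_antisymm
  · intro y hy
    obtain ⟨x, rfl⟩ := QuotientGroup.mk'_surjective N y
    have hy' : ∀ p : Nat.Primes, (MulAut.conj x • K p) ⊔ N = K p ⊔ N := by
      intro p
      have h1 : QuotientGroup.mk' N x ∈ Subgroup.normalizer
          (((K p).map (QuotientGroup.mk' N) : Subgroup (G ⧸ N)) : Set (G ⧸ N)) :=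
        (iInf_le (fun p : Nat.Primes => Subgroup.normalizer
          (((K p).map (QuotientGroup.mk' N) : Subgroup (G ⧸ N)) : Set (G ⧸ N))) p) hy
      rw [mem_normalizer_iff_conj_smul, ← map_conj_smul] at h1
      have h2 := congrArg (Subgroup.comap (QuotientGroup.mk' N)) h1
      rwa [Subgroup.comap_map_eq, Subgroup.comap_map_eq, QuotientGroup.ker_mk'] at h2
    obtain ⟨g, hgN, hg⟩ := complementSystem_conj_normal N K (fun p => MulAut.conj x • K p) hK
      (complementSystem_conj_smul K hK x) (fun p => (hy' p).symm)
    refine ⟨g⁻¹ * x, ?_, ?_⟩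
    · rw [SetLike.mem_coe]
      apply (Subgroup.mem_iInf).mpr
      intro p
      rw [mem_normalizer_iff_conj_smul, map_mul, mul_smul, ← hg p, map_inv, inv_smul_smul]
    · rw [map_mul, map_inv]
      have : QuotientGroup.mk' N g = 1 := (QuotientGroup.eq_one_iff g).mpr hgN
      rw [this, inv_one, one_mul]
  · rw [Subgroup.map_le_iff_le_comap]
    intro x hx
    rw [Subgroup.mem_comap]
    apply (Subgroup.mem_iInf).mpr
    intro p
    have h1 : x ∈ Subgroup.normalizer (K p : Set G) :=
      (iInf_le (fun p : Nat.Primes => Subgroup.normalizer (K p : Set G)) p) hx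
    exact Subgroup.le_normalizer_map (QuotientGroup.mk' N) (Subgroup.mem_map_of_mem _ h1)

end Cfsg.Agent.Lib.Helper4
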