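import Mathlib
import Cfsg.Prelude.Def_Transfer
import Cfsg.Agent.Lib.Helper4.Basic
import Cfsg.Agent.Lib.Helper17.Basic
import Cfsg.Agent.Lib.Helper18.Basic

set_option autoImplicit false

namespace Cfsg.Agent.Lib.Helper4
open Cfsg
universe u

/-- A minimal normal subgroup which is a `p`-group is abelian. -/
theorem minNormal_pgroup_comm {G : Type u} [Group G] [Finite G] {p : ℕ} [Fact p.Prime]
    (N : Subgroup G) (hNn : N.Normal) (hN1 : N ≠ ⊥)
    (hmin : ∀ K : Subgroup G, K.Normal → K ≤ N → K = ⊥ ∨ K = N) (hp : IsPGroup p N) :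
    ∀ x ∈ N, ∀ y ∈ N, x * y = y * x := by
  obtain ⟨w, hwN, hw1, hwc⟩ := Cfsg.Agent.Lib.Helper18.exists_ne_one_fixed_of_pgroup_normalizes
    N N hp hp hN1 Subgroup.le_normalizer
  have hZn : (N ⊓ Subgroup.centralizer (N : Set G)).Normal := by
    have := Subgroup.normal_centralizer (H := N)
    infer_instance
  have hwZ : w ∈ N ⊓ Subgroup.centralizer (N : Set G) := by
    rw [Subgroup.mem_inf, Subgroup.mem_centralizer_iff]
    exact ⟨hwN, fun c hc => hwc c hc⟩
  rcases hmin _ hZn inf_le_left with h | h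
  · rw [h, Subgroup.mem_bot] at hwZ
    exact absurd hwZ hw1
  · intro x hx y hy
    have hy' : y ∈ N ⊓ Subgroup.centralizer (N : Set G) := by rw [h]; exact hy
    have := (Subgroup.mem_inf.mp hy').2
    rw [Subgroup.mem_centralizer_iff] at this
    exact this x hx

/-- A minimal normal subgroup which is a `p`-group is elementary abelian. -/
theorem minNormal_pgroup_elemAb {G : Type u} [Group G] [Finite G] {p : ℕ} [Fact p.Prime]
    (N : Subgroup G) (hNn : N.Normal) (hN1 : N ≠ ⊥)
    (hmin : ∀ K : Subgroup G, K.Normal → K ≤ N → K = ⊥ ∨ K = N) (hpN : IsPGroup p N) :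
    IsElementaryAbelian p N := by
  classical
  have hp : p.Prime := Fact.out
  have hcomm := minNormal_pgroup_comm N hNn hN1 hmin hpN
  refine ⟨⟨⟨fun a b => Subtype.ext (hcomm a a.2 b b.2)⟩⟩, ?_⟩
  have hpdvd : p ∣ Nat.card N := by
    rcases hpN.card_eq_or_dvd with h | h
    · exact absurd (Subgroup.card_eq_one.mp h) hN1
    · exact h
  let Ω : Subgroup G :=
    { carrier := {x | x ∈ N ∧ x ^ p = 1}
      one_mem' := ⟨N.one_mem, one_pow p⟩
      mul_mem' := by
        rintro a b ⟨ha, hap⟩ ⟨hb, hbp⟩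
        refine ⟨N.mul_mem ha hb, ?_⟩
        have hab : Commute a b := hcomm a ha b hb
        rw [hab.mul_pow, hap, hbp, one_mul]
      inv_mem' := by
        rintro a ⟨ha, hap⟩
        exact ⟨N.inv_mem ha, by rw [inv_pow, hap, inv_one]⟩ }
  have hΩN : Ω ≤ N := fun x hx => hx.1
  have hΩn : Ω.Normal := by
    constructor
    rintro x ⟨hx, hxp⟩ g
    refine ⟨hNn.conj_mem x hx g, ?_⟩
    rw [conj_pow, hxp, mul_one, mul_inv_cancel]
  have hΩ1 : Ω ≠ ⊥ := by
    obtain ⟨x, hx⟩ := exists_prime_orderOf_dvd_card' (G := N) p hpdvd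
    intro h
    have hxΩ : (x : G) ∈ Ω := by
      refine ⟨x.2, ?_⟩
      have : x ^ p = 1 := by rw [← hx]; exact pow_orderOf_eq_one x
      exact_mod_cast congrArg Subtype.val this
    rw [h, Subgroup.mem_bot] at hxΩ
    have hx1 : x = 1 := Subtype.ext hxΩ
    rw [hx1, orderOf_one] at hx
    exact hp.one_lt.ne hx
  rcases hmin Ω hΩn hΩN with h | h
  · exact absurd h hΩ1
  · intro x hx
    rw [← h] at hx
    exact hx.2

section CoreFree

variable {G : Type u} [Group G] [Finite G] (U : Subgroup G) (hU : IsCoatom U)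
  (hcore : U.normalCore = ⊥)

omit [Finite G] in
include hU hcore in
theorem coreFree_sup_eq_top (N : Subgroup G) (hNn : N.Normal) (hN1 : N ≠ ⊥) : U ⊔ N = ⊤ := by
  apply hU.2
  refine lt_of_le_of_ne le_sup_left (fun h => hN1 ?_)
  have h1 : N ≤ U := by rw [h]; exact le_sup_right
  have h2 : N ≤ U.normalCore := Subgroup.normal_le_normalCore.mpr h1
  rwa [hcore, le_bot_iff] at h2

include hU hcore in
/-- A subgroup of `U` normalized by `U` and by a nontrivial normal subgroup is trivial. -/
theorem coreFree_eq_bot (N : Subgroup G) (hNn : N.Normal) (hN1 : N ≠ ⊥) (D : Subgroup G)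
    (hDU : D ≤ U) (h1 : U ≤ Subgroup.normalizer (D : Set G))
    (h2 : N ≤ Subgroup.normalizer (D : Set G)) : D = ⊥ := by
  have hDn : D.Normal := by
    rw [← Subgroup.normalizer_eq_top_iff, eq_top_iff, ← coreFree_sup_eq_top U hU hcore N hNn hN1]
    exact sup_le h1 h2
  have : D ≤ U.normalCore := Subgroup.normal_le_normalCore.mpr hDU
  rwa [hcore, le_bot_iff] at this

include hU hcore in
theorem coreFree_inf_abelian (N : Subgroup G) (hNn : N.Normal) (hN1 : N ≠ ⊥)
    (hNc : ∀ x ∈ N, ∀ y ∈ N, x * y = y * x) : U ⊓ N = ⊥ := by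
  apply coreFree_eq_bot U hU hcore N hNn hN1 _ inf_le_left
  · intro u hu
    apply Cfsg.Agent.Lib.Helper17.mem_normalizer_of_forall_conj_mem
    intro x hx
    exact ⟨U.mul_mem (U.mul_mem hu hx.1) (U.inv_mem hu), hNn.conj_mem x hx.2 u⟩
  · intro n hn
    apply Cfsg.Agent.Lib.Helper17.mem_normalizer_of_forall_conj_mem
    intro x hx
    rw [hNc n hn x hx.2, mul_inv_cancel_right]
    exact hx

include hU hcore in
theorem coreFree_isComplement' (N : Subgroup G) (hNn : N.Normal) (hN1 : N ≠ ⊥)
    (hNc : ∀ x ∈ N, ∀ y ∈ N, x * y = y * x) : Subgroup.IsComplement' N U := by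
  have hinf := coreFree_inf_abelian U hU hcore N hNn hN1 hNc
  have hsup := coreFree_sup_eq_top U hU hcore N hNn hN1
  have h2 := card_sup_mul_card_inf U N (by rw [Subgroup.normalizer_eq_top]; exact le_top)
  rw [hsup, hinf, Subgroup.card_bot, mul_one, Subgroup.card_top] at h2
  apply Subgroup.isComplement'_of_card_mul_and_disjoint
  · rw [h2, mul_comm]
  · rw [disjoint_iff, inf_comm]; exact hinf

include hU hcore in
theorem coreFree_centralizer_abelian (N : Subgroup G) (hNn : N.Normal) (hN1 : N ≠ ⊥)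
    (hNc : ∀ x ∈ N, ∀ y ∈ N, x * y = y * x) : Subgroup.centralizer (N : Set G) = N := by
  have hCn : (Subgroup.centralizer (N : Set G)).Normal := Subgroup.normal_centralizer
  have hD : Subgroup.centralizer (N : Set G) ⊓ U = ⊥ := by
    apply coreFree_eq_bot U hU hcore N hNn hN1 _ inf_le_right
    · intro u hu
      apply Cfsg.Agent.Lib.Helper17.mem_normalizer_of_forall_conj_mem
      intro x hx
      exact ⟨hCn.conj_mem x hx.1 u, U.mul_mem (U.mul_mem hu hx.2) (U.inv_mem hu)⟩
    · intro n hn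
      apply Cfsg.Agent.Lib.Helper17.mem_normalizer_of_forall_conj_mem
      intro x hx
      have := (Subgroup.mem_inf.mp hx).1
      rw [Subgroup.mem_centralizer_iff] at this
      rw [this n hn, mul_inv_cancel_right]
      exact hx
  apply le_antisymm
  · intro x hx
    have hx' : x ∈ ((N ⊔ U : Subgroup G) : Set G) := by
      rw [sup_comm, coreFree_sup_eq_top U hU hcore N hNn hN1]; trivial
    rw [Subgroup.normal_mul] at hx'
    obtain ⟨n, hn, u, hu, rfl⟩ := hx'
    have hnC : n ∈ Subgroup.centralizer (N : Set G) := by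
      rw [Subgroup.mem_centralizer_iff]
      intro y hy
      exact hNc y hy n hn
    have huC : u ∈ Subgroup.centralizer (N : Set G) := by
      have : u = n⁻¹ * (n * u) := by group
      rw [this]
      exact Subgroup.mul_mem _ (Subgroup.inv_mem _ hnC) hx
    have : u ∈ Subgroup.centralizer (N : Set G) ⊓ U := ⟨huC, hu⟩
    rw [hD, Subgroup.mem_bot] at this
    subst this
    change n * 1 ∈ N
    rw [mul_one]; exact hn
  · intro x hx
    rw [Subgroup.mem_centralizer_iff]
    intro y hy
    exact hNc y hy x hx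

include hU hcore in
theorem coreFree_abelian_minimal (N : Subgroup G) (_hNn : N.Normal)
    (hNc : ∀ x ∈ N, ∀ y ∈ N, x * y = y * x) :
    ∀ K : Subgroup G, K.Normal → K ≤ N → K = ⊥ ∨ K = N := by
  intro K hKn hKN
  by_cases hK1 : K = ⊥
  · exact Or.inl hK1
  · right
    apply le_antisymm hKN
    have hKc : ∀ x ∈ K, ∀ y ∈ K, x * y = y * x := fun x hx y hy => hNc x (hKN hx) y (hKN hy)
    rw [← coreFree_centralizer_abelian U hU hcore K hKn hK1 hKc]
    intro x hx
    rw [Subgroup.mem_centralizer_iff]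
    intro y hy
    exact hNc y (hKN hy) x hx

end CoreFree

end Cfsg.Agent.Lib.Helper4
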