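import Mathlib
import Cfsg.Agent.Lib.Helper4.Primitive
import Cfsg.Agent.Lib.Helper1.Hall

set_option autoImplicit false
open Pointwise

namespace Cfsg.Agent.Lib.Helper4
open Cfsg Cfsg.Agent.Lib.Helper1
universe u

theorem isCoatom_conj_smul {G : Type u} [Group G] {U : Subgroup G} (hU : IsCoatom U) (g : G) :
    IsCoatom (MulAut.conj g • U) := by
  refine ⟨fun h => hU.1 ?_, fun K hK => ?_⟩
  · have h1 : U = (MulAut.conj g)⁻¹ • (⊤ : Subgroup G) := by rw [← h, inv_smul_smul]
    rw [h1, eq_top_iff]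
    intro x _
    rw [Subgroup.mem_pointwise_smul_iff_inv_smul_mem]
    trivial
  · have h1 : U < (MulAut.conj g)⁻¹ • K := by
      constructor
      · rw [← Subgroup.pointwise_smul_subset_iff]; exact hK.le
      · intro h
        apply hK.not_ge
        rw [Subgroup.pointwise_smul_subset_iff, inv_inv] at h
        exact h
    have h2 := hU.2 _ h1
    rw [eq_top_iff]
    intro x _
    have : (MulAut.conj g)⁻¹ • x ∈ (MulAut.conj g)⁻¹ • K := by rw [h2]; trivial
    rwa [Subgroup.smul_mem_pointwise_smul_iff] at this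

end Cfsg.Agent.Lib.Helper4

namespace Cfsg.Agent.Lib.Helper4
open Cfsg Cfsg.Agent.Lib.Helper1
universe u

/-- Dedekind: if `N ≤ L`, `N` normal and `N ⊔ U = ⊤` then `L = N ⊔ (L ⊓ U)`. -/
theorem dedekind_of_sup_eq_top {G : Type u} [Group G] (N L U : Subgroup G) [hN : N.Normal]
    (hNL : N ≤ L) (hsup : U ⊔ N = ⊤) : L = N ⊔ (L ⊓ U) := by
  apply le_antisymm _ (sup_le hNL inf_le_left)
  intro x hx
  have hx' : x ∈ ((N ⊔ U : Subgroup G) : Set G) := by rw [sup_comm, hsup]; trivial
  rw [Subgroup.normal_mul] at hx'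
  obtain ⟨n, hn, u, hu, rfl⟩ := hx'
  have huL : u ∈ L := by
    have : u = n⁻¹ * (n * u) := by group
    rw [this]
    exact L.mul_mem (L.inv_mem (hNL hn)) hx
  exact Subgroup.mul_mem _ (Subgroup.mem_sup_left hn) (Subgroup.mem_sup_right ⟨huL, hu⟩)

theorem coreFree_maximal_conj {G : Type u} [Group G] [Finite G] [Group.IsSolvable G]
    (U V : Subgroup G) (hU : IsCoatom U) (hV : IsCoatom V) (hUc : U.normalCore = ⊥)
    (hVc : V.normalCore = ⊥) : ∃ g : G, MulAut.conj g • U = V := by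
  classical
  have hnt : Nontrivial G := by
    by_contra h
    rw [not_nontrivial_iff_subsingleton] at h
    exact hU.1 (Subsingleton.elim _ _)
  obtain ⟨N, hN⟩ := exists_isMinNormal (G := G)
  have hNc' := hN.isMulCommutative
  obtain ⟨p, hp, hNp⟩ := hN.exists_prime_isPGroup
  obtain ⟨hNn, hN1, hNmin⟩ := hN
  have hfp : Fact p.Prime := ⟨hp⟩
  have hNc : ∀ x ∈ N, ∀ y ∈ N, x * y = y * x := fun x hx y hy =>
    congrArg Subtype.val (mul_comm' (⟨x, hx⟩ : N) ⟨y, hy⟩)
  have hCN := coreFree_centralizer_abelian U hU hUc N hNn hN1 hNc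
  have hUN := coreFree_inf_abelian U hU hUc N hNn hN1 hNc
  have hVN := coreFree_inf_abelian V hV hVc N hNn hN1 hNc
  have hUsup := coreFree_sup_eq_top U hU hUc N hNn hN1
  have hVsup := coreFree_sup_eq_top V hV hVc N hNn hN1
  by_cases hNtop : N = ⊤
  · refine ⟨1, ?_⟩
    rw [hNtop, inf_top_eq] at hUN hVN
    rw [hUN, hVN, Subgroup.smul_bot]
  -- second chief factor
  have hf := QuotientGroup.mk'_surjective N
  have hntq : Nontrivial (G ⧸ N) := by
    rw [← Finite.one_lt_card_iff_nontrivial, ← Subgroup.index_eq_card]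
    have h1 : N.index ≠ 1 := fun h1 => hNtop (Subgroup.index_eq_one.mp h1)
    have h0 : N.index ≠ 0 := Subgroup.index_ne_zero_of_finite
    omega
  obtain ⟨L', hL'⟩ := exists_isMinNormal (G := G ⧸ N)
  obtain ⟨q, hq, hL'q⟩ := hL'.exists_prime_isPGroup
  obtain ⟨hL'n, hL'1, _⟩ := hL'
  have hfq : Fact q.Prime := ⟨hq⟩
  set L : Subgroup G := L'.comap (QuotientGroup.mk' N) with hLdef
  have hLn : L.Normal := hL'n.comap _
  have hNL : N ≤ L := by
    have := Subgroup.ker_le_comap (QuotientGroup.mk' N) L'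
    rwa [QuotientGroup.ker_mk'] at this
  have hLcard : Nat.card L = Nat.card L' * Nat.card N := card_comap_mk' N L'
  have hLneN : L ≠ N := by
    intro h
    apply hL'1
    have h1 : L'.comap (QuotientGroup.mk' N) = (⊥ : Subgroup (G ⧸ N)).comap (QuotientGroup.mk' N) := by
      rw [← hLdef, h, MonoidHom.comap_bot, QuotientGroup.ker_mk']
    exact Subgroup.comap_injective hf h1
  -- q ≠ p
  have hqp : q ≠ p := by
    rintro rfl
    have hLp : IsPGroup q L := by
      obtain ⟨a, ha⟩ := IsPGroup.iff_card.mp hL'q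
      obtain ⟨k, hk⟩ := IsPGroup.iff_card.mp hNp
      apply IsPGroup.of_card (n := a + k)
      rw [hLcard, ha, hk, pow_add]
    obtain ⟨w, hwN, hw1, hwc⟩ := Cfsg.Agent.Lib.Helper18.exists_ne_one_fixed_of_pgroup_normalizes
      N L hNp hLp hN1 (by rw [Subgroup.normalizer_eq_top]; exact le_top)
    have hZn : (N ⊓ Subgroup.centralizer (L : Set G)).Normal := by
      have := Subgroup.normal_centralizer (H := L)
      infer_instance
    have hwZ : w ∈ N ⊓ Subgroup.centralizer (L : Set G) := by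
      rw [Subgroup.mem_inf, Subgroup.mem_centralizer_iff]
      exact ⟨hwN, fun c hc => hwc c hc⟩
    rcases hNmin _ hZn inf_le_left with h | h
    · rw [h, Subgroup.mem_bot] at hwZ
      exact hw1 hwZ
    · apply hLneN
      apply le_antisymm _ hNL
      rw [← hCN]
      intro x hx
      rw [Subgroup.mem_centralizer_iff]
      intro y hy
      have hy' : y ∈ N ⊓ Subgroup.centralizer (L : Set G) := by rw [h]; exact hy
      have := (Subgroup.mem_inf.mp hy').2
      rw [Subgroup.mem_centralizer_iff] at this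
      exact (this x hx).symm
  -- L ⊓ W is a Sylow q-subgroup of L for W = U, V
  have hsyl : ∀ W : Subgroup G, W ⊔ N = ⊤ → W ⊓ N = ⊥ →
      IsPGroup q ↥((L ⊓ W).subgroupOf L) ∧ ¬ q ∣ ((L ⊓ W).subgroupOf L).index := by
    intro W hWsup hWN
    have h1 := dedekind_of_sup_eq_top N L W hNL hWsup
    have h2 := card_sup_mul_card_inf (L ⊓ W) N (by rw [Subgroup.normalizer_eq_top]; exact le_top)
    have h3 : L ⊓ W ⊓ N = ⊥ := by
      rw [eq_bot_iff, ← hWN]
      exact inf_le_inf_right N inf_le_right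
    rw [sup_comm, ← h1, h3, Subgroup.card_bot, mul_one, hLcard] at h2
    have h4 : Nat.card ↥(L ⊓ W) = Nat.card L' := (Nat.eq_of_mul_eq_mul_right Nat.card_pos h2).symm
    have hcard : Nat.card ↥((L ⊓ W).subgroupOf L) = Nat.card L' := by
      rw [← h4]
      exact Nat.card_congr (Subgroup.subgroupOfEquivOfLe inf_le_left).toEquiv
    obtain ⟨a, ha⟩ := IsPGroup.iff_card.mp hL'q
    refine ⟨IsPGroup.of_card (hcard.trans ha), ?_⟩
    have h5 := ((L ⊓ W).subgroupOf L).card_mul_index
    rw [hcard, hLcard] at h5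
    have h6 : ((L ⊓ W).subgroupOf L).index = Nat.card N := Nat.eq_of_mul_eq_mul_left Nat.card_pos h5
    rw [h6]
    obtain ⟨k, hk⟩ := IsPGroup.iff_card.mp hNp
    rw [hk]
    intro hd
    exact hqp ((Nat.prime_dvd_prime_iff_eq hq hp).mp (hq.dvd_of_dvd_pow hd))
  obtain ⟨hU1, hU2⟩ := hsyl U hUsup hUN
  obtain ⟨hV1, hV2⟩ := hsyl V hVsup hVN
  obtain ⟨l, hl⟩ := MulAction.exists_smul_eq L (hU1.toSylow hU2) (hV1.toSylow hV2)
  have hl' : MulAut.conj l • (L ⊓ U).subgroupOf L = (L ⊓ V).subgroupOf L := by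
    have := congrArg (fun P : Sylow q L => (P : Subgroup L)) hl
    simpa [Sylow.coe_subgroup_smul] using this
  have hconj : MulAut.conj (l : G) • (L ⊓ U) = L ⊓ V :=
    conj_eq_of_subgroupOf_conj_eq inf_le_left inf_le_left l hl'
  refine ⟨(l : G), ?_⟩
  set U' : Subgroup G := MulAut.conj (l : G) • U with hU'def
  have hU'co : IsCoatom U' := isCoatom_conj_smul hU _
  have hLU' : L ⊓ U' = L ⊓ V := by
    rw [← hconj, Subgroup.smul_inf, Subgroup.Normal.conj_smul_eq_self]
  set Q : Subgroup G := L ⊓ V with hQdef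
  have hQnotnormal : Subgroup.normalizer (Q : Set G) ≠ ⊤ := by
    intro h
    rw [Subgroup.normalizer_eq_top_iff] at h
    have h1 : Q ≤ V.normalCore := Subgroup.normal_le_normalCore.mpr inf_le_right
    rw [hVc, le_bot_iff] at h1
    apply hLneN
    have h2 := dedekind_of_sup_eq_top N L V hNL hVsup
    rw [← hQdef, h1, sup_bot_eq] at h2
    exact h2
  have hVQ : V ≤ Subgroup.normalizer (Q : Set G) := by
    intro v hv
    apply Cfsg.Agent.Lib.Helper17.mem_normalizer_of_forall_conj_mem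
    intro x hx
    exact ⟨hLn.conj_mem x hx.1 v, V.mul_mem (V.mul_mem hv hx.2) (V.inv_mem hv)⟩
  have hU'Q : U' ≤ Subgroup.normalizer (Q : Set G) := by
    intro v hv
    apply Cfsg.Agent.Lib.Helper17.mem_normalizer_of_forall_conj_mem
    intro x hx
    rw [← hLU'] at hx ⊢
    exact ⟨hLn.conj_mem x hx.1 v, U'.mul_mem (U'.mul_mem hv hx.2) (U'.inv_mem hv)⟩
  have e1 : U' = Subgroup.normalizer (Q : Set G) := by
    by_contra hne
    exact hQnotnormal (hU'co.2 _ (lt_of_le_of_ne hU'Q hne))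
  have e2 : V = Subgroup.normalizer (Q : Set G) := by
    by_contra hne
    exact hQnotnormal (hV.2 _ (lt_of_le_of_ne hVQ hne))
  rw [e1, ← e2]

end Cfsg.Agent.Lib.Helper4
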