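import Mathlib
import Cfsg.Agent.Lib.Helper1.Basic

set_option autoImplicit false
open Pointwise

namespace Cfsg.Agent.Lib.Helper4
open Cfsg.Agent.Lib.Helper1
universe u

/-- normalizers grow in nilpotent subgroups (relative version) -/
theorem exists_mem_normalizer_not_mem_of_nilpotent {G : Type u} [Group G] {M D : Subgroup G}
    (hM : Group.IsNilpotent M) (hDM : D ≤ M) (hne : D ≠ M) :
    ∃ x ∈ M, x ∈ Subgroup.normalizer (D : Set G) ∧ x ∉ D := by
  have hnc : NormalizerCondition M := Group.normalizerCondition_of_isNilpotent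
  have hlt : D.subgroupOf M < ⊤ := by
    rw [lt_top_iff_ne_top]
    intro h
    rw [Subgroup.subgroupOf_eq_top] at h
    exact hne (le_antisymm hDM h)
  have h1 := hnc _ hlt
  obtain ⟨x, hxN, hxQ⟩ := SetLike.exists_of_lt h1
  refine ⟨x, x.2, ?_, ?_⟩
  · rw [Subgroup.mem_normalizer_iff] at hxN ⊢
    intro h
    by_cases hh : h ∈ M
    · have := hxN ⟨h, hh⟩
      simpa [Subgroup.mem_subgroupOf] using this
    · constructor
      · intro hq; exact absurd (hDM hq) hh
      · intro hq
        exfalso; apply hh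
        have h2 : (x : G) * h * (x : G)⁻¹ ∈ M := hDM hq
        have : h = (x : G)⁻¹ * ((x : G) * h * (x : G)⁻¹) * (x : G) := by group
        rw [this]
        exact M.mul_mem (M.mul_mem (M.inv_mem x.2) h2) x.2
  · intro hx
    apply hxQ
    simpa [Subgroup.mem_subgroupOf] using hx

/-- the set of nonidentity elements conjugate into `M` -/
def conjUnion {G : Type u} [Group G] (M : Subgroup G) : Set G :=
  {g | g ≠ 1 ∧ ∃ a : G, a⁻¹ * g * a ∈ M}

/-- counting the nonidentity elements in the conjugates of a malnormal subgroup (via Burnside) -/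
theorem ncard_conjUnion {G : Type u} [Group G] [Finite G] (M : Subgroup G)
    (hM : ∀ a : G, a ∉ M → ∀ x ∈ M, a⁻¹ * x * a ∈ M → x = 1) :
    (conjUnion M).ncard + M.index = Nat.card G := by
  classical
  have : Fintype G := Fintype.ofFinite G
  have : Fintype (G ⧸ M) := Fintype.ofFinite _
  have hB := MulAction.sum_card_fixedBy_eq_card_orbits_mul_card_group G (G ⧸ M)
  have horb : Fintype.card (Quotient (MulAction.orbitRel G (G ⧸ M))) = 1 := by
    rw [Fintype.card_eq_one_iff_nonempty_unique]
    have hsub : Subsingleton (Quotient (MulAction.orbitRel G (G ⧸ M))) :=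
      (MulAction.pretransitive_iff_subsingleton_quotient G (G ⧸ M)).mp inferInstance
    exact ⟨⟨⟨Quotient.mk _ ((1 : G) : G ⧸ M)⟩, fun _ => Subsingleton.elim _ _⟩⟩
  rw [horb, one_mul] at hB
  -- fixed points
  have hfix : ∀ (g a : G), ((a : G ⧸ M) ∈ MulAction.fixedBy (G ⧸ M) g) ↔ a⁻¹ * g * a ∈ M := by
    intro g a
    rw [MulAction.mem_fixedBy]
    change (((g * a : G) : G ⧸ M) = (a : G ⧸ M)) ↔ _
    rw [QuotientGroup.eq]
    constructor
    · intro h
      have := M.inv_mem h
      simpa [mul_assoc] using this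
    · intro h
      have := M.inv_mem h
      simpa [mul_assoc] using this
  have h1 : Fintype.card (MulAction.fixedBy (G ⧸ M) (1 : G)) = M.index := by
    rw [Subgroup.index, Nat.card_eq_fintype_card]
    apply Fintype.card_of_subtype (Finset.univ)
    intro x
    simp
  have hsub : ∀ g : G, g ≠ 1 → Fintype.card (MulAction.fixedBy (G ⧸ M) g) =
      if g ∈ conjUnion M then 1 else 0 := by
    intro g hg
    by_cases hgU : g ∈ conjUnion M
    · rw [if_pos hgU]
      obtain ⟨_, a, ha⟩ := hgU
      rw [Fintype.card_eq_one_iff]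
      refine ⟨⟨(a : G ⧸ M), (hfix g a).mpr ha⟩, ?_⟩
      rintro ⟨y, hy⟩
      apply Subtype.ext
      change y = (a : G ⧸ M)
      induction y using QuotientGroup.induction_on with
      | H b =>
        rw [hfix] at hy
        rw [QuotientGroup.eq]
        by_contra hc
        apply hg
        -- c = b⁻¹ * a ∉ M, x = b⁻¹ g b ∈ M, c⁻¹ x c = a⁻¹ g a ∈ M
        have h2 := hM (b⁻¹ * a) hc (b⁻¹ * g * b) hy (by
          have : (b⁻¹ * a)⁻¹ * (b⁻¹ * g * b) * (b⁻¹ * a) = a⁻¹ * g * a := by group
          rw [this]; exact ha)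
        have : g = b * (b⁻¹ * g * b) * b⁻¹ := by group
        rw [this, h2]; group
    · rw [if_neg hgU]
      rw [Fintype.card_eq_zero_iff]
      refine ⟨?_⟩
      rintro ⟨y, hy⟩
      induction y using QuotientGroup.induction_on with
      | H b =>
        rw [hfix] at hy
        exact hgU ⟨hg, b, hy⟩
  have hsum : (∑ g : G, Fintype.card (MulAction.fixedBy (G ⧸ M) g)) =
      ∑ g : G, ((if g = 1 then M.index else 0) + (if g ∈ conjUnion M then 1 else 0)) := by
    apply Finset.sum_congr rfl
    intro g _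
    by_cases hg : g = 1
    · subst hg
      rw [h1, if_pos rfl, if_neg, add_zero]
      intro h
      exact h.1 rfl
    · rw [hsub g hg, if_neg hg, zero_add]
  rw [hsum, Finset.sum_add_distrib, Finset.sum_ite_eq' Finset.univ (1 : G), if_pos (Finset.mem_univ _),
    Finset.sum_boole] at hB
  rw [Nat.card_eq_fintype_card, ← hB, add_comm]
  congr 1
  rw [Set.ncard_eq_toFinset_card']
  simp only [Nat.cast_id]
  congr 1
  ext g
  simp

end Cfsg.Agent.Lib.Helper4
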