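import Mathlib
import Cfsg.Agent.Lib.Helper4.Schmidt1
import Cfsg.Agent.Lib.Helper4.HallSystem
import Cfsg.Agent.Lib.Helper4.PrimitiveConj

set_option autoImplicit false
open Pointwise

namespace Cfsg.Agent.Lib.Helper4
open Cfsg.Agent.Lib.Helper1
universe u

/-- In a finite group with all proper subgroups nilpotent and no proper nontrivial normal subgroup,
distinct maximal subgroups intersect trivially. -/
theorem coatom_inf_eq_bot {G : Type u} [Group G] [Finite G]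
    (hnil : ∀ H : Subgroup G, H ≠ ⊤ → Group.IsNilpotent H)
    (hsimple : ∀ N : Subgroup G, N.Normal → N = ⊥ ∨ N = ⊤) :
    ∀ M₁ M₂ : Subgroup G, IsCoatom M₁ → IsCoatom M₂ → M₁ ≠ M₂ → M₁ ⊓ M₂ = ⊥ := by
  by_contra hcon
  push Not at hcon
  -- choose a counterexample with maximal intersection
  let S : Set (Subgroup G × Subgroup G) :=
    {P | IsCoatom P.1 ∧ IsCoatom P.2 ∧ P.1 ≠ P.2 ∧ P.1 ⊓ P.2 ≠ ⊥}
  have hSne : S.Nonempty := by
    obtain ⟨M₁, M₂, h1, h2, h3, h4⟩ := hcon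
    exact ⟨(M₁, M₂), h1, h2, h3, h4⟩
  obtain ⟨⟨M₁, M₂⟩, ⟨hM₁, hM₂, hne, hD⟩, hmax⟩ :=
    Set.exists_max_image S (fun P => Nat.card ↥(P.1 ⊓ P.2)) (Set.toFinite S) hSne
  simp only at hM₁ hM₂ hne hD hmax
  set D := M₁ ⊓ M₂ with hDdef
  have hDn : Subgroup.normalizer (D : Set G) ≠ ⊤ := by
    intro h
    have hn : D.Normal := Subgroup.normalizer_eq_top_iff.mp h
    rcases hsimple D hn with h1 | h1
    · exact hD h1
    · apply hM₁.1
      rw [eq_top_iff, ← h1]
      exact inf_le_left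
  obtain ⟨M₃, hM₃, hNM₃⟩ := (eq_top_or_exists_le_coatom _).resolve_left hDn
  have key : ∀ M : Subgroup G, IsCoatom M → D ≤ M → D ≠ M →
      (∀ M' : Subgroup G, IsCoatom M' → M' ≠ M → D ≤ M' ⊓ M →
        Nat.card ↥(M' ⊓ M) ≤ Nat.card D) → M₃ = M := by
    intro M hMc hDM hDneM hmaxM
    by_contra hne3
    obtain ⟨x, hxM, hxN, hxD⟩ := exists_mem_normalizer_not_mem_of_nilpotent
      (hnil M hMc.1) hDM hDneM
    have h1 : D ≤ M₃ ⊓ M := le_inf ((Subgroup.le_normalizer).trans hNM₃) hDM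
    have h2 := hmaxM M₃ hM₃ hne3 h1
    have h3 : D = M₃ ⊓ M := Subgroup.eq_of_le_of_card_ge h1 h2
    apply hxD
    rw [h3]
    exact ⟨hNM₃ hxN, hxM⟩
  have hDM₁ : D ≠ M₁ := by
    intro h
    apply hne
    have h1 : M₁ ≤ M₂ := by rw [← h]; exact inf_le_right
    rcases eq_or_lt_of_le h1 with h2 | h2
    · exact h2
    · exact absurd (hM₁.2 _ h2) hM₂.1
  have hDM₂ : D ≠ M₂ := by
    intro h
    apply hne
    have h1 : M₂ ≤ M₁ := by rw [← h]; exact inf_le_left
    rcases eq_or_lt_of_le h1 with h2 | h2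
    · exact h2.symm
    · exact absurd (hM₂.2 _ h2) hM₁.1
  have e1 : M₃ = M₁ := by
    apply key M₁ hM₁ inf_le_left hDM₁
    intro M' hM' hne' hle
    have hmem : (M', M₁) ∈ S := by
      refine ⟨hM', hM₁, hne', ?_⟩
      intro h
      apply hD
      rw [eq_bot_iff, ← h]
      exact hle
    exact hmax (M', M₁) hmem
  have e2 : M₃ = M₂ := by
    apply key M₂ hM₂ inf_le_right hDM₂
    intro M' hM' hne' hle
    have hmem : (M', M₂) ∈ S := by
      refine ⟨hM', hM₂, hne', ?_⟩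
      intro h
      apply hD
      rw [eq_bot_iff, ← h]
      exact hle
    have := hmax (M', M₂) hmem
    exact this
  exact hne (e1.symm.trans e2)

end Cfsg.Agent.Lib.Helper4
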