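import Mathlib
import Cfsg.Prelude.Def_SolvableStructure

set_option autoImplicit false

namespace Cfsg.Agent.Lib.Helper4

open Cfsg

universe u v

/-- Subgroups reachable from `⊥` by a chain of normal subgroups with cyclic steps. -/
inductive SSReach {G : Type u} [Group G] : Subgroup G → Prop
  | bot : SSReach ⊥
  | step (K : Subgroup G) (g : G) : SSReach K → (K ⊔ Subgroup.zpowers g).Normal →
      SSReach (K ⊔ Subgroup.zpowers g)

theorem SSReach.normal {G : Type u} [Group G] {K : Subgroup G} (h : SSReach K) : K.Normal := by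
  cases h with
  | bot => infer_instance
  | step K g _ hn => exact hn

theorem ssReach_of_chain {G : Type u} [Group G] (n : ℕ) (H : Fin (n + 1) → Subgroup G)
    (h0 : H 0 = ⊥) (hn : ∀ i, (H i).Normal)
    (hs : ∀ i : Fin n, ∃ g : G, H i.succ = H i.castSucc ⊔ Subgroup.zpowers g) :
    ∀ (i : ℕ) (hi : i < n + 1), SSReach (H ⟨i, hi⟩) := by
  intro i
  induction i with
  | zero =>
    intro hi
    have : (⟨0, hi⟩ : Fin (n + 1)) = 0 := rfl
    rw [this, h0]
    exact SSReach.bot
  | succ i ih =>
    intro hi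
    have hi' : i < n := by omega
    obtain ⟨g, hg⟩ := hs ⟨i, hi'⟩
    have e1 : (⟨i, hi'⟩ : Fin n).succ = ⟨i + 1, hi⟩ := rfl
    have e2 : (⟨i, hi'⟩ : Fin n).castSucc = ⟨i, by omega⟩ := rfl
    rw [e1, e2] at hg
    have hnorm := hn ⟨i + 1, hi⟩
    rw [hg] at hnorm ⊢
    exact SSReach.step _ g (ih (by omega)) hnorm

theorem chain_of_ssReach {G : Type u} [Group G] {K : Subgroup G} (h : SSReach K) :
    ∃ (n : ℕ) (H : Fin (n + 1) → Subgroup G),
      H 0 = ⊥ ∧ H (Fin.last n) = K ∧ (∀ i, (H i).Normal) ∧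
        ∀ i : Fin n, ∃ g : G, H i.succ = H i.castSucc ⊔ Subgroup.zpowers g := by
  induction h with
  | bot =>
    refine ⟨0, fun _ => ⊥, rfl, rfl, fun _ => inferInstance, fun i => i.elim0⟩
  | step K g _ hn ih =>
    obtain ⟨n, H, h0, hl, hnorm, hstep⟩ := ih
    refine ⟨n + 1, Fin.snoc H (K ⊔ Subgroup.zpowers g), ?_, ?_, ?_, ?_⟩
    · have : (0 : Fin (n + 1 + 1)) = Fin.castSucc (0 : Fin (n + 1)) := rfl
      rw [this, Fin.snoc_castSucc, h0]
    · rw [Fin.snoc_last]
    · intro i
      refine Fin.lastCases ?_ (fun j => ?_) i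
      · rw [Fin.snoc_last]; exact hn
      · rw [Fin.snoc_castSucc]; exact hnorm j
    · intro i
      refine Fin.lastCases ?_ (fun j => ?_) i
      · refine ⟨g, ?_⟩
        rw [Fin.succ_last, Fin.snoc_last, Fin.snoc_castSucc, hl]
      · obtain ⟨g', hg'⟩ := hstep j
        refine ⟨g', ?_⟩
        have e1 : (Fin.castSucc j).succ = Fin.castSucc j.succ := rfl
        rw [e1, Fin.snoc_castSucc, Fin.snoc_castSucc, hg']

theorem isSupersolvable_iff_ssReach {G : Type u} [Group G] :
    IsSupersolvable G ↔ SSReach (⊤ : Subgroup G) := by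
  constructor
  · rintro ⟨n, H, h0, hl, hn, hs⟩
    have := ssReach_of_chain n H h0 hn hs n (by omega)
    have e : (⟨n, by omega⟩ : Fin (n + 1)) = Fin.last n := rfl
    rw [e, hl] at this
    exact this
  · intro h
    obtain ⟨n, H, h0, hl, hn, hs⟩ := chain_of_ssReach h
    exact ⟨n, H, h0, hl, hn, hs⟩

/-- Images of reachable subgroups under surjective homomorphisms are reachable. -/
theorem SSReach.map {G : Type u} {G' : Type v} [Group G] [Group G'] {K : Subgroup G} (h : SSReach K)
    (f : G →* G') (hf : Function.Surjective f) : SSReach (K.map f) := by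
  induction h with
  | bot => rw [Subgroup.map_bot]; exact SSReach.bot
  | step K g _ hn ih =>
    have e : (K ⊔ Subgroup.zpowers g).map f = K.map f ⊔ Subgroup.zpowers (f g) := by
      rw [Subgroup.map_sup, MonoidHom.map_zpowers]
    rw [e]
    refine SSReach.step _ _ ih ?_
    rw [← e]
    exact hn.map f hf

/-- Preimages of reachable subgroups under a surjection with cyclic kernel are reachable. -/
theorem SSReach.comap {G : Type u} {G' : Type v} [Group G] [Group G'] {K : Subgroup G'} (h : SSReach K)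
    (f : G →* G') (hf : Function.Surjective f) (hker : IsCyclic f.ker) :
    SSReach (K.comap f) := by
  induction h with
  | bot =>
    obtain ⟨⟨g, hg⟩, hgen⟩ := hker.exists_generator
    have e : (⊥ : Subgroup G').comap f = ⊥ ⊔ Subgroup.zpowers g := by
      rw [bot_sup_eq]
      change f.ker = _
      apply le_antisymm
      · intro x hx
        obtain ⟨k, hk⟩ := Subgroup.mem_zpowers_iff.mp (hgen ⟨x, hx⟩)
        rw [Subgroup.mem_zpowers_iff]
        exact ⟨k, by simpa using congrArg Subtype.val hk⟩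
      · rw [Subgroup.zpowers_le]; exact hg
    rw [e]
    refine SSReach.step _ _ SSReach.bot ?_
    rw [← e]
    exact (inferInstance : (⊥ : Subgroup G').Normal).comap f
  | step K g' _ hn ih =>
    obtain ⟨g, rfl⟩ := hf g'
    have e : (K ⊔ Subgroup.zpowers (f g)).comap f = K.comap f ⊔ Subgroup.zpowers g := by
      have h1 : K ⊔ Subgroup.zpowers (f g) = (K.comap f ⊔ Subgroup.zpowers g).map f := by
        rw [Subgroup.map_sup, MonoidHom.map_zpowers, Subgroup.map_comap_eq_self_of_surjective hf]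
      rw [h1, Subgroup.comap_map_eq]
      apply le_antisymm
      · apply sup_le le_rfl
        exact (Subgroup.ker_le_comap f K).trans le_sup_left
      · exact le_sup_left
    rw [e]
    refine SSReach.step _ _ ih ?_
    rw [← e]
    exact hn.comap f

theorem zpowers_subgroupOf {G : Type u} [Group G] (H : Subgroup G) (h : H) :
    (Subgroup.zpowers (h : G)).subgroupOf H = Subgroup.zpowers h := by
  ext x
  rw [Subgroup.mem_subgroupOf, Subgroup.mem_zpowers_iff, Subgroup.mem_zpowers_iff]
  constructor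
  · rintro ⟨k, hk⟩
    exact ⟨k, Subtype.ext (by simpa using hk)⟩
  · rintro ⟨k, hk⟩
    exact ⟨k, by simpa using congrArg Subtype.val hk⟩

/-- Key step: intersecting a cyclic step with a subgroup gives a cyclic step. -/
theorem exists_inf_sup_zpowers {G : Type u} [Group G] (K : Subgroup G) [hK : K.Normal] (g : G)
    (H : Subgroup G) :
    ∃ h ∈ H, (K ⊔ Subgroup.zpowers g) ⊓ H = (K ⊓ H) ⊔ Subgroup.zpowers h := by
  -- the subgroup of exponents
  let S : AddSubgroup ℤ :=
    { carrier := {n : ℤ | ∃ k ∈ K, k * g ^ n ∈ H}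
      zero_mem' := ⟨1, K.one_mem, by simp⟩
      add_mem' := by
        rintro n m ⟨k, hk, hkn⟩ ⟨k', hk', hkm⟩
        refine ⟨k * (g ^ n * k' * (g ^ n)⁻¹), K.mul_mem hk (hK.conj_mem k' hk' _), ?_⟩
        have : k * (g ^ n * k' * (g ^ n)⁻¹) * g ^ (n + m) = (k * g ^ n) * (k' * g ^ m) := by
          rw [zpow_add]; group
        rw [this]
        exact H.mul_mem hkn hkm
      neg_mem' := by
        rintro n ⟨k, hk, hkn⟩
        refine ⟨(g ^ n)⁻¹ * k⁻¹ * (g ^ n)⁻¹⁻¹, hK.conj_mem _ (K.inv_mem hk) _, ?_⟩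
        have : (g ^ n)⁻¹ * k⁻¹ * (g ^ n)⁻¹⁻¹ * g ^ (-n) = (k * g ^ n)⁻¹ := by
          rw [zpow_neg]; group
        rw [this]
        exact H.inv_mem hkn }
  obtain ⟨d, hd⟩ := Int.subgroup_cyclic S
  have hdS : d ∈ S := by rw [hd]; exact AddSubgroup.subset_closure rfl
  obtain ⟨k0, hk0, hk0H⟩ := hdS
  refine ⟨k0 * g ^ d, hk0H, ?_⟩
  apply le_antisymm
  · rintro x ⟨hxL, hxH⟩
    have hxL' : x ∈ ((K ⊔ Subgroup.zpowers g : Subgroup G) : Set G) := hxL
    rw [Subgroup.normal_mul] at hxL'
    obtain ⟨k, hk, y, hy, rfl⟩ := hxL'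
    obtain ⟨n, rfl⟩ := Subgroup.mem_zpowers_iff.mp hy
    have hnS : n ∈ S := ⟨k, hk, hxH⟩
    rw [hd, AddSubgroup.mem_closure_singleton] at hnS
    obtain ⟨m, hm⟩ := hnS
    -- x * h^(-m) ∈ K ⊓ H
    have h1 : k * g ^ n * ((k0 * g ^ d) ^ m)⁻¹ ∈ K := by
      rw [← QuotientGroup.eq_one_iff]
      simp only [QuotientGroup.mk_mul, QuotientGroup.mk_inv, QuotientGroup.mk_zpow]
      have hk1 : ((k : G) : G ⧸ K) = 1 := (QuotientGroup.eq_one_iff k).mpr hk
      have hk01 : ((k0 : G) : G ⧸ K) = 1 := (QuotientGroup.eq_one_iff k0).mpr hk0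
      rw [hk1, hk01, one_mul, one_mul, ← zpow_mul, ← hm, smul_eq_mul, mul_comm m d]
      exact mul_inv_cancel _
    have h2 : k * g ^ n * ((k0 * g ^ d) ^ m)⁻¹ ∈ H :=
      H.mul_mem hxH (H.inv_mem (H.zpow_mem hk0H m))
    have : k * g ^ n = (k * g ^ n * ((k0 * g ^ d) ^ m)⁻¹) * (k0 * g ^ d) ^ m := by group
    change k * g ^ n ∈ _
    rw [this]
    exact Subgroup.mul_mem _ (Subgroup.mem_sup_left ⟨h1, h2⟩)
      (Subgroup.mem_sup_right (Subgroup.zpow_mem _ (Subgroup.mem_zpowers _) m))
  · apply sup_le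
    · exact inf_le_inf_right _ le_sup_left
    · rw [Subgroup.zpowers_le]
      refine ⟨?_, hk0H⟩
      exact Subgroup.mul_mem _ (Subgroup.mem_sup_left hk0)
        (Subgroup.mem_sup_right (Subgroup.zpow_mem _ (Subgroup.mem_zpowers _) d))

/-- Restriction of reachable subgroups to a subgroup. -/
theorem SSReach.subgroupOf {G : Type u} [Group G] {K : Subgroup G} (h : SSReach K)
    (H : Subgroup G) : SSReach (K.subgroupOf H) := by
  induction h with
  | bot => rw [Subgroup.bot_subgroupOf]; exact SSReach.bot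
  | step K g hK hn ih =>
    have := hK.normal
    obtain ⟨h, hh, he⟩ := exists_inf_sup_zpowers K g H
    have e : (K ⊔ Subgroup.zpowers g).subgroupOf H =
        K.subgroupOf H ⊔ Subgroup.zpowers (⟨h, hh⟩ : H) := by
      rw [← Subgroup.inf_subgroupOf_right, he,
        Subgroup.subgroupOf_sup inf_le_right (by rw [Subgroup.zpowers_le]; exact hh),
        Subgroup.inf_subgroupOf_right, ← zpowers_subgroupOf]
    rw [e]
    refine SSReach.step _ _ ih ?_
    rw [← e]
    exact hn.subgroupOf H

theorem isSupersolvable_quotient {G : Type u} [Group G] (hG : IsSupersolvable G)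
    (N : Subgroup G) [N.Normal] : IsSupersolvable (G ⧸ N) := by
  rw [isSupersolvable_iff_ssReach] at hG ⊢
  have := hG.map (QuotientGroup.mk' N) (QuotientGroup.mk'_surjective N)
  rwa [Subgroup.map_top_of_surjective _ (QuotientGroup.mk'_surjective N)] at this

theorem isSupersolvable_subgroup {G : Type u} [Group G] (hG : IsSupersolvable G)
    (H : Subgroup G) : IsSupersolvable H := by
  rw [isSupersolvable_iff_ssReach] at hG ⊢
  have := hG.subgroupOf H
  rwa [Subgroup.top_subgroupOf] at this

theorem isSupersolvable_of_cyclic_normal {G : Type u} [Group G] (N : Subgroup G) [N.Normal]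
    [hN : IsCyclic N] (h : IsSupersolvable (G ⧸ N)) : IsSupersolvable G := by
  rw [isSupersolvable_iff_ssReach] at h ⊢
  have hker : IsCyclic (QuotientGroup.mk' N).ker := by
    rw [QuotientGroup.ker_mk']; exact hN
  have := h.comap (QuotientGroup.mk' N) (QuotientGroup.mk'_surjective N) hker
  rwa [Subgroup.comap_top] at this


/-- Preimages of reachable subgroups under a surjection with reachable kernel are reachable. -/
theorem SSReach.comap_of_ker {G : Type u} {G' : Type v} [Group G] [Group G'] {K : Subgroup G'} (h : SSReach K)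
    (f : G →* G') (hf : Function.Surjective f) (hker : SSReach f.ker) :
    SSReach (K.comap f) := by
  induction h with
  | bot => exact hker
  | step K g' _ hn ih =>
    obtain ⟨g, rfl⟩ := hf g'
    have e : (K ⊔ Subgroup.zpowers (f g)).comap f = K.comap f ⊔ Subgroup.zpowers g := by
      have h1 : K ⊔ Subgroup.zpowers (f g) = (K.comap f ⊔ Subgroup.zpowers g).map f := by
        rw [Subgroup.map_sup, MonoidHom.map_zpowers, Subgroup.map_comap_eq_self_of_surjective hf]
      rw [h1, Subgroup.comap_map_eq]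
      apply le_antisymm
      · apply sup_le le_rfl
        exact (Subgroup.ker_le_comap f K).trans le_sup_left
      · exact le_sup_left
    rw [e]
    refine SSReach.step _ _ ih ?_
    rw [← e]
    exact hn.comap f

theorem subgroup_map_inl {G : Type u} {H : Type v} [Group G] [Group H] (K : Subgroup G) :
    K.map (MonoidHom.inl G H) = K.prod (⊥ : Subgroup H) := by
  ext ⟨x, y⟩
  rw [Subgroup.mem_map, Subgroup.mem_prod, Subgroup.mem_bot]
  constructor
  · rintro ⟨k, hk, hke⟩
    rw [MonoidHom.inl_apply, Prod.mk.injEq] at hke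
    exact ⟨hke.1 ▸ hk, hke.2.symm⟩
  · rintro ⟨hx, hy⟩
    exact ⟨x, hx, by rw [MonoidHom.inl_apply]; exact Prod.ext rfl hy.symm⟩

theorem SSReach.prod_bot {G : Type u} {H : Type v} [Group G] [Group H] {K : Subgroup G} (h : SSReach K) :
    SSReach (K.prod (⊥ : Subgroup H)) := by
  induction h with
  | bot =>
    have : (⊥ : Subgroup G).prod (⊥ : Subgroup H) = ⊥ := Subgroup.bot_prod_bot
    rw [this]; exact SSReach.bot
  | step K g hK hn ih =>
    have e : (K ⊔ Subgroup.zpowers g).prod (⊥ : Subgroup H) =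
        K.prod (⊥ : Subgroup H) ⊔ Subgroup.zpowers ((g, 1) : G × H) := by
      rw [← subgroup_map_inl, ← subgroup_map_inl, Subgroup.map_sup, MonoidHom.map_zpowers]
      rfl
    rw [e]
    refine SSReach.step _ _ ih ?_
    rw [← e]
    have := hn
    exact Subgroup.prod_normal _ _

theorem isSupersolvable_prod {G : Type u} {H : Type v} [Group G] [Group H] (hG : IsSupersolvable G)
    (hH : IsSupersolvable H) : IsSupersolvable (G × H) := by
  rw [isSupersolvable_iff_ssReach] at hG hH ⊢
  have h1 : SSReach (MonoidHom.snd G H).ker := by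
    rw [MonoidHom.ker_snd]
    exact hG.prod_bot
  have := hH.comap_of_ker (MonoidHom.snd G H) Prod.snd_surjective h1
  rwa [Subgroup.comap_top] at this

end Cfsg.Agent.Lib.Helper4
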