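import Mathlib
import Cfsg.Agent.Lib.Helper4.Supersolvable
import Cfsg.Agent.Lib.Helper4.Basic

set_option autoImplicit false

namespace Cfsg.Agent.Lib.Helper4

open Cfsg

universe u v

/-- In a finite group, a nontrivial normal cyclic subgroup `⟨g⟩` contains a normal subgroup of
prime order. -/
theorem exists_normal_prime_card_of_zpowers_normal {G : Type u} [Group G] [Finite G] (g : G)
    (hg : g ≠ 1) (hn : (Subgroup.zpowers g).Normal) :
    ∃ N : Subgroup G, N.Normal ∧ (Nat.card N).Prime ∧ N ≤ Subgroup.zpowers g := by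
  have hord : orderOf g ≠ 1 := by
    rwa [Ne, orderOf_eq_one_iff]
  obtain ⟨p, hp, hpd⟩ := Nat.exists_prime_and_dvd hord
  have hpos : 0 < orderOf g := orderOf_pos g
  refine ⟨Subgroup.zpowers (g ^ (orderOf g / p)), ?_, ?_, ?_⟩
  · constructor
    intro y hy x
    rw [Subgroup.mem_zpowers_iff] at hy
    obtain ⟨k, rfl⟩ := hy
    have h1 : x * g * x⁻¹ ∈ Subgroup.zpowers g := hn.conj_mem g (Subgroup.mem_zpowers g) x
    rw [Subgroup.mem_zpowers_iff] at h1
    obtain ⟨j, hj⟩ := h1
    rw [Subgroup.mem_zpowers_iff]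
    refine ⟨k * j, ?_⟩
    have h2 : x * (g ^ (orderOf g / p)) ^ k * x⁻¹ = ((x * g * x⁻¹) ^ (orderOf g / p)) ^ k := by
      rw [conj_pow, conj_zpow]
    rw [h2, ← hj, ← zpow_natCast, ← zpow_natCast, ← zpow_mul, ← zpow_mul, ← zpow_mul]
    congr 1
    ring
  · rw [Nat.card_zpowers, orderOf_pow_orderOf_div hpos.ne' hpd]
    exact hp
  · rw [Subgroup.zpowers_le]
    exact Subgroup.pow_mem _ (Subgroup.mem_zpowers g) _

theorem SSReach.eq_bot_or_exists_normal_prime_card {G : Type u} [Group G] [Finite G]
    {K : Subgroup G} (h : SSReach K) :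
    K = ⊥ ∨ ∃ N : Subgroup G, N.Normal ∧ (Nat.card N).Prime ∧ N ≤ K := by
  induction h with
  | bot => exact Or.inl rfl
  | step K g hK hn ih =>
    rcases ih with rfl | ⟨N, hN, hNp, hNK⟩
    · rw [bot_sup_eq] at hn ⊢
      by_cases hg : g = 1
      · left; rw [hg, Subgroup.zpowers_one_eq_bot]
      · right
        exact exists_normal_prime_card_of_zpowers_normal g hg hn
    · right
      exact ⟨N, hN, hNp, hNK.trans le_sup_left⟩

/-- A nontrivial finite supersolvable group has a normal subgroup of prime order. -/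
theorem exists_normal_prime_card_of_isSupersolvable {G : Type u} [Group G] [Finite G]
    [Nontrivial G] (hG : IsSupersolvable G) :
    ∃ N : Subgroup G, N.Normal ∧ (Nat.card N).Prime := by
  rw [isSupersolvable_iff_ssReach] at hG
  rcases hG.eq_bot_or_exists_normal_prime_card with h | ⟨N, hN, hNp, _⟩
  · exact absurd h.symm bot_ne_top
  · exact ⟨N, hN, hNp⟩

end Cfsg.Agent.Lib.Helper4

namespace Cfsg.Agent.Lib.Helper4
open Cfsg
universe u

/-- The image of a coatom containing the kernel is a coatom. -/
theorem isCoatom_map_of_ker_le {G : Type*} {G' : Type*} [Group G] [Group G'] (f : G →* G')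
    (hf : Function.Surjective f) {M : Subgroup G} (hM : IsCoatom M) (hker : f.ker ≤ M) :
    IsCoatom (M.map f) := by
  have hcm : (M.map f).comap f = M := by
    rw [Subgroup.comap_map_eq, sup_eq_left.mpr hker]
  refine ⟨?_, ?_⟩
  · intro h
    apply hM.1
    rw [← hcm, h, Subgroup.comap_top]
  · intro K hK
    have h1 : M ≤ K.comap f := by
      rw [← hcm]; exact Subgroup.comap_mono hK.le
    have h2 : M ≠ K.comap f := by
      intro h
      apply hK.ne
      rw [h, Subgroup.map_comap_eq_self_of_surjective hf]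
    have h3 := hM.2 _ (lt_of_le_of_ne h1 h2)
    rw [← Subgroup.map_comap_eq_self_of_surjective hf K, h3, Subgroup.map_top_of_surjective f hf]

theorem prime_index_of_isSupersolvable_aux : ∀ (n : ℕ) (G : Type u) [Group G] [Finite G],
    Nat.card G = n → IsSupersolvable G → ∀ M : Subgroup G, IsCoatom M → M.index.Prime := by
  intro n
  induction n using Nat.strong_induction_on with
  | _ n ih =>
  intro G _ _ hn hG M hM
  rcases subsingleton_or_nontrivial G with hs | hnt
  · exact absurd (Subsingleton.elim M ⊤) hM.1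
  obtain ⟨N, hN, hNp⟩ := exists_normal_prime_card_of_isSupersolvable hG
  by_cases hNM : N ≤ M
  · have hlt : Nat.card (G ⧸ N) < n := by
      rw [← hn, Subgroup.card_eq_card_quotient_mul_card_subgroup N]
      have : 0 < Nat.card (G ⧸ N) := Nat.card_pos
      have := hNp.one_lt
      nlinarith
    have hker : (QuotientGroup.mk' N).ker ≤ M := by rwa [QuotientGroup.ker_mk']
    have h1 := ih _ hlt (G ⧸ N) rfl (isSupersolvable_quotient hG N) _
      (isCoatom_map_of_ker_le (QuotientGroup.mk' N) (QuotientGroup.mk'_surjective N) hM hker)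
    rwa [Subgroup.index_map_eq _ (QuotientGroup.mk'_surjective N) hker] at h1
  · have hsup : M ⊔ N = ⊤ := by
      apply hM.2
      exact lt_of_le_of_ne le_sup_left (fun h => hNM (by rw [h]; exact le_sup_right))
    have hinf : M ⊓ N = ⊥ := by
      have h1 : Nat.card ↥(M ⊓ N) ∣ Nat.card N := Subgroup.card_dvd_of_le inf_le_right
      rcases (Nat.dvd_prime hNp).mp h1 with h | h
      · exact Subgroup.card_eq_one.mp h
      · exfalso
        apply hNM
        have : M ⊓ N = N := Subgroup.eq_of_le_of_card_ge inf_le_right h.ge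
        rw [← this]; exact inf_le_left
    have h2 := card_sup_mul_card_inf M N (by rw [Subgroup.normalizer_eq_top]; exact le_top)
    rw [hsup, hinf, Subgroup.card_bot, mul_one, Subgroup.card_top, ← M.card_mul_index] at h2
    have h3 : M.index = Nat.card N := Nat.eq_of_mul_eq_mul_left Nat.card_pos h2
    rwa [h3]

theorem prime_index_of_isSupersolvable {G : Type u} [Group G] [Finite G]
    (hG : IsSupersolvable G) (M : Subgroup G) (hM : IsCoatom M) : M.index.Prime :=
  prime_index_of_isSupersolvable_aux _ G rfl hG M hM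

end Cfsg.Agent.Lib.Helper4
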