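import Mathlib
import Cfsg.Agent.Lib.Helper4.Supersolvable2

set_option autoImplicit false

namespace Cfsg.Agent.Lib.Helper4
open Cfsg
universe u

theorem isSupersolvable_of_subsingleton {G : Type u} [Group G] [Subsingleton G] :
    IsSupersolvable G := by
  rw [isSupersolvable_iff_ssReach]
  have : (⊤ : Subgroup G) = ⊥ := Subsingleton.elim _ _
  rw [this]
  exact SSReach.bot

theorem card_quotient_lt_of_ne_bot' {G : Type u} [Group G] [Finite G] (C : Subgroup G) [C.Normal]
    (hC : C ≠ ⊥) : Nat.card (G ⧸ C) < Nat.card G := by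
  rw [Subgroup.card_eq_card_quotient_mul_card_subgroup C]
  have h1 : 0 < Nat.card (G ⧸ C) := Nat.card_pos
  have h2 : 1 < Nat.card C := by
    rw [Finite.one_lt_card_iff_nontrivial]
    exact (Subgroup.nontrivial_iff_ne_bot C).mpr hC
  nlinarith

/-- Finite `p`-groups are supersolvable. -/
theorem isSupersolvable_of_isPGroup_aux (p : ℕ) [Fact p.Prime] : ∀ (m : ℕ) (G : Type u) [Group G] [Finite G],
    Nat.card G = m → IsPGroup p G → IsSupersolvable G := by
  intro m
  induction m using Nat.strong_induction_on with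
  | _ m ih =>
  intro G _ _ hm hG
  rcases subsingleton_or_nontrivial G with hs | hnt
  · exact isSupersolvable_of_subsingleton
  have hc := hG.center_nontrivial
  obtain ⟨⟨z, hz⟩, hz1⟩ := exists_ne (1 : Subgroup.center G)
  have hz1' : z ≠ 1 := fun h => hz1 (Subtype.ext h)
  have hnorm : (Subgroup.zpowers z).Normal := by
    constructor
    intro y hy x
    have hyc : y ∈ Subgroup.center G := (Subgroup.zpowers_le.mpr hz) hy
    rw [Subgroup.mem_center_iff] at hyc
    rw [hyc x, mul_inv_cancel_right]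
    exact hy
  have hne : Subgroup.zpowers z ≠ ⊥ := by
    rwa [Ne, Subgroup.zpowers_eq_bot]
  have hlt : Nat.card (G ⧸ Subgroup.zpowers z) < m := by
    rw [← hm]; exact card_quotient_lt_of_ne_bot' _ hne
  have hQ : IsPGroup p (G ⧸ Subgroup.zpowers z) := hG.to_quotient _
  have := ih _ hlt (G ⧸ Subgroup.zpowers z) rfl hQ
  exact isSupersolvable_of_cyclic_normal (Subgroup.zpowers z) this

theorem isSupersolvable_of_isPGroup {G : Type u} [Group G] [Finite G] (p : ℕ) [Fact p.Prime]
    (hG : IsPGroup p G) : IsSupersolvable G :=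
  isSupersolvable_of_isPGroup_aux p _ G rfl hG

/-- If `P` has index 2, `w` centralizes `P`, and some `t ∉ P` conjugates `w` into `⟨w⟩`,
then `⟨w⟩` is normal. -/
theorem normal_zpowers_of_index_two {G : Type u} [Group G] (P : Subgroup G) (hP : P.index = 2)
    (w t : G) (hw : w ∈ Subgroup.centralizer (P : Set G)) (ht : t ∉ P)
    (htw : t * w * t⁻¹ ∈ Subgroup.zpowers w) : (Subgroup.zpowers w).Normal := by
  have key : ∀ g : G, g * w * g⁻¹ ∈ Subgroup.zpowers w := by
    intro g
    by_cases hg : g ∈ P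
    · have := hw g hg
      rw [this, mul_inv_cancel_right]
      exact Subgroup.mem_zpowers w
    · have hu : t⁻¹ * g ∈ P := by
        rw [Subgroup.mul_mem_iff_of_index_two hP, Subgroup.inv_mem_iff]
        exact ⟨fun h => absurd h ht, fun h => absurd h hg⟩
      have h1 := hw _ hu
      have h2 : g * w * g⁻¹ = t * w * t⁻¹ := by
        have : g = t * (t⁻¹ * g) := by group
        rw [this, mul_assoc t, h1]
        group
      rw [h2]; exact htw
  constructor
  intro y hy x
  rw [Subgroup.mem_zpowers_iff] at hy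
  obtain ⟨k, rfl⟩ := hy
  rw [← conj_zpow]
  exact Subgroup.zpow_mem _ (key x) k

end Cfsg.Agent.Lib.Helper4

namespace Cfsg.Agent.Lib.Helper4
open Cfsg
universe u

theorem isSupersolvable_of_card_two_mul_prime_pow_aux (p : ℕ) [Fact p.Prime] (hp2 : p ≠ 2) :
    ∀ (m : ℕ) (G : Type u) [Group G] [Finite G] (n : ℕ), Nat.card G = m → m = 2 * p ^ n →
      IsSupersolvable G := by
  have hp : p.Prime := Fact.out
  intro m
  induction m using Nat.strong_induction_on with
  | _ m ih =>
  intro G _ _ n hm hmn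
  rcases Nat.eq_zero_or_pos n with rfl | hn
  · haveI : Fact (Nat.Prime 2) := ⟨Nat.prime_two⟩
    apply isSupersolvable_of_isPGroup 2
    apply IsPGroup.of_card (n := 1)
    rw [hm, hmn]; norm_num
  let P : Sylow p G := default
  have hfac : (Nat.card G).factorization p = n := by
    rw [hm, hmn, Nat.factorization_mul (by norm_num) (pow_ne_zero _ hp.ne_zero),
      Nat.factorization_pow, Finsupp.add_apply, Finsupp.smul_apply, hp.factorization_self,
      Nat.factorization_eq_zero_of_not_dvd]
    · simp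
    · intro h
      exact hp2 ((Nat.prime_dvd_prime_iff_eq hp Nat.prime_two).mp h)
  have hcP : Nat.card (P : Subgroup G) = p ^ n := by
    rw [← hfac]; exact P.card_eq_multiplicity
  have hidx : (P : Subgroup G).index = 2 := by
    have := (P : Subgroup G).card_mul_index
    rw [hcP, hm, hmn, mul_comm 2] at this
    exact Nat.eq_of_mul_eq_mul_left (pow_pos hp.pos n) this
  have hPn : (P : Subgroup G).Normal := Subgroup.normal_of_index_eq_two hidx
  have : Nontrivial (P : Subgroup G) := by
    rw [← Finite.one_lt_card_iff_nontrivial, hcP]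
    exact Nat.one_lt_pow hn.ne' hp.one_lt
  have hc := P.isPGroup'.center_nontrivial
  obtain ⟨⟨⟨x, hxP⟩, hxc⟩, hx1⟩ := exists_ne (1 : Subgroup.center (P : Subgroup G))
  have hx1' : x ≠ 1 := fun h => hx1 (Subtype.ext (Subtype.ext h))
  have hxC : x ∈ Subgroup.centralizer ((P : Subgroup G) : Set G) := by
    rw [Subgroup.mem_centralizer_iff]
    intro g hg
    have := Subgroup.mem_center_iff.mp hxc ⟨g, hg⟩
    exact congrArg Subtype.val this
  obtain ⟨t, ht⟩ : ∃ t : G, t ∉ (P : Subgroup G) := by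
    by_contra hall
    push Not at hall
    have : (P : Subgroup G) = ⊤ := by
      rw [eq_top_iff]; intro g _; exact hall g
    rw [this, Subgroup.index_top] at hidx
    norm_num at hidx
  have ht2 : t ^ 2 ∈ (P : Subgroup G) := Subgroup.sq_mem_of_index_two hidx t
  have hx'P : t * x * t⁻¹ ∈ (P : Subgroup G) := hPn.conj_mem x hxP t
  have hx'C : t * x * t⁻¹ ∈ Subgroup.centralizer ((P : Subgroup G) : Set G) :=
    (Subgroup.normal_centralizer (H := (P : Subgroup G))).conj_mem x hxC t
  have hcomm : (t * x * t⁻¹) * x = x * (t * x * t⁻¹) := hxC _ hx'P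
  have hty : t * (x * (t * x * t⁻¹)) * t⁻¹ = x * (t * x * t⁻¹) := by
    have h1 : t ^ 2 * x = x * t ^ 2 := hxC _ ht2
    have h2 : t * (x * (t * x * t⁻¹)) * t⁻¹ = (t * x * t⁻¹) * (t ^ 2 * x * (t ^ 2)⁻¹) := by
      rw [pow_two]; group
    rw [h2, h1, mul_inv_cancel_right, hcomm]
  -- choose w
  obtain ⟨w, hw1, hwP, hwC, htw⟩ : ∃ w : G, w ≠ 1 ∧ w ∈ (P : Subgroup G) ∧
      w ∈ Subgroup.centralizer ((P : Subgroup G) : Set G) ∧ t * w * t⁻¹ ∈ Subgroup.zpowers w := by
    by_cases hy : x * (t * x * t⁻¹) = 1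
    · refine ⟨x, hx1', hxP, hxC, ?_⟩
      have : t * x * t⁻¹ = x⁻¹ := by
        rw [eq_comm, inv_eq_iff_mul_eq_one]; exact hy
      rw [this]
      exact Subgroup.inv_mem _ (Subgroup.mem_zpowers x)
    · refine ⟨x * (t * x * t⁻¹), hy, Subgroup.mul_mem _ hxP hx'P, Subgroup.mul_mem _ hxC hx'C, ?_⟩
      rw [hty]
      exact Subgroup.mem_zpowers _
  have hCn : (Subgroup.zpowers w).Normal := normal_zpowers_of_index_two _ hidx w t hwC ht htw
  have hCP : Subgroup.zpowers w ≤ (P : Subgroup G) := Subgroup.zpowers_le.mpr hwP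
  have hCne : Subgroup.zpowers w ≠ ⊥ := by rwa [Ne, Subgroup.zpowers_eq_bot]
  obtain ⟨j, hj⟩ := IsPGroup.iff_card.mp (P.isPGroup'.to_le hCP)
  have hjn : j ≤ n := by
    have h1 : Nat.card (Subgroup.zpowers w) ∣ Nat.card (P : Subgroup G) := Subgroup.card_dvd_of_le hCP
    rw [hj, hcP] at h1
    exact (Nat.pow_dvd_pow_iff_le_right hp.one_lt).mp h1
  have hlt : Nat.card (G ⧸ Subgroup.zpowers w) < m := by
    rw [← hm]; exact card_quotient_lt_of_ne_bot' _ hCne
  have hQ : Nat.card (G ⧸ Subgroup.zpowers w) = 2 * p ^ (n - j) := by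
    have h1 := Subgroup.card_eq_card_quotient_mul_card_subgroup (Subgroup.zpowers w)
    rw [hm, hmn, hj] at h1
    have h2 : 2 * p ^ n = 2 * p ^ (n - j) * p ^ j := by
      rw [mul_assoc, ← pow_add, Nat.sub_add_cancel hjn]
    rw [h2] at h1
    exact (Nat.eq_of_mul_eq_mul_right (pow_pos hp.pos j) h1).symm
  have := ih _ hlt (G ⧸ Subgroup.zpowers w) (n - j) rfl hQ
  exact isSupersolvable_of_cyclic_normal (Subgroup.zpowers w) this

/-- A finite group of order `2 p^n` is supersolvable. -/
theorem isSupersolvable_of_card_two_mul_prime_pow {G : Type u} [Group G] [Finite G] (p n : ℕ)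
    (hp : p.Prime) (hG : Nat.card G = 2 * p ^ n) : IsSupersolvable G := by
  have : Fact p.Prime := ⟨hp⟩
  by_cases hp2 : p = 2
  · subst hp2
    apply isSupersolvable_of_isPGroup 2
    apply IsPGroup.of_card (n := n + 1)
    rw [hG, pow_succ, mul_comm]
  · exact isSupersolvable_of_card_two_mul_prime_pow_aux p hp2 _ G n rfl hG

end Cfsg.Agent.Lib.Helper4
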