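import Mathlib
import Cfsg.Agent.Lib.Helper4.Schmidt2
import Cfsg.Agent.Lib.Helper4.HallSystemQuot
import Cfsg.Agent.Lib.Helper4.SupersolvableOrder

set_option autoImplicit false
open Pointwise

namespace Cfsg.Agent.Lib.Helper4
open Cfsg.Agent.Lib.Helper1
universe u

theorem false_of_simple_proper_nilpotent {G : Type u} [Group G] [Finite G]
    (hnil : ∀ H : Subgroup G, H ≠ ⊤ → Group.IsNilpotent H)
    (hsimple : ∀ N : Subgroup G, N.Normal → N = ⊥ ∨ N = ⊤)
    (hnc : ¬ ∀ a b : G, a * b = b * a) : False := by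
  have hz : ∀ g : G, Subgroup.zpowers g ≠ ⊤ := by
    intro g hg
    apply hnc
    intro a b
    have ha : a ∈ Subgroup.zpowers g := by rw [hg]; trivial
    have hb : b ∈ Subgroup.zpowers g := by rw [hg]; trivial
    obtain ⟨i, rfl⟩ := Subgroup.mem_zpowers_iff.mp ha
    obtain ⟨j, rfl⟩ := Subgroup.mem_zpowers_iff.mp hb
    rw [← zpow_add, ← zpow_add, add_comm]
  have hTI := coatom_inf_eq_bot hnil hsimple
  have hne_bot : ∀ M : Subgroup G, IsCoatom M → M ≠ ⊥ := by
    intro M hM hbot
    apply hnc
    have h1 : ∀ g : G, g = 1 := by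
      intro g
      by_contra hg
      have h2 : (⊥ : Subgroup G) < Subgroup.zpowers g := by
        rw [bot_lt_iff_ne_bot]
        intro h
        exact hg (Subgroup.zpowers_eq_bot.mp h)
      rw [← hbot] at h2
      exact hz g (hM.2 _ h2)
    intro a b
    rw [h1 a, h1 b]
  have hself : ∀ M : Subgroup G, IsCoatom M → Subgroup.normalizer (M : Set G) = M := by
    intro M hM
    by_contra hne
    have h1 : M < Subgroup.normalizer (M : Set G) :=
      lt_of_le_of_ne Subgroup.le_normalizer (Ne.symm hne)
    have h2 := hM.2 _ h1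
    have hn : M.Normal := Subgroup.normalizer_eq_top_iff.mp h2
    rcases hsimple M hn with h3 | h3
    · exact hne_bot M hM h3
    · exact hM.1 h3
  have hmal : ∀ M : Subgroup G, IsCoatom M →
      ∀ a : G, a ∉ M → ∀ x ∈ M, a⁻¹ * x * a ∈ M → x = 1 := by
    intro M hM a ha x hx hxa
    have hc := isCoatom_conj_smul hM a
    have hne : M ≠ MulAut.conj a • M := by
      intro h
      apply ha
      have : a ∈ Subgroup.normalizer (M : Set G) := by
        rw [mem_normalizer_iff_conj_smul]; exact h.symm
      rwa [hself M hM] at this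
    have h1 := hTI M _ hM hc hne
    have h2 : x ∈ M ⊓ MulAut.conj a • M :=
      Subgroup.mem_inf.mpr ⟨hx, (mem_conj_smul_iff M a x).mpr hxa⟩
    rw [h1, Subgroup.mem_bot] at h2
    exact h2
  -- counting data for a coatom
  have hcount : ∀ M : Subgroup G, IsCoatom M →
      (conjUnion M).ncard + M.index = Nat.card G ∧ 2 * M.index ≤ Nat.card G ∧ 2 ≤ M.index := by
    intro M hM
    refine ⟨ncard_conjUnion M (hmal M hM), ?_, ?_⟩
    · have h1 := M.card_mul_index
      have h2 : 1 < Nat.card M := M.one_lt_card_iff_ne_bot.mpr (hne_bot M hM)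
      rw [← h1]
      exact Nat.mul_le_mul_right _ h2
    · have h1 : M.index ≠ 1 := fun h => hM.1 (Subgroup.index_eq_one.mp h)
      have h2 : M.index ≠ 0 := Subgroup.index_ne_zero_of_finite
      omega
  have hbt : (⊥ : Subgroup G) ≠ ⊤ := by
    intro h
    apply hnc
    intro a b
    have ha : a ∈ (⊥ : Subgroup G) := by rw [h]; trivial
    have hb : b ∈ (⊥ : Subgroup G) := by rw [h]; trivial
    rw [Subgroup.mem_bot] at ha hb
    rw [ha, hb]
  obtain ⟨M, hM, -⟩ := (eq_top_or_exists_le_coatom (⊥ : Subgroup G)).resolve_left hbt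
  obtain ⟨hc1, hc2, hc3⟩ := hcount M hM
  -- an element outside
  have hex : ∃ x : G, x ≠ 1 ∧ x ∉ conjUnion M := by
    by_contra hcon
    push Not at hcon
    have h1 : insert (1 : G) (conjUnion M) = Set.univ := by
      rw [Set.eq_univ_iff_forall]
      intro x
      by_cases hx : x = 1
      · rw [hx]; exact Set.mem_insert _ _
      · exact Set.mem_insert_of_mem _ (hcon x hx)
    have h2 : (insert (1 : G) (conjUnion M)).ncard = (conjUnion M).ncard + 1 :=
      Set.ncard_insert_of_notMem (fun h => h.1 rfl) (Set.toFinite _)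
    rw [h1, Set.ncard_univ] at h2
    omega
  obtain ⟨x, hx1, hxU⟩ := hex
  obtain ⟨M', hM', hxM'⟩ := (eq_top_or_exists_le_coatom _).resolve_left (hz x)
  obtain ⟨hc1', hc2', hc3'⟩ := hcount M' hM'
  have hdisj : Disjoint (conjUnion M) (conjUnion M') := by
    rw [Set.disjoint_left]
    rintro g ⟨hg1, a, ha⟩ ⟨-, b, hb⟩
    apply hg1
    have hca := isCoatom_conj_smul hM a
    have hcb := isCoatom_conj_smul hM' b
    have hne : MulAut.conj a • M ≠ MulAut.conj b • M' := by
      intro h
      apply hxU
      refine ⟨hx1, b⁻¹ * a, ?_⟩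
      have h1 : x ∈ M' := hxM' (Subgroup.mem_zpowers x)
      have h2 : b * x * b⁻¹ ∈ MulAut.conj b • M' := by
        rw [mem_conj_smul_iff]
        have : b⁻¹ * (b * x * b⁻¹) * b = x := by group
        rw [this]; exact h1
      rw [← h, mem_conj_smul_iff] at h2
      have : (b⁻¹ * a)⁻¹ * x * (b⁻¹ * a) = a⁻¹ * (b * x * b⁻¹) * a := by group
      rw [this]; exact h2
    have h1 := hTI _ _ hca hcb hne
    have h2 : g ∈ MulAut.conj a • M ⊓ MulAut.conj b • M' :=
      Subgroup.mem_inf.mpr ⟨(mem_conj_smul_iff M a g).mpr ha, (mem_conj_smul_iff M' b g).mpr hb⟩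
    rw [h1, Subgroup.mem_bot] at h2
    exact h2
  have h3 : (conjUnion M ∪ conjUnion M').ncard = (conjUnion M).ncard + (conjUnion M').ncard :=
    Set.ncard_union_eq hdisj (Set.toFinite _) (Set.toFinite _)
  have h4 : (insert (1 : G) (conjUnion M ∪ conjUnion M')).ncard =
      (conjUnion M ∪ conjUnion M').ncard + 1 := by
    apply Set.ncard_insert_of_notMem _ (Set.toFinite _)
    rintro (h | h)
    · exact h.1 rfl
    · exact h.1 rfl
  have h5 : (insert (1 : G) (conjUnion M ∪ conjUnion M')).ncard ≤ Nat.card G := by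
    rw [← Set.ncard_univ]
    exact Set.ncard_le_ncard (Set.subset_univ _) (Set.toFinite _)
  omega

end Cfsg.Agent.Lib.Helper4

namespace Cfsg.Agent.Lib.Helper4
universe u

theorem isSolvable_of_proper_nilpotent_aux : ∀ (n : ℕ) (G : Type u) [Group G] [Finite G],
    Nat.card G = n → (∀ H : Subgroup G, H ≠ ⊤ → Group.IsNilpotent H) → Group.IsSolvable G := by
  intro n
  induction n using Nat.strong_induction_on with
  | _ n ih =>
    intro G _ _ hcard hnil
    by_cases hsimple : ∀ N : Subgroup G, N.Normal → N = ⊥ ∨ N = ⊤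
    · by_cases hc : ∀ a b : G, a * b = b * a
      · exact Group.isSolvable_of_comm hc
      · exact (false_of_simple_proper_nilpotent hnil hsimple hc).elim
    · push Not at hsimple
      obtain ⟨N, hNn, hNb, hNt⟩ := hsimple
      have hN : Group.IsNilpotent N := hnil N hNt
      have hNs : Group.IsSolvable N := inferInstance
      have hQ : Group.IsSolvable (G ⧸ N) := by
        apply ih (Nat.card (G ⧸ N)) _ (G ⧸ N) rfl
        · intro Kb hKb
          have hK : Kb.comap (QuotientGroup.mk' N) ≠ ⊤ := by
            intro h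
            apply hKb
            rw [eq_top_iff]
            intro y _
            obtain ⟨x, rfl⟩ := QuotientGroup.mk'_surjective N y
            have : x ∈ Kb.comap (QuotientGroup.mk' N) := by rw [h]; trivial
            exact this
          have := hnil _ hK
          exact Group.nilpotent_of_surjective ((QuotientGroup.mk' N).subgroupComap Kb)
            (MonoidHom.subgroupComap_surjective_of_surjective _ _ (QuotientGroup.mk'_surjective N))
        · rw [← hcard]; exact card_quotient_lt_of_ne_bot' N hNb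
      exact (Group.isSolvable_iff_subgroup_quotient N).mpr ⟨hNs, hQ⟩

theorem isSolvable_of_proper_nilpotent {G : Type u} [Group G] [Finite G]
    (h : ∀ H : Subgroup G, H ≠ ⊤ → Group.IsNilpotent H) : Group.IsSolvable G :=
  isSolvable_of_proper_nilpotent_aux _ G rfl h

end Cfsg.Agent.Lib.Helper4
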