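import Mathlib
import Cfsg.Agent.Lib.Helper4.Schmidt3
import Cfsg.Agent.Lib.Helper1.Fitting
import Cfsg.Agent.Lib.Helper23.SylowCount

set_option autoImplicit false
open Pointwise
open scoped commutatorElement

namespace Cfsg.Agent.Lib.Helper4
open Cfsg.Agent.Lib.Helper1
universe u

/-- in a finite nilpotent group, a `p`-subgroup and a `q`-subgroup commute elementwise -/
theorem commute_of_nilpotent_of_pgroups {H : Type u} [Group H] [Finite H]
    (hH : Group.IsNilpotent H) {p q : ℕ} [Fact p.Prime] [Fact q.Prime] (hpq : p ≠ q)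
    (A B : Subgroup H) (hA : IsPGroup p A) (hB : IsPGroup q B) :
    ∀ a ∈ A, ∀ b ∈ B, a * b = b * a := by
  obtain ⟨P, hAP⟩ := hA.exists_le_sylow
  obtain ⟨Q, hBQ⟩ := hB.exists_le_sylow
  have hall := (Group.isNilpotent_of_finite_tfae (G := H)).out 0 3 |>.mp hH
  have hPn : (P : Subgroup H).Normal := hall p inferInstance P
  have hQn : (Q : Subgroup H).Normal := hall q inferInstance Q
  have hdis : Disjoint (P : Subgroup H) (Q : Subgroup H) :=
    IsPGroup.disjoint_of_ne p q hpq _ _ P.2 Q.2
  intro a ha b hb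
  exact Subgroup.commute_of_normal_of_disjoint _ _ hPn hQn hdis a b (hAP ha) (hBQ hb)

theorem commute_of_nilpotent_le {G : Type u} [Group G] [Finite G] (L : Subgroup G)
    (hL : Group.IsNilpotent L) {p q : ℕ} [Fact p.Prime] [Fact q.Prime] (hpq : p ≠ q)
    (A B : Subgroup G) (hAL : A ≤ L) (hBL : B ≤ L) (hA : IsPGroup p A) (hB : IsPGroup q B) :
    ∀ a ∈ A, ∀ b ∈ B, a * b = b * a := by
  intro a ha b hb
  have h := commute_of_nilpotent_of_pgroups hL hpq (A.subgroupOf L) (B.subgroupOf L)
    hA.comap_subtype hB.comap_subtype ⟨a, hAL ha⟩ (Subgroup.mem_subgroupOf.mpr ha)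
    ⟨b, hBL hb⟩ (Subgroup.mem_subgroupOf.mpr hb)
  exact congrArg Subtype.val h

/-- a Sylow subgroup contained in a nilpotent normal subgroup is normal -/
theorem sylow_normal_of_le_normal_nilpotent {G : Type u} [Group G] [Finite G] {q : ℕ}
    [Fact q.Prime] (M : Subgroup G) [hMn : M.Normal] (hM : Group.IsNilpotent M) (Q : Sylow q G)
    (hQM : (Q : Subgroup G) ≤ M) : (Q : Subgroup G).Normal := by
  have hall := (Group.isNilpotent_of_finite_tfae (G := M)).out 0 3 |>.mp hM
  have h1 : ((Q.subtype hQM : Sylow q M) : Subgroup M).Normal := hall q inferInstance _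
  have h2 : ((Q.subtype hQM : Sylow q M) : Subgroup M).Characteristic :=
    Sylow.characteristic_of_normal _ h1
  have h3 : (((Q.subtype hQM : Sylow q M) : Subgroup M).map M.subtype).Normal :=
    ConjAct.normal_of_characteristic_of_normal
  rw [Sylow.coe_subtype, Subgroup.map_subgroupOf_eq_of_le hQM] at h3
  exact h3

/-- a normal maximal subgroup has prime index -/
theorem index_prime_of_normal_coatom {G : Type u} [Group G] [Finite G] (M : Subgroup G)
    [hMn : M.Normal] (hM : IsCoatom M) : M.index.Prime := by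
  have hn1 : M.index ≠ 1 := fun h => hM.1 (Subgroup.index_eq_one.mp h)
  set p := Nat.minFac M.index with hp
  have hpp : p.Prime := Nat.minFac_prime hn1
  have : Fact p.Prime := ⟨hpp⟩
  have hpd : p ∣ Nat.card (G ⧸ M) := by
    rw [← Subgroup.index_eq_card]; exact Nat.minFac_dvd _
  obtain ⟨yb, hyb⟩ := exists_prime_orderOf_dvd_card' p hpd
  obtain ⟨y, rfl⟩ := QuotientGroup.mk'_surjective M yb
  set L : Subgroup G := (Subgroup.zpowers (QuotientGroup.mk' M y)).comap (QuotientGroup.mk' M)
    with hL
  have hML : M ≤ L := by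
    intro x hx
    rw [hL, Subgroup.mem_comap]
    have : QuotientGroup.mk' M x = 1 := (QuotientGroup.eq_one_iff x).mpr hx
    rw [this]; exact Subgroup.one_mem _
  have hyL : y ∈ L := by
    rw [hL, Subgroup.mem_comap]; exact Subgroup.mem_zpowers _
  have hyM : y ∉ M := by
    intro h
    have : QuotientGroup.mk' M y = 1 := (QuotientGroup.eq_one_iff y).mpr h
    rw [this, orderOf_one] at hyb
    exact hpp.one_lt.ne hyb
  have hlt : M < L := lt_of_le_of_ne hML (fun h => hyM (h ▸ hyL))
  have hLtop := hM.2 _ hlt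
  have hz : Subgroup.zpowers (QuotientGroup.mk' M y) = ⊤ := by
    rw [eq_top_iff]
    intro zb _
    obtain ⟨z, rfl⟩ := QuotientGroup.mk'_surjective M zb
    have : z ∈ L := by rw [hLtop]; trivial
    exact this
  have hcard : Nat.card (G ⧸ M) = p := by
    rw [← hyb, ← Nat.card_zpowers, hz, Subgroup.card_top]
  rw [Subgroup.index_eq_card, hcard]
  exact hpp

end Cfsg.Agent.Lib.Helper4
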