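import Mathlib
import Cfsg.Agent.Lib.Helper4.Schmidt4
import Cfsg.Agent.Lib.Helper4.Basic

set_option autoImplicit false
open Pointwise
open scoped commutatorElement

namespace Cfsg.Agent.Lib.Helper4
open Cfsg.Agent.Lib.Helper1
universe u

/-- for a `p`-subgroup `A` and a normal `q`-subgroup `Q`: `|AQ| = |A| |Q|` -/
theorem card_sup_of_pgroups {G : Type u} [Group G] [Finite G] {p q : ℕ} [Fact p.Prime]
    [Fact q.Prime] (hpq : p ≠ q) (A Q : Subgroup G) [hQn : Q.Normal] (hA : IsPGroup p A)
    (hQ : IsPGroup q Q) : Nat.card (A ⊔ Q : Subgroup G) = Nat.card A * Nat.card Q := by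
  have h1 : A ≤ Subgroup.normalizer (Q : Set G) := by
    rw [Subgroup.normalizer_eq_top_iff.mpr hQn]; exact le_top
  have h2 := card_sup_mul_card_inf A Q h1
  have h3 : A ⊓ Q = ⊥ := disjoint_iff.mp (IsPGroup.disjoint_of_ne p q hpq _ _ hA hQ)
  rw [h3, Subgroup.card_bot, mul_one] at h2
  exact h2

theorem schmidt_structure {G : Type u} [Group G] [Finite G]
    (hnn : ¬ Group.IsNilpotent G) (hnil : ∀ H : Subgroup G, H ≠ ⊤ → Group.IsNilpotent H) :
    ∃ p q : ℕ, p.Prime ∧ q.Prime ∧ p ≠ q ∧ ∃ (P : Sylow p G) (Q : Sylow q G),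
      IsCyclic P ∧ (Q : Subgroup G).Normal ∧ (P : Subgroup G) ⊔ Q = ⊤ := by
  have hsol : Group.IsSolvable G := isSolvable_of_proper_nilpotent hnil
  have hnt : Nontrivial G := by
    by_contra h
    rw [not_nontrivial_iff_subsingleton] at h
    exact hnn inferInstance
  have hlt := Group.IsSolvable.commutator_lt_top_of_nontrivial G
  obtain ⟨M, hMc, hGM⟩ := (eq_top_or_exists_le_coatom (commutator G)).resolve_left hlt.ne
  have hMn : M.Normal := by
    refine ⟨fun x hx g => ?_⟩
    have h1 : ⁅g, x⁆ ∈ M := by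
      apply hGM
      rw [commutator_def]
      exact Subgroup.commutator_mem_commutator (Subgroup.mem_top g) (Subgroup.mem_top x)
    have h2 : g * x * g⁻¹ = ⁅g, x⁆ * x := by
      rw [commutatorElement_def]; group
    rw [h2]
    exact M.mul_mem h1 hx
  have hpp : M.index.Prime := index_prime_of_normal_coatom M hMc
  set p := M.index with hp
  have : Fact p.Prime := ⟨hpp⟩
  have hM : Group.IsNilpotent M := hnil M hMc.1
  have hQn : ∀ (q : ℕ) [Fact q.Prime], q ≠ p → ∀ Q : Sylow q G, (Q : Subgroup G).Normal := by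
    intro q hq hqp Q
    have hQM : (Q : Subgroup G) ≤ M := by
      apply Cfsg.Agent.Lib.Helper23.sylow_le_of_normal_of_not_dvd_index q M _ Q
      intro h
      exact hqp ((Nat.prime_dvd_prime_iff_eq hq.out hpp).mp h)
    exact sylow_normal_of_le_normal_nilpotent M hM Q hQM
  let P : Sylow p G := default
  have hPn : ¬ (P : Subgroup G).Normal := by
    intro h
    apply hnn
    apply (Group.isNilpotent_of_finite_tfae (G := G)).out 3 0 |>.mp
    intro r hr R
    by_cases hrp : r = p
    · subst hrp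
      have := Sylow.unique_of_normal P h
      rw [Subsingleton.elim R P]
      exact h
    · exact hQn r hrp R
  have hex : ∃ (q : ℕ) (_ : Fact q.Prime), q ≠ p ∧ ∃ Q : Sylow q G,
      (P : Subgroup G) ⊔ Q = ⊤ := by
    by_contra hcon
    push Not at hcon
    apply hPn
    rw [← Subgroup.normalizer_eq_top_iff]
    apply eq_top_of_forall_sylow_le
    intro r hr
    by_cases hrp : r = p
    · subst hrp
      exact ⟨P, Subgroup.le_normalizer⟩
    · let R : Sylow r G := default
      refine ⟨R, ?_⟩
      have hne := hcon r hr hrp R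
      have hH := hnil _ hne
      have hcomm := commute_of_nilpotent_le _ hH (Ne.symm hrp) (P : Subgroup G) (R : Subgroup G)
        le_sup_left le_sup_right P.2 R.2
      refine le_trans ?_ (Subgroup.centralizer_le_normalizer (P : Set G))
      intro b hb
      rw [Subgroup.mem_centralizer_iff]
      intro a ha
      exact hcomm a ha b hb
  obtain ⟨q, hq, hqp, Q, hPQ⟩ := hex
  have hQnorm : (Q : Subgroup G).Normal := hQn q hqp Q
  refine ⟨p, q, hpp, hq.out, Ne.symm hqp, P, Q, ?_, hQnorm, hPQ⟩
  by_contra hcyc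
  apply hPn
  rw [← Subgroup.normalizer_eq_top_iff, eq_top_iff, ← hPQ]
  apply sup_le Subgroup.le_normalizer
  refine le_trans ?_ (Subgroup.centralizer_le_normalizer (P : Set G))
  intro b hb
  rw [Subgroup.mem_centralizer_iff]
  intro a ha
  have hza : Subgroup.zpowers a ≤ (P : Subgroup G) := by
    rw [Subgroup.zpowers_le]; exact ha
  have hzp : IsPGroup p (Subgroup.zpowers a) := P.2.to_le hza
  have hL : Subgroup.zpowers a ⊔ (Q : Subgroup G) ≠ ⊤ := by
    intro h
    apply hcyc
    have h1 := card_sup_of_pgroups (Ne.symm hqp) (Subgroup.zpowers a) (Q : Subgroup G) hzp Q.2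
    have h2 := card_sup_of_pgroups (Ne.symm hqp) (P : Subgroup G) (Q : Subgroup G) P.2 Q.2
    rw [h] at h1
    rw [hPQ, h1] at h2
    have h3 : Nat.card (Subgroup.zpowers a) = Nat.card (P : Subgroup G) :=
      Nat.eq_of_mul_eq_mul_right Nat.card_pos h2
    have h4 : Subgroup.zpowers a = (P : Subgroup G) :=
      Subgroup.eq_of_le_of_card_ge hza h3.ge
    rw [← h4]
    infer_instance
  have hH := hnil _ hL
  exact commute_of_nilpotent_le _ hH (Ne.symm hqp) (Subgroup.zpowers a) (Q : Subgroup G)
    le_sup_left le_sup_right hzp Q.2 a (Subgroup.mem_zpowers a) b hb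

end Cfsg.Agent.Lib.Helper4
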