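import Mathlib
import Cfsg.Prelude.Def_Transfer
import Cfsg.Agent.Lib.Helper4.Schmidt5
import Cfsg.Agent.Lib.Helper4.ElemAb
import Cfsg.Agent.Lib.Helper1.CoprimeAbelian
import Cfsg.Agent.Lib.Helper1.Commutator

set_option autoImplicit false
open Pointwise
open scoped commutatorElement

namespace Cfsg.Agent.Lib.Helper4
open Cfsg Cfsg.Agent.Lib.Helper1
universe u

theorem comm_of_isMulCommutative {G : Type u} [Group G] (H : Subgroup G) (h : IsMulCommutative H) :
    ∀ x ∈ H, ∀ y ∈ H, x * y = y * x :=
  fun x hx y hy => congrArg Subtype.val (mul_comm' (⟨x, hx⟩ : H) ⟨y, hy⟩)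

theorem isNilpotent_of_isMulCommutative {G : Type u} [Group G] (h : IsMulCommutative G) :
    Group.IsNilpotent G := by
  let _ : CommGroup G := { (inferInstance : Group G) with mul_comm := fun a b => mul_comm' a b }
  infer_instance

/-- a nilpotent finite group all of whose Sylow subgroups are abelian is abelian -/
theorem comm_of_nilpotent_of_sylow_comm {G : Type u} [Group G] [Finite G]
    (hG : Group.IsNilpotent G)
    (h : ∀ (p : ℕ) [Fact p.Prime] (P : Sylow p G), IsMulCommutative (P : Subgroup G)) :
    ∀ a b : G, a * b = b * a := by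
  obtain ⟨e⟩ := (Group.isNilpotent_of_finite_tfae (G := G)).out 0 4 |>.mp hG
  have hpi : ∀ f g : (∀ p : (Nat.card G).primeFactors, ∀ P : Sylow p G, (↑P : Subgroup G)),
      f * g = g * f := by
    intro f g
    funext p P
    have : Fact (p : ℕ).Prime := ⟨Nat.prime_of_mem_primeFactors p.2⟩
    have := h p P
    exact mul_comm' (f p P) (g p P)
  intro a b
  have := congrArg e (hpi (e.symm a) (e.symm b))
  simpa using this

end Cfsg.Agent.Lib.Helper4

namespace Cfsg.Agent.Lib.Helper4
open Cfsg Cfsg.Agent.Lib.Helper1
universe u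

/-- the elements of order dividing `q` in a commutative subgroup -/
def omegaSub {G : Type u} [Group G] (Q : Subgroup G) (hQc : ∀ x ∈ Q, ∀ y ∈ Q, x * y = y * x)
    (q : ℕ) : Subgroup G where
  carrier := {y | y ∈ Q ∧ y ^ q = 1}
  mul_mem' := by
    rintro x y ⟨hx, hx1⟩ ⟨hy, hy1⟩
    refine ⟨Q.mul_mem hx hy, ?_⟩
    have hc : Commute x y := hQc x hx y hy
    rw [hc.mul_pow, hx1, hy1, one_mul]
  one_mem' := ⟨Q.one_mem, one_pow _⟩
  inv_mem' := by
    rintro x ⟨hx, hx1⟩
    exact ⟨Q.inv_mem hx, by rw [inv_pow, hx1, inv_one]⟩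

theorem minimal_nonabelian_structure {G : Type u} [Group G] [Finite G]
    (hna : ¬ IsMulCommutative G) (h : ∀ H : Subgroup G, H ≠ ⊤ → IsMulCommutative H) :
    (∃ p : ℕ, p.Prime ∧ IsPGroup p G) ∨ ∃ p q : ℕ, p.Prime ∧ q.Prime ∧ p ≠ q ∧
      ∃ (P : Sylow p G) (Q : Sylow q G), IsCyclic P ∧ (Q : Subgroup G).Normal ∧
        IsElementaryAbelian q (Q : Subgroup G) ∧ (P : Subgroup G) ⊔ Q = ⊤ := by
  have hna' : ¬ ∀ a b : G, a * b = b * a := fun hc => hna ⟨⟨hc⟩⟩
  have hnil : ∀ H : Subgroup G, H ≠ ⊤ → Group.IsNilpotent H :=
    fun H hH => isNilpotent_of_isMulCommutative (h H hH)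
  have hpg : ∀ (p : ℕ) [Fact p.Prime] (P : Sylow p G), (P : Subgroup G) = ⊤ → IsPGroup p G := by
    intro p _ P htop g
    obtain ⟨k, hk⟩ := P.2 ⟨g, htop ▸ Subgroup.mem_top g⟩
    exact ⟨k, by simpa using congrArg Subtype.val hk⟩
  by_cases hG : Group.IsNilpotent G
  · left
    by_contra hcon
    push Not at hcon
    apply hna'
    apply comm_of_nilpotent_of_sylow_comm hG
    intro p hp P
    apply h
    intro htop
    exact hcon p hp.out (hpg p P htop)
  · right
    obtain ⟨p, q, hp, hq, hpq, P, Q, hPc, hQn, hPQ⟩ := schmidt_structure hG hnil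
    refine ⟨p, q, hp, hq, hpq, P, Q, hPc, hQn, ?_, hPQ⟩
    have : Fact p.Prime := ⟨hp⟩
    have : Fact q.Prime := ⟨hq⟩
    have hQtop : (Q : Subgroup G) ≠ ⊤ := fun htop => hG (hpg q Q htop).isNilpotent
    have hPtop : (P : Subgroup G) ≠ ⊤ := fun htop => hG (hpg p P htop).isNilpotent
    have hQcomm : IsMulCommutative (Q : Subgroup G) := h _ hQtop
    have hQc := comm_of_isMulCommutative _ (h _ hQtop)
    have hPc' := comm_of_isMulCommutative _ (h _ hPtop)
    have key : ∀ X : Subgroup G, X.Normal → X ≤ (Q : Subgroup G) → X ≠ (Q : Subgroup G) →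
        ∀ x ∈ X, ∀ a ∈ (P : Subgroup G), a * x = x * a := by
      intro X hXn hXQ hXne
      have hXq : IsPGroup q X := Q.2.to_le hXQ
      have hL : (P : Subgroup G) ⊔ X ≠ ⊤ := by
        intro htop
        have h1 := card_sup_of_pgroups hpq (P : Subgroup G) X P.2 hXq
        have h2 := card_sup_of_pgroups hpq (P : Subgroup G) (Q : Subgroup G) P.2 Q.2
        rw [htop] at h1
        rw [hPQ, h1] at h2
        have h3 : Nat.card X = Nat.card (Q : Subgroup G) :=
          Nat.eq_of_mul_eq_mul_left Nat.card_pos h2
        exact hXne (Subgroup.eq_of_le_of_card_ge hXQ h3.ge)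
      have hc := comm_of_isMulCommutative _ (h _ hL)
      intro x hx a ha
      exact hc a (le_sup_left (a := (P : Subgroup G)) ha) x (le_sup_right (b := X) hx)
    have hncent : ¬ ∀ x ∈ (Q : Subgroup G), ∀ a ∈ (P : Subgroup G), a * x = x * a := by
      intro hcent
      apply hna'
      have hcen : (⊤ : Subgroup G) ≤ Subgroup.center G := by
        rw [← hPQ]
        apply sup_le
        · intro a ha
          rw [Subgroup.mem_center_iff]
          have h1 : (⊤ : Subgroup G) ≤ Subgroup.centralizer ({a} : Set G) := by
            rw [← hPQ]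
            apply sup_le
            · intro b hb
              rw [Subgroup.mem_centralizer_iff]
              intro y hy
              rw [Set.mem_singleton_iff] at hy
              subst hy
              exact hPc' y ha b hb
            · intro x hx
              rw [Subgroup.mem_centralizer_iff]
              intro y hy
              rw [Set.mem_singleton_iff] at hy
              subst hy
              exact hcent x hx y ha
          intro g
          have := h1 (Subgroup.mem_top g)
          rw [Subgroup.mem_centralizer_iff] at this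
          exact (this a rfl).symm
        · intro x hx
          rw [Subgroup.mem_center_iff]
          have h1 : (⊤ : Subgroup G) ≤ Subgroup.centralizer ({x} : Set G) := by
            rw [← hPQ]
            apply sup_le
            · intro b hb
              rw [Subgroup.mem_centralizer_iff]
              intro y hy
              rw [Set.mem_singleton_iff] at hy
              subst hy
              exact (hcent y hx b hb).symm
            · intro z hz
              rw [Subgroup.mem_centralizer_iff]
              intro y hy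
              rw [Set.mem_singleton_iff] at hy
              subst hy
              exact hQc y hx z hz
          intro g
          have := h1 (Subgroup.mem_top g)
          rw [Subgroup.mem_centralizer_iff] at this
          exact (this x rfl).symm
      intro a b
      have := hcen (Subgroup.mem_top b)
      rw [Subgroup.mem_center_iff] at this
      exact this a
    have hPnQ : (P : Subgroup G) ≤ Subgroup.normalizer ((Q : Subgroup G) : Set G) := by
      rw [Subgroup.normalizer_eq_top_iff.mpr hQn]; exact le_top
    have hcop : (Nat.card (P : Subgroup G)).Coprime (Nat.card (Q : Subgroup G)) := by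
      obtain ⟨a, ha⟩ := (IsPGroup.iff_card).mp P.2
      obtain ⟨b, hb⟩ := (IsPGroup.iff_card).mp Q.2
      rw [ha, hb]
      exact Nat.Coprime.pow _ _ ((Nat.coprime_primes hp hq).mpr hpq)
    have hcc := centralizer_inf_commutator_eq_bot (P : Subgroup G) (Q : Subgroup G) hPnQ hcop
    set C := ⁅(Q : Subgroup G), (P : Subgroup G)⁆ with hC
    have hCQ : C ≤ (Q : Subgroup G) := Subgroup.commutator_le_left _ _
    have hCn : C.Normal := by
      rw [← Subgroup.normalizer_eq_top_iff, eq_top_iff, ← hPQ]
      exact sup_le (le_normalizer_commutator_right _ _) (le_normalizer_commutator_left _ _)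
    have hCeq : C = (Q : Subgroup G) := by
      by_contra hne
      have h1 := key C hCn hCQ hne
      have h3 : C = ⊥ := by
        rw [eq_bot_iff, ← hcc]
        intro x hx
        refine Subgroup.mem_inf.mpr ⟨Subgroup.mem_inf.mpr ⟨hCQ hx, ?_⟩, hx⟩
        rw [Subgroup.mem_centralizer_iff]
        intro a ha
        exact h1 x hx a ha
      apply hncent
      intro x hx a ha
      have h4 : ⁅x, a⁆ ∈ C := Subgroup.commutator_mem_commutator hx ha
      rw [h3, Subgroup.mem_bot, commutatorElement_def] at h4
      have : x * a = (x * a * x⁻¹ * a⁻¹) * (a * x) := by group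
      rw [this, h4, one_mul]
    have hcen : (Q : Subgroup G) ⊓ Subgroup.centralizer ((P : Subgroup G) : Set G) = ⊥ := by
      rw [hCeq] at hcc
      rw [eq_bot_iff, ← hcc]
      intro x hx
      exact Subgroup.mem_inf.mpr ⟨hx, (Subgroup.mem_inf.mp hx).1⟩
    -- Ω₁(Q)
    set K := omegaSub (Q : Subgroup G) hQc q with hK
    have hKQ : K ≤ (Q : Subgroup G) := fun y hy => hy.1
    have hKn : K.Normal := by
      refine ⟨fun y hy g => ?_⟩
      refine ⟨hQn.conj_mem y hy.1 g, ?_⟩
      rw [conj_pow, hy.2]; group
    have hQbot : (Q : Subgroup G) ≠ ⊥ := by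
      intro hbot
      apply hPtop
      rw [← hPQ, hbot, sup_bot_eq]
    have hKbot : K ≠ ⊥ := by
      obtain ⟨n, hn⟩ := (IsPGroup.iff_card).mp Q.2
      have hqd : q ∣ Nat.card (Q : Subgroup G) := by
        rw [hn]
        apply dvd_pow_self
        rintro rfl
        rw [pow_zero] at hn
        exact hQbot (Subgroup.card_eq_one.mp hn)
      obtain ⟨y, hy⟩ := exists_prime_orderOf_dvd_card' q hqd
      intro hbot
      have hyK : (y : G) ∈ K := by
        refine ⟨y.2, ?_⟩
        have h1 : y ^ q = 1 := by
          have h0 := pow_orderOf_eq_one y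
          rwa [hy] at h0
        have := congrArg Subtype.val h1
        simpa using this
      rw [hbot, Subgroup.mem_bot] at hyK
      have hy1 : y = 1 := Subtype.ext hyK
      rw [hy1, orderOf_one] at hy
      exact hq.one_lt.ne hy
    have hKeq : K = (Q : Subgroup G) := by
      by_contra hne
      have h1 := key K hKn hKQ hne
      apply hKbot
      rw [eq_bot_iff, ← hcen]
      intro x hx
      refine Subgroup.mem_inf.mpr ⟨hKQ hx, ?_⟩
      rw [Subgroup.mem_centralizer_iff]
      intro a ha
      exact h1 x hx a ha
    apply elemAb_of_comm hQc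
    intro a ha
    rw [← hKeq] at ha
    exact ha.2

end Cfsg.Agent.Lib.Helper4
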