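import Mathlib
import Cfsg.Prelude.Def_Transfer
import Cfsg.Agent.Lib.Helper18.PowerMap
import Cfsg.Agent.Lib.Helper20.NormalRankTwo
import Cfsg.Agent.Lib.Helper12.Basic

set_option autoImplicit false
open Cfsg

namespace Cfsg.Agent.Lib.Helper4

universe u

/-- In a finite `p`-group, between normal subgroups `M < S` there is a normal `B` with
`|B : M| = p`. -/
theorem exists_normal_step {R : Type u} [Group R] [Finite R] {p : ℕ} [Fact p.Prime]
    (hR : IsPGroup p R) (M S : Subgroup R) [M.Normal] [S.Normal] (hMS : M ≤ S) (hne : M ≠ S) :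
    ∃ B : Subgroup R, B.Normal ∧ M ≤ B ∧ B ≤ S ∧ Nat.card B = p * Nat.card M := by
  have hp : p.Prime := Fact.out
  have hQ : IsPGroup p (R ⧸ M) := hR.to_quotient M
  set Sb := S.map (QuotientGroup.mk' M) with hSb
  have : Sb.Normal := Subgroup.Normal.map inferInstance _ (QuotientGroup.mk'_surjective M)
  have hSbne : Sb ≠ ⊥ := by
    intro h
    apply hne
    apply le_antisymm hMS
    intro s hs
    have h1 : QuotientGroup.mk' M s ∈ Sb := Subgroup.mem_map_of_mem _ hs
    rw [h, Subgroup.mem_bot, QuotientGroup.mk'_apply, QuotientGroup.eq_one_iff] at h1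
    exact h1
  obtain ⟨x, hxS, hx1, hxc⟩ := Cfsg.Agent.Lib.Helper12.exists_ne_one_mem_center_of_normal hQ Sb hSbne
  obtain ⟨k, hk⟩ := (IsPGroup.iff_orderOf.mp hQ) x
  have hk0 : k ≠ 0 := by
    rintro rfl
    rw [pow_zero, orderOf_eq_one_iff] at hk
    exact hx1 hk
  obtain ⟨j, rfl⟩ := Nat.exists_eq_succ_of_ne_zero hk0
  set y := x ^ (p ^ j) with hy
  have hyo : orderOf y = p := by
    rw [hy, orderOf_pow_of_dvd (pow_ne_zero _ hp.ne_zero) (by rw [hk]; exact pow_dvd_pow p (Nat.le_succ j)),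
      hk, pow_succ, Nat.mul_div_cancel_left _ (pow_pos hp.pos j)]
  have hZc : Subgroup.zpowers y ≤ Subgroup.center (R ⧸ M) := by
    rw [Subgroup.zpowers_le]; exact Subgroup.pow_mem _ hxc _
  have hZS : Subgroup.zpowers y ≤ Sb := by
    rw [Subgroup.zpowers_le]; exact Subgroup.pow_mem _ hxS _
  have hZn : (Subgroup.zpowers y).Normal := Cfsg.Agent.Lib.Helper20.normal_of_le_center' _ hZc
  refine ⟨(Subgroup.zpowers y).comap (QuotientGroup.mk' M), Subgroup.Normal.comap hZn _, ?_, ?_, ?_⟩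
  · intro m hm
    rw [Subgroup.mem_comap, QuotientGroup.mk'_apply, (QuotientGroup.eq_one_iff m).mpr hm]
    exact Subgroup.one_mem _
  · intro b hb
    rw [Subgroup.mem_comap] at hb
    obtain ⟨s, hs, hsb⟩ := hZS hb
    rw [QuotientGroup.mk'_apply, QuotientGroup.mk'_apply, QuotientGroup.eq] at hsb
    have h1 : b = s * (s⁻¹ * b) := by group
    rw [h1]
    exact S.mul_mem hs (hMS hsb)
  · rw [Cfsg.Agent.Lib.Helper20.card_comap_mk'_eq, Nat.card_zpowers, hyo]

end Cfsg.Agent.Lib.Helper4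

namespace Cfsg.Agent.Lib.Helper4

universe u

/-- For odd `p`, a noncyclic normal subgroup `S` of a `p`-group contains a normal (in the whole
group) subgroup of exponent `p` and order `p ^ 2`. -/
theorem exists_normal_elemAb_le_of_not_isCyclic {R : Type u} [Group R] [Finite R] {p : ℕ}
    [Fact p.Prime] (hp2 : p ≠ 2) (hR : IsPGroup p R) (S : Subgroup R) [S.Normal]
    (hS : ¬ IsCyclic S) :
    ∃ A : Subgroup R, A ≤ S ∧ A.Normal ∧ Cfsg.IsElementaryAbelian p A ∧ Nat.card A = p ^ 2 := by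
  classical
  have hp : p.Prime := Fact.out
  -- a maximal cyclic subgroup of `S` normal in `R`
  let F := {X : Subgroup R // X ≤ S ∧ X.Normal ∧ IsCyclic X}
  have : Nonempty F := ⟨⟨⊥, bot_le, inferInstance, inferInstance⟩⟩
  obtain ⟨⟨M, hMS, hMn, hMc⟩, hmax⟩ := Finite.exists_max (fun X : F => Nat.card X.1)
  have := hMn
  have hne : M ≠ S := by
    rintro rfl
    exact hS hMc
  obtain ⟨B, hBn, hMB, hBS, hBcard⟩ := exists_normal_step hR M S hMS hne
  have := hBn
  have hBnc : ¬ IsCyclic B := by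
    intro hBc
    have h1 := hmax ⟨B, hBS, hBn, hBc⟩
    simp only at h1
    rw [hBcard] at h1
    have h2 : 0 < Nat.card M := Nat.card_pos
    have h3 : 2 * Nat.card M ≤ p * Nat.card M := Nat.mul_le_mul_right _ hp.two_le
    omega
  -- `M` as a cyclic subgroup of index `p` of `B`
  have hCcyc : IsCyclic (M.subgroupOf B) :=
    (Subgroup.subgroupOfEquivOfLe hMB).symm.isCyclic.mp hMc
  have hCi : (M.subgroupOf B).index = p := by
    have h1 := (M.subgroupOf B).card_mul_index
    rw [Nat.card_congr (Subgroup.subgroupOfEquivOfLe hMB).toEquiv, hBcard, mul_comm] at h1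
    exact Nat.eq_of_mul_eq_mul_right Nat.card_pos h1
  obtain ⟨Ω, hΩ, hΩcard⟩ := Cfsg.Agent.Lib.Helper18.omega_of_cyclic_index_p hp2 (hR.to_subgroup B) hBnc
    (M.subgroupOf B) hCcyc hCi
  set N := Ω.map B.subtype with hN
  have hNB : N ≤ B := by
    rintro _ ⟨x, -, rfl⟩
    exact x.2
  have hNexp : ∀ x ∈ N, x ^ p = 1 := by
    rintro _ ⟨x, hx, rfl⟩
    have h1 := (hΩ x).mp hx
    have h2 := congrArg Subtype.val h1
    simpa using h2
  have hNmem : ∀ x, x ∈ B → x ^ p = 1 → x ∈ N := by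
    intro x hxB hxp
    refine ⟨⟨x, hxB⟩, (hΩ _).mpr ?_, rfl⟩
    apply Subtype.ext
    simpa using hxp
  have hNn : N.Normal := by
    constructor
    intro n hn g
    apply hNmem
    · exact hBn.conj_mem n (hNB hn) g
    · rw [conj_pow, hNexp n hn]; simp
  have hNcard : Nat.card N = p ^ 2 := by
    rw [hN, Subgroup.card_map_of_injective B.subtype_injective, hΩcard]
  have := hNn
  obtain ⟨A, hAN, hAn, hAc, hAexp, hAcard⟩ :=
    Cfsg.Agent.Lib.Helper20.exists_normal_elemAb_card_sq hR N hNexp (le_of_eq hNcard.symm)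
  exact ⟨A, hAN.trans (hNB.trans hBS), hAn, ⟨hAc, hAexp⟩, hAcard⟩

end Cfsg.Agent.Lib.Helper4
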