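import Mathlib
import Cfsg.Prelude.Def_Transfer
import Cfsg.Prelude.Def_PLocal
import Cfsg.Prelude.Def_OddOrderLocal
import Cfsg.Agent.Lib.Helper18.PowerMap
import Cfsg.Agent.Lib.Helper20.NormalRankTwo
import Cfsg.Agent.Lib.Helper9.Cyclic

set_option autoImplicit false
open Cfsg

namespace Cfsg.Agent.Lib.Helper4

universe u

/-- The elements whose `p`-th power lies in `N`, for `R ⧸ N` cyclic. -/
theorem exists_pow_mem_subgroup {R : Type u} [Group R] [Finite R] {p : ℕ} [Fact p.Prime]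
    (N : Subgroup R) [N.Normal] (hQ : IsCyclic (R ⧸ N)) :
    ∃ M : Subgroup R, N ≤ M ∧ (∀ x, x ∈ M ↔ x ^ p ∈ N) ∧
      (Nat.card M = Nat.card N ∨ Nat.card M = p * Nat.card N) := by
  have hp : p.Prime := Fact.out
  have hcomm : ∀ a b : R ⧸ N, Commute a b := fun a b => mul_comm' a b
  let Ωq : Subgroup (R ⧸ N) :=
    { carrier := {y | y ^ p = 1}
      one_mem' := one_pow p
      mul_mem' := by
        intro a b ha hb
        show (a * b) ^ p = 1
        rw [(hcomm a b).mul_pow, ha, hb, mul_one]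
      inv_mem' := by
        intro a ha
        show a⁻¹ ^ p = 1
        rw [inv_pow, ha, inv_one] }
  have hΩq : ∀ y, y ∈ Ωq ↔ y ^ p = 1 := fun y => Iff.rfl
  have hcardΩ : Nat.card Ωq = 1 ∨ Nat.card Ωq = p := by
    have h1 : IsCyclic Ωq := inferInstance
    have h2 : Monoid.exponent Ωq = Nat.card Ωq := IsCyclic.exponent_eq_card
    have h3 : Monoid.exponent Ωq ∣ p := by
      apply Monoid.exponent_dvd_of_forall_pow_eq_one
      intro g
      apply Subtype.ext
      simpa using (hΩq g.1).mp g.2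
    rw [h2] at h3
    exact (Nat.dvd_prime hp).mp h3
  refine ⟨Ωq.comap (QuotientGroup.mk' N), ?_, ?_, ?_⟩
  · intro n hn
    rw [Subgroup.mem_comap, QuotientGroup.mk'_apply, (QuotientGroup.eq_one_iff n).mpr hn]
    exact Subgroup.one_mem _
  · intro x
    rw [Subgroup.mem_comap, hΩq, QuotientGroup.mk'_apply, ← QuotientGroup.mk_pow,
      QuotientGroup.eq_one_iff]
  · rw [Cfsg.Agent.Lib.Helper20.card_comap_mk'_eq]
    rcases hcardΩ with h | h
    · left; rw [h, one_mul]
    · right; rw [h]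

end Cfsg.Agent.Lib.Helper4

namespace Cfsg.Agent.Lib.Helper4

universe u

theorem omegaOne_of_metacyclic {R : Type u} [Group R] [Finite R] {p : ℕ} [Fact p.Prime]
    (hp2 : p ≠ 2) (hR : IsPGroup p R) (hm : Cfsg.IsMetacyclic R) (hnc : ¬ IsCyclic R) :
    Cfsg.IsElementaryAbelian p (Cfsg.omegaOne p (⊤ : Subgroup R)) ∧
      Nat.card ↥(Cfsg.omegaOne p (⊤ : Subgroup R)) = p ^ 2 := by
  classical
  have hp : p.Prime := Fact.out
  obtain ⟨N, hNn, hNc, hQc⟩ := hm
  have := hNn
  obtain ⟨M, hNM, hM, hMcard⟩ := exists_pow_mem_subgroup (p := p) N hQc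
  have hmemM : ∀ x : R, x ^ p = 1 → x ∈ M := fun x hx => (hM x).mpr (hx ▸ N.one_mem)
  -- `M` is not cyclic
  have hMnc : ¬ IsCyclic M := by
    intro hMc
    obtain ⟨a, b, hab, hap, hbp, hb1, hanb⟩ :=
      Cfsg.Agent.Lib.Helper18.exists_rank_two_of_not_cyclic p hp2 (Nat.card R) R hR le_rfl hnc
    have haM := hmemM a hap
    have hbM := hmemM b hbp
    have hbo : orderOf (⟨b, hbM⟩ : M) = p := by
      apply orderOf_eq_prime
      · apply Subtype.ext; simpa using hbp
      · intro h; exact hb1 (congrArg Subtype.val h)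
    have h1 : (⟨a, haM⟩ : M) ∈ Subgroup.zpowers (⟨b, hbM⟩ : M) := by
      rw [Cfsg.Agent.Lib.Helper9.mem_iff_pow_card_eq_one_of_isCyclic, Nat.card_zpowers, hbo]
      apply Subtype.ext; simpa using hap
    obtain ⟨k, hk⟩ := Subgroup.mem_zpowers_iff.mp h1
    apply hanb
    rw [Subgroup.mem_zpowers_iff]
    refine ⟨k, ?_⟩
    have := congrArg Subtype.val hk
    simpa using this
  -- the index of `N` in `M` is `p`
  have hMcard' : Nat.card M = p * Nat.card N := by
    rcases hMcard with h | h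
    · exfalso
      have h1 : N = M := Subgroup.eq_of_le_of_card_ge hNM (le_of_eq h)
      exact hMnc (h1 ▸ hNc)
    · exact h
  have hCcyc : IsCyclic (N.subgroupOf M) :=
    (Subgroup.subgroupOfEquivOfLe hNM).symm.isCyclic.mp hNc
  have hCi : (N.subgroupOf M).index = p := by
    have h1 := (N.subgroupOf M).card_mul_index
    rw [Nat.card_congr (Subgroup.subgroupOfEquivOfLe hNM).toEquiv, hMcard', mul_comm] at h1
    exact Nat.eq_of_mul_eq_mul_right Nat.card_pos h1
  obtain ⟨Ω, hΩ, hΩcard⟩ := Cfsg.Agent.Lib.Helper18.omega_of_cyclic_index_p hp2 (hR.to_subgroup M) hMnc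
    (N.subgroupOf M) hCcyc hCi
  have hEq : Cfsg.omegaOne p (⊤ : Subgroup R) = Ω.map M.subtype := by
    unfold Cfsg.omegaOne
    apply le_antisymm
    · rw [Subgroup.closure_le]
      rintro x ⟨-, hx⟩
      refine ⟨⟨x, hmemM x hx⟩, (hΩ _).mpr ?_, rfl⟩
      apply Subtype.ext; simpa using hx
    · rintro _ ⟨x, hx, rfl⟩
      apply Subgroup.subset_closure
      refine ⟨Subgroup.mem_top _, ?_⟩
      have h1 := (hΩ x).mp hx
      have h2 := congrArg Subtype.val h1
      simpa using h2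
  have hcard : Nat.card ↥(Cfsg.omegaOne p (⊤ : Subgroup R)) = p ^ 2 := by
    rw [hEq, Subgroup.card_map_of_injective M.subtype_injective, hΩcard]
  refine ⟨⟨?_, ?_⟩, hcard⟩
  · exact IsPGroup.isMulCommutative_of_card_eq_prime_sq (p := p) hcard
  · rw [hEq]
    rintro _ ⟨x, hx, rfl⟩
    have h1 := (hΩ x).mp hx
    have h2 := congrArg Subtype.val h1
    simpa using h2

end Cfsg.Agent.Lib.Helper4
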