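import Mathlib

set_option autoImplicit false

namespace Cfsg.Agent.Lib.Helper4

open scoped Pointwise

/-- Frattini argument modulo a normal subgroup with nilpotent quotient: if `B ≤ A` are normal in `G`,
`A / B` is nilpotent and `P` is a Sylow subgroup of `A`, then `G = N_G(P) B`. -/
theorem normalizer_sup_eq_top_of_nilpotent_quotient {G : Type*} [Group G] [Finite G] {p : ℕ}
    [Fact p.Prime] (A B : Subgroup G) [hAn : A.Normal] [hBn : B.Normal] (hBA : B ≤ A)
    (h : Group.IsNilpotent (↥A ⧸ B.subgroupOf A)) (P : Sylow p A) :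
    Subgroup.normalizer (((P : Subgroup A).map A.subtype : Subgroup G) : Set G) ⊔ B = ⊤ := by
  set P' : Subgroup G := (P : Subgroup A).map A.subtype with hP'
  set K : Subgroup G := P' ⊔ B with hK
  have hP'A : P' ≤ A := Subgroup.map_subtype_le _
  have hKA : K ≤ A := sup_le hP'A hBA
  have hP'K : P' ≤ K := le_sup_left
  let π := QuotientGroup.mk' (B.subgroupOf A)
  have hπ : Function.Surjective π := QuotientGroup.mk'_surjective _
  -- uniqueness of Sylow subgroups of the nilpotent quotient
  have hsub : Subsingleton (Sylow p (↥A ⧸ B.subgroupOf A)) := by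
    have Pbar : Sylow p (↥A ⧸ B.subgroupOf A) := P.mapSurjective hπ
    have hn : (Pbar : Subgroup (↥A ⧸ B.subgroupOf A)).Normal := inferInstance
    exact (Sylow.unique_of_normal Pbar hn).instSubsingleton
  -- conjugates of P' stay in K
  have hconj : ∀ g : G, ∀ x ∈ P', g * x * g⁻¹ ∈ K := by
    intro g x hx
    obtain ⟨y, hy, rfl⟩ := hx
    let Pg : Sylow p A := (MulAut.conjNormal g : MulAut A) • P
    have e : Pg.mapSurjective hπ = P.mapSurjective hπ := Subsingleton.elim _ _
    have e' : (Pg : Subgroup A).map π = (P : Subgroup A).map π := by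
      have := congrArg (fun Q : Sylow p (↥A ⧸ B.subgroupOf A) => Q.toSubgroup) e
      simpa using this
    have hle : (Pg : Subgroup A) ≤ (P : Subgroup A) ⊔ B.subgroupOf A := by
      have h1 : (Pg : Subgroup A) ≤ ((Pg : Subgroup A).map π).comap π := Subgroup.le_comap_map _ _
      rw [e', Subgroup.comap_map_eq, QuotientGroup.ker_mk'] at h1
      exact h1
    have hmem : (MulAut.conjNormal g : MulAut A) y ∈ (Pg : Subgroup A) := by
      rw [Sylow.pointwise_smul_def]
      exact Subgroup.smul_mem_pointwise_smul _ _ _ hy
    have h2 := hle hmem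
    have h3 : ((MulAut.conjNormal g : MulAut A) y : G) ∈
        ((P : Subgroup A) ⊔ B.subgroupOf A).map A.subtype := Subgroup.mem_map_of_mem _ h2
    rw [Subgroup.map_sup, Subgroup.map_subgroupOf_eq_of_le hBA] at h3
    simpa [MulAut.conjNormal_apply] using h3
  have hKn : K.Normal := by
    constructor
    intro n hn g
    have hcl : K = Subgroup.closure ((P' : Set G) ∪ B) := by
      rw [hK, Subgroup.closure_union, Subgroup.closure_eq, Subgroup.closure_eq]
    rw [hcl] at hn
    induction hn using Subgroup.closure_induction with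
    | mem x hx =>
      rcases hx with hx | hx
      · exact hconj g x hx
      · exact Subgroup.mem_sup_right (hBn.conj_mem x hx g)
    | one => simp
    | mul x y _ _ ihx ihy =>
      have : g * (x * y) * g⁻¹ = (g * x * g⁻¹) * (g * y * g⁻¹) := by group
      rw [this]; exact K.mul_mem ihx ihy
    | inv x _ ih =>
      have : g * x⁻¹ * g⁻¹ = (g * x * g⁻¹)⁻¹ := by group
      rw [this]; exact K.inv_mem ih
  -- P' is a Sylow subgroup of K
  have hpg : IsPGroup p (P'.subgroupOf K) := (P.2.map A.subtype).comap_subtype
  have hidx : ¬ p ∣ (P'.subgroupOf K).index := by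
    intro hdvd
    have h1 : P'.relIndex K * K.relIndex A = P'.relIndex A :=
      Subgroup.relIndex_mul_relIndex _ _ _ hP'K hKA
    have h2 : P'.relIndex A = (P : Subgroup A).index := by
      unfold Subgroup.relIndex
      rw [hP']
      congr 1
      exact Subgroup.comap_map_eq_self_of_injective A.subtype_injective _
    apply P.not_dvd_index
    rw [← h2, ← h1]
    exact Dvd.dvd.mul_right hdvd _
  let Q : Sylow p K := hpg.toSylow hidx
  have hfr := Sylow.normalizer_sup_eq_top Q
  have hQ : (Q : Subgroup K).map K.subtype = P' := by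
    rw [IsPGroup.toSylow_coe, Subgroup.map_subgroupOf_eq_of_le hP'K]
  rw [hQ, hK, ← sup_assoc, sup_eq_left.mpr Subgroup.le_normalizer] at hfr
  exact hfr

end Cfsg.Agent.Lib.Helper4
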