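import Mathlib

set_option autoImplicit false

namespace Cfsg.Agent.Lib.Helper4

open Subgroup
open scoped commutatorElement

universe u

/-- In a group of class at most two, `g ↦ [g, a]` is a homomorphism. -/
def commHom {P : Type u} [Group P] (h : commutator P ≤ center P) (a : P) : P →* P where
  toFun g := ⁅g, a⁆
  map_one' := by simp
  map_mul' := by
    intro g k
    have hc : ⁅k, a⁆ ∈ center P := h (by
      rw [_root_.commutator_def]
      exact Subgroup.commutator_mem_commutator (mem_top _) (mem_top _))
    rw [mem_center_iff] at hc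
    have h1 : k * a * k⁻¹ = ⁅k, a⁆ * a := by rw [commutatorElement_def]; group
    calc ⁅g * k, a⁆ = g * (k * a * k⁻¹) * g⁻¹ * a⁻¹ := by rw [commutatorElement_def]; group
      _ = g * (⁅k, a⁆ * a) * g⁻¹ * a⁻¹ := by rw [h1]
      _ = (g * ⁅k, a⁆) * a * g⁻¹ * a⁻¹ := by group
      _ = (⁅k, a⁆ * g) * a * g⁻¹ * a⁻¹ := by rw [hc g]
      _ = ⁅k, a⁆ * ⁅g, a⁆ := by rw [commutatorElement_def g a]; group
      _ = ⁅g, a⁆ * ⁅k, a⁆ := (hc _).symm

theorem commHom_apply {P : Type u} [Group P] (h : commutator P ≤ center P) (a g : P) :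
    commHom h a g = ⁅g, a⁆ := rfl

theorem commHom_ker {P : Type u} [Group P] (h : commutator P ≤ center P) (a : P) :
    (commHom h a).ker = centralizer ({a} : Set P) := by
  ext g
  rw [MonoidHom.mem_ker, commHom_apply, commutatorElement_eq_one_iff_commute,
    mem_centralizer_singleton_iff]
  exact ⟨fun hh => hh.eq, fun hh => hh⟩

theorem commHom_range_le {P : Type u} [Group P] (h : commutator P ≤ center P) (a : P) :
    (commHom h a).range ≤ commutator P := by
  rintro _ ⟨g, rfl⟩
  rw [commHom_apply, _root_.commutator_def]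
  exact Subgroup.commutator_mem_commutator (mem_top _) (mem_top _)

/-- `|P : C(a)| = |{[g,a]}|`. -/
theorem index_centralizer_eq_card_range {P : Type u} [Group P] (h : commutator P ≤ center P)
    (a : P) : (centralizer ({a} : Set P)).index = Nat.card (commHom h a).range := by
  rw [← commHom_ker h a, Subgroup.index_ker]

/-- A group whose centre has index `1` or a prime is commutative. -/
theorem comm_of_index_center_dvd_prime {Q : Type u} [Group Q] {p : ℕ} (hp : p.Prime)
    (h : (center Q).index ∣ p) (x y : Q) : x * y = y * x := by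
  haveI : Fact p.Prime := ⟨hp⟩
  haveI : IsCyclic (Q ⧸ center Q) := by
    rcases (Nat.dvd_prime hp).mp h with h1 | h1
    · haveI : Subsingleton (Q ⧸ center Q) :=
        (Nat.card_eq_one_iff_unique.mp (show Nat.card (Q ⧸ center Q) = 1 from h1)).1
      infer_instance
    · exact isCyclic_of_prime_card (p := p) (show Nat.card (Q ⧸ center Q) = p from h1)
  have := MonoidHom.isMulCommutative_of_isCyclic_of_ker_le_center (QuotientGroup.mk' (center Q))
    (by rw [QuotientGroup.ker_mk'])
  exact this.is_comm.comm x y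

/-- In a finite `p`-group, a proper inclusion of subgroups multiplies the order by at least `p`. -/
theorem mul_card_le_of_lt {P : Type u} [Group P] [Finite P] {p : ℕ} [Fact p.Prime]
    (hP : IsPGroup p P) {H K : Subgroup P} (hlt : H < K) : p * Nat.card H ≤ Nat.card K := by
  have hp : p.Prime := Fact.out
  have h1 : Nat.card H * H.relIndex K = Nat.card K := by
    have := Subgroup.relIndex_mul_relIndex ⊥ H K bot_le hlt.le
    rwa [Subgroup.relIndex_bot_left, Subgroup.relIndex_bot_left] at this
  obtain ⟨n, hn⟩ := (hP.to_subgroup K).exists_card_eq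
  have h2 : H.relIndex K ∣ p ^ n := by rw [← hn, ← h1]; exact dvd_mul_left _ _
  obtain ⟨m, -, hm⟩ := (Nat.dvd_prime_pow hp).mp h2
  have hm0 : m ≠ 0 := by
    intro h0
    rw [h0, pow_zero] at hm
    rw [hm, mul_one] at h1
    exact hlt.ne (Subgroup.eq_of_le_of_card_ge hlt.le h1.ge)
  have h3 : p ≤ H.relIndex K := by
    rw [hm]
    calc p = p ^ 1 := (pow_one p).symm
      _ ≤ p ^ m := Nat.pow_le_pow_right hp.pos (Nat.one_le_iff_ne_zero.mpr hm0)
  calc p * Nat.card H ≤ H.relIndex K * Nat.card H := Nat.mul_le_mul_right _ h3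
    _ = Nat.card K := by rw [mul_comm]; exact h1

end Cfsg.Agent.Lib.Helper4
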