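import Mathlib
import Cfsg.Agent.Lib.Helper4.ClassTwoHom
import Cfsg.Agent.Lib.Helper12.Basic

set_option autoImplicit false

namespace Cfsg.Agent.Lib.Helper4

open Subgroup
open scoped commutatorElement

universe u

/-- If `P ⧸ R` is commutative then `P' ≤ R`. -/
theorem commutator_le_of_quotient_comm {P : Type u} [Group P] (R : Subgroup P) [R.Normal]
    (h : ∀ x y : P ⧸ R, x * y = y * x) : commutator P ≤ R := by
  rw [_root_.commutator_def, Subgroup.commutator_le]
  intro g _ k _
  rw [← QuotientGroup.eq_one_iff, ← QuotientGroup.mk'_apply, map_commutatorElement,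
    commutatorElement_eq_one_iff_commute]
  exact h _ _

/-- If all elements commute then the commutator subgroup is trivial. -/
theorem commutator_eq_bot_of_comm {P : Type u} [Group P] (h : ∀ x y : P, x * y = y * x) :
    commutator P = ⊥ := by
  rw [eq_bot_iff, _root_.commutator_def, Subgroup.commutator_le]
  intro g _ k _
  rw [mem_bot, commutatorElement_eq_one_iff_commute]
  exact h g k

theorem center_eq_top_of_comm {P : Type u} [Group P] (h : ∀ x y : P, x * y = y * x) :
    center P = ⊤ := by
  rw [eq_top_iff]
  intro g _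
  rw [mem_center_iff]
  intro k
  exact h k g

/-- Direction `⟸`. -/
theorem card_commutator_of_index_center {P : Type u} [Group P] [Finite P] (p : ℕ) [Fact p.Prime]
    (hP : Nat.card P = p ^ 4) (hZ : (center P).index = p ^ 2) :
    Nat.card (commutator P) = p := by
  have hp : p.Prime := Fact.out
  have hPG : IsPGroup p P := IsPGroup.of_card hP
  have hp3 : 0 < p ^ 3 := pow_pos hp.pos 3
  have hp2 : 0 < p ^ 2 := pow_pos hp.pos 2
  -- `|Z| = p²`
  have hcZ : Nat.card (center P) = p ^ 2 := by
    have := Subgroup.card_mul_index (center P)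
    rw [hZ, hP] at this
    have h4 : p ^ 4 = p ^ 2 * p ^ 2 := by ring
    rw [h4] at this
    exact Nat.eq_of_mul_eq_mul_right hp2 this
  -- `P' ≤ Z`
  have hle : commutator P ≤ center P := by
    apply commutator_le_of_quotient_comm
    have := IsPGroup.isMulCommutative_of_card_eq_prime_sq (p := p) (G := P ⧸ center P) (by
      show (center P).index = p ^ 2
      exact hZ)
    exact this.is_comm.comm
  -- `a ∉ Z`
  have hZtop : center P ≠ ⊤ := by
    intro h
    rw [h, Subgroup.index_top] at hZ
    have : 1 < p ^ 2 := Nat.one_lt_pow (by norm_num) hp.one_lt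
    omega
  obtain ⟨a, -, haZ⟩ := SetLike.exists_of_lt (lt_top_iff_ne_top.mpr hZtop)
  set C := centralizer ({a} : Set P) with hC
  have hZC : center P < C := by
    refine lt_of_le_of_ne (Subgroup.center_le_centralizer _) ?_
    intro h
    apply haZ
    rw [h, hC, mem_centralizer_singleton_iff]
  have hcC : p ^ 3 ≤ Nat.card C := by
    have := mul_card_le_of_lt hPG hZC
    rw [hcZ] at this
    calc p ^ 3 = p * p ^ 2 := by ring
      _ ≤ Nat.card C := this
  have hCidx : C.index ≤ p := by
    have h1 := Subgroup.card_mul_index C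
    rw [hP] at h1
    by_contra hlt
    push Not at hlt
    have h2 : (p + 1) * p ^ 3 ≤ Nat.card C * C.index := by
      calc (p + 1) * p ^ 3 = p ^ 3 * (p + 1) := by ring
        _ ≤ Nat.card C * C.index := Nat.mul_le_mul hcC hlt
    rw [h1] at h2
    have : p ^ 4 = p * p ^ 3 := by ring
    nlinarith
  set R := (commHom hle a).range with hR
  have hcR : Nat.card R ≤ p := by
    rw [hR, ← index_centralizer_eq_card_range hle a]
    exact hCidx
  have hRZ : R ≤ center P := (commHom_range_le hle a).trans hle
  haveI hRn : R.Normal := by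
    constructor
    intro n hn g
    have := mem_center_iff.mp (hRZ hn) g
    have h2 : g * n * g⁻¹ = n := by rw [this]; group
    rw [h2]; exact hn
  -- the preimage of the centre of `P ⧸ R`
  set W := (center (P ⧸ R)).comap (QuotientGroup.mk' R) with hW
  have hZW : center P ≤ W := by
    intro z hz
    rw [hW, mem_comap, mem_center_iff]
    intro q
    obtain ⟨g, rfl⟩ := QuotientGroup.mk'_surjective R q
    rw [← map_mul, ← map_mul, mem_center_iff.mp hz g]
  have haW : a ∈ W := by
    rw [hW, mem_comap, mem_center_iff]
    intro q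
    obtain ⟨g, rfl⟩ := QuotientGroup.mk'_surjective R q
    rw [← map_mul, ← map_mul, QuotientGroup.mk'_apply, QuotientGroup.mk'_apply, QuotientGroup.eq]
    have : (g * a)⁻¹ * (a * g) = ⁅a⁻¹ * g⁻¹ * a, a⁆ := by
      rw [commutatorElement_def]; group
    rw [this]
    exact ⟨_, rfl⟩
  have hZW' : center P < W := lt_of_le_of_ne hZW (fun h => haZ (h ▸ haW))
  have hcW : p ^ 3 ≤ Nat.card W := by
    have := mul_card_le_of_lt hPG hZW'
    rw [hcZ] at this
    calc p ^ 3 = p * p ^ 2 := by ring
      _ ≤ Nat.card W := this
  have hWidx : W.index ∣ p := by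
    have h1 := Subgroup.card_mul_index W
    rw [hP] at h1
    have h2 : W.index ∣ p ^ 4 := ⟨Nat.card W, by rw [← h1]; ring⟩
    obtain ⟨k, -, hk⟩ := (Nat.dvd_prime_pow hp).mp h2
    rw [hk]
    have h3 : k ≤ 1 := by
      by_contra hk1
      push Not at hk1
      have h4 : p ^ 2 ≤ W.index := by
        rw [hk]; exact Nat.pow_le_pow_right hp.pos hk1
      have h5 : p ^ 3 * p ^ 2 ≤ Nat.card W * W.index := Nat.mul_le_mul hcW h4
      rw [h1] at h5
      have h6 : p ^ 3 * p ^ 2 = p * p ^ 4 := by ring
      have h7 : 0 < p ^ 4 := pow_pos hp.pos 4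
      have := hp.one_lt
      nlinarith
    simpa using pow_dvd_pow p h3
  have hQidx : (center (P ⧸ R)).index ∣ p := by
    rw [← Subgroup.index_comap_of_surjective _ (QuotientGroup.mk'_surjective R)]
    exact hWidx
  have hQcomm := comm_of_index_center_dvd_prime hp hQidx
  have hPR : commutator P ≤ R := commutator_le_of_quotient_comm R hQcomm
  -- conclude
  have hne : commutator P ≠ ⊥ := by
    intro h
    apply hZtop
    apply center_eq_top_of_comm
    intro x y
    have : ⁅x, y⁆ ∈ commutator P := by
      rw [_root_.commutator_def]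
      exact Subgroup.commutator_mem_commutator (mem_top _) (mem_top _)
    rw [h, mem_bot, commutatorElement_eq_one_iff_commute] at this
    exact this
  have hle' : Nat.card (commutator P) ≤ p := (Subgroup.card_le_of_le hPR).trans hcR
  obtain ⟨k, hk⟩ := (hPG.to_subgroup (commutator P)).exists_card_eq
  have hk0 : k ≠ 0 := by
    intro h0
    rw [h0, pow_zero] at hk
    exact hne ((Subgroup.card_eq_one).mp hk)
  rw [hk] at hle' ⊢
  have hk1 : k ≤ 1 := by
    by_contra hk1
    push Not at hk1
    have : p ^ 2 ≤ p ^ k := Nat.pow_le_pow_right hp.pos hk1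
    have := hp.one_lt
    nlinarith
  have : k = 1 := by omega
  rw [this, pow_one]

/-- A normal subgroup of order `p` of a finite `p`-group is central. -/
theorem le_center_of_normal_of_card_eq_prime {P : Type u} [Group P] [Finite P] {p : ℕ}
    [Fact p.Prime] (hPG : IsPGroup p P) (N : Subgroup P) [N.Normal] (hN : Nat.card N = p) :
    N ≤ center P := by
  have hp : p.Prime := Fact.out
  have hne : N ≠ ⊥ := by
    intro h
    rw [h, Subgroup.card_bot] at hN
    exact hp.ne_one hN.symm
  obtain ⟨z, hzN, hz1, hzZ⟩ := Cfsg.Agent.Lib.Helper12.exists_ne_one_mem_center_of_normal hPG N hne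
  have h1 : zpowers z ≤ N := zpowers_le.mpr hzN
  have h2 : zpowers z = N := by
    apply Subgroup.eq_of_le_of_card_ge h1
    rw [hN, Nat.card_zpowers]
    have h3 : orderOf z ∣ p := by
      have := Subgroup.card_dvd_of_le h1
      rwa [Nat.card_zpowers, hN] at this
    rcases (Nat.dvd_prime hp).mp h3 with h | h
    · exact absurd (orderOf_eq_one_iff.mp h) hz1
    · exact h.ge
  rw [← h2]
  exact zpowers_le.mpr hzZ

/-- Direction `⟹`. -/
theorem index_center_of_card_commutator {P : Type u} [Group P] [Finite P] (p : ℕ) [Fact p.Prime]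
    (hP : Nat.card P = p ^ 4) (hc : Nat.card (commutator P) = p) :
    (center P).index = p ^ 2 := by
  have hp : p.Prime := Fact.out
  have hPG : IsPGroup p P := IsPGroup.of_card hP
  have hp3 : 0 < p ^ 3 := pow_pos hp.pos 3
  have hp2 : 0 < p ^ 2 := pow_pos hp.pos 2
  have hp4 : 0 < p ^ 4 := pow_pos hp.pos 4
  have hp1 := hp.one_lt
  have hle : commutator P ≤ center P :=
    le_center_of_normal_of_card_eq_prime hPG (commutator P) hc
  -- `P` is not commutative
  have hnc : ¬ ∀ x y : P, x * y = y * x := by
    intro h
    rw [commutator_eq_bot_of_comm h, Subgroup.card_bot] at hc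
    exact hp.ne_one hc.symm
  have hZidx : ¬ (center P).index ∣ p := fun h => hnc (comm_of_index_center_dvd_prime hp h)
  have hZmul := Subgroup.card_mul_index (center P)
  rw [hP] at hZmul
  obtain ⟨k, hk4, hk⟩ := (Nat.dvd_prime_pow hp).mp
    (⟨Nat.card (center P), by rw [← hZmul]; ring⟩ : (center P).index ∣ p ^ 4)
  have hk2 : 2 ≤ k := by
    by_contra h
    push Not at h
    apply hZidx
    rw [hk]
    simpa using pow_dvd_pow p (Nat.lt_succ_iff.mp h)
  -- it suffices to show `p² ≤ |Z|`
  suffices hsuff : p ^ 2 ≤ Nat.card (center P) by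
    have h1 : k ≤ 2 := by
      by_contra h
      push Not at h
      have h2 : p ^ 3 ≤ (center P).index := by
        rw [hk]; exact Nat.pow_le_pow_right hp.pos h
      have h3 : p ^ 2 * p ^ 3 ≤ Nat.card (center P) * (center P).index := Nat.mul_le_mul hsuff h2
      rw [hZmul] at h3
      have : p ^ 2 * p ^ 3 = p * p ^ 4 := by ring
      nlinarith
    have : k = 2 := le_antisymm h1 hk2
    rw [hk, this]
  by_contra hsmall
  push Not at hsmall
  -- then `|Z| = p`
  have hcZ : Nat.card (center P) = p := by
    apply le_antisymm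
    · obtain ⟨j, hj⟩ := (hPG.to_subgroup (center P)).exists_card_eq
      rw [hj] at hsmall ⊢
      have : j < 2 := (Nat.pow_lt_pow_iff_right hp.one_lt).mp hsmall
      calc p ^ j ≤ p ^ 1 := Nat.pow_le_pow_right hp.pos (by omega)
        _ = p := pow_one p
    · rw [← hc]; exact Subgroup.card_le_of_le hle
  have hZtop : center P ≠ ⊤ := fun h => hnc (fun x y => by
    have : y ∈ center P := by rw [h]; trivial
    exact mem_center_iff.mp this x)
  -- centralizers of noncentral elements have index `p`
  have hcent : ∀ a : P, a ∉ center P → center P < centralizer ({a} : Set P) ∧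
      (centralizer ({a} : Set P)).index ≤ p ∧ centralizer ({a} : Set P) ≠ ⊤ := by
    intro a haZ
    refine ⟨?_, ?_, ?_⟩
    · refine lt_of_le_of_ne (Subgroup.center_le_centralizer _) ?_
      intro h
      apply haZ
      rw [h, mem_centralizer_singleton_iff]
    · rw [index_centralizer_eq_card_range hle a, ← hc]
      exact Subgroup.card_le_of_le (commHom_range_le hle a)
    · intro h
      apply haZ
      rw [mem_center_iff]
      intro g
      have : g ∈ centralizer ({a} : Set P) := by rw [h]; trivial
      rw [mem_centralizer_singleton_iff] at this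
      exact this
  obtain ⟨a, -, haZ⟩ := SetLike.exists_of_lt (lt_top_iff_ne_top.mpr hZtop)
  obtain ⟨hZC, hCidx, hCtop⟩ := hcent a haZ
  set C := centralizer ({a} : Set P) with hC
  have hCmul := Subgroup.card_mul_index C
  rw [hP] at hCmul
  have hcC : p ^ 3 ≤ Nat.card C := by
    by_contra h
    push Not at h
    have : Nat.card C * C.index < p ^ 3 * C.index ∨ C.index = 0 := by
      rcases Nat.eq_zero_or_pos C.index with h0 | h0
      · right; exact h0
      · left; exact Nat.mul_lt_mul_of_pos_right h h0
    rcases this with h1 | h1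
    · rw [hCmul] at h1
      have : p ^ 3 * C.index ≤ p ^ 3 * p := Nat.mul_le_mul_left _ hCidx
      have h4 : p ^ 4 = p ^ 3 * p := by ring
      omega
    · rw [h1, mul_zero] at hCmul
      omega
  -- `C` is commutative
  have hCcomm : ∀ x y : C, x * y = y * x := by
    have hPC : IsPGroup p C := hPG.to_subgroup C
    have h1 : (center P).subgroupOf C < center C := by
      refine lt_of_le_of_ne ?_ ?_
      · intro z hz
        rw [mem_subgroupOf] at hz
        rw [mem_center_iff]
        intro y
        apply Subtype.ext
        exact mem_center_iff.mp hz y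
      · intro h
        have ha : (⟨a, by rw [hC, mem_centralizer_singleton_iff]⟩ : C) ∈ center C := by
          rw [mem_center_iff]
          intro y
          apply Subtype.ext
          have hy : (y : P) ∈ centralizer ({a} : Set P) := y.2
          rw [mem_centralizer_singleton_iff] at hy
          exact hy
        rw [← h, mem_subgroupOf] at ha
        exact haZ ha
    have h2 := mul_card_le_of_lt hPC h1
    have h3 : Nat.card ((center P).subgroupOf C) = p := by
      rw [Nat.card_congr (Subgroup.subgroupOfEquivOfLe hZC.le).toEquiv, hcZ]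
    rw [h3] at h2
    have h4 := Subgroup.card_mul_index (center C)
    have hcC3 : Nat.card C ≤ p ^ 3 := by
      by_contra h
      push Not at h
      obtain ⟨j, hj⟩ := hPC.exists_card_eq
      rw [hj] at h
      have hj3 : 3 < j := (Nat.pow_lt_pow_iff_right hp.one_lt).mp h
      have : p ^ 4 ≤ Nat.card C := by rw [hj]; exact Nat.pow_le_pow_right hp.pos hj3
      have h5 : Nat.card C = Nat.card P := le_antisymm (Subgroup.card_le_card_group C) (hP ▸ this)
      exact hCtop (Subgroup.card_eq_iff_eq_top C |>.mp h5)
    have h5 : (center C).index ∣ p := by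
      have h6 : (center C).index ∣ Nat.card C := ⟨Nat.card (center C), by rw [← h4]; ring⟩
      obtain ⟨j, hj⟩ := hPC.exists_card_eq
      rw [hj] at h6
      obtain ⟨i, -, hi⟩ := (Nat.dvd_prime_pow hp).mp h6
      rw [hi]
      have hi1 : i ≤ 1 := by
        by_contra h
        push Not at h
        have h7 : p ^ 2 ≤ (center C).index := by rw [hi]; exact Nat.pow_le_pow_right hp.pos h
        have h8 : p * p * p ^ 2 ≤ Nat.card (center C) * (center C).index := Nat.mul_le_mul h2 h7
        rw [h4] at h8
        have : p * p * p ^ 2 = p * p ^ 3 := by ring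
        nlinarith
      simpa using pow_dvd_pow p hi1
    exact comm_of_index_center_dvd_prime hp h5
  -- pick `b ∉ C`
  obtain ⟨b, -, hbC⟩ := SetLike.exists_of_lt (lt_top_iff_ne_top.mpr hCtop)
  have hbZ : b ∉ center P := fun h => hbC (hZC.le h)
  obtain ⟨-, hBidx, -⟩ := hcent b hbZ
  set D := C ⊓ centralizer ({b} : Set P) with hD
  have hDidx : D.index ≤ p * p :=
    (Subgroup.index_inf_le).trans (Nat.mul_le_mul hCidx hBidx)
  have hDZ : D ≤ center P := by
    intro x hx
    obtain ⟨hxC, hxb⟩ := mem_inf.mp hx
    have h1 : C < centralizer ({x} : Set P) := by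
      refine lt_of_le_of_ne ?_ ?_
      · intro y hy
        rw [mem_centralizer_singleton_iff]
        have := hCcomm ⟨x, hxC⟩ ⟨y, hy⟩
        exact (congrArg Subtype.val this).symm
      · intro h
        apply hbC
        rw [h, mem_centralizer_singleton_iff]
        rw [mem_centralizer_singleton_iff] at hxb
        exact hxb.symm
    have h2 := mul_card_le_of_lt hPG h1
    have h3 : Nat.card (centralizer ({x} : Set P)) = Nat.card P := by
      apply le_antisymm (Subgroup.card_le_card_group _)
      rw [hP]
      calc p ^ 4 = p * p ^ 3 := by ring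
        _ ≤ p * Nat.card C := Nat.mul_le_mul_left _ hcC
        _ ≤ _ := h2
    have h4 := (Subgroup.card_eq_iff_eq_top _).mp h3
    rw [mem_center_iff]
    intro g
    have : g ∈ centralizer ({x} : Set P) := by rw [h4]; trivial
    rw [mem_centralizer_singleton_iff] at this
    exact this
  have hDmul := Subgroup.card_mul_index D
  rw [hP] at hDmul
  have hcD : Nat.card D ≤ p := by
    rw [← hcZ]; exact Subgroup.card_le_of_le hDZ
  have : Nat.card D * D.index ≤ p * (p * p) := Nat.mul_le_mul hcD hDidx
  rw [hDmul] at this
  have h5 : p ^ 4 = p * (p * (p * p)) := by ring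
  nlinarith

/-- For `|P| = p⁴`: `|P'| = p ↔ |P : Z(P)| = p²`. -/
theorem card_commutator_eq_prime_iff {P : Type u} [Group P] [Finite P] (p : ℕ) [Fact p.Prime]
    (hP : Nat.card P = p ^ 4) :
    Nat.card (commutator P) = p ↔ (center P).index = p ^ 2 :=
  ⟨index_center_of_card_commutator p hP, card_commutator_of_index_center p hP⟩

end Cfsg.Agent.Lib.Helper4
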