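/-
helper4: S4648 leaf DIM - the right ideal of a diagonal matrix unit has `1/n` of the dimension of the block.
-/
import Mathlib
import Cfsg.Prelude.Def_BlockRank
import Cfsg.Prelude.Def_BrauerPairs
import Cfsg.Agent.Lib.Helper27.SymAlgDefs
import Cfsg.Agent.Lib.Helper27.BlkAlgDefs2
import Cfsg.Agent.Lib.Helper18.BlkAlgB2
import Cfsg.Agent.Lib.Helper18.BlkAlgB3
import Cfsg.Agent.Lib.Helper19.BlkAlgB1
import Cfsg.Agent.Lib.Helper24.BlkAlgB5a

set_option autoImplicit false

namespace Cfsg.Agent.Lib.Helper4.K4DIM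

open Cfsg Cfsg.Agent.Lib.Helper6 Cfsg.Agent.Lib.Helper24
open Cfsg.Agent.Lib.Helper27.SymAlg Cfsg.Agent.Lib.Helper27.BlkAlg
open Cfsg.Agent.Lib.Helper24.BlkAlgB5a (gmat)

universe u

section dim

variable {F : Type*} [Field F] {L : Type*} [Ring L] [Algebra F L]

/-- the images of the matrix units in `L` -/
theorem units_mul {e : L} (he : IsIdempotentElem e) {n : ℕ}
    (u : Fin n → Fin n → he.Corner) (hu : IsMatrixUnits u) (i j k l : Fin n) :
    (u i j).1 * (u k l).1 = if j = k then (u i l).1 else 0 := by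
  have h := congrArg Subtype.val (hu.mul i j k l)
  rw [show ((u i j * u k l : he.Corner)).1 = (u i j).1 * (u k l).1 from rfl] at h
  rw [h]
  split_ifs
  · rfl
  · rfl

theorem units_sum {e : L} (he : IsIdempotentElem e) {n : ℕ}
    (u : Fin n → Fin n → he.Corner) (hu : IsMatrixUnits u) :
    ∑ j : Fin n, (u j j).1 = e := by
  let φ : he.Corner →+ L := ⟨⟨fun x => x.1, rfl⟩, fun _ _ => rfl⟩
  have h := congrArg φ hu.sum
  rw [map_sum] at h
  exact h

/-- (DIM) the right ideal of a diagonal matrix unit has `1/n` of the dimension of the block -/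
theorem mul_finrank_range_mulLeft [FiniteDimensional F L] {e : L} (he : IsIdempotentElem e) {n : ℕ}
    (u : Fin n → Fin n → he.Corner) (hu : IsMatrixUnits u) (i : Fin n) :
    n * Module.finrank F (LinearMap.range (LinearMap.mulLeft F (u i i).1)) =
      Module.finrank F (LinearMap.range (LinearMap.mulLeft F e)) := by
  classical
  set R : Submodule F L := LinearMap.range (LinearMap.mulLeft F (u i i).1) with hR
  set E : Submodule F L := LinearMap.range (LinearMap.mulLeft F e) with hE
  have hmul := units_mul he u hu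
  have hsum := units_sum he u hu
  have hR_mem : ∀ x : L, x ∈ R ↔ (u i i).1 * x = x := by
    intro x
    constructor
    · rintro ⟨y, rfl⟩
      show (u i i).1 * ((u i i).1 * y) = (u i i).1 * y
      rw [← mul_assoc, hmul, if_pos rfl]
    · intro h
      exact ⟨x, h⟩
  have hE_mem : ∀ x : L, x ∈ E ↔ e * x = x := by
    intro x
    constructor
    · rintro ⟨y, rfl⟩
      show e * (e * y) = e * y
      rw [← mul_assoc, he.eq]
    · intro h
      exact ⟨x, h⟩
  have he_u : ∀ j k : Fin n, e * (u j k).1 = (u j k).1 := fun j k =>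
    ((Subsemigroup.mem_corner_iff he).mp (u j k).2).1
  -- the two maps
  let g : E →ₗ[F] (Fin n → R) :=
    LinearMap.pi (fun j => ((LinearMap.mulLeft F (u i j).1).codRestrict R (by
      intro y
      rw [hR_mem]
      show (u i i).1 * ((u i j).1 * y) = (u i j).1 * y
      rw [← mul_assoc, hmul, if_pos rfl])) ∘ₗ E.subtype)
  let f : (Fin n → R) →ₗ[F] E :=
    LinearMap.codRestrict E
      (∑ j : Fin n, (LinearMap.mulLeft F (u j i).1) ∘ₗ R.subtype ∘ₗ LinearMap.proj j) (by
      intro x
      rw [hE_mem]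
      simp only [LinearMap.sum_apply, LinearMap.comp_apply, LinearMap.mulLeft_apply, Finset.mul_sum]
      refine Finset.sum_congr rfl (fun j _ => ?_)
      rw [← mul_assoc, he_u])
  have hfg : f ∘ₗ g = LinearMap.id := by
    apply LinearMap.ext
    intro y
    apply Subtype.ext
    show (∑ j : Fin n, (LinearMap.mulLeft F (u j i).1) ∘ₗ R.subtype ∘ₗ
      (LinearMap.proj j : (Fin n → R) →ₗ[F] R)) (g y) = y.1
    simp only [LinearMap.sum_apply, LinearMap.comp_apply, LinearMap.mulLeft_apply]
    have h1 : ∀ j : Fin n, (u j i).1 * (R.subtype ((LinearMap.proj j : (Fin n → R) →ₗ[F] R) (g y))) =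
        (u j j).1 * y.1 := by
      intro j
      show (u j i).1 * ((u i j).1 * y.1) = (u j j).1 * y.1
      rw [← mul_assoc, hmul, if_pos rfl]
    rw [Finset.sum_congr rfl (fun j _ => h1 j), ← Finset.sum_mul, hsum]
    exact (hE_mem y.1).1 y.2
  have hgf : g ∘ₗ f = LinearMap.id := by
    apply LinearMap.ext
    intro x
    funext j
    apply Subtype.ext
    show (u i j).1 * (∑ k : Fin n, (LinearMap.mulLeft F (u k i).1) ∘ₗ R.subtype ∘ₗ
      (LinearMap.proj k : (Fin n → R) →ₗ[F] R)) x = (x j).1
    simp only [LinearMap.sum_apply, LinearMap.comp_apply, LinearMap.mulLeft_apply, Finset.mul_sum]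
    rw [Finset.sum_eq_single j]
    · show (u i j).1 * ((u j i).1 * (x j).1) = (x j).1
      rw [← mul_assoc, hmul, if_pos rfl]
      exact (hR_mem (x j).1).1 (x j).2
    · intro k _ hk
      show (u i j).1 * ((u k i).1 * (x k).1) = 0
      rw [← mul_assoc, hmul, if_neg (Ne.symm hk), zero_mul]
    · intro h
      exact absurd (Finset.mem_univ j) h
  have eqv : (Fin n → R) ≃ₗ[F] E := LinearEquiv.ofLinearMap f g hfg hgf
  rw [← LinearEquiv.finrank_eq eqv, Module.finrank_pi_fintype]
  simp

end dim

end Cfsg.Agent.Lib.Helper4.K4DIM
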