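/-
helper4: S4648 leaf UNIT - an element of `O_M[G]` congruent to `1` is invertible in `ℂ[G]`.
-/
import Mathlib
import Cfsg.Prelude.Def_BlockRank
import Cfsg.Prelude.Def_BrauerPairs
import Cfsg.Agent.Lib.Helper27.SymAlgDefs
import Cfsg.Agent.Lib.Helper27.BlkAlgDefs2
import Cfsg.Agent.Lib.Helper18.BlkAlgB2
import Cfsg.Agent.Lib.Helper18.BlkAlgB3
import Cfsg.Agent.Lib.Helper19.BlkAlgB1
import Cfsg.Agent.Lib.Helper24.BlkAlgB5a

set_option autoImplicit false

namespace Cfsg.Agent.Lib.Helper4.K4UNIT

open Cfsg Cfsg.Agent.Lib.Helper6 Cfsg.Agent.Lib.Helper24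
open Cfsg.Agent.Lib.Helper27.SymAlg Cfsg.Agent.Lib.Helper27.BlkAlg
open Cfsg.Agent.Lib.Helper24.BlkAlgB5a (gmat)

universe u

variable (M : Ideal AlgInt) [M.IsMaximal] {p : ℕ} [Fact p.Prime]

section lift

variable {G : Type u} [Group G] [Fintype G]

open Classical in
theorem classInd_one_apply (x : G) : classInd (1 : G) x = if x = 1 then 1 else 0 := by
  unfold classInd
  by_cases h : x = 1
  · rw [if_pos h, if_pos]
    rw [h]
  · rw [if_neg h, if_neg]
    intro hc
    exact h (isConj_one_right.1 hc)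

/-- (UNIT) an element of `O_M[G]` congruent to `1` is invertible in `ℂ[G]` -/
theorem exists_conv_inverse (hM : IsPModular p M) (s : G → ℂ) (hs : ∀ g, MemLocalRing M (s g))
    (h1 : redFun M s = 1) : ∃ t : G → ℂ, conv s t = classInd (1 : G) := by
  classical
  -- the matrix over the local ring
  let S : Matrix G G (localSubring M) := Matrix.of fun k g => ⟨s (k * g⁻¹), hs _⟩
  have hSmap : S.map (localSubring M).subtype = gmat s := by
    ext k g
    rfl
  have hSred : S.map (red M) = 1 := by
    ext k g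
    show red M ⟨s (k * g⁻¹), hs _⟩ = (1 : Matrix G G (ResField M)) k g
    rw [← redC_of_mem M (hs (k * g⁻¹)), ← Cfsg.Agent.Lib.Helper18.BlkAlgB2.coeff_redFun, h1, MonoidAlgebra.one_def,
      MonoidAlgebra.coeff_single, Finsupp.single_apply, Matrix.one_apply]
    by_cases hkg : k = g
    · rw [if_pos hkg, if_pos]
      rw [hkg, mul_inv_cancel]
    · rw [if_neg hkg, if_neg]
      intro h
      apply hkg
      have := mul_inv_eq_one.1 h.symm
      exact this
  have hdetS : S.det ≠ 0 := by
    intro h0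
    have h2 : red M S.det = 1 := by
      rw [RingHom.map_det, RingHom.mapMatrix_apply, hSred, Matrix.det_one]
    rw [h0, map_zero] at h2
    exact zero_ne_one h2
  have hdet : (gmat s).det ≠ 0 := by
    rw [← hSmap]
    have : (S.map (localSubring M).subtype).det = (localSubring M).subtype S.det := by
      rw [RingHom.map_det, RingHom.mapMatrix_apply]
    rw [this]
    intro h0
    apply hdetS
    apply Subtype.ext
    exact h0
  have hunit : IsUnit (gmat s).det := isUnit_iff_ne_zero.2 hdet
  have hinv : gmat s * (gmat s)⁻¹ = 1 := Matrix.mul_nonsing_inv _ hunit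
  refine ⟨fun g => (gmat s)⁻¹ g 1, ?_⟩
  funext x
  rw [classInd_one_apply]
  have h3 := congrFun (congrFun hinv x) 1
  rw [Matrix.mul_apply, Matrix.one_apply] at h3
  rw [← h3]
  unfold conv
  refine Fintype.sum_equiv ((Equiv.inv G).trans (Equiv.mulRight x)) _ _ ?_
  intro g
  simp only [Equiv.trans_apply, Equiv.inv_apply, Equiv.coe_mulRight, BlkAlgB5a.gmat_apply, mul_inv_rev,
    inv_inv]
  rw [mul_inv_cancel_left]

end lift

end Cfsg.Agent.Lib.Helper4.K4UNIT
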