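import Mathlib

set_option autoImplicit false

namespace Cfsg.Agent.Lib.Helper4

universe u

/-- The four-group generated by two commuting involutions. -/
def kleinOf {G : Type u} [Group G] (a b : G) (ha : a * a = 1) (hb : b * b = 1) (hab : a * b = b * a) :
    Subgroup G where
  carrier := {1, a, b, a * b}
  one_mem' := by simp
  mul_mem' := by
    have ha' : ∀ x, a * (a * x) = x := fun x => by rw [← mul_assoc, ha, one_mul]
    have hba' : ∀ x, b * (a * x) = a * (b * x) := fun x => by
      rw [← mul_assoc, ← hab, mul_assoc]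
    intro x y hx hy
    simp only [Set.mem_insert_iff, Set.mem_singleton_iff] at hx hy ⊢
    rcases hx with rfl | rfl | rfl | rfl <;> rcases hy with rfl | rfl | rfl | rfl <;>
      simp [mul_assoc, ha, hb, ha', hba', ← hab]
  inv_mem' := by
    have hai : a⁻¹ = a := inv_eq_of_mul_eq_one_right ha
    have hbi : b⁻¹ = b := inv_eq_of_mul_eq_one_right hb
    intro x hx
    simp only [Set.mem_insert_iff, Set.mem_singleton_iff] at hx ⊢
    rcases hx with rfl | rfl | rfl | rfl
    · simp
    · simp [hai]
    · simp [hbi]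
    · right; right; right
      rw [mul_inv_rev, hai, hbi, hab]

theorem mem_kleinOf {G : Type u} [Group G] {a b : G} {ha : a * a = 1} {hb : b * b = 1}
    {hab : a * b = b * a} {x : G} :
    x ∈ kleinOf a b ha hb hab ↔ x = 1 ∨ x = a ∨ x = b ∨ x = a * b := by
  show x ∈ ({1, a, b, a * b} : Set G) ↔ _
  simp only [Set.mem_insert_iff, Set.mem_singleton_iff]

theorem card_kleinOf {G : Type u} [Group G] {a b : G} (ha : a * a = 1) (hb : b * b = 1)
    (hab : a * b = b * a) (ha1 : a ≠ 1) (hb1 : b ≠ 1) (hne : a ≠ b) :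
    Nat.card (kleinOf a b ha hb hab) = 4 := by
  classical
  have hab1 : a * b ≠ 1 := by
    intro h
    apply hne
    have : a = b⁻¹ := eq_inv_of_mul_eq_one_left h
    rw [this, inv_eq_of_mul_eq_one_right hb]
  have e : Nat.card (kleinOf a b ha hb hab) = ({1, a, b, a * b} : Set G).ncard :=
    Nat.card_coe_set_eq _
  rw [e, Set.ncard_eq_toFinset_card']
  have : ({1, a, b, a * b} : Set G).toFinset = {1, a, b, a * b} := by
    ext; simp
  rw [this]
  rw [Finset.card_insert_of_notMem, Finset.card_insert_of_notMem, Finset.card_insert_of_notMem,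
    Finset.card_singleton]
  · simp only [Finset.mem_singleton]
    intro h; apply ha1
    exact (mul_right_cancel ((one_mul b).trans h)).symm
  · simp only [Finset.mem_insert, Finset.mem_singleton, not_or]
    refine ⟨hne, ?_⟩
    intro h; apply hb1
    exact (mul_left_cancel ((mul_one a).trans h)).symm
  · simp only [Finset.mem_insert, Finset.mem_singleton, not_or]
    exact ⟨fun h => ha1 h.symm, fun h => hb1 h.symm, fun h => hab1 h.symm⟩

end Cfsg.Agent.Lib.Helper4

namespace Cfsg.Agent.Lib.Helper4

universe u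

theorem isKleinFour_of_card_of_sq {K : Type u} [Group K] (h4 : Nat.card K = 4)
    (h2 : ∀ x : K, x * x = 1) : IsKleinFour K := by
  refine ⟨h4, ?_⟩
  have h3 : Monoid.exponent K ∣ 2 := by
    apply Monoid.exponent_dvd_of_forall_pow_eq_one
    intro g; rw [pow_two]; exact h2 g
  rcases (Nat.dvd_prime Nat.prime_two).mp h3 with h | h
  · exfalso
    rw [Monoid.exp_eq_one_iff] at h
    have := Nat.card_eq_one_iff_unique.mpr ⟨h, ⟨1⟩⟩
    omega
  · exact h

theorem isKleinFour_kleinOf {G : Type u} [Group G] {a b : G} (ha : a * a = 1) (hb : b * b = 1)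
    (hab : a * b = b * a) (ha1 : a ≠ 1) (hb1 : b ≠ 1) (hne : a ≠ b) :
    IsKleinFour (kleinOf a b ha hb hab) := by
  apply isKleinFour_of_card_of_sq (card_kleinOf ha hb hab ha1 hb1 hne)
  rintro ⟨x, hx⟩
  apply Subtype.ext
  have ha' : ∀ x, a * (a * x) = x := fun x => by rw [← mul_assoc, ha, one_mul]
  have hba' : ∀ x, b * (a * x) = a * (b * x) := fun x => by
    rw [← mul_assoc, ← hab, mul_assoc]
  rcases mem_kleinOf.mp hx with rfl | rfl | rfl | rfl <;>
    simp [mul_assoc, ha, hb, hba']

/-- Everything commuting with `a` and `b` commutes with the four-group they generate. -/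
theorem commute_kleinOf {G : Type u} [Group G] {a b : G} {ha : a * a = 1} {hb : b * b = 1}
    {hab : a * b = b * a} {x y : G} (hy : y ∈ kleinOf a b ha hb hab) (hxa : x * a = a * x)
    (hxb : x * b = b * x) : x * y = y * x := by
  rcases mem_kleinOf.mp hy with rfl | rfl | rfl | rfl
  · simp
  · exact hxa
  · exact hxb
  · rw [← mul_assoc, hxa, mul_assoc, hxb, mul_assoc]

/-- A subgroup with more than two elements has an element outside `{1, z}`. -/
theorem exists_ne_of_two_lt_card {G : Type u} [Group G] [Finite G] (K : Subgroup G) (z : G)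
    (hz : z * z = 1) (hK : 2 < Nat.card K) : ∃ x ∈ K, x ≠ 1 ∧ x ≠ z := by
  by_contra hcon
  push Not at hcon
  have h1 : K ≤ Subgroup.zpowers z := by
    intro x hx
    by_cases hx1 : x = 1
    · rw [hx1]; exact Subgroup.one_mem _
    · rw [hcon x hx hx1]; exact Subgroup.mem_zpowers z
  have h2 := Subgroup.card_le_of_le h1
  have h3 : Nat.card (Subgroup.zpowers z) ≤ 2 := by
    rw [Nat.card_zpowers]
    apply orderOf_le_of_pow_eq_one (by norm_num)
    rw [pow_two]; exact hz
  omega

end Cfsg.Agent.Lib.Helper4
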