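import Mathlib
import Cfsg.Prelude.Def_ClassicalGeometry
import Cfsg.Prelude.Def_GeometricClasses
import Cfsg.Agent.Lib.Helper2.SOTDefs
import Cfsg.Agent.Lib.Helper2.SOTGDefs
import Cfsg.Agent.Lib.Helper25.SpTK

/-!
S5666 part (GA), leaves S1 + S2 + S3 (helper2's market): Kronecker isometries of `fV G` are pairs of
similitudes with inverse multipliers, and conjugation of the root elements `kA x c` by them.
-/

set_option autoImplicit false
set_option linter.unusedSectionVars false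
set_option linter.unusedVariables false

namespace Cfsg.Agent.Lib.Helper4.SOTLeaf
open Matrix Module
open Cfsg.Agent.Lib.Helper25.Tens Cfsg.Agent.Lib.Helper25.SpT Cfsg.Agent.Lib.Helper19.OSub
open Cfsg.Agent.Lib.Helper2.SOT
open scoped Kronecker

variable {F : Type*} [Field F] [Fintype F] {a b : ℕ} {G : Matrix (Fin b) (Fin b) F}
  {M : Subgroup (GL (Idx a b) F)}

lemma mv_kel_pt (α : GL (Fin a) F) (β : GL (Fin b) F) (x : Fin a → F) (y : Fin b → F) :
    mv (kel α β : GL (Idx a b) F) (pt x y) =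
      pt ((α : Matrix (Fin a) (Fin a) F) *ᵥ x) ((β : Matrix (Fin b) (Fin b) F) *ᵥ y) :=
  kel_mulVec_pt α β x y

lemma fV_zero_left (G : Matrix (Fin b) (Fin b) F) (w : Idx a b → F) : fV G (0 : Idx a b → F) w = 0 := by
  simp [fV]

lemma fV_zero_right (G : Matrix (Fin b) (Fin b) F) (v : Idx a b → F) : fV G v (0 : Idx a b → F) = 0 := by
  simp [fV]

lemma fB_single_single (G : Matrix (Fin b) (Fin b) F) (k l : Fin b) :
    fB G (Pi.single k (1 : F)) (Pi.single l (1 : F)) = G k l := by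
  unfold fB
  rw [Matrix.mulVec_single_one, single_one_dotProduct]
  rfl

/-- a pair `y, y'` with `fB G y y' ≠ 0` -/
lemma exists_fB_ne_zero (hG : G.det ≠ 0) (hb : 0 < b) :
    ∃ y y' : Fin b → F, fB G y y' ≠ 0 := by
  by_contra hcon
  push Not at hcon
  apply hG
  have : G = 0 := by
    ext k l
    rw [← fB_single_single G k l, hcon]
    rfl
  rw [this]
  haveI : Nonempty (Fin b) := ⟨⟨0, hb⟩⟩
  exact Matrix.det_zero

/-- a pair `x, x'` with `sf x x' = 1` -/
lemma exists_sf_eq_one_of_ne (ea : Even a) {x : Fin a → F} (hx : x ≠ 0) :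
    ∃ x' : Fin a → F, sf x x' = 1 := by
  obtain ⟨y, hy⟩ := exists_sf_ne_zero ea hx
  refine ⟨(sf x y)⁻¹ • y, ?_⟩
  rw [sf_smul_right, inv_mul_cancel₀ hy]

lemma exists_sf_eq_one (ea : Even a) (ha : 2 ≤ a) : ∃ x x' : Fin a → F, sf x x' = 1 := by
  have ha0 : 0 < a := by omega
  set e : Fin a → F := Pi.single ⟨0, ha0⟩ 1 with he
  have hx : e ≠ 0 := by
    intro h0
    have := congrFun h0 ⟨0, ha0⟩
    simp [he] at this
  obtain ⟨x', hx'⟩ := exists_sf_eq_one_of_ne ea hx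
  exact ⟨e, x', hx'⟩

/-- (S1) a Kronecker element preserving `fV G` consists of two similitudes with inverse multipliers. -/
theorem sim_of_kel_mem (h : Ctx a b G) (α : GL (Fin a) F) (β : GL (Fin b) F)
    (hk : (kel α β : GL (Idx a b) F) ∈ SpV G) :
    ∃ μ : F, μ ≠ 0 ∧
      (∀ x x' : Fin a → F, sf ((α : Matrix (Fin a) (Fin a) F) *ᵥ x)
        ((α : Matrix (Fin a) (Fin a) F) *ᵥ x') = μ * sf x x') ∧
      (∀ y y' : Fin b → F, fB G ((β : Matrix (Fin b) (Fin b) F) *ᵥ y)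
        ((β : Matrix (Fin b) (Fin b) F) *ᵥ y') = μ⁻¹ * fB G y y') := by
  rw [mem_SpV] at hk
  have key : ∀ (x x' : Fin a → F) (y y' : Fin b → F),
      sf ((α : Matrix (Fin a) (Fin a) F) *ᵥ x) ((α : Matrix (Fin a) (Fin a) F) *ᵥ x') *
        fB G ((β : Matrix (Fin b) (Fin b) F) *ᵥ y) ((β : Matrix (Fin b) (Fin b) F) *ᵥ y') =
      sf x x' * fB G y y' := by
    intro x x' y y'
    have := hk (pt x y) (pt x' y')
    rwa [mv_kel_pt, mv_kel_pt, fV_pt, fV_pt] at this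
  obtain ⟨x₀, x₀', hx₀⟩ := exists_sf_eq_one (F := F) h.ea h.ha
  obtain ⟨y₀, y₀', hy₀⟩ := exists_fB_ne_zero h.nd (by have := h.hb; omega)
  set s := sf ((α : Matrix (Fin a) (Fin a) F) *ᵥ x₀) ((α : Matrix (Fin a) (Fin a) F) *ᵥ x₀') with hs
  set t := fB G ((β : Matrix (Fin b) (Fin b) F) *ᵥ y₀) ((β : Matrix (Fin b) (Fin b) F) *ᵥ y₀') with ht
  have hst : s * t = fB G y₀ y₀' := by
    have := key x₀ x₀' y₀ y₀'
    rwa [hx₀, one_mul] at this
  have hs0 : s ≠ 0 := by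
    intro h0
    rw [h0, zero_mul] at hst
    exact hy₀ hst.symm
  have ht0 : t ≠ 0 := by
    intro h0
    rw [h0, mul_zero] at hst
    exact hy₀ hst.symm
  refine ⟨s, hs0, ?_, ?_⟩
  · intro x x'
    have h1 := key x x' y₀ y₀'
    rw [← hst] at h1
    -- sf(αx)(αx') * t = sf x x' * (s * t)
    have h2 : sf ((α : Matrix (Fin a) (Fin a) F) *ᵥ x) ((α : Matrix (Fin a) (Fin a) F) *ᵥ x') * t =
        (s * sf x x') * t := by
      rw [← ht] at h1
      rw [h1]
      ring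
    exact mul_right_cancel₀ ht0 h2
  · intro y y'
    have h1 := key x₀ x₀' y y'
    rw [hx₀, one_mul, ← hs] at h1
    rw [← h1, ← mul_assoc, inv_mul_cancel₀ hs0, one_mul]

/-- (S2) converse of (S1). -/
theorem kel_mem_SpV (G : Matrix (Fin b) (Fin b) F) (α : GL (Fin a) F) (β : GL (Fin b) F) (μ ν : F)
    (hμν : μ * ν = 1)
    (hα : ∀ x x' : Fin a → F, sf ((α : Matrix (Fin a) (Fin a) F) *ᵥ x)
      ((α : Matrix (Fin a) (Fin a) F) *ᵥ x') = μ * sf x x')
    (hβ : ∀ y y' : Fin b → F, fB G ((β : Matrix (Fin b) (Fin b) F) *ᵥ y)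
      ((β : Matrix (Fin b) (Fin b) F) *ᵥ y') = ν * fB G y y') :
    (kel α β : GL (Idx a b) F) ∈ SpV G := by
  rw [mem_SpV]
  intro v
  refine pt_induction (p := fun v => ∀ w, fV G (mv (kel α β : GL (Idx a b) F) v)
    (mv (kel α β : GL (Idx a b) F) w) = fV G v w) ?_ ?_ ?_ v
  · intro w
    rw [mv_zero, fV_zero_left, fV_zero_left]
  · intro v v' hv hv' w
    rw [mv_add, fV_add_left, fV_add_left, hv w, hv' w]
  · intro x y w
    refine pt_induction (p := fun w => fV G (mv (kel α β : GL (Idx a b) F) (pt x y))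
      (mv (kel α β : GL (Idx a b) F) w) = fV G (pt x y) w) ?_ ?_ ?_ w
    · rw [mv_zero, fV_zero_right, fV_zero_right]
    · intro w w' hw hw'
      rw [mv_add, fV_add_right, fV_add_right, hw, hw']
    · intro x' y'
      rw [mv_kel_pt, mv_kel_pt, fV_pt, fV_pt, hα, hβ]
      calc μ * sf x x' * (ν * fB G y y') = (μ * ν) * (sf x x' * fB G y y') := by ring
        _ = sf x x' * fB G y y' := by rw [hμν, one_mul]

/-- (S3) conjugating a root element by a Kronecker element whose first factor is a similitude of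
multiplier `μ`. -/
theorem kel_conj_kA (α : GL (Fin a) F) (β : GL (Fin b) F) (μ : F) (hμ : μ ≠ 0)
    (hα : ∀ x x' : Fin a → F, sf ((α : Matrix (Fin a) (Fin a) F) *ᵥ x)
      ((α : Matrix (Fin a) (Fin a) F) *ᵥ x') = μ * sf x x') (x : Fin a → F) (c : F) :
    (kel α β : GL (Idx a b) F) * kA x c * (kel α β)⁻¹ =
      kA ((α : Matrix (Fin a) (Fin a) F) *ᵥ x) (c * μ⁻¹) := by
  rw [mul_inv_eq_iff_eq_mul]
  apply gl_ext_pt
  intro x'' y
  rw [mv_mul, mv_mul, mv_kA_pt, mv_kel_pt, mv_kel_pt, mv_kA_pt, Matrix.mulVec_add,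
    Matrix.mulVec_smul, hα]
  congr 2
  rw [mul_assoc c, ← mul_assoc μ⁻¹, inv_mul_cancel₀ hμ, one_mul]

end Cfsg.Agent.Lib.Helper4.SOTLeaf
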