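import Mathlib
import Cfsg.Prelude.Def_ClassicalGeometry
import Cfsg.Prelude.Def_GeometricClasses
import Cfsg.Agent.Lib.Helper2.SOTDefs
import Cfsg.Agent.Lib.Helper2.SOTGDefs
import Cfsg.Agent.Lib.Helper27.SOTLADefs

/-!
S5666 part (LA): small lemmas on the symmetric form `fB G` used by my leaves A4, A5.
-/

set_option autoImplicit false
set_option linter.unusedSectionVars false
set_option linter.unusedVariables false

namespace Cfsg.Agent.Lib.Helper4.SOTLALeaf
open Matrix
open Cfsg.Agent.Lib.Helper25.Tens Cfsg.Agent.Lib.Helper25.SpT Cfsg.Agent.Lib.Helper19.OSub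
open Cfsg.Agent.Lib.Helper2.SOT Cfsg.Agent.Lib.Helper27.SOTLA
open scoped Kronecker

variable {F : Type*} [Field F] {b : ℕ} {G : Matrix (Fin b) (Fin b) F}

lemma fB_zero_left (G : Matrix (Fin b) (Fin b) F) (z : Fin b → F) : fB G 0 z = 0 := by
  simp [fB]

lemma fB_zero_right (G : Matrix (Fin b) (Fin b) F) (z : Fin b → F) : fB G z 0 = 0 := by
  simp [fB]

lemma fB_neg_left (G : Matrix (Fin b) (Fin b) F) (y z : Fin b → F) : fB G (-y) z = -fB G y z := by
  simp [fB]

lemma fB_neg_right (G : Matrix (Fin b) (Fin b) F) (y z : Fin b → F) : fB G y (-z) = -fB G y z := by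
  simp [fB, Matrix.mulVec_neg]

lemma fB_sub_left (G : Matrix (Fin b) (Fin b) F) (y y' z : Fin b → F) :
    fB G (y - y') z = fB G y z - fB G y' z := by
  simp [fB, sub_dotProduct]

lemma fB_sub_right (G : Matrix (Fin b) (Fin b) F) (y z z' : Fin b → F) :
    fB G y (z - z') = fB G y z - fB G y z' := by
  simp [fB, Matrix.mulVec_sub, dotProduct_sub]

/-- the norm of a sum -/
lemma Q_add (hG : Gᵀ = G) (u v : Fin b → F) :
    fB G (u + v) (u + v) = fB G u u + 2 * fB G u v + fB G v v := by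
  rw [fB_add_left, fB_add_right, fB_add_right, fB_comm G hG v u]
  ring

/-- the norm of a difference -/
lemma Q_sub (hG : Gᵀ = G) (u v : Fin b → F) :
    fB G (u - v) (u - v) = fB G u u - 2 * fB G u v + fB G v v := by
  rw [fB_sub_left, fB_sub_right, fB_sub_right, fB_comm G hG v u]
  ring

lemma Q_smul (G : Matrix (Fin b) (Fin b) F) (c : F) (u : Fin b → F) :
    fB G (c • u) (c • u) = c * c * fB G u u := by
  rw [fB_smul_left, fB_smul_right]
  ring

/-- nondegeneracy of `fB G` -/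
lemma fB_nondeg_aux (hnd : G.det ≠ 0) {y : Fin b → F} (hy : y ≠ 0) :
    ∃ y' : Fin b → F, fB G y y' ≠ 0 := by
  by_contra hcon
  push Not at hcon
  apply hy
  apply Matrix.eq_zero_of_vecMul_eq_zero hnd
  rw [← dotProduct_eq_zero_iff]
  intro w
  rw [← Matrix.dotProduct_mulVec]
  exact hcon w

/-- the action of a reflection -/
lemma refl_mulVec_aux (G : Matrix (Fin b) (Fin b) F) (d y : Fin b → F) :
    refl G d *ᵥ y = y - (2 * fB G y d / fB G d d) • d := by
  unfold Cfsg.Agent.Lib.Helper27.SOTLA.refl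
  rw [Matrix.sub_mulVec, Matrix.one_mulVec, Matrix.smul_mulVec, rk1_mulVec, smul_smul]
  congr 2
  ring

/-- a reflection-invariant subspace containing `e` contains every nonsingular `d'` not orthogonal to `e` -/
lemma mem_of_refl_mem (h2 : (2 : F) ≠ 0) (E : Submodule F (Fin b → F)) {e d' : Fin b → F}
    (he : e ∈ E) (hd' : fB G d' d' ≠ 0) (hed' : fB G e d' ≠ 0) (hr : refl G d' *ᵥ e ∈ E) :
    d' ∈ E := by
  rw [refl_mulVec_aux] at hr
  have h1 : (2 * fB G e d' / fB G d' d') • d' ∈ E := by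
    have := E.sub_mem he hr
    rwa [sub_sub_cancel] at this
  have hc : 2 * fB G e d' / fB G d' d' ≠ 0 := div_ne_zero (mul_ne_zero h2 hed') hd'
  have := E.smul_mem (2 * fB G e d' / fB G d' d')⁻¹ h1
  rwa [smul_smul, inv_mul_cancel₀ hc, one_smul] at this

/-- `|F| ≥ 3`: a value different from `0` and from a given `c` -/
lemma exists_ne_zero_ne (h2 : (2 : F) ≠ 0) (c : F) : ∃ t : F, t ≠ 0 ∧ t ≠ c := by
  by_cases hc : c = 1
  · refine ⟨-1, neg_ne_zero.mpr one_ne_zero, ?_⟩
    rw [hc]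
    intro h
    apply h2
    have : (1 : F) + 1 = 0 := by
      nth_rewrite 1 [← h]
      exact neg_add_cancel 1
    rw [← one_add_one_eq_two]
    exact this
  · exact ⟨1, one_ne_zero, fun h => hc h.symm⟩

/-- one of `w`, `y`, `w + y` is nonsingular if `fB w y ≠ 0` -/
lemma exists_nonsing_of_pair (hG : Gᵀ = G) (h2 : (2 : F) ≠ 0) {w y : Fin b → F}
    (hwy : fB G w y ≠ 0) :
    fB G w w ≠ 0 ∨ fB G y y ≠ 0 ∨ fB G (w + y) (w + y) ≠ 0 := by
  by_cases h1 : fB G w w = 0
  · by_cases h3 : fB G y y = 0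
    · right; right
      rw [Q_add hG, h1, h3, zero_add, add_zero]
      exact mul_ne_zero h2 hwy
    · exact Or.inr (Or.inl h3)
  · exact Or.inl h1

end Cfsg.Agent.Lib.Helper4.SOTLALeaf
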