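import Mathlib
import Cfsg.Prelude.Def_ClassicalGeometry
import Cfsg.Prelude.Def_GeometricClasses
import Cfsg.Agent.Lib.Helper2.SOTDefs
import Cfsg.Agent.Lib.Helper2.SOTGDefs
import Cfsg.Agent.Lib.Helper27.SOTLADefs
import Cfsg.Agent.Lib.Helper4.SOTLABasic

/-!
S5666 part (LA), leaf A4 (helper27's sub-market): the IRREDUCIBILITY LEMMA for `d^⊥` under its
reflections (`q ≥ 5` or `dim d^⊥ ≥ 3`).
-/

set_option autoImplicit false
set_option linter.unusedSectionVars false
set_option linter.unusedVariables false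

namespace Cfsg.Agent.Lib.Helper4.SOTLALeaf
open Matrix
open Cfsg.Agent.Lib.Helper25.Tens Cfsg.Agent.Lib.Helper25.SpT Cfsg.Agent.Lib.Helper19.OSub
open Cfsg.Agent.Lib.Helper2.SOT Cfsg.Agent.Lib.Helper27.SOTLA
open scoped Kronecker

variable {F : Type*} [Field F] [Fintype F] {a b : ℕ} {G : Matrix (Fin b) (Fin b) F}
  {M : Subgroup (GL (Idx a b) F)}

/-- `|F| ≥ 5`: a value different from `0, 1, -1` -/
lemma exists_ne_three (hq : 5 ≤ Fintype.card F) : ∃ t : F, t ≠ 0 ∧ t ≠ 1 ∧ t ≠ -1 := by
  classical
  by_contra hcon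
  push Not at hcon
  have hall : ∀ t : F, t ∈ ({0, 1, -1} : Finset F) := by
    intro t
    simp only [Finset.mem_insert, Finset.mem_singleton]
    by_cases h0 : t = 0
    · exact Or.inl h0
    · by_cases h1 : t = 1
      · exact Or.inr (Or.inl h1)
      · exact Or.inr (Or.inr (hcon t h0 h1))
  have heq : ({0, 1, -1} : Finset F) = Finset.univ := Finset.eq_univ_iff_forall.mpr hall
  have hcard := congrArg Finset.card heq
  rw [Finset.card_univ] at hcard
  have hle : ({0, 1, -1} : Finset F).card ≤ 3 := Finset.card_le_three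
  omega

/-- a nonzero nonsingular vector orthogonal to three pairwise orthogonal nonsingular vectors (`b ≥ 4`) -/
lemma exists_nonsing_perp_three (hG : Gᵀ = G) (hnd : G.det ≠ 0) (h2 : (2 : F) ≠ 0) (hb : 4 ≤ b)
    {d d₁ d₂ : Fin b → F} (hd : fB G d d ≠ 0) (hd₁ : fB G d₁ d₁ ≠ 0) (hd₂ : fB G d₂ d₂ ≠ 0)
    (h01 : fB G d₁ d = 0) (h02 : fB G d₂ d = 0) (h12 : fB G d₁ d₂ = 0) :
    ∃ y' : Fin b → F, fB G y' y' ≠ 0 ∧ fB G y' d = 0 ∧ fB G y' d₁ = 0 ∧ fB G y' d₂ = 0 := by
  -- a nonzero vector of the perpendicular space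
  let φ : (Fin b → F) →ₗ[F] (Fin 3 → F) :=
    { toFun := fun v => ![fB G v d, fB G v d₁, fB G v d₂]
      map_add' := by
        intro v w
        ext i
        fin_cases i <;> simp [fB_add_left]
      map_smul' := by
        intro c v
        ext i
        fin_cases i <;> simp [fB_smul_left] }
  have hlt : Module.finrank F (Fin 3 → F) < Module.finrank F (Fin b → F) := by
    rw [Module.finrank_fin_fun, Module.finrank_fin_fun]
    omega
  have hker := LinearMap.ker_ne_bot_of_finrank_lt (f := φ) hlt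
  obtain ⟨w, hw, hw0⟩ := (Submodule.ne_bot_iff _).1 hker
  have hwd : fB G w d = 0 := by
    have := congrFun (LinearMap.mem_ker.1 hw) 0
    simpa [φ] using this
  have hwd₁ : fB G w d₁ = 0 := by
    have := congrFun (LinearMap.mem_ker.1 hw) 1
    simpa [φ] using this
  have hwd₂ : fB G w d₂ = 0 := by
    have := congrFun (LinearMap.mem_ker.1 hw) 2
    simpa [φ] using this
  -- a partner in the perpendicular space
  obtain ⟨y, hy⟩ := fB_nondeg_aux hnd hw0
  have h10 : fB G d d₁ = 0 := by rw [fB_comm G hG, h01]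
  have h20 : fB G d d₂ = 0 := by rw [fB_comm G hG, h02]
  have h21 : fB G d₂ d₁ = 0 := by rw [fB_comm G hG, h12]
  set yW : Fin b → F := y - (fB G y d / fB G d d) • d - (fB G y d₁ / fB G d₁ d₁) • d₁ -
    (fB G y d₂ / fB G d₂ d₂) • d₂ with hyW
  have e0 : fB G yW d = 0 := by
    rw [hyW]
    simp only [fB_sub_left, fB_smul_left, h01, h02, mul_zero, sub_zero]
    field_simp
    ring
  have e1 : fB G yW d₁ = 0 := by
    rw [hyW]
    simp only [fB_sub_left, fB_smul_left, h10, h21, mul_zero, sub_zero]
    field_simp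
    ring
  have e2 : fB G yW d₂ = 0 := by
    rw [hyW]
    simp only [fB_sub_left, fB_smul_left, h20, h12, mul_zero, sub_zero]
    field_simp
    ring
  have e3 : fB G w yW = fB G w y := by
    rw [hyW]
    simp only [fB_sub_right, fB_smul_right, hwd, hwd₁, hwd₂, mul_zero, sub_zero]
  have hwy : fB G w yW ≠ 0 := by rw [e3]; exact hy
  rcases exists_nonsing_of_pair hG h2 hwy with h | h | h
  · exact ⟨w, h, hwd, hwd₁, hwd₂⟩
  · exact ⟨yW, h, e0, e1, e2⟩
  · refine ⟨w + yW, h, ?_, ?_, ?_⟩
    · rw [fB_add_left, hwd, e0, add_zero]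
    · rw [fB_add_left, hwd₁, e1, add_zero]
    · rw [fB_add_left, hwd₂, e2, add_zero]

/-- (A4) IRREDUCIBILITY LEMMA for `D = d^⊥`. -/
theorem refl_irred (hG : Gᵀ = G) (hnd : G.det ≠ 0) (h2 : (2 : F) ≠ 0) (hb : 3 ≤ b)
    {d : Fin b → F} (hd : fB G d d ≠ 0) (hq : 5 ≤ Fintype.card F ∨ 4 ≤ b)
    (E : Submodule F (Fin b → F)) (hEd : ∀ e ∈ E, fB G e d = 0) (hE0 : E ≠ ⊥)
    (hinv : ∀ d' : Fin b → F, fB G d' d = 0 → fB G d' d' ≠ 0 → ∀ e ∈ E, refl G d' *ᵥ e ∈ E) :
    ∀ e : Fin b → F, fB G e d = 0 → e ∈ E := by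
  -- (I) the basic step
  have hI : ∀ e ∈ E, ∀ d' : Fin b → F, fB G d' d = 0 → fB G d' d' ≠ 0 → fB G e d' ≠ 0 → d' ∈ E :=
    fun e he d' hd'd hd' hed' => mem_of_refl_mem h2 E he hd' hed' (hinv d' hd'd hd' e he)
  -- Step 1: a nonsingular vector of `E`
  obtain ⟨d₁, hd₁E, hd₁⟩ : ∃ d₁ ∈ E, fB G d₁ d₁ ≠ 0 := by
    obtain ⟨e, heE, he0⟩ := Submodule.exists_mem_ne_zero_of_ne_bot hE0
    obtain ⟨y, hy⟩ := fB_nondeg_aux hnd he0
    have hed : fB G e d = 0 := hEd e heE
    set d'' : Fin b → F := y - (fB G y d / fB G d d) • d with hd''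
    have h1 : fB G d'' d = 0 := by
      rw [hd'', fB_sub_left, fB_smul_left]
      field_simp
      ring
    have h3 : fB G e d'' ≠ 0 := by
      rw [hd'', fB_sub_right, fB_smul_right, hed, mul_zero, sub_zero]
      exact hy
    by_cases hQ : fB G d'' d'' = 0
    · by_cases hQe : fB G e e = 0
      · refine ⟨d'' + e, ?_, ?_⟩
        · apply hI e heE (d'' + e)
          · rw [fB_add_left, h1, hed, add_zero]
          · rw [Q_add hG, hQ, hQe, zero_add, add_zero, fB_comm G hG]
            exact mul_ne_zero h2 h3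
          · rw [fB_add_right, hQe, add_zero]
            exact h3
        · rw [Q_add hG, hQ, hQe, zero_add, add_zero, fB_comm G hG]
          exact mul_ne_zero h2 h3
      · exact ⟨e, heE, hQe⟩
    · exact ⟨d'', hI e heE d'' h1 hQ h3, hQ⟩
  have hd₁d : fB G d₁ d = 0 := hEd d₁ hd₁E
  -- Step 2: non-problematic vectors
  have hNP : ∀ v ∈ E, fB G v v ≠ 0 → ∀ d₂ : Fin b → F, fB G d₂ d = 0 → fB G d₂ d₂ ≠ 0 →
      (fB G v d₂ ≠ 0 ∨ fB G d₂ d₂ ≠ -fB G v v) → d₂ ∈ E := by
    intro v hvE hv d₂ hd₂d hd₂ hor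
    by_cases hvd₂ : fB G v d₂ = 0
    · have hne : fB G d₂ d₂ ≠ -fB G v v := by
        rcases hor with h | h
        · exact absurd hvd₂ h
        · exact h
      have hu : v - d₂ ∈ E := by
        apply hI v hvE (v - d₂)
        · rw [fB_sub_left, hEd v hvE, hd₂d, sub_zero]
        · rw [Q_sub hG, hvd₂, mul_zero, sub_zero]
          intro h0
          apply hne
          linear_combination h0
        · rw [fB_sub_right, hvd₂, sub_zero]
          exact hv
      have := E.sub_mem hvE hu
      rwa [sub_sub_cancel] at this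
    · exact hI v hvE d₂ hd₂d hd₂ hvd₂
  -- Step 3: every nonsingular vector of `d^⊥` is in `E`
  have hNS : ∀ d₂ : Fin b → F, fB G d₂ d = 0 → fB G d₂ d₂ ≠ 0 → d₂ ∈ E := by
    intro d₂ hd₂d hd₂
    by_cases hp : fB G d₁ d₂ ≠ 0 ∨ fB G d₂ d₂ ≠ -fB G d₁ d₁
    · exact hNP d₁ hd₁E hd₁ d₂ hd₂d hd₂ hp
    · push Not at hp
      obtain ⟨hp1, hp2⟩ := hp
      rcases hq with hq5 | hb4
      · -- `q ≥ 5`
        obtain ⟨t, ht0, ht1, htm1⟩ := exists_ne_three hq5
        have hu : d₁ + t • d₂ ∈ E := by
          apply hI d₁ hd₁E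
          · rw [fB_add_left, fB_smul_left, hd₁d, hd₂d, mul_zero, add_zero]
          · rw [Q_add hG, fB_smul_right, hp1, Q_smul, hp2]
            have h1 : t - 1 ≠ 0 := sub_ne_zero.mpr ht1
            have h3 : t + 1 ≠ 0 := by
              intro h0
              apply htm1
              linear_combination h0
            have h4 : fB G d₁ d₁ + 2 * (t * 0) + t * t * -fB G d₁ d₁ =
                -(fB G d₁ d₁ * ((t - 1) * (t + 1))) := by ring
            rw [h4]
            exact neg_ne_zero.mpr (mul_ne_zero hd₁ (mul_ne_zero h1 h3))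
          · rw [fB_add_right, fB_smul_right, hp1, mul_zero, add_zero]
            exact hd₁
        have h5 : t • d₂ ∈ E := by
          have := E.sub_mem hu hd₁E
          rwa [add_sub_cancel_left] at this
        have := E.smul_mem t⁻¹ h5
        rwa [smul_smul, inv_mul_cancel₀ ht0, one_smul] at this
      · -- `b ≥ 4`
        obtain ⟨y', hy', hy'd, hy'd₁, hy'd₂⟩ :=
          exists_nonsing_perp_three hG hnd h2 hb4 hd hd₁ hd₂ hd₁d hd₂d hp1
        have hd₁y' : fB G d₁ y' = 0 := by rw [fB_comm G hG, hy'd₁]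
        have hd₂y' : fB G d₂ y' = 0 := by rw [fB_comm G hG, hy'd₂]
        by_cases hμ : fB G y' y' = -fB G d₁ d₁
        · -- `d₂ ± y'` have norm `-2κ`
          have hu₁ : d₂ + y' ∈ E := by
            apply hNP d₁ hd₁E hd₁
            · rw [fB_add_left, hd₂d, hy'd, add_zero]
            · rw [Q_add hG, hd₂y', hp2, hμ]
              intro h0
              apply hd₁
              have : (2 : F) * fB G d₁ d₁ = 0 := by linear_combination -h0
              rcases mul_eq_zero.mp this with h | h
              · exact absurd h h2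
              · exact h
            · right
              rw [Q_add hG, hd₂y', hp2, hμ]
              intro h0
              apply hd₁
              linear_combination -h0
          have hu₂ : d₂ - y' ∈ E := by
            apply hNP d₁ hd₁E hd₁
            · rw [fB_sub_left, hd₂d, hy'd, sub_zero]
            · rw [Q_sub hG, hd₂y', hp2, hμ]
              intro h0
              apply hd₁
              have : (2 : F) * fB G d₁ d₁ = 0 := by linear_combination -h0
              rcases mul_eq_zero.mp this with h | h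
              · exact absurd h h2
              · exact h
            · right
              rw [Q_sub hG, hd₂y', hp2, hμ]
              intro h0
              apply hd₁
              linear_combination -h0
          have h5 : (2 : F) • d₂ ∈ E := by
            have := E.add_mem hu₁ hu₂
            have e : d₂ + y' + (d₂ - y') = (2 : F) • d₂ := by
              rw [two_smul]
              abel
            rwa [e] at this
          have := E.smul_mem (2 : F)⁻¹ h5
          rwa [smul_smul, inv_mul_cancel₀ h2, one_smul] at this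
        · -- `y' ∈ E`, then `v = d₁ + y'`
          have hy'E : y' ∈ E := hNP d₁ hd₁E hd₁ y' hy'd hy' (Or.inr hμ)
          have hvE : d₁ + y' ∈ E := E.add_mem hd₁E hy'E
          have hQv : fB G (d₁ + y') (d₁ + y') = fB G d₁ d₁ + fB G y' y' := by
            rw [Q_add hG, hd₁y', mul_zero, add_zero]
          apply hNP (d₁ + y') hvE _ d₂ hd₂d hd₂
          · right
            rw [hQv, hp2]
            intro h0
            apply hy'
            linear_combination h0
          · rw [hQv]
            intro h0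
            apply hμ
            linear_combination h0
  -- Step 4: all of `d^⊥`
  intro y hyd
  by_cases hQy : fB G y y = 0
  · obtain ⟨t, ht0, ht⟩ := exists_ne_zero_ne h2 (-(2 * fB G y d₁) / fB G d₁ d₁)
    have hu : y + t • d₁ ∈ E := by
      apply hNS
      · rw [fB_add_left, fB_smul_left, hyd, hd₁d, mul_zero, add_zero]
      · rw [Q_add hG, hQy, fB_smul_right, Q_smul, zero_add]
        have h4 : 2 * (t * fB G y d₁) + t * t * fB G d₁ d₁ =
            t * (2 * fB G y d₁ + t * fB G d₁ d₁) := by ring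
        rw [h4]
        apply mul_ne_zero ht0
        intro h0
        apply ht
        field_simp
        linear_combination h0
    have := E.sub_mem hu (E.smul_mem t hd₁E)
    rwa [add_sub_cancel_right] at this
  · exact hNS y hyd hQy

end Cfsg.Agent.Lib.Helper4.SOTLALeaf
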