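import Mathlib
import Cfsg.Prelude.Def_GeometricClasses
import Cfsg.Prelude.Def_Classical

/-!
# SU_6(2), the class-3 member `N(K)`, `K ≅ F_64` (SUnMax stage 2, leaf E3d `su6_two_field_le_symp`): DEFINITIONS (helper4)

`F = F_4`, `V = F^6`, `f = hermForm 6 F 2`.  `E` is an abstract model of the adjoint-closed field subalgebra `K` (`|E| = 64`),
`ρ : E →ₐ[F] M_6(F)` with range `K`; the adjoint on `K` is `x ↦ x^8`.  `E₀ := {x | x^8 = x} = F_8`.
`h : V → V → E` the `E`-hermitian form with `f (x v) v' = Tr_{E/F} (x * h v v')`; `(u, w)` a hyperbolic pair;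
`V₀ := {v | h v w ∈ E₀ ∧ h v u ∈ E₀} = E₀ u + E₀ w`.
-/

set_option autoImplicit false
set_option linter.unusedSectionVars false
set_option linter.unusedVariables false

namespace Cfsg.Agent.Lib.Helper4.SU6F
open Matrix

variable {F : Type*} [Field F] [Fintype F] {E : Type*} [Field E] [Algebra F E]

/-- the context: `|F| = 4`, `|E| = 64`, `ρ` an embedding of `E` in `M_6(F)` whose image is closed under the adjoint of the
standard hermitian form (`= conjugate transpose`), the adjoint being `x ↦ x ^ 8` -/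
structure FCtx (ρ : E →ₐ[F] Matrix (Fin 6) (Fin 6) F) : Prop where
  cardF : Fintype.card F = 4
  cardE : Nat.card E = 64
  inj : Function.Injective ρ
  adj : ∀ x : E, ρ (x ^ 8) = ((ρ x).map (fun a : F => a ^ 2))ᵀ

/-- the `E`-hermitian form attached to `f` -/
structure HForm (ρ : E →ₐ[F] Matrix (Fin 6) (Fin 6) F) (h : (Fin 6 → F) → (Fin 6 → F) → E) : Prop where
  tr : ∀ (x : E) (v v' : Fin 6 → F), Cfsg.hermForm 6 F 2 (ρ x *ᵥ v) v' = Algebra.trace F E (x * h v v')
  add_left : ∀ v₁ v₂ v' : Fin 6 → F, h (v₁ + v₂) v' = h v₁ v' + h v₂ v'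
  smul_left : ∀ (x : E) (v v' : Fin 6 → F), h (ρ x *ᵥ v) v' = x * h v v'
  herm : ∀ v v' : Fin 6 → F, h v' v = h v v' ^ 8

/-- a hyperbolic pair -/
structure Hyp (h : (Fin 6 → F) → (Fin 6 → F) → E) (u w : Fin 6 → F) : Prop where
  uu : h u u = 0
  ww : h w w = 0
  uw : h u w = 1

/-- the `F_2`-structure `V₀ = E₀ u + E₀ w` -/
def V0 (h : (Fin 6 → F) → (Fin 6 → F) → E) (u w : Fin 6 → F) (v : Fin 6 → F) : Prop :=
  h v w ^ 8 = h v w ∧ h v u ^ 8 = h v u

/-- rational vectors: coordinates in `F_2 = {a | a² = a}` -/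
def Rat (r : Fin 6 → F) : Prop := ∀ i, r i ^ 2 = r i

end Cfsg.Agent.Lib.Helper4.SU6F
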