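import Cfsg.Prelude.Def_GeometricClasses

/-!
# "Every maximal subgroup of SU_n(q) is geometric or residual" (rows S5778 S5784 S5796 S5802 S5811 S5820 S5832 S5841
# S5856 S5865, n = 3..12): definitions (helper4).  Plan: notes/SUnMax_plan.md

`SUg n F q = GU n F q ⊓ specialLinear (Fin n) F` is `SU_n(q)` inside `GL (Fin n) F`.
`UGood n F q X`: `X` is the un-intersected structure stabiliser of one of the unitary classes of `Cfsg.Geo.InUnitaryClass`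
(so the member of the class is `X ⊓ GU n F q`) which in addition satisfies the side conditions of the tables.
-/

set_option autoImplicit false

namespace Cfsg.Agent.Lib.Helper4.SUM

open Cfsg.Geo Matrix

/-- `SU_n(q)` as a subgroup of `GL_n(F)` -/
abbrev SUg (n : ℕ) (F : Type*) [Field F] (q : ℕ) : Subgroup (GL (Fin n) F) :=
  Cfsg.GU n F q ⊓ specialLinear (Fin n) F

/-- the refined unitary classes (structure stabilisers before intersecting with `GU`), with the side conditions -/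
def UGood (n : ℕ) (F : Type*) [Field F] [Fintype F] (q : ℕ) (X : Subgroup (GL (Fin n) F)) : Prop :=
  (∃ W : Submodule F (Fin n → F), W ≠ ⊥ ∧ IsTotallySingularFor (Cfsg.hermForm n F q) W ∧ X = subspaceStabilizer W) ∨
  (∃ W : Submodule F (Fin n → F), W ≠ ⊥ ∧ IsNondegenerateOn (Cfsg.hermForm n F q) W ∧ 2 * Module.finrank F W < n ∧
      X = subspaceStabilizer W) ∨
  (∃ (t k : ℕ) (D : Fin t → Submodule F (Fin n → F)), IsNondegenerateMDecomposition (Cfsg.hermForm n F q) k D ∧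
      (k = 1 → ¬ (n = 3 ∧ q = 5) ∧ ¬ (n = 4 ∧ q = 3) ∧ ¬ (n = 6 ∧ q = 2)) ∧ (k = 2 → 3 ≤ q) ∧
      X = decompositionStabilizer D) ∨
  (∃ (k : ℕ) (D : Fin 2 → Submodule F (Fin n → F)), 2 * k = n ∧ IsMDecomposition k D ∧
      (∀ i, IsTotallySingularFor (Cfsg.hermForm n F q) (D i)) ∧ (n = 4 → 4 ≤ q) ∧ X = decompositionStabilizer D) ∨
  (∃ (F₀ : Subfield F) (r : ℕ) (P : GL (Fin n) F), r.Prime ∧ Odd r ∧ Fintype.card F = Nat.card F₀ ^ r ∧
      IsFormRationalStructure (Cfsg.hermForm n F q) F₀ 1 P ∧ X = subfieldSubgroup F₀ P) ∨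
  (∃ (F₀ : Subfield F) (P : GL (Fin n) F), Odd q ∧ Fintype.card F = Nat.card F₀ ^ 2 ∧
      IsFormRationalStructure (Cfsg.hermForm n F q) F₀ 1 P ∧ (n = 3 → 7 ≤ q) ∧ X = subfieldSubgroup F₀ P) ∨
  (∃ (F₀ : Subfield F) (P : GL (Fin n) F) (ζ : F), Even n ∧ Fintype.card F = Nat.card F₀ ^ 2 ∧ ζ ≠ 0 ∧
      ζ + ζ ^ q = 0 ∧ IsFormRationalStructure (Cfsg.hermForm n F q) F₀ ζ P ∧
      (∀ u : Fin n → F, (∀ i, u i ∈ F₀) → Cfsg.hermForm n F q ((P : Matrix (Fin n) (Fin n) F) *ᵥ u)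
        ((P : Matrix (Fin n) (Fin n) F) *ᵥ u) = 0) ∧
      X = subfieldSubgroup F₀ P) ∨
  (∃ (r : ℕ) (R : Subgroup (GL (Fin n) F)) (p e k : ℕ), IsSymplecticTypeGroup r R ∧
      ActsAbsolutelyIrreducibly (matrixSet R) ∧ R ≤ similarityGroup (Cfsg.hermForm n F q) ∧ r ≠ p ∧
      IsMinimalFieldFor (Nat.card (Subgroup.center R)) p e F ∧
      ((Odd r ∧ Nat.card (Subgroup.center R) = r ∧ 1 ≤ k ∧ Nat.card R = r ^ (1 + 2 * k)) ∨
       (r = 2 ∧ e = 2 ∧ Nat.card (Subgroup.center R) = 4 ∧ Nat.card R = 2 ^ (2 + 2 * k))) ∧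
      (n = 3 → 11 ≤ q) ∧ X = subgroupNormalizer R) ∨
  (∃ (r : ℕ) (K : Subalgebra F (Matrix (Fin n) (Fin n) F)), r.Prime ∧ Odd r ∧ IsFieldSubalgebra r K ∧
      IsAdjointClosedFor (Cfsg.hermForm n F q) K ∧
      ¬ (n = 3 ∧ (q = 3 ∨ q = 5)) ∧ ¬ (n = 5 ∧ q = 2) ∧ ¬ (n = 6 ∧ q = 2) ∧ X = subalgebraNormalizer K) ∨
  (∃ (n₁ n₂ : ℕ) (e : Fin n ≃ Fin n₁ × Fin n₂) (P : GL (Fin n) F)
      (f₁ : (Fin n₁ → F) → (Fin n₁ → F) → F) (f₂ : (Fin n₂ → F) → (Fin n₂ → F) → F),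
      2 ≤ n₁ ∧ n₁ < n₂ ∧ IsUnitaryFormPow q f₁ ∧ IsUnitaryFormPow q f₂ ∧
      IsTensorFormStructure (fun x : F => x ^ q) (Cfsg.hermForm n F q) f₁ f₂ e P ∧ (n₁ = 2 → 3 ≤ q) ∧
      X = tensorProductSubgroup n₁ n₂ e P) ∨
  (∃ (k t : ℕ) (e : Fin n ≃ (Fin t → Fin k)) (P : GL (Fin n) F) (f₁ : (Fin k → F) → (Fin k → F) → F),
      3 ≤ k ∧ 2 ≤ t ∧ ¬ (q = 2 ∧ k = 3) ∧ IsUnitaryFormPow q f₁ ∧
      IsTensorPowerFormStructure (fun x : F => x ^ q) (Cfsg.hermForm n F q) f₁ e P ∧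
      X = tensorWreathSubgroup k t e P)

/-- the conclusion of the refined theorem -/
def UConcl (n : ℕ) (F : Type*) [Field F] [Fintype F] (q : ℕ) (H : Subgroup (GL (Fin n) F)) : Prop :=
  (∃ X : Subgroup (GL (Fin n) F), UGood n F q X ∧ H = X ⊓ (Cfsg.GU n F q ⊓ specialLinear (Fin n) F)) ∨
    InUnitaryResidualClass H

/-- the conclusion of Aschbacher's theorem S5663 (helper15), used as a black box -/
def UAsch (n : ℕ) (F : Type*) [Field F] [Fintype F] (q : ℕ) (H : Subgroup (GL (Fin n) F)) : Prop :=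
  (∃ M : Subgroup (GL (Fin n) F), InUnitaryClass n F q M ∧ H ≤ M) ∨ InUnitaryResidualClass H

/-- the statement of S5663 at `n`, `F`, `q` -/
def S5663At (n : ℕ) (F : Type*) [Field F] [Fintype F] (q : ℕ) : Prop :=
  ∀ H : Subgroup (GL (Fin n) F), H ≤ Cfsg.GU n F q ⊓ specialLinear (Fin n) F →
    H ⊔ (scalars (Fin n) F ⊓ (Cfsg.GU n F q ⊓ specialLinear (Fin n) F)) ≠ Cfsg.GU n F q ⊓ specialLinear (Fin n) F →
    (∃ M : Subgroup (GL (Fin n) F), InUnitaryClass n F q M ∧ H ≤ M) ∨ InUnitaryResidualClass H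

end Cfsg.Agent.Lib.Helper4.SUM
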