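import Mathlib
import Cfsg.Agent.Lib.Helper4.SUMDefs
import Cfsg.Agent.Lib.Helper5.PSUSimple
import Cfsg.Agent.Lib.Helper5.GUCenter

/-!
# SU_n maximal subgroups market (helper4), block T: tools for `SUg n F q = GU n F q ⊓ specialLinear (Fin n) F ≤ GL (Fin n) F`,
pulled from helper5's `PSUSimple` / `SUGen` (stated for `Cfsg.SU n F q ≤ SpecialLinearGroup`).  Exact signatures of
`notes/SUnMax_leaves.lean`.
-/

set_option autoImplicit false
set_option linter.unusedSectionVars false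
set_option linter.unusedVariables false
set_option linter.style.haveILetI false

open scoped commutatorElement

namespace Cfsg.Agent.Lib.Helper4.SUMLeaf

open Cfsg.Geo Matrix Module Cfsg.Agent.Lib.Helper4.SUM
open Cfsg.Agent.Lib.Helper5.HermBridge Cfsg.Agent.Lib.Helper5.UForm Cfsg.Agent.Lib.Helper5.SUGen
  Cfsg.Agent.Lib.Helper5.PSUSimple

variable {n : ℕ} {F : Type*} [Field F] [Fintype F] {q : ℕ}

omit [Fintype F] in
/-- T0. -/
theorem mem_SUg_iff (g : GL (Fin n) F) : g ∈ SUg n F q ↔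
    (∀ x y, Cfsg.hermForm n F q ((g : Matrix (Fin n) (Fin n) F) *ᵥ x) ((g : Matrix (Fin n) (Fin n) F) *ᵥ y) =
      Cfsg.hermForm n F q x y) ∧ (g : Matrix (Fin n) (Fin n) F).det = 1 := by
  unfold SUg
  rw [Subgroup.mem_inf]
  constructor
  · rintro ⟨h1, h2⟩
    refine ⟨fun x y => h1 x y, ?_⟩
    have := congrArg Units.val (MonoidHom.mem_ker.mp h2)
    simpa using this
  · rintro ⟨h1, h2⟩
    refine ⟨fun x y => h1 x y, ?_⟩
    apply MonoidHom.mem_ker.mpr
    apply Units.ext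
    simpa using h2

omit [Fintype F] in
/-- T1. -/
theorem ut_mulVec (v x : Fin n → F) (c : F) :
    Cfsg.unitaryTransvection n q v c *ᵥ x = x + (c * Cfsg.hermForm n F q x v) • v :=
  Cfsg.Agent.Lib.Helper5.HermBridge.ut_mulVec v x c

/-- the inclusion of `Cfsg.SU n F q` into `GL` -/
def suToGL (n : ℕ) (F : Type*) [Field F] (q : ℕ) : ↥(Cfsg.SU n F q) →* GL (Fin n) F :=
  (Matrix.SpecialLinearGroup.toGL).comp (Subgroup.subtype _)

omit [Fintype F] in
theorem suToGL_coe (A : ↥(Cfsg.SU n F q)) :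
    ((suToGL n F q A : GL (Fin n) F) : Matrix (Fin n) (Fin n) F) =
      ((A : Matrix.SpecialLinearGroup (Fin n) F) : Matrix (Fin n) (Fin n) F) := rfl

omit [Fintype F] in
theorem suToGL_range : (suToGL n F q).range = SUg n F q := by
  ext g
  rw [mem_SUg_iff]
  constructor
  · rintro ⟨A, rfl⟩
    refine ⟨fun x y => ?_, ?_⟩
    · rw [suToGL_coe]
      exact A.2 x y
    · rw [suToGL_coe]
      exact (A : Matrix.SpecialLinearGroup (Fin n) F).2
  · rintro ⟨h1, h2⟩
    refine ⟨⟨⟨(g : Matrix (Fin n) (Fin n) F), h2⟩, h1⟩, ?_⟩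
    apply Units.ext
    rfl

/-- T2. -/
theorem tv_mem (hF : Fintype.card F = q ^ 2) {v : Fin n → F} (hv : Cfsg.hermForm n F q v v = 0) {c : F}
    (hc : c ^ q = -c) : ∃ g ∈ SUg n F q, (g : Matrix (Fin n) (Fin n) F) = Cfsg.unitaryTransvection n q v c := by
  obtain ⟨A, hA⟩ := exists_tv hF hv (c := c) (by rw [frobQ_apply]; exact hc)
  refine ⟨suToGL n F q A, ?_, ?_⟩
  · rw [← suToGL_range]
    exact ⟨A, rfl⟩
  · rw [suToGL_coe, hA]

/-- a transvection in `SU` with non-zero centre has a trace-zero parameter -/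
theorem skew_of_tv (hF : Fintype.card F = q ^ 2) {v : Fin n → F} (hv0 : v ≠ 0) (hv : Cfsg.hermForm n F q v v = 0) {c : F}
    (hiso : ∀ x y, Cfsg.hermForm n F q (Cfsg.unitaryTransvection n q v c *ᵥ x)
      (Cfsg.unitaryTransvection n q v c *ᵥ y) = Cfsg.hermForm n F q x y) : c ^ q = -c := by
  have hf := herm_unitary (n := n) hF
  obtain ⟨x, hx⟩ := (hf.nondegenerate v hv0).1
  have h := hiso x x
  rw [ut_mulVec, hf.add_left, u_add_right hf, u_add_right hf, hf.smul_left, hf.smul_left, u_smul_right hf,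
    u_smul_right hf, hv, frobQ_apply, hf.herm v x, frobQ_apply] at h
  have hx' : Cfsg.hermForm n F q x v ^ q ≠ 0 := pow_ne_zero _ hx
  have h2 : (c ^ q + c) * (Cfsg.hermForm n F q x v * Cfsg.hermForm n F q x v ^ q) = 0 := by
    rw [mul_pow] at h
    linear_combination h
  rcases mul_eq_zero.mp h2 with h3 | h3
  · linear_combination h3
  · exact absurd h3 (mul_ne_zero hx hx')

/-- T3. -/
theorem su_le_of_tv (hF : Fintype.card F = q ^ 2) (hn : 3 ≤ n) (h32 : ¬ (n = 3 ∧ q = 2)) (M : Subgroup (GL (Fin n) F))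
    (h : ∀ g ∈ SUg n F q, ∀ (v : Fin n → F) (c : F), Cfsg.hermForm n F q v v = 0 → c ^ q = -c →
      (g : Matrix (Fin n) (Fin n) F) = Cfsg.unitaryTransvection n q v c → g ∈ M) : SUg n F q ≤ M := by
  classical
  have hq2 := Cfsg.Agent.Lib.Helper14.herm_two_le hF
  rw [← suToGL_range, MonoidHom.range_eq_map, ← closure_transvections_eq_top hF hn h32, MonoidHom.map_closure,
    Subgroup.closure_le]
  rintro _ ⟨A, ⟨v, c, hv, hA⟩, rfl⟩
  have hmem : suToGL n F q A ∈ SUg n F q := by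
    rw [← suToGL_range]
    exact ⟨A, rfl⟩
  by_cases hv0 : v = 0
  · subst hv0
    refine h _ hmem 0 0 hv (by rw [zero_pow (by omega), neg_zero]) ?_
    rw [suToGL_coe, hA]
    unfold Cfsg.unitaryTransvection
    simp
  · refine h _ hmem v c hv ?_ (by rw [suToGL_coe, hA])
    apply skew_of_tv hF hv0 hv
    intro x y
    rw [← hA]
    exact A.2 x y

/-- T4. -/
theorem su_perfect (hF : Fintype.card F = q ^ 2) (hn : 3 ≤ n) (h32 : ¬ (n = 3 ∧ q = 2)) :
    ⁅SUg n F q, SUg n F q⁆ = SUg n F q := by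
  have h := commutator_SU_eq_top (n := n) hF hn h32
  rw [commutator_def] at h
  rw [← suToGL_range, MonoidHom.range_eq_map, ← Subgroup.map_commutator, h]

/-- T6. -/
theorem su_absIrr (hF : Fintype.card F = q ^ 2) (hn : 3 ≤ n) :
    ActsAbsolutelyIrreducibly (matrixSet (SUg n F q)) := by
  classical
  have hf := herm_unitary (n := n) hF
  have htop : Module.finrank F (⊤ : Submodule F (Fin n → F)) = n := by
    rw [finrank_top, Module.finrank_fin_fun]
  obtain ⟨κ, hκ0, hκ⟩ := exists_skew hf.involutive hf.ne_refl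
  rw [frobQ_apply] at hκ
  constructor
  · intro W hW
    by_cases hW0 : W = ⊥
    · exact Or.inl hW0
    right
    obtain ⟨w, hwW, hw0⟩ := (Submodule.ne_bot_iff W).mp hW0
    -- transvections push isotropic vectors into `W`
    have key : ∀ x ∈ W, ∀ v : Fin n → F, Cfsg.hermForm n F q v v = 0 → Cfsg.hermForm n F q x v ≠ 0 → v ∈ W := by
      intro x hx v hv hxv
      obtain ⟨g, hg, hgm⟩ := tv_mem hF hv hκ
      have h1 : (g : Matrix (Fin n) (Fin n) F) *ᵥ x ∈ W :=
        hW _ ⟨g, hg, rfl⟩ ⟨x, hx, rfl⟩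
      rw [hgm, ut_mulVec] at h1
      have h2 : (κ * Cfsg.hermForm n F q x v) • v ∈ W := by
        have := W.sub_mem h1 hx
        rwa [add_sub_cancel_left] at this
      have h3 := W.smul_mem (κ * Cfsg.hermForm n F q x v)⁻¹ h2
      rwa [smul_smul, inv_mul_cancel₀ (mul_ne_zero hκ0 hxv), one_smul] at h3
    obtain ⟨x0, hx0⟩ := (hf.nondegenerate w hw0).1
    obtain ⟨v₁, -, hv₁, hv₁w⟩ := exists_iso_ne hf (ND_top hf) (by omega) w ⟨x0, trivial, hx0⟩
    have hv₁W : v₁ ∈ W := key w hwW v₁ hv₁ (u_symm_ne hf hv₁w)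
    have hv₁0 : v₁ ≠ 0 := by
      rintro rfl
      rw [u_zero_left hf] at hv₁w
      exact hv₁w rfl
    have hiso : ∀ b : Fin n → F, Cfsg.hermForm n F q b b = 0 → b ∈ W := by
      intro b hb
      by_cases hb0 : b = 0
      · rw [hb0]; exact W.zero_mem
      by_cases h1 : Cfsg.hermForm n F q v₁ b = 0
      · obtain ⟨y1, hy1⟩ := (hf.nondegenerate v₁ hv₁0).1
        obtain ⟨y2, hy2⟩ := (hf.nondegenerate b hb0).1
        obtain ⟨c, -, hc, hc1, hc2⟩ := exists_iso_ne2 hf (ND_top hf) (by omega) v₁ b ⟨y1, trivial, hy1⟩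
          ⟨y2, trivial, hy2⟩
        have hcW : c ∈ W := key v₁ hv₁W c hc (u_symm_ne hf hc1)
        exact key c hcW b hb hc2
      · exact key v₁ hv₁W b hb h1
    rw [eq_top_iff]
    intro x _
    obtain ⟨b₁, -, b₂, -, b₃, -, h1, h2, h3, hsum⟩ := exists_iso_decomp hf (ND_top hf) (by omega)
      (x := x) trivial
    rw [hsum]
    exact W.add_mem (W.add_mem (hiso b₁ h1) (hiso b₂ h2)) (hiso b₃ h3)
  · intro Z hZ
    obtain ⟨m, rfl⟩ : ∃ m, n = m + 2 := ⟨n - 2, by omega⟩
    have h := Cfsg.Agent.Lib.Helper5.GUCenter.comm_scalar hF Z (fun M hdet hM => by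
      have hmem : Matrix.SpecialLinearGroup.toGL (⟨M, hdet⟩ : Matrix.SpecialLinearGroup (Fin (m + 2)) F) ∈
          SUg (m + 2) F q := by
        rw [mem_SUg_iff]
        exact ⟨fun x y => hM x y, hdet⟩
      exact (hZ M ⟨_, hmem, rfl⟩).symm)
    refine ⟨Z 0 0, ?_⟩
    rw [h]
    ext i j
    by_cases hij : i = j
    · subst hij
      simp
    · simp [Matrix.diagonal_apply_ne _ hij, Matrix.one_apply_ne hij]

/-- T5. -/
theorem su_normal_sub (hF : Fintype.card F = q ^ 2) (hn : 3 ≤ n) (h32 : ¬ (n = 3 ∧ q = 2)) (N : Subgroup (GL (Fin n) F))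
    (hN : N ≤ SUg n F q) (hnorm : ∀ g ∈ SUg n F q, ∀ x ∈ N, g * x * g⁻¹ ∈ N) :
    N = SUg n F q ∨ N ≤ scalars (Fin n) F := by
  have hrange : ∀ A : ↥(Cfsg.SU n F q), suToGL n F q A ∈ SUg n F q := fun A => by
    rw [← suToGL_range]; exact ⟨A, rfl⟩
  haveI : (N.comap (suToGL n F q)).Normal := by
    refine ⟨fun x hx A => ?_⟩
    rw [Subgroup.mem_comap] at hx ⊢
    rw [map_mul, map_mul, map_inv]
    exact hnorm _ (hrange A) _ hx
  rcases normal_le_center_or_eq_top hF hn h32 (N.comap (suToGL n F q)) with h | h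
  · right
    intro x hx
    obtain ⟨A, rfl⟩ : x ∈ (suToGL n F q).range := by rw [suToGL_range]; exact hN hx
    have hA : A ∈ Subgroup.center ↥(Cfsg.SU n F q) := h (by rw [Subgroup.mem_comap]; exact hx)
    have hcomm : ∀ s ∈ matrixSet (SUg n F q), ((suToGL n F q A : GL (Fin n) F) : Matrix (Fin n) (Fin n) F) * s =
        s * ((suToGL n F q A : GL (Fin n) F) : Matrix (Fin n) (Fin n) F) := by
      rintro _ ⟨g, hg, rfl⟩
      obtain ⟨B, rfl⟩ : g ∈ (suToGL n F q).range := by rw [suToGL_range]; exact hg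
      have := (Subgroup.mem_center_iff.mp hA) B
      rw [← Units.val_mul, ← Units.val_mul, ← map_mul, ← map_mul, this]
    obtain ⟨c, hc⟩ := (su_absIrr hF hn).2 _ hcomm
    rw [mem_scalars_iff]
    have hc0 : c ≠ 0 := by
      rintro rfl
      rw [zero_smul] at hc
      have h1 := (suToGL n F q A).isUnit
      have h2 : IsUnit ((suToGL n F q A : GL (Fin n) F) : Matrix (Fin n) (Fin n) F) := ⟨suToGL n F q A, rfl⟩
      rw [hc] at h2
      have : Nontrivial (Matrix (Fin n) (Fin n) F) := by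
        haveI : Nonempty (Fin n) := ⟨⟨0, by omega⟩⟩
        infer_instance
      exact not_isUnit_zero h2
    exact ⟨Units.mk0 c hc0, hc⟩
  · left
    apply le_antisymm hN
    rw [← suToGL_range]
    rintro _ ⟨A, rfl⟩
    have : A ∈ N.comap (suToGL n F q) := by rw [h]; trivial
    exact this

/-- T7. -/
theorem exists_isotropic (hF : Fintype.card F = q ^ 2) (hn : 2 ≤ n) :
    ∃ v : Fin n → F, v ≠ 0 ∧ Cfsg.hermForm n F q v v = 0 := by
  have hf := herm_unitary (n := n) hF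
  have htop : Module.finrank F (⊤ : Submodule F (Fin n → F)) = n := by
    rw [finrank_top, Module.finrank_fin_fun]
  obtain ⟨e, -, he0, hee⟩ := exists_iso hf (ND_top hf) (by omega)
  exact ⟨e, he0, hee⟩

theorem exists_skew (hF : Fintype.card F = q ^ 2) : ∃ c : F, c ≠ 0 ∧ c ^ q = -c := by
  have hf := herm_unitary (n := 1) hF
  obtain ⟨κ, hκ0, hκ⟩ := Cfsg.Agent.Lib.Helper5.UForm.exists_skew hf.involutive hf.ne_refl
  rw [frobQ_apply] at hκ
  exact ⟨κ, hκ0, hκ⟩

end Cfsg.Agent.Lib.Helper4.SUMLeaf
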