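import Mathlib
import Cfsg.Agent.Lib.Helper4.Supersolvable2
import Cfsg.Agent.Lib.Helper4.SupersolvableOrder

set_option autoImplicit false

namespace Cfsg.Agent.Lib.Helper4
open Cfsg
universe u

theorem commutator_le_centralizer_of_cyclic_normal {G : Type u} [Group G] (N : Subgroup G)
    [N.Normal] [IsCyclic N] : commutator G ≤ Subgroup.centralizer (N : Set G) := by
  let _ : CommGroup (MulAut N) :=
    (IsCyclic.mulAutMulEquiv N).toMonoidHom.commGroupOfInjective (IsCyclic.mulAutMulEquiv N).injective
  have h := Abelianization.commutator_subset_ker (MulAut.conjNormal (H := N))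
  intro c hc
  have h1 : MulAut.conjNormal (H := N) c = 1 := h hc
  rw [Subgroup.mem_centralizer_iff]
  intro x hx
  have h2 : ((MulAut.conjNormal (H := N) c ⟨x, hx⟩ : N) : G) = x := by rw [h1]; rfl
  rw [MulAut.conjNormal_apply] at h2
  calc x * c = (c * x * c⁻¹) * c := by rw [h2]
    _ = c * x := by group

theorem isNilpotent_commutator_of_isSupersolvable_aux : ∀ (n : ℕ) (G : Type u) [Group G] [Finite G],
    Nat.card G = n → IsSupersolvable G → Group.IsNilpotent (commutator G) := by
  intro n
  induction n using Nat.strong_induction_on with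
  | _ n ih =>
  intro G _ _ hn hG
  rcases subsingleton_or_nontrivial G with hs | hnt
  · infer_instance
  obtain ⟨N, hNn, hNp⟩ := exists_normal_prime_card_of_isSupersolvable hG
  have hNne : N ≠ ⊥ := by
    intro h
    rw [h, Subgroup.card_bot] at hNp
    exact Nat.not_prime_one hNp
  have hNc : IsCyclic N := by
    have : Fact (Nat.card N).Prime := ⟨hNp⟩
    exact isCyclic_of_prime_card rfl
  have hlt : Nat.card (G ⧸ N) < n := by
    rw [← hn]; exact card_quotient_lt_of_ne_bot' N hNne
  have h1 := ih _ hlt (G ⧸ N) rfl (isSupersolvable_quotient hG N)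
  have e : (commutator G).map (QuotientGroup.mk' N) = commutator (G ⧸ N) := by
    rw [commutator_def, commutator_def, Subgroup.map_commutator,
      Subgroup.map_top_of_surjective _ (QuotientGroup.mk'_surjective N)]
  have h2 : Group.IsNilpotent ↥((commutator G).map (QuotientGroup.mk' N)) := by
    rw [e]; exact h1
  have hcen := commutator_le_centralizer_of_cyclic_normal N
  refine Subgroup.isNilpotent_of_ker_le_center ((QuotientGroup.mk' N).subgroupMap (commutator G)) ?_
  intro x hx
  rw [MonoidHom.mem_ker] at hx
  have hx1 : QuotientGroup.mk' N (x : G) = 1 := congrArg Subtype.val hx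
  have hxN : (x : G) ∈ N := by
    rwa [QuotientGroup.mk'_apply, QuotientGroup.eq_one_iff] at hx1
  rw [Subgroup.mem_center_iff]
  intro y
  apply Subtype.ext
  have := hcen y.2
  rw [Subgroup.mem_centralizer_iff] at this
  exact (this x hxN).symm

theorem isNilpotent_commutator_of_isSupersolvable {G : Type u} [Group G] [Finite G]
    (hG : IsSupersolvable G) : Group.IsNilpotent (commutator G) :=
  isNilpotent_commutator_of_isSupersolvable_aux _ G rfl hG

end Cfsg.Agent.Lib.Helper4
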