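import Mathlib
import Cfsg.Agent.Lib.Helper20.AschDefs
import Cfsg.Agent.Lib.Helper18.AschA89Defs

/-!
S5630 (Aschbacher, linear case), block (A89), sub-market PS of helper18: leaves PS1 `isUnits_eprod` and
PS2 `eq_sum_slot_eprod` (helper4).
-/

set_option autoImplicit false
set_option linter.unusedSectionVars false
set_option linter.unusedVariables false

namespace Cfsg.Agent.Lib.Helper4.AschLeaf
open Matrix Cfsg.Geo Cfsg.Agent.Lib.Helper20.Asch Cfsg.Agent.Lib.Helper18.AschA89
open scoped Kronecker

variable {F : Type*} [Field F] {n : ℕ}

/-- sums over `Fin (r+1) → Fin s` by `Fin.cons` -/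
lemma sum_pi_cons {M : Type*} [AddCommMonoid M] {r s : ℕ} (f : (Fin (r + 1) → Fin s) → M) :
    ∑ x, f x = ∑ a : Fin s, ∑ x' : Fin r → Fin s, f (Fin.cons a x') := by
  rw [← Fintype.sum_prod_type' (f := fun a x' => f (Fin.cons a x'))]
  exact (Fintype.sum_equiv (Fin.consEquiv (fun _ => Fin s)) _ _ (fun p => rfl)).symm

lemma eprod_cons (s r : ℕ) (E : Fin (r + 1) → Fin s → Fin s → Matrix (Fin n) (Fin n) F)
    (a c : Fin s) (x y : Fin r → Fin s) :
    eprod s (r + 1) E (Fin.cons a x) (Fin.cons c y) = E 0 a c * eprod s r (fun i => E i.succ) x y := by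
  rw [eprod_succ]
  simp only [Fin.cons_zero, Fin.cons_succ]

lemma slot_cons_zero (s r : ℕ) (A : Matrix (Fin s) (Fin s) F) (a c : Fin s) (x y : Fin r → Fin s) :
    slot s (r + 1) 0 A (Fin.cons a x : Fin (r + 1) → Fin s) (Fin.cons c y) = if x = y then A a c else 0 := by
  rw [slot_apply]
  simp only [Fin.cons_zero]
  by_cases h : x = y
  · rw [if_pos h, if_pos]
    intro j hj
    obtain ⟨k, rfl⟩ := Fin.exists_succ_eq.2 hj
    rw [Fin.cons_succ, Fin.cons_succ, h]
  · rw [if_neg h, if_neg]
    intro hall
    apply h
    funext k
    have := hall k.succ (Fin.succ_ne_zero k)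
    rwa [Fin.cons_succ, Fin.cons_succ] at this

lemma slot_cons_succ (s r : ℕ) (j : Fin r) (A : Matrix (Fin s) (Fin s) F) (a c : Fin s) (x y : Fin r → Fin s) :
    slot s (r + 1) j.succ A (Fin.cons a x : Fin (r + 1) → Fin s) (Fin.cons c y) =
      if a = c then slot s r j A x y else 0 := by
  rw [slot_apply, slot_apply]
  simp only [Fin.cons_succ]
  by_cases hac : a = c
  · rw [if_pos hac]
    by_cases h : ∀ k, k ≠ j → x k = y k
    · rw [if_pos h, if_pos]
      intro j' hj'
      refine Fin.cases ?_ (fun k => ?_) j' hj'
      · intro _
        rw [Fin.cons_zero, Fin.cons_zero, hac]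
      · intro hk
        rw [Fin.cons_succ, Fin.cons_succ]
        exact h k (fun hkj => hk (by rw [hkj]))
    · rw [if_neg h, if_neg]
      intro hall
      apply h
      intro k hk
      have := hall k.succ (fun hkj => hk (Fin.succ_injective _ hkj))
      rwa [Fin.cons_succ, Fin.cons_succ] at this
  · rw [if_neg hac, if_neg]
    intro hall
    apply hac
    have := hall 0 (Fin.succ_ne_zero j).symm
    rwa [Fin.cons_zero, Fin.cons_zero] at this

lemma isCommUnits_tail {r s : ℕ} (E : Fin (r + 1) → Fin s → Fin s → Matrix (Fin n) (Fin n) F)
    (hE : IsCommUnits E) : IsCommUnits (fun i : Fin r => E i.succ) where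
  units := fun i => hE.units i.succ
  comm := fun i j hij a b c d => hE.comm i.succ j.succ (fun h => hij (Fin.succ_injective _ h)) a b c d

/-- a matrix commuting with all units of all systems commutes with the products -/
lemma commute_eprod (s : ℕ) : ∀ (r : ℕ) (E : Fin r → Fin s → Fin s → Matrix (Fin n) (Fin n) F)
    (A : Matrix (Fin n) (Fin n) F), (∀ i c d, A * E i c d = E i c d * A) →
    ∀ x y, A * eprod s r E x y = eprod s r E x y * A := by
  intro r
  induction r with
  | zero =>
    intro E A _ x y
    rw [eprod_zero, mul_one, one_mul]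
  | succ r ih =>
    intro E A hA x y
    rw [eprod_succ, ← mul_assoc, hA, mul_assoc, ih (fun i => E i.succ) A (fun i c d => hA i.succ c d), mul_assoc]

/-- PS1. -/
theorem isUnits_eprod {r s : ℕ} (E : Fin r → Fin s → Fin s → Matrix (Fin n) (Fin n) F)
    (hE : IsCommUnits E) : IsUnits (fun x y : Fin r → Fin s => eprod s r E x y) := by
  induction r with
  | zero =>
    refine ⟨?_, ?_⟩
    · intro a b c d
      simp only [eprod_zero, mul_one]
      rw [if_pos (Subsingleton.elim b c)]
    · simp only [eprod_zero]
      rw [Finset.sum_const, Finset.card_univ, Fintype.card_unique, one_smul]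
  | succ r ih =>
    have hE' := isCommUnits_tail E hE
    have ih' := ih (fun i => E i.succ) hE'
    refine ⟨?_, ?_⟩
    · intro x y y' z
      show eprod s (r + 1) E x y * eprod s (r + 1) E y' z = if y = y' then eprod s (r + 1) E x z else 0
      rw [eprod_succ, eprod_succ, eprod_succ]
      have hc : eprod s r (fun i => E i.succ) (fun i => x i.succ) (fun i => y i.succ) * E 0 (y' 0) (z 0) =
          E 0 (y' 0) (z 0) * eprod s r (fun i => E i.succ) (fun i => x i.succ) (fun i => y i.succ) := by
        symm
        apply commute_eprod
        intro i c d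
        exact hE.comm 0 i.succ (Fin.succ_ne_zero i).symm _ _ c d
      calc E 0 (x 0) (y 0) * eprod s r (fun i => E i.succ) (fun i => x i.succ) (fun i => y i.succ) *
            (E 0 (y' 0) (z 0) * eprod s r (fun i => E i.succ) (fun i => y' i.succ) (fun i => z i.succ))
          = E 0 (x 0) (y 0) * (eprod s r (fun i => E i.succ) (fun i => x i.succ) (fun i => y i.succ) *
              E 0 (y' 0) (z 0)) * eprod s r (fun i => E i.succ) (fun i => y' i.succ) (fun i => z i.succ) := by
            simp only [mul_assoc]
        _ = (E 0 (x 0) (y 0) * E 0 (y' 0) (z 0)) *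
              (eprod s r (fun i => E i.succ) (fun i => x i.succ) (fun i => y i.succ) *
                eprod s r (fun i => E i.succ) (fun i => y' i.succ) (fun i => z i.succ)) := by
            rw [hc]
            simp only [mul_assoc]
        _ = _ := by
            rw [(hE.units 0).mul, ih'.mul]
            by_cases h : y = y'
            · subst h
              rw [if_pos rfl, if_pos rfl, if_pos rfl]
            · rw [if_neg h]
              by_cases h0 : y 0 = y' 0
              · rw [if_pos h0, if_neg, mul_zero]
                intro ht
                apply h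
                funext j
                refine Fin.cases h0 (fun k => ?_) j
                exact congrFun ht k
              · rw [if_neg h0, zero_mul]
    · show ∑ x : Fin (r + 1) → Fin s, eprod s (r + 1) E x x = 1
      rw [sum_pi_cons]
      simp only [eprod_cons]
      simp only [← Finset.mul_sum]
      rw [ih'.sum]
      simp only [mul_one]
      exact (hE.units 0).sum

/-- PS2. -/
theorem eq_sum_slot_eprod {r s : ℕ} (E : Fin r → Fin s → Fin s → Matrix (Fin n) (Fin n) F)
    (hE : IsCommUnits E) (i : Fin r) (a b : Fin s) :
    E i a b = ∑ x : Fin r → Fin s, ∑ y : Fin r → Fin s,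
      slot s r i (Matrix.single a b (1 : F)) x y • eprod s r E x y := by
  induction r with
  | zero => exact i.elim0
  | succ r ih =>
    have hE' := isCommUnits_tail E hE
    have hsum := (isUnits_eprod (fun i : Fin r => E i.succ) hE').sum
    rw [sum_pi_cons]
    simp only [sum_pi_cons (f := fun y : Fin (r + 1) → Fin s => _)]
    simp only [eprod_cons]
    refine Fin.cases ?_ (fun j => ?_) i
    · -- `i = 0`
      simp only [slot_cons_zero, Matrix.single_apply]
      -- collapse the sums
      have h1 : ∀ (a' : Fin s) (x' : Fin r → Fin s) (c' : Fin s),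
          ∑ y' : Fin r → Fin s, (if x' = y' then (if a = a' ∧ b = c' then (1 : F) else 0) else 0) •
            (E 0 a' c' * eprod s r (fun i => E i.succ) x' y') =
          (if a = a' ∧ b = c' then (1 : F) else 0) • (E 0 a' c' * eprod s r (fun i => E i.succ) x' x') := by
        intro a' x' c'
        rw [Finset.sum_eq_single x']
        · rw [if_pos rfl]
        · intro y' _ hy'
          rw [if_neg (Ne.symm hy'), zero_smul]
        · intro hx'
          exact absurd (Finset.mem_univ _) hx'
      simp only [h1]
      have h2 : ∀ (a' : Fin s) (x' : Fin r → Fin s),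
          ∑ c' : Fin s, (if a = a' ∧ b = c' then (1 : F) else 0) •
            (E 0 a' c' * eprod s r (fun i => E i.succ) x' x') =
          if a = a' then E 0 a' b * eprod s r (fun i => E i.succ) x' x' else 0 := by
        intro a' x'
        rw [Finset.sum_eq_single b]
        · by_cases ha : a = a'
          · rw [if_pos ⟨ha, rfl⟩, if_pos ha, one_smul]
          · rw [if_neg (fun h => ha h.1), if_neg ha, zero_smul]
        · intro c' _ hc'
          rw [if_neg (fun h => hc' h.2.symm), zero_smul]
        · intro hb
          exact absurd (Finset.mem_univ _) hb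
      simp only [h2]
      rw [Finset.sum_eq_single a]
      · simp only [if_true]
        rw [← Finset.mul_sum, hsum, mul_one]
      · intro a' _ ha'
        simp only [if_neg (Ne.symm ha')]
        exact Finset.sum_const_zero
      · intro ha
        exact absurd (Finset.mem_univ _) ha
    · -- `i = j.succ`
      simp only [slot_cons_succ]
      have h1 : ∀ (a' : Fin s) (x' : Fin r → Fin s),
          ∑ c' : Fin s, ∑ y' : Fin r → Fin s,
            (if a' = c' then slot s r j (Matrix.single a b (1 : F)) x' y' else 0) •
              (E 0 a' c' * eprod s r (fun i => E i.succ) x' y') =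
          E 0 a' a' * ∑ y' : Fin r → Fin s, slot s r j (Matrix.single a b (1 : F)) x' y' •
            eprod s r (fun i => E i.succ) x' y' := by
        intro a' x'
        rw [Finset.sum_eq_single a']
        · simp only [if_true]
          rw [Finset.mul_sum]
          refine Finset.sum_congr rfl (fun y' _ => ?_)
          rw [Matrix.mul_smul]
        · intro c' _ hc'
          simp only [if_neg (Ne.symm hc'), zero_smul]
          exact Finset.sum_const_zero
        · intro ha
          exact absurd (Finset.mem_univ _) ha
      simp only [h1]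
      simp only [← Finset.mul_sum]
      rw [← ih (fun i => E i.succ) hE' j, ← Finset.sum_mul, (hE.units 0).sum, one_mul]

end Cfsg.Agent.Lib.Helper4.AschLeaf
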