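import Mathlib
import Cfsg.Agent.Lib.Helper20.AschDefs
import Cfsg.Agent.Lib.Helper18.AschA89Defs

/-!
S5630 (Aschbacher, linear case), block (A89) sub-market of helper18: leaf L2 `zcen_scalar_of_cfam` (helper4).
-/

set_option autoImplicit false
set_option linter.unusedSectionVars false
set_option linter.unusedVariables false

namespace Cfsg.Agent.Lib.Helper4.AschLeaf
open Matrix Cfsg.Geo Cfsg.Agent.Lib.Helper20.Asch Cfsg.Agent.Lib.Helper18.AschA89
open scoped Kronecker

variable {F : Type*} [Field F] [Fintype F] {n : ℕ} {H N : Subgroup (GL (Fin n) F)}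

/-- the subgroup of `GL` commuting with a matrix `T` -/
def commSubgroup {F : Type*} [Field F] {n : ℕ} (T : Matrix (Fin n) (Fin n) F) : Subgroup (GL (Fin n) F) where
  carrier := {g | (g : Matrix (Fin n) (Fin n) F) * T = T * (g : Matrix (Fin n) (Fin n) F)}
  mul_mem' := by
    intro a b ha hb
    show ((a * b : GL (Fin n) F) : Matrix (Fin n) (Fin n) F) * T = T * ((a * b : GL (Fin n) F) : Matrix (Fin n) (Fin n) F)
    have ha' : (a : Matrix (Fin n) (Fin n) F) * T = T * (a : Matrix (Fin n) (Fin n) F) := ha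
    have hb' : (b : Matrix (Fin n) (Fin n) F) * T = T * (b : Matrix (Fin n) (Fin n) F) := hb
    rw [Units.val_mul, mul_assoc, hb', ← mul_assoc, ha', mul_assoc]
  one_mem' := by
    show ((1 : GL (Fin n) F) : Matrix (Fin n) (Fin n) F) * T = T * ((1 : GL (Fin n) F) : Matrix (Fin n) (Fin n) F)
    rw [Units.val_one, one_mul, mul_one]
  inv_mem' := by
    intro a ha
    show ((a⁻¹ : GL (Fin n) F) : Matrix (Fin n) (Fin n) F) * T = T * ((a⁻¹ : GL (Fin n) F) : Matrix (Fin n) (Fin n) F)
    have ha' : (a : Matrix (Fin n) (Fin n) F) * T = T * (a : Matrix (Fin n) (Fin n) F) := ha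
    have h1 : ((a⁻¹ : GL (Fin n) F) : Matrix (Fin n) (Fin n) F) * (a : Matrix (Fin n) (Fin n) F) = 1 := by
      rw [← Units.val_mul, inv_mul_cancel, Units.val_one]
    have h2 : (a : Matrix (Fin n) (Fin n) F) * ((a⁻¹ : GL (Fin n) F) : Matrix (Fin n) (Fin n) F) = 1 := by
      rw [← Units.val_mul, mul_inv_cancel, Units.val_one]
    calc ((a⁻¹ : GL (Fin n) F) : Matrix (Fin n) (Fin n) F) * T
        = ((a⁻¹ : GL (Fin n) F) : Matrix (Fin n) (Fin n) F) * (T * (a : Matrix (Fin n) (Fin n) F)) *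
            ((a⁻¹ : GL (Fin n) F) : Matrix (Fin n) (Fin n) F) := by
          rw [mul_assoc, mul_assoc, h2, mul_one]
      _ = ((a⁻¹ : GL (Fin n) F) : Matrix (Fin n) (Fin n) F) * ((a : Matrix (Fin n) (Fin n) F) * T) *
            ((a⁻¹ : GL (Fin n) F) : Matrix (Fin n) (Fin n) F) := by rw [ha']
      _ = T * ((a⁻¹ : GL (Fin n) F) : Matrix (Fin n) (Fin n) F) := by
          rw [← mul_assoc, h1, one_mul]

lemma mem_commSubgroup {F : Type*} [Field F] {n : ℕ} {T : Matrix (Fin n) (Fin n) F} {g : GL (Fin n) F} :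
    g ∈ commSubgroup T ↔ (g : Matrix (Fin n) (Fin n) F) * T = T * (g : Matrix (Fin n) (Fin n) F) := Iff.rfl

/-- L2: `ZCen (Nf i)` commutes with `Nf i` and with the other factors, hence with `N`: scalar. -/
theorem zcen_scalar_of_cfam {r : ℕ} {Nf : Fin r → Subgroup (GL (Fin n) F)}
    (hfam : CFam H N r Nf) (habs : AbsIrr N) (i : Fin r) :
    ∀ T ∈ ZCen (Nf i), ∃ c : F, T = c • (1 : Matrix (Fin n) (Fin n) F) := by
  intro T hT
  rw [mem_ZCen] at hT
  obtain ⟨hT1, hT2⟩ := hT
  have hle : N ≤ commSubgroup T := by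
    rw [← hfam.sup]
    apply iSup_le
    intro j x hx
    rw [mem_commSubgroup]
    by_cases hij : j = i
    · subst hij
      exact mem_Cen.1 hT1 x hx
    · apply hT2
      rw [mem_Cen]
      intro y hy
      have := hfam.comm j i hij x hx y hy
      have h2 := congrArg (fun g : GL (Fin n) F => (g : Matrix (Fin n) (Fin n) F)) this
      simp only [Units.val_mul] at h2
      exact h2.symm
  apply habs.2 T
  rintro _ ⟨x, hx, rfl⟩
  exact (mem_commSubgroup.1 (hle hx)).symm

end Cfsg.Agent.Lib.Helper4.AschLeaf
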