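import Mathlib
import Cfsg.Agent.Lib.Helper4.Primitive
import Cfsg.Agent.Lib.Helper1.Hall

set_option autoImplicit false

namespace Cfsg.Agent.Lib.Helper4
open Cfsg Cfsg.Agent.Lib.Helper1
universe u v

section PrimAct

variable {G : Type u} [Group G] {Ω : Type v} [MulAction G Ω]

theorem stabilizer_normalCore_eq_bot [FaithfulSMul G Ω] [MulAction.IsPretransitive G Ω] (ω : Ω) :
    (MulAction.stabilizer G ω).normalCore = ⊥ := by
  rw [eq_bot_iff]
  intro x hx
  rw [Subgroup.mem_bot]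
  apply FaithfulSMul.eq_of_smul_eq_smul (α := Ω)
  intro a
  obtain ⟨g, rfl⟩ := MulAction.exists_smul_eq G ω a
  have h1 : g⁻¹ * x * g⁻¹⁻¹ ∈ MulAction.stabilizer G ω := hx g⁻¹
  rw [MulAction.mem_stabilizer_iff, inv_inv, mul_smul, mul_smul] at h1
  rw [one_smul]
  have h2 := congrArg (fun y => g • y) h1
  simpa [smul_smul] using h2

theorem primitive_setup [Finite G] [FaithfulSMul G Ω] (hprim : MulAction.IsPreprimitive G Ω)
    (M : Subgroup G) (hM : M ≠ ⊥) (ω : Ω) :
    IsCoatom (MulAction.stabilizer G ω) ∧ (MulAction.stabilizer G ω).normalCore = ⊥ := by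
  have hnt : Nontrivial Ω := by
    by_contra h
    rw [not_nontrivial_iff_subsingleton] at h
    apply hM
    rw [eq_bot_iff]
    intro x _
    rw [Subgroup.mem_bot]
    apply FaithfulSMul.eq_of_smul_eq_smul (α := Ω)
    intro a
    exact Subsingleton.elim _ _
  have htrans : MulAction.IsPretransitive G Ω := hprim.toIsPretransitive
  exact ⟨(MulAction.isCoatom_stabilizer_iff_preprimitive (G := G) ω).mpr hprim,
    stabilizer_normalCore_eq_bot ω⟩

end PrimAct

theorem primitive_solvable_548 {G : Type u} [Group G] [Finite G] [Group.IsSolvable G] {Ω : Type v}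
    [MulAction G Ω] [FaithfulSMul G Ω] (hprim : MulAction.IsPreprimitive G Ω) (M : Subgroup G)
    [hMn : M.Normal] (hM : M ≠ ⊥) (hmin : ∀ K : Subgroup G, K.Normal → K ≤ M → K = ⊥ ∨ K = M)
    (ω : Ω) :
    Subgroup.IsComplement' M (MulAction.stabilizer G ω) ∧
    MulAction.stabilizer G ω ⊓ Subgroup.centralizer (M : Set G) = ⊥ ∧
    ∀ K : Subgroup G, K ≤ M → MulAction.stabilizer G ω ≤ Subgroup.normalizer (K : Set G) →
      K = ⊥ ∨ K = M := by
  obtain ⟨hU, hcore⟩ := primitive_setup hprim M hM ω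
  have hMmin : IsMinNormal M := ⟨hMn, hM, hmin⟩
  have hMc' := hMmin.isMulCommutative
  have hMc : ∀ x ∈ M, ∀ y ∈ M, x * y = y * x := fun x hx y hy =>
    congrArg Subtype.val (mul_comm' (⟨x, hx⟩ : M) ⟨y, hy⟩)
  refine ⟨coreFree_isComplement' _ hU hcore M hMn hM hMc, ?_, ?_⟩
  · rw [coreFree_centralizer_abelian _ hU hcore M hMn hM hMc]
    exact coreFree_inf_abelian _ hU hcore M hMn hM hMc
  · intro K hKM hUK
    apply hmin K _ hKM
    rw [← Subgroup.normalizer_eq_top_iff, eq_top_iff, ← coreFree_sup_eq_top _ hU hcore M hMn hM]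
    apply sup_le hUK
    intro m hm
    apply Cfsg.Agent.Lib.Helper17.mem_normalizer_of_forall_conj_mem
    intro x hx
    rw [hMc m hm x (hKM hx), mul_inv_cancel_right]
    exact hx

theorem primitive_solvable_547 {G : Type u} [Group G] [Finite G] [Group.IsSolvable G] {Ω : Type v}
    [Nonempty Ω] [MulAction G Ω] [FaithfulSMul G Ω] (hprim : MulAction.IsPreprimitive G Ω)
    (M : Subgroup G) [hMn : M.Normal] (hM : M ≠ ⊥)
    (hmin : ∀ K : Subgroup G, K.Normal → K ≤ M → K = ⊥ ∨ K = M) :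
    MulAction.IsPretransitive M Ω ∧ (∀ ω : Ω, MulAction.stabilizer M ω = ⊥) ∧
    ∃ p d : ℕ, p.Prime ∧ 0 < d ∧ Nat.card Ω = p ^ d ∧ Nat.card M = p ^ d := by
  have hMmin : IsMinNormal M := ⟨hMn, hM, hmin⟩
  have hMc' := hMmin.isMulCommutative
  have hMc : ∀ x ∈ M, ∀ y ∈ M, x * y = y * x := fun x hx y hy =>
    congrArg Subtype.val (mul_comm' (⟨x, hx⟩ : M) ⟨y, hy⟩)
  have htrans : MulAction.IsPretransitive G Ω := hprim.toIsPretransitive
  -- every point is in the M-orbit of ω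
  have horb : ∀ ω y : Ω, ∃ m : M, m • ω = y := by
    intro ω y
    obtain ⟨hU, hcore⟩ := primitive_setup hprim M hM ω
    obtain ⟨g, rfl⟩ := MulAction.exists_smul_eq G ω y
    have hsup := coreFree_sup_eq_top _ hU hcore M hMn hM
    have hg : g ∈ ((M ⊔ MulAction.stabilizer G ω : Subgroup G) : Set G) := by
      rw [sup_comm, hsup]; trivial
    rw [Subgroup.normal_mul] at hg
    obtain ⟨m, hm, u, hu, rfl⟩ := hg
    refine ⟨⟨m, hm⟩, ?_⟩
    change m • ω = (m * u) • ω
    rw [mul_smul, MulAction.mem_stabilizer_iff.mp hu]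
  have hstab : ∀ ω : Ω, MulAction.stabilizer M ω = ⊥ := by
    intro ω
    obtain ⟨hU, hcore⟩ := primitive_setup hprim M hM ω
    have hinf := coreFree_inf_abelian _ hU hcore M hMn hM hMc
    rw [eq_bot_iff]
    intro x hx
    rw [Subgroup.mem_bot]
    have h1 : (x : G) ∈ MulAction.stabilizer G ω ⊓ M :=
      ⟨MulAction.mem_stabilizer_iff.mpr (MulAction.mem_stabilizer_iff.mp hx), x.2⟩
    rw [hinf, Subgroup.mem_bot] at h1
    exact Subtype.ext h1
  refine ⟨⟨fun x y => horb x y⟩, hstab, ?_⟩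
  obtain ⟨p, d, hp, hd, hcard⟩ := hMmin.exists_card_eq
  refine ⟨p, d, hp, Nat.pos_of_ne_zero hd, ?_, hcard⟩
  rw [← hcard]
  obtain ⟨ω⟩ := ‹Nonempty Ω›
  symm
  apply Nat.card_eq_of_bijective (fun m : M => m • ω)
  constructor
  · intro a b hab
    have h1 : a⁻¹ * b ∈ MulAction.stabilizer M ω := by
      rw [MulAction.mem_stabilizer_iff, mul_smul]
      change a⁻¹ • (b • ω) = ω
      rw [← (show a • ω = b • ω from hab), smul_smul, inv_mul_cancel, one_smul]
    rw [hstab ω, Subgroup.mem_bot, inv_mul_eq_one] at h1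
    exact h1
  · intro y
    exact horb ω y

end Cfsg.Agent.Lib.Helper4
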