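import Cfsg.Agent.Lib.Helper4.PslU1

set_option autoImplicit false
set_option linter.style.haveILetI false
set_option linter.unusedSectionVars false

namespace Cfsg.Agent.Lib.Helper4

open Subgroup

section Field

variable {q : ℕ} [Fact q.Prime]

theorem plu_pow_sub_two {z : ZMod q} (hz : z ≠ 0) : z ^ (q - 2) = z⁻¹ := by
  have hq : 2 ≤ q := (Fact.out : q.Prime).two_le
  have h1 : z ^ (q - 1) = 1 := ZMod.pow_card_sub_one_eq_one hz
  have h2 : z ^ (q - 2) * z = 1 := by
    rw [← pow_succ]
    have : q - 2 + 1 = q - 1 := by omega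
    rw [this, h1]
  exact eq_inv_of_mul_eq_one_left h2

theorem plu_mem_zpowers_of_pow_eq_one {r : ℕ} (hr : 0 < r) (k : (ZMod q)ˣ) (hk : orderOf k = r)
    (m : (ZMod q)ˣ) (hm : m ^ r = 1) : m ∈ zpowers k := by
  classical
  have hle := IsCyclic.card_pow_eq_one_le (α := (ZMod q)ˣ) hr
  set S := Finset.univ.filter (fun a : (ZMod q)ˣ => a ^ r = 1) with hS
  set T := (Finset.univ.filter (fun a : (ZMod q)ˣ => a ∈ zpowers k)) with hT
  have hTS : T ⊆ S := by
    intro a ha
    rw [hT, Finset.mem_filter] at ha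
    rw [hS, Finset.mem_filter]
    refine ⟨Finset.mem_univ _, ?_⟩
    obtain ⟨j, rfl⟩ := mem_zpowers_iff.mp ha.2
    rw [← zpow_natCast, ← zpow_mul, mul_comm, zpow_mul, zpow_natCast, ← hk, pow_orderOf_eq_one,
      one_zpow]
  have hTcard : T.card = r := by
    rw [← hk, ← Nat.card_zpowers, Nat.card_eq_fintype_card, Fintype.card_subtype]
  have hST : T = S := Finset.eq_of_subset_of_card_le hTS (by rw [hTcard]; exact hle)
  have : m ∈ S := by rw [hS, Finset.mem_filter]; exact ⟨Finset.mem_univ _, hm⟩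
  rw [← hST, hT, Finset.mem_filter] at this
  exact this.2

theorem plu_pow_half {r : ℕ} (hr : q = 2 * r + 1) {z : ZMod q} (hz : z ≠ 0) :
    z ^ r = 1 ∨ z ^ r = -1 := by
  have h1 : z ^ (q - 1) = 1 := ZMod.pow_card_sub_one_eq_one hz
  have h2 : (z ^ r) * (z ^ r) = 1 := by
    rw [← pow_add]
    have : r + r = q - 1 := by omega
    rw [this, h1]
  exact mul_self_eq_one_iff.mp h2

theorem plu_exists_pow {r : ℕ} (hr : 0 < r) (k : (ZMod q)ˣ) (hk : orderOf k = r)
    {z : ZMod q} (hz : z ≠ 0) (hzr : z ^ r = 1) : ∃ i : ℕ, ((k : ZMod q)) ^ i = z := by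
  have hu : (Units.mk0 z hz) ^ r = 1 := by
    apply Units.ext
    rw [Units.val_pow_eq_pow_val, Units.val_mk0, hzr, Units.val_one]
  have hmem := plu_mem_zpowers_of_pow_eq_one hr k hk _ hu
  rw [← mem_powers_iff_mem_zpowers] at hmem
  obtain ⟨i, hi⟩ := Submonoid.mem_powers_iff _ _ |>.mp hmem
  refine ⟨i, ?_⟩
  have := congrArg Units.val hi
  rwa [Units.val_pow_eq_pow_val, Units.val_mk0] at this

theorem pluM_pow_some (k : (ZMod q)ˣ) (i : ℕ) (z : ZMod q) :
    (pluM q k ^ i) (some z) = some ((k : ZMod q) ^ i * z) := by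
  rw [← map_pow, pluM_some, Units.val_pow_eq_pow_val]

theorem pluM_pow_none (k : (ZMod q)ˣ) (i : ℕ) : (pluM q k ^ i) none = none := by
  rw [← map_pow, pluM_none]

theorem plu_tau_eq_pluF {r : ℕ} (hr : q = 2 * r + 1) (hr0 : 0 < r) (k : (ZMod q)ˣ)
    (hk : orderOf k = r) (n ninv : ZMod q) (hn : n ^ r ≠ 1) (hninv : n * ninv = 1)
    (τ : Equiv.Perm (PL q)) (h2 : τ * τ = 1) (h0 : τ none = some 0)
    (s : ℕ) (hs : τ * pluM q k * τ⁻¹ = pluM q k ^ s) :
    ∃ a b : ZMod q, ∀ l, τ l = pluF q r ninv s a b l := by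
  have hinv : ∀ l, τ (τ l) = l := by
    intro l
    have := congrArg (fun σ : Equiv.Perm (PL q) => σ l) h2
    simpa using this
  have h0' : τ (some 0) = none := by rw [← h0, hinv]
  have hsome : ∀ z : ZMod q, z ≠ 0 → ∃ w, τ (some z) = some w := by
    intro z hz
    rcases hτz : τ (some z) with _ | w
    · exfalso
      have := τ.injective (hτz.trans h0'.symm)
      exact hz (Option.some.inj this)
    · exact ⟨w, rfl⟩
  have hcomm : ∀ l, τ (pluM q k l) = (pluM q k ^ s) (τ l) := by
    intro l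
    have h3 : τ * pluM q k = pluM q k ^ s * τ := by rw [← hs]; group
    have := congrArg (fun σ : Equiv.Perm (PL q) => σ l) h3
    simpa using this
  have hcommi : ∀ (i : ℕ) l, τ ((pluM q k ^ i) l) = ((pluM q k ^ s) ^ i) (τ l) := by
    intro i
    induction i with
    | zero => intro l; simp
    | succ i ih =>
      intro l
      rw [pow_succ', Equiv.Perm.mul_apply, hcomm, ih, pow_succ' _ i, Equiv.Perm.mul_apply]
  have hn0 : n ≠ 0 := by
    rintro rfl
    rw [zero_mul] at hninv
    exact zero_ne_one hninv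
  have hnr : n ^ r = -1 := (plu_pow_half hr hn0).resolve_left hn
  have hninv0 : ninv ≠ 0 := by
    rintro rfl
    rw [mul_zero] at hninv
    exact zero_ne_one hninv
  have hninvr : ninv ^ r = -1 := by
    have h3 : n ^ r * ninv ^ r = 1 := by rw [← mul_pow, hninv, one_pow]
    rw [hnr] at h3
    have h4 : ninv ^ r = -(-1 * ninv ^ r) := by ring
    rw [h4, h3]
  obtain ⟨a, ha⟩ := hsome 1 one_ne_zero
  obtain ⟨b, hb⟩ := hsome n hn0
  refine ⟨a, b, ?_⟩
  have hkey : ∀ (i : ℕ) (w v : ZMod q), τ (some w) = some v →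
      τ (some ((k : ZMod q) ^ i * w)) = some (v * ((k : ZMod q) ^ i) ^ s) := by
    intro i w v hwv
    rw [← pluM_pow_some, hcommi, hwv, ← pow_mul, pluM_pow_some]
    congr 1
    rw [pow_mul', mul_comm]
  intro l
  rcases l with _ | z
  · rw [h0]; rfl
  · by_cases hz : z = 0
    · rw [hz, h0']; simp [pluF]
    · by_cases hzr : z ^ r = 1
      · obtain ⟨i, hi⟩ := plu_exists_pow hr0 k hk hz hzr
        have := hkey i 1 a ha
        rw [mul_one, hi] at this
        rw [this]
        simp [pluF, hz, hzr]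
      · have hzr' : z ^ r = -1 := (plu_pow_half hr hz).resolve_left hzr
        have hzn0 : z * ninv ≠ 0 := mul_ne_zero hz hninv0
        have hznr : (z * ninv) ^ r = 1 := by
          rw [mul_pow, hzr', hninvr]; ring
        obtain ⟨i, hi⟩ := plu_exists_pow hr0 k hk hzn0 hznr
        have := hkey i n b hb
        have e1 : (k : ZMod q) ^ i * n = z := by
          rw [hi, mul_assoc, mul_comm ninv n, hninv, mul_one]
        rw [e1, hi] at this
        rw [this]
        simp [pluF, hz, hzr]

theorem pluT0f_involutive : Function.Involutive (pluT0f q) := by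
  intro l
  cases l with
  | none => simp [pluT0f]
  | some z =>
    by_cases hz : z = 0
    · simp [pluT0f, hz]
    · have h1 : -(z ^ (q - 2)) ≠ 0 := by
        rw [plu_pow_sub_two hz]
        exact neg_ne_zero.mpr (inv_ne_zero hz)
      simp only [pluT0f, hz, if_false, h1]
      rw [plu_pow_sub_two hz, plu_pow_sub_two (neg_ne_zero.mpr (inv_ne_zero hz))]
      rw [inv_neg, inv_inv, neg_neg]

variable (q) in
/-- The inversion `z ↦ -1/z` as a permutation. -/
def pluT0 : Equiv.Perm (PL q) := Function.Involutive.toPerm (pluT0f q) pluT0f_involutive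

theorem pluT0_apply (l : PL q) : pluT0 q l = pluT0f q l := rfl

theorem pluT0_none : pluT0 q none = some 0 := rfl

theorem pluT0_some {z : ZMod q} (hz : z ≠ 0) : pluT0 q (some z) = some (-z⁻¹) := by
  rw [pluT0_apply]
  simp only [pluT0f, hz, if_false]
  rw [plu_pow_sub_two hz]

theorem pluT0_zero : pluT0 q (some 0) = none := by
  rw [pluT0_apply]
  simp [pluT0f]

theorem plu_tau_classify [NeZero q] {r : ℕ} (hr : q = 2 * r + 1) (hr0 : 0 < r) (k : (ZMod q)ˣ)
    (hk : orderOf k = r) (n ninv : ZMod q) (hn : n ^ r ≠ 1) (hninv : n * ninv = 1)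
    (hD : ∀ s : Fin r, ∀ a b : ZMod q, PluGood q r ninv s a b →
      (s : ℕ) = r - 1 ∧ b = a * ninv ∧ (-a) ^ r = 1)
    (τ : Equiv.Perm (PL q)) (h2 : τ * τ = 1) (h0 : τ none = some 0)
    (hY : τ * pluM q k * τ⁻¹ ∈ zpowers (pluM q k))
    (hfix : ∀ g ∈ closure ({pluX q 1, pluM q k, τ} : Set (Equiv.Perm (PL q))),
      g none = none → g (some 0) = some 0 → g ∈ zpowers (pluM q k)) :
    ∃ m ∈ zpowers k, τ = pluT0 q * pluM q m := by
  have hoY : orderOf (pluM q k) = r := by
    rw [orderOf_injective (pluM q) (pluM_injective q), hk]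
  have hkr : k ^ r = 1 := by rw [← hk]; exact pow_orderOf_eq_one k
  -- the exponent `s`
  obtain ⟨s, hsr, hs⟩ : ∃ s < r, τ * pluM q k * τ⁻¹ = pluM q k ^ s := by
    rw [← mem_powers_iff_mem_zpowers] at hY
    obtain ⟨i, hi⟩ := (Submonoid.mem_powers_iff _ _).mp hY
    refine ⟨i % r, Nat.mod_lt _ hr0, ?_⟩
    rw [← hi, ← hoY, pow_mod_orderOf]
  obtain ⟨a, b, hτF⟩ := plu_tau_eq_pluF hr hr0 k hk n ninv hn hninv τ h2 h0 s hs
  have hfun : (⇑τ : PL q → PL q) = pluF q r ninv s a b := funext hτF
  have hinv : ∀ l, τ (τ l) = l := by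
    intro l
    have := congrArg (fun σ : Equiv.Perm (PL q) => σ l) h2
    simpa using this
  have h0' : τ (some 0) = none := by rw [← h0, hinv]
  have hsome : ∀ z : ZMod q, z ≠ 0 → ∃ w, τ (some z) = some w := by
    intro z hz
    rcases hτz : τ (some z) with _ | w
    · exfalso
      have := τ.injective (hτz.trans h0'.symm)
      exact hz (Option.some.inj this)
    · exact ⟨w, rfl⟩
  have hgood : PluGood q r ninv s a b := by
    refine ⟨?_, ?_⟩
    · intro l
      rw [← hfun]; exact hinv l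
    · intro d hd
      obtain ⟨cd, hcd⟩ := hsome d hd
      obtain ⟨cmd, hcmd⟩ := hsome (-d) (neg_ne_zero.mpr hd)
      set g : Equiv.Perm (PL q) := pluX q (-cd) * τ * pluX q d * τ * pluX q cmd * τ with hg
      have hXmem : ∀ c, pluX q c ∈ closure ({pluX q 1, pluM q k, τ} : Set (Equiv.Perm (PL q))) := by
        intro c
        have h1 : zpowers (pluX q 1) ≤ closure ({pluX q 1, pluM q k, τ} : Set (Equiv.Perm (PL q))) :=
          zpowers_le.mpr (subset_closure (by simp))
        exact h1 (pluX_mem_zpowers q c)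
      have hτmem : τ ∈ closure ({pluX q 1, pluM q k, τ} : Set (Equiv.Perm (PL q))) :=
        subset_closure (by simp)
      have hgmem : g ∈ closure ({pluX q 1, pluM q k, τ} : Set (Equiv.Perm (PL q))) := by
        rw [hg]
        exact Subgroup.mul_mem _ (Subgroup.mul_mem _ (Subgroup.mul_mem _ (Subgroup.mul_mem _
          (Subgroup.mul_mem _ (hXmem _) hτmem) (hXmem _)) hτmem) (hXmem _)) hτmem
      have hcmd' : τ (some cmd) = some (-d) := by rw [← hcmd, hinv]
      have hg_none : g none = none := by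
        rw [hg]
        simp only [Equiv.Perm.mul_apply]
        rw [h0, pluX_some, zero_add, hcmd', pluX_some, neg_add_cancel, h0', pluX_none]
      have hg_zero : g (some 0) = some 0 := by
        rw [hg]
        simp only [Equiv.Perm.mul_apply]
        rw [h0', pluX_none, h0, pluX_some, zero_add, hcd, pluX_some, add_neg_cancel]
      have hgz := hfix g hgmem hg_none hg_zero
      obtain ⟨j, hj⟩ := mem_zpowers_iff.mp hgz
      rw [← map_zpow] at hj
      set m : (ZMod q)ˣ := k ^ j with hm
      have hmr : (m : ZMod q) ^ r = 1 := by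
        rw [← Units.val_pow_eq_pow_val, hm, ← zpow_natCast, ← zpow_mul, mul_comm, zpow_mul,
          zpow_natCast, hkr, one_zpow, Units.val_one]
      have hgl : ∀ l, g l = pluPi q (pluF q r ninv s a b) d l := by
        intro l
        rw [← hfun, hg]
        simp only [Equiv.Perm.mul_apply, pluX_apply, pluPi, hcd, hcmd, Option.getD_some]
      have hgl' : ∀ l, g l = Option.map (fun z => (m : ZMod q) * z) l := by
        intro l
        rw [← hj, pluM_apply]
      have hval : (pluPi q (pluF q r ninv s a b) d (some 1)).getD 0 = (m : ZMod q) := by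
        rw [← hgl, hgl']
        simp
      rw [hval]
      refine ⟨hmr, ?_⟩
      intro l
      rw [← hgl, hgl']
  obtain ⟨hs1, hb, har⟩ := hD ⟨s, hsr⟩ a b hgood
  simp only at hs1
  have ha0 : a ≠ 0 := by
    rintro rfl
    rw [neg_zero, zero_pow (by omega)] at har
    exact zero_ne_one har
  have hna0 : -a ≠ 0 := neg_ne_zero.mpr ha0
  have hu : (Units.mk0 (-a) hna0) ^ r = 1 := by
    apply Units.ext
    rw [Units.val_pow_eq_pow_val, Units.val_mk0, har, Units.val_one]
  have humem := plu_mem_zpowers_of_pow_eq_one hr0 k hk _ hu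
  refine ⟨(Units.mk0 (-a) hna0)⁻¹, Subgroup.inv_mem _ humem, ?_⟩
  have hmval : (((Units.mk0 (-a) hna0)⁻¹ : (ZMod q)ˣ) : ZMod q) = (-a)⁻¹ := by
    rw [Units.val_inv_eq_inv_val, Units.val_mk0]
  have hn0 : n ≠ 0 := by
    rintro rfl
    rw [zero_mul] at hninv
    exact zero_ne_one hninv
  have hninv0 : ninv ≠ 0 := by
    rintro rfl
    rw [mul_zero] at hninv
    exact zero_ne_one hninv
  ext1 l
  rw [hτF, Equiv.Perm.mul_apply]
  rcases l with _ | z
  · rw [pluM_none, pluT0_none]; rfl
  · rw [pluM_some, hmval]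
    by_cases hz : z = 0
    · rw [hz, mul_zero, pluT0_zero]; simp [pluF]
    · have hmz : (-a)⁻¹ * z ≠ 0 := mul_ne_zero (inv_ne_zero hna0) hz
      rw [pluT0_some hmz]
      have hrhs : -((-a)⁻¹ * z)⁻¹ = a * z⁻¹ := by
        rw [mul_inv, inv_inv]; ring
      rw [hrhs]
      have hpow : ∀ w : ZMod q, w ≠ 0 → w ^ r = 1 → w ^ s = w⁻¹ := by
        intro w hw hwr
        have : w ^ s * w = 1 := by
          rw [← pow_succ, hs1]
          have : r - 1 + 1 = r := by omega
          rw [this, hwr]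
        exact eq_inv_of_mul_eq_one_left this
      by_cases hzr : z ^ r = 1
      · simp only [pluF, hz, hzr, if_true, if_false]
        rw [hpow z hz hzr]
      · have hzr' : z ^ r = -1 := (plu_pow_half hr hz).resolve_left hzr
        have hnr : n ^ r = -1 := (plu_pow_half hr hn0).resolve_left hn
        have hninvr : ninv ^ r = -1 := by
          have h3 : n ^ r * ninv ^ r = 1 := by rw [← mul_pow, hninv, one_pow]
          rw [hnr] at h3
          have h4 : ninv ^ r = -(-1 * ninv ^ r) := by ring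
          rw [h4, h3]
        have hznr : (z * ninv) ^ r = 1 := by
          rw [mul_pow, hzr', hninvr]; ring
        simp only [pluF, hz, hzr, if_false]
        rw [hpow _ (mul_ne_zero hz hninv0) hznr, hb, mul_inv]
        congr 1
        have : ninv * ninv⁻¹ = 1 := mul_inv_cancel₀ hninv0
        calc a * ninv * (z⁻¹ * ninv⁻¹) = a * z⁻¹ * (ninv * ninv⁻¹) := by ring
          _ = a * z⁻¹ := by rw [this, mul_one]

end Field

end Cfsg.Agent.Lib.Helper4
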