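import Mathlib
import Cfsg.Agent.Lib.Helper7.SimpleTools
import Cfsg.Agent.Lib.Helper17.Basic
import Cfsg.Agent.Lib.Helper4.PslU2

set_option autoImplicit false
set_option linter.style.haveILetI false
set_option linter.unusedSectionVars false

namespace Cfsg.Agent.Lib.Helper4

open Subgroup

universe u

/-- The hypotheses on a group "of type `PSL₂(q)`". -/
structure PslHyp (G : Type u) [Group G] [Finite G] (q r : ℕ) [Fact q.Prime] : Prop where
  hq : q = 2 * r + 1
  hr : 0 < r
  card : Nat.card G = q * ((q + 1) * r)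
  nsyl : Nat.card (Sylow q G) = q + 1
  faithful : ∀ g : G, (∀ R : Sylow q G, g • R = R) → g = 1

section

variable {G : Type u} [Group G] [Finite G] {q r : ℕ} [Fact q.Prime]

theorem pslu_sylow_eq_of_le_normalizer (P P' : Sylow q G)
    (hle : (P : Subgroup G) ≤ normalizer ((P' : Subgroup G) : Set G)) : P = P' := by
  have hsup : IsPGroup q ((P : Subgroup G) ⊔ (P' : Subgroup G) : Subgroup G) :=
    IsPGroup.to_sup_of_normal_right' P.2 P'.2 hle
  have h1 := P.is_maximal' hsup le_sup_left
  have h2 := P'.is_maximal' hsup le_sup_right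
  exact Sylow.ext (h1.symm.trans h2)

theorem pslu_card_sylow (hyp : PslHyp G q r) (P : Sylow q G) : Nat.card (P : Subgroup G) = q := by
  have hqp : q.Prime := Fact.out
  refine (Cfsg.Agent.Lib.Helper7.sylow_card_index_of_exact hyp.card ?_ P).1
  intro hdvd
  rcases (Nat.Prime.dvd_mul hqp).mp hdvd with h1 | h1
  · have : q ∣ 1 := (Nat.dvd_add_right (dvd_refl q)).mp h1
    exact hqp.one_lt.ne' (Nat.dvd_one.mp this)
  · have := Nat.le_of_dvd hyp.hr h1
    have := hyp.hq
    omega

theorem pslu_card_normalizer (hyp : PslHyp G q r) (P : Sylow q G) :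
    Nat.card (normalizer ((P : Subgroup G) : Set G)) = q * r := by
  have h1 := Cfsg.Agent.Lib.Helper7.card_sylow_mul_card_normalizer P
  rw [hyp.nsyl, hyp.card] at h1
  have h2 : (q + 1) * Nat.card (normalizer ((P : Subgroup G) : Set G)) = (q + 1) * (q * r) := by
    rw [h1]; ring
  exact Nat.eq_of_mul_eq_mul_left (by omega) h2

theorem pslu_orderOf_of_mem (hyp : PslHyp G q r) (P : Sylow q G) (x : G)
    (hx : x ∈ (P : Subgroup G)) (hx1 : x ≠ 1) : orderOf x = q ∧ zpowers x = (P : Subgroup G) := by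
  have hqp : q.Prime := Fact.out
  have hcard := pslu_card_sylow hyp P
  have hle : zpowers x ≤ (P : Subgroup G) := zpowers_le.mpr hx
  have hdvd : orderOf x ∣ q := by
    rw [← hcard, ← Nat.card_zpowers]
    exact Subgroup.card_dvd_of_le hle
  have ho : orderOf x = q := by
    rcases (Nat.dvd_prime hqp).mp hdvd with h1 | h1
    · exact absurd (orderOf_eq_one_iff.mp h1) hx1
    · exact h1
  refine ⟨ho, ?_⟩
  apply Subgroup.eq_of_le_of_card_ge hle
  rw [hcard, Nat.card_zpowers, ho]

theorem pslu_pow_smul_inj (hyp : PslHyp G q r) (x : G) (P P₀ : Sylow q G)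
    (hP : zpowers x = (P : Subgroup G)) (hP₀ : P₀ ≠ P) (m n : ℕ)
    (hmn : x ^ m • P₀ = x ^ n • P₀) : x ^ m = x ^ n := by
  have hqp : q.Prime := Fact.out
  by_contra hne
  have h1 : ((x ^ n)⁻¹ * x ^ m) • P₀ = P₀ := by
    rw [mul_smul, hmn, inv_smul_smul]
  rw [Sylow.smul_eq_iff_mem_normalizer] at h1
  have hc1 : (x ^ n)⁻¹ * x ^ m ≠ 1 := by
    intro h0
    exact hne (inv_mul_eq_one.mp h0).symm
  have hcP : (x ^ n)⁻¹ * x ^ m ∈ (P : Subgroup G) := by
    rw [← hP]
    exact Subgroup.mul_mem _ (Subgroup.inv_mem _ (Subgroup.pow_mem _ (mem_zpowers x) n))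
      (Subgroup.pow_mem _ (mem_zpowers x) m)
  have hz := (pslu_orderOf_of_mem hyp P _ hcP hc1).2
  have hle : (P : Subgroup G) ≤ normalizer ((P₀ : Subgroup G) : Set G) := by
    rw [← hz]; exact zpowers_le.mpr h1
  exact hP₀ (pslu_sylow_eq_of_le_normalizer P P₀ hle).symm

/-- The labelling of the Sylow `q`-subgroups by the projective line. -/
def psluι (x : G) (P P₀ : Sylow q G) : PL q → Sylow q G
  | none => P
  | some z => x ^ z.val • P₀

theorem psluι_bijective (hyp : PslHyp G q r) (x : G) (hx : orderOf x = q) (P P₀ : Sylow q G)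
    (hP : zpowers x = (P : Subgroup G)) (hP₀ : P₀ ≠ P) :
    Function.Bijective (psluι x P P₀) := by
  have hqp : q.Prime := Fact.out
  haveI : NeZero q := ⟨hqp.ne_zero⟩
  have hne : ∀ m : ℕ, x ^ m • P₀ ≠ P := by
    intro m h0
    apply hP₀
    have hxm : x ^ m ∈ (P : Subgroup G) := by
      rw [← hP]; exact Subgroup.pow_mem _ (mem_zpowers x) m
    have h1 : (x ^ m)⁻¹ • P = P :=
      Sylow.smul_eq_iff_mem_normalizer.mpr (le_normalizer (Subgroup.inv_mem _ hxm))
    have h2 : P₀ = (x ^ m)⁻¹ • P := by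
      have := congrArg (fun R : Sylow q G => (x ^ m)⁻¹ • R) h0
      simp only [inv_smul_smul] at this
      exact this
    exact h2.trans h1
  have hinj : Function.Injective (psluι x P P₀) := by
    rintro (_ | z) (_ | w) hzw
    · rfl
    · exact absurd hzw.symm (hne _)
    · exact absurd hzw (hne _)
    · have h1 := pslu_pow_smul_inj hyp x P P₀ hP hP₀ _ _ hzw
      have h2 := (pow_eq_pow_iff_modEq (x := x)).mp h1
      rw [hx] at h2
      have h3 : z.val = w.val := by
        have hz := ZMod.val_lt z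
        have hw := ZMod.val_lt w
        unfold Nat.ModEq at h2
        rwa [Nat.mod_eq_of_lt hz, Nat.mod_eq_of_lt hw] at h2
      rw [ZMod.val_injective q h3]
  apply hinj.bijective_of_nat_card_le
  rw [hyp.nsyl, Nat.card_eq_fintype_card, Fintype.card_option, ZMod.card]

variable (G) in
/-- The permutation representation on labels. -/
noncomputable def psluρ (e : PL q ≃ Sylow q G) : G →* Equiv.Perm (PL q) :=
  (e.symm.permCongrHom).toMonoidHom.comp (MulAction.toPermHom G (Sylow q G))

theorem psluρ_apply (e : PL q ≃ Sylow q G) (g : G) (l : PL q) :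
    psluρ G e g l = e.symm (g • e l) := rfl

theorem psluρ_eq (e : PL q ≃ Sylow q G) (g : G) (σ : Equiv.Perm (PL q))
    (hσ : ∀ l, g • e l = e (σ l)) : psluρ G e g = σ := by
  ext1 l
  rw [psluρ_apply, hσ, Equiv.symm_apply_apply]

theorem psluρ_smul (e : PL q ≃ Sylow q G) (g : G) (l : PL q) :
    g • e l = e (psluρ G e g l) := by
  rw [psluρ_apply, Equiv.apply_symm_apply]

theorem psluρ_injective (hyp : PslHyp G q r) (e : PL q ≃ Sylow q G) :
    Function.Injective (psluρ G e) := by
  rw [injective_iff_map_eq_one]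
  intro g hg
  apply hyp.faithful
  intro R
  have := psluρ_smul e g (e.symm R)
  rw [hg, Equiv.Perm.one_apply, Equiv.apply_symm_apply] at this
  exact this

end

end Cfsg.Agent.Lib.Helper4
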