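import Mathlib
import Cfsg.Agent.Lib.Helper4.PslU3

set_option autoImplicit false
set_option linter.style.haveILetI false
set_option linter.unusedSectionVars false

namespace Cfsg.Agent.Lib.Helper4

open Subgroup

universe u

section

variable {G : Type u} [Group G] [Finite G] {q r : ℕ} [Fact q.Prime]

theorem pslu_pow_natCast_val {x : G} (hxq : x ^ q = 1) (n : ℕ) :
    x ^ ((n : ZMod q)).val = x ^ n := by
  rw [ZMod.val_natCast, ← pow_eq_pow_mod _ hxq]

theorem pslu_rho_x (x : G) (hx : orderOf x = q) (P P₀ : Sylow q G)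
    (hP : zpowers x = (P : Subgroup G)) (e : PL q ≃ Sylow q G) (he_none : e none = P)
    (he_some : ∀ z : ZMod q, e (some z) = x ^ z.val • P₀) : psluρ G e x = pluX q 1 := by
  have hqp : q.Prime := Fact.out
  haveI : NeZero q := ⟨hqp.ne_zero⟩
  have hxq : x ^ q = 1 := by rw [← hx]; exact pow_orderOf_eq_one x
  have hxP : x ∈ (P : Subgroup G) := hP ▸ mem_zpowers x
  have hxsP : x • P = P := Sylow.smul_eq_iff_mem_normalizer.mpr (le_normalizer hxP)
  apply psluρ_eq
  rintro (_ | z)
  · rw [pluX_none, he_none]; exact hxsP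
  · rw [pluX_some, he_some, he_some, ← mul_smul, ← pow_succ']
    congr 1
    have h1 : z + 1 = ((z.val + 1 : ℕ) : ZMod q) := by
      rw [Nat.cast_add, ZMod.natCast_zmod_val, Nat.cast_one]
    rw [h1, pslu_pow_natCast_val hxq]

theorem pslu_rho_stab (x : G) (hx : orderOf x = q) (P P₀ : Sylow q G)
    (hP : zpowers x = (P : Subgroup G)) (e : PL q ≃ Sylow q G) (he_none : e none = P)
    (he_some : ∀ z : ZMod q, e (some z) = x ^ z.val • P₀) (h : G) (hhP : h • P = P)
    (hhP₀ : h • P₀ = P₀) : ∃ c : (ZMod q)ˣ, psluρ G e h = pluM q c := by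
  have hqp : q.Prime := Fact.out
  haveI : NeZero q := ⟨hqp.ne_zero⟩
  have hxq : x ^ q = 1 := by rw [← hx]; exact pow_orderOf_eq_one x
  have hhN : h ∈ normalizer ((P : Subgroup G) : Set G) := Sylow.smul_eq_iff_mem_normalizer.mp hhP
  have hc : h * x * h⁻¹ ∈ zpowers x := by
    rw [hP]
    exact Cfsg.Agent.Lib.Helper17.conj_mem_of_mem_normalizer hhN (hP ▸ mem_zpowers x)
  rw [← mem_powers_iff_mem_zpowers] at hc
  obtain ⟨j, hj⟩ := (Submonoid.mem_powers_iff _ _).mp hc
  have hj0 : (j : ZMod q) ≠ 0 := by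
    intro h0
    rw [ZMod.natCast_eq_zero_iff] at h0
    obtain ⟨m, rfl⟩ := h0
    rw [pow_mul, hxq, one_pow] at hj
    have h1 : x = 1 := by
      have := congrArg (fun g => h⁻¹ * g * h) hj
      simp only [mul_one, inv_mul_cancel] at this
      rw [this]; group
    rw [h1, orderOf_one] at hx
    exact hqp.one_lt.ne hx
  refine ⟨Units.mk0 (j : ZMod q) hj0, ?_⟩
  apply psluρ_eq
  rintro (_ | z)
  · rw [pluM_none, he_none]; exact hhP
  · rw [pluM_some, he_some, he_some, Units.val_mk0]
    have e1 : h • x ^ z.val • P₀ = (h * x ^ z.val * h⁻¹) • h • P₀ := by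
      rw [← mul_smul, ← mul_smul]; congr 1; group
    rw [e1, hhP₀, ← conj_pow, ← hj, ← pow_mul]
    congr 1
    have h1 : (j : ZMod q) * z = ((j * z.val : ℕ) : ZMod q) := by
      rw [Nat.cast_mul, ZMod.natCast_zmod_val]
    rw [h1, pslu_pow_natCast_val hxq]


/-- The two-point stabilizer. -/
def psluH (P P₀ : Sylow q G) : Subgroup G :=
  normalizer ((P : Subgroup G) : Set G) ⊓ normalizer ((P₀ : Subgroup G) : Set G)

theorem mem_psluH (P P₀ : Sylow q G) (g : G) :
    g ∈ psluH P P₀ ↔ g • P = P ∧ g • P₀ = P₀ := by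
  rw [psluH, mem_inf, Sylow.smul_eq_iff_mem_normalizer, Sylow.smul_eq_iff_mem_normalizer]
  rfl

theorem pslu_exists_label (x : G) (P P₀ : Sylow q G)
    (e : PL q ≃ Sylow q G) (he_none : e none = P)
    (he_some : ∀ z : ZMod q, e (some z) = x ^ z.val • P₀) (R : Sylow q G) (hR : R ≠ P) :
    ∃ z : ZMod q, R = x ^ z.val • P₀ := by
  rcases hl : e.symm R with _ | z
  · exfalso
    apply hR
    rw [← he_none, ← hl, Equiv.apply_symm_apply]
  · refine ⟨z, ?_⟩
    rw [← he_some, ← hl, Equiv.apply_symm_apply]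

theorem pslu_card_stab (hyp : PslHyp G q r) (x : G) (P P₀ : Sylow q G)
    (hP : zpowers x = (P : Subgroup G)) (hP₀ : P₀ ≠ P) (e : PL q ≃ Sylow q G)
    (he_none : e none = P) (he_some : ∀ z : ZMod q, e (some z) = x ^ z.val • P₀) :
    Nat.card (psluH P P₀) = r := by
  have hqp : q.Prime := Fact.out
  haveI : NeZero q := ⟨hqp.ne_zero⟩
  have hxP : x ∈ (P : Subgroup G) := hP ▸ mem_zpowers x
  have hxN : ∀ n : ℕ, x ^ n ∈ normalizer ((P : Subgroup G) : Set G) := fun n =>
    le_normalizer (Subgroup.pow_mem _ hxP n)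
  have hHN : ∀ h : psluH P P₀, (h : G) ∈ normalizer ((P : Subgroup G) : Set G) := fun h =>
    (mem_inf.mp h.2).1
  let f : ZMod q × psluH P P₀ → normalizer ((P : Subgroup G) : Set G) := fun p =>
    ⟨x ^ p.1.val * (p.2 : G), Subgroup.mul_mem _ (hxN _) (hHN p.2)⟩
  have hf : Function.Bijective f := by
    constructor
    · rintro ⟨i, h⟩ ⟨j, h'⟩ hij
      have h1 : x ^ i.val * (h : G) = x ^ j.val * (h' : G) := congrArg Subtype.val hij
      have hh : (h : G) • P₀ = P₀ := ((mem_psluH P P₀ _).mp h.2).2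
      have hh' : (h' : G) • P₀ = P₀ := ((mem_psluH P P₀ _).mp h'.2).2
      have h2 : x ^ i.val • P₀ = x ^ j.val • P₀ := by
        have := congrArg (fun g : G => g • P₀) h1
        simp only [mul_smul, hh, hh'] at this
        exact this
      have h3 : i = j := by
        rw [← he_some, ← he_some] at h2
        exact Option.some.inj (e.injective h2)
      subst h3
      have h4 : (h : G) = (h' : G) := mul_left_cancel h1
      rw [Subtype.ext h4]
    · rintro ⟨g, hg⟩
      have hgP : g • P = P := Sylow.smul_eq_iff_mem_normalizer.mpr hg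
      have hne : g • P₀ ≠ P := by
        intro h0
        apply hP₀
        have := h0.trans hgP.symm
        exact smul_left_cancel g this
      obtain ⟨z, hz⟩ := pslu_exists_label x P P₀ e he_none he_some _ hne
      have hmem : (x ^ z.val)⁻¹ * g ∈ psluH P P₀ := by
        rw [mem_psluH]
        constructor
        · exact Sylow.smul_eq_iff_mem_normalizer.mpr
            (Subgroup.mul_mem _ (Subgroup.inv_mem _ (hxN _)) hg)
        · rw [mul_smul, hz, inv_smul_smul]
      refine ⟨(z, ⟨_, hmem⟩), ?_⟩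
      apply Subtype.ext
      show x ^ z.val * ((x ^ z.val)⁻¹ * g) = g
      rw [mul_inv_cancel_left]
  have hcard := Nat.card_congr (Equiv.ofBijective f hf)
  rw [Nat.card_prod, Nat.card_zmod, pslu_card_normalizer hyp P] at hcard
  exact Nat.eq_of_mul_eq_mul_left hqp.pos hcard



theorem pslu_exists_y (hyp : PslHyp G q r) (x : G) (hx : orderOf x = q) (P P₀ : Sylow q G)
    (hP : zpowers x = (P : Subgroup G)) (hP₀ : P₀ ≠ P) (e : PL q ≃ Sylow q G)
    (he_none : e none = P) (he_some : ∀ z : ZMod q, e (some z) = x ^ z.val • P₀)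
    (k : (ZMod q)ˣ) (hk : orderOf k = r) :
    ∃ y : G, psluρ G e y = pluM q k ∧ psluH P P₀ = zpowers y := by
  classical
  have hcardH := pslu_card_stab hyp x P P₀ hP hP₀ e he_none he_some
  have hρinj := psluρ_injective hyp e
  haveI : Fintype (psluH P P₀) := Fintype.ofFinite _
  have hex : ∀ h : psluH P P₀, ∃ c : (ZMod q)ˣ, psluρ G e (h : G) = pluM q c := fun h =>
    pslu_rho_stab x hx P P₀ hP e he_none he_some h
      ((mem_psluH P P₀ _).mp h.2).1 ((mem_psluH P P₀ _).mp h.2).2
  choose c hc using hex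
  have hcinj : Function.Injective c := by
    intro h h' hh
    have : psluρ G e (h : G) = psluρ G e (h' : G) := by rw [hc, hc, hh]
    exact Subtype.ext (hρinj this)
  have hcr : ∀ h, c h ^ r = 1 := by
    intro h
    apply pluM_injective q
    rw [map_pow, ← hc, ← map_pow, map_one]
    have h1 : h ^ r = 1 := by rw [← hcardH]; exact pow_card_eq_one'
    have h2 : (h : G) ^ r = 1 := by
      have := congrArg Subtype.val h1
      simpa using this
    rw [h2, map_one]
  have hle := IsCyclic.card_pow_eq_one_le (α := (ZMod q)ˣ) hyp.hr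
  set S := Finset.univ.filter (fun a : (ZMod q)ˣ => a ^ r = 1) with hS
  have hsub : Finset.image c Finset.univ ⊆ S := by
    intro a ha
    obtain ⟨h, -, rfl⟩ := Finset.mem_image.mp ha
    rw [hS, Finset.mem_filter]
    exact ⟨Finset.mem_univ _, hcr h⟩
  have hcardim : (Finset.image c Finset.univ).card = r := by
    rw [Finset.card_image_of_injective _ hcinj, Finset.card_univ, ← Nat.card_eq_fintype_card,
      hcardH]
  have himS : Finset.image c Finset.univ = S :=
    Finset.eq_of_subset_of_card_le hsub (by rw [hcardim]; exact hle)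
  have hkS : k ∈ S := by
    rw [hS, Finset.mem_filter]
    refine ⟨Finset.mem_univ _, ?_⟩
    rw [← hk]; exact pow_orderOf_eq_one k
  rw [← himS] at hkS
  obtain ⟨y, -, hy⟩ := Finset.mem_image.mp hkS
  refine ⟨(y : G), by rw [hc, hy], ?_⟩
  symm
  apply Subgroup.eq_of_le_of_card_ge (zpowers_le.mpr y.2)
  rw [hcardH, Nat.card_zpowers, ← orderOf_injective (psluρ G e) hρinj, hc, hy,
    orderOf_injective (pluM q) (pluM_injective q), hk]


theorem pslu_exists_t (hyp : PslHyp G q r) (x : G) (P P₀ : Sylow q G)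
    (hP : zpowers x = (P : Subgroup G)) (e : PL q ≃ Sylow q G)
    (he_none : e none = P) (he_some : ∀ z : ZMod q, e (some z) = x ^ z.val • P₀) :
    ∃ t : G, t * t = 1 ∧ t • P = P₀ ∧ t • P₀ = P := by
  haveI : Fact (Nat.Prime 2) := ⟨Nat.prime_two⟩
  have hxP : x ∈ (P : Subgroup G) := hP ▸ mem_zpowers x
  have h2 : 2 ∣ Nat.card G := by
    rw [hyp.card, hyp.hq]
    exact ⟨(2 * r + 1) * ((r + 1) * r), by ring⟩
  obtain ⟨u, hu⟩ := exists_prime_orderOf_dvd_card' (G := G) 2 h2
  have huu : u * u = 1 := by rw [← pow_two, ← hu]; exact pow_orderOf_eq_one u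
  have hu1 : u ≠ 1 := by
    intro h0
    rw [h0, orderOf_one] at hu
    norm_num at hu
  obtain ⟨R, hR⟩ : ∃ R : Sylow q G, u • R ≠ R := by
    by_contra hcon
    push Not at hcon
    exact hu1 (hyp.faithful u hcon)
  obtain ⟨g₁, hg₁⟩ := MulAction.exists_smul_eq G R P
  have hne : g₁ • (u • R) ≠ P := by
    intro h0
    exact hR (smul_left_cancel g₁ (h0.trans hg₁.symm))
  obtain ⟨z, hz⟩ := pslu_exists_label x P P₀ e he_none he_some _ hne
  have hxzP : (x ^ z.val)⁻¹ • P = P :=
    Sylow.smul_eq_iff_mem_normalizer.mpr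
      (le_normalizer (Subgroup.inv_mem _ (Subgroup.pow_mem _ hxP _)))
  set g := (x ^ z.val)⁻¹ * g₁ with hg
  have hgR : g • R = P := by rw [hg, mul_smul, hg₁, hxzP]
  have hgR' : g • (u • R) = P₀ := by rw [hg, mul_smul, hz, inv_smul_smul]
  have hgP : g⁻¹ • P = R := by rw [← hgR, inv_smul_smul]
  have hgP₀ : g⁻¹ • P₀ = u • R := by rw [← hgR', inv_smul_smul]
  refine ⟨g * u * g⁻¹, ?_, ?_, ?_⟩
  · have : g * u * g⁻¹ * (g * u * g⁻¹) = g * (u * u) * g⁻¹ := by group
    rw [this, huu]; group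
  · rw [mul_smul, mul_smul, hgP, hgR']
  · rw [mul_smul, mul_smul, hgP₀, ← mul_smul u u, huu, one_smul, hgR]



theorem pslu_closure_eq_top (x y t : G) (P P₀ : Sylow q G)
    (hP : zpowers x = (P : Subgroup G)) (hP₀ : P₀ ≠ P) (e : PL q ≃ Sylow q G)
    (he_none : e none = P) (he_some : ∀ z : ZMod q, e (some z) = x ^ z.val • P₀)
    (hH : psluH P P₀ = zpowers y) (htP : t • P = P₀) :
    closure ({x, y, t} : Set G) = ⊤ := by
  rw [eq_top_iff]
  intro g _
  have hxK : x ∈ closure ({x, y, t} : Set G) := subset_closure (by simp)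
  have hyK : y ∈ closure ({x, y, t} : Set G) := subset_closure (by simp)
  have htK : t ∈ closure ({x, y, t} : Set G) := subset_closure (by simp)
  have hxP : x ∈ (P : Subgroup G) := hP ▸ mem_zpowers x
  have hHK : psluH P P₀ ≤ closure ({x, y, t} : Set G) := by
    rw [hH]; exact zpowers_le.mpr hyK
  have step1 : ∀ g : G, g • P = P → g ∈ closure ({x, y, t} : Set G) := by
    intro g hgP
    have hne : g • P₀ ≠ P := by
      intro h0
      exact hP₀ (smul_left_cancel g (h0.trans hgP.symm))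
    obtain ⟨z, hz⟩ := pslu_exists_label x P P₀ e he_none he_some _ hne
    have hmem : (x ^ z.val)⁻¹ * g ∈ psluH P P₀ := by
      rw [mem_psluH]
      constructor
      · rw [mul_smul, hgP]
        exact Sylow.smul_eq_iff_mem_normalizer.mpr
          (le_normalizer (Subgroup.inv_mem _ (Subgroup.pow_mem _ hxP _)))
      · rw [mul_smul, hz, inv_smul_smul]
    have : g = x ^ z.val * ((x ^ z.val)⁻¹ * g) := by rw [mul_inv_cancel_left]
    rw [this]
    exact Subgroup.mul_mem _ (Subgroup.pow_mem _ hxK _) (hHK hmem)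
  by_cases hgP : g • P = P
  · exact step1 g hgP
  · obtain ⟨z, hz⟩ := pslu_exists_label x P P₀ e he_none he_some _ hgP
    have h1 : ((x ^ z.val * t)⁻¹ * g) • P = P := by
      rw [mul_smul, hz, ← htP, ← mul_smul (x ^ z.val) t, inv_smul_smul]
    have := step1 _ h1
    have h2 : g = (x ^ z.val * t) * ((x ^ z.val * t)⁻¹ * g) := by rw [mul_inv_cancel_left]
    rw [h2]
    exact Subgroup.mul_mem _ (Subgroup.mul_mem _ (Subgroup.pow_mem _ hxK _) htK) this

theorem pslu_main (hyp : PslHyp G q r) (k : (ZMod q)ˣ) (hk : orderOf k = r) :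
    ∃ τ : Equiv.Perm (PL q), τ * τ = 1 ∧ τ none = some 0 ∧
      τ * pluM q k * τ⁻¹ ∈ zpowers (pluM q k) ∧
      (∀ g ∈ closure ({pluX q 1, pluM q k, τ} : Set (Equiv.Perm (PL q))),
        g none = none → g (some 0) = some 0 → g ∈ zpowers (pluM q k)) ∧
      Nonempty (G ≃* closure ({pluX q 1, pluM q k, τ} : Set (Equiv.Perm (PL q)))) := by
  have hqp : q.Prime := Fact.out
  haveI : NeZero q := ⟨hqp.ne_zero⟩
  obtain ⟨x, hx⟩ := exists_prime_orderOf_dvd_card' (G := G) q (by rw [hyp.card]; exact ⟨_, rfl⟩)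
  have hxp : IsPGroup q (zpowers x) :=
    IsPGroup.of_card (n := 1) (by rw [Nat.card_zpowers, hx, pow_one])
  obtain ⟨P, hle⟩ := hxp.exists_le_sylow
  have hP : zpowers x = (P : Subgroup G) := by
    apply Subgroup.eq_of_le_of_card_ge hle
    rw [pslu_card_sylow hyp P, Nat.card_zpowers, hx]
  haveI : Nontrivial (Sylow q G) := by
    rw [← Finite.one_lt_card_iff_nontrivial, hyp.nsyl]
    have := hqp.pos
    omega
  obtain ⟨P₀, hP₀⟩ := exists_ne P
  set e : PL q ≃ Sylow q G := Equiv.ofBijective _ (psluι_bijective hyp x hx P P₀ hP hP₀) with he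
  have he_none : e none = P := rfl
  have he_some : ∀ z : ZMod q, e (some z) = x ^ z.val • P₀ := fun z => rfl
  have he_zero : e (some 0) = P₀ := by rw [he_some, ZMod.val_zero, pow_zero, one_smul]
  have hρinj := psluρ_injective hyp e
  have hρx := pslu_rho_x x hx P P₀ hP e he_none he_some
  obtain ⟨y, hρy, hH⟩ := pslu_exists_y hyp x hx P P₀ hP hP₀ e he_none he_some k hk
  obtain ⟨t, htt, htP, htP₀⟩ := pslu_exists_t hyp x P P₀ hP e he_none he_some
  have htop := pslu_closure_eq_top x y t P P₀ hP hP₀ e he_none he_some hH htP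
  have htiP : t⁻¹ • P = P₀ := by rw [← htP₀, inv_smul_smul]
  have htiP₀ : t⁻¹ • P₀ = P := by rw [← htP, inv_smul_smul]
  have hyH : y ∈ psluH P P₀ := by rw [hH]; exact mem_zpowers y
  have hyP := ((mem_psluH P P₀ y).mp hyH).1
  have hyP₀ := ((mem_psluH P P₀ y).mp hyH).2
  have hrange : closure ({pluX q 1, pluM q k, psluρ G e t} : Set (Equiv.Perm (PL q))) =
      (psluρ G e).range := by
    rw [MonoidHom.range_eq_map, ← htop, MonoidHom.map_closure]
    congr 1
    rw [Set.image_insert_eq, Set.image_insert_eq, Set.image_singleton, hρx, hρy]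
  have hzp : ∀ g : G, g ∈ zpowers y → psluρ G e g ∈ zpowers (pluM q k) := by
    intro g hg
    obtain ⟨j, rfl⟩ := mem_zpowers_iff.mp hg
    rw [map_zpow, hρy]
    exact Subgroup.zpow_mem _ (mem_zpowers _) j
  refine ⟨psluρ G e t, ?_, ?_, ?_, ?_, ?_⟩
  · rw [← map_mul, htt, map_one]
  · rw [psluρ_apply, he_none, htP, ← he_zero, Equiv.symm_apply_apply]
  · have e1 : psluρ G e t * pluM q k * (psluρ G e t)⁻¹ = psluρ G e (t * y * t⁻¹) := by
      rw [map_mul, map_mul, map_inv, hρy]
    rw [e1]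
    apply hzp
    rw [← hH, mem_psluH]
    constructor
    · rw [mul_smul, mul_smul, htiP, hyP₀, htP₀]
    · rw [mul_smul, mul_smul, htiP₀, hyP, htP]
  · intro g hg hgn hg0
    rw [hrange] at hg
    obtain ⟨g', rfl⟩ := hg
    apply hzp
    rw [← hH, mem_psluH]
    constructor
    · have := psluρ_smul e g' none
      rw [hgn, he_none] at this
      exact this
    · have := psluρ_smul e g' (some 0)
      rw [hg0, he_zero] at this
      exact this
  · exact ⟨(MonoidHom.ofInjective hρinj).trans (MulEquiv.subgroupCongr hrange.symm)⟩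

end

end Cfsg.Agent.Lib.Helper4
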