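import Mathlib
import Cfsg.Agent.Lib.Helper4.PslU4

set_option autoImplicit false
set_option linter.style.haveILetI false
set_option linter.unusedSectionVars false

namespace Cfsg.Agent.Lib.Helper4

open Subgroup

universe u v

section

variable {G : Type u} [Group G] [Finite G] {q r : ℕ} [Fact q.Prime]

variable (q) in
/-- The concrete group `PSL₂(q)` as a permutation group on the projective line. -/
def pluC (k : (ZMod q)ˣ) : Subgroup (Equiv.Perm (PL q)) :=
  closure {pluX q 1, pluM q k, pluT0 q}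

theorem pslu_unique [NeZero q] (hyp : PslHyp G q r) (k : (ZMod q)ˣ) (hk : orderOf k = r)
    (n ninv : ZMod q) (hn : n ^ r ≠ 1) (hninv : n * ninv = 1)
    (hD : ∀ s : Fin r, ∀ a b : ZMod q, PluGood q r ninv s a b →
      (s : ℕ) = r - 1 ∧ b = a * ninv ∧ (-a) ^ r = 1) :
    Nonempty (G ≃* pluC q k) := by
  obtain ⟨τ, h2, h0, hY, hfix, ⟨E⟩⟩ := pslu_main hyp k hk
  obtain ⟨m, hm, hτ⟩ := plu_tau_classify hyp.hq hyp.hr k hk n ninv hn hninv hD τ h2 h0 hY hfix
  have hMm : pluM q m ∈ zpowers (pluM q k) := by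
    obtain ⟨j, rfl⟩ := mem_zpowers_iff.mp hm
    rw [map_zpow]
    exact Subgroup.zpow_mem _ (mem_zpowers _) j
  have hcl : closure ({pluX q 1, pluM q k, τ} : Set (Equiv.Perm (PL q))) = pluC q k := by
    apply le_antisymm
    · rw [closure_le]
      rintro g (rfl | rfl | rfl)
      · exact subset_closure (by simp)
      · exact subset_closure (by simp)
      · rw [hτ]
        refine Subgroup.mul_mem _ (subset_closure (by simp)) ?_
        have h1 : zpowers (pluM q k) ≤ pluC q k := zpowers_le.mpr (subset_closure (by simp))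
        exact h1 hMm
    · rw [pluC, closure_le]
      rintro g (rfl | rfl | rfl)
      · exact subset_closure (by simp)
      · exact subset_closure (by simp)
      · have h3 : pluT0 q = τ * (pluM q m)⁻¹ := by rw [hτ]; group
        rw [h3]
        refine Subgroup.mul_mem _ (subset_closure (by simp)) (Subgroup.inv_mem _ ?_)
        have h1 : zpowers (pluM q k) ≤
            closure ({pluX q 1, pluM q k, τ} : Set (Equiv.Perm (PL q))) :=
          zpowers_le.mpr (subset_closure (by simp))
        exact h1 hMm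
  exact ⟨E.trans (MulEquiv.subgroupCongr hcl)⟩

theorem pslu_mulEquiv [NeZero q] {H : Type v} [Group H] [Finite H] (hyp : PslHyp G q r)
    (hyp' : PslHyp H q r) (k : (ZMod q)ˣ) (hk : orderOf k = r)
    (n ninv : ZMod q) (hn : n ^ r ≠ 1) (hninv : n * ninv = 1)
    (hD : ∀ s : Fin r, ∀ a b : ZMod q, PluGood q r ninv s a b →
      (s : ℕ) = r - 1 ∧ b = a * ninv ∧ (-a) ^ r = 1) :
    Nonempty (G ≃* H) := by
  obtain ⟨e1⟩ := pslu_unique hyp k hk n ninv hn hninv hD
  obtain ⟨e2⟩ := pslu_unique hyp' k hk n ninv hn hninv hD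
  exact ⟨e1.trans e2.symm⟩

theorem pslHyp_of_simple [IsSimpleGroup G] (hq : q = 2 * r + 1) (hr : 0 < r)
    (hcard : Nat.card G = q * ((q + 1) * r))
    (hdiv : ∀ d ∈ Nat.divisors ((q + 1) * r), d % q = 1 → d = 1 ∨ d = q + 1) :
    PslHyp G q r := by
  have hqp : q.Prime := Fact.out
  have hnd : ¬ q ∣ (q + 1) * r := by
    intro hdvd
    rcases (Nat.Prime.dvd_mul hqp).mp hdvd with h1 | h1
    · have : q ∣ 1 := (Nat.dvd_add_right (dvd_refl q)).mp h1
      exact hqp.one_lt.ne' (Nat.dvd_one.mp this)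
    · have := Nat.le_of_dvd hr h1
      omega
  obtain ⟨P⟩ : Nonempty (Sylow q G) := inferInstance
  have hPc := Cfsg.Agent.Lib.Helper7.sylow_card_index_of_exact hcard hnd P
  have hnsyl : Nat.card (Sylow q G) = q + 1 := by
    have h1 : Nat.card (Sylow q G) ∣ (q + 1) * r := by
      rw [← hPc.2]; exact Sylow.card_dvd_index P
    have h2 : Nat.card (Sylow q G) % q = 1 := by
      have := card_sylow_modEq_one q G
      unfold Nat.ModEq at this
      rw [this, Nat.mod_eq_of_lt hqp.one_lt]
    have hpos : (q + 1) * r ≠ 0 := by positivity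
    rcases hdiv _ (Nat.mem_divisors.mpr ⟨h1, hpos⟩) h2 with h3 | h3
    · exfalso
      refine Cfsg.Agent.Lib.Helper7.card_sylow_ne_one P ?_ ?_ h3
      · rw [hPc.1]; exact hqp.one_lt
      · rw [hPc.1, hcard]
        have : 1 < (q + 1) * r := by nlinarith
        nlinarith [hqp.pos]
    · exact h3
  refine ⟨hq, hr, hcard, hnsyl, ?_⟩
  intro g hg
  have hker : g ∈ (MulAction.toPermHom G (Sylow q G)).ker := by
    rw [MonoidHom.mem_ker]
    ext1 R
    exact hg R
  rcases (MonoidHom.normal_ker (MulAction.toPermHom G (Sylow q G))).eq_bot_or_eq_top with h1 | h1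
  · rw [h1, mem_bot] at hker
    exact hker
  · exfalso
    haveI : Nontrivial (Sylow q G) := by
      rw [← Finite.one_lt_card_iff_nontrivial, hnsyl]
      have := hqp.pos
      omega
    obtain ⟨P₀, hP₀⟩ := exists_ne P
    obtain ⟨g₁, hg₁⟩ := MulAction.exists_smul_eq G P P₀
    have : g₁ ∈ (MulAction.toPermHom G (Sylow q G)).ker := by rw [h1]; trivial
    rw [MonoidHom.mem_ker] at this
    have h2 := congrArg (fun σ : Equiv.Perm (Sylow q G) => σ P) this
    simp only [MulAction.toPermHom_apply, MulAction.toPerm_apply, Equiv.Perm.one_apply] at h2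
    exact hP₀ (hg₁.symm.trans h2)

end

end Cfsg.Agent.Lib.Helper4
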