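import Mathlib
import Cfsg.Agent.Lib.Helper4.PslU5

set_option autoImplicit false
set_option linter.style.haveILetI false
set_option linter.unusedSectionVars false

namespace Cfsg.Agent.Lib.Helper4

open Subgroup

universe u v

set_option maxRecDepth 100000 in
theorem plu_dec11 : ∀ s : Fin 5, ∀ a b : ZMod 11, PluGood 11 5 6 s a b →
    (s : ℕ) = 5 - 1 ∧ b = a * 6 ∧ (-a) ^ 5 = 1 := by decide +kernel

/-- A generator of the squares modulo `11`. -/
def plu_k11 : (ZMod 11)ˣ := ⟨3, 4, by decide, by decide⟩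

theorem plu_k11_order : orderOf plu_k11 = 5 := by
  rw [orderOf_eq_iff (by norm_num)]
  refine ⟨by apply Units.ext; decide, ?_⟩
  intro m hm hm0 h1
  have h2 := congrArg Units.val h1
  rw [Units.val_pow_eq_pow_val, Units.val_one] at h2
  have h3 : ((plu_k11 : (ZMod 11)ˣ) : ZMod 11) = 3 := rfl
  rw [h3] at h2
  interval_cases m <;> revert h2 <;> decide

/-- Any two finite simple groups of order `660` are isomorphic. -/
theorem s660_mulEquiv {G : Type u} [Group G] [Finite G] [IsSimpleGroup G]
    {H : Type v} [Group H] [Finite H] [IsSimpleGroup H]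
    (h : Nat.card G = 660) (h' : Nat.card H = 660) : Nonempty (G ≃* H) := by
  have hdiv : ∀ d ∈ Nat.divisors ((11 + 1) * 5), d % 11 = 1 → d = 1 ∨ d = 11 + 1 := by decide
  have hn : (2 : ZMod 11) ^ 5 ≠ 1 := by decide
  have hninv : (2 : ZMod 11) * 6 = 1 := by decide
  haveI : Fact (Nat.Prime 11) := ⟨by norm_num⟩
  have hyp : PslHyp G 11 5 := pslHyp_of_simple (by norm_num) (by norm_num) (by rw [h]) hdiv
  have hyp' : PslHyp H 11 5 := pslHyp_of_simple (by norm_num) (by norm_num) (by rw [h']) hdiv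
  exact pslu_mulEquiv hyp hyp' plu_k11 plu_k11_order 2 6 hn hninv plu_dec11

end Cfsg.Agent.Lib.Helper4
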