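import Mathlib
import Cfsg.Agent.Lib.Helper4.PslU5

set_option autoImplicit false
set_option linter.style.haveILetI false
set_option linter.unusedSectionVars false

namespace Cfsg.Agent.Lib.Helper4

open Subgroup

universe u v

set_option maxRecDepth 100000 in
theorem plu_dec13 : ∀ s : Fin 6, ∀ a b : ZMod 13, PluGood 13 6 7 s a b →
    (s : ℕ) = 6 - 1 ∧ b = a * 7 ∧ (-a) ^ 6 = 1 := by decide +kernel

/-- A generator of the squares modulo `13`. -/
def plu_k13 : (ZMod 13)ˣ := ⟨4, 10, by decide, by decide⟩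

theorem plu_k13_order : orderOf plu_k13 = 6 := by
  rw [orderOf_eq_iff (by norm_num)]
  refine ⟨by apply Units.ext; decide, ?_⟩
  intro m hm hm0 h1
  have h2 := congrArg Units.val h1
  rw [Units.val_pow_eq_pow_val, Units.val_one] at h2
  have h3 : ((plu_k13 : (ZMod 13)ˣ) : ZMod 13) = 4 := rfl
  rw [h3] at h2
  interval_cases m <;> revert h2 <;> decide

/-- Any two finite simple groups of order `1092` are isomorphic. -/
theorem s1092_mulEquiv {G : Type u} [Group G] [Finite G] [IsSimpleGroup G]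
    {H : Type v} [Group H] [Finite H] [IsSimpleGroup H]
    (h : Nat.card G = 1092) (h' : Nat.card H = 1092) : Nonempty (G ≃* H) := by
  have hdiv : ∀ d ∈ Nat.divisors ((13 + 1) * 6), d % 13 = 1 → d = 1 ∨ d = 13 + 1 := by decide
  have hn : (2 : ZMod 13) ^ 6 ≠ 1 := by decide
  have hninv : (2 : ZMod 13) * 7 = 1 := by decide
  haveI : Fact (Nat.Prime 13) := ⟨by norm_num⟩
  have hyp : PslHyp G 13 6 := pslHyp_of_simple (by norm_num) (by norm_num) (by rw [h]) hdiv
  have hyp' : PslHyp H 13 6 := pslHyp_of_simple (by norm_num) (by norm_num) (by rw [h']) hdiv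
  exact pslu_mulEquiv hyp hyp' plu_k13 plu_k13_order 2 7 hn hninv plu_dec13

end Cfsg.Agent.Lib.Helper4
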