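/-
helper4: S2524 leaf GEN - `Sp_{2n}` is generated by the Siegel radical, the Levi factor and the
reflections `s_j` (in fact by the Siegel radical and the `s_j`): via Helper6 `eq_top_of_long_pairs`.
-/
import Mathlib
import Cfsg.Agent.Lib.Helper10.WGDefs
import Cfsg.Agent.Lib.Helper6.SpGenB

set_option autoImplicit false

namespace Cfsg.Agent.Lib.Helper4.WGGEN

open Matrix Cfsg.Agent.Lib.Helper11.LS Cfsg.Agent.Lib.Helper10.WG
open Cfsg.Agent.Lib.Helper5 Cfsg.Agent.Lib.Helper14.SpPerfect Cfsg.Agent.Lib.Helper6.SpGen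

variable {F : Type*} [Field F]

/-- the vector `(v, 0)` -/
def lft {n : ℕ} (v : Fin n → F) : Fin n ⊕ Fin n → F := Sum.elim v (fun _ => 0)

/-- the vector `(0, v)` -/
def rgt {n : ℕ} (v : Fin n → F) : Fin n ⊕ Fin n → F := Sum.elim (fun _ => 0) v

@[simp] theorem lft_inl {n : ℕ} (v : Fin n → F) (i : Fin n) : lft v (Sum.inl i) = v i := rfl
@[simp] theorem lft_inr {n : ℕ} (v : Fin n → F) (i : Fin n) : lft v (Sum.inr i) = 0 := rfl
@[simp] theorem rgt_inl {n : ℕ} (v : Fin n → F) (i : Fin n) : rgt v (Sum.inl i) = 0 := rfl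
@[simp] theorem rgt_inr {n : ℕ} (v : Fin n → F) (i : Fin n) : rgt v (Sum.inr i) = v i := rfl

/-- the symplectic transvection of the vector `(v, 0)` is the Siegel element `Xs (s v vᵀ)` -/
theorem Tr_lft {n : ℕ} (v : Fin n → F) (s : F)
    (hS : (s • vecMulVec v v)ᵀ = s • vecMulVec v v) :
    (Tr (lft v) s : SpG F n) = Xs (s • vecMulVec v v) hS := by
  apply Subtype.ext
  show Cfsg.sympTransvection n (lft v) s = fromBlocks 1 (s • vecMulVec v v) 0 1
  unfold Cfsg.sympTransvection
  ext i j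
  rcases i with i | i <;> rcases j with j | j <;>
    simp [Matrix.J, vecMulVec_apply, Matrix.mulVec, dotProduct, Matrix.one_apply, fromBlocks,
      Matrix.add_apply]

theorem symm_smul_vecMulVec {n : ℕ} (v : Fin n → F) (s : F) :
    (s • vecMulVec v v)ᵀ = s • vecMulVec v v := by
  rw [transpose_smul, transpose_vecMulVec]

theorem lft_mem_Rt {n : ℕ} (M : Subgroup (SpG F n))
    (hX : ∀ (S : Matrix (Fin n) (Fin n) F) (hS : Sᵀ = S), Xs S hS ∈ M) (v : Fin n → F) :
    lft v ∈ Rt M := by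
  intro s
  rw [Tr_lft v s (symm_smul_vecMulVec v s)]
  exact hX _ _

theorem eV_eq_lft {n : ℕ} (i : Fin n) :
    (eV i : Fin n ⊕ Fin n → F) = lft (Pi.single i 1) := by
  funext x
  rcases x with x | x
  · simp [Pi.single_apply]
  · simp

theorem fV_eq_rgt {n : ℕ} (i : Fin n) :
    (fV i : Fin n ⊕ Fin n → F) = rgt (Pi.single i 1) := by
  funext x
  rcases x with x | x
  · simp
  · simp [Pi.single_apply]

theorem lft_add {n : ℕ} (v w : Fin n → F) : lft (v + w) = lft v + lft w := by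
  funext x
  rcases x with x | x <;> simp

theorem ap_sw_eV {n : ℕ} (j : Fin n) : ap (sw j : SpG F n) (eV j) = fV j := by
  funext x
  show ((swMat j : Matrix _ _ F) *ᵥ (eV j)) x = fV j x
  rcases x with x | x
  · simp [swMat, Matrix.mulVec, dotProduct, fromBlocks, Matrix.sub_apply, Matrix.one_apply,
      single_apply, eq_comm]
  · simp [swMat, Matrix.mulVec, dotProduct, fromBlocks, Matrix.sub_apply, Matrix.one_apply,
      single_apply, eq_comm]

/-- the criterion: a subgroup containing the Siegel radical and with all `f_i` root vectors is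
everything -/
theorem eq_top_of_Xs_fV {n : ℕ} (M : Subgroup (SpG F n))
    (hX : ∀ (S : Matrix (Fin n) (Fin n) F) (hS : Sᵀ = S), Xs S hS ∈ M)
    (hf : ∀ i : Fin n, (fV i : Fin n ⊕ Fin n → F) ∈ Rt M) : M = ⊤ := by
  rcases Nat.eq_zero_or_pos n with h0 | hn
  · subst h0
    rw [eq_top_iff]
    intro g _
    have : g = 1 := Subtype.ext (Subsingleton.elim _ _)
    rw [this]
    exact M.one_mem
  · refine eq_top_of_long_pairs hn (fun i => ⟨?_, hf i⟩) (fun j k _ => ?_)
    · rw [eV_eq_lft]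
      exact lft_mem_Rt M hX _
    · rw [eV_eq_lft, eV_eq_lft, ← lft_add]
      exact lft_mem_Rt M hX _

variable [Fintype F] [DecidableEq F]

/-- (GEN) `Sp_{2n}` is generated by the Siegel radical, the Levi factor and the reflections `s_j`. -/
theorem closure_gens (n : ℕ) :
    Subgroup.closure ({g : SpG F n | ∃ (S : Matrix (Fin n) (Fin n) F) (hS : Sᵀ = S), g = Xs S hS} ∪
      {g : SpG F n | ∃ h : GL (Fin n) F, g = LvG h} ∪ {g : SpG F n | ∃ j : Fin n, g = sw j}) = ⊤ := by
  apply eq_top_of_Xs_fV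
  · intro S hS
    exact Subgroup.subset_closure (Or.inl (Or.inl ⟨S, hS, rfl⟩))
  · intro i
    rw [← ap_sw_eV]
    refine Rt_ap (Subgroup.subset_closure (Or.inr ⟨i, rfl⟩)) ?_
    rw [eV_eq_lft]
    exact lft_mem_Rt _ (fun S hS => Subgroup.subset_closure (Or.inl (Or.inl ⟨S, hS, rfl⟩))) _

end Cfsg.Agent.Lib.Helper4.WGGEN
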