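/-
helper4: S2524 leaf TYPE - an irreducible (W)-module of dimension `≠ 1` has a type `(κ, ε)`.
-/
import Mathlib
import Cfsg.Agent.Lib.Helper10.WGDefs
import Cfsg.Agent.Lib.Helper10.WGDefs2
import Cfsg.Agent.Lib.Helper4.WGGEN
import Cfsg.Agent.Lib.Helper17.WGWD
import Cfsg.Agent.Lib.Helper23.WGLVW
import Cfsg.Agent.Lib.Helper23.WGINV
import Cfsg.Agent.Lib.Helper24.WGORB
import Cfsg.Agent.Lib.Helper29.WGLVH

set_option autoImplicit false

namespace Cfsg.Agent.Lib.Helper4.WGTYPE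

open Matrix Cfsg.Agent.Lib.Helper11.LS Cfsg.Agent.Lib.Helper10.WG
open Cfsg.Agent.Lib.Helper5 Cfsg.Agent.Lib.Helper14.SpPerfect Cfsg.Agent.Lib.Helper6.SpGen
open Cfsg.Agent.Lib.Helper4.WGGEN

universe u

section general

variable {F : Type*} [Field F]
variable {V : Type u} [AddCommGroup V] [Module ℂ V]

theorem rho_mul {G W : Type*} [Group G] [AddCommGroup W] [Module ℂ W] (ρ : Representation ℂ G W)
    (a b : G) (v : W) : ρ (a * b) v = ρ a (ρ b v) := by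
  rw [map_mul]; rfl

theorem rho_inv_self {G W : Type*} [Group G] [AddCommGroup W] [Module ℂ W]
    (ρ : Representation ℂ G W) (a : G) (v : W) : ρ a⁻¹ (ρ a v) = v := by
  rw [← rho_mul, inv_mul_cancel, map_one]; rfl

/-- an irreducible representation with trivial action has dimension one -/
theorem finrank_eq_one_of_trivial {G : Type*} [Group G] (ρ : Representation ℂ G V)
    (hirr : ρ.IsIrreducible) (h : ∀ g, ρ g = 1) : Module.finrank ℂ V = 1 := by
  haveI : IsSimpleOrder (Subrepresentation ρ) := hirr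
  obtain ⟨v, hv⟩ : ∃ v : V, v ≠ 0 := by
    by_contra hcon
    push Not at hcon
    have : (⊥ : Subrepresentation ρ) = ⊤ := by
      apply Subrepresentation.toSubmodule_injective
      show (⊥ : Submodule ℂ V) = ⊤
      ext x
      simp [hcon x]
    exact bot_ne_top this
  let S : Subrepresentation ρ :=
    { toSubmodule := Submodule.span ℂ {v}
      apply_mem_toSubmodule := by
        intro g w hw
        rw [h g]
        exact hw }
  rcases eq_bot_or_eq_top S with hS | hS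
  · exfalso
    have h0 : v ∈ S.toSubmodule := Submodule.subset_span rfl
    rw [hS] at h0
    exact hv h0
  · have h1 : Submodule.span ℂ {v} = ⊤ := congrArg Subrepresentation.toSubmodule hS
    rw [← finrank_top ℂ V, ← h1, finrank_span_singleton hv]

theorem Tr_fV_eq {n : ℕ} (i : Fin n) (s : F) :
    (Tr (fV i) s : SpG F n) =
      sw i * Xs (s • vecMulVec (Pi.single i 1) (Pi.single i 1))
        (symm_smul_vecMulVec _ s) * (sw i)⁻¹ := by
  rw [← ap_sw_eV, ← conj_Tr', eV_eq_lft, Tr_lft _ s (symm_smul_vecMulVec _ s)]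

/-- a normal subgroup of `Sp_{2n}` containing the Siegel radical is everything -/
theorem normal_eq_top_of_Xs {n : ℕ} (M : Subgroup (SpG F n)) [hM : M.Normal]
    (hX : ∀ (S : Matrix (Fin n) (Fin n) F) (hS : Sᵀ = S), Xs S hS ∈ M) : M = ⊤ := by
  apply eq_top_of_Xs_fV M hX
  intro i s
  rw [Tr_fV_eq]
  exact hM.conj_mem _ (hX _ _) _

end general

section main

variable {F : Type*} [Field F] [Fintype F] [DecidableEq F]
variable {V : Type u} [AddCommGroup V] [Module ℂ V]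

/-- (a) some non-zero weight occurs -/
theorem exists_nonzero_weight {n : ℕ} (h2 : (2 : F) ≠ 0) (ψ : AddChar F ℂ) (hψ : ψ.IsPrimitive)
    (ρ : Representation ℂ (SpG F n) V) (hirr : ρ.IsIrreducible)
    (hd : Module.finrank ℂ V ≠ 1) :
    ∃ B : SymM F n, B.1 ≠ 0 ∧ wt ψ ρ B.1 ≠ ⊥ := by
  by_contra hcon
  push Not at hcon
  apply hd
  apply finrank_eq_one_of_trivial ρ hirr
  have hfix : ∀ (S : Matrix (Fin n) (Fin n) F) (hS : Sᵀ = S) (v : V), ρ (Xs S hS) v = v := by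
    intro S hS v
    have hsum := Cfsg.Agent.Lib.Helper17.WGWD.sum_wtProj h2 ψ hψ ρ v
    have hz : ∀ B : SymM F n, B ≠ ⟨0, by simp⟩ → wtProj ψ ρ B.1 v = 0 := by
      intro B hB
      have hB0 : B.1 ≠ 0 := fun h => hB (Subtype.ext h)
      have hm := Cfsg.Agent.Lib.Helper17.WGWD.wtProj_mem ψ ρ B.1 v
      rw [hcon B hB0] at hm
      exact (Submodule.mem_bot ℂ).1 hm
    rw [Finset.sum_eq_single (⟨0, by simp⟩ : SymM F n) (fun B _ hB => hz B hB)
      (fun h => absurd (Finset.mem_univ _) h)] at hsum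
    have hm := Cfsg.Agent.Lib.Helper17.WGWD.wtProj_mem ψ ρ (0 : Matrix (Fin n) (Fin n) F) v
    rw [hsum] at hm
    have := hm S hS
    rw [Matrix.zero_mul, trace_zero, AddChar.map_zero_eq_one, one_smul] at this
    exact this
  have hker : (ρ : SpG F n →* (V →ₗ[ℂ] V)).ker = ⊤ := by
    apply normal_eq_top_of_Xs
    intro S hS
    rw [MonoidHom.mem_ker]
    ext v
    exact hfix S hS v
  intro g
  have hg : g ∈ (ρ : SpG F n →* (V →ₗ[ℂ] V)).ker := by rw [hker]; trivial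
  exact MonoidHom.mem_ker.1 hg

theorem t1G_neg_one_mul_self {n : ℕ} :
    (t1G (-1 : Fˣ) : GL (Fin (n + 1)) F) * t1G (-1) = 1 := by
  apply Units.ext
  rw [Units.val_mul, Cfsg.Agent.Lib.Helper23.WGINV.t1G_val, bd_mul, Matrix.one_mul, Units.val_one]
  have : ((-1 : Fˣ) : F) * ((-1 : Fˣ) : F) = 1 := by simp
  rw [this, bd_one]

theorem t0_mul_self {n : ℕ} : (t0 : SpG F (n + 1)) * t0 = 1 := by
  unfold t0
  rw [← Cfsg.Agent.Lib.Helper29.WGLVH.LvG_mul, t1G_neg_one_mul_self,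
    Cfsg.Agent.Lib.Helper29.WGLVH.LvG_one]

theorem t0_mem_wt {n : ℕ} (ψ : AddChar F ℂ) (ρ : Representation ℂ (SpG F (n + 1)) V) (κ : F) (v : V)
    (hv : v ∈ wt ψ ρ (single 0 0 κ)) : ρ t0 v ∈ wt ψ ρ (single 0 0 κ) := by
  have h := Cfsg.Agent.Lib.Helper23.WGLVW.LvG_mem_wt ψ ρ (t1G (-1)) (single 0 0 κ) v hv
  have e : ((((t1G (-1 : Fˣ))⁻¹ : GL (Fin (n + 1)) F)) : Matrix (Fin (n + 1)) (Fin (n + 1)) F)ᵀ *
      single 0 0 κ * (((t1G (-1 : Fˣ))⁻¹ : GL (Fin (n + 1)) F) : Matrix (Fin (n + 1)) (Fin (n + 1)) F) =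
      single 0 0 κ := by
    rw [Cfsg.Agent.Lib.Helper23.WGINV.t1G_inv_val, Cfsg.Agent.Lib.Helper23.WGINV.single_zero_zero_eq_bd,
      bd_transpose, bd_mul, bd_mul, Matrix.mul_zero, Matrix.zero_mul]
    congr 1
    simp
  rw [e] at h
  exact h

/-- (TYPE) an irreducible (W)-module of dimension `≠ 1` has a type. -/
theorem exists_type {m : ℕ} [FiniteDimensional ℂ V] (h2 : (2 : F) ≠ 0) (ψ : AddChar F ℂ)
    (hψ : ψ.IsPrimitive) (ν : F) (hν : ¬ IsSquare ν)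
    (ρ : Representation ℂ (SpG F (m + 2)) V) (hirr : ρ.IsIrreducible) (hW : IsW ψ ρ)
    (hd : Module.finrank ℂ V ≠ 1) :
    ∃ κ : F, (κ = 1 ∨ κ = ν) ∧ ∃ ε : ℂ, (ε = 1 ∨ ε = -1) ∧ ∃ v : V, v ≠ 0 ∧
      v ∈ wt ψ ρ (single 0 0 κ) ∧ ρ t0 v = ε • v := by
  obtain ⟨B, hB0, hBw⟩ := exists_nonzero_weight h2 ψ hψ ρ hirr hd
  obtain ⟨a, x, hax⟩ := hW B.1 B.2 hBw
  obtain ⟨w, hw, hw0⟩ := (Submodule.ne_bot_iff _).1 hBw
  have hB0' : a • vecMulVec x x ≠ 0 := by rw [← hax]; exact hB0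
  obtain ⟨g, κ, hκ, hg⟩ := Cfsg.Agent.Lib.Helper24.WGORB.orbit_rep h2 ν hν a x hB0'
  -- move to the weight `κ E_00`
  have h1 := Cfsg.Agent.Lib.Helper23.WGLVW.LvG_mem_wt ψ ρ g⁻¹ B.1 w hw
  have e1 : (((g⁻¹)⁻¹ : GL (Fin (m + 2)) F) : Matrix (Fin (m + 2)) (Fin (m + 2)) F)ᵀ * B.1 *
      (((g⁻¹)⁻¹ : GL (Fin (m + 2)) F) : Matrix (Fin (m + 2)) (Fin (m + 2)) F) = single 0 0 κ := by
    rw [inv_inv, hax, ← hg]
    have hgg : ((g⁻¹ : GL (Fin (m + 2)) F) : Matrix (Fin (m + 2)) (Fin (m + 2)) F) *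
        (g : Matrix (Fin (m + 2)) (Fin (m + 2)) F) = 1 := by
      rw [← Units.val_mul, inv_mul_cancel, Units.val_one]
    have hgg' : (g : Matrix (Fin (m + 2)) (Fin (m + 2)) F)ᵀ *
        ((g⁻¹ : GL (Fin (m + 2)) F) : Matrix (Fin (m + 2)) (Fin (m + 2)) F)ᵀ = 1 := by
      rw [← transpose_mul, hgg, transpose_one]
    calc (g : Matrix (Fin (m + 2)) (Fin (m + 2)) F)ᵀ *
          (((g⁻¹ : GL (Fin (m + 2)) F) : Matrix (Fin (m + 2)) (Fin (m + 2)) F)ᵀ * single 0 0 κ *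
            ((g⁻¹ : GL (Fin (m + 2)) F) : Matrix (Fin (m + 2)) (Fin (m + 2)) F)) *
          (g : Matrix (Fin (m + 2)) (Fin (m + 2)) F)
        = ((g : Matrix (Fin (m + 2)) (Fin (m + 2)) F)ᵀ *
            ((g⁻¹ : GL (Fin (m + 2)) F) : Matrix (Fin (m + 2)) (Fin (m + 2)) F)ᵀ) * single 0 0 κ *
          (((g⁻¹ : GL (Fin (m + 2)) F) : Matrix (Fin (m + 2)) (Fin (m + 2)) F) *
            (g : Matrix (Fin (m + 2)) (Fin (m + 2)) F)) := by
          simp only [Matrix.mul_assoc]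
      _ = single 0 0 κ := by rw [hgg, hgg', Matrix.one_mul, Matrix.mul_one]
  rw [e1] at h1
  set w' := ρ (LvG g⁻¹) w with hw'
  have hw'0 : w' ≠ 0 := by
    intro h
    apply hw0
    have := rho_inv_self ρ (LvG g⁻¹) w
    rw [← hw', h, map_zero] at this
    exact this.symm
  refine ⟨κ, hκ, ?_⟩
  have htt : ∀ u : V, ρ t0 (ρ t0 u) = u := by
    intro u
    rw [← rho_mul, t0_mul_self, map_one]; rfl
  by_cases hp : w' + ρ t0 w' = 0
  · refine ⟨-1, Or.inr rfl, w', hw'0, h1, ?_⟩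
    rw [neg_smul, one_smul]
    exact (neg_eq_of_add_eq_zero_right hp).symm
  · refine ⟨1, Or.inl rfl, w' + ρ t0 w', hp, ?_, ?_⟩
    · exact Submodule.add_mem _ h1 (t0_mem_wt ψ ρ κ w' h1)
    · rw [map_add, htt, one_smul, add_comm]

end main

end Cfsg.Agent.Lib.Helper4.WGTYPE
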