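/-
helper4: S2524 leaf F5, part A - the reflection `s = sw j.succ` normalises `Q_1 = Z A U'`:
five conjugation identities in `Sp_{2k+2}`.
-/
import Mathlib
import Cfsg.Agent.Lib.Helper10.WGDefs

set_option autoImplicit false

namespace Cfsg.Agent.Lib.Helper4.WGF5A

open Matrix Cfsg.Agent.Lib.Helper11.LS Cfsg.Agent.Lib.Helper10.WG

variable {F : Type*} [Field F] {n k : ℕ}

theorem tvG_val (i j : Fin n) (hij : i ≠ j) (c : F) :
    ((tvG i j hij c : GL (Fin n) F) : Matrix (Fin n) (Fin n) F) = 1 + single i j c := rfl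

theorem tvG_inv (i j : Fin n) (hij : i ≠ j) (c : F) :
    (tvG i j hij c : GL (Fin n) F)⁻¹ = tvG i j hij (-c) := by
  apply inv_eq_of_mul_eq_one_right
  apply Units.ext
  show transvection i j c * transvection i j (-c) = 1
  rw [transvection_mul_transvection_same i j hij, add_neg_cancel, transvection_zero]

theorem tvG_inv_val (i j : Fin n) (hij : i ≠ j) (c : F) :
    (((tvG i j hij c)⁻¹ : GL (Fin n) F) : Matrix (Fin n) (Fin n) F) = 1 - single i j c := by
  rw [tvG_inv, tvG_val, ← single_neg, sub_eq_add_neg]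

theorem uP_val (j : Fin k) (t : F) :
    ((uP j t : SpG F (k + 1)) : Matrix (Fin (k + 1) ⊕ Fin (k + 1)) (Fin (k + 1) ⊕ Fin (k + 1)) F) =
      fromBlocks (1 + single 0 j.succ t) 0 0 (1 - single j.succ 0 t) := by
  unfold uP
  rw [LvG_val, tvG_inv_val, tvG_val, transpose_sub, transpose_one, transpose_single]

theorem xZ_val (t : F) :
    ((xZ t : SpG F (k + 1)) : Matrix (Fin (k + 1) ⊕ Fin (k + 1)) (Fin (k + 1) ⊕ Fin (k + 1)) F) =
      fromBlocks 1 (single 0 0 t) 0 1 := rfl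

theorem xA_val (j : Fin k) (t : F) :
    ((xA j t : SpG F (k + 1)) : Matrix (Fin (k + 1) ⊕ Fin (k + 1)) (Fin (k + 1) ⊕ Fin (k + 1)) F) =
      fromBlocks 1 (single 0 j.succ t + single j.succ 0 t) 0 1 := rfl

theorem sw_val (j : Fin n) :
    ((sw j : SpG F n) : Matrix (Fin n ⊕ Fin n) (Fin n ⊕ Fin n) F) =
      fromBlocks (1 - single j j 1) (- single j j 1) (single j j 1) (1 - single j j 1) := rfl

theorem sw_mul_xZ (j : Fin k) (t : F) :
    (sw j.succ : SpG F (k + 1)) * xZ t = xZ t * sw j.succ := by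
  apply Subtype.ext
  show (sw j.succ : SpG F (k + 1)).1 * (xZ t : SpG F (k + 1)).1 =
    (xZ t : SpG F (k + 1)).1 * (sw j.succ : SpG F (k + 1)).1
  rw [sw_val, xZ_val, fromBlocks_multiply, fromBlocks_multiply]
  have h0 : (0 : Fin (k + 1)) ≠ j.succ := (Fin.succ_ne_zero j).symm
  have h0' : j.succ ≠ (0 : Fin (k + 1)) := Fin.succ_ne_zero j
  congr 1 <;>
    simp [Matrix.sub_mul, Matrix.mul_sub, Matrix.mul_add, Matrix.add_mul, h0, h0', add_comm]

theorem sw_mul_xA_same (j : Fin k) (t : F) :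
    (sw j.succ : SpG F (k + 1)) * xA j t = uP j (-t) * sw j.succ := by
  apply Subtype.ext
  show (sw j.succ : SpG F (k + 1)).1 * (xA j t : SpG F (k + 1)).1 =
    (uP j (-t) : SpG F (k + 1)).1 * (sw j.succ : SpG F (k + 1)).1
  rw [sw_val, xA_val, uP_val, fromBlocks_multiply, fromBlocks_multiply]
  have h0 : (0 : Fin (k + 1)) ≠ j.succ := (Fin.succ_ne_zero j).symm
  have h0' : j.succ ≠ (0 : Fin (k + 1)) := Fin.succ_ne_zero j
  congr 1 <;>
    simp [Matrix.sub_mul, Matrix.mul_sub, Matrix.mul_add, Matrix.add_mul, h0, h0', ← single_neg] <;>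
    abel

theorem sw_mul_uP_same (j : Fin k) (t : F) :
    (sw j.succ : SpG F (k + 1)) * uP j t = xA j t * sw j.succ := by
  apply Subtype.ext
  show (sw j.succ : SpG F (k + 1)).1 * (uP j t : SpG F (k + 1)).1 =
    (xA j t : SpG F (k + 1)).1 * (sw j.succ : SpG F (k + 1)).1
  rw [sw_val, xA_val, uP_val, fromBlocks_multiply, fromBlocks_multiply]
  have h0 : (0 : Fin (k + 1)) ≠ j.succ := (Fin.succ_ne_zero j).symm
  have h0' : j.succ ≠ (0 : Fin (k + 1)) := Fin.succ_ne_zero j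
  congr 1 <;>
    simp [Matrix.sub_mul, Matrix.mul_sub, Matrix.mul_add, Matrix.add_mul, h0, h0', ← single_neg] <;>
    abel

theorem sw_mul_xA_ne (i j : Fin k) (hij : i ≠ j) (t : F) :
    (sw j.succ : SpG F (k + 1)) * xA i t = xA i t * sw j.succ := by
  apply Subtype.ext
  show (sw j.succ : SpG F (k + 1)).1 * (xA i t : SpG F (k + 1)).1 =
    (xA i t : SpG F (k + 1)).1 * (sw j.succ : SpG F (k + 1)).1
  rw [sw_val, xA_val, fromBlocks_multiply, fromBlocks_multiply]
  have h0 : (0 : Fin (k + 1)) ≠ j.succ := (Fin.succ_ne_zero j).symm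
  have h0' : j.succ ≠ (0 : Fin (k + 1)) := Fin.succ_ne_zero j
  have h1 : i.succ ≠ j.succ := fun h => hij (Fin.succ_injective _ h)
  have h1' : j.succ ≠ i.succ := fun h => h1 h.symm
  congr 1 <;>
    simp [Matrix.sub_mul, Matrix.mul_sub, Matrix.mul_add, Matrix.add_mul, h0, h0', h1, h1',
      ← single_neg] <;>
    abel

theorem sw_mul_uP_ne (i j : Fin k) (hij : i ≠ j) (t : F) :
    (sw j.succ : SpG F (k + 1)) * uP i t = uP i t * sw j.succ := by
  apply Subtype.ext
  show (sw j.succ : SpG F (k + 1)).1 * (uP i t : SpG F (k + 1)).1 =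
    (uP i t : SpG F (k + 1)).1 * (sw j.succ : SpG F (k + 1)).1
  rw [sw_val, uP_val, fromBlocks_multiply, fromBlocks_multiply]
  have h0 : (0 : Fin (k + 1)) ≠ j.succ := (Fin.succ_ne_zero j).symm
  have h0' : j.succ ≠ (0 : Fin (k + 1)) := Fin.succ_ne_zero j
  have h1 : i.succ ≠ j.succ := fun h => hij (Fin.succ_injective _ h)
  have h1' : j.succ ≠ i.succ := fun h => h1 h.symm
  congr 1 <;>
    simp [Matrix.sub_mul, Matrix.mul_sub, Matrix.mul_add, Matrix.add_mul, h0, h0', h1, h1',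
      ← single_neg] <;>
    abel

end Cfsg.Agent.Lib.Helper4.WGF5A
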