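/-
helper4: S2524 leaf F5, part B - assembly: a `Q_1`-homomorphism commutes with `C = iota (Sp_{2k})` on the
eigenspaces of `Z` for `l ≠ 0`, GIVEN the weight argument (`LemA`: every `Q_1`-homomorphism commutes with
`Q' = Xs (bd 0 S')` there).  Generation criterion `WGGEN.eq_top_of_Xs_fV` + the twist by `s = sw j.succ`.
-/
import Mathlib
import Cfsg.Agent.Lib.Helper10.WGDefs
import Cfsg.Agent.Lib.Helper4.WGGEN
import Cfsg.Agent.Lib.Helper4.WGGENI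
import Cfsg.Agent.Lib.Helper4.WGF5A
import Cfsg.Agent.Lib.Helper14.WGF6
import Cfsg.Agent.Lib.Helper23.WGINV

set_option autoImplicit false

namespace Cfsg.Agent.Lib.Helper4.WGF5B

open Matrix Cfsg.Agent.Lib.Helper11.LS Cfsg.Agent.Lib.Helper10.WG
open Cfsg.Agent.Lib.Helper5 Cfsg.Agent.Lib.Helper14.SpPerfect Cfsg.Agent.Lib.Helper6.SpGen
open Cfsg.Agent.Lib.Helper4.WGGEN Cfsg.Agent.Lib.Helper4.WGGENI Cfsg.Agent.Lib.Helper4.WGF5A

universe u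

variable {F : Type*} [Field F] [Fintype F] [DecidableEq F]
variable {k : ℕ} {V V' : Type u} [AddCommGroup V] [Module ℂ V] [AddCommGroup V'] [Module ℂ V']

/-- homomorphisms for the Heisenberg radical `Q_1 = Z A U'` -/
def QHom (ρ' : Representation ℂ (SpG F (k + 1)) V') (ρ : Representation ℂ (SpG F (k + 1)) V)
    (φ : V' →ₗ[ℂ] V) : Prop :=
  (∀ c : F, Comm ρ' ρ φ (xZ c)) ∧ (∀ (j : Fin k) (c : F), Comm ρ' ρ φ (xA j c)) ∧
    (∀ (j : Fin k) (c : F), Comm ρ' ρ φ (uP j c))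

/-- the weight argument, as a hypothesis -/
def LemA (ψ : AddChar F ℂ) (ρ' : Representation ℂ (SpG F (k + 1)) V')
    (ρ : Representation ℂ (SpG F (k + 1)) V) (l : F) : Prop :=
  ∀ φ : V' →ₗ[ℂ] V, QHom ρ' ρ φ → ∀ (S' : Matrix (Fin k) (Fin k) F) (hS' : S'ᵀ = S'),
    ∀ v ∈ zsp ψ ρ' l, φ (ρ' (Xs (bd 0 S') (by rw [bd_transpose, hS'])) v) =
      ρ (Xs (bd 0 S') (by rw [bd_transpose, hS'])) (φ v)

theorem rho_mul {G W : Type*} [Group G] [AddCommGroup W] [Module ℂ W] (ρ : Representation ℂ G W)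
    (a b : G) (v : W) : ρ (a * b) v = ρ a (ρ b v) := by
  rw [map_mul]; rfl

theorem rho_inv_self {G W : Type*} [Group G] [AddCommGroup W] [Module ℂ W]
    (ρ : Representation ℂ G W) (a : G) (v : W) : ρ a⁻¹ (ρ a v) = v := by
  rw [← rho_mul, inv_mul_cancel, map_one]; rfl

theorem rho_self_inv {G W : Type*} [Group G] [AddCommGroup W] [Module ℂ W]
    (ρ : Representation ℂ G W) (a : G) (v : W) : ρ a (ρ a⁻¹ v) = v := by
  rw [← rho_mul, mul_inv_cancel, map_one]; rfl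

/-- the twist `ρ c⁻¹ ∘ φ ∘ ρ' c` -/
def tw (ρ' : Representation ℂ (SpG F (k + 1)) V') (ρ : Representation ℂ (SpG F (k + 1)) V)
    (c : SpG F (k + 1)) (φ : V' →ₗ[ℂ] V) : V' →ₗ[ℂ] V :=
  (ρ c⁻¹) ∘ₗ φ ∘ₗ (ρ' c)

theorem tw_apply (ρ' : Representation ℂ (SpG F (k + 1)) V') (ρ : Representation ℂ (SpG F (k + 1)) V)
    (c : SpG F (k + 1)) (φ : V' →ₗ[ℂ] V) (v : V') : tw ρ' ρ c φ v = ρ c⁻¹ (φ (ρ' c v)) := rfl

theorem comm_tw (ρ' : Representation ℂ (SpG F (k + 1)) V') (ρ : Representation ℂ (SpG F (k + 1)) V)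
    (c x x' : SpG F (k + 1)) (φ : V' →ₗ[ℂ] V) (h : c * x = x' * c) (hx' : Comm ρ' ρ φ x') :
    Comm ρ' ρ (tw ρ' ρ c φ) x := by
  intro v
  have h' : c⁻¹ * x' = x * c⁻¹ := by
    rw [inv_mul_eq_iff_eq_mul, ← mul_assoc, h, mul_assoc, mul_inv_cancel, mul_one]
  rw [tw_apply, tw_apply, ← rho_mul ρ' c x, h, rho_mul ρ' x' c, hx', ← rho_mul ρ c⁻¹ x', h',
    rho_mul ρ x c⁻¹]

theorem qhom_tw (ρ' : Representation ℂ (SpG F (k + 1)) V') (ρ : Representation ℂ (SpG F (k + 1)) V)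
    (φ : V' →ₗ[ℂ] V) (hφ : QHom ρ' ρ φ) (j : Fin k) : QHom ρ' ρ (tw ρ' ρ (sw j.succ) φ) := by
  obtain ⟨hZ, hA, hU⟩ := hφ
  refine ⟨fun c => ?_, fun i c => ?_, fun i c => ?_⟩
  · exact comm_tw ρ' ρ _ _ _ φ (sw_mul_xZ j c) (hZ c)
  · by_cases hij : i = j
    · subst hij
      exact comm_tw ρ' ρ _ _ _ φ (sw_mul_xA_same i c) (hU i (-c))
    · exact comm_tw ρ' ρ _ _ _ φ (sw_mul_xA_ne i j hij c) (hA i c)
  · by_cases hij : i = j
    · subst hij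
      exact comm_tw ρ' ρ _ _ _ φ (sw_mul_uP_same i c) (hA i c)
    · exact comm_tw ρ' ρ _ _ _ φ (sw_mul_uP_ne i j hij c) (hU i c)

/-- the subgroup of `Sp_{2k}` of the elements whose image commutes with `φ` on `zsp l` -/
def Msub (ψ : AddChar F ℂ) (ι : SpG F k →* SpG F (k + 1)) (hι : IsIota ι)
    (ρ' : Representation ℂ (SpG F (k + 1)) V') (ρ : Representation ℂ (SpG F (k + 1)) V)
    (φ : V' →ₗ[ℂ] V) (l : F) : Subgroup (SpG F k) where
  carrier := {g | ∀ v ∈ zsp ψ ρ' l, φ (ρ' (ι g) v) = ρ (ι g) (φ v)}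
  mul_mem' := by
    intro a b ha hb v hv
    rw [map_mul, rho_mul, rho_mul, ha _ (Cfsg.Agent.Lib.Helper23.WGINV.iota_mem_zsp ψ ι hι ρ' b l v hv),
      hb v hv]
  one_mem' := by
    intro v _
    rw [map_one, map_one, map_one]; rfl
  inv_mem' := by
    intro a ha v hv
    have hw := Cfsg.Agent.Lib.Helper23.WGINV.iota_mem_zsp ψ ι hι ρ' a⁻¹ l v hv
    have h1 := ha _ hw
    rw [map_inv, rho_self_inv] at h1
    rw [map_inv, h1, rho_inv_self]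

theorem mem_Msub (ψ : AddChar F ℂ) (ι : SpG F k →* SpG F (k + 1)) (hι : IsIota ι)
    (ρ' : Representation ℂ (SpG F (k + 1)) V') (ρ : Representation ℂ (SpG F (k + 1)) V)
    (φ : V' →ₗ[ℂ] V) (l : F) (g : SpG F k) :
    g ∈ Msub ψ ι hι ρ' ρ φ l ↔ ∀ v ∈ zsp ψ ρ' l, φ (ρ' (ι g) v) = ρ (ι g) (φ v) := Iff.rfl

theorem Tr_fV_eq (i : Fin k) (s : F) :
    (Tr (fV i) s : SpG F k) =
      sw i * Xs (s • vecMulVec (Pi.single i 1) (Pi.single i 1))
        (symm_smul_vecMulVec _ s) * (sw i)⁻¹ := by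
  rw [← ap_sw_eV, ← conj_Tr', eV_eq_lft, Tr_lft _ s (symm_smul_vecMulVec _ s)]

/-- (F5), given the weight argument -/
theorem comm_iota_on_zsp_of (ψ : AddChar F ℂ)
    (ι : SpG F k →* SpG F (k + 1)) (hι : IsIota ι)
    (ρ' : Representation ℂ (SpG F (k + 1)) V') (ρ : Representation ℂ (SpG F (k + 1)) V)
    (l : F) (hLA : LemA ψ ρ' ρ l) (φ : V' →ₗ[ℂ] V) (hφ : QHom ρ' ρ φ)
    (v : V') (hv : v ∈ zsp ψ ρ' l) (g : SpG F k) :
    φ (ρ' (ι g) v) = ρ (ι g) (φ v) := by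
  have htop : Msub ψ ι hι ρ' ρ φ l = ⊤ := by
    apply eq_top_of_Xs_fV
    · intro S hS v hv
      rw [Cfsg.Agent.Lib.Helper14.WGF6.iota_Xs ι hι S hS]
      exact hLA φ hφ S hS v hv
    · intro i s
      rw [Tr_fV_eq, mem_Msub]
      intro v hv
      have hι3 : ι (sw i * Xs (s • vecMulVec (Pi.single i 1) (Pi.single i 1))
          (symm_smul_vecMulVec _ s) * (sw i)⁻¹) =
          sw i.succ * Xs (bd 0 (s • vecMulVec (Pi.single i 1) (Pi.single i 1)))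
            (by rw [bd_transpose, symm_smul_vecMulVec]) * (sw i.succ)⁻¹ := by
        rw [map_mul, map_mul, map_inv, iota_sw ι hι i,
          Cfsg.Agent.Lib.Helper14.WGF6.iota_Xs ι hι _ (symm_smul_vecMulVec _ s)]
      rw [hι3]
      set c : SpG F (k + 1) := sw i.succ with hc
      have hw : ρ' c⁻¹ v ∈ zsp ψ ρ' l := by
        have := Cfsg.Agent.Lib.Helper23.WGINV.iota_mem_zsp ψ ι hι ρ' (sw i)⁻¹ l v hv
        rwa [map_inv, iota_sw ι hι i] at this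
      have h1 := hLA _ (qhom_tw ρ' ρ φ hφ i) (s • vecMulVec (Pi.single i 1) (Pi.single i 1))
        (symm_smul_vecMulVec _ s) _ hw
      rw [tw_apply, tw_apply, rho_self_inv] at h1
      rw [rho_mul, rho_mul, rho_mul, rho_mul, ← h1, rho_self_inv]
  have hg : g ∈ Msub ψ ι hι ρ' ρ φ l := by rw [htop]; trivial
  exact hg v hv

end Cfsg.Agent.Lib.Helper4.WGF5B
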