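/-
helper4: S2524 leaf F5, part C - the weight argument: a `Q_1`-homomorphism between (W)-modules commutes with
`Q' = Xs (bd 0 S')` on the eigenspaces of `Z` for `l ≠ 0` (a form `a x xᵀ` with `B_00 ≠ 0` is determined by
its first row, so the `ZA`-weight spaces inside `zsp l` are the `Q`-weight spaces).
-/
import Mathlib
import Cfsg.Agent.Lib.Helper10.WGDefs
import Cfsg.Agent.Lib.Helper4.WGF5B
import Cfsg.Agent.Lib.Helper14.WGF6
import Cfsg.Agent.Lib.Helper17.WGWD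

set_option autoImplicit false

namespace Cfsg.Agent.Lib.Helper4.WGF5C

open Matrix Cfsg.Agent.Lib.Helper11.LS Cfsg.Agent.Lib.Helper10.WG
open Cfsg.Agent.Lib.Helper4.WGF5B Cfsg.Agent.Lib.Helper14.WGF6 Cfsg.Agent.Lib.Helper17.WGWD

universe u

variable {F : Type*} [Field F] [Fintype F] [DecidableEq F]
variable {k : ℕ} {V V' : Type u} [AddCommGroup V] [Module ℂ V] [AddCommGroup V'] [Module ℂ V']

/-- a primitive character separates the linear forms `c ↦ a c` -/
theorem eq_of_psi_mul (ψ : AddChar F ℂ) (hψ : ψ.IsPrimitive) (a b : F)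
    (h : ∀ c : F, ψ (a * c) = ψ (b * c)) : a = b := by
  by_contra hab
  have hne : a - b ≠ 0 := sub_ne_zero.2 hab
  obtain ⟨c, hc⟩ := exists_ne_one_of_primitive ψ hψ _ hne
  apply hc
  rw [sub_mul, sub_eq_add_neg, AddChar.map_add_eq_mul, h c, ← AddChar.map_add_eq_mul, add_neg_cancel,
    AddChar.map_zero_eq_one]

/-- two eigenvalues on a non-zero vector agree -/
theorem scalar_eq_of_smul_eq {W : Type*} [AddCommGroup W] [Module ℂ W] {a b : ℂ} {w : W}
    (hw : w ≠ 0) (h : a • w = b • w) : a = b := by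
  have e3 : (a - b) • w = 0 := by rw [sub_smul, h, sub_self]
  rcases smul_eq_zero.1 e3 with h | h
  · exact sub_eq_zero.1 h
  · exact absurd h hw

/-- a symmetric form of rank one with `B_00 ≠ 0` is determined by its first row -/
theorem rank_one_entry (a : F) (x : Fin (k + 1) → F) (i j : Fin (k + 1)) :
    (a • vecMulVec x x) i j * (a • vecMulVec x x) 0 0 =
      (a • vecMulVec x x) 0 i * (a • vecMulVec x x) 0 j := by
  simp only [Matrix.smul_apply, vecMulVec_apply, smul_eq_mul]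
  ring

theorem rank_one_eq (B B'' : Matrix (Fin (k + 1)) (Fin (k + 1)) F)
    (hB : ∃ (a : F) (x : Fin (k + 1) → F), B = a • vecMulVec x x)
    (hB'' : ∃ (a : F) (x : Fin (k + 1) → F), B'' = a • vecMulVec x x)
    (h00 : B 0 0 ≠ 0) (hrow : ∀ j, B'' 0 j = B 0 j) : B'' = B := by
  obtain ⟨a, x, rfl⟩ := hB
  obtain ⟨a'', x'', rfl⟩ := hB''
  ext i j
  have h1 := rank_one_entry a x i j
  have h2 := rank_one_entry a'' x'' i j
  rw [hrow 0, hrow i, hrow j, ← h1] at h2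
  exact mul_right_cancel₀ h00 h2

theorem xZ_wt (ψ : AddChar F ℂ) (ρ : Representation ℂ (SpG F (k + 1)) V)
    (B : Matrix (Fin (k + 1)) (Fin (k + 1)) F) (w : V) (hw : w ∈ wt ψ ρ B) (c : F) :
    ρ (xZ c) w = ψ (B 0 0 * c) • w := by
  have := hw (single 0 0 c) (by simp)
  rw [trace_mul_single_zero] at this
  exact this

theorem xA_wt (ψ : AddChar F ℂ) (ρ : Representation ℂ (SpG F (k + 1)) V)
    (B : Matrix (Fin (k + 1)) (Fin (k + 1)) F) (hB : Bᵀ = B) (w : V) (hw : w ∈ wt ψ ρ B)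
    (j : Fin k) (t : F) :
    ρ (xA j t) w = ψ (2 * B 0 j.succ * t) • w := by
  have := hw (single 0 j.succ t + single j.succ 0 t)
    (by rw [transpose_add, transpose_single, transpose_single]; exact add_comm _ _)
  rw [trace_mul_sym B hB] at this
  exact this

theorem comm_xZ (ρ : Representation ℂ (SpG F (k + 1)) V) (c : F)
    (S : Matrix (Fin (k + 1)) (Fin (k + 1)) F) (hS : Sᵀ = S) :
    Comm ρ ρ (ρ (xZ c)) (Xs S hS) := comm_Xs ρ _ _ S hS

theorem comm_xA (ρ : Representation ℂ (SpG F (k + 1)) V) (j : Fin k) (t : F)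
    (S : Matrix (Fin (k + 1)) (Fin (k + 1)) F) (hS : Sᵀ = S) :
    Comm ρ ρ (ρ (xA j t)) (Xs S hS) := comm_Xs ρ _ _ S hS

/-- a `ZA`-eigenvector whose character comes from a rank one form `B` with `B_00 ≠ 0` is a `Q`-weight
vector of weight `B` -/
theorem mem_wt_of_ZA (h2 : (2 : F) ≠ 0) (ψ : AddChar F ℂ) (hψ : ψ.IsPrimitive)
    (ρ : Representation ℂ (SpG F (k + 1)) V) (hW : IsW ψ ρ)
    (B : Matrix (Fin (k + 1)) (Fin (k + 1)) F) (hBs : Bᵀ = B)
    (hB : ∃ (a : F) (x : Fin (k + 1) → F), B = a • vecMulVec x x) (h00 : B 0 0 ≠ 0) (u : V)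
    (hZ : ∀ c : F, ρ (xZ c) u = ψ (B 0 0 * c) • u)
    (hA : ∀ (j : Fin k) (t : F), ρ (xA j t) u = ψ (2 * B 0 j.succ * t) • u) : u ∈ wt ψ ρ B := by
  have key : ∀ B'' : SymM F (k + 1), B'' ≠ ⟨B, hBs⟩ → wtProj ψ ρ B''.1 u = 0 := by
    intro B'' hne
    by_contra hw0
    apply hne
    apply Subtype.ext
    show B''.1 = B
    set w := wtProj ψ ρ B''.1 u with hw
    have hmem : w ∈ wt ψ ρ B''.1 := wtProj_mem ψ ρ B''.1 u
    have hbot : wt ψ ρ B''.1 ≠ ⊥ :=
      fun h => hw0 (by rw [h] at hmem; exact (Submodule.mem_bot ℂ).1 hmem)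
    have hr := hW B''.1 B''.2 hbot
    apply rank_one_eq B B''.1 hB hr h00
    have h0 : B''.1 0 0 = B 0 0 := by
      apply eq_of_psi_mul ψ hψ
      intro c
      have e1 : ρ (xZ c) w = ψ (B 0 0 * c) • w := by
        have := wtProj_comm ψ ρ ρ (ρ (xZ c)) (comm_xZ ρ c) B''.1 u
        rw [hZ c, map_smul] at this
        exact this
      rw [xZ_wt ψ ρ B''.1 w hmem c] at e1
      exact scalar_eq_of_smul_eq hw0 e1
    intro j
    refine Fin.cases h0 (fun j' => ?_) j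
    have h3 : 2 * B''.1 0 j'.succ = 2 * B 0 j'.succ := by
      apply eq_of_psi_mul ψ hψ
      intro t
      have e1 : ρ (xA j' t) w = ψ (2 * B 0 j'.succ * t) • w := by
        have := wtProj_comm ψ ρ ρ (ρ (xA j' t)) (comm_xA ρ j' t) B''.1 u
        rw [hA j' t, map_smul] at this
        exact this
      rw [xA_wt ψ ρ B''.1 B''.2 w hmem j' t] at e1
      exact scalar_eq_of_smul_eq hw0 e1
    exact mul_left_cancel₀ h2 h3
  have hsum := sum_wtProj h2 ψ hψ ρ u
  rw [Finset.sum_eq_single (⟨B, hBs⟩ : SymM F (k + 1)) (fun B'' _ hB'' => key B'' hB'')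
    (fun h => absurd (Finset.mem_univ _) h)] at hsum
  rw [← hsum]
  exact wtProj_mem ψ ρ B u

/-- the weight argument -/
theorem lemA (h2 : (2 : F) ≠ 0) (ψ : AddChar F ℂ) (hψ : ψ.IsPrimitive)
    (ρ' : Representation ℂ (SpG F (k + 1)) V') (ρ : Representation ℂ (SpG F (k + 1)) V)
    (hW' : IsW ψ ρ') (hW : IsW ψ ρ) (l : F) (hl : l ≠ 0) : LemA ψ ρ' ρ l := by
  intro φ hφ S' hS' v hv
  obtain ⟨hZ, hA, hU⟩ := hφ
  have hX : (bd (0 : F) S')ᵀ = bd 0 S' := by rw [bd_transpose, hS']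
  -- it suffices to treat the weight components of `v`
  have hcomp : ∀ B : SymM F (k + 1),
      φ (ρ' (Xs (bd 0 S') hX) (wtProj ψ ρ' B.1 v)) = ρ (Xs (bd 0 S') hX) (φ (wtProj ψ ρ' B.1 v)) := by
    intro B
    set vB := wtProj ψ ρ' B.1 v with hvB
    have hmem : vB ∈ wt ψ ρ' B.1 := wtProj_mem ψ ρ' B.1 v
    by_cases hv0 : vB = 0
    · rw [hv0, map_zero, map_zero, map_zero]
    have hbot : wt ψ ρ' B.1 ≠ ⊥ :=
      fun h => hv0 (by rw [h] at hmem; exact (Submodule.mem_bot ℂ).1 hmem)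
    have hr := hW' B.1 B.2 hbot
    have h00 : B.1 0 0 = l := by
      apply eq_of_psi_mul ψ hψ
      intro c
      have e1 : ρ' (xZ c) vB = ψ (l * c) • vB := by
        have := wtProj_comm ψ ρ' ρ' (ρ' (xZ c)) (comm_xZ ρ' c) B.1 v
        rw [hv c, map_smul] at this
        exact this
      rw [xZ_wt ψ ρ' B.1 vB hmem c] at e1
      exact scalar_eq_of_smul_eq hv0 e1
    have hne : B.1 0 0 ≠ 0 := by rw [h00]; exact hl
    have hu : φ vB ∈ wt ψ ρ B.1 := by
      apply mem_wt_of_ZA h2 ψ hψ ρ hW B.1 B.2 hr hne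
      · intro c
        rw [← hZ c vB, xZ_wt ψ ρ' B.1 vB hmem c, map_smul]
      · intro j t
        rw [← hA j t vB, xA_wt ψ ρ' B.1 B.2 vB hmem j t, map_smul]
    rw [hmem (bd 0 S') hX, map_smul, hu (bd 0 S') hX]
  have hsum := sum_wtProj h2 ψ hψ ρ' v
  conv_lhs => rw [← hsum]
  conv_rhs => rw [← hsum]
  rw [map_sum, map_sum, map_sum, map_sum]
  exact Finset.sum_congr rfl (fun B _ => hcomp B)

end Cfsg.Agent.Lib.Helper4.WGF5C
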