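/-
helper4: S2524 leaf F5 - a `Q_1`-homomorphism commutes with `C = iota (Sp_{2k})` on the eigenspaces of `Z`
for `l ≠ 0` (exact statement).  Parts: WGF5A (`sw j.succ` normalises `Q_1`), WGF5B (assembly by the
generation criterion), WGF5C (the weight argument).
-/
import Mathlib
import Cfsg.Agent.Lib.Helper10.WGDefs
import Cfsg.Agent.Lib.Helper4.WGF5B
import Cfsg.Agent.Lib.Helper4.WGF5C

set_option autoImplicit false

namespace Cfsg.Agent.Lib.Helper4.WGF5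

open Matrix Cfsg.Agent.Lib.Helper11.LS Cfsg.Agent.Lib.Helper10.WG

universe u

variable {F : Type*} [Field F] [Fintype F] [DecidableEq F]
variable {k : ℕ} {V V' : Type u} [AddCommGroup V] [Module ℂ V] [AddCommGroup V'] [Module ℂ V']

/-- (F5) a `Q_1`-homomorphism commutes with `C` on the eigenspaces of `Z` for `l ≠ 0`. -/
theorem comm_iota_on_zsp (h2 : (2 : F) ≠ 0) (ψ : AddChar F ℂ) (hψ : ψ.IsPrimitive)
    (ι : SpG F k →* SpG F (k + 1)) (hι : IsIota ι)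
    (ρ' : Representation ℂ (SpG F (k + 1)) V') (ρ : Representation ℂ (SpG F (k + 1)) V)
    (hW' : IsW ψ ρ') (hW : IsW ψ ρ) (φ : V' →ₗ[ℂ] V)
    (hZ : ∀ c : F, Comm ρ' ρ φ (xZ c)) (hA : ∀ (j : Fin k) (c : F), Comm ρ' ρ φ (xA j c))
    (hU : ∀ (j : Fin k) (c : F), Comm ρ' ρ φ (uP j c))
    (l : F) (hl : l ≠ 0) (v : V') (hv : v ∈ zsp ψ ρ' l) (g : SpG F k) :
    φ (ρ' (ι g) v) = ρ (ι g) (φ v) :=
  Cfsg.Agent.Lib.Helper4.WGF5B.comm_iota_on_zsp_of ψ ι hι ρ' ρ l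
    (Cfsg.Agent.Lib.Helper4.WGF5C.lemA h2 ψ hψ ρ' ρ hW' hW l hl) φ ⟨hZ, hA, hU⟩ v hv g

end Cfsg.Agent.Lib.Helper4.WGF5
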