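/-
helper4: S2524 leaf GENI - `Sp_{2k+2} = <Q, L, iota(Sp_{2k})>` for `k ≥ 1`.
-/
import Mathlib
import Cfsg.Agent.Lib.Helper10.WGDefs
import Cfsg.Agent.Lib.Helper4.WGGEN

set_option autoImplicit false

namespace Cfsg.Agent.Lib.Helper4.WGGENI

open Matrix Cfsg.Agent.Lib.Helper11.LS Cfsg.Agent.Lib.Helper10.WG
open Cfsg.Agent.Lib.Helper5 Cfsg.Agent.Lib.Helper14.SpPerfect Cfsg.Agent.Lib.Helper6.SpGen
open Cfsg.Agent.Lib.Helper4.WGGEN

variable {F : Type*} [Field F]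

theorem bd_one_sub_single {n : ℕ} (i : Fin n) :
    bd (1 : F) (1 - single i i 1 : Matrix (Fin n) (Fin n) F) = 1 - single i.succ i.succ 1 := by
  ext a b
  refine Fin.cases ?_ (fun a' => ?_) a <;> refine Fin.cases ?_ (fun b' => ?_) b <;>
    simp [Matrix.one_apply, Matrix.sub_apply, single_apply, Fin.succ_ne_zero,
      (Fin.succ_ne_zero _).symm]

theorem bd_zero_single {n : ℕ} (i : Fin n) (c : F) :
    bd (0 : F) (single i i c : Matrix (Fin n) (Fin n) F) = single i.succ i.succ c := by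
  ext a b
  refine Fin.cases ?_ (fun a' => ?_) a <;> refine Fin.cases ?_ (fun b' => ?_) b <;>
    simp [single_apply, Fin.succ_ne_zero]

theorem bd_zero_neg {n : ℕ} (A : Matrix (Fin n) (Fin n) F) :
    bd (0 : F) (-A) = - bd 0 A := by
  ext a b
  refine Fin.cases ?_ (fun a' => ?_) a <;> refine Fin.cases ?_ (fun b' => ?_) b <;> simp

theorem iota_sw {n : ℕ} (ι : SpG F n →* SpG F (n + 1)) (hι : IsIota ι) (i : Fin n) :
    ι (sw i) = sw i.succ := by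
  apply Subtype.ext
  rw [hι]
  show iotaMat (swMat i) = swMat i.succ
  unfold iotaMat swMat
  rw [toBlocks_fromBlocks₁₁, toBlocks_fromBlocks₁₂, toBlocks_fromBlocks₂₁, toBlocks_fromBlocks₂₂,
    bd_one_sub_single, bd_zero_neg, bd_zero_single]

theorem ap_LvG_rgt {n : ℕ} (h : GL (Fin n) F) (u : Fin n → F) :
    ap (LvG h : SpG F n) (rgt u) =
      rgt (((h⁻¹ : GL (Fin n) F) : Matrix (Fin n) (Fin n) F)ᵀ *ᵥ u) := by
  funext x
  show ((LvG h : SpG F n).1 *ᵥ rgt u) x = _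
  rw [LvG_val]
  rcases x with x | x
  · simp [Matrix.mulVec, dotProduct, fromBlocks]
  · simp [Matrix.mulVec, dotProduct, fromBlocks]

theorem permMatrix_transpose_mulVec_single {n : ℕ} (σ : Equiv.Perm (Fin n)) (i : Fin n) :
    (σ.permMatrix F)ᵀ *ᵥ (Pi.single i 1) = Pi.single (σ i) 1 := by
  funext x
  simp [Matrix.mulVec, dotProduct, Equiv.Perm.permMatrix, PEquiv.toMatrix_apply, Pi.single_apply,
    Equiv.toPEquiv_apply, eq_comm]

variable [Fintype F] [DecidableEq F]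

/-- (GENI) `Sp_{2k+2} = <Q, L, iota(Sp_{2k})>` for `k ≥ 1`. -/
theorem closure_iota (k : ℕ) (hk : 1 ≤ k) (ι : SpG F k →* SpG F (k + 1)) (hι : IsIota ι) :
    Subgroup.closure ({g : SpG F (k + 1) | ∃ (S : Matrix (Fin (k + 1)) (Fin (k + 1)) F) (hS : Sᵀ = S),
        g = Xs S hS} ∪ {g : SpG F (k + 1) | ∃ h : GL (Fin (k + 1)) F, g = LvG h} ∪
      Set.range ι) = ⊤ := by
  obtain ⟨k', rfl⟩ : ∃ k', k = k' + 1 := ⟨k - 1, by omega⟩
  set M := Subgroup.closure ({g : SpG F (k' + 1 + 1) |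
      ∃ (S : Matrix (Fin (k' + 1 + 1)) (Fin (k' + 1 + 1)) F) (hS : Sᵀ = S),
        g = Xs S hS} ∪ {g : SpG F (k' + 1 + 1) | ∃ h : GL (Fin (k' + 1 + 1)) F, g = LvG h} ∪
      Set.range ι) with hM
  have hX : ∀ (S : Matrix (Fin (k' + 1 + 1)) (Fin (k' + 1 + 1)) F) (hS : Sᵀ = S), Xs S hS ∈ M :=
    fun S hS => Subgroup.subset_closure (Or.inl (Or.inl ⟨S, hS, rfl⟩))
  have hL : ∀ h : GL (Fin (k' + 1 + 1)) F, (LvG h : SpG F (k' + 1 + 1)) ∈ M :=
    fun h => Subgroup.subset_closure (Or.inl (Or.inr ⟨h, rfl⟩))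
  have hI : ∀ g, ι g ∈ M := fun g => Subgroup.subset_closure (Or.inr ⟨g, rfl⟩)
  have hsucc : ∀ i : Fin (k' + 1), (fV i.succ : Fin (k' + 1 + 1) ⊕ Fin (k' + 1 + 1) → F) ∈ Rt M := by
    intro i
    rw [← ap_sw_eV, ← iota_sw ι hι]
    refine Rt_ap (hI _) ?_
    rw [eV_eq_lft]
    exact lft_mem_Rt M hX _
  apply eq_top_of_Xs_fV M hX
  intro i
  refine Fin.cases ?_ (fun i' => hsucc i') i
  -- `f_0` is the image of `f_1` under a permutation matrix of the Levi factor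
  have h1 := Rt_ap (hL ((pmG (Equiv.swap (0 : Fin (k' + 1 + 1)) (Fin.succ 0)))⁻¹)) (hsucc 0)
  rw [fV_eq_rgt, ap_LvG_rgt, inv_inv] at h1
  have h2 : ((pmG (Equiv.swap (0 : Fin (k' + 1 + 1)) (Fin.succ 0)) : GL (Fin (k' + 1 + 1)) F) :
      Matrix (Fin (k' + 1 + 1)) (Fin (k' + 1 + 1)) F) =
      (Equiv.swap (0 : Fin (k' + 1 + 1)) (Fin.succ 0)).permMatrix F := rfl
  rw [h2, permMatrix_transpose_mulVec_single, Equiv.swap_apply_right, ← fV_eq_rgt] at h1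
  exact h1

end Cfsg.Agent.Lib.Helper4.WGGENI
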