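import Mathlib
import Cfsg.Agent.Lib.Helper13.DCDefs
import Cfsg.Agent.Lib.Helper8.Layer
import Cfsg.Agent.Lib.Helper4.Basic

/-!
# S4719 leaf G9: at most `a` components, hence `|E(G)| ≤ B^a`.
-/

set_option autoImplicit false

universe u

namespace Cfsg.Agent.Lib.Helper4.DCG9

open Cfsg Cfsg.Agent.Lib.Helper13.DC

/-- the inductive count along a finite set of components -/
theorem card_biSup_components {G : Type u} [Group G] [Finite G] (B : ℕ)
    (heven : ∀ L : Subgroup G, Cfsg.IsComponent L → 2 ∣ (Subgroup.center L).index)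
    (hB : ∀ L : Subgroup G, Cfsg.IsComponent L → Nat.card L ≤ B) (S : Finset (Subgroup G)) :
    (∀ L ∈ S, Cfsg.IsComponent L) →
      2 ^ S.card ∣ Nat.card (⨆ L ∈ S, L : Subgroup G) ∧
        Nat.card (⨆ L ∈ S, L : Subgroup G) ≤ B ^ S.card := by
  classical
  induction S using Finset.induction_on with
  | empty =>
    intro _
    simp
  | insert L S hL ih =>
    intro hS
    have hLc : Cfsg.IsComponent L := hS L (Finset.mem_insert_self L S)
    have hS' : ∀ L' ∈ S, Cfsg.IsComponent L' := fun L' h => hS L' (Finset.mem_insert_of_mem h)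
    obtain ⟨ih1, ih2⟩ := ih hS'
    rw [Finset.iSup_insert, Finset.card_insert_of_notMem hL]
    set D : Subgroup G := ⨆ L' ∈ S, L' with hD
    -- D centralizes L
    have hDc : D ≤ Subgroup.centralizer (L : Set G) := by
      rw [hD]
      apply iSup₂_le
      intro L' hL'
      have hne : L' ≠ L := by
        intro h; rw [h] at hL'; exact hL hL'
      have := Cfsg.Agent.Lib.Helper8.components_commute (hS' L' hL') hLc hne
      exact Subgroup.commutator_eq_bot_iff_le_centralizer.mp this
    have hLcD : L ≤ Subgroup.centralizer (D : Set G) := Subgroup.le_centralizer_iff.mp hDc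
    have hLn : L ≤ Subgroup.normalizer (D : Set G) :=
      le_trans hLcD (Subgroup.centralizer_le_normalizer _)
    have h1 : Nat.card D * D.relIndex (L ⊔ D) = Nat.card (L ⊔ D : Subgroup G) :=
      Cfsg.Agent.Lib.Helper4.card_mul_relIndex le_sup_right
    rw [Cfsg.Agent.Lib.Helper4.relIndex_sup_of_le_normalizer L D hLn] at h1
    -- the index `|L : L ∩ D|` is even and at most `B`
    set Z : Subgroup G := (Subgroup.center ↥L).map L.subtype with hZ
    have hinfZ : L ⊓ D ≤ Z := by
      intro x hx
      rw [Subgroup.mem_inf] at hx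
      rw [hZ, Cfsg.Agent.Lib.Helper8.mem_center_map]
      refine ⟨hx.1, ?_⟩
      have := hDc hx.2
      rw [Subgroup.mem_centralizer_iff] at this
      exact this
    have hdvd1 : Z.relIndex L ∣ D.relIndex L := by
      have := Subgroup.relIndex_dvd_of_le_left L hinfZ
      rwa [Subgroup.inf_relIndex_left] at this
    have hZidx : Z.relIndex L = (Subgroup.center ↥L).index := by
      unfold Subgroup.relIndex
      congr 1
      rw [hZ, Subgroup.subgroupOf]
      exact Subgroup.comap_map_eq_self_of_injective L.subtype_injective _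
    have heven' : 2 ∣ D.relIndex L := by
      rw [hZidx] at hdvd1
      exact dvd_trans (heven L hLc) hdvd1
    have hle : D.relIndex L ≤ B :=
      le_trans (Nat.le_of_dvd Nat.card_pos (Subgroup.relIndex_dvd_card D L)) (hB L hLc)
    rw [← h1]
    refine ⟨?_, ?_⟩
    · rw [pow_succ]
      exact Nat.mul_dvd_mul ih1 heven'
    · rw [pow_succ]
      exact Nat.mul_le_mul ih2 hle

/-- LEAF G9. -/
theorem card_layer_le {G : Type u} [Group G] [Finite G] (a B : ℕ) (hB1 : 1 ≤ B)
    (ha : (Nat.card G).factorization 2 ≤ a)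
    (heven : ∀ L : Subgroup G, Cfsg.IsComponent L → 2 ∣ (Subgroup.center L).index)
    (hB : ∀ L : Subgroup G, Cfsg.IsComponent L → Nat.card L ≤ B) :
    Nat.card (Cfsg.layer G) ≤ B ^ a := by
  classical
  have hfin : {K : Subgroup G | Cfsg.IsComponent K}.Finite := Set.toFinite _
  set S : Finset (Subgroup G) := hfin.toFinset with hS
  have hmem : ∀ L ∈ S, Cfsg.IsComponent L := by
    intro L hL
    rw [hS, Set.Finite.mem_toFinset] at hL
    exact hL
  have hlayer : Cfsg.layer G = ⨆ L ∈ S, L := by
    unfold Cfsg.layer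
    rw [sSup_eq_iSup]
    apply le_antisymm
    · apply iSup₂_le
      intro L hL
      have : L ∈ S := by rw [hS, Set.Finite.mem_toFinset]; exact hL
      exact le_iSup₂_of_le L this le_rfl
    · apply iSup₂_le
      intro L hL
      exact le_iSup₂_of_le L (hmem L hL) le_rfl
  obtain ⟨h1, h2⟩ := card_biSup_components B heven hB S hmem
  rw [← hlayer] at h1 h2
  have hdvdG : 2 ^ S.card ∣ Nat.card G := dvd_trans h1 (Subgroup.card_subgroup_dvd_card _)
  have hk : S.card ≤ (Nat.card G).factorization 2 :=
    (Nat.Prime.pow_dvd_iff_le_factorization Nat.prime_two Nat.card_pos.ne').mp hdvdG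
  exact le_trans h2 (Nat.pow_le_pow_right hB1 (le_trans hk ha))

end Cfsg.Agent.Lib.Helper4.DCG9
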