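import Mathlib
import Cfsg.Prelude.Def_SolvableStructure
import Cfsg.Agent.Lib.Helper23.SylowCount
import Cfsg.Agent.Lib.Helper1.SZConj

set_option autoImplicit false

namespace Cfsg.Agent.Lib.Helper4
open Cfsg
universe u v

theorem hasSubgroupOfEveryOrder_congr {A : Type u} {B : Type v} [Group A] [Group B] (e : A ≃* B)
    (h : HasSubgroupOfEveryOrder A) : HasSubgroupOfEveryOrder B := by
  intro d hd
  rw [← Nat.card_congr e.toEquiv] at hd
  obtain ⟨H, hH⟩ := h d hd
  refine ⟨H.map e.toMonoidHom, ?_⟩
  rw [Subgroup.card_map_of_injective e.injective, hH]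

/-- every subgroup CLT, inherited by subgroups -/
theorem hereditaryCLT_subgroup {G : Type u} [Group G]
    (h : ∀ H : Subgroup G, HasSubgroupOfEveryOrder H) (M : Subgroup G) :
    ∀ H : Subgroup M, HasSubgroupOfEveryOrder H := by
  intro H
  have h1 := h (H.map M.subtype)
  exact hasSubgroupOfEveryOrder_congr (H.equivMapOfInjective M.subtype M.subtype_injective).symm h1

theorem sylow_normal_of_hereditaryCLT_aux : ∀ (n : ℕ) (G : Type u) [Group G] [Finite G],
    Nat.card G = n → (∀ H : Subgroup G, HasSubgroupOfEveryOrder H) → ∀ (p : ℕ) [Fact p.Prime],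
    (∀ q : ℕ, q.Prime → q ∣ Nat.card G → q ≤ p) → ∀ P : Sylow p G, (P : Subgroup G).Normal := by
  intro n
  induction n using Nat.strong_induction_on with
  | _ n ih =>
  intro G _ _ hn h p _ hmax P
  have hp : p.Prime := Fact.out
  rcases subsingleton_or_nontrivial G with hs | hnt
  · constructor
    intro x hx g
    rw [Subsingleton.elim (g * x * g⁻¹) 1]; exact Subgroup.one_mem _
  have hne1 : Nat.card G ≠ 1 := by
    intro h1
    have := Finite.one_lt_card_iff_nontrivial.mpr hnt
    omega
  have hq : (Nat.card G).minFac.Prime := Nat.minFac_prime hne1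
  have hqd : (Nat.card G).minFac ∣ Nat.card G := Nat.minFac_dvd _
  -- subgroup of index q
  obtain ⟨M0, hM0⟩ := h ⊤ (Nat.card G / (Nat.card G).minFac) (by
    rw [Subgroup.card_top]; exact Nat.div_dvd_of_dvd hqd)
  set M : Subgroup G := M0.map (⊤ : Subgroup G).subtype with hMdef
  have hMc : Nat.card M = Nat.card G / (Nat.card G).minFac := by
    rw [hMdef, Subgroup.card_map_of_injective (Subgroup.subtype_injective _), hM0]
  have hMi : M.index = (Nat.card G).minFac := by
    have h1 := M.card_mul_index
    rw [hMc] at h1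
    have h2 : Nat.card G / (Nat.card G).minFac * (Nat.card G).minFac = Nat.card G :=
      Nat.div_mul_cancel hqd
    have hpos : 0 < Nat.card G / (Nat.card G).minFac :=
      Nat.div_pos (Nat.le_of_dvd Nat.card_pos hqd) hq.pos
    exact Nat.eq_of_mul_eq_mul_left hpos (h1.trans h2.symm)
  have hMn : M.Normal := Subgroup.normal_of_index_eq_minFac_card hMi
  by_cases hqp : (Nat.card G).minFac = p
  · -- G is a p-group
    have hpg : IsPGroup p G := by
      have := Nat.eq_prime_pow_of_unique_prime_dvd (n := Nat.card G) (p := p) Nat.card_pos.ne'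
        (fun {d} hd hdd => le_antisymm (hmax d hd hdd) (hqp ▸ Nat.minFac_le_of_dvd hd.two_le hdd))
      exact IsPGroup.of_card this
    have : (P : Subgroup G) = ⊤ := by
      have h1 : IsPGroup p (⊤ : Subgroup G) := hpg.to_subgroup _
      exact (P.is_maximal' h1 le_top).symm
    rw [this]; infer_instance
  · have hndvd : ¬ p ∣ M.index := by
      rw [hMi]
      intro hd
      exact hqp ((Nat.prime_dvd_prime_iff_eq hp hq).mp hd).symm
    have hPM : (P : Subgroup G) ≤ M :=
      Cfsg.Agent.Lib.Helper23.sylow_le_of_normal_of_not_dvd_index p M hndvd P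
    have hMlt : Nat.card M < n := by
      rw [← hn]
      apply Cfsg.Agent.Lib.Helper1.card_lt_of_ne_top
      intro htop
      rw [htop, Subgroup.index_top] at hMi
      exact hq.one_lt.ne hMi
    have hmaxM : ∀ q : ℕ, q.Prime → q ∣ Nat.card M → q ≤ p := fun q hq hqd =>
      hmax q hq (hqd.trans (Subgroup.card_subgroup_dvd_card M))
    have hnorm := ih _ hMlt M rfl (hereditaryCLT_subgroup h M) p hmaxM (P.subtype hPM)
    have hchar := Sylow.characteristic_of_normal (P.subtype hPM) hnorm
    have h3 : (((P.subtype hPM : Sylow p M) : Subgroup M).map M.subtype).Normal :=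
      ConjAct.normal_of_characteristic_of_normal
    rw [Sylow.coe_subtype, Subgroup.subgroupOf_map_subtype, inf_eq_left.mpr hPM] at h3
    exact h3

theorem sylow_normal_of_hereditaryCLT {G : Type u} [Group G] [Finite G]
    (h : ∀ H : Subgroup G, HasSubgroupOfEveryOrder H) (p : ℕ) [Fact p.Prime]
    (hmax : ∀ q : ℕ, q.Prime → q ∣ Nat.card G → q ≤ p) (P : Sylow p G) :
    (P : Subgroup G).Normal :=
  sylow_normal_of_hereditaryCLT_aux _ G rfl h p hmax P

end Cfsg.Agent.Lib.Helper4
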