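import Mathlib
import Cfsg.Agent.Lib.Helper4.Supersolvable2
import Cfsg.Agent.Lib.Helper4.SupersolvableOrder
import Cfsg.Agent.Lib.Helper4.HereditaryCLT
import Cfsg.Agent.Lib.Helper17.Basic
import Cfsg.Agent.Lib.Helper18.Basic

set_option autoImplicit false

namespace Cfsg.Agent.Lib.Helper4
open Cfsg
universe u v

theorem isSupersolvable_of_surjective {G : Type u} {G' : Type v} [Group G] [Group G']
    (f : G →* G') (hf : Function.Surjective f) (hG : IsSupersolvable G) : IsSupersolvable G' := by
  rw [isSupersolvable_iff_ssReach] at hG ⊢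
  have := hG.map f hf
  rwa [Subgroup.map_top_of_surjective f hf] at this

theorem SSReach.inf_eq_bot_or_exists {G : Type u} [Group G] [Finite G] (Z : Subgroup G) [hZ : Z.Normal]
    {T : Subgroup G} (h : SSReach T) :
    T ⊓ Z = ⊥ ∨ ∃ C : Subgroup G, C.Normal ∧ (Nat.card C).Prime ∧ C ≤ Z := by
  induction h with
  | bot => left; exact bot_inf_eq _
  | step T g hT hn ih =>
    rcases ih with h0 | h1
    · have := hT.normal
      obtain ⟨z, hz, he⟩ := exists_inf_sup_zpowers T g Z
      rw [h0, bot_sup_eq] at he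
      by_cases hz1 : z = 1
      · left; rw [he, hz1, Subgroup.zpowers_one_eq_bot]
      · right
        have hnz : (Subgroup.zpowers z).Normal := by
          rw [← he]; infer_instance
        obtain ⟨C, hC, hCp, hCz⟩ := exists_normal_prime_card_of_zpowers_normal z hz1 hnz
        exact ⟨C, hC, hCp, hCz.trans (Subgroup.zpowers_le.mpr hz)⟩
    · right; exact h1

/-- A nontrivial normal subgroup of a finite supersolvable group contains a normal subgroup of
prime order. -/
theorem exists_normal_prime_card_le_of_isSupersolvable {G : Type u} [Group G] [Finite G]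
    (hG : IsSupersolvable G) (Z : Subgroup G) [Z.Normal] (hZ : Z ≠ ⊥) :
    ∃ C : Subgroup G, C.Normal ∧ (Nat.card C).Prime ∧ C ≤ Z := by
  rw [isSupersolvable_iff_ssReach] at hG
  rcases hG.inf_eq_bot_or_exists Z with h | h
  · rw [top_inf_eq] at h; exact absurd h hZ
  · exact h

end Cfsg.Agent.Lib.Helper4

namespace Cfsg.Agent.Lib.Helper4
open Cfsg
universe u

/-- Lemma X: `P ⊴ G` a `p`-group, `Q ≤ P` normal in `G`, `Q ≤ H` with `H` supersolvable and
`G = P H`. Then `Q` is reachable by a normal chain with cyclic steps. -/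
theorem ssReach_of_le_supersolvable_aux (p : ℕ) [Fact p.Prime] :
    ∀ (n : ℕ) (G : Type u) [Group G] [Finite G], Nat.card G = n →
    ∀ (P Q H : Subgroup G), P.Normal → IsPGroup p P → Q.Normal → Q ≤ P → Q ≤ H → P ⊔ H = ⊤ →
    IsSupersolvable H → SSReach Q := by
  intro n
  induction n using Nat.strong_induction_on with
  | _ n ih =>
  intro G _ _ hn P Q H hPn hP hQn hQP hQH hPH hH
  by_cases hQ1 : Q = ⊥
  · rw [hQ1]; exact SSReach.bot
  -- Z = Q ∩ C(P)
  obtain ⟨w, hwQ, hw1, hwc⟩ := Cfsg.Agent.Lib.Helper18.exists_ne_one_fixed_of_pgroup_normalizes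
    Q P (hP.to_le hQP) hP hQ1 (by rw [Subgroup.normalizer_eq_top]; exact le_top)
  set Z : Subgroup G := Q ⊓ Subgroup.centralizer (P : Set G) with hZdef
  have hZn : Z.Normal := by
    have := Subgroup.normal_centralizer (H := P)
    rw [hZdef]; infer_instance
  have hwZ : w ∈ Z := by
    rw [hZdef, Subgroup.mem_inf, Subgroup.mem_centralizer_iff]
    exact ⟨hwQ, fun c hc => hwc c hc⟩
  have hZH : Z ≤ H := inf_le_left.trans hQH
  have hZ'n : (Z.subgroupOf H).Normal := hZn.subgroupOf H
  have hZ'ne : Z.subgroupOf H ≠ ⊥ := by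
    intro h
    rw [Subgroup.subgroupOf_eq_bot, disjoint_iff, inf_eq_left.mpr hZH] at h
    rw [h, Subgroup.mem_bot] at hwZ
    exact hw1 hwZ
  obtain ⟨C', hC'n, hC'p, hC'Z⟩ := exists_normal_prime_card_le_of_isSupersolvable hH (Z.subgroupOf H) hZ'ne
  set C : Subgroup G := C'.map H.subtype with hCdef
  have hCcard : Nat.card C = Nat.card C' := Subgroup.card_map_of_injective H.subtype_injective
  have hCZ : C ≤ Z := by
    rintro x ⟨y, hy, rfl⟩
    exact Subgroup.mem_subgroupOf.mp (hC'Z hy)
  have hCn : C.Normal := by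
    rw [← Subgroup.normalizer_eq_top_iff, eq_top_iff, ← hPH]
    apply sup_le
    · intro g hg
      apply Cfsg.Agent.Lib.Helper17.mem_normalizer_of_forall_conj_mem
      intro x hx
      have hxc : x ∈ Subgroup.centralizer (P : Set G) := (Subgroup.mem_inf.mp (hCZ hx)).2
      rw [Subgroup.mem_centralizer_iff] at hxc
      rw [hxc g hg, mul_inv_cancel_right]
      exact hx
    · intro g hg
      apply Cfsg.Agent.Lib.Helper17.mem_normalizer_of_forall_conj_mem
      rintro x ⟨y, hy, rfl⟩
      exact ⟨(⟨g, hg⟩ : H) * y * (⟨g, hg⟩ : H)⁻¹, hC'n.conj_mem y hy _, rfl⟩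
  have hCne : C ≠ ⊥ := by
    intro h
    rw [h, Subgroup.card_bot] at hCcard
    rw [← hCcard] at hC'p
    exact Nat.not_prime_one hC'p
  have hCcyc : IsCyclic C := by
    have : Fact (Nat.card C).Prime := ⟨hCcard ▸ hC'p⟩
    exact isCyclic_of_prime_card rfl
  have hlt : Nat.card (G ⧸ C) < n := by
    rw [← hn]; exact card_quotient_lt_of_ne_bot' C hCne
  have hf := QuotientGroup.mk'_surjective C
  have hQ' := ih _ hlt (G ⧸ C) rfl (P.map (QuotientGroup.mk' C)) (Q.map (QuotientGroup.mk' C))
    (H.map (QuotientGroup.mk' C)) (hPn.map _ hf) (hP.map _) (hQn.map _ hf)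
    (Subgroup.map_mono hQP) (Subgroup.map_mono hQH)
    (by rw [← Subgroup.map_sup, hPH, Subgroup.map_top_of_surjective _ hf])
    (isSupersolvable_of_surjective ((QuotientGroup.mk' C).subgroupMap H)
      ((QuotientGroup.mk' C).subgroupMap_surjective H) hH)
  have hker : IsCyclic (QuotientGroup.mk' C).ker := by
    rw [QuotientGroup.ker_mk']; exact hCcyc
  have := hQ'.comap (QuotientGroup.mk' C) hf hker
  rwa [Subgroup.comap_map_eq, QuotientGroup.ker_mk', sup_eq_left.mpr (hCZ.trans inf_le_left)] at this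

end Cfsg.Agent.Lib.Helper4

namespace Cfsg.Agent.Lib.Helper4
open Cfsg
universe u

theorem isSupersolvable_of_hereditaryCLT_aux : ∀ (n : ℕ) (G : Type u) [Group G] [Finite G],
    Nat.card G = n → (∀ H : Subgroup G, HasSubgroupOfEveryOrder H) → IsSupersolvable G := by
  intro n
  induction n using Nat.strong_induction_on with
  | _ n ih =>
  intro G _ _ hn h
  rcases subsingleton_or_nontrivial G with hs | hnt
  · exact isSupersolvable_of_subsingleton
  have hne1 : Nat.card G ≠ 1 := by
    intro h1
    have := Finite.one_lt_card_iff_nontrivial.mpr hnt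
    omega
  -- the largest prime
  have hne : (Nat.card G).primeFactors.Nonempty := by
    rw [Nat.nonempty_primeFactors]
    have : 0 < Nat.card G := Nat.card_pos
    omega
  obtain ⟨p, hpm, hpmax⟩ := Finset.exists_max_image (Nat.card G).primeFactors id hne
  have hp : p.Prime := Nat.prime_of_mem_primeFactors hpm
  have hpd : p ∣ Nat.card G := Nat.dvd_of_mem_primeFactors hpm
  have hmax : ∀ q : ℕ, q.Prime → q ∣ Nat.card G → q ≤ p := fun q hq hqd =>
    hpmax q (Nat.mem_primeFactors.mpr ⟨hq, hqd, Nat.card_pos.ne'⟩)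
  have : Fact p.Prime := ⟨hp⟩
  let P : Sylow p G := default
  have hPn : (P : Subgroup G).Normal := sylow_normal_of_hereditaryCLT h p hmax P
  -- L of index p
  obtain ⟨L0, hL0⟩ := h ⊤ (Nat.card G / p) (by
    rw [Subgroup.card_top]; exact Nat.div_dvd_of_dvd hpd)
  set L : Subgroup G := L0.map (⊤ : Subgroup G).subtype with hLdef
  have hLc : Nat.card L = Nat.card G / p := by
    rw [hLdef, Subgroup.card_map_of_injective (Subgroup.subtype_injective _), hL0]
  have hLi : L.index = p := by
    have h1 := L.card_mul_index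
    rw [hLc] at h1
    have h2 : Nat.card G / p * p = Nat.card G := Nat.div_mul_cancel hpd
    have hpos : 0 < Nat.card G / p := Nat.div_pos (Nat.le_of_dvd Nat.card_pos hpd) hp.pos
    exact Nat.eq_of_mul_eq_mul_left hpos (h1.trans h2.symm)
  have hLlt : Nat.card L < n := by
    rw [← hn]
    apply Cfsg.Agent.Lib.Helper1.card_lt_of_ne_top
    intro htop
    rw [htop, Subgroup.index_top] at hLi
    exact hp.one_lt.ne hLi
  have hLss : IsSupersolvable L := ih _ hLlt L rfl (hereditaryCLT_subgroup h L)
  -- P ⊔ L = ⊤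
  have hPL : (P : Subgroup G) ⊔ L = ⊤ := by
    rw [← Subgroup.index_eq_one]
    have h1 : ((P : Subgroup G) ⊔ L).index ∣ p := by
      have := Subgroup.index_dvd_of_le (le_sup_right : L ≤ (P : Subgroup G) ⊔ L)
      rwa [hLi] at this
    have h2 : ((P : Subgroup G) ⊔ L).index ∣ (P : Subgroup G).index := Subgroup.index_dvd_of_le le_sup_left
    rcases (Nat.dvd_prime hp).mp h1 with h3 | h3
    · exact h3
    · exfalso
      apply P.not_dvd_index
      rw [h3] at h2; exact h2
  set Q : Subgroup G := (P : Subgroup G) ⊓ L with hQdef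
  have hQrel : Q.relIndex (P : Subgroup G) = p := by
    rw [hQdef, Subgroup.inf_relIndex_left]
    have := relIndex_sup_left_of_le_normalizer L (P : Subgroup G)
      (by rw [Subgroup.normalizer_eq_top]; exact le_top)
    rw [sup_comm, hPL, Subgroup.relIndex_top_right] at this
    rw [← this, hLi]
  have hQn : Q.Normal := by
    rw [← Subgroup.normalizer_eq_top_iff, eq_top_iff, ← hPL]
    apply sup_le
    · -- index p in a p-group
      rw [← Subgroup.normal_subgroupOf_iff_le_normalizer inf_le_left]
      apply Subgroup.normal_of_index_eq_minFac_card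
      change Q.relIndex (P : Subgroup G) = _
      rw [hQrel]
      obtain ⟨k, hk⟩ := IsPGroup.iff_card.mp P.isPGroup'
      have hk0 : k ≠ 0 := by
        rintro rfl
        rw [pow_zero] at hk
        have h1 : Q.relIndex (P : Subgroup G) ∣ Nat.card (P : Subgroup G) := Subgroup.relIndex_dvd_card _ _
        rw [hQrel, hk] at h1
        exact hp.one_lt.ne' (Nat.dvd_one.mp h1)
      rw [hk, hp.pow_minFac hk0]
    · intro g hg
      apply Cfsg.Agent.Lib.Helper17.mem_normalizer_of_forall_conj_mem
      intro x hx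
      exact ⟨hPn.conj_mem x hx.1 g, L.mul_mem (L.mul_mem hg hx.2) (L.inv_mem hg)⟩
  have hQss : SSReach Q := ssReach_of_le_supersolvable_aux p _ G rfl (P : Subgroup G) Q L hPn
    P.isPGroup' hQn inf_le_left inf_le_right hPL hLss
  -- step to P
  have hPss : SSReach (P : Subgroup G) := by
    obtain ⟨g, hgP, hgQ⟩ : ∃ g ∈ (P : Subgroup G), g ∉ Q := by
      by_contra hall
      push Not at hall
      have : (P : Subgroup G) ≤ Q := hall
      rw [← Subgroup.relIndex_eq_one, hQrel] at this
      exact hp.one_lt.ne' this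
    have hle : Q ⊔ Subgroup.zpowers g ≤ (P : Subgroup G) :=
      sup_le inf_le_left (Subgroup.zpowers_le.mpr hgP)
    have heq : Q ⊔ Subgroup.zpowers g = (P : Subgroup G) := by
      apply le_antisymm hle
      rw [← Subgroup.relIndex_eq_one]
      have h1 := Subgroup.relIndex_mul_relIndex Q (Q ⊔ Subgroup.zpowers g) (P : Subgroup G) le_sup_left hle
      rw [hQrel] at h1
      have h2 : Q.relIndex (Q ⊔ Subgroup.zpowers g) ≠ 1 := by
        rw [Ne, Subgroup.relIndex_eq_one]
        intro h3
        exact hgQ (h3 (Subgroup.mem_sup_right (Subgroup.mem_zpowers g)))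
      have h3 : Q.relIndex (Q ⊔ Subgroup.zpowers g) ∣ p := Dvd.intro _ h1
      rcases (Nat.dvd_prime hp).mp h3 with h4 | h4
      · exact absurd h4 h2
      · rw [h4] at h1
        have := Nat.eq_of_mul_eq_mul_left hp.pos (h1.trans (mul_one p).symm)
        exact this
    rw [← heq]
    refine SSReach.step Q g hQss ?_
    rw [heq]; exact hPn
  -- quotient
  have hsurj : Function.Surjective ((QuotientGroup.mk' (P : Subgroup G)).comp L.subtype) := by
    intro q
    obtain ⟨g, rfl⟩ := QuotientGroup.mk'_surjective _ q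
    have hg : g ∈ (((P : Subgroup G) ⊔ L : Subgroup G) : Set G) := by rw [hPL]; trivial
    rw [Subgroup.normal_mul] at hg
    obtain ⟨x, hx, l, hl, rfl⟩ := hg
    refine ⟨⟨l, hl⟩, ?_⟩
    simp only [MonoidHom.coe_comp, Function.comp_apply, Subgroup.subtype_apply, QuotientGroup.mk'_apply,
      QuotientGroup.mk_mul]
    rw [(QuotientGroup.eq_one_iff x).mpr hx, one_mul]
  have hquot : IsSupersolvable (G ⧸ (P : Subgroup G)) := isSupersolvable_of_surjective _ hsurj hLss
  rw [isSupersolvable_iff_ssReach] at hquot ⊢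
  have := hquot.comap_of_ker (QuotientGroup.mk' (P : Subgroup G)) (QuotientGroup.mk'_surjective _)
    (by rw [QuotientGroup.ker_mk']; exact hPss)
  rwa [Subgroup.comap_top] at this

theorem isSupersolvable_of_hereditaryCLT {G : Type u} [Group G] [Finite G]
    (h : ∀ H : Subgroup G, HasSubgroupOfEveryOrder H) : IsSupersolvable G :=
  isSupersolvable_of_hereditaryCLT_aux _ G rfl h

end Cfsg.Agent.Lib.Helper4
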