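import Mathlib

set_option autoImplicit false

namespace Cfsg.Agent.Lib.Helper4

universe u

/-- If `M` contains the normalizer of a Sylow `p`-subgroup `P` then `|G : M| ≡ 1 [MOD p]`. -/
theorem index_modEq_one_of_normalizer_le {G : Type*} [Group G] [Finite G] {p : ℕ} [Fact p.Prime]
    (P : Sylow p G) (M : Subgroup G) (hM : Subgroup.normalizer ((P : Subgroup G) : Set G) ≤ M) :
    M.index ≡ 1 [MOD p] := by
  have hPM : (P : Subgroup G) ≤ M := Subgroup.le_normalizer.trans hM
  have h1 : (Subgroup.normalizer ((P : Subgroup G) : Set G)).index ≡ 1 [MOD p] := by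
    have := card_sylow_modEq_one p G
    rw [Sylow.card_eq_index_normalizer P] at this
    exact this
  have h2 : (Subgroup.normalizer ((P : Subgroup G) : Set G)).relIndex M ≡ 1 [MOD p] := by
    have := card_sylow_modEq_one p M
    rw [Sylow.card_eq_index_normalizer (P.subtype hPM)] at this
    have e : Subgroup.normalizer ((P.subtype hPM : Sylow p M) : Set M) =
        (Subgroup.normalizer ((P : Subgroup G) : Set G)).subgroupOf M := by
      rw [Subgroup.subgroupOf_normalizer_eq hPM]
      rfl
    rw [e] at this
    exact this
  have h3 := Subgroup.relIndex_mul_index hM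
  have h4 : (Subgroup.normalizer ((P : Subgroup G) : Set G)).relIndex M * M.index ≡ 1 * M.index [MOD p] :=
    Nat.ModEq.mul_right _ h2
  rw [h3, one_mul] at h4
  exact h4.symm.trans h1

/-- If all maximal subgroups have prime index, a Sylow subgroup for the largest prime is normal. -/
theorem sylow_normal_of_prime_index {G : Type*} [Group G] [Finite G]
    (h : ∀ M : Subgroup G, IsCoatom M → M.index.Prime) {p : ℕ} [Fact p.Prime]
    (hmax : ∀ q : ℕ, q.Prime → q ∣ Nat.card G → q ≤ p) (P : Sylow p G) :
    (P : Subgroup G).Normal := by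
  rw [← Subgroup.normalizer_eq_top_iff]
  by_contra hne
  obtain ⟨M, hMco, hM⟩ := (eq_top_or_exists_le_coatom _).resolve_left hne
  have hq := h M hMco
  have hmod := index_modEq_one_of_normalizer_le P M hM
  have hqp : M.index ≤ p := hmax _ hq (Subgroup.index_dvd_card M)
  have hp := (Fact.out : p.Prime)
  rcases lt_or_eq_of_le hqp with hlt | heq
  · have : M.index % p = 1 % p := hmod
    rw [Nat.mod_eq_of_lt hlt, Nat.mod_eq_of_lt hp.one_lt] at this
    rw [this] at hq
    exact Nat.not_prime_one hq
  · have : M.index % p = 1 % p := hmod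
    rw [heq, Nat.mod_self, Nat.mod_eq_of_lt hp.one_lt] at this
    omega

/-- Hypothesis "all maximal subgroups have prime index" passes to quotients. -/
theorem prime_index_quotient {G : Type*} [Group G]
    (h : ∀ M : Subgroup G, IsCoatom M → M.index.Prime) (N : Subgroup G) [N.Normal] :
    ∀ M : Subgroup (G ⧸ N), IsCoatom M → M.index.Prime := by
  intro M hM
  have h1 := Subgroup.isCoatom_comap_of_surjective (QuotientGroup.mk'_surjective N) hM
  have h2 := h _ h1
  rwa [Subgroup.index_comap_of_surjective M (QuotientGroup.mk'_surjective N)] at h2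

theorem isSolvable_of_prime_index_aux : ∀ (n : ℕ) (G : Type u) [Group G] [Finite G],
    Nat.card G = n → (∀ M : Subgroup G, IsCoatom M → M.index.Prime) → Group.IsSolvable G := by
  intro n
  induction n using Nat.strong_induction_on with
  | _ n ih =>
  intro G _ _ hn h
  by_cases h1 : Nat.card G = 1
  · have : Subsingleton G := (Nat.card_eq_one_iff_unique.mp h1).1
    infer_instance
  · have hpos : 0 < Nat.card G := Nat.card_pos
    have hne : (Nat.card G).primeFactors.Nonempty := by
      rw [Nat.nonempty_primeFactors]; omega
    set p := (Nat.card G).primeFactors.max' hne with hp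
    have hpmem : p ∈ (Nat.card G).primeFactors := Finset.max'_mem _ hne
    have hpprime : p.Prime := Nat.prime_of_mem_primeFactors hpmem
    have hpdvd : p ∣ Nat.card G := Nat.dvd_of_mem_primeFactors hpmem
    have : Fact p.Prime := ⟨hpprime⟩
    have hmax : ∀ q : ℕ, q.Prime → q ∣ Nat.card G → q ≤ p := by
      intro q hq hqd
      apply Finset.le_max'
      exact Nat.mem_primeFactors.mpr ⟨hq, hqd, by omega⟩
    let P : Sylow p G := default
    have hPn : (P : Subgroup G).Normal := sylow_normal_of_prime_index h hmax P
    have hPne : (P : Subgroup G) ≠ ⊥ := P.ne_bot_of_dvd_card hpdvd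
    have hcardlt : Nat.card (G ⧸ (P : Subgroup G)) < n := by
      rw [← hn, ← Subgroup.index_eq_card]
      have hmul := Subgroup.card_mul_index (P : Subgroup G)
      have hP1 : 1 < Nat.card (P : Subgroup G) := by
        rw [Subgroup.one_lt_card_iff_ne_bot]; exact hPne
      have hidx : 0 < (P : Subgroup G).index := Nat.pos_of_ne_zero (Subgroup.index_ne_zero_of_finite)
      nlinarith
    have : Group.IsSolvable (G ⧸ (P : Subgroup G)) :=
      ih _ hcardlt (G ⧸ (P : Subgroup G)) rfl (prime_index_quotient h _)
    have : Group.IsSolvable (P : Subgroup G) := by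
      have := (P.2 : IsPGroup p (P : Subgroup G)).isNilpotent
      infer_instance
    exact (Group.isSolvable_iff_subgroup_quotient (P : Subgroup G)).mpr ⟨inferInstance, inferInstance⟩

theorem isSolvable_of_prime_index {G : Type u} [Group G] [Finite G]
    (h : ∀ M : Subgroup G, IsCoatom M → M.index.Prime) : Group.IsSolvable G :=
  isSolvable_of_prime_index_aux _ G rfl h

end Cfsg.Agent.Lib.Helper4
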