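import Mathlib
import Cfsg.Agent.Lib.Helper4.HereditaryCLT2
import Cfsg.Agent.Lib.Helper4.Huppert

set_option autoImplicit false

namespace Cfsg.Agent.Lib.Helper4
open Cfsg
universe u v

/-- `OrdReach B c K b`: there is a chain of normal subgroups from `B` to `K` whose steps have prime
indices `c ≥ q₁ ≥ q₂ ≥ … ≥ q_k ≥ b`. -/
inductive OrdReach {G : Type u} [Group G] (B : Subgroup G) (c : ℕ) : Subgroup G → ℕ → Prop
  | base (b : ℕ) (hb : b ≤ c) : OrdReach B c B b
  | step (K K' : Subgroup G) (b q b' : ℕ) : OrdReach B c K b → K ≤ K' → K'.Normal →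
      K.relIndex K' = q → q.Prime → q ≤ b → b' ≤ q → OrdReach B c K' b'

theorem OrdReach.weaken {G : Type u} [Group G] {B K : Subgroup G} {c b b' : ℕ}
    (h : OrdReach B c K b) (hb : b' ≤ b) : OrdReach B c K b' := by
  cases h with
  | base _ hbc => exact OrdReach.base b' (hb.trans hbc)
  | step K₀ _ b₀ q _ h₀ hle hn hq hqp hqb hbq =>
    exact OrdReach.step K₀ K b₀ q b' h₀ hle hn hq hqp hqb (hb.trans hbq)

theorem OrdReach.le_top {G : Type u} [Group G] {B K : Subgroup G} {c b : ℕ}
    (h : OrdReach B c K b) : b ≤ c := by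
  induction h with
  | base _ hbc => exact hbc
  | step K₀ K' b₀ q b' h₀ hle hn hq hqp hqb hbq ih => exact hbq.trans (hqb.trans ih)

theorem OrdReach.mono_top {G : Type u} [Group G] {B K : Subgroup G} {c c' b : ℕ}
    (h : OrdReach B c K b) (hc : c ≤ c') : OrdReach B c' K b := by
  induction h with
  | base _ hbc => exact OrdReach.base _ (hbc.trans hc)
  | step K₀ K' b₀ q b' h₀ hle hn hq hqp hqb hbq ih =>
    exact OrdReach.step K₀ K' b₀ q b' ih hle hn hq hqp hqb hbq

theorem OrdReach.trans {G : Type u} [Group G] {B P K : Subgroup G} {c p b : ℕ}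
    (h1 : OrdReach B c P p) (h2 : OrdReach P p K b) : OrdReach B c K b := by
  induction h2 with
  | base _ hbc => exact h1.weaken hbc
  | step K₀ K' b₀ q b' h₀ hle hn hq hqp hqb hbq ih =>
    exact OrdReach.step K₀ K' b₀ q b' ih hle hn hq hqp hqb hbq

theorem OrdReach.comap {G : Type u} {G' : Type v} [Group G] [Group G'] {B K : Subgroup G'} {c b : ℕ}
    (h : OrdReach B c K b) (f : G →* G') (hf : Function.Surjective f) :
    OrdReach (B.comap f) c (K.comap f) b := by
  induction h with
  | base _ hbc => exact OrdReach.base _ hbc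
  | step K₀ K' b₀ q b' h₀ hle hn hq hqp hqb hbq ih =>
    refine OrdReach.step (K₀.comap f) (K'.comap f) b₀ q b' ih (Subgroup.comap_mono hle) (hn.comap f) ?_
      hqp hqb hbq
    rw [Subgroup.relIndex_comap, Subgroup.map_comap_eq_self_of_surjective hf, hq]

theorem chain_of_ordReach {G : Type u} [Group G] {K : Subgroup G} {c b : ℕ}
    (h : OrdReach (⊥ : Subgroup G) c K b) :
    ∃ (n : ℕ) (H : Fin (n + 1) → Subgroup G),
      H 0 = ⊥ ∧ H (Fin.last n) = K ∧ (∀ i, (H i).Normal) ∧
      (∀ i : Fin n, H i.castSucc ≤ H i.succ ∧ ((H i.castSucc).relIndex (H i.succ)).Prime) ∧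
      (∀ i j : Fin n, i ≤ j →
        (H j.castSucc).relIndex (H j.succ) ≤ (H i.castSucc).relIndex (H i.succ)) ∧
      (∀ i : Fin n, b ≤ (H i.castSucc).relIndex (H i.succ)) := by
  induction h with
  | base _ hbc =>
    exact ⟨0, fun _ => ⊥, rfl, rfl, fun _ => inferInstance, fun i => i.elim0, fun i => i.elim0,
      fun i => i.elim0⟩
  | step K₀ K' b₀ q b' h₀ hle hn hq hqp hqb hbq ih =>
    obtain ⟨n, H, h0, hl, hnorm, hstep, hord, hlow⟩ := ih
    have key : ∀ j : Fin n, (Fin.snoc H K' : Fin (n + 1 + 1) → Subgroup G) (Fin.castSucc j).castSucc = H j.castSucc ∧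
        (Fin.snoc H K' : Fin (n + 1 + 1) → Subgroup G) (Fin.castSucc j).succ = H j.succ := by
      intro j
      have e1 : (Fin.castSucc j).succ = Fin.castSucc j.succ := rfl
      rw [e1, Fin.snoc_castSucc, Fin.snoc_castSucc]
      exact ⟨rfl, rfl⟩
    have keyl : (Fin.snoc H K' : Fin (n + 1 + 1) → Subgroup G) (Fin.last n).castSucc = K₀ ∧
        (Fin.snoc H K' : Fin (n + 1 + 1) → Subgroup G) (Fin.last n).succ = K' := by
      rw [Fin.succ_last, Fin.snoc_last, Fin.snoc_castSucc, hl]
      exact ⟨rfl, rfl⟩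
    refine ⟨n + 1, Fin.snoc H K', ?_, ?_, ?_, ?_, ?_, ?_⟩
    · have : (0 : Fin (n + 1 + 1)) = Fin.castSucc (0 : Fin (n + 1)) := rfl
      rw [this, Fin.snoc_castSucc, h0]
    · rw [Fin.snoc_last]
    · intro i
      refine Fin.lastCases ?_ (fun j => ?_) i
      · rw [Fin.snoc_last]; exact hn
      · rw [Fin.snoc_castSucc]; exact hnorm j
    · intro i
      refine Fin.lastCases ?_ (fun j => ?_) i
      · rw [keyl.1, keyl.2, hq]; exact ⟨hle, hqp⟩
      · rw [(key j).1, (key j).2]; exact hstep j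
    · intro i j
      refine Fin.lastCases ?_ (fun j' => ?_) j
      · refine Fin.lastCases ?_ (fun i' => ?_) i
        · intro _; exact le_rfl
        · intro _
          rw [keyl.1, keyl.2, (key i').1, (key i').2, hq]
          exact hqb.trans (hlow i')
      · refine Fin.lastCases ?_ (fun i' => ?_) i
        · intro hij
          exfalso
          have h1 : (Fin.last n : Fin (n + 1)).val ≤ (Fin.castSucc j').val := hij
          simp at h1
          omega
        · intro hij
          rw [(key i').1, (key i').2, (key j').1, (key j').2]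
          exact hord i' j' (by simpa using hij)
    · intro i
      refine Fin.lastCases ?_ (fun j => ?_) i
      · rw [keyl.1, keyl.2, hq]; exact hbq
      · rw [(key j).1, (key j).2]; exact (hbq.trans hqb).trans (hlow j)

end Cfsg.Agent.Lib.Helper4

namespace Cfsg.Agent.Lib.Helper4
open Cfsg
universe u

theorem ordReach_pgroup_aux (p : ℕ) [Fact p.Prime] : ∀ (n : ℕ) (G : Type u) [Group G] [Finite G],
    Nat.card G = n → IsSupersolvable G → ∀ P : Subgroup G, P.Normal → IsPGroup p P →
    OrdReach (⊥ : Subgroup G) p P p := by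
  have hp : p.Prime := Fact.out
  intro n
  induction n using Nat.strong_induction_on with
  | _ n ih =>
  intro G _ _ hn hG P hPn hP
  by_cases hP1 : P = ⊥
  · rw [hP1]; exact OrdReach.base p le_rfl
  obtain ⟨N, hNn, hNp, hNP⟩ := exists_normal_prime_card_le_of_isSupersolvable hG P hP1
  have hNcard : Nat.card N = p := by
    obtain ⟨k, hk⟩ := IsPGroup.iff_card.mp (hP.to_le hNP)
    rw [hk] at hNp ⊢
    have hk1 : k = 1 := hNp.eq_one_of_pow
    rw [hk1, pow_one]
  have hNne : N ≠ ⊥ := by
    intro h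
    rw [h, Subgroup.card_bot] at hNcard
    exact hp.one_lt.ne hNcard
  have hlt : Nat.card (G ⧸ N) < n := by
    rw [← hn]; exact card_quotient_lt_of_ne_bot' N hNne
  have hf := QuotientGroup.mk'_surjective N
  have h1 := ih _ hlt (G ⧸ N) rfl (isSupersolvable_quotient hG N) (P.map (QuotientGroup.mk' N))
    (hPn.map _ hf) (hP.map _)
  have h2 := h1.comap (QuotientGroup.mk' N) hf
  rw [MonoidHom.comap_bot, QuotientGroup.ker_mk', Subgroup.comap_map_eq, QuotientGroup.ker_mk',
    sup_eq_left.mpr hNP] at h2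
  have h3 : OrdReach (⊥ : Subgroup G) p N p :=
    OrdReach.step ⊥ N p p p (OrdReach.base p le_rfl) bot_le hNn
      (by rw [Subgroup.relIndex_bot_left, hNcard]) hp le_rfl le_rfl
  exact h3.trans h2

end Cfsg.Agent.Lib.Helper4

namespace Cfsg.Agent.Lib.Helper4
open Cfsg
universe u

theorem ordReach_top_aux : ∀ (n : ℕ) (G : Type u) [Group G] [Finite G],
    Nat.card G = n → IsSupersolvable G → ∀ c : ℕ, (∀ q : ℕ, q.Prime → q ∣ Nat.card G → q ≤ c) →
    ∃ b, OrdReach (⊥ : Subgroup G) c ⊤ b := by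
  intro n
  induction n using Nat.strong_induction_on with
  | _ n ih =>
  intro G _ _ hn hG c hc
  rcases subsingleton_or_nontrivial G with hs | hnt
  · refine ⟨c, ?_⟩
    have : (⊤ : Subgroup G) = ⊥ := Subsingleton.elim _ _
    rw [this]
    exact OrdReach.base c le_rfl
  have hne1 : Nat.card G ≠ 1 := by
    intro h1
    have := Finite.one_lt_card_iff_nontrivial.mpr hnt
    omega
  have hne : (Nat.card G).primeFactors.Nonempty := by
    rw [Nat.nonempty_primeFactors]
    have : 0 < Nat.card G := Nat.card_pos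
    omega
  obtain ⟨p, hpm, hpmax⟩ := Finset.exists_max_image (Nat.card G).primeFactors id hne
  have hp : p.Prime := Nat.prime_of_mem_primeFactors hpm
  have hpd : p ∣ Nat.card G := Nat.dvd_of_mem_primeFactors hpm
  have hmax : ∀ q : ℕ, q.Prime → q ∣ Nat.card G → q ≤ p := fun q hq hqd =>
    hpmax q (Nat.mem_primeFactors.mpr ⟨hq, hqd, Nat.card_pos.ne'⟩)
  have : Fact p.Prime := ⟨hp⟩
  let P : Sylow p G := default
  have hPn : (P : Subgroup G).Normal :=
    sylow_normal_of_prime_index (prime_index_of_isSupersolvable hG) hmax P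
  have hPne : (P : Subgroup G) ≠ ⊥ := by
    intro h
    have h1 := P.card_eq_multiplicity
    rw [h, Subgroup.card_bot] at h1
    have h2 : 0 < (Nat.card G).factorization p := hp.factorization_pos_of_dvd Nat.card_pos.ne' hpd
    have h3 : 1 < p ^ (Nat.card G).factorization p := Nat.one_lt_pow h2.ne' hp.one_lt
    omega
  have h1 := ordReach_pgroup_aux p _ G rfl hG (P : Subgroup G) hPn P.isPGroup'
  have hlt : Nat.card (G ⧸ (P : Subgroup G)) < n := by
    rw [← hn]; exact card_quotient_lt_of_ne_bot' _ hPne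
  have hf := QuotientGroup.mk'_surjective (P : Subgroup G)
  obtain ⟨b, h2⟩ := ih _ hlt (G ⧸ (P : Subgroup G)) rfl (isSupersolvable_quotient hG _) p
    (fun q hq hqd => hmax q hq (hqd.trans (Subgroup.card_quotient_dvd_card _)))
  have h3 := h2.comap (QuotientGroup.mk' (P : Subgroup G)) hf
  rw [MonoidHom.comap_bot, QuotientGroup.ker_mk', Subgroup.comap_top] at h3
  exact ⟨b, (h1.trans h3).mono_top (hc p hp hpd)⟩

theorem exists_ordered_chain_of_isSupersolvable {G : Type u} [Group G] [Finite G]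
    (hG : IsSupersolvable G) :
    ∃ (n : ℕ) (H : Fin (n + 1) → Subgroup G), H 0 = ⊥ ∧ H (Fin.last n) = ⊤ ∧ (∀ i, (H i).Normal) ∧
      (∀ i : Fin n, H i.castSucc ≤ H i.succ ∧ ((H i.castSucc).relIndex (H i.succ)).Prime) ∧
      ∀ i j : Fin n, i ≤ j →
        (H j.castSucc).relIndex (H j.succ) ≤ (H i.castSucc).relIndex (H i.succ) := by
  obtain ⟨b, hb⟩ := ordReach_top_aux _ G rfl hG (Nat.card G)
    (fun q _ hqd => Nat.le_of_dvd Nat.card_pos hqd)
  obtain ⟨n, H, h0, hl, hn, hs, ho, _⟩ := chain_of_ordReach hb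
  exact ⟨n, H, h0, hl, hn, hs, ho⟩

end Cfsg.Agent.Lib.Helper4
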