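import Mathlib
import Cfsg.Agent.Lib.Helper17.SLMDefs
import Cfsg.Agent.Lib.Helper2.SLGen

/-!
SLnMax market (helper17): leaves T5 `sl_normal_sub` and T6 `sl_perfect` (helper4).
-/

set_option autoImplicit false
set_option linter.unusedSectionVars false
set_option linter.unusedVariables false

namespace Cfsg.Agent.Lib.Helper4.SLMLeaf

open Cfsg.Geo Matrix Module Cfsg.Agent.Lib.Helper17.SLM
open scoped commutatorElement

variable {n : ℕ} {F : Type*} [Field F] [Fintype F]

/-- `specialLinear` is the image of `SpecialLinearGroup` -/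
theorem specialLinear_eq_range {ι : Type} [Fintype ι] [DecidableEq ι] {F : Type*} [Field F] :
    specialLinear ι F = (Matrix.SpecialLinearGroup.toGL : Matrix.SpecialLinearGroup ι F →* GL ι F).range := by
  ext x
  unfold specialLinear
  rw [MonoidHom.mem_ker, MonoidHom.mem_range]
  constructor
  · intro h
    have hd : (x : Matrix ι ι F).det = 1 := by
      have := congrArg Units.val h
      simpa using this
    exact ⟨⟨(x : Matrix ι ι F), hd⟩, Units.ext rfl⟩
  · rintro ⟨y, rfl⟩
    apply Units.ext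
    rw [Matrix.GeneralLinearGroup.val_det_apply, Matrix.SpecialLinearGroup.coe_GL_coe_matrix]
    exact y.2

theorem mem_specialLinear_iff {ι : Type} [Fintype ι] [DecidableEq ι] {F : Type*} [Field F] (x : GL ι F) :
    x ∈ specialLinear ι F ↔ (x : Matrix ι ι F).det = 1 := by
  unfold specialLinear
  rw [MonoidHom.mem_ker]
  constructor
  · intro h
    have := congrArg Units.val h
    simpa using this
  · intro h
    apply Units.ext
    rw [Matrix.GeneralLinearGroup.val_det_apply]
    exact h

/-- T6.  `SL_n` (`n ≥ 3`) is perfect. -/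
theorem sl_perfect (hn : 3 ≤ n) :
    ⁅specialLinear (Fin n) F, specialLinear (Fin n) F⁆ = specialLinear (Fin n) F := by
  have h3 : 3 ≤ Fintype.card (Fin n) := by rw [Fintype.card_fin]; exact hn
  have h1 := Cfsg.Agent.Lib.Helper2.sl_commutator_eq_top (F := F) (ι := Fin n) h3
  rw [specialLinear_eq_range, MonoidHom.range_eq_map, ← Subgroup.map_commutator]
  have h2 : ⁅(⊤ : Subgroup (Matrix.SpecialLinearGroup (Fin n) F)), ⊤⁆ = ⊤ := h1
  rw [h2]

/-- T5. -/
theorem sl_normal_sub (hn : 3 ≤ n) (N : Subgroup (GL (Fin n) F)) (hN : N ≤ specialLinear (Fin n) F)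
    (hnorm : ∀ g ∈ specialLinear (Fin n) F, ∀ x ∈ N, g * x * g⁻¹ ∈ N) :
    N = specialLinear (Fin n) F ∨ N ≤ scalars (Fin n) F := by
  classical
  have h3 : 3 ≤ Fintype.card (Fin n) := by rw [Fintype.card_fin]; exact hn
  haveI hsimple := Cfsg.Agent.Lib.Helper2.psl_isSimpleGroup (F := F) (ι := Fin n) h3
  have hperf := Cfsg.Agent.Lib.Helper2.sl_commutator_eq_top (F := F) (ι := Fin n) h3
  obtain ⟨tg, htg⟩ : ∃ tg : Matrix.SpecialLinearGroup (Fin n) F →* GL (Fin n) F,
      tg = Matrix.SpecialLinearGroup.toGL := ⟨_, rfl⟩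
  have hrange : specialLinear (Fin n) F = tg.range := by rw [htg]; exact specialLinear_eq_range
  obtain ⟨N', hN'⟩ : ∃ N' : Subgroup (Matrix.SpecialLinearGroup (Fin n) F), N' = N.comap tg := ⟨_, rfl⟩
  haveI hN'n : N'.Normal := by
    constructor
    intro y hy g
    rw [hN', Subgroup.mem_comap] at hy ⊢
    rw [map_mul, map_mul, map_inv]
    apply hnorm _ _ _ hy
    rw [hrange]
    exact ⟨g, rfl⟩
  obtain ⟨Z, hZ⟩ : ∃ Z : Subgroup (Matrix.SpecialLinearGroup (Fin n) F),
      Z = Subgroup.center (Matrix.SpecialLinearGroup (Fin n) F) := ⟨_, rfl⟩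
  haveI hZn : Z.Normal := by rw [hZ]; infer_instance
  have hmapn : (N'.map (QuotientGroup.mk' (Subgroup.center (Matrix.SpecialLinearGroup (Fin n) F)))).Normal :=
    Subgroup.Normal.map hN'n _ (QuotientGroup.mk'_surjective _)
  rcases hmapn.eq_bot_or_eq_top with hbot | htop
  · right
    have hle : N' ≤ Subgroup.center (Matrix.SpecialLinearGroup (Fin n) F) := by
      have := (Subgroup.map_eq_bot_iff _).1 hbot
      rwa [QuotientGroup.ker_mk'] at this
    intro x hx
    obtain ⟨y, rfl⟩ : x ∈ tg.range := by rw [← hrange]; exact hN hx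
    have hy : y ∈ N' := by rw [hN', Subgroup.mem_comap]; exact hx
    obtain ⟨r, hr1, hr2⟩ := Matrix.SpecialLinearGroup.mem_center_iff.1 (hle hy)
    have hr0 : r ≠ 0 := by
      intro h0
      rw [h0, zero_pow (by rw [Fintype.card_fin]; omega)] at hr1
      exact zero_ne_one hr1
    rw [mem_scalars_iff]
    refine ⟨Units.mk0 r hr0, ?_⟩
    rw [htg, Matrix.SpecialLinearGroup.coe_GL_coe_matrix, ← hr2, Units.val_mk0]
    rw [Matrix.scalar_apply, Matrix.smul_one_eq_diagonal]
  · left
    have hsup : N' ⊔ Z = ⊤ := by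
      have h1 := congrArg (Subgroup.comap (QuotientGroup.mk' (Subgroup.center (Matrix.SpecialLinearGroup (Fin n) F)))) htop
      rw [Subgroup.comap_map_eq, QuotientGroup.ker_mk', Subgroup.comap_top] at h1
      rw [hZ]; exact h1
    have hcomm : commutator (Matrix.SpecialLinearGroup (Fin n) F) ≤ N' := by
      rw [commutator_def, Subgroup.commutator_le]
      intro a _ b _
      have ha : a ∈ ((N' ⊔ Z : Subgroup _) : Set (Matrix.SpecialLinearGroup (Fin n) F)) := by
        rw [hsup]; trivial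
      rw [Subgroup.mul_normal N' Z] at ha
      obtain ⟨m, hm, z, hz, rfl⟩ := Set.mem_mul.1 ha
      have hzc : ∀ g, g * z = z * g := by
        intro g
        have hz' : z ∈ Subgroup.center (Matrix.SpecialLinearGroup (Fin n) F) := by rw [← hZ]; exact hz
        exact Subgroup.mem_center_iff.1 hz' g
      have h1 : ⁅m * z, b⁆ = m * (b * m⁻¹ * b⁻¹) := by
        rw [commutatorElement_def, _root_.mul_inv_rev]
        calc m * z * b * (z⁻¹ * m⁻¹) * b⁻¹ = m * (z * b) * z⁻¹ * m⁻¹ * b⁻¹ := by group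
          _ = m * (b * z) * z⁻¹ * m⁻¹ * b⁻¹ := by rw [hzc b]
          _ = m * (b * m⁻¹ * b⁻¹) := by group
      rw [h1]
      exact N'.mul_mem hm (hN'n.conj_mem _ (N'.inv_mem hm) b)
    rw [hperf, top_le_iff] at hcomm
    apply le_antisymm hN
    intro x hx
    rw [hrange] at hx
    obtain ⟨y, rfl⟩ := hx
    have hy : y ∈ N' := by rw [hcomm]; trivial
    rw [hN', Subgroup.mem_comap] at hy
    exact hy

end Cfsg.Agent.Lib.Helper4.SLMLeaf
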