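import Mathlib

set_option autoImplicit false

namespace Cfsg.Agent.Lib.Helper4

universe u

open Polynomial in
theorem splits_X_pow_pred_sub_one (p : ℕ) [hp : Fact p.Prime] :
    (X ^ (p - 1) - 1 : (ZMod p)[X]).Splits := by
  have h1 : (X ^ p - X : (ZMod p)[X]).Splits := by
    rw [splits_iff_card_roots]
    have h2 := FiniteField.roots_X_pow_card_sub_X (ZMod p)
    rw [ZMod.card] at h2
    rw [h2, FiniteField.X_pow_card_sub_X_natDegree_eq _ hp.out.one_lt]
    simp [ZMod.card]
  have h0 : (X ^ p - X : (ZMod p)[X]) ≠ 0 := FiniteField.X_pow_card_sub_X_ne_zero _ hp.out.one_lt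
  refine h1.of_dvd h0 ⟨X, ?_⟩
  have h3 : (X : (ZMod p)[X]) ^ p = X ^ (p - 1) * X := by
    rw [← pow_succ, Nat.sub_add_cancel hp.out.pos]
  rw [h3]
  ring

open Polynomial in
/-- An endomorphism `T` of a nonzero finite `ZMod p`-module with `T ^ (p - 1) = 1` has an
eigenvector. -/
theorem exists_eigenvector_of_pow_pred_eq_one {p : ℕ} [hp : Fact p.Prime] {V : Type u}
    [AddCommGroup V] [Module (ZMod p) V] [Finite V] [Nontrivial V] (T : Module.End (ZMod p) V)
    (hT : T ^ (p - 1) = 1) : ∃ v : V, v ≠ 0 ∧ ∃ μ : ZMod p, T v = μ • v := by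
  have hfin : Module.Finite (ZMod p) V := Module.Finite.of_finite
  have hdvd : minpoly (ZMod p) T ∣ (X ^ (p - 1) - 1 : (ZMod p)[X]) := by
    apply minpoly.dvd
    simp [hT]
  have hne : (X ^ (p - 1) - 1 : (ZMod p)[X]) ≠ 0 := by
    have h1 := Polynomial.X_pow_sub_C_ne_zero (R := ZMod p) (n := p - 1)
      (Nat.sub_pos_of_lt hp.out.one_lt) 1
    simpa using h1
  have hms := (splits_X_pow_pred_sub_one p).of_dvd hne hdvd
  have hdeg : (minpoly (ZMod p) T).degree ≠ 0 :=
    ne_of_gt (minpoly.degree_pos (Algebra.IsIntegral.isIntegral T))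
  obtain ⟨μ, hμ⟩ := hms.exists_eval_eq_zero hdeg
  have h1 : T.HasEigenvalue μ := Module.End.hasEigenvalue_of_isRoot hμ
  obtain ⟨v, hv⟩ := h1.exists_hasEigenvector
  exact ⟨v, hv.2, μ, hv.apply_eq_smul⟩

end Cfsg.Agent.Lib.Helper4

namespace Cfsg.Agent.Lib.Helper4

universe u

/-- An endomorphism `φ` of a nontrivial finite elementary abelian `p`-group with `φ ^ (p - 1) = id`
raises some nontrivial element to a power. -/
theorem exists_eigen_hom {A : Type u} [CommGroup A] [Finite A] [Nontrivial A] {p : ℕ}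
    [hp : Fact p.Prime] (hA : ∀ a : A, a ^ p = 1) (φ : A →* A) (hφ : ∀ a, (φ^[p - 1]) a = a) :
    ∃ a : A, a ≠ 1 ∧ ∃ l : ℕ, φ a = a ^ l := by
  obtain ⟨iM⟩ : Nonempty (Module (ZMod p) (Additive A)) := ⟨AddCommGroup.zmodModule (n := p) (by
    intro x
    have h2 : p • x = Additive.ofMul ((Additive.toMul x) ^ p) := rfl
    rw [h2, hA]; rfl)⟩
  let T : Additive A →ₗ[ZMod p] Additive A := (MonoidHom.toAdditive φ).toZModLinearMap p
  have hT1 : ∀ v : Additive A, Additive.toMul (T v) = φ (Additive.toMul v) := fun v => rfl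
  have hTpow : ∀ (m : ℕ) (v : Additive A),
      Additive.toMul ((T ^ m) v) = (φ^[m]) (Additive.toMul v) := by
    intro m
    induction m with
    | zero => intro v; simp
    | succ m ih =>
      intro v
      rw [pow_succ', Module.End.mul_apply, hT1, ih, Function.iterate_succ_apply']
  have hT : T ^ (p - 1) = 1 := by
    apply LinearMap.ext
    intro v
    have h1 := hTpow (p - 1) v
    rw [hφ] at h1
    exact Additive.toMul.injective h1
  obtain ⟨v, hv0, μ, hv⟩ := exists_eigenvector_of_pow_pred_eq_one T hT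
  refine ⟨Additive.toMul v, ?_, μ.val, ?_⟩
  · intro h
    apply hv0
    exact Additive.toMul.injective h
  · have h1 := hT1 v
    rw [← h1, hv]
    have h2 : μ • v = μ.val • v := by
      conv_lhs => rw [← ZMod.natCast_zmod_val μ]
      exact Nat.cast_smul_eq_nsmul _ _ _
    rw [h2]
    rfl

end Cfsg.Agent.Lib.Helper4

namespace Cfsg.Agent.Lib.Helper4

universe u

/-- If `k` normalizes the elementary abelian `p`-subgroup `N ≠ 1` and `k ^ (p - 1)` centralizes
`N`, then conjugation by `k` raises some nontrivial element of `N` to a power. -/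
theorem exists_eigen_conj {G : Type u} [Group G] [Finite G] {p : ℕ} [hp : Fact p.Prime]
    (N : Subgroup G) (hNc : ∀ a ∈ N, ∀ b ∈ N, a * b = b * a) (hNp : ∀ a ∈ N, a ^ p = 1)
    (hN1 : N ≠ ⊥) (k : G) (hk : ∀ n ∈ N, k * n * k⁻¹ ∈ N)
    (hkc : ∀ n ∈ N, k ^ (p - 1) * n * (k ^ (p - 1))⁻¹ = n) :
    ∃ n ∈ N, n ≠ 1 ∧ ∃ l : ℕ, k * n * k⁻¹ = n ^ l := by
  letI iC : CommGroup N :=
    { (inferInstance : Group N) with mul_comm := fun a b => Subtype.ext (hNc a a.2 b b.2) }
  have hnt : Nontrivial N := (Subgroup.nontrivial_iff_ne_bot N).mpr hN1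
  let φ : N →* N :=
    { toFun := fun n => ⟨k * n.1 * k⁻¹, hk n.1 n.2⟩
      map_one' := by apply Subtype.ext; simp
      map_mul' := by
        intro a b
        apply Subtype.ext
        show k * (a.1 * b.1) * k⁻¹ = (k * a.1 * k⁻¹) * (k * b.1 * k⁻¹)
        group }
  have hφpow : ∀ (m : ℕ) (n : N), (((φ^[m]) n : N) : G) = k ^ m * n.1 * (k ^ m)⁻¹ := by
    intro m
    induction m with
    | zero => intro n; simp
    | succ m ih =>
      intro n
      rw [Function.iterate_succ_apply']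
      show k * (((φ^[m]) n : N) : G) * k⁻¹ = _
      rw [ih, pow_succ']
      group
  have hA : ∀ a : N, a ^ p = 1 := fun a => Subtype.ext (by simpa using hNp a.1 a.2)
  have hφ : ∀ a : N, (φ^[p - 1]) a = a := by
    intro a
    apply Subtype.ext
    rw [hφpow, hkc a.1 a.2]
  obtain ⟨a, ha1, l, hal⟩ := exists_eigen_hom (p := p) hA φ hφ
  refine ⟨a.1, a.2, fun h => ha1 (Subtype.ext h), l, ?_⟩
  have h1 := congrArg Subtype.val hal
  have h2 : ((φ a : N) : G) = k * a.1 * k⁻¹ := rfl
  rw [h2] at h1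
  rw [h1]
  rfl

end Cfsg.Agent.Lib.Helper4
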