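import Mathlib
import Cfsg.Prelude.Def_SolvableStructure
import Cfsg.Agent.Lib.Helper4.HereditaryCLT2
import Cfsg.Agent.Lib.Helper4.SupersolvableComm
import Cfsg.Agent.Lib.Helper1.Coprime

set_option autoImplicit false
open Cfsg

namespace Cfsg.Agent.Lib.Helper4

universe u v

/-- The smallest normal subgroup with quotient abelian of exponent dividing `p - 1`. -/
def pAbResidual (p : ℕ) (G : Type u) [Group G] : Subgroup G :=
  Subgroup.closure {x : G | (∃ a b : G, x = a * b * a⁻¹ * b⁻¹) ∨ ∃ g : G, x = g ^ (p - 1)}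

theorem pAbResidual_map_le {G : Type u} {G' : Type v} [Group G] [Group G'] (p : ℕ) (f : G →* G') :
    (pAbResidual p G).map f ≤ pAbResidual p G' := by
  unfold pAbResidual
  rw [MonoidHom.map_closure, Subgroup.closure_le]
  rintro _ ⟨x, hx, rfl⟩
  apply Subgroup.subset_closure
  rcases hx with ⟨a, b, rfl⟩ | ⟨g, rfl⟩
  · left; exact ⟨f a, f b, by simp⟩
  · right; exact ⟨f g, by simp⟩

theorem pAbResidual_le_centralizer_of_card_prime {G : Type u} [Group G] {p : ℕ} [hp : Fact p.Prime]
    (L : Subgroup G) [L.Normal] (hL : Nat.card L = p) :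
    pAbResidual p G ≤ Subgroup.centralizer (L : Set G) := by
  have hfin : Finite L := Nat.finite_of_card_ne_zero (by rw [hL]; exact hp.out.ne_zero)
  have hcyc : IsCyclic L := isCyclic_of_prime_card hL
  have hcard : Nat.card (MulAut L) = p - 1 := by
    rw [IsCyclic.card_mulAut, hL, Nat.totient_prime hp.out]
  unfold pAbResidual
  rw [Subgroup.closure_le]
  rintro x (⟨a, b, rfl⟩ | ⟨g, rfl⟩)
  · apply commutator_le_centralizer_of_cyclic_normal L
    rw [commutator_def]
    have := Subgroup.commutator_mem_commutator (Subgroup.mem_top a) (Subgroup.mem_top b)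
    rwa [commutatorElement_def] at this
  · have h1 : MulAut.conjNormal (H := L) (g ^ (p - 1)) = 1 := by
      rw [map_pow, ← hcard]
      exact pow_card_eq_one'
    show g ^ (p - 1) ∈ Subgroup.centralizer (L : Set G)
    rw [Subgroup.mem_centralizer_iff]
    intro x hx
    have h2 : ((MulAut.conjNormal (H := L) (g ^ (p - 1)) ⟨x, hx⟩ : L) : G) = x := by rw [h1]; rfl
    rw [MulAut.conjNormal_apply] at h2
    calc x * g ^ (p - 1) = (g ^ (p - 1) * x * (g ^ (p - 1))⁻¹) * g ^ (p - 1) := by rw [h2]
      _ = g ^ (p - 1) * x := by group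

/-- In a supersolvable group, `p'`-subgroups of the `(p-1)`-abelian residual centralize normal
`p`-subgroups. -/
theorem le_centralizer_of_le_pAbResidual_aux (p : ℕ) [hp : Fact p.Prime] :
    ∀ (n : ℕ) (G : Type u) [Group G] [Finite G], Nat.card G = n → IsSupersolvable G →
    ∀ (P : Subgroup G), P.Normal → IsPGroup p P → ∀ Y : Subgroup G, Y ≤ pAbResidual p G →
      (Nat.card Y).Coprime p → Y ≤ Subgroup.centralizer (P : Set G) := by
  intro n
  induction n using Nat.strong_induction_on with
  | _ n ih =>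
  intro G _ _ hn hG P hPn hP Y hY hYp
  have := hPn
  by_cases hP1 : P = ⊥
  · rw [hP1]
    intro y _
    rw [Subgroup.mem_centralizer_iff]
    intro x hx
    rw [Subgroup.coe_bot, Set.mem_singleton_iff] at hx
    rw [hx, one_mul, mul_one]
  obtain ⟨L, hLn, hLprime, hLP⟩ := exists_normal_prime_card_le_of_isSupersolvable hG P hP1
  have := hLn
  have hLcard : Nat.card L = p := by
    obtain ⟨k, hk⟩ := IsPGroup.iff_card.mp (hP.to_le hLP)
    rw [hk] at hLprime ⊢
    have hk0 : k ≠ 0 := by
      rintro rfl
      rw [pow_zero] at hLprime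
      exact Nat.not_prime_one hLprime
    rcases (Nat.dvd_prime hLprime).mp (dvd_pow_self p hk0) with h | h
    · exact absurd h hp.out.one_lt.ne'
    · exact h.symm
  have hLY : Y ≤ Subgroup.centralizer (L : Set G) :=
    hY.trans (pAbResidual_le_centralizer_of_card_prime L hLcard)
  -- the quotient by `L`
  have hcardQ : Nat.card (G ⧸ L) < n := by
    rw [← hn]
    exact card_quotient_lt_of_ne_bot' L (by
      intro h
      rw [h, Subgroup.card_bot] at hLcard
      exact hp.out.one_lt.ne hLcard)
  have hQ := ih _ hcardQ (G ⧸ L) rfl (isSupersolvable_quotient hG L)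
    (P.map (QuotientGroup.mk' L)) (Subgroup.Normal.map hPn _ (QuotientGroup.mk'_surjective L))
    (hP.map _) (Y.map (QuotientGroup.mk' L))
    ((Subgroup.map_mono hY).trans (pAbResidual_map_le p _))
    (Nat.Coprime.coprime_dvd_left (Subgroup.card_map_dvd Y (QuotientGroup.mk' L)) hYp)
  have hcopYL : Nat.Coprime (Nat.card Y) (Nat.card L) := by rw [hLcard]; exact hYp
  have hLcyc : IsCyclic L := isCyclic_of_prime_card hLcard
  have hLsolv : Group.IsSolvable L := by
    have := IsCyclic.isMulCommutative (α := L)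
    let _ : CommGroup L := { (inferInstance : Group L) with mul_comm := fun a b => mul_comm' a b }
    infer_instance
  have hYL : Y ≤ Subgroup.normalizer (L : Set G) := by
    rw [Subgroup.normalizer_eq_top_iff.mpr hLn]; exact le_top
  intro y hy
  rw [Subgroup.mem_centralizer_iff]
  intro x hx
  -- `x` lies in `C(Y) L ⊆ C(Y)`
  have hxc : x ∈ Subgroup.centralizer (Y : Set G) := by
    obtain ⟨l, hl, hxl⟩ := Cfsg.Agent.Lib.Helper1.exists_mul_mem_centralizer hYL hcopYL
      (Or.inr hLsolv) x (by
        intro a ha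
        have h1 := (Subgroup.mem_centralizer_iff.mp (hQ ⟨a, ha, rfl⟩))
          (QuotientGroup.mk' L x) ⟨x, hx, rfl⟩
        rw [← QuotientGroup.eq_one_iff, QuotientGroup.mk_mul, QuotientGroup.mk_mul,
          QuotientGroup.mk_mul, QuotientGroup.mk_inv, QuotientGroup.mk_inv]
        simp only [QuotientGroup.mk'_apply] at h1
        rw [mul_assoc (x : G ⧸ L)⁻¹, ← h1]
        group)
    have hlc : l ∈ Subgroup.centralizer (Y : Set G) := by
      rw [Subgroup.mem_centralizer_iff]
      intro a ha
      exact ((Subgroup.mem_centralizer_iff.mp (hLY ha)) l hl).symm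
    have : x = (x * l) * l⁻¹ := by group
    rw [this]
    exact Subgroup.mul_mem _ hxl (Subgroup.inv_mem _ hlc)
  exact ((Subgroup.mem_centralizer_iff.mp hxc) y hy).symm

theorem le_centralizer_of_le_pAbResidual {G : Type u} [Group G] [Finite G] (p : ℕ) [Fact p.Prime]
    (hG : IsSupersolvable G) (P : Subgroup G) [hPn : P.Normal] (hP : IsPGroup p P)
    (Y : Subgroup G) (hY : Y ≤ pAbResidual p G) (hYp : (Nat.card Y).Coprime p) :
    Y ≤ Subgroup.centralizer (P : Set G) :=
  le_centralizer_of_le_pAbResidual_aux p _ G rfl hG P hPn hP Y hY hYp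

end Cfsg.Agent.Lib.Helper4
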