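import Mathlib
import Cfsg.Prelude.Def_SolvableStructure
import Cfsg.Agent.Lib.Helper4.Huppert
import Cfsg.Agent.Lib.Helper4.Huppert2
import Cfsg.Agent.Lib.Helper4.Eigen
import Cfsg.Agent.Lib.Helper1.MinNormal
import Cfsg.Agent.Lib.Helper12.Basic
import Cfsg.Agent.Lib.Helper17.Basic

set_option autoImplicit false
open Cfsg

namespace Cfsg.Agent.Lib.Helper4

universe u

open Cfsg.Agent.Lib.Helper1 in
/-- A minimal normal abelian subgroup not contained in a maximal subgroup `M` has order `|G : M|`. -/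
theorem card_eq_index_of_minNormal_not_le {G : Type u} [Group G] [Finite G] {N : Subgroup G}
    (hN : IsMinNormal N) (hNc : ∀ a ∈ N, ∀ b ∈ N, a * b = b * a) (M : Subgroup G) (hM : IsCoatom M)
    (hNM : ¬ N ≤ M) : Nat.card N = M.index := by
  obtain ⟨hNn, hN1, hmin⟩ := hN
  have := hNn
  have hsup : N ⊔ M = ⊤ := by
    by_contra hne
    have h1 : M < N ⊔ M := lt_of_le_of_ne le_sup_right (fun h => hNM (h ▸ le_sup_left))
    exact hne (hM.2 _ h1)
  have hinfn : (N ⊓ M).Normal := by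
    rw [← Subgroup.normalizer_eq_top_iff, eq_top_iff, ← hsup]
    apply sup_le
    · intro n hn
      apply Cfsg.Agent.Lib.Helper17.mem_normalizer_of_forall_conj_mem
      intro x hx
      have hxN := (Subgroup.mem_inf.mp hx).1
      have : n * x * n⁻¹ = x := by rw [hNc n hn x hxN, mul_assoc, mul_inv_cancel, mul_one]
      rw [this]; exact hx
    · intro m hm
      apply Cfsg.Agent.Lib.Helper17.mem_normalizer_of_forall_conj_mem
      intro x hx
      obtain ⟨hxN, hxM⟩ := Subgroup.mem_inf.mp hx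
      exact Subgroup.mem_inf.mpr ⟨hNn.conj_mem x hxN m, M.mul_mem (M.mul_mem hm hxM) (M.inv_mem hm)⟩
  have hinf : N ⊓ M = ⊥ := by
    rcases hmin _ hinfn inf_le_left with h | h
    · exact h
    · exact absurd (h ▸ inf_le_right : N ≤ M) hNM
  have hcompl : Subgroup.IsComplement' N M := by
    apply Subgroup.isComplement'_of_disjoint_and_mul_eq_univ (disjoint_iff.mpr hinf)
    rw [← Subgroup.normal_mul, hsup, Subgroup.coe_top]
  exact hcompl.index_eq_card.symm

/-- A subgroup normalized elementwise by `P` and `K` with `P ⊔ K = ⊤` is normal. -/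
theorem normal_of_forall_conj_mem_sup {G : Type u} [Group G] [Finite G] (P K E : Subgroup G)
    (hPK : P ⊔ K = ⊤) (hP : ∀ u ∈ P, ∀ m ∈ E, u * m * u⁻¹ ∈ E)
    (hK : ∀ k ∈ K, ∀ m ∈ E, k * m * k⁻¹ ∈ E) : E.Normal := by
  rw [← Subgroup.normalizer_eq_top_iff, eq_top_iff, ← hPK]
  apply sup_le
  · intro u hu
    exact Cfsg.Agent.Lib.Helper17.mem_normalizer_of_forall_conj_mem E u (hP u hu)
  · intro k hk
    exact Cfsg.Agent.Lib.Helper17.mem_normalizer_of_forall_conj_mem E k (hK k hk)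

end Cfsg.Agent.Lib.Helper4

namespace Cfsg.Agent.Lib.Helper4

universe u

theorem pAbResidual_normal (p : ℕ) (K : Type u) [Group K] : (pAbResidual p K).Normal := by
  constructor
  intro n hn g
  unfold pAbResidual at hn ⊢
  induction hn using Subgroup.closure_induction with
  | mem y hy =>
    apply Subgroup.subset_closure
    rcases hy with ⟨a, b, rfl⟩ | ⟨h, rfl⟩
    · left
      exact ⟨g * a * g⁻¹, g * b * g⁻¹, by group⟩
    · right
      exact ⟨g * h * g⁻¹, by rw [conj_pow]⟩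
  | one => simp
  | mul x y _ _ hx hy =>
    have : g * (x * y) * g⁻¹ = (g * x * g⁻¹) * (g * y * g⁻¹) := by group
    rw [this]; exact Subgroup.mul_mem _ hx hy
  | inv x _ hx =>
    have : g * x⁻¹ * g⁻¹ = (g * x * g⁻¹)⁻¹ := by group
    rw [this]; exact Subgroup.inv_mem _ hx

/-- the image in `G` of the `(p-1)`-abelian residual of a subgroup `K` -/
def pAbResidualOf (p : ℕ) {G : Type u} [Group G] (K : Subgroup G) : Subgroup G :=
  (pAbResidual p K).map K.subtype

theorem pAbResidualOf_le {p : ℕ} {G : Type u} [Group G] (K : Subgroup G) : pAbResidualOf p K ≤ K :=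
  Subgroup.map_subtype_le _

theorem pAbResidualOf_le_pAbResidual {p : ℕ} {G : Type u} [Group G] (K : Subgroup G) :
    pAbResidualOf p K ≤ pAbResidual p G :=
  pAbResidual_map_le p K.subtype

theorem conj_mem_pAbResidualOf {p : ℕ} {G : Type u} [Group G] (K : Subgroup G) {k x : G}
    (hk : k ∈ K) (hx : x ∈ pAbResidualOf p K) : k * x * k⁻¹ ∈ pAbResidualOf p K := by
  obtain ⟨y, hy, rfl⟩ := hx
  exact ⟨⟨k, hk⟩ * y * ⟨k, hk⟩⁻¹, (pAbResidual_normal p K).conj_mem y hy ⟨k, hk⟩, by simp⟩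

theorem pow_pred_mem_pAbResidualOf {p : ℕ} {G : Type u} [Group G] (K : Subgroup G) {k : G}
    (hk : k ∈ K) : k ^ (p - 1) ∈ pAbResidualOf p K := by
  refine ⟨⟨k, hk⟩ ^ (p - 1), Subgroup.subset_closure (Or.inr ⟨⟨k, hk⟩, rfl⟩), by simp⟩

theorem comm_mem_pAbResidualOf {p : ℕ} {G : Type u} [Group G] (K : Subgroup G) {a b : G}
    (ha : a ∈ K) (hb : b ∈ K) : a * b * a⁻¹ * b⁻¹ ∈ pAbResidualOf p K := by
  refine ⟨⟨a, ha⟩ * ⟨b, hb⟩ * ⟨a, ha⟩⁻¹ * ⟨b, hb⟩⁻¹,
    Subgroup.subset_closure (Or.inl ⟨⟨a, ha⟩, ⟨b, hb⟩, rfl⟩), by simp⟩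

end Cfsg.Agent.Lib.Helper4

namespace Cfsg.Agent.Lib.Helper4

universe u

theorem le_centralizer_pAbResidualOf_of_le_frattini {G : Type u} [Group G] [Finite G] {p : ℕ}
    [hp : Fact p.Prime] (P K N : Subgroup G) [hPn : P.Normal] [hNn : N.Normal]
    (hK : (Nat.card K).Coprime p) (hPK : P ⊔ K = ⊤) (hinf : P ⊓ K = ⊥) (hNP : N ≤ P)
    (hNpg : IsPGroup p N) (hNsolv : Group.IsSolvable N)
    (hQ : ∀ x ∈ P, ∀ a ∈ pAbResidualOf p K, x⁻¹ * a * x * a⁻¹ ∈ N) (hΦ : N ≤ frattini G) :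
    P ≤ Subgroup.centralizer (pAbResidualOf p K : Set G) := by
  set X := pAbResidualOf p K with hX
  have hXK : X ≤ K := pAbResidualOf_le K
  have hXcop : Nat.Coprime (Nat.card X) (Nat.card N) := by
    obtain ⟨j, hj⟩ := IsPGroup.iff_card.mp hNpg
    rw [hj]
    apply Nat.Coprime.pow_right
    exact Nat.Coprime.coprime_dvd_left (Subgroup.card_dvd_of_le hXK) hK
  have hXN : X ≤ Subgroup.normalizer (N : Set G) := by
    rw [Subgroup.normalizer_eq_top_iff.mpr hNn]; exact le_top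
  have key : ∀ x ∈ P, ∃ n ∈ N, x * n ∈ Subgroup.centralizer (X : Set G) := fun x hx =>
    Cfsg.Agent.Lib.Helper1.exists_mul_mem_centralizer hXN hXcop (Or.inr hNsolv) x (hQ x hx)
  set C₀ : Subgroup G := P ⊓ Subgroup.centralizer (X : Set G) with hC₀
  have hKC₀ : K ≤ Subgroup.normalizer (C₀ : Set G) := by
    intro k hk
    apply Cfsg.Agent.Lib.Helper17.mem_normalizer_of_forall_conj_mem
    intro c hc
    obtain ⟨hcP, hcX⟩ := Subgroup.mem_inf.mp hc
    refine Subgroup.mem_inf.mpr ⟨hPn.conj_mem c hcP k, ?_⟩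
    rw [Subgroup.mem_centralizer_iff]
    intro a ha
    have ha' : k⁻¹ * a * k⁻¹⁻¹ ∈ X := conj_mem_pAbResidualOf K (K.inv_mem hk) ha
    have h1 := (Subgroup.mem_centralizer_iff.mp hcX) _ ha'
    rw [inv_inv] at h1
    calc a * (k * c * k⁻¹) = k * ((k⁻¹ * a * k) * c) * k⁻¹ := by group
      _ = k * (c * (k⁻¹ * a * k)) * k⁻¹ := by rw [h1]
      _ = k * c * k⁻¹ * a := by group
  have htop : C₀ ⊔ K = ⊤ := by
    apply frattini_nongenerating
    rw [eq_top_iff]
    intro g _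
    have hg : g ∈ ((P ⊔ K : Subgroup G) : Set G) := by rw [hPK]; trivial
    rw [Subgroup.normal_mul] at hg
    obtain ⟨x, hx, k, hk, rfl⟩ := hg
    obtain ⟨n, hn, hxn⟩ := key x hx
    have hxnC : x * n ∈ C₀ := Subgroup.mem_inf.mpr ⟨P.mul_mem hx (hNP hn), hxn⟩
    have e : x * k = (x * n) * n⁻¹ * k := by group
    show x * k ∈ C₀ ⊔ K ⊔ frattini G
    rw [e]
    refine Subgroup.mul_mem _ (Subgroup.mul_mem _ ?_ ?_) ?_
    · exact (le_sup_left.trans le_sup_left : C₀ ≤ C₀ ⊔ K ⊔ frattini G) hxnC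
    · exact (le_sup_right : frattini G ≤ C₀ ⊔ K ⊔ frattini G) (hΦ (N.inv_mem hn))
    · exact (le_sup_right.trans le_sup_left : K ≤ C₀ ⊔ K ⊔ frattini G) hk
  intro x hx
  have hx' : x ∈ ((K ⊔ C₀ : Subgroup G) : Set G) := by rw [sup_comm, htop]; trivial
  rw [Subgroup.coe_mul_of_left_le_normalizer_right K C₀ hKC₀] at hx'
  obtain ⟨k, hk, c, hc, rfl⟩ := hx'
  have hx : k * c ∈ P := hx
  have hkP : k ∈ P := by
    have : k = (k * c) * c⁻¹ := by group
    rw [this]
    exact P.mul_mem hx (P.inv_mem (Subgroup.mem_inf.mp hc).1)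
  have hk1 : k = 1 := by
    have : k ∈ P ⊓ K := Subgroup.mem_inf.mpr ⟨hkP, hk⟩
    rw [hinf] at this
    exact Subgroup.mem_bot.mp this
  show k * c ∈ Subgroup.centralizer (X : Set G)
  rw [hk1, one_mul]
  exact (Subgroup.mem_inf.mp hc).2

end Cfsg.Agent.Lib.Helper4

namespace Cfsg.Agent.Lib.Helper4

universe u

open Cfsg.Agent.Lib.Helper1 in
theorem isCyclic_minNormal_of_centralizes {G : Type u} [Group G] [Finite G] {p : ℕ}
    [hp : Fact p.Prime] (P K N : Subgroup G) [hPn : P.Normal] (hP : IsPGroup p P)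
    (hPK : P ⊔ K = ⊤) (hN : IsMinNormal N) (hNP : N ≤ P)
    (hNc : ∀ a ∈ N, ∀ b ∈ N, a * b = b * a) (hNp : ∀ a ∈ N, a ^ p = 1)
    (hX : P ≤ Subgroup.centralizer (pAbResidualOf p K : Set G)) : IsCyclic N := by
  obtain ⟨hNn, hN1, hmin⟩ := hN
  have := hNn
  -- `P` centralizes `N`
  have hNcent : ∀ u ∈ P, ∀ m ∈ N, u * m * u⁻¹ = m := by
    have hn : (N ⊓ Subgroup.centralizer (P : Set G)).Normal := inferInstance
    have hne : N ⊓ Subgroup.centralizer (P : Set G) ≠ ⊥ := by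
      have h1 : (N.subgroupOf P) ≠ ⊥ := by
        intro h
        rw [Subgroup.subgroupOf_eq_bot, disjoint_iff, inf_eq_left.mpr hNP] at h
        exact hN1 h
      obtain ⟨x, hxN, hx1, hxc⟩ :=
        Cfsg.Agent.Lib.Helper12.exists_ne_one_mem_center_of_normal hP (N.subgroupOf P) h1
      intro hbot
      apply hx1
      have h2 : (x : G) ∈ N ⊓ Subgroup.centralizer (P : Set G) := by
        refine Subgroup.mem_inf.mpr ⟨Subgroup.mem_subgroupOf.mp hxN, ?_⟩
        rw [Subgroup.mem_centralizer_iff]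
        intro u hu
        have := Subgroup.mem_center_iff.mp hxc ⟨u, hu⟩
        exact congrArg Subtype.val this
      rw [hbot, Subgroup.mem_bot] at h2
      exact Subtype.ext h2
    have h3 : N ⊓ Subgroup.centralizer (P : Set G) = N := by
      rcases hmin _ hn inf_le_left with h | h
      · exact absurd h hne
      · exact h
    intro u hu m hm
    have hm' : m ∈ N ⊓ Subgroup.centralizer (P : Set G) := by rw [h3]; exact hm
    have h4 := (Subgroup.mem_centralizer_iff.mp (Subgroup.mem_inf.mp hm').2) u hu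
    rw [h4, mul_assoc, mul_inv_cancel, mul_one]
  -- `X` centralizes `N`
  have hXN : ∀ a ∈ pAbResidualOf p K, ∀ m ∈ N, a * m * a⁻¹ = m := by
    intro a ha m hm
    have h1 := (Subgroup.mem_centralizer_iff.mp (hX (hNP hm))) a ha
    rw [h1, mul_assoc, mul_inv_cancel, mul_one]
  -- each `k ∈ K` acts on `N` as a power map
  have hscalar : ∀ k ∈ K, ∃ l : ℕ, ∀ m ∈ N, k * m * k⁻¹ = m ^ l := by
    intro k hk
    obtain ⟨n₁, hn₁N, hn₁1, l, hl⟩ := exists_eigen_conj N hNc hNp hN1 k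
      (fun n hn => hNn.conj_mem n hn k)
      (fun n hn => hXN _ (pow_pred_mem_pAbResidualOf K hk) n hn)
    refine ⟨l, ?_⟩
    let E : Subgroup G :=
      { carrier := {m | m ∈ N ∧ k * m * k⁻¹ = m ^ l}
        one_mem' := ⟨N.one_mem, by simp⟩
        mul_mem' := by
          rintro a b ⟨haN, ha⟩ ⟨hbN, hb⟩
          refine ⟨N.mul_mem haN hbN, ?_⟩
          have hab : Commute a b := hNc a haN b hbN
          rw [hab.mul_pow, ← ha, ← hb]
          group
        inv_mem' := by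
          rintro a ⟨haN, ha⟩
          refine ⟨N.inv_mem haN, ?_⟩
          rw [inv_pow, ← ha]
          group }
    have hEN : E ≤ N := fun m hm => hm.1
    have hEn : E.Normal := by
      apply normal_of_forall_conj_mem_sup P K E hPK
      · intro u hu m hm
        rw [hNcent u hu m hm.1]; exact hm
      · intro k' hk' m hm
        obtain ⟨hmN, hmk⟩ := hm
        refine ⟨hNn.conj_mem m hmN k', ?_⟩
        have hd : k⁻¹ * k'⁻¹ * k⁻¹⁻¹ * k'⁻¹⁻¹ ∈ pAbResidualOf p K :=
          comm_mem_pAbResidualOf K (K.inv_mem hk) (K.inv_mem hk')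
        have h1 := hXN _ hd m hmN
        rw [conj_pow, ← hmk]
        calc k * (k' * m * k'⁻¹) * k⁻¹
            = k' * (k * ((k⁻¹ * k'⁻¹ * k⁻¹⁻¹ * k'⁻¹⁻¹) * m * (k⁻¹ * k'⁻¹ * k⁻¹⁻¹ * k'⁻¹⁻¹)⁻¹) * k⁻¹) * k'⁻¹ := by
              group
          _ = k' * (k * m * k⁻¹) * k'⁻¹ := by rw [h1]
    have hE1 : E ≠ ⊥ := by
      intro h
      have : n₁ ∈ E := ⟨hn₁N, hl⟩
      rw [h, Subgroup.mem_bot] at this
      exact hn₁1 this
    have hEeq : E = N := by
      rcases hmin E hEn hEN with h | h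
      · exact absurd h hE1
      · exact h
    intro m hm
    have : m ∈ E := by rw [hEeq]; exact hm
    exact this.2
  -- a nontrivial cyclic subgroup of `N` is normal
  obtain ⟨n₀, hn₀N, hn₀1⟩ : ∃ n₀ ∈ N, n₀ ≠ 1 := by
    by_contra hcon
    push Not at hcon
    exact hN1 ((Subgroup.eq_bot_iff_forall N).mpr hcon)
  have hZN : Subgroup.zpowers n₀ ≤ N := by
    rw [Subgroup.zpowers_le]; exact hn₀N
  have hZn : (Subgroup.zpowers n₀).Normal := by
    apply normal_of_forall_conj_mem_sup P K _ hPK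
    · intro u hu z hz
      rw [hNcent u hu z (hZN hz)]; exact hz
    · intro k hk z hz
      obtain ⟨l, hl⟩ := hscalar k hk
      rw [hl z (hZN hz)]
      exact Subgroup.pow_mem _ hz l
  have hZ1 : Subgroup.zpowers n₀ ≠ ⊥ := by
    intro h
    rw [Subgroup.zpowers_eq_bot] at h
    exact hn₀1 h
  have hZeq : Subgroup.zpowers n₀ = N := by
    rcases hmin _ hZn hZN with h | h
    · exact absurd h hZ1
    · exact h
  rw [← hZeq]
  infer_instance

end Cfsg.Agent.Lib.Helper4
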