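import Mathlib
import Cfsg.Prelude.Def_SolvableStructure
import Cfsg.Agent.Lib.Helper4.Huppert3

set_option autoImplicit false
open Cfsg

namespace Cfsg.Agent.Lib.Helper4

universe u

open Cfsg.Agent.Lib.Helper1 in
/-- **Huppert**: all maximal subgroups of prime index implies supersolvable. -/
theorem isSupersolvable_of_prime_index_aux : ∀ (n : ℕ) (G : Type u) [Group G] [Finite G],
    Nat.card G = n → (∀ M : Subgroup G, IsCoatom M → M.index.Prime) → IsSupersolvable G := by
  intro n
  induction n using Nat.strong_induction_on with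
  | _ n ih =>
  intro G _ _ hn h
  by_cases h1 : Nat.card G = 1
  · have : Subsingleton G := (Nat.card_eq_one_iff_unique.mp h1).1
    exact isSupersolvable_of_subsingleton
  have hpos : 0 < Nat.card G := Nat.card_pos
  have hne : (Nat.card G).primeFactors.Nonempty := by
    rw [Nat.nonempty_primeFactors]; omega
  set p := (Nat.card G).primeFactors.max' hne with hp
  have hpmem : p ∈ (Nat.card G).primeFactors := Finset.max'_mem _ hne
  have hpprime : p.Prime := Nat.prime_of_mem_primeFactors hpmem
  have hpdvd : p ∣ Nat.card G := Nat.dvd_of_mem_primeFactors hpmem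
  have : Fact p.Prime := ⟨hpprime⟩
  have hmax : ∀ q : ℕ, q.Prime → q ∣ Nat.card G → q ≤ p := by
    intro q hq hqd
    apply Finset.le_max'
    exact Nat.mem_primeFactors.mpr ⟨hq, hqd, by omega⟩
  let P : Sylow p G := default
  have hPn : (P : Subgroup G).Normal := sylow_normal_of_prime_index h hmax P
  have hPne : (P : Subgroup G) ≠ ⊥ := P.ne_bot_of_dvd_card hpdvd
  have hsolv : Group.IsSolvable G := isSolvable_of_prime_index h
  obtain ⟨N, hN, hNP⟩ := exists_isMinNormal_le (P : Subgroup G) hPn hPne
  have hNn : N.Normal := hN.1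
  have hN1 : N ≠ ⊥ := hN.2.1
  have hNcomm : IsMulCommutative N := hN.isMulCommutative
  have hNc : ∀ a ∈ N, ∀ b ∈ N, a * b = b * a := fun a ha b hb =>
    congrArg Subtype.val (mul_comm' (⟨a, ha⟩ : N) ⟨b, hb⟩)
  have hNpg : IsPGroup p N := P.2.to_le hNP
  have hNp : ∀ a ∈ N, a ^ p = 1 := by
    obtain ⟨q, hq, hqN⟩ := hN.exists_prime_pow_eq_one
    obtain ⟨n₀, hn₀N, hn₀1⟩ : ∃ n₀ ∈ N, n₀ ≠ 1 := by
      by_contra hcon
      push Not at hcon
      exact hN1 ((Subgroup.eq_bot_iff_forall N).mpr hcon)
    have : Fact q.Prime := ⟨hq⟩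
    have h2 : orderOf n₀ = q := orderOf_eq_prime (hqN n₀ hn₀N) hn₀1
    obtain ⟨j, hj⟩ := (IsPGroup.iff_orderOf.mp P.2) ⟨n₀, hNP hn₀N⟩
    rw [Subgroup.orderOf_mk, h2] at hj
    have hqp : q = p := by
      have hj0 : j ≠ 0 := by
        rintro rfl
        rw [pow_zero] at hj
        exact hq.one_lt.ne' hj
      have h3 : p ∣ q := hj ▸ dvd_pow_self p hj0
      exact ((Nat.prime_dvd_prime_iff_eq hpprime hq).mp h3).symm
    rw [← hqp]; exact hqN
  -- the quotient is supersolvable
  have hcardlt : Nat.card (G ⧸ N) < n := by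
    rw [← hn]
    exact card_quotient_lt_of_ne_bot' N hN1
  have hQ : IsSupersolvable (G ⧸ N) := ih _ hcardlt (G ⧸ N) rfl (prime_index_quotient h N)
  suffices hcyc : IsCyclic N from isSupersolvable_of_cyclic_normal N hQ
  -- a complement of `P`
  obtain ⟨K, hK⟩ := Subgroup.exists_right_complement'_of_coprime P.card_coprime_index
  have hPK : (P : Subgroup G) ⊔ K = ⊤ := hK.sup_eq_top
  have hinf : (P : Subgroup G) ⊓ K = ⊥ := hK.disjoint.eq_bot
  have hKcop : (Nat.card K).Coprime p := by
    rw [← hK.symm.index_eq_card]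
    exact (Nat.Prime.coprime_iff_not_dvd hpprime).mpr P.not_dvd_index |>.symm
  by_cases hΦ : N ≤ frattini G
  · -- Frattini case
    have hXcop : (Nat.card (pAbResidualOf p K)).Coprime p :=
      Nat.Coprime.coprime_dvd_left (Subgroup.card_dvd_of_le (pAbResidualOf_le K)) hKcop
    have hcent := le_centralizer_of_le_pAbResidual p hQ
      ((P : Subgroup G).map (QuotientGroup.mk' N))
      (hPn := Subgroup.Normal.map hPn _ (QuotientGroup.mk'_surjective N)) (P.2.map _)
      ((pAbResidualOf p K).map (QuotientGroup.mk' N))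
      ((Subgroup.map_mono (pAbResidualOf_le_pAbResidual K)).trans (pAbResidual_map_le p _))
      (Nat.Coprime.coprime_dvd_left (Subgroup.card_map_dvd _ (QuotientGroup.mk' N)) hXcop)
    have hQ' : ∀ x ∈ (P : Subgroup G), ∀ a ∈ pAbResidualOf p K, x⁻¹ * a * x * a⁻¹ ∈ N := by
      intro x hx a ha
      have h1 := (Subgroup.mem_centralizer_iff.mp (hcent ⟨a, ha, rfl⟩))
        (QuotientGroup.mk' N x) ⟨x, hx, rfl⟩
      rw [← QuotientGroup.eq_one_iff, QuotientGroup.mk_mul, QuotientGroup.mk_mul,
        QuotientGroup.mk_mul, QuotientGroup.mk_inv, QuotientGroup.mk_inv]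
      simp only [QuotientGroup.mk'_apply] at h1
      rw [mul_assoc (x : G ⧸ N)⁻¹, ← h1]
      group
    have hNsolv : Group.IsSolvable N := by
      let _ : CommGroup N := { (inferInstance : Group N) with mul_comm := fun a b => mul_comm' a b }
      infer_instance
    have hX := le_centralizer_pAbResidualOf_of_le_frattini (P : Subgroup G) K N hKcop hPK hinf hNP
      hNpg hNsolv hQ' hΦ
    exact isCyclic_minNormal_of_centralizes (P : Subgroup G) K N P.2 hPK hN hNP hNc hNp hX
  · -- non-Frattini case
    have hex : ∃ M : Subgroup G, IsCoatom M ∧ ¬ N ≤ M := by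
      by_contra hcon
      push Not at hcon
      apply hΦ
      unfold frattini Order.radical
      exact le_iInf₂ hcon
    obtain ⟨M, hM, hNM⟩ := hex
    have hcard := card_eq_index_of_minNormal_not_le hN hNc M hM hNM
    have hprime := h M hM
    rw [← hcard] at hprime
    have : Fact (Nat.card N).Prime := ⟨hprime⟩
    exact isCyclic_of_prime_card rfl

theorem isSupersolvable_of_prime_index {G : Type u} [Group G] [Finite G]
    (h : ∀ M : Subgroup G, IsCoatom M → M.index.Prime) : IsSupersolvable G :=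
  isSupersolvable_of_prime_index_aux _ G rfl h

end Cfsg.Agent.Lib.Helper4
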