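import Mathlib

/-!
# S4551 leaf L1 (helper4): every coset of `N` contains a `p`-regular element of `C_G(P)`.
-/

set_option autoImplicit false

namespace Cfsg.Agent.Lib.Helper4.AlpDade

universe u
variable {G : Type u} [Group G] [Finite G]

/-- For `x` in a finite group and `k` prime to `p`, some power `c` of `x` is `p`-regular and
`x⁻¹ * c` is a power of `x ^ k`. -/
theorem exists_pRegular_pow (p : ℕ) [hp : Fact p.Prime] (x : G) (k : ℕ) (hk : ¬ p ∣ k)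
    (hk0 : k ≠ 0) :
    ∃ (e t : ℕ), ¬ p ∣ orderOf (x ^ e) ∧ x ^ e = x * (x ^ k) ^ t := by
  classical
  have ho : orderOf x ≠ 0 := (orderOf_pos x).ne'
  set A := (orderOf x).factorization p with hA
  have hcop : Nat.Coprime (p ^ A) k :=
    Nat.Coprime.pow_left _ ((Nat.Prime.coprime_iff_not_dvd hp.out).2 hk)
  -- the `p'`-part
  have hreg : ∀ u : ℕ, ¬ p ∣ orderOf (x ^ (p ^ A * u)) := by
    intro u hdiv
    have h1 : orderOf (x ^ (p ^ A * u)) ∣ orderOf (x ^ (p ^ A)) := by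
      rw [pow_mul]; exact orderOf_pow_dvd u
    have h2 : orderOf (x ^ (p ^ A)) = orderOf x / p ^ A := by
      rw [orderOf_pow' x (pow_pos hp.out.pos A).ne']
      congr 1
      exact Nat.gcd_eq_right (Nat.ordProj_dvd _ _)
    have h3 : ¬ p ∣ orderOf x / p ^ A := Nat.not_dvd_ordCompl hp.out ho
    exact h3 (h2 ▸ (hdiv.trans h1))
  rcases Nat.lt_or_ge 1 k with h1k | h1k
  · obtain ⟨u, -, hu⟩ := Nat.exists_mul_mod_eq_one_of_coprime hcop h1k
    refine ⟨p ^ A * u, (p ^ A * u) / k, hreg u, ?_⟩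
    have hdm := Nat.div_add_mod (p ^ A * u) k
    rw [hu] at hdm
    rw [← pow_mul, ← pow_succ']
    congr 1
    omega
  · have hk1 : k = 1 := by omega
    subst hk1
    -- `x ^ (p^A * 0) = 1 = x * x ^ (orderOf x - 1)`
    refine ⟨p ^ A * 0, orderOf x - 1, hreg 0, ?_⟩
    rw [pow_one, ← pow_succ', Nat.sub_add_cancel (orderOf_pos x), pow_orderOf_eq_one]
    simp

theorem exists_pRegular_rep (p : ℕ) [Fact p.Prime] (N : Subgroup G) [N.Normal]
    (hidx : ¬ p ∣ N.index) (P : Sylow p G)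
    (hsup : N ⊔ Subgroup.centralizer ((P : Subgroup G) : Set G) = ⊤) (g : G) :
    ∃ c ∈ Subgroup.centralizer ((P : Subgroup G) : Set G), ¬ p ∣ orderOf c ∧ c⁻¹ * g ∈ N := by
  classical
  have hg : g ∈ N ⊔ Subgroup.centralizer ((P : Subgroup G) : Set G) := by
    rw [hsup]; exact Subgroup.mem_top g
  obtain ⟨n, hn, c₀, hc₀, rfl⟩ := Subgroup.mem_sup_of_normal_left.1 hg
  have hk0 : N.index ≠ 0 := Subgroup.index_ne_zero_of_finite
  obtain ⟨e, t, hreg, hpow⟩ := exists_pRegular_pow p c₀ N.index hidx hk0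
  refine ⟨c₀ ^ e, Subgroup.pow_mem _ hc₀ e, hreg, ?_⟩
  have hmem : (c₀ ^ N.index) ^ t ∈ N := Subgroup.pow_mem _ (Subgroup.pow_index_mem N c₀) t
  rw [hpow]
  -- `(c₀ * m)⁻¹ * (n * c₀) = m⁻¹ * (c₀⁻¹ * n * c₀)`
  have : (c₀ * (c₀ ^ N.index) ^ t)⁻¹ * (n * c₀)
      = ((c₀ ^ N.index) ^ t)⁻¹ * (c₀⁻¹ * n * c₀⁻¹⁻¹) := by
    simp [mul_assoc]
  rw [this]
  exact N.mul_mem (N.inv_mem hmem) (Subgroup.Normal.conj_mem inferInstance n hn c₀⁻¹)

end Cfsg.Agent.Lib.Helper4.AlpDade
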