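import Mathlib
import Cfsg.Prelude.Def_Blocks
import Cfsg.Agent.Lib.Lead.CharFS

/-!
# S4580 (helper4 planner): Defs - the complex conjugate `cbar χ` of an irreducible character.
-/

set_option autoImplicit false

namespace Cfsg.Agent.Lib.Helper4.RealExt

open Cfsg Cfsg.Agent.CharLib
open scoped ComplexConjugate

universe u
variable {G : Type u} [Group G] [Finite G]

/-- The complex conjugate of an irreducible character. -/
noncomputable def cbar (χ : IrrCharacter G) : IrrCharacter G :=
  ⟨fun g => conj ((χ : G → ℂ) g), IsIrrCharacter.conj' χ.2⟩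

@[simp] theorem cbar_apply (χ : IrrCharacter G) (g : G) :
    ((cbar χ : IrrCharacter G) : G → ℂ) g = conj ((χ : G → ℂ) g) := rfl

@[simp] theorem cbar_cbar (χ : IrrCharacter G) : cbar (cbar χ) = χ := by
  apply Subtype.ext
  funext g
  simp [cbar]

theorem cbar_apply_eq_inv (χ : IrrCharacter G) (g : G) :
    ((cbar χ : IrrCharacter G) : G → ℂ) g = (χ : G → ℂ) g⁻¹ := by
  rw [cbar_apply, IsCharacter.apply_inv (IsIrrCharacter.isCharacter χ.2)]

theorem cbar_injective : Function.Injective (cbar : IrrCharacter G → IrrCharacter G) := by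
  intro a b h
  have := congrArg cbar h
  simpa using this

theorem mem_cbar_image {B : Set (IrrCharacter G)} {χ : IrrCharacter G} :
    χ ∈ cbar '' B ↔ cbar χ ∈ B := by
  constructor
  · rintro ⟨ψ, hψ, rfl⟩
    simpa using hψ
  · intro h
    exact ⟨cbar χ, h, cbar_cbar χ⟩

end Cfsg.Agent.Lib.Helper4.RealExt
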