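/-
helper4: S4865 leaf (M8) `mckay_map` (planner helper12): the McKay-type map of the done row S4914
(helper25 `GlN.concrete`) for `K ⊴ G` with a normal Sylow `p`-subgroup and `P ∈ Syl_p(G)`,
with `N_G(P)`-equivariance and compatibility with complex conjugation.
-/
import Mathlib
import Cfsg.Prelude.Def_Blocks
import Cfsg.Agent.Lib.Helper6.Clifford
import Cfsg.Agent.Lib.Helper6.CliffordCorr
import Cfsg.Agent.Lib.Helper2.GlaubReal
import Cfsg.Agent.Lib.Helper12.RealPDefs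
import Cfsg.Agent.Lib.Helper12.RealNDefs
import Cfsg.Agent.Lib.Helper12.RealMDefs
import Cfsg.Agent.Lib.Helper12.PComplement
import Cfsg.Agent.Lib.Helper16.Minimal
import Cfsg.Agent.Lib.Helper25.GlNj

set_option autoImplicit false

namespace Cfsg.Agent.Lib.Helper4.RealM

open Cfsg Cfsg.Agent.Lib.Helper6 Cfsg.Agent.Lib.Helper12.RealP Cfsg.Agent.Lib.Helper12.RealN
open Cfsg.Agent.Lib.Helper12.RealM Cfsg.Agent.Lib.Helper2.Glaub

universe u

variable {G : Type u} [Group G]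

/-- `CB` in terms of helper2's `cjIrr`. -/
theorem cb_iff_eq_cjIrr (K : Subgroup G) (n : G) (hn : n ∈ Subgroup.normalizer (K : Set G))
    (θ θ' : IrrCharacter ↥K) :
    CB K n (θ : ↥K → ℂ) (θ' : ↥K → ℂ) ↔ θ = cjIrr K n hn θ' := by
  constructor
  · intro h
    apply Subtype.ext
    funext k
    rw [cjIrr_apply]
    exact (h k (conjEquiv K n hn k) rfl).symm
  · intro h k k' hk'
    rw [h, cjIrr_apply]
    have h2 : conjEquiv K n hn k = k' := Subtype.ext hk'.symm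
    rw [h2]

/-- `IsRe` in terms of helper2's `conjIrr`. -/
theorem isRe_iff_conjIrr {X : Type u} [Group X] [Finite X] (χ : IrrCharacter X) :
    IsRe (χ : X → ℂ) ↔ conjIrr χ = χ := (conjIrr_eq_iff χ).symm

variable [Finite G]

/-- In a finite group, `k ∈ N_G(P)` iff all commutators `[x, k]`, `x ∈ P`, lie in `P`. -/
theorem mem_normalizer_iff_comm_mem (P : Subgroup G) (k : G) :
    k ∈ Subgroup.normalizer (P : Set G) ↔ ∀ x ∈ P, x * k * x⁻¹ * k⁻¹ ∈ P := by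
  constructor
  · intro hk x hx
    have h1 : k * x⁻¹ * k⁻¹ ∈ P := (Subgroup.mem_normalizer_iff.mp hk x⁻¹).mp (P.inv_mem hx)
    have h2 : x * k * x⁻¹ * k⁻¹ = x * (k * x⁻¹ * k⁻¹) := by group
    rw [h2]
    exact P.mul_mem hx h1
  · intro h
    apply Cfsg.Agent.Lib.Helper1.mem_normalizer_of_forall_conj_mem
    intro b hb
    have h1 := h b⁻¹ (P.inv_mem hb)
    have h2 : k * b * k⁻¹ = b * (b⁻¹ * k * b⁻¹⁻¹ * k⁻¹) := by group
    rw [h2]
    exact P.mul_mem hb h1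

theorem mckay_map (p : ℕ) [Fact p.Prime] (K : Subgroup G) [hK : K.Normal] (P : Sylow p G)
    (hsyl : ∀ Q₀ : Sylow p ↥K, (Q₀ : Subgroup ↥K).Normal) :
    ∃ f : {θ : IrrCharacter ↥K // InvUnder K (P : Subgroup G) (θ : ↥K → ℂ)} →
        {η : IrrCharacter ↥(K ⊓ NP P) //
          InvUnder (K ⊓ NP P) (P : Subgroup G) (η : ↥(K ⊓ NP P) → ℂ)},
      Function.Bijective f ∧
      (∀ θ, ((charDegree ((f θ).1 : ↥(K ⊓ NP P) → ℂ) : ZMod p) =
            (charDegree (θ.1 : ↥K → ℂ) : ZMod p)) ∨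
          ((charDegree ((f θ).1 : ↥(K ⊓ NP P) → ℂ) : ZMod p) =
            -(charDegree (θ.1 : ↥K → ℂ) : ZMod p))) ∧
      (∀ n ∈ NP P, ∀ θ θ', CB K n (θ.1 : ↥K → ℂ) (θ'.1 : ↥K → ℂ) ↔
        CB (K ⊓ NP P) n ((f θ).1 : ↥(K ⊓ NP P) → ℂ) ((f θ').1 : ↥(K ⊓ NP P) → ℂ)) ∧
      (∀ θ, IsRe (θ.1 : ↥K → ℂ) ↔ IsRe ((f θ).1 : ↥(K ⊓ NP P) → ℂ)) := by
  classical
  letI : Fintype ↥K := Fintype.ofFinite _
  letI : Fintype ↥(K ⊓ NP P) := Fintype.ofFinite _
  have hp : p.Prime := Fact.out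
  have hP : IsPGroup p ↥(P : Subgroup G) := P.isPGroup'
  have hKtop : Subgroup.normalizer (K : Set G) = ⊤ := Subgroup.normalizer_eq_top_iff.mpr hK
  have hnK : ∀ n : G, n ∈ Subgroup.normalizer (K : Set G) := fun n => by rw [hKtop]; trivial
  have hPK : (P : Subgroup G) ≤ Subgroup.normalizer (K : Set G) := fun x _ => hnK x
  have hQK : (P : Subgroup G) ⊓ K ≤ K := inf_le_right
  obtain ⟨Q₀, hQ₀⟩ := Cfsg.Agent.Lib.Helper16.exists_sylow_of_normal_inf P K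
  have hQn : ∀ k ∈ K, ∀ q ∈ (P : Subgroup G) ⊓ K, k * q * k⁻¹ ∈ (P : Subgroup G) ⊓ K := by
    intro k hk q hq
    have hn := hsyl Q₀
    rw [← hQ₀] at hq ⊢
    obtain ⟨q', hq', rfl⟩ := hq
    exact ⟨(⟨k, hk⟩ : ↥K) * q' * (⟨k, hk⟩ : ↥K)⁻¹, hn.conj_mem q' hq' ⟨k, hk⟩, rfl⟩
  have hQp : ∃ a : ℕ, Nat.card ↥((P : Subgroup G) ⊓ K) = p ^ a :=
    IsPGroup.iff_card.mp (hP.to_le inf_le_left)
  have hQsyl : ¬ p ∣ ((P : Subgroup G) ⊓ K).relIndex K :=
    Cfsg.Agent.Lib.Helper12.sylow_inf_relIndex P ⊤ K le_top le_top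
      (fun h _ k hk => hK.conj_mem k hk h)
  have hCK : K ⊓ NP P ≤ K := inf_le_left
  have hC : ∀ k : G, k ∈ K ⊓ NP P ↔
      (k ∈ K ∧ ∀ x ∈ (P : Subgroup G), x * k * x⁻¹ * k⁻¹ ∈ (P : Subgroup G) ⊓ K) := by
    intro k
    rw [Subgroup.mem_inf]
    constructor
    · rintro ⟨hkK, hkN⟩
      refine ⟨hkK, fun x hx => ⟨(mem_normalizer_iff_comm_mem _ k).mp hkN x hx, ?_⟩⟩
      exact K.mul_mem (hK.conj_mem k hkK x) (K.inv_mem hkK)
    · rintro ⟨hkK, h⟩
      exact ⟨hkK, (mem_normalizer_iff_comm_mem _ k).mpr (fun x hx => (h x hx).1)⟩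
  obtain ⟨f, hbij, hf⟩ := Cfsg.Agent.Lib.Helper25.GlN.concrete p (P : Subgroup G) K
    ((P : Subgroup G) ⊓ K) (K ⊓ NP P) hP hPK hQK hQn hQp hQsyl hCK hC
  -- normalizing facts
  have hnC : ∀ n ∈ NP P, n ∈ Subgroup.normalizer ((K ⊓ NP P : Subgroup G) : Set G) := by
    intro n hn
    apply Cfsg.Agent.Lib.Helper1.mem_normalizer_of_forall_conj_mem
    intro b hb
    exact ⟨hK.conj_mem b hb.1 n, (NP P).mul_mem ((NP P).mul_mem hn hb.2) ((NP P).inv_mem hn)⟩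
  -- the multiplicity characterization
  have hkey : ∀ (θ : {θ : IrrCharacter ↥K // InvUnder K (P : Subgroup G) (θ : ↥K → ℂ)})
      (ξ : {η : IrrCharacter ↥(K ⊓ NP P) //
          InvUnder (K ⊓ NP P) (P : Subgroup G) (η : ↥(K ⊓ NP P) → ℂ)}),
      PRel K (K ⊓ NP P) hCK p θ.1 ξ.1 ↔ ξ = f θ := by
    intro θ ξ
    obtain ⟨m, hm, h1, h2⟩ := (hf θ).1 ξ
    have hinner : classInner (fun c : ↥(K ⊓ NP P) => (θ.1 : ↥K → ℂ) ⟨c, hCK c.2⟩)
        (ξ.1 : ↥(K ⊓ NP P) → ℂ) = (m : ℂ) := by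
      rw [← hm, finsum_eq_sum_of_fintype]
      rfl
    constructor
    · rintro ⟨m', hm', hpm'⟩
      by_contra hne
      have hmm : m' = m := by
        have := hm'.symm.trans hinner
        exact_mod_cast this
      rw [hmm] at hpm'
      exact hpm' (h2 hne)
    · intro hξ
      refine ⟨m, hinner, ?_⟩
      intro hdvd
      have h0 : (m : ZMod p) = 0 := (ZMod.natCast_eq_zero_iff m p).mpr hdvd
      have : Fact (1 < p) := ⟨hp.one_lt⟩
      rcases h1 hξ with h3 | h3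
      · rw [h0] at h3
        exact zero_ne_one h3
      · rw [h0] at h3
        have : (1 : ZMod p) = 0 := by
          have := congrArg (fun z => -z) h3
          simpa using this.symm
        exact one_ne_zero this
  -- transport of a symmetry
  refine ⟨f, hbij, fun θ => (hf θ).2, ?_, ?_⟩
  · -- equivariance
    have hfwd : ∀ n (hn : n ∈ NP P) (θ θ' : {θ : IrrCharacter ↥K //
        InvUnder K (P : Subgroup G) (θ : ↥K → ℂ)}),
        θ.1 = cjIrr K n (hnK n) θ'.1 → (f θ).1 = cjIrr (K ⊓ NP P) n (hnC n hn) (f θ').1 := by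
      intro n hn θ θ' h
      have h1 : PRel K (K ⊓ NP P) hCK p θ'.1 (f θ').1 := (hkey θ' (f θ')).mpr rfl
      have h2 := h1.cj n (hnK n) (hnC n hn)
      rw [← h] at h2
      have hinv : InvUnder (K ⊓ NP P) (P : Subgroup G)
          ((cjIrr (K ⊓ NP P) n (hnC n hn) (f θ').1 : IrrCharacter ↥(K ⊓ NP P)) :
            ↥(K ⊓ NP P) → ℂ) :=
        invUnder_cjIrr (f θ').1 (f θ').2 n (hnC n hn) hn
      have h3 := (hkey θ ⟨cjIrr (K ⊓ NP P) n (hnC n hn) (f θ').1, hinv⟩).mp h2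
      exact (congrArg Subtype.val h3).symm
    intro n hn θ θ'
    rw [cb_iff_eq_cjIrr K n (hnK n), cb_iff_eq_cjIrr (K ⊓ NP P) n (hnC n hn)]
    constructor
    · exact hfwd n hn θ θ'
    · intro h
      have hinv : InvUnder K (P : Subgroup G)
          ((cjIrr K n (hnK n) θ'.1 : IrrCharacter ↥K) : ↥K → ℂ) :=
        invUnder_cjIrr θ'.1 θ'.2 n (hnK n) hn
      have h1 := hfwd n hn ⟨cjIrr K n (hnK n) θ'.1, hinv⟩ θ' rfl
      have h2 : f ⟨cjIrr K n (hnK n) θ'.1, hinv⟩ = f θ := Subtype.ext (h1.trans h.symm)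
      have h3 := hbij.1 h2
      exact (congrArg Subtype.val h3).symm
  · -- reality
    have hfwd : ∀ (θ θ' : {θ : IrrCharacter ↥K // InvUnder K (P : Subgroup G) (θ : ↥K → ℂ)}),
        θ.1 = conjIrr θ'.1 → (f θ).1 = conjIrr (f θ').1 := by
      intro θ θ' h
      have h1 : PRel K (K ⊓ NP P) hCK p θ'.1 (f θ').1 := (hkey θ' (f θ')).mpr rfl
      have h2 := h1.conj
      rw [← h] at h2
      have hinv : InvUnder (K ⊓ NP P) (P : Subgroup G)
          ((conjIrr (f θ').1 : IrrCharacter ↥(K ⊓ NP P)) : ↥(K ⊓ NP P) → ℂ) :=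
        invUnder_conjIrr (f θ').1 (f θ').2
      have h3 := (hkey θ ⟨conjIrr (f θ').1, hinv⟩).mp h2
      exact (congrArg Subtype.val h3).symm
    intro θ
    rw [isRe_iff_conjIrr, isRe_iff_conjIrr]
    constructor
    · intro h
      exact (hfwd θ θ h.symm).symm
    · intro h
      have hinv : InvUnder K (P : Subgroup G) ((conjIrr θ.1 : IrrCharacter ↥K) : ↥K → ℂ) :=
        invUnder_conjIrr θ.1 θ.2
      have h1 := hfwd ⟨conjIrr θ.1, hinv⟩ θ rfl
      have h2 : f ⟨conjIrr θ.1, hinv⟩ = f θ := Subtype.ext (h1.trans h)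
      have h3 := hbij.1 h2
      exact congrArg Subtype.val h3

end Cfsg.Agent.Lib.Helper4.RealM
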