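/-
helper4: leaf GDEC of S3713 (planner helper18, notes/S3713_leaves.lean): `GJ (insert o J)` is the union of the
three double cosets `Ph`, `Ph y Ph`, `Ph n Ph` of the point stabiliser `Ph = PhJ (insert o J) o`
(`y = yE o p`, `n = nW o`), with the facts on `yE` and the generation statement `GJ_le_closure`.
-/
import Cfsg.Agent.Lib.Helper18.SPDec
import Cfsg.Agent.Lib.Helper18.SPHom

set_option autoImplicit false

namespace Cfsg.Agent.Lib.Helper4.SPGDEC

open Matrix Cfsg.Agent.Lib.Helper5 Cfsg.Agent.Lib.Helper14.SpPerfect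
open Cfsg.Agent.Lib.Helper18.SP

variable {F : Type*} [Field F] {n : ℕ} {H : Type*} [Group H]

/-- splitting off the `o`-coordinates of a vector of `VJ (insert o J)` -/
theorem VJ_insert_decomp {J : Set (Fin n)} {o : Fin n} (ho : o ∉ J) {v : V n F}
    (hv : v ∈ VJ n F (insert o J)) :
    ∃ u ∈ VJ n F J, v = v (Sum.inl o) • eV n F o + v (Sum.inr o) • fV n F o + u := by
  let u : V n F := fun i => match i with
    | Sum.inl k => if k = o then 0 else v (Sum.inl k)
    | Sum.inr k => if k = o then 0 else v (Sum.inr k)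
  have hu : u ∈ VJ n F J := by
    intro k hk
    by_cases hko : k = o
    · simp [u, hko]
    · have hk' : k ∉ insert o J := fun h => (Set.mem_insert_iff.mp h).elim hko hk
      simp only [u, if_neg hko]
      exact hv k hk'
  refine ⟨u, hu, ?_⟩
  funext i
  rcases i with k | k
  · by_cases hko : k = o
    · subst hko
      simp [u, fV_inl, eV_inl]
    · simp [u, fV_inl, eV_inl, hko]
  · by_cases hko : k = o
    · subst hko
      simp [u, fV_inr, eV_inr]
    · simp [u, fV_inr, eV_inr, hko]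

theorem yE_mem_GJ (o p : Fin n) : yE n F o p ∈ GJ n F {o, p} := by
  unfold yE
  exact E_mem_GJ (fV_mem_VJ (Set.mem_insert o {p})) (eV_mem_VJ (Set.mem_insert_of_mem o rfl))

theorem yE_eV {o p : Fin n} (hop : o ≠ p) : act (yE n F o p) (eV n F o) = eV n F o - eV n F p := by
  unfold yE
  rw [act_E _ _ _ (by rw [ω_fV_eV, if_neg (Ne.symm hop)]), ω_eV_fV, if_pos rfl, ω_eV_eV]
  module

theorem yE_not_mem_PhJ (K : Set (Fin n)) {o p : Fin n} (hop : o ≠ p) : yE n F o p ∉ PhJ n F K o := by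
  rintro ⟨-, α, -, h⟩
  rw [yE_eV hop] at h
  have := congrFun h (Sum.inl p)
  simp [eV_inl, Ne.symm hop] at this

theorem yE_eq_conj {o p : Fin n} (hop : o ≠ p) :
    yE n F o p = nW n F o * (E (eV n F o) (eV n F p))⁻¹ * (nW n F o)⁻¹ := by
  have hnp : act (nW n F o) (eV n F p) = eV n F p :=
    ((nW_mem_SS (F := F) o) p (fun h => hop (Set.mem_singleton_iff.mp h).symm)).1
  have h0 : ω n F (eV n F o) (eV n F p) = 0 := ω_eV_eV o p
  have h1 : ω n F (fV n F o) (eV n F p) = 0 := by rw [ω_fV_eV, if_neg (Ne.symm hop)]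
  rw [E_inv _ _ h0, conj_E, nW_eV, act_neg, hnp]
  unfold yE
  have h2 : (-fV n F o : V n F) = (-1 : F) • fV n F o := by module
  have h3 : (-eV n F p : V n F) = (-1 : F) • eV n F p := by module
  rw [h2, h3, E_smul_smul _ _ _ (by rw [ω_smul_right, h1, mul_zero]), smul_smul]
  norm_num

/-- **GDEC** (`GJ (insert o J)` is the union of the three double cosets of the point stabiliser). -/
theorem GJ_decomp {J : Set (Fin n)} {o p : Fin n} (ho : o ∉ J) (hp : p ∈ J) {g : Sp n F}
    (hg : g ∈ GJ n F (insert o J)) :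
    ∃ p₁ ∈ PhJ n F (insert o J) o, ∃ p₂ ∈ PhJ n F (insert o J) o,
      g = p₁ * p₂ ∨ g = p₁ * yE n F o p * p₂ ∨ g = p₁ * nW n F o * p₂ := by
  have hoK : o ∈ insert o J := Set.mem_insert o J
  have hop : o ≠ p := fun h => ho (h ▸ hp)
  have hJK : J ⊆ insert o J := Set.subset_insert o J
  obtain ⟨v, hv⟩ : ∃ v, v = act g (eV n F o) := ⟨_, rfl⟩
  have hvK : v ∈ VJ n F (insert o J) := by
    rw [hv]
    exact act_mem_VJ hg (eV_mem_VJ hoK)
  have hv0 : v ≠ 0 := by
    rw [hv]
    intro h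
    exact eV_ne_zero o ((act_eq_zero_iff g _).mp h)
  obtain ⟨u, hu, hvdec⟩ := VJ_insert_decomp ho hvK
  obtain ⟨a, ha⟩ : ∃ a, a = v (Sum.inl o) := ⟨_, rfl⟩
  obtain ⟨b, hb⟩ : ∃ b, b = v (Sum.inr o) := ⟨_, rfl⟩
  rw [← ha, ← hb] at hvdec
  have hωu : ω n F u (eV n F o) = 0 := ω_eV_of_mem_VJ hu ho
  have hωu' : ω n F (eV n F o) u = 0 := ω_eV_left_of_mem_VJ hu ho
  by_cases hb0 : b = 0
  · by_cases hu0 : u = 0
    · -- (i) `g` is in the point stabiliser
      have ha0 : a ≠ 0 := by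
        intro h
        apply hv0
        rw [hvdec, hb0, hu0, h]
        module
      refine ⟨g, ⟨hg, a, ha0, ?_⟩, 1, one_mem _, Or.inl (mul_one g).symm⟩
      rw [← hv, hvdec, hb0, hu0]
      module
    · -- (iii) the double coset of `y`
      have hep : eV n F p ∈ VJ n F J := eV_mem_VJ hp
      obtain ⟨l, hl, hlp⟩ := GJ_trans J ((VJ n F J).neg_mem hep) hu
        (neg_ne_zero.mpr (eV_ne_zero p)) hu0
      obtain ⟨w₀, hw₀, hne⟩ := VJ_nondeg J u hu hu0
      obtain ⟨w, hw⟩ : ∃ w, w = ((a - 1) / ω n F u w₀) • w₀ := ⟨_, rfl⟩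
      have hwJ : w ∈ VJ n F J := by
        rw [hw]
        exact (VJ n F J).smul_mem _ hw₀
      have hωw : ω n F u w = a - 1 := by
        rw [hw, ω_smul_right, div_mul_cancel₀ _ hne]
      have hωow : ω n F (eV n F o) w = 0 := ω_eV_left_of_mem_VJ hwJ ho
      have hle : act l (eV n F o) = eV n F o := (hl o ho).1
      have hlp' : act l (eV n F p) = -u := by
        rw [act_neg] at hlp
        rw [← hlp, neg_neg]
      have hp₁ : E (eV n F o) w * l ∈ PJ n F (insert o J) o :=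
        mul_mem (E_eV_mem_PJ ho hwJ) (GJ_le_PJ hJK ho hl)
      have hyK : yE n F o p ∈ GJ n F (insert o J) :=
        GJ_mono (by
          intro k hk
          rcases hk with hk | hk
          · rw [hk]; exact hoK
          · rw [Set.mem_singleton_iff.mp hk]; exact hJK hp) (yE_mem_GJ o p)
      have hact : act (E (eV n F o) w * l * yE n F o p) (eV n F o) = v := by
        rw [act_mul, yE_eV hop, act_mul, act_sub, hle, hlp', act_E _ _ _ hωow, hvdec, hb0]
        simp only [ω_sub_left, ω_neg_left, ω_self, hωu, hωow, hωw]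
        module
      refine ⟨E (eV n F o) w * l, PJ_le_PhJ _ _ hp₁,
        (yE n F o p)⁻¹ * (E (eV n F o) w * l)⁻¹ * g, PJ_le_PhJ _ _ ⟨?_, ?_⟩, Or.inr (Or.inl (by group))⟩
      · exact mul_mem (mul_mem (inv_mem hyK) (inv_mem hp₁.1)) hg
      · rw [act_mul, ← hv, ← hact, act_mul (yE n F o p)⁻¹, act_mul (E (eV n F o) w * l) (yE n F o p),
          act_inv_act, act_inv_act]
  · -- (ii) the double coset of `n`
    have hα : -b⁻¹ ≠ 0 := neg_ne_zero.mpr (inv_ne_zero hb0)
    obtain ⟨t, ht, hte, htf⟩ := exists_TT (F := F) o hα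
    have hnu : -u ∈ VJ n F J := (VJ n F J).neg_mem hu
    have htu : act t (-u) = -u := by
      apply act_eq_of_mem_VJ_compl ht.1
      refine VJ_mono ?_ hnu
      intro k hk hko
      exact ho ((Set.mem_singleton_iff.mp hko) ▸ hk)
    have hq : qH o (-u) (a * b) ∈ PJ n F (insert o J) o := qH_mem_PJ ho hnu (a * b)
    have htK : t ∈ PhJ n F (insert o J) o := TT_le_PhJ hoK ht
    have hnK : nW n F o ∈ GJ n F (insert o J) := SS_le_GJ hoK (nW_mem_SS o)
    have hp₁ : t * qH o (-u) (a * b) ∈ PhJ n F (insert o J) o := mul_mem htK (PJ_le_PhJ _ _ hq)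
    have hact : act (t * qH o (-u) (a * b) * nW n F o) (eV n F o) = v := by
      rw [act_mul, nW_eV, act_neg, act_mul, qH_fV ho hnu, act_add, act_add, htf, htu, act_smul, hte, hvdec]
      rw [inv_neg, inv_inv]
      rw [smul_smul, mul_assoc, mul_neg, mul_inv_cancel₀ hb0]
      module
    refine ⟨t * qH o (-u) (a * b), hp₁,
      (nW n F o)⁻¹ * (t * qH o (-u) (a * b))⁻¹ * g, PJ_le_PhJ _ _ ⟨?_, ?_⟩, Or.inr (Or.inr (by group))⟩
    · exact mul_mem (mul_mem (inv_mem hnK) (inv_mem hp₁.1)) hg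
    · rw [act_mul, ← hv, ← hact, act_mul (nW n F o)⁻¹, act_mul (t * qH o (-u) (a * b)) (nW n F o),
        act_inv_act, act_inv_act]

/-- **GEN** -/
theorem GJ_le_closure {J : Set (Fin n)} {o p : Fin n} (ho : o ∉ J) (hp : p ∈ J) :
    GJ n F (insert o J) ≤ Subgroup.closure ((PJ n F (insert o J) o : Set (Sp n F)) ∪ (SS n F o : Set (Sp n F))) := by
  intro g hg
  have hoK : o ∈ insert o J := Set.mem_insert o J
  have hop : o ≠ p := fun h => ho (h ▸ hp)
  have hPJ : PJ n F (insert o J) o ≤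
      Subgroup.closure ((PJ n F (insert o J) o : Set (Sp n F)) ∪ (SS n F o : Set (Sp n F))) :=
    fun x hx => Subgroup.subset_closure (Or.inl hx)
  have hSS : SS n F o ≤
      Subgroup.closure ((PJ n F (insert o J) o : Set (Sp n F)) ∪ (SS n F o : Set (Sp n F))) :=
    fun x hx => Subgroup.subset_closure (Or.inr hx)
  have hPh : PhJ n F (insert o J) o ≤
      Subgroup.closure ((PJ n F (insert o J) o : Set (Sp n F)) ∪ (SS n F o : Set (Sp n F))) := by
    intro x hx
    obtain ⟨t, ht, q, hq, rfl⟩ := PhJ_decomp hoK hx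
    exact mul_mem (hSS (TT_le_SS o ht)) (hPJ hq)
  have hn := hSS (nW_mem_SS (F := F) o)
  have hy : yE n F o p ∈
      Subgroup.closure ((PJ n F (insert o J) o : Set (Sp n F)) ∪ (SS n F o : Set (Sp n F))) := by
    rw [yE_eq_conj hop]
    exact mul_mem (mul_mem hn (inv_mem (hPJ (E_eV_mem_PJ ho (eV_mem_VJ hp))))) (inv_mem hn)
  obtain ⟨p₁, h1, p₂, h2, h | h | h⟩ := GJ_decomp ho hp hg
  · rw [h]
    exact mul_mem (hPh h1) (hPh h2)
  · rw [h]
    exact mul_mem (mul_mem (hPh h1) hy) (hPh h2)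
  · rw [h]
    exact mul_mem (mul_mem (hPh h1) hn) (hPh h2)

end Cfsg.Agent.Lib.Helper4.SPGDEC
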