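import Cfsg.Agent.Lib.Helper15.PGLInvol

set_option autoImplicit false

namespace Cfsg.Agent.Lib.Helper4.Leaf

open Polynomial Module

/-- (L7) in `SL₄(p)`, `p = 1 mod 4`, an element with scalar square `lam` has `lam` a square. -/
theorem L7 {F : Type*} [Field F] [Fintype F] {p : ℕ} [Fact p.Prime] [CharP F p]
    (hF : Fintype.card F = p) (hp4 : p % 4 = 1) (x : Matrix (Fin 4) (Fin 4) F) (lam : F)
    (hx : x * x = lam • (1 : Matrix (Fin 4) (Fin 4) F)) (hdet : x.det = 1) :
    ∃ μ : F, lam = μ * μ := by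
  classical
  by_contra hcon
  have hns : ¬ IsSquare lam := by
    rintro ⟨μ, hμ⟩
    exact hcon ⟨μ, hμ⟩
  -- `-1` is a square
  have hm1 : IsSquare (-1 : F) := by
    rw [FiniteField.isSquare_neg_one_iff, hF, hp4]
    norm_num
  set P : F[X] := X ^ 2 - C lam with hP
  have hPm : P.Monic := monic_X_pow_sub_C lam (by norm_num)
  have hPd : P.natDegree = 2 := natDegree_X_pow_sub_C
  have hPi : Irreducible P := by
    apply Polynomial.irreducible_of_degree_le_three_of_not_isRoot
    · rw [hPd]; simp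
    · intro y hy
      apply hns
      refine ⟨y, ?_⟩
      rw [IsRoot.def, hP, eval_sub, eval_pow, eval_X, eval_C, sub_eq_zero] at hy
      rw [← hy, sq]
  set T : End F (Fin 4 → F) := Matrix.toLin' x with hT
  have hTT : T * T = lam • (1 : End F (Fin 4 → F)) := by
    rw [hT, Module.End.mul_eq_comp, ← Matrix.toLin'_mul, hx, map_smul, Matrix.toLin'_one]
    rfl
  have haev : aeval T P = 0 := by
    rw [hP, map_sub, map_pow, aeval_X, aeval_C, sq, hTT, Algebra.algebraMap_eq_smul_one, sub_self]
  have h1 := Cfsg.Agent.Lib.Helper15.PGLInvol.charpoly_isotypic P hPm hPi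
    (finrank F (Fin 4 → F)) (Fin 4 → F) T rfl haev
  have hfr : finrank F (Fin 4 → F) = 4 := by simp
  rw [hfr, hPd] at h1
  have hcp : x.charpoly = P ^ 2 := by
    have h2 : (LinearMap.toMatrix' T).charpoly = T.charpoly := by
      rw [← LinearMap.toMatrix_eq_toMatrix']
      exact LinearMap.charpoly_toMatrix T (Pi.basisFun F (Fin 4))
    rw [hT, LinearMap.toMatrix'_toLin'] at h2
    rw [h2, ← hT, h1]
  have hd : x.det = lam ^ 2 := by
    rw [Matrix.det_eq_sign_charpoly_coeff, hcp, Polynomial.coeff_zero_eq_eval_zero, eval_pow, hP,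
      eval_sub, eval_pow, eval_X, eval_C]
    simp only [Fintype.card_fin]
    ring
  rw [hdet] at hd
  have h3 : (lam - 1) * (lam + 1) = 0 := by
    have : lam ^ 2 - 1 = 0 := by rw [← hd]; ring
    rw [← this]; ring
  rcases mul_eq_zero.1 h3 with h | h
  · apply hns
    have : lam = 1 := by rw [← sub_eq_zero]; exact h
    rw [this]
    exact ⟨1, by ring⟩
  · apply hns
    have : lam = -1 := by rw [← sub_eq_zero]; rw [sub_neg_eq_add]; exact h
    rw [this]
    exact hm1

end Cfsg.Agent.Lib.Helper4.Leaf
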