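import Mathlib
import Cfsg.Agent.Lib.Helper20.AschDefs

/-!
S5630 (Aschbacher, linear case), leaves A1 `geo_of_not_irr`, A6 `exists_min_normal` + `normBy_commutator`,
A10 `scalar_of_centralizes_mod` (helper4).
-/

set_option autoImplicit false
set_option linter.unusedSectionVars false
set_option linter.unusedVariables false

namespace Cfsg.Agent.Lib.Helper4.AschLeaf
open Matrix Cfsg.Geo Cfsg.Agent.Lib.Helper20.Asch
open scoped Kronecker commutatorElement

variable {F : Type*} [Field F] [Fintype F] {n : ℕ} {H N : Subgroup (GL (Fin n) F)}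

/-- an invariant subspace is stabilised -/
lemma le_subspaceStabilizer_of_inv {F : Type*} [Field F] {n : ℕ} {H : Subgroup (GL (Fin n) F)}
    {W : Submodule F (Fin n → F)}
    (hW : ∀ s ∈ matrixSet H, W.map (Matrix.toLin' s) ≤ W) : H ≤ subspaceStabilizer W := by
  have key : ∀ g ∈ H, ∀ v ∈ W, (g : Matrix (Fin n) (Fin n) F) *ᵥ v ∈ W := by
    intro g hg v hv
    have h1 := hW _ ⟨g, hg, rfl⟩
    apply h1
    exact ⟨v, hv, by rw [Matrix.toLin'_apply]⟩
  intro g hg v
  constructor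
  · intro hv
    exact key g hg v hv
  · intro hv
    have h2 := key g⁻¹ (H.inv_mem hg) _ hv
    have h3 : ((g⁻¹ : GL (Fin n) F) : Matrix (Fin n) (Fin n) F) *ᵥ
        ((glToMat (Fin n) F) g *ᵥ v) = v := by
      show ((g⁻¹ : GL (Fin n) F) : Matrix (Fin n) (Fin n) F) *ᵥ
        ((g : Matrix (Fin n) (Fin n) F) *ᵥ v) = v
      rw [Matrix.mulVec_mulVec, ← Units.val_mul, inv_mul_cancel, Units.val_one, Matrix.one_mulVec]
    rw [h3] at h2
    exact h2

/-- (A1) a reducible group lies in a subspace stabiliser. -/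
theorem geo_of_not_irr (h : ¬ Irr H) : Geo H := by
  unfold Irr ActsIrreducibly at h
  push Not at h
  obtain ⟨W, hW, h0, h1⟩ := h
  exact Geo.of_C1 W h0 h1 (le_subspaceStabilizer_of_inv hW)

/-- scalar matrices are central -/
lemma scalars_comm {F : Type*} [Field F] {n : ℕ} {z : GL (Fin n) F} (hz : z ∈ scalars (Fin n) F)
    (y : GL (Fin n) F) : z * y = y * z := by
  rw [mem_scalars_iff] at hz
  obtain ⟨c, hc⟩ := hz
  apply Units.ext
  rw [Units.val_mul, Units.val_mul, hc, Matrix.smul_mul, Matrix.mul_smul, Matrix.one_mul, Matrix.mul_one]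

/-- a central factor on the left of a commutator can be dropped -/
lemma comm_central_left {G : Type*} [Group G] {a : G} (ha : ∀ t : G, a * t = t * a) (x y : G) :
    ⁅a * x, y⁆ = ⁅x, y⁆ := by
  have hai : ∀ t : G, a⁻¹ * t = t * a⁻¹ := fun t => by
    calc a⁻¹ * t = a⁻¹ * (t * a) * a⁻¹ := by group
      _ = a⁻¹ * (a * t) * a⁻¹ := by rw [ha t]
      _ = t * a⁻¹ := by group
  rw [commutatorElement_def, commutatorElement_def]
  calc a * x * y * (a * x)⁻¹ * y⁻¹ = a * (x * y * x⁻¹) * (a⁻¹ * y⁻¹) := by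
        rw [_root_.mul_inv_rev]; group
    _ = a * (x * y * x⁻¹) * (y⁻¹ * a⁻¹) := by rw [hai y⁻¹]
    _ = a * (x * y * x⁻¹ * y⁻¹) * a⁻¹ := by group
    _ = (x * y * x⁻¹ * y⁻¹) * a * a⁻¹ := by rw [ha (x * y * x⁻¹ * y⁻¹)]
    _ = x * y * x⁻¹ * y⁻¹ := by group

/-- a central factor on the right of a commutator can be dropped -/
lemma comm_central_right {G : Type*} [Group G] {a : G} (ha : ∀ t : G, a * t = t * a) (x y : G) :
    ⁅x, a * y⁆ = ⁅x, y⁆ := by
  rw [commutatorElement_def, commutatorElement_def]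
  calc x * (a * y) * x⁻¹ * (a * y)⁻¹ = (x * a) * (y * x⁻¹ * y⁻¹) * a⁻¹ := by
        rw [_root_.mul_inv_rev]; group
    _ = (a * x) * (y * x⁻¹ * y⁻¹) * a⁻¹ := by rw [ha x]
    _ = a * (x * y * x⁻¹ * y⁻¹) * a⁻¹ := by group
    _ = (x * y * x⁻¹ * y⁻¹) * a * a⁻¹ := by rw [ha (x * y * x⁻¹ * y⁻¹)]
    _ = x * y * x⁻¹ * y⁻¹ := by group

/-- (A6) a minimal non-scalar normal subgroup. -/
theorem exists_min_normal (hn : 2 ≤ n) (hirr : Irr H) :
    ∃ N : Subgroup (GL (Fin n) F), N ≤ H ∧ NormBy H N ∧ ¬ N ≤ scalars (Fin n) F ∧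
      ∀ M : Subgroup (GL (Fin n) F), M ≤ N → NormBy H M → M = N ∨ M ≤ scalars (Fin n) F := by
  classical
  -- `H` itself is not scalar
  have hHns : ¬ H ≤ scalars (Fin n) F := by
    intro hHs
    obtain ⟨W, hW⟩ : ∃ W : Submodule F (Fin n → F), W = Submodule.span F {Pi.single (⟨0, by omega⟩ : Fin n) 1} :=
      ⟨_, rfl⟩
    have hinv : ∀ s ∈ matrixSet H, W.map (Matrix.toLin' s) ≤ W := by
      rintro s ⟨g, hg, rfl⟩
      obtain ⟨c, hc⟩ := (mem_scalars_iff g).1 (hHs hg)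
      rintro _ ⟨v, hv, rfl⟩
      simp only [hc]
      rw [Matrix.toLin'_apply, Matrix.smul_mulVec, Matrix.one_mulVec]
      exact W.smul_mem _ hv
    rcases hirr W hinv with h0 | h1
    · have : (Pi.single (⟨0, by omega⟩ : Fin n) (1 : F) : Fin n → F) ∈ W := by
        rw [hW]; exact Submodule.subset_span rfl
      rw [h0, Submodule.mem_bot] at this
      have h2 := congrFun this ⟨0, by omega⟩
      rw [Pi.single_eq_same] at h2
      exact one_ne_zero h2
    · have hmem : (Pi.single (⟨1, by omega⟩ : Fin n) (1 : F) : Fin n → F) ∈ W := by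
        rw [h1]; exact Submodule.mem_top
      rw [hW, Submodule.mem_span_singleton] at hmem
      obtain ⟨a, ha⟩ := hmem
      have h2 := congrFun ha ⟨1, by omega⟩
      rw [Pi.smul_apply, Pi.single_eq_same, Pi.single_eq_of_ne (by
        intro h; exact absurd (congrArg Fin.val h) (by simp)), smul_zero] at h2
      exact zero_ne_one h2
  -- minimal cardinality
  have hex : ∃ k : ℕ, ∃ N : Subgroup (GL (Fin n) F), (N ≤ H ∧ NormBy H N ∧ ¬ N ≤ scalars (Fin n) F) ∧
      Nat.card N = k :=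
    ⟨_, H, ⟨le_rfl, fun h hh x hx => H.mul_mem (H.mul_mem hh hx) (H.inv_mem hh), hHns⟩, rfl⟩
  obtain ⟨N, ⟨hNH, hNn, hNs⟩, hNk⟩ := Nat.find_spec hex
  refine ⟨N, hNH, hNn, hNs, fun M hMN hMn => ?_⟩
  by_cases hMs : M ≤ scalars (Fin n) F
  · exact Or.inr hMs
  · left
    have hle : Nat.find hex ≤ Nat.card M :=
      Nat.find_min' hex ⟨M, ⟨hMN.trans hNH, hMn, hMs⟩, rfl⟩
    rw [← hNk] at hle
    exact Subgroup.eq_of_le_of_card_ge hMN hle

theorem normBy_commutator (hnorm : NormBy H N) : NormBy H ⁅N, N⁆ := by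
  intro h hh x hx
  have h1 : (⁅N, N⁆).map (MulAut.conj h).toMonoidHom ≤ ⁅N, N⁆ := by
    rw [Subgroup.map_commutator]
    apply Subgroup.commutator_mono
    · rintro _ ⟨y, hy, rfl⟩
      exact hnorm h hh y hy
    · rintro _ ⟨y, hy, rfl⟩
      exact hnorm h hh y hy
  exact h1 ⟨x, hx, rfl⟩

/-- (A10) an element centralising a perfect absolutely irreducible group modulo scalars is a scalar. -/
theorem scalar_of_centralizes_mod (habs : AbsIrr N) (hperf : ⁅N, N⁆ = N) (h : GL (Fin n) F)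
    (hc : ∀ x ∈ N, h * x * h⁻¹ * x⁻¹ ∈ scalars (Fin n) F) : h ∈ scalars (Fin n) F := by
  -- `h` commutes with every commutator of elements of `N`
  have hconj : ∀ x ∈ N, ∃ z ∈ scalars (Fin n) F, h * x * h⁻¹ = z * x := by
    intro x hx
    exact ⟨_, hc x hx, by group⟩
  have hcomm : ⁅N, N⁆ ≤ Subgroup.centralizer {h} := by
    rw [Subgroup.commutator_le]
    intro x hx y hy
    rw [Subgroup.mem_centralizer_iff]
    intro k hk
    rw [Set.mem_singleton_iff] at hk
    subst hk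
    obtain ⟨z, hz, hzx⟩ := hconj x hx
    obtain ⟨w, hw, hwy⟩ := hconj y hy
    -- `h ⁅x,y⁆ h⁻¹ = ⁅z x, w y⁆ = ⁅x, y⁆`
    have e1 : k * ⁅x, y⁆ * k⁻¹ = ⁅k * x * k⁻¹, k * y * k⁻¹⁆ := by
      rw [commutatorElement_def, commutatorElement_def]; group
    have e2 : ⁅z * x, w * y⁆ = ⁅x, y⁆ := by
      rw [comm_central_left (scalars_comm hz), comm_central_right (scalars_comm hw)]
    rw [hzx, hwy, e2] at e1
    calc k * ⁅x, y⁆ = k * ⁅x, y⁆ * k⁻¹ * k := by group
      _ = ⁅x, y⁆ * k := by rw [e1]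
  rw [hperf] at hcomm
  -- so the matrix of `h` commutes with `N`
  obtain ⟨c, hcM⟩ := habs.2 (h : Matrix (Fin n) (Fin n) F) (by
    rintro s ⟨x, hx, rfl⟩
    have h1 := hcomm hx
    rw [Subgroup.mem_centralizer_iff] at h1
    have h2 := h1 h rfl
    have h3 := congrArg (fun g : GL (Fin n) F => (g : Matrix (Fin n) (Fin n) F)) h2
    simp only [Units.val_mul] at h3
    exact h3)
  rw [mem_scalars_iff]
  by_cases hc0 : c = 0
  · rw [hc0, zero_smul] at hcM
    have h1 : (h : Matrix (Fin n) (Fin n) F) * ((h⁻¹ : GL (Fin n) F) : Matrix (Fin n) (Fin n) F) = 1 := by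
      rw [← Units.val_mul, mul_inv_cancel, Units.val_one]
    rw [hcM, zero_mul] at h1
    refine ⟨1, ?_⟩
    rw [Units.val_one, one_smul, hcM]
    exact h1
  · exact ⟨Units.mk0 c hc0, hcM⟩

end Cfsg.Agent.Lib.Helper4.AschLeaf
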