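import Mathlib

/-!
# Fisher's inequality for a 2-transitive group (helper4)

If `G` is 2-transitive on the finite set `Ω` and `H ≤ G` has index `< |Ω|`, then `H` is transitive on `Ω`.
Proof: for an `H`-orbit `O ≠ Ω` the translates `gO` (`gH ∈ G/H`) form a `G`-invariant 2-design with `[G:H]` blocks;
its incidence map `ℚ^Ω → ℚ^(G/H)` is injective because of the quadratic form `(r-λ) Σ f² + λ (Σ f)²`.
-/

set_option autoImplicit false

namespace Cfsg.Agent.Lib.Helper4.Fisher

open scoped BigOperators Classical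

variable {G Ω : Type*} [Group G] [MulAction G Ω]

/-- incidence between a point and a coset `gH`: `x ∈ gO`. -/
def inc (H : Subgroup G) (O : Set Ω) (x : Ω) (γ : G ⧸ H) : Prop :=
  ∃ g : G, (g : G ⧸ H) = γ ∧ g⁻¹ • x ∈ O

theorem inc_mk (H : Subgroup G) (O : Set Ω) (hO : ∀ h ∈ H, ∀ z : Ω, z ∈ O → h • z ∈ O) (x : Ω) (g : G) :
    inc H O x (g : G ⧸ H) ↔ g⁻¹ • x ∈ O := by
  constructor
  · rintro ⟨g', hg', hx⟩
    have hmem : g⁻¹ * g' ∈ H := by
      have := QuotientGroup.eq.mp hg'
      have h2 := H.inv_mem this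
      simpa [mul_inv_rev] using h2
    have := hO _ hmem _ hx
    rwa [mul_smul, smul_inv_smul] at this
  · intro hx
    exact ⟨g, rfl, hx⟩

theorem inc_smul (H : Subgroup G) (O : Set Ω) (hO : ∀ h ∈ H, ∀ z : Ω, z ∈ O → h • z ∈ O)
    (a : G) (x : Ω) (γ : G ⧸ H) : inc H O (a • x) (a • γ) ↔ inc H O x γ := by
  induction γ using QuotientGroup.induction_on with
  | H g =>
    rw [MulAction.Quotient.smul_mk, inc_mk H O hO, inc_mk H O hO, smul_eq_mul, mul_inv_rev, mul_smul,
      inv_smul_smul]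

section count

variable [Fintype Ω] (H : Subgroup G) [Fintype (G ⧸ H)] (O : Set Ω)

/-- the 0/1 incidence number. -/
noncomputable def iota (γ : G ⧸ H) (x : Ω) : ℚ := if inc H O x γ then 1 else 0

/-- the Gram matrix of the incidence structure. -/
noncomputable def gram (x y : Ω) : ℚ := ∑ γ : G ⧸ H, iota H O γ x * iota H O γ y

theorem iota_smul (hO : ∀ h ∈ H, ∀ z : Ω, z ∈ O → h • z ∈ O) (a : G) (γ : G ⧸ H) (x : Ω) :
    iota H O (a • γ) (a • x) = iota H O γ x := by
  unfold iota
  rw [inc_smul H O hO]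

theorem gram_smul (hO : ∀ h ∈ H, ∀ z : Ω, z ∈ O → h • z ∈ O) (a : G) (x y : Ω) :
    gram H O (a • x) (a • y) = gram H O x y := by
  unfold gram
  rw [← Equiv.sum_comp (MulAction.toPerm a : Equiv.Perm (G ⧸ H))]
  refine Finset.sum_congr rfl (fun γ _ => ?_)
  rw [MulAction.toPerm_apply, iota_smul H O hO, iota_smul H O hO]

theorem iota_nonneg (γ : G ⧸ H) (x : Ω) : 0 ≤ iota H O γ x := by
  unfold iota
  split_ifs <;> norm_num

theorem iota_le_one (γ : G ⧸ H) (x : Ω) : iota H O γ x ≤ 1 := by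
  unfold iota
  split_ifs <;> norm_num

theorem gram_nonneg (x y : Ω) : 0 ≤ gram H O x y :=
  Finset.sum_nonneg (fun γ _ => mul_nonneg (iota_nonneg H O γ x) (iota_nonneg H O γ y))

/-- a block through `x` missing `y` makes the diagonal entry strictly larger. -/
theorem gram_lt (hO : ∀ h ∈ H, ∀ z : Ω, z ∈ O → h • z ∈ O) (x y : Ω) (hx : x ∈ O) (hy : y ∉ O) :
    gram H O x y + 1 ≤ gram H O x x := by
  unfold gram
  have hone : (1 : ℚ) = ∑ γ : G ⧸ H, (if γ = ((1 : G) : G ⧸ H) then (1 : ℚ) else 0) := by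
    rw [Finset.sum_ite_eq' Finset.univ ((1 : G) : G ⧸ H) (fun _ => (1 : ℚ))]
    simp
  rw [hone, ← Finset.sum_add_distrib]
  refine Finset.sum_le_sum (fun γ _ => ?_)
  have hix1 : inc H O x ((1 : G) : G ⧸ H) := by
    rw [inc_mk H O hO]
    simpa using hx
  have hiy1 : ¬ inc H O y ((1 : G) : G ⧸ H) := by
    rw [inc_mk H O hO]
    simpa using hy
  unfold iota
  by_cases hγ : γ = ((1 : G) : G ⧸ H)
  · subst hγ
    rw [if_pos hix1, if_neg hiy1, if_pos rfl]
    norm_num
  · rw [if_neg hγ]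
    by_cases h1 : inc H O x γ <;> by_cases h2 : inc H O y γ <;> simp [h1, h2]

/-- the quadratic form identity. -/
theorem sum_sq_eq (f : Ω → ℚ) :
    ∑ γ : G ⧸ H, (∑ x : Ω, iota H O γ x * f x) ^ 2 = ∑ x : Ω, ∑ y : Ω, f x * f y * gram H O x y := by
  unfold gram
  simp_rw [pow_two, Finset.sum_mul_sum, Finset.mul_sum]
  rw [Finset.sum_comm]
  refine Finset.sum_congr rfl (fun x _ => ?_)
  rw [Finset.sum_comm]
  refine Finset.sum_congr rfl (fun y _ => ?_)
  refine Finset.sum_congr rfl (fun γ _ => ?_)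
  ring

end count

/-- **Fisher**: a subgroup of index `< |Ω|` of a 2-transitive group on `Ω` is transitive. -/
theorem isPretransitive_of_index_lt [Finite Ω] (h2 : MulAction.IsMultiplyPretransitive G Ω 2)
    (H : Subgroup G) (h0 : H.index ≠ 0) (hlt : H.index < Nat.card Ω) : MulAction.IsPretransitive ↥H Ω := by
  by_contra hnt
  have : Fintype Ω := Fintype.ofFinite Ω
  have hfi : H.FiniteIndex := ⟨h0⟩
  have : Fintype (G ⧸ H) := Subgroup.fintypeQuotientOfFiniteIndex
  -- two points in different `H`-orbits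
  have hex : ∃ x y : Ω, ∀ h : ↥H, h • x ≠ y := by
    by_contra hcon
    push Not at hcon
    exact hnt ⟨hcon⟩
  obtain ⟨x0, y0, hxy⟩ := hex
  set O : Set Ω := MulAction.orbit ↥H x0 with hOdef
  have hx0 : x0 ∈ O := MulAction.mem_orbit_self x0
  have hy0 : y0 ∉ O := by
    rintro ⟨h, hh⟩
    exact hxy h hh
  have hO : ∀ h ∈ H, ∀ z : Ω, z ∈ O → h • z ∈ O := by
    rintro h hh z ⟨k, rfl⟩
    refine ⟨⟨h, hh⟩ * k, ?_⟩
    show (⟨h, hh⟩ * k : ↥H) • x0 = h • (k • x0)
    rw [mul_smul]
    rfl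
  have htr : MulAction.IsPretransitive G Ω := MulAction.isPretransitive_of_is_two_pretransitive
  rw [MulAction.is_two_pretransitive_iff] at h2
  have hne0 : x0 ≠ y0 := by
    rintro rfl
    exact hy0 hx0
  -- the constants r and λ
  set r : ℚ := gram H O x0 x0 with hr
  set l : ℚ := gram H O x0 y0 with hl
  have hdiag : ∀ x : Ω, gram H O x x = r := by
    intro x
    obtain ⟨a, ha⟩ := MulAction.exists_smul_eq G x0 x
    rw [← ha, gram_smul H O hO]
  have hoff : ∀ x y : Ω, x ≠ y → gram H O x y = l := by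
    intro x y hxy'
    obtain ⟨a, ha, hb⟩ := h2 hne0 hxy'
    rw [← ha, ← hb, gram_smul H O hO]
  have hrl : l + 1 ≤ r := gram_lt H O hO x0 y0 hx0 hy0
  have hl0 : 0 ≤ l := gram_nonneg H O x0 y0
  -- the incidence map is injective
  let T : (Ω → ℚ) →ₗ[ℚ] ((G ⧸ H) → ℚ) :=
    { toFun := fun f γ => ∑ x : Ω, iota H O γ x * f x
      map_add' := by
        intro f g
        funext γ
        simp only [Pi.add_apply, mul_add, Finset.sum_add_distrib]
      map_smul' := by
        intro c f
        funext γ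
        simp only [Pi.smul_apply, smul_eq_mul, RingHom.id_apply, Finset.mul_sum]
        refine Finset.sum_congr rfl (fun x _ => ?_)
        ring }
  have hinj : Function.Injective T := by
    rw [← LinearMap.ker_eq_bot, LinearMap.ker_eq_bot']
    intro f hf
    have hzero : ∀ γ : G ⧸ H, ∑ x : Ω, iota H O γ x * f x = 0 := fun γ => congrFun hf γ
    have hsum : ∑ x : Ω, ∑ y : Ω, f x * f y * gram H O x y = 0 := by
      rw [← sum_sq_eq H O f]
      refine Finset.sum_eq_zero (fun γ _ => ?_)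
      rw [hzero γ]
      norm_num
    have hform : ∑ x : Ω, ∑ y : Ω, f x * f y * gram H O x y =
        (r - l) * ∑ x : Ω, f x ^ 2 + l * (∑ x : Ω, f x) ^ 2 := by
      have h1 : ∀ x y : Ω, f x * f y * gram H O x y =
          l * (f x * f y) + (if x = y then (r - l) * f x ^ 2 else 0) := by
        intro x y
        by_cases hxy' : x = y
        · subst hxy'
          rw [if_pos rfl, hdiag]
          ring
        · rw [if_neg hxy', hoff x y hxy']
          ring
      simp_rw [h1, Finset.sum_add_distrib, Finset.sum_ite_eq, Finset.mem_univ, if_true]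
      rw [← Finset.mul_sum, pow_two (∑ x : Ω, f x), Finset.sum_mul_sum]
      simp_rw [← Finset.mul_sum]
      ring
    rw [hform] at hsum
    have hsq : 0 ≤ ∑ x : Ω, f x ^ 2 := Finset.sum_nonneg (fun x _ => sq_nonneg (f x))
    have hsq2 : 0 ≤ (∑ x : Ω, f x) ^ 2 := sq_nonneg _
    have hz : ∑ x : Ω, f x ^ 2 = 0 := by
      nlinarith
    funext x
    have := (Finset.sum_eq_zero_iff_of_nonneg (fun x _ => sq_nonneg (f x))).mp hz x (Finset.mem_univ x)
    simpa using this
  have hle := LinearMap.finrank_le_finrank_of_injective hinj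
  rw [Module.finrank_fintype_fun_eq_card, Module.finrank_fintype_fun_eq_card] at hle
  have hidx : H.index = Fintype.card (G ⧸ H) := by
    rw [Subgroup.index, Nat.card_eq_fintype_card]
  rw [hidx, Nat.card_eq_fintype_card] at hlt
  omega

end Cfsg.Agent.Lib.Helper4.Fisher
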