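import Mathlib
import Cfsg.Agent.Lib.Helper12.U3Defs

/-!
helper4: leaf SEMIREG (`QQ_semireg`) of market "U3" (S2148, planner helper12):
`QQ` is semiregular on the isotropic points other than `⟨ve⟩`.
-/

set_option autoImplicit false

namespace Cfsg.Agent.Lib.Helper4.U3Leaf

open Cfsg.Agent.Lib.Helper18.PSUMod Cfsg.Agent.Lib.Helper5.HermBridge Cfsg.Agent.Lib.Helper12.U3
open Cfsg.Agent.Lib.Helper13

section model

variable {F : Type*} [Field F] [Fintype F] {q : ℕ} (hF : Fintype.card F = q ^ 2)

/-- an isotropic vector of `V F 1` with last coordinate `0` is a multiple of `ve`. -/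
theorem eq_smul_ve_of_iso (u : V F 1) (hu : hV (frobHom hF) u u = 0) (h2 : u.2.2 = 0) :
    u = u.1 • ve := by
  obtain ⟨a, w, b⟩ := u
  simp only at h2
  subst h2
  simp only [hV, hW, map_zero, mul_zero, zero_mul, zero_add, Fin.sum_univ_one, Fin.isValue] at hu
  have hw0 : w 0 = 0 := by
    rcases mul_eq_zero.1 hu with h | h
    · exact h
    · exact (map_eq_zero (frobHom hF)).1 h
  have hw : w = 0 := by
    funext i
    rw [Fin.fin_one_eq_zero i]
    exact hw0
  subst hw
  simp [ve, Prod.smul_mk]

/-- M9: `QQ` is semiregular on the isotropic points other than `⟨ve⟩`. -/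
theorem QQ_semireg (x : GG hF) (hx : x ∈ QQ hF) (hx1 : x ≠ 1) (g : GG hF) (hg : g ∉ PP hF) :
    g⁻¹ * x * g ∉ PP hF := by
  intro hmem
  obtain ⟨y, rfl⟩ := hx
  obtain ⟨a, ha⟩ := hmem
  set u : V F 1 := av g ve with hu
  have hiso : hV (frobHom hF) u u = 0 := by
    rw [hu, hV_av]
    simp [hV, ve]
  have hfix : av (EG (barOK_frob hF).invol y) u = a • u := by
    have h1 : av (g⁻¹ * EG (barOK_frob hF).invol y * g) ve = a • ve := ha
    rw [av_mul, av_mul] at h1
    have h2 := congrArg (av g) h1
    rw [av_av_inv, av_smul] at h2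
    exact h2
  by_cases h2 : u.2.2 = 0
  · apply hg
    exact ⟨u.1, eq_smul_ve_of_iso hF u hiso h2⟩
  · apply hx1
    rw [av_EG] at hfix
    have e3 : u.2.2 = a * u.2.2 := by
      have := congrArg (fun v : V F 1 => v.2.2) hfix
      simpa using this
    have ha1 : a = 1 := by
      have : (a - 1) * u.2.2 = 0 := by linear_combination -e3
      rcases mul_eq_zero.1 this with h | h
      · linear_combination h
      · exact absurd h h2
    subst ha1
    have e2 : u.2.1 + u.2.2 • (y : HP (frobHom hF) 1).w = u.2.1 := by
      have := congrArg (fun v : V F 1 => v.2.1) hfix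
      simpa using this
    have hw : (y : HP (frobHom hF) 1).w = 0 := by
      have h3 : u.2.2 • (y : HP (frobHom hF) 1).w = 0 := by
        have := e2
        rw [add_eq_left] at this
        exact this
      rcases smul_eq_zero.1 h3 with h | h
      · exact absurd h h2
      · exact h
    have e1 : u.1 - hW (frobHom hF) u.2.1 (y : HP (frobHom hF) 1).w + (y : HP (frobHom hF) 1).c * u.2.2 = u.1 := by
      have := congrArg (fun v : V F 1 => v.1) hfix
      simpa using this
    have hc : (y : HP (frobHom hF) 1).c = 0 := by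
      rw [hw, hW_zero_right, sub_zero, add_eq_left] at e1
      rcases mul_eq_zero.1 e1 with h | h
      · exact h
      · exact absurd h h2
    have hy1 : y = 1 := by
      apply Subtype.ext
      exact HP.ext hw hc
    rw [hy1, map_one]

end model

end Cfsg.Agent.Lib.Helper4.U3Leaf
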