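import Mathlib
import Cfsg.Agent.Lib.Helper12.U3Defs
import Cfsg.Agent.Lib.Helper4.U3SEMIREG

/-!
helper4: leaf BRUHAT (`bruhat`) of market "U3" (S2148, planner helper12):
2-transitivity of `SU_3(q)` on the isotropic points, in double-coset form.
-/

set_option autoImplicit false

namespace Cfsg.Agent.Lib.Helper4.U3Leaf

open Cfsg.Agent.Lib.Helper18.PSUMod Cfsg.Agent.Lib.Helper5.HermBridge Cfsg.Agent.Lib.Helper12.U3
open Cfsg.Agent.Lib.Helper13

section model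

variable {F : Type*} [Field F] [Fintype F] {q : ℕ} (hF : Fintype.card F = q ^ 2)

/-- the image of `ve` under `g ∉ PP` is a far isotropic vector. -/
theorem far_of_not_mem (g : GG hF) (hg : g ∉ PP hF) :
    hV (frobHom hF) (av g ve) (av g ve) = 0 ∧ (av g ve).2.2 ≠ 0 := by
  have hiso : hV (frobHom hF) (av g ve) (av g ve) = 0 := by
    rw [hV_av]
    simp [hV, ve]
  refine ⟨hiso, ?_⟩
  intro h2
  exact hg ⟨(av g ve).1, eq_smul_ve_of_iso hF _ hiso h2⟩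

/-- M4 BRUHAT (2-transitivity on the isotropic points). -/
theorem bruhat (g g' : GG hF) (hg : g ∉ PP hF) (hg' : g' ∉ PP hF) :
    ∃ a ∈ PP hF, ∃ b ∈ PP hF, g' = a * g * b := by
  obtain ⟨hiso, hfar⟩ := far_of_not_mem hF g hg
  obtain ⟨hiso', hfar'⟩ := far_of_not_mem hF g' hg'
  obtain ⟨x, hx⟩ := exists_EG_of_far (barOK_frob hF).invol hiso hfar
  obtain ⟨x', hx'⟩ := exists_EG_of_far (barOK_frob hF).invol hiso' hfar'
  obtain ⟨c, hc, hx⟩ : ∃ c : F, c ≠ 0 ∧ av g ve = c • av (EG (barOK_frob hF).invol x) vf :=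
    ⟨_, hfar, hx⟩
  obtain ⟨c', hc', hx'⟩ : ∃ c : F, c ≠ 0 ∧ av g' ve = c • av (EG (barOK_frob hF).invol x') vf :=
    ⟨_, hfar', hx'⟩
  set E := EG (barOK_frob hF).invol x with hE
  set E' := EG (barOK_frob hF).invol x' with hE'
  have hEmem : E ∈ PP hF := Qe_le_Pe (barOK_frob hF).invol ⟨x, rfl⟩
  have hE'mem : E' ∈ PP hF := Qe_le_Pe (barOK_frob hF).invol ⟨x', rfl⟩
  set a : GG hF := E' * E⁻¹ with ha
  have hamem : a ∈ PP hF := (PP hF).mul_mem hE'mem ((PP hF).inv_mem hEmem)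
  -- the element `g'⁻¹ a g` stabilises `⟨ve⟩`
  have hkey : av (a * g) ve = (c * c'⁻¹) • av g' ve := by
    rw [av_mul, ha, av_mul, hx, av_smul, av_inv_av, av_smul, hx', smul_smul, mul_assoc,
      inv_mul_cancel₀ hc', mul_one]
  have hb : g'⁻¹ * (a * g) ∈ PP hF := by
    refine ⟨c * c'⁻¹, ?_⟩
    rw [av_mul, hkey, av_smul, av_inv_av]
  refine ⟨a, hamem, (g'⁻¹ * (a * g))⁻¹, (PP hF).inv_mem hb, ?_⟩
  group

end model

end Cfsg.Agent.Lib.Helper4.U3Leaf
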