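import Mathlib
import Cfsg.Agent.Lib.Helper12.U3Defs
import Cfsg.Agent.Lib.Helper4.U3BRUHAT
import Cfsg.Agent.Lib.Helper20.U3CARDQ

/-!
helper4: leaf IDXP (`index_PP`) of market "U3" (S2148, planner helper12): `|G : P| = q^3 + 1`.
The cosets of `PP` are `PP` and the `EG x * s * PP` (`x ∈ HS`), `s` an element with `s ⟨ve⟩ = ⟨vf⟩`.
-/

set_option autoImplicit false

namespace Cfsg.Agent.Lib.Helper4.U3Leaf

open Cfsg.Agent.Lib.Helper18.PSUMod Cfsg.Agent.Lib.Helper5.HermBridge Cfsg.Agent.Lib.Helper12.U3
open Cfsg.Agent.Lib.Helper13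

section model

variable {F : Type*} [Field F] [Fintype F] {q : ℕ} (hF : Fintype.card F = q ^ 2)

/-- M5 -/
theorem index_PP : (PP hF).index = q ^ 3 + 1 := by
  classical
  obtain ⟨s, a, ha, hs⟩ := exists_vf_eq (m := 1) (barOK_frob hF)
  -- `s` maps `ve` to a multiple of `vf`
  have hsve : av s ve = a⁻¹ • (vf : V F 1) := by
    rw [hs, smul_smul, inv_mul_cancel₀ ha, one_smul]
  have hsP : s ∉ PP hF := by
    rintro ⟨b, hb⟩
    rw [hsve] at hb
    have := congrArg (fun v : V F 1 => v.2.2) hb
    simp [vf, ve] at this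
    exact ha this
  let φ : Option ↥(HS (frobHom hF) (barOK_frob hF).invol 1) → GG hF ⧸ PP hF := fun o =>
    match o with
    | none => ((1 : GG hF) : GG hF ⧸ PP hF)
    | some x => ((EG (barOK_frob hF).invol x * s : GG hF) : GG hF ⧸ PP hF)
  have hnotP : ∀ x : ↥(HS (frobHom hF) (barOK_frob hF).invol 1),
      EG (barOK_frob hF).invol x * s ∉ PP hF := by
    intro x hmem
    apply hsP
    have hE : EG (barOK_frob hF).invol x ∈ PP hF := Qe_le_Pe (barOK_frob hF).invol ⟨x, rfl⟩
    have := (PP hF).mul_mem ((PP hF).inv_mem hE) hmem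
    rwa [inv_mul_cancel_left] at this
  have hinj : Function.Injective φ := by
    intro o o' h
    match o, o' with
    | none, none => rfl
    | none, some x =>
      exfalso
      have h1 : ((1 : GG hF) : GG hF ⧸ PP hF) = ((EG (barOK_frob hF).invol x * s : GG hF) : GG hF ⧸ PP hF) := h
      rw [QuotientGroup.eq, inv_one, one_mul] at h1
      exact hnotP x h1
    | some x, none =>
      exfalso
      have h1 : ((EG (barOK_frob hF).invol x * s : GG hF) : GG hF ⧸ PP hF) = ((1 : GG hF) : GG hF ⧸ PP hF) := h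
      rw [QuotientGroup.eq, mul_one] at h1
      exact hnotP x (by simpa using (PP hF).inv_mem h1)
    | some x, some x' =>
      have h1 : ((EG (barOK_frob hF).invol x * s : GG hF) : GG hF ⧸ PP hF) =
          ((EG (barOK_frob hF).invol x' * s : GG hF) : GG hF ⧸ PP hF) := h
      rw [QuotientGroup.eq] at h1
      have h2 : s⁻¹ * EG (barOK_frob hF).invol (x⁻¹ * x') * s ∈ PP hF := by
        have : (EG (barOK_frob hF).invol x * s)⁻¹ * (EG (barOK_frob hF).invol x' * s) =
            s⁻¹ * EG (barOK_frob hF).invol (x⁻¹ * x') * s := by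
          rw [map_mul, map_inv]
          group
        rwa [this] at h1
      by_contra hne
      have hne' : x ≠ x' := fun h => hne (by rw [h])
      have hx1 : EG (barOK_frob hF).invol (x⁻¹ * x') ≠ 1 := by
        intro h3
        have := EG_injective (barOK_frob hF).invol (h3.trans (map_one _).symm)
        exact hne' (by rw [inv_mul_eq_one] at this; exact this)
      exact QQ_semireg hF _ ⟨_, rfl⟩ hx1 s hsP h2
  have hsurj : Function.Surjective φ := by
    intro y
    induction y using QuotientGroup.induction_on with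
    | H g =>
      by_cases hg : g ∈ PP hF
      · refine ⟨none, ?_⟩
        show ((1 : GG hF) : GG hF ⧸ PP hF) = (g : GG hF ⧸ PP hF)
        rw [QuotientGroup.eq, inv_one, one_mul]
        exact hg
      · obtain ⟨hiso, hfar⟩ := far_of_not_mem hF g hg
        obtain ⟨x, hx⟩ := exists_EG_of_far (barOK_frob hF).invol hiso hfar
        obtain ⟨c, hc, hx⟩ : ∃ c : F, c ≠ 0 ∧ av g ve = c • av (EG (barOK_frob hF).invol x) vf :=
          ⟨_, hfar, hx⟩
        refine ⟨some x, ?_⟩
        show ((EG (barOK_frob hF).invol x * s : GG hF) : GG hF ⧸ PP hF) = (g : GG hF ⧸ PP hF)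
        rw [QuotientGroup.eq]
        refine ⟨c * a, ?_⟩
        rw [av_mul, hx, av_smul, hs, av_smul, av_smul, ← av_mul, ← av_mul,
          show (EG (barOK_frob hF).invol x * s)⁻¹ * EG (barOK_frob hF).invol x * s = 1 by group,
          av_one, smul_smul]
  have hcard : Nat.card (GG hF ⧸ PP hF) =
      Nat.card (Option ↥(HS (frobHom hF) (barOK_frob hF).invol 1)) :=
    (Nat.card_congr (Equiv.ofBijective φ ⟨hinj, hsurj⟩)).symm
  have : Finite ↥(HS (frobHom hF) (barOK_frob hF).invol 1) :=
    Nat.finite_of_card_ne_zero (by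
      rw [Cfsg.Agent.Lib.Helper20.U3Leaf.card_HS hF]
      have hq : q ≠ 0 := by
        rintro rfl
        have : Fintype.card F = 0 := by rw [hF]; norm_num
        exact Fintype.card_ne_zero this
      exact pow_ne_zero 3 hq)
  rw [Subgroup.index, hcard, Finite.card_option, Cfsg.Agent.Lib.Helper20.U3Leaf.card_HS hF]

end model

end Cfsg.Agent.Lib.Helper4.U3Leaf
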