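import Mathlib
import Cfsg.Agent.Lib.Helper12.U3Defs
import Cfsg.Agent.Lib.Helper20.U3CARDQ

/-!
helper4: market "U3" (S2148, planner helper12), leaf BBETA (`borel_beta`), part (a):
the structure of `D = K ⊓ QQ` when `K ⊓ TT = ⊥`: the `w`-coordinates of `D` form an additive subgroup `W` of `F`
on which `a * bar b = b * bar a`; hence `W ⊆ a₀ • Fix(bar)`, `|D| ≤ q`, and `D = 1` in characteristic `2`.
-/

set_option autoImplicit false

namespace Cfsg.Agent.Lib.Helper4.U3BBETA

open Cfsg.Agent.Lib.Helper18.PSUMod Cfsg.Agent.Lib.Helper5.HermBridge Cfsg.Agent.Lib.Helper12.U3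

noncomputable section

variable {F : Type*} [Field F] [Fintype F] {q : ℕ} (hF : Fintype.card F = q ^ 2)

/-- the Heisenberg group of the model -/
abbrev HSq : Type _ := ↥(HS (frobHom hF) (barOK_frob hF).invol 1)

/-- the embedding of `HSq` -/
abbrev EGq : HSq hF →* GG hF := EG (barOK_frob hF).invol

/-- the `w`-coordinate -/
def wc (x : HSq hF) : F := (x : HP (frobHom hF) 1).w 0

/-- the `c`-coordinate -/
def cc (x : HSq hF) : F := (x : HP (frobHom hF) 1).c

theorem wc_mul (x y : HSq hF) : wc hF (x * y) = wc hF x + wc hF y := rfl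

theorem wc_one : wc hF (1 : HSq hF) = 0 := rfl

theorem wc_inv (x : HSq hF) : wc hF x⁻¹ = -wc hF x := rfl

theorem hW_one (w w' : Fin 1 → F) : hW (frobHom hF) w w' = w 0 * frobHom hF (w' 0) := by
  simp [hW]

theorem cc_mul (x y : HSq hF) :
    cc hF (x * y) = cc hF x + cc hF y - wc hF y * frobHom hF (wc hF x) := by
  show (x.1 * y.1).c = _
  rw [HP.mul_c, hW_one]
  rfl

theorem ext_wc_cc {x y : HSq hF} (hw : wc hF x = wc hF y) (hc : cc hF x = cc hF y) : x = y := by
  apply Subtype.ext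
  apply HP.ext
  · funext i
    rw [Fin.fin_one_eq_zero i]
    exact hw
  · exact hc

theorem w_eq_zero_of_wc {x : HSq hF} (h : wc hF x = 0) : (x : HP (frobHom hF) 1).w = 0 := by
  funext i
  rw [Fin.fin_one_eq_zero i]
  exact h

/-- the relation defining `HS` in coordinates -/
theorem mem_rel (x : HSq hF) :
    cc hF x + frobHom hF (cc hF x) = -(wc hF x * frobHom hF (wc hF x)) := by
  have := x.2
  rw [mem_HS, hW_one] at this
  exact this

/-- the preimage of `K` in the Heisenberg group -/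
def DD (K : Subgroup (GG hF)) : Subgroup (HSq hF) := K.comap (EGq hF)

theorem mem_DD {K : Subgroup (GG hF)} {x : HSq hF} : x ∈ DD hF K ↔ EGq hF x ∈ K := Iff.rfl

theorem inf_QQ_eq_map (K : Subgroup (GG hF)) : K ⊓ QQ hF = (DD hF K).map (EGq hF) := by
  ext g
  rw [Subgroup.mem_inf, Subgroup.mem_map]
  constructor
  · rintro ⟨hK, x, rfl⟩
    exact ⟨x, hK, rfl⟩
  · rintro ⟨x, hx, rfl⟩
    exact ⟨hx, x, rfl⟩

theorem card_DD (K : Subgroup (GG hF)) : Nat.card (DD hF K) = Nat.card ↥(K ⊓ QQ hF) := by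
  rw [inf_QQ_eq_map]
  exact Nat.card_congr
    ((DD hF K).equivMapOfInjective (EGq hF) (EG_injective (barOK_frob hF).invol)).toEquiv

variable {K : Subgroup (GG hF)} (hE : K ⊓ TT hF = ⊥)
include hE

/-- (a) an element of `D` with `w = 0` is trivial -/
theorem eq_one_of_wc {x : HSq hF} (hx : x ∈ DD hF K) (hw : wc hF x = 0) : x = 1 := by
  have h1 : EGq hF x ∈ K ⊓ TT hF := by
    refine ⟨hx, ?_⟩
    exact (mem_Te (barOK_frob hF).invol).2 ⟨x, w_eq_zero_of_wc hF hw, rfl⟩
  rw [hE, Subgroup.mem_bot] at h1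
  exact EG_injective (barOK_frob hF).invol (h1.trans (map_one _).symm)

/-- `wc` is injective on `D` -/
theorem wc_inj {x y : HSq hF} (hx : x ∈ DD hF K) (hy : y ∈ DD hF K) (h : wc hF x = wc hF y) :
    x = y := by
  have h1 : x⁻¹ * y = 1 := by
    apply eq_one_of_wc hF hE ((DD hF K).mul_mem ((DD hF K).inv_mem hx) hy)
    rw [wc_mul, wc_inv, h, neg_add_cancel]
  exact inv_mul_eq_one.mp h1

/-- (b) the commutator form vanishes on `W` -/
theorem skew {x y : HSq hF} (hx : x ∈ DD hF K) (hy : y ∈ DD hF K) :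
    wc hF x * frobHom hF (wc hF y) = wc hF y * frobHom hF (wc hF x) := by
  have h := HS_comm (barOK_frob hF).invol x y
  set z := zel (barOK_frob hF).invol
    (hW (frobHom hF) (x : HP (frobHom hF) 1).w (y : HP (frobHom hF) 1).w -
      hW (frobHom hF) (y : HP (frobHom hF) 1).w (x : HP (frobHom hF) 1).w)
    (comm_skew (barOK_frob hF).invol _ _) with hz
  have hzD : z ∈ DD hF K := by
    have : z = x * y * (y * x)⁻¹ := by rw [h]; group
    rw [this]
    exact (DD hF K).mul_mem ((DD hF K).mul_mem hx hy) ((DD hF K).inv_mem ((DD hF K).mul_mem hy hx))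
  have hz1 : z = 1 := eq_one_of_wc hF hE hzD rfl
  have hc : cc hF z = 0 := by rw [hz1]; rfl
  have hc' : cc hF z = hW (frobHom hF) (x : HP (frobHom hF) 1).w (y : HP (frobHom hF) 1).w -
      hW (frobHom hF) (y : HP (frobHom hF) 1).w (x : HP (frobHom hF) 1).w := rfl
  rw [hc', hW_one, hW_one] at hc
  exact sub_eq_zero.mp hc

/-- (c) in characteristic two `D` is trivial -/
theorem DD_eq_bot_of_two (h2 : (2 : F) = 0) : DD hF K = ⊥ := by
  rw [eq_bot_iff]
  intro x hx
  rw [Subgroup.mem_bot]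
  have hxx : x * x ∈ DD hF K := (DD hF K).mul_mem hx hx
  have hw2 : wc hF (x * x) = 0 := by
    rw [wc_mul]
    linear_combination (wc hF x) * h2
  have h1 := eq_one_of_wc hF hE hxx hw2
  have hc : cc hF (x * x) = 0 := by rw [h1]; rfl
  rw [cc_mul] at hc
  have hN : wc hF x * frobHom hF (wc hF x) = 0 := by
    linear_combination (cc hF x) * h2 - hc
  have hw0 : wc hF x = 0 := by
    rcases mul_eq_zero.1 hN with h | h
    · exact h
    · exact (map_eq_zero (frobHom hF)).1 h
  exact eq_one_of_wc hF hE hx hw0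

/-- all `w`-coordinates of `D` lie on the line `a₀ • Fix(bar)` -/
theorem wc_mem_line {x₀ : HSq hF} (hx₀ : x₀ ∈ DD hF K) (h0 : wc hF x₀ ≠ 0) {x : HSq hF}
    (hx : x ∈ DD hF K) : frobHom hF (wc hF x / wc hF x₀) = wc hF x / wc hF x₀ := by
  have h := skew hF hE hx hx₀
  have hb0 : frobHom hF (wc hF x₀) ≠ 0 := fun h' => h0 ((map_eq_zero (frobHom hF)).1 h')
  rw [map_div₀]
  field_simp
  linear_combination -h

/-- `|D| ≤ q` -/
theorem card_DD_le : Nat.card (DD hF K) ≤ q := by
  classical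
  by_cases hbot : DD hF K = ⊥
  · rw [hbot, Subgroup.card_bot]
    rcases Nat.eq_zero_or_pos q with h0 | h0
    · exfalso
      rw [h0] at hF
      exact Fintype.card_ne_zero (by rw [hF]; norm_num)
    · exact h0
  · obtain ⟨x₀, hx₀, hne⟩ := (Subgroup.ne_bot_iff_exists_ne_one).mp hbot |>.imp
      (fun x hx => hx) |> fun ⟨x, hx⟩ => (⟨x.1, x.2, fun h => hx (Subtype.ext h)⟩ :
        ∃ x₀ : HSq hF, x₀ ∈ DD hF K ∧ x₀ ≠ 1)
    have h0 : wc hF x₀ ≠ 0 := fun h => hne (eq_one_of_wc hF hE hx₀ h)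
    have hfix : Nat.card {r : F // frobHom hF r = r} = q := by
      obtain ⟨c₀, hc0, hc⟩ := (barOK_frob hF).sk
      rw [Nat.card_congr (Cfsg.Agent.Lib.Helper20.U3Leaf.trKerEquiv hc0 hc),
        Cfsg.Agent.Lib.Helper20.U3Leaf.card_tr_ker hF]
    let f : DD hF K → {r : F // frobHom hF r = r} := fun x =>
      ⟨wc hF x.1 / wc hF x₀, wc_mem_line hF hE hx₀ h0 x.2⟩
    refine le_of_le_of_eq (Nat.card_le_card_of_injective f ?_) hfix
    intro x y hxy
    have h1 : wc hF x.1 / wc hF x₀ = wc hF y.1 / wc hF x₀ := congrArg Subtype.val hxy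
    have h2 : wc hF x.1 = wc hF y.1 := by
      field_simp at h1
      exact h1
    exact Subtype.ext (wc_inj hF hE x.2 y.2 h2)

end

end Cfsg.Agent.Lib.Helper4.U3BBETA
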