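import Mathlib
import Cfsg.Agent.Lib.Helper4.U3BBETAa
import Cfsg.Agent.Lib.Helper22.U3INVKOf

/-!
helper4: market "U3" (S2148), leaf BBETA, part (b): the action of `K ≤ PP` on `D = K ⊓ QQ` in coordinates:
`k ∈ K` with `λ = ca k` multiplies the `w`-coordinates by `θ(λ) = λ⁻¹ bar(λ)²` and the `c`-coordinates (of `TT`) by
`N(λ) = λ bar(λ)`.
-/

set_option autoImplicit false

namespace Cfsg.Agent.Lib.Helper4.U3BBETA

open Cfsg.Agent.Lib.Helper18.PSUMod Cfsg.Agent.Lib.Helper5.HermBridge Cfsg.Agent.Lib.Helper12.U3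

noncomputable section

variable {F : Type*} [Field F] [Fintype F] {q : ℕ} (hF : Fintype.card F = q ^ 2)

/-- `θ(λ) = λ⁻¹ bar(λ)²` -/
def theta (a : F) : F := a⁻¹ * frobHom hF a ^ 2

/-- `N(λ) = λ bar(λ)` -/
def nrm (a : F) : F := a * frobHom hF a

/-- the image of `x` under the action of `l ∈ LL` -/
def actq {l : GG hF} (hl : l ∈ LL hF) (x : HSq hF) : HSq hF :=
  ⟨actL l x.1, actL_mem (barOK_frob hF).invol hl x.2⟩

theorem cb_inv_eq {l : GG hF} (hl : l ∈ LL hF) : (cb l)⁻¹ = frobHom hF (ca l) := by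
  have h1 := ca_mul_cb hl.1
  have hb := (barOK_frob hF).invol
  have h2 : frobHom hF (ca l) * cb l = 1 := by
    have := congrArg (frobHom hF) h1
    rw [map_mul, hb, map_one] at this
    exact this
  exact inv_eq_of_mul_eq_one_left h2

theorem wc_actq {l : GG hF} (hl : l ∈ LL hF) (x : HSq hF) :
    wc hF (actq hF hl x) = theta hF (ca l) * wc hF x := by
  obtain ⟨μ, hμ, hB⟩ := Cfsg.Agent.Lib.Helper22.U3Leaf.av_w0_of_mem_LL hF hl
  have hcb := cb_inv_eq hF hl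
  have ha0 : ca l ≠ 0 := ca_ne_zero hl.1
  have hb0 : cb l ≠ 0 := cb_ne_zero hl.1
  have hμ' : μ = (ca l)⁻¹ * (cb l)⁻¹ := by
    field_simp
    linear_combination hμ
  show (actL l x.1).w 0 = _
  simp only [actL, hB, Pi.smul_apply, smul_eq_mul]
  rw [hμ', hcb, theta]
  show _ = _ * (x : HP (frobHom hF) 1).w 0
  ring

theorem cc_actq {l : GG hF} (hl : l ∈ LL hF) (x : HSq hF) :
    cc hF (actq hF hl x) = nrm hF (ca l) * cc hF x := by
  have hcb := cb_inv_eq hF hl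
  show (actL l x.1).c = _
  simp only [actL]
  rw [hcb, nrm]
  rfl

theorem EGq_actq {l : GG hF} (hl : l ∈ LL hF) (x : HSq hF) :
    l * EGq hF x * l⁻¹ = EGq hF (actq hF hl x) :=
  Le_conj (barOK_frob hF).invol hl x

/-- decomposition of an element of `PP` with the value of `ca` -/
theorem exists_decomp {k : GG hF} (hk : k ∈ PP hF) :
    ∃ z : HSq hF, ∃ l : GG hF, ∃ hl : l ∈ LL hF, k = EGq hF z * l ∧ ca l = ca k := by
  obtain ⟨z, l, hl, rfl⟩ := Pe_decomp (barOK_frob hF).invol hk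
  refine ⟨z, l, hl, rfl, ?_⟩
  unfold ca
  rw [av_mul, av_ve_of_mem_Pe hl.1, av_smul, av_EG_ve]

/-- the action of `k ∈ K` on `D` -/
theorem exists_conj {K : Subgroup (GG hF)} (hK : K ≤ PP hF) {k : GG hF} (hk : k ∈ K)
    {x : HSq hF} (hx : x ∈ DD hF K) :
    ∃ x' ∈ DD hF K, wc hF x' = theta hF (ca k) * wc hF x := by
  obtain ⟨z, l, hl, hkl, hca⟩ := exists_decomp hF (hK hk)
  refine ⟨z * actq hF hl x * z⁻¹, ?_, ?_⟩
  · rw [mem_DD, map_mul, map_mul, map_inv, ← EGq_actq]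
    have : EGq hF z * (l * EGq hF x * l⁻¹) * (EGq hF z)⁻¹ = k * EGq hF x * k⁻¹ := by
      rw [hkl]; group
    rw [this]
    exact K.mul_mem (K.mul_mem hk hx) (K.inv_mem hk)
  · rw [wc_mul, wc_mul, wc_inv, wc_actq, hca]
    ring

end

end Cfsg.Agent.Lib.Helper4.U3BBETA
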