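import Mathlib
import Cfsg.Agent.Lib.Helper4.U3BBETAb
import Cfsg.Agent.Lib.Helper20.U3CAHOM

/-!
helper4: market "U3" (S2148), leaf BBETA, part (c): the group `Λ = ca(K)`: `λ³ = bar(λ)³` on `Λ`, so `|Λ|` divides
`3(q-1)`; `|K| = |D| |Λ|`.
-/

set_option autoImplicit false

namespace Cfsg.Agent.Lib.Helper4.U3BBETA

open Cfsg.Agent.Lib.Helper18.PSUMod Cfsg.Agent.Lib.Helper5.HermBridge Cfsg.Agent.Lib.Helper12.U3
open Cfsg.Agent.Lib.Helper20.U3Leaf

noncomputable section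

variable {F : Type*} [Field F] [Fintype F] {q : ℕ} (hF : Fintype.card F = q ^ 2)

/-- `ca` on `K`, as a homomorphism to the units -/
def psiK {K : Subgroup (GG hF)} (hK : K ≤ PP hF) : ↥K →* Fˣ :=
  (caHom hF).comp (Subgroup.inclusion hK)

theorem psiK_val {K : Subgroup (GG hF)} (hK : K ≤ PP hF) (k : ↥K) :
    ((psiK hF hK k : Fˣ) : F) = ca (k : GG hF) := rfl

theorem psiK_ker {K : Subgroup (GG hF)} (hK : K ≤ PP hF) :
    (psiK hF hK).ker = (K ⊓ QQ hF).subgroupOf K := by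
  ext k
  rw [MonoidHom.mem_ker, Subgroup.mem_subgroupOf, Subgroup.mem_inf]
  have h1 : psiK hF hK k = 1 ↔ Subgroup.inclusion hK k ∈ (caHom hF).ker := by
    rw [MonoidHom.mem_ker]; rfl
  rw [h1, caHom_ker, Subgroup.mem_subgroupOf]
  constructor
  · intro h
    exact ⟨k.2, h⟩
  · intro h
    exact h.2

/-- `|K| = |D| * |Λ|` -/
theorem card_K_eq {K : Subgroup (GG hF)} (hK : K ≤ PP hF) :
    Nat.card K = Nat.card (DD hF K) * Nat.card (psiK hF hK).range := by
  have h1 : Nat.card K = Nat.card (psiK hF hK).range * Nat.card (psiK hF hK).ker := by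
    rw [Subgroup.card_eq_card_quotient_mul_card_subgroup (psiK hF hK).ker,
      Nat.card_congr (QuotientGroup.quotientKerEquivRange (psiK hF hK)).toEquiv]
  have h2 : Nat.card (psiK hF hK).ker = Nat.card ↥(K ⊓ QQ hF) := by
    rw [psiK_ker]
    exact Nat.card_congr (Subgroup.subgroupOfEquivOfLe inf_le_left).toEquiv
  rw [h1, h2, card_DD, mul_comm]

variable {K : Subgroup (GG hF)} (hK : K ≤ PP hF) (hE : K ⊓ TT hF = ⊥)
include hK hE

/-- `λ³ = bar(λ)³` for `λ ∈ ca(K)` when `D ≠ 1` -/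
theorem cube_eq (hD : DD hF K ≠ ⊥) {k : GG hF} (hk : k ∈ K) :
    ca k ^ 3 = frobHom hF (ca k) ^ 3 := by
  obtain ⟨⟨x₀, hx₀⟩, hne⟩ := (Subgroup.ne_bot_iff_exists_ne_one).mp hD
  have hne' : x₀ ≠ 1 := fun h => hne (Subtype.ext h)
  have h0 : wc hF x₀ ≠ 0 := fun h => hne' (eq_one_of_wc hF hE hx₀ h)
  obtain ⟨x', hx', hw⟩ := exists_conj hF hK hk hx₀
  have hline := wc_mem_line hF hE hx₀ h0 hx'
  have hθ : wc hF x' / wc hF x₀ = theta hF (ca k) := by
    rw [hw]
    field_simp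
  rw [hθ] at hline
  have ha0 : ca k ≠ 0 := ca_ne_zero (hK hk)
  have hb0 : frobHom hF (ca k) ≠ 0 := fun h => ha0 ((map_eq_zero (frobHom hF)).1 h)
  have hb := (barOK_frob hF).invol
  unfold theta at hline
  rw [map_mul, map_inv₀, map_pow, hb] at hline
  field_simp at hline
  linear_combination hline

/-- `λ^(3(q-1)) = 1` for `λ ∈ ca(K)` when `D ≠ 1` -/
theorem pow_eq_one (hq : 1 ≤ q) (hD : DD hF K ≠ ⊥) {k : GG hF} (hk : k ∈ K) :
    ca k ^ (3 * (q - 1)) = 1 := by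
  have h := cube_eq hF hK hE hD hk
  have ha0 : ca k ≠ 0 := ca_ne_zero (hK hk)
  rw [frob_apply, ← pow_mul] at h
  have h3 : ca k ^ 3 * ca k ^ (3 * (q - 1)) = ca k ^ 3 * 1 := by
    rw [← pow_add, mul_one]
    have : 3 + 3 * (q - 1) = q * 3 := by omega
    rw [this]
    exact h.symm
  exact mul_left_cancel₀ (pow_ne_zero 3 ha0) h3

/-- `|Λ|` divides `3(q-1)` -/
theorem card_range_dvd (hq : 1 ≤ q) (hD : DD hF K ≠ ⊥) :
    Nat.card (psiK hF hK).range ∣ 3 * (q - 1) := by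
  classical
  have hcyc : IsCyclic ↥(psiK hF hK).range := inferInstance
  obtain ⟨g, hg⟩ := IsCyclic.exists_generator (α := ↥(psiK hF hK).range)
  rw [← orderOf_eq_card_of_forall_mem_zpowers hg]
  apply orderOf_dvd_of_pow_eq_one
  obtain ⟨k, hk⟩ := g.2
  apply Subtype.ext
  rw [Subgroup.coe_pow, Subgroup.coe_one, ← hk]
  apply Units.ext
  rw [Units.val_pow_eq_pow_val, Units.val_one, psiK_val]
  exact pow_eq_one hF hK hE hq hD k.2

omit hE in
/-- `|Λ|` divides `q^2 - 1` -/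
theorem card_range_dvd' : Nat.card (psiK hF hK).range ∣ q ^ 2 - 1 := by
  classical
  have := Subgroup.card_subgroup_dvd_card (psiK hF hK).range
  rwa [Nat.card_eq_fintype_card (α := Fˣ), Fintype.card_units, hF] at this

end

end Cfsg.Agent.Lib.Helper4.U3BBETA
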