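import Mathlib

/-!
helper4: market "U3" (S2148), leaf BBETA, part (d): the arithmetic core.
-/

set_option autoImplicit false

namespace Cfsg.Agent.Lib.Helper4.U3BBETA

theorem arith_lt {q : ℕ} (hq : 2 ≤ q) : q * (q - 1) < q ^ 2 - 1 := by
  obtain ⟨m, rfl⟩ : ∃ m, q = m + 2 := ⟨q - 2, by omega⟩
  have h1 : (m + 2) ^ 2 - 1 = m * m + 4 * m + 3 := by
    apply Nat.sub_eq_of_eq_add
    ring
  have h2 : (m + 2) * (m + 2 - 1) = m * m + 3 * m + 2 := by
    have : m + 2 - 1 = m + 1 := by omega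
    rw [this]
    ring
  rw [h1, h2]
  omega

theorem arith_core {q d t p a : ℕ} (hq : 3 ≤ q) (hp : p.Prime) (hp3 : 3 ≤ p)
    (ha : q = p ^ a) (hdq : d ≤ q) (hdd : d ∣ q ^ 3)
    (ht1 : t ∣ 3 * (q - 1)) (ht2 : t ∣ q ^ 2 - 1) (hcard : q ^ 2 - 1 ≤ d * t) :
    3 ∣ q + 1 ∧ d = q ∧ (t = 3 * (q - 1) ∨ 2 * t = 3 * (q - 1)) := by
  have hlt := arith_lt (show 2 ≤ q by omega)
  have hq1 : 0 < q - 1 := by omega
  have ht3 : t ≤ 3 * (q - 1) := Nat.le_of_dvd (by omega) ht1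
  have h3 : 3 ∣ q + 1 := by
    by_contra h
    have hcop : Nat.Coprime 3 (q + 1) := (Nat.Prime.coprime_iff_not_dvd Nat.prime_three).2 h
    have hfac : q ^ 2 - 1 = (q + 1) * (q - 1) := by
      obtain ⟨m, rfl⟩ : ∃ m, q = m + 1 := ⟨q - 1, by omega⟩
      apply Nat.sub_eq_of_eq_add
      have : m + 1 - 1 = m := by omega
      rw [this]
      ring
    rw [hfac] at ht2
    have hg : t ∣ Nat.gcd (3 * (q - 1)) ((q + 1) * (q - 1)) := Nat.dvd_gcd ht1 ht2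
    rw [Nat.gcd_mul_right, hcop.gcd_eq_one, one_mul] at hg
    have htle : t ≤ q - 1 := Nat.le_of_dvd hq1 hg
    have : d * t ≤ q * (q - 1) := Nat.mul_le_mul hdq htle
    omega
  have hd : d = q := by
    rw [ha, ← pow_mul] at hdd
    obtain ⟨i, -, hi⟩ := (Nat.dvd_prime_pow hp).1 hdd
    have hia : i ≤ a := by
      rw [hi, ha] at hdq
      exact (Nat.pow_le_pow_iff_right hp.one_lt).1 hdq
    by_contra hne
    have hlt' : i < a := by
      rcases Nat.lt_or_ge i a with h | h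
      · exact h
      · exfalso
        apply hne
        rw [hi, ha, le_antisymm hia h]
    have h1 : p ^ (i + 1) ≤ p ^ a := Nat.pow_le_pow_right hp.pos hlt'
    rw [pow_succ, ← hi, ← ha] at h1
    have h2 : d * 3 ≤ d * p := Nat.mul_le_mul_left d hp3
    have h3d : d * 3 ≤ q := le_trans h2 h1
    have h4 : d * t ≤ d * (3 * (q - 1)) := Nat.mul_le_mul_left d ht3
    have h5 : d * (3 * (q - 1)) = (d * 3) * (q - 1) := by ring
    have h6 : (d * 3) * (q - 1) ≤ q * (q - 1) := Nat.mul_le_mul_right _ h3d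
    omega
  refine ⟨h3, hd, ?_⟩
  obtain ⟨e, he⟩ := ht1
  rw [hd] at hcard
  have he0 : e ≠ 0 := by
    rintro rfl
    omega
  rcases Nat.lt_or_ge e 3 with h | h
  · have : e = 1 ∨ e = 2 := by omega
    rcases this with rfl | rfl
    · left; omega
    · right; omega
  · exfalso
    have h1 : t * 3 ≤ t * e := Nat.mul_le_mul_left t h
    have htle : t ≤ q - 1 := by omega
    have : q * t ≤ q * (q - 1) := Nat.mul_le_mul_left q htle
    omega

/-- `q` odd, `3 ∣ q + 1`, `3 ≤ q`, `q ≠ 5` force `11 ≤ q` -/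
theorem eleven_le {q : ℕ} (hq : 3 ≤ q) (hq5 : q ≠ 5) (hodd : Odd q) (h3 : 3 ∣ q + 1) : 11 ≤ q := by
  obtain ⟨m, hm⟩ := hodd
  obtain ⟨n, hn⟩ := h3
  omega

/-- `t ∣ q + 1` is impossible -/
theorem not_dvd_succ {q t : ℕ} (hq : 11 ≤ q) (ht : t = 3 * (q - 1) ∨ 2 * t = 3 * (q - 1)) :
    ¬ t ∣ q + 1 := by
  intro h
  have := Nat.le_of_dvd (by omega) h
  omega

/-- `t ∣ 2q - 1` is impossible -/
theorem not_dvd_two {q t : ℕ} (hq : 11 ≤ q) (ht : t = 3 * (q - 1) ∨ 2 * t = 3 * (q - 1)) :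
    ¬ t ∣ 2 * q - 1 := by
  intro h
  have h1 : t ∣ 2 * (3 * (q - 1)) := by
    rcases ht with h' | h'
    · exact Dvd.dvd.mul_left (h' ▸ dvd_rfl) 2
    · rw [← h']
      exact Dvd.dvd.mul_left (Dvd.intro_left 2 rfl) 2
  have h2 : t ∣ 3 * (2 * q - 1) := Dvd.dvd.mul_left h 3
  have h3 : t ∣ 3 * (2 * q - 1) - 2 * (3 * (q - 1)) := Nat.dvd_sub h2 h1
  have h4 : 3 * (2 * q - 1) - 2 * (3 * (q - 1)) = 3 := by omega
  rw [h4] at h3
  have := Nat.le_of_dvd (by norm_num) h3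
  omega

end Cfsg.Agent.Lib.Helper4.U3BBETA
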