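import Mathlib
import Cfsg.Agent.Lib.Helper4.U3BBETAc
import Cfsg.Agent.Lib.Helper4.U3BBETAd
import Cfsg.Agent.Lib.Helper20.U3POW
import Cfsg.Agent.Lib.Helper20.U3CARDQ
import Cfsg.Agent.Lib.Helper20.U3BALPHA

/-!
helper4: market "U3" (S2148), leaf BBETA, part (e): assembling.
-/

set_option autoImplicit false

namespace Cfsg.Agent.Lib.Helper4.U3BBETA

open Cfsg.Agent.Lib.Helper18.PSUMod Cfsg.Agent.Lib.Helper5.HermBridge Cfsg.Agent.Lib.Helper12.U3
open Cfsg.Agent.Lib.Helper20.U3Leaf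

noncomputable section

variable {F : Type*} [Field F] [Fintype F] {q : ℕ} (hF : Fintype.card F = q ^ 2)

/-- `ca` is a class function on `PP` -/
theorem ca_conj {y g : GG hF} (hy : y ∈ PP hF) (hg : g ∈ PP hF) : ca (y * g * y⁻¹) = ca g := by
  have h : caHom hF (⟨y, hy⟩ * ⟨g, hg⟩ * ⟨y, hy⟩⁻¹) = caHom hF ⟨g, hg⟩ := by
    rw [map_mul, map_mul, map_inv, mul_comm (caHom hF ⟨y, hy⟩), mul_inv_cancel_right]
  exact congrArg (fun u : Fˣ => (u : F)) h

theorem ca_conj' {y g : GG hF} (hy : y ∈ PP hF) (hg : g ∈ PP hF) : ca (y⁻¹ * g * y) = ca g := by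
  have h := ca_conj hF ((PP hF).inv_mem hy) hg
  rwa [inv_inv] at h

/-- conjugating a regular element of `PP` into `LL` by an element of `QQ` -/
theorem exists_conj_LL {k : GG hF} (hk : k ∈ PP hF) (h1 : ca k ^ (q + 1) ≠ 1)
    (h2 : ca k ^ (2 * q - 1) ≠ 1) : ∃ y ∈ QQ hF, y * k * y⁻¹ ∈ LL hF := by
  have hB := barOK_frob hF
  obtain ⟨x₀, l₀, hl₀, hkl⟩ := Pe_decomp hB.invol hk
  have hcal : ca l₀ = ca k := by
    have h3 : ca k = ca (EG hB.invol x₀) * ca l₀ := by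
      rw [hkl]
      exact ca_mul' (Qe_le_Pe hB.invol ⟨x₀, rfl⟩) hl₀.1
    rw [ca_EG, one_mul] at h3
    exact h3.symm
  have hfpf : ∀ u ∈ QQ hF, l₀ * u * l₀⁻¹ = u → u = 1 := fun u hu hfix =>
    fpf_of_regular hF hl₀ (by rw [hcal]; exact h1) (by rw [hcal]; exact h2) hu hfix
  let θ : ↥(QQ hF) → ↥(QQ hF) := fun y =>
    ⟨y.1⁻¹ * (l₀ * y.1 * l₀⁻¹),
      (QQ hF).mul_mem ((QQ hF).inv_mem y.2) (Pe_normalizes_Qe hB.invol hl₀.1 y.2)⟩
  have hθinj : Function.Injective θ := by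
    intro y z hyz
    have h1 : y.1⁻¹ * (l₀ * y.1 * l₀⁻¹) = z.1⁻¹ * (l₀ * z.1 * l₀⁻¹) := congrArg Subtype.val hyz
    have h2 : l₀ * (z.1 * y.1⁻¹) * l₀⁻¹ = z.1 * y.1⁻¹ := by
      have e1 : l₀ * (z.1 * y.1⁻¹) * l₀⁻¹ = (l₀ * z.1 * l₀⁻¹) * (l₀ * y.1 * l₀⁻¹)⁻¹ := by group
      have e2 : l₀ * z.1 * l₀⁻¹ = z.1 * (y.1⁻¹ * (l₀ * y.1 * l₀⁻¹)) := by rw [h1]; group
      rw [e1, e2]; group
    have h3 := hfpf _ ((QQ hF).mul_mem z.2 ((QQ hF).inv_mem y.2)) h2
    apply Subtype.ext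
    exact (mul_inv_eq_one.1 h3).symm
  have hθsurj : Function.Surjective θ := Finite.injective_iff_surjective.1 hθinj
  obtain ⟨y, hy⟩ := hθsurj ⟨EG hB.invol x₀, ⟨x₀, rfl⟩⟩
  have hy' : y.1⁻¹ * (l₀ * y.1 * l₀⁻¹) = EG hB.invol x₀ := congrArg Subtype.val hy
  have hyk : y.1 * k * y.1⁻¹ = l₀ := by
    rw [hkl, ← hy']; group
  exact ⟨y.1, y.2, hyk ▸ hl₀⟩

/-- `q` is odd -/
theorem odd_q {K : Subgroup (GG hF)} (hE : K ⊓ TT hF = ⊥) (hD : K ⊓ QQ hF ≠ ⊥) : Odd q := by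
  by_contra hodd
  rw [Nat.not_odd_iff_even] at hodd
  have h2 : ringChar F = 2 := by
    rw [FiniteField.even_card_iff_char_two, hF]
    exact Nat.even_iff.1 (hodd.pow_of_ne_zero two_ne_zero)
  haveI : CharP F 2 := ringChar.of_eq h2
  have h20 : (2 : F) = 0 := by exact_mod_cast CharP.cast_eq_zero F 2
  have hbot := DD_eq_bot_of_two hF hE h20
  apply hD
  rw [← Subgroup.card_eq_one, ← card_DD, hbot, Subgroup.card_bot]

theorem borel_beta_core (hq : 3 ≤ q) (hq5 : q ≠ 5) (K : Subgroup (GG hF)) (hK : K ≤ PP hF)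
    (hE : K ⊓ TT hF = ⊥) (hD : K ⊓ QQ hF ≠ ⊥) (hcard : q ^ 2 - 1 ≤ Nat.card K) :
    Odd q ∧ 3 ∣ q + 1 ∧ Nat.card ↥(K ⊓ QQ hF) = q ∧
      (Nat.card K = q * (3 * (q - 1)) ∨ 2 * Nat.card K = q * (3 * (q - 1))) ∧
      ∃ y ∈ QQ hF, Nat.card ↥(cj y K ⊓ LL hF) * q = Nat.card K := by
  classical
  have hB := barOK_frob hF
  have hodd := odd_q hF hE hD
  have hDD : DD hF K ≠ ⊥ := by
    intro h
    apply hD
    rw [← Subgroup.card_eq_one, ← card_DD, h, Subgroup.card_bot]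
  -- the characteristic
  obtain ⟨p, hp⟩ := CharP.exists F
  haveI := hp
  haveI : Fact p.Prime := ⟨CharP.char_is_prime F p⟩
  obtain ⟨a, ha0, ha⟩ := exists_pow_eq hF (p := p)
  have hp3 : 3 ≤ p := by
    have hp2 : p ≠ 2 := by
      rintro rfl
      rw [ha] at hodd
      exact (Nat.not_even_iff_odd.2 hodd) (Nat.even_pow.2 ⟨even_two, ha0.ne'⟩)
    have := (Fact.out : p.Prime).two_le
    omega
  have hKc : Nat.card K = Nat.card (DD hF K) * Nat.card (psiK hF hK).range := card_K_eq hF hK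
  have hdq : Nat.card (DD hF K) ≤ q := card_DD_le hF hE
  have hdd : Nat.card (DD hF K) ∣ q ^ 3 := by
    rw [card_DD, ← card_QQ hF]
    exact Subgroup.card_dvd_of_le inf_le_right
  have ht1 : Nat.card (psiK hF hK).range ∣ 3 * (q - 1) :=
    card_range_dvd hF hK hE (by omega) hDD
  have ht2 : Nat.card (psiK hF hK).range ∣ q ^ 2 - 1 := card_range_dvd' hF hK
  obtain ⟨h3, hdq', htt⟩ := arith_core hq Fact.out hp3 ha hdq hdd ht1 ht2 (hKc ▸ hcard)
  have h11 := eleven_le hq hq5 hodd h3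
  refine ⟨hodd, h3, by rw [← card_DD, hdq'], ?_, ?_⟩
  · rw [hKc, hdq']
    rcases htt with h | h
    · left; rw [h]
    · right; rw [← h]; ring
  · -- a generator of `ca(K)`
    obtain ⟨g, hg⟩ := IsCyclic.exists_generator (α := ↥(psiK hF hK).range)
    have hord : orderOf g = Nat.card (psiK hF hK).range := orderOf_eq_card_of_forall_mem_zpowers hg
    obtain ⟨k₀, hk₀⟩ := g.2
    have hpow : ∀ n : ℕ, ca (k₀ : GG hF) ^ n = 1 → Nat.card (psiK hF hK).range ∣ n := by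
      intro n hn
      rw [← hord]
      apply orderOf_dvd_of_pow_eq_one
      apply Subtype.ext
      rw [Subgroup.coe_pow, Subgroup.coe_one, ← hk₀]
      apply Units.ext
      rw [Units.val_pow_eq_pow_val, Units.val_one, psiK_val]
      exact hn
    have hr1 : ca (k₀ : GG hF) ^ (q + 1) ≠ 1 := fun h => not_dvd_succ h11 htt (hpow _ h)
    have hr2 : ca (k₀ : GG hF) ^ (2 * q - 1) ≠ 1 := fun h => not_dvd_two h11 htt (hpow _ h)
    obtain ⟨y, hy, hyl⟩ := exists_conj_LL hF (hK k₀.2) hr1 hr2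
    have hyP : y ∈ PP hF := Qe_le_Pe hB.invol hy
    refine ⟨y, hy, ?_⟩
    have hcount : Nat.card ↥(cj y K ⊓ LL hF) = Nat.card (psiK hF hK).range := by
      apply le_antisymm
      · let f : ↥(cj y K ⊓ LL hF) → ↥(psiK hF hK).range := fun h =>
          ⟨psiK hF hK ⟨y⁻¹ * h.1 * y, mem_cj.1 h.2.1⟩, ⟨_, rfl⟩⟩
        have hf : Function.Injective f := by
          intro h h' e
          have e1 : ca (y⁻¹ * h.1 * y) = ca (y⁻¹ * h'.1 * y) :=
            congrArg (fun u : ↥(psiK hF hK).range => ((u : Fˣ) : F)) e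
          rw [ca_conj' hF hyP h.2.2.1, ca_conj' hF hyP h'.2.2.1] at e1
          exact Subtype.ext (eq_of_ca_eq_LL hF h.2.2 h'.2.2 e1)
        exact Nat.card_le_card_of_injective f hf
      · have hlH : y * (k₀ : GG hF) * y⁻¹ ∈ cj y K ⊓ LL hF := by
          have hc : y * (k₀ : GG hF) * y⁻¹ ∈ cj y K := by
            rw [mem_cj]
            have : y⁻¹ * (y * (k₀ : GG hF) * y⁻¹) * y = (k₀ : GG hF) := by group
            rw [this]
            exact k₀.2
          exact ⟨hc, hyl⟩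
        set l : ↥(cj y K ⊓ LL hF) := ⟨y * (k₀ : GG hF) * y⁻¹, hlH⟩ with hl
        have h1 : orderOf l ∣ Nat.card ↥(cj y K ⊓ LL hF) := orderOf_dvd_natCard l
        have h2 : Nat.card (psiK hF hK).range ∣ orderOf l := by
          apply hpow
          have e1 : (y * (k₀ : GG hF) * y⁻¹) ^ orderOf l = 1 := by
            have := congrArg Subtype.val (pow_orderOf_eq_one l)
            rw [Subgroup.coe_pow, Subgroup.coe_one] at this
            exact this
          have e2 : ca ((y * (k₀ : GG hF) * y⁻¹) ^ orderOf l) = ca (k₀ : GG hF) ^ orderOf l := by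
            have hP : y * (k₀ : GG hF) * y⁻¹ ∈ PP hF := hyl.1
            have h := map_pow (caHom hF) ⟨_, hP⟩ (orderOf l)
            have h' := congrArg (fun u : Fˣ => (u : F)) h
            simp only [Units.val_pow_eq_pow_val] at h'
            rw [caHom_val, caHom_val] at h'
            rw [← ca_conj hF hyP (hK k₀.2)]
            exact h'
          rw [← e2, e1]
          exact ca_one'
        exact Nat.le_of_dvd Nat.card_pos (dvd_trans h2 h1)
    rw [hcount, hKc, hdq', mul_comm]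

end

end Cfsg.Agent.Lib.Helper4.U3BBETA
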