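import Mathlib
import Cfsg.Agent.Lib.Helper12.U3Defs
import Cfsg.Agent.Lib.Helper4.U3BBETAe

/-!
helper4: leaf BBETA (`borel_beta`) of market "U3" (S2148, planner helper12): a subgroup `K` of the
Borel subgroup `PP` with `K ∩ TT = 1`, `K ∩ QQ ≠ 1` and `|K| ≥ q² - 1` (`q ≥ 3`, `q ≠ 5`).
The proof is in `U3BBETAa` (coordinates on `QQ`, `D = K ∩ QQ` has at most `q` elements, all on a
line), `U3BBETAb` (the action of `K` on `D`), `U3BBETAc` (`ca(K)` has exponent dividing `3(q-1)`),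
`U3BBETAd` (arithmetic), `U3BBETAe` (assembling).
-/

set_option autoImplicit false

namespace Cfsg.Agent.Lib.Helper4.U3Leaf

open Cfsg.Agent.Lib.Helper18.PSUMod Cfsg.Agent.Lib.Helper5.HermBridge Cfsg.Agent.Lib.Helper12.U3
open Cfsg.Agent.Lib.Helper13

section borel

variable {F : Type*} [Field F] [Fintype F] {q : ℕ} (hF : Fintype.card F = q ^ 2)

/-- B4 -/
theorem borel_beta (hq : 3 ≤ q) (hq5 : q ≠ 5) (K : Subgroup (GG hF)) (hK : K ≤ PP hF)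
    (hE : K ⊓ TT hF = ⊥) (hD : K ⊓ QQ hF ≠ ⊥) (hcard : q ^ 2 - 1 ≤ Nat.card K) :
    Odd q ∧ 3 ∣ q + 1 ∧ Nat.card ↥(K ⊓ QQ hF) = q ∧
    (Nat.card K = q * (3 * (q - 1)) ∨ 2 * Nat.card K = q * (3 * (q - 1))) ∧
    ∃ y ∈ QQ hF, Nat.card ↥(cj y K ⊓ LL hF) * q = Nat.card K :=
  Cfsg.Agent.Lib.Helper4.U3BBETA.borel_beta_core hF hq hq5 K hK hE hD hcard

end borel

end Cfsg.Agent.Lib.Helper4.U3Leaf
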