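import Mathlib
import Cfsg.Agent.Lib.Helper20.AschDefs
import Cfsg.Agent.Lib.Helper20.SympC2
import Cfsg.Agent.Lib.Helper24.AschA7Defs

/-!
S5630 (Aschbacher, linear case), block (A7) sub-market of helper24: BLOCK G (abstract group theory of `CM G`), part 1:
G1 `cm_exists_prime`, G2 `cm_pow_mem_center`, G3 `cm_comm_pow`, G8 `cm_cyclic_of_char` (helper4).
-/

set_option autoImplicit false
set_option linter.unusedSectionVars false
set_option linter.unusedVariables false

namespace Cfsg.Agent.Lib.Helper4.AschA7Leaf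
open Matrix Cfsg.Geo Cfsg.Agent.Lib.Helper20.Asch Cfsg.Agent.Lib.Helper24.AschA7
open scoped Kronecker commutatorElement

/-! ## class two calculus -/

section ClassTwo

variable {G : Type*} [Group G]

theorem c2_comm_mul_left (hcl : ∀ x y : G, ⁅x, y⁆ ∈ Subgroup.center G) (a b y : G) :
    ⁅a * b, y⁆ = ⁅a, y⁆ * ⁅b, y⁆ := by
  have h1 : ⁅a * b, y⁆ = a * ⁅b, y⁆ * a⁻¹ * ⁅a, y⁆ := by
    simp only [commutatorElement_def]; group
  have h2 := Subgroup.mem_center_iff.mp (hcl b y) a
  rw [h1, h2, mul_inv_cancel_right]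
  exact (Subgroup.mem_center_iff.mp (hcl a y) _)

theorem c2_comm_mul_right (hcl : ∀ x y : G, ⁅x, y⁆ ∈ Subgroup.center G) (x a b : G) :
    ⁅x, a * b⁆ = ⁅x, a⁆ * ⁅x, b⁆ := by
  have h1 : ⁅x, a * b⁆ = ⁅x, a⁆ * (a * ⁅x, b⁆ * a⁻¹) := by
    simp only [commutatorElement_def]; group
  have h2 := Subgroup.mem_center_iff.mp (hcl x b) a
  rw [h1, h2, mul_inv_cancel_right]

theorem c2_comm_pow_left (hcl : ∀ x y : G, ⁅x, y⁆ ∈ Subgroup.center G) (x y : G) (k : ℕ) :
    ⁅x ^ k, y⁆ = ⁅x, y⁆ ^ k := by
  induction k with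
  | zero => simp
  | succ k ih => rw [pow_succ, pow_succ, c2_comm_mul_left hcl, ih]

theorem c2_comm_pow_right (hcl : ∀ x y : G, ⁅x, y⁆ ∈ Subgroup.center G) (x y : G) (k : ℕ) :
    ⁅x, y ^ k⁆ = ⁅x, y⁆ ^ k := by
  induction k with
  | zero => simp
  | succ k ih => rw [pow_succ, pow_succ, c2_comm_mul_right hcl, ih]

/-- the power formula in class two -/
theorem c2_mul_pow (hcl : ∀ x y : G, ⁅x, y⁆ ∈ Subgroup.center G) (x y : G) (k : ℕ) :
    (x * y) ^ k = x ^ k * y ^ k * ⁅y, x⁆ ^ (k.choose 2) := by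
  induction k with
  | zero => simp
  | succ k ih =>
    obtain ⟨u, hu⟩ : ∃ u : G, u = ⁅y, x⁆ ^ k := ⟨_, rfl⟩
    obtain ⟨v, hv⟩ : ∃ v : G, v = ⁅y, x⁆ ^ k.choose 2 := ⟨_, rfl⟩
    have hcu : ∀ g : G, g * u = u * g := by
      intro g
      rw [hu]
      exact Subgroup.mem_center_iff.mp (Subgroup.pow_mem _ (hcl y x) k) g
    have hcv : ∀ g : G, g * v = v * g := by
      intro g
      rw [hv]
      exact Subgroup.mem_center_iff.mp (Subgroup.pow_mem _ (hcl y x) _) g
    have h1 : y ^ k * x = x * y ^ k * u := by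
      rw [hcu (x * y ^ k), hu, ← c2_comm_pow_left hcl]
      simp only [commutatorElement_def]; group
    have h2 : (k + 1).choose 2 = k + k.choose 2 := by
      rw [Nat.choose_succ_succ' k 1, Nat.choose_one_right]
    have h3 : (x * y) ^ (k + 1) = x ^ k * y ^ k * v * (x * y) := by
      rw [pow_succ, ih, hv]
    have h4 : x ^ (k + 1) * y ^ (k + 1) * ⁅y, x⁆ ^ (k + 1).choose 2 = x ^ k * x * (y ^ k * y) * (u * v) := by
      rw [h2, pow_add ⁅y, x⁆ k, ← hu, ← hv, pow_succ, pow_succ]
    rw [h3, h4]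
    calc x ^ k * y ^ k * v * (x * y) = x ^ k * y ^ k * ((x * y) * v) := by
          rw [mul_assoc (x ^ k * y ^ k) v, ← hcv (x * y)]
      _ = x ^ k * (y ^ k * x) * y * v := by simp only [mul_assoc]
      _ = x ^ k * (x * y ^ k * u) * y * v := by rw [h1]
      _ = x ^ k * x * y ^ k * (u * y) * v := by simp only [mul_assoc]
      _ = x ^ k * x * y ^ k * (y * u) * v := by rw [← hcu y]
      _ = x ^ k * x * (y ^ k * y) * (u * v) := by simp only [mul_assoc]

end ClassTwo

/-! ## Block G -/

section BlockG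

variable {G : Type*} [Group G]

theorem cm_isNilpotent (h : CM G) : Group.IsNilpotent G := by
  rw [Subgroup.nilpotent_iff_lowerCentralSeries]
  refine ⟨2, ?_⟩
  rw [Subgroup.lowerCentralSeries_succ, Subgroup.commutator_eq_bot_iff_le_centralizer,
    Subgroup.lowerCentralSeries_succ, Subgroup.lowerCentralSeries_zero, Subgroup.commutator_le]
  intro a _ b _
  have := h.comm_central a b
  rw [Subgroup.coe_top, Subgroup.centralizer_univ]
  exact this

theorem cm_center_ne_top (h : CM G) : Subgroup.center G ≠ ⊤ := by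
  intro htop
  obtain ⟨x, y, hxy⟩ := h.nonab
  apply hxy
  rw [commutatorElement_eq_one_iff_mul_comm]
  have : y ∈ Subgroup.center G := by rw [htop]; trivial
  exact (Subgroup.mem_center_iff.mp this x)

/-- G1. -/
theorem cm_exists_prime {G : Type*} [Group G] [Finite G] (h : CM G) : ∃ r : ℕ, r.Prime ∧ IsPGroup r G := by
  classical
  have hidx : (Subgroup.center G).index ≠ 1 := by
    intro h1
    exact cm_center_ne_top h (Subgroup.index_eq_one.mp h1)
  obtain ⟨r, hr, hrd⟩ := Nat.exists_prime_and_dvd hidx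
  haveI : Fact r.Prime := ⟨hr⟩
  refine ⟨r, hr, ?_⟩
  obtain ⟨P⟩ : Nonempty (Sylow r G) := inferInstance
  haveI : Group.IsNilpotent G := cm_isNilpotent h
  have hPn : (P : Subgroup G).Normal := inferInstance
  have hPc : (P : Subgroup G).Characteristic := Sylow.characteristic_of_normal P hPn
  rcases h.charmin P hPc with htop | hle
  · have := P.2
    rw [htop] at this
    exact IsPGroup.of_equiv this Subgroup.topEquiv
  · exfalso
    have h1 : (Subgroup.center G).index ∣ (P : Subgroup G).index := Subgroup.index_dvd_of_le hle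
    exact P.not_dvd_index (dvd_trans hrd h1)

/-- G3. -/
theorem cm_comm_pow {G : Type*} [Group G] (hcl : ∀ x y : G, ⁅x, y⁆ ∈ Subgroup.center G) {r : ℕ}
    (hpow : ∀ x : G, x ^ r ∈ Subgroup.center G) (x y : G) : ⁅x, y⁆ ^ r = 1 := by
  rw [← c2_comm_pow_left hcl, commutatorElement_eq_one_iff_mul_comm]
  exact (Subgroup.mem_center_iff.mp (hpow x) y).symm

/-- G2. -/
theorem cm_pow_mem_center {G : Type*} [Group G] [Finite G] (h : CM G) {r : ℕ} (hr : r.Prime)
    (hG : IsPGroup r G) (x : G) : x ^ r ∈ Subgroup.center G := by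
  classical
  have hcl := h.comm_central
  obtain ⟨K, hK⟩ : ∃ K : Subgroup G, ∀ x, x ∈ K ↔ x ^ r ∈ Subgroup.center G := by
    refine ⟨{ carrier := {x | x ^ r ∈ Subgroup.center G}
              mul_mem' := ?_
              one_mem' := ?_
              inv_mem' := ?_ }, fun x => Iff.rfl⟩
    · intro a b ha hb
      show (a * b) ^ r ∈ Subgroup.center G
      rw [c2_mul_pow hcl]
      exact Subgroup.mul_mem _ (Subgroup.mul_mem _ ha hb) (Subgroup.pow_mem _ (hcl b a) _)
    · show (1 : G) ^ r ∈ Subgroup.center G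
      rw [one_pow]; exact Subgroup.one_mem _
    · intro a ha
      show (a⁻¹) ^ r ∈ Subgroup.center G
      rw [inv_pow]; exact Subgroup.inv_mem _ ha
  have hKc : K.Characteristic := by
    rw [Subgroup.characteristic_iff_comap_le]
    intro φ a ha
    rw [Subgroup.mem_comap, hK] at ha
    rw [hK]
    have h1 : φ (a ^ r) ∈ Subgroup.center G := by rw [map_pow]; exact ha
    have h2 : (Subgroup.center G).comap φ.toMonoidHom = Subgroup.center G :=
      Subgroup.Characteristic.fixed inferInstance φ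
    rw [← h2]
    exact h1
  rcases h.charmin K hKc with htop | hle
  · rw [← hK, htop]; trivial
  · exfalso
    -- a non-central element `y` with `y ^ r` central
    obtain ⟨a, b, hab⟩ := h.nonab
    have ha : a ∉ Subgroup.center G := by
      intro hmem
      apply hab
      rw [commutatorElement_eq_one_iff_mul_comm]
      exact (Subgroup.mem_center_iff.mp hmem b).symm
    have hex : ∃ k : ℕ, a ^ (r ^ k) ∈ Subgroup.center G := by
      obtain ⟨k, hk⟩ := hG a
      exact ⟨k, by rw [hk]; exact Subgroup.one_mem _⟩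
    have hk0 : Nat.find hex ≠ 0 := by
      intro h0
      have := Nat.find_spec hex
      rw [h0, pow_zero, pow_one] at this
      exact ha this
    obtain ⟨j, hj⟩ := Nat.exists_eq_succ_of_ne_zero hk0
    have hjn : a ^ (r ^ j) ∉ Subgroup.center G := Nat.find_min hex (by omega)
    have hjK : a ^ (r ^ j) ∈ K := by
      rw [hK, ← pow_mul, ← pow_succ, ← Nat.succ_eq_add_one, ← hj]
      exact Nat.find_spec hex
    exact hjn (hle hjK)

/-- G8. -/
theorem cm_cyclic_of_char {G : Type*} [Group G] [Finite G] (h : CM G) (A : Subgroup G) (hA : A.Characteristic)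
    (hab : IsMulCommutative A) : IsCyclic A := by
  rcases h.charmin A hA with htop | hle
  · exfalso
    obtain ⟨x, y, hxy⟩ := h.nonab
    apply hxy
    rw [commutatorElement_eq_one_iff_mul_comm]
    have hx : x ∈ A := by rw [htop]; trivial
    have hy : y ∈ A := by rw [htop]; trivial
    have := hab.is_comm.comm (⟨x, hx⟩ : A) ⟨y, hy⟩
    exact congrArg Subtype.val this
  · haveI := h.center_cyclic
    exact isCyclic_of_injective (Subgroup.inclusion hle) (Subgroup.inclusion_injective hle)

end BlockG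

end Cfsg.Agent.Lib.Helper4.AschA7Leaf
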