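import Mathlib
import Cfsg.Agent.Lib.Helper20.AschDefs
import Cfsg.Agent.Lib.Helper20.SympC2
import Cfsg.Agent.Lib.Helper24.AschA7Defs
import Cfsg.Agent.Lib.Helper4.AschA7G

/-!
S5630 (Aschbacher, linear case), block (A7) sub-market of helper24: BLOCK G (abstract group theory of `CM G`), part 2:
G4o `cm_pow_eq_one_odd`, G4e `cm_pow_four`, G5 `cm_exponent`, G6 `cm_card_center`, G7 `cm_card` (helper4).
-/

set_option autoImplicit false
set_option linter.unusedSectionVars false
set_option linter.unusedVariables false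

namespace Cfsg.Agent.Lib.Helper4.AschA7Leaf
open Matrix Cfsg.Geo Cfsg.Agent.Lib.Helper20.Asch Cfsg.Agent.Lib.Helper24.AschA7
open scoped Kronecker commutatorElement IsMulCommutative

section BlockG2

variable {G : Type*} [Group G]

theorem cm_center_ne_bot (h : CM G) : Subgroup.center G ≠ ⊥ := by
  intro hbot
  obtain ⟨x, y, hxy⟩ := h.nonab
  apply hxy
  have := h.comm_central x y
  rw [hbot, Subgroup.mem_bot] at this
  exact this

theorem cm_not_comm (h : CM G) : ¬ ∀ a b : G, a * b = b * a := by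
  intro hab
  obtain ⟨x, y, hxy⟩ := h.nonab
  apply hxy
  rw [commutatorElement_eq_one_iff_mul_comm]
  exact hab x y

/-- the index of the centre is at least `r ^ 2` -/
theorem cm_card_gt [Finite G] (h : CM G) {r : ℕ} (hr : r.Prime) (hG : IsPGroup r G) :
    r * Nat.card (Subgroup.center G) < Nat.card G := by
  haveI : Fact r.Prime := ⟨hr⟩
  obtain ⟨k, hk⟩ := hG.index (Subgroup.center G)
  have hcard : Nat.card (Subgroup.center G) * (Subgroup.center G).index = Nat.card G :=
    Subgroup.card_mul_index _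
  have hpos : 0 < Nat.card (Subgroup.center G) := Nat.card_pos
  by_contra hlt
  push Not at hlt
  rw [← hcard, hk, mul_comm r] at hlt
  have h1 : r ^ k ≤ r ^ 1 := by
    rw [pow_one]
    exact Nat.le_of_mul_le_mul_left hlt hpos
  have hk1 : k ≤ 1 := (Nat.pow_le_pow_iff_right hr.one_lt).1 h1
  interval_cases k
  · rw [pow_zero] at hk
    exact cm_center_ne_top h (Subgroup.index_eq_one.mp hk)
  · rw [pow_one] at hk
    haveI : IsCyclic (G ⧸ Subgroup.center G) := by
      apply isCyclic_of_prime_card (p := r)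
      rw [← hk]
      rfl
    apply cm_not_comm h
    have hmc : IsMulCommutative G :=
      MonoidHom.isMulCommutative_of_isCyclic_of_ker_le_center (QuotientGroup.mk' (Subgroup.center G))
        (by rw [QuotientGroup.ker_mk'])
    exact fun a b => hmc.is_comm.comm a b

theorem cm_dvd_card_center [Finite G] (h : CM G) {r : ℕ} (hr : r.Prime) (hG : IsPGroup r G) :
    r ∣ Nat.card (Subgroup.center G) := by
  haveI : Fact r.Prime := ⟨hr⟩
  rcases (hG.to_subgroup (Subgroup.center G)).card_eq_or_dvd with h1 | h1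
  · exfalso
    exact cm_center_ne_bot h (Subgroup.card_eq_one.mp h1)
  · exact h1

/-- the kernel of a power map which is central has at most `k` elements -/
theorem card_ker_dvd_of_le_center [Finite G] (h : CM G) (φ : G →* G) (k : ℕ) (hφ : ∀ a, φ a = a ^ k)
    (hle : φ.ker ≤ Subgroup.center G) : Nat.card φ.ker ∣ k := by
  haveI := h.center_cyclic
  haveI : IsCyclic φ.ker :=
    isCyclic_of_injective (Subgroup.inclusion hle) (Subgroup.inclusion_injective hle)
  rw [← IsCyclic.exponent_eq_card]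
  apply Monoid.exponent_dvd_of_forall_pow_eq_one
  intro g
  apply Subtype.ext
  rw [Subgroup.coe_pow, Subgroup.coe_one, ← hφ]
  exact g.2

theorem ker_pow_characteristic (φ : G →* G) (k : ℕ) (hφ : ∀ a, φ a = a ^ k) : φ.ker.Characteristic := by
  rw [Subgroup.characteristic_iff_comap_le]
  intro ψ a ha
  rw [Subgroup.mem_comap, MonoidHom.mem_ker, hφ] at ha
  rw [MonoidHom.mem_ker, hφ]
  have h1 : ψ (a ^ k) = 1 := by rw [map_pow]; exact ha
  exact (map_eq_one_iff ψ ψ.injective).1 h1

/-- G4o. -/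
theorem cm_pow_eq_one_odd {G : Type*} [Group G] [Finite G] (h : CM G) {r : ℕ} (hr : r.Prime) (hodd : r ≠ 2)
    (hG : IsPGroup r G) (hpow : ∀ x : G, x ^ r ∈ Subgroup.center G)
    (hcomm : ∀ x y : G, ⁅x, y⁆ ^ r = 1) (x : G) : x ^ r = 1 := by
  classical
  have hcl := h.comm_central
  have hdvd : r ∣ r.choose 2 := hr.dvd_choose_self (by norm_num) (by have := hr.two_le; omega)
  have hmul : ∀ a b : G, (a * b) ^ r = a ^ r * b ^ r := by
    intro a b
    rw [c2_mul_pow hcl]
    obtain ⟨t, ht⟩ := hdvd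
    rw [ht, pow_mul, hcomm, one_pow, mul_one]
  obtain ⟨φ, hφ⟩ : ∃ φ : G →* G, ∀ a, φ a = a ^ r :=
    ⟨{ toFun := fun a => a ^ r, map_one' := one_pow r, map_mul' := hmul }, fun a => rfl⟩
  rcases h.charmin φ.ker (ker_pow_characteristic φ r hφ) with htop | hle
  · have : x ∈ φ.ker := by rw [htop]; trivial
    rw [MonoidHom.mem_ker, hφ] at this
    exact this
  · exfalso
    have h1 : Nat.card φ.ker ≤ r := Nat.le_of_dvd hr.pos (card_ker_dvd_of_le_center h φ r hφ hle)
    have h2 : Nat.card φ.range ≤ Nat.card (Subgroup.center G) := by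
      apply Subgroup.card_le_of_le
      rintro _ ⟨a, rfl⟩
      rw [hφ]
      exact hpow a
    have h3 : Nat.card φ.ker * Nat.card φ.range = Nat.card G := by
      rw [← Subgroup.index_ker, Subgroup.card_mul_index]
    have h4 := cm_card_gt h hr hG
    have h5 : Nat.card φ.ker * Nat.card φ.range ≤ r * Nat.card (Subgroup.center G) :=
      Nat.mul_le_mul h1 h2
    omega

/-- G4e. -/
theorem cm_pow_four {G : Type*} [Group G] [Finite G] (h : CM G) (hG : IsPGroup 2 G)
    (hpow : ∀ x : G, x ^ 2 ∈ Subgroup.center G) (hcomm : ∀ x y : G, ⁅x, y⁆ ^ 2 = 1) (x : G) : x ^ 4 = 1 := by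
  classical
  have hcl := h.comm_central
  have hmul : ∀ a b : G, (a * b) ^ 4 = a ^ 4 * b ^ 4 := by
    intro a b
    rw [c2_mul_pow hcl]
    have : Nat.choose 4 2 = 2 * 3 := by decide
    rw [this, pow_mul, hcomm, one_pow, mul_one]
  obtain ⟨φ, hφ⟩ : ∃ φ : G →* G, ∀ a, φ a = a ^ 4 :=
    ⟨{ toFun := fun a => a ^ 4, map_one' := one_pow 4, map_mul' := hmul }, fun a => rfl⟩
  rcases h.charmin φ.ker (ker_pow_characteristic φ 4 hφ) with htop | hle
  · have : x ∈ φ.ker := by rw [htop]; trivial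
    rw [MonoidHom.mem_ker, hφ] at this
    exact this
  · exfalso
    haveI := h.center_cyclic
    have h1 : Nat.card φ.ker ≤ 4 := Nat.le_of_dvd (by norm_num) (card_ker_dvd_of_le_center h φ 4 hφ hle)
    obtain ⟨sq, hsq⟩ : ∃ sq : Subgroup.center G →* Subgroup.center G, sq = powMonoidHom 2 :=
      ⟨powMonoidHom 2, rfl⟩
    have h2 : φ.range ≤ sq.range.map (Subgroup.center G).subtype := by
      rintro _ ⟨a, rfl⟩
      refine ⟨sq ⟨a ^ 2, hpow a⟩, ⟨_, rfl⟩, ?_⟩
      rw [hφ, hsq, powMonoidHom_apply, Subgroup.subtype_apply, Subgroup.coe_pow, ← pow_mul]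
    have h3 : Nat.card (sq.range.map (Subgroup.center G).subtype) = Nat.card sq.range :=
      Subgroup.card_map_of_injective (Subgroup.subtype_injective _)
    have h4 : 2 * Nat.card sq.range ≤ Nat.card (Subgroup.center G) := by
      rw [hsq, IsCyclic.card_powMonoidHom_range]
      have h5 : (Nat.card (Subgroup.center G)).gcd 2 = 2 :=
        Nat.gcd_eq_right (cm_dvd_card_center h Nat.prime_two hG)
      rw [h5]
      exact Nat.mul_div_le _ 2
    have h6 : Nat.card φ.range ≤ Nat.card sq.range := by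
      rw [← h3]
      exact Subgroup.card_le_of_le h2
    have h7 : Nat.card φ.ker * Nat.card φ.range = Nat.card G := by
      rw [← Subgroup.index_ker, Subgroup.card_mul_index]
    have h8 := cm_card_gt h Nat.prime_two hG
    have h9 : Nat.card φ.ker * Nat.card φ.range ≤ 4 * Nat.card sq.range := Nat.mul_le_mul h1 h6
    omega

theorem gcd_two_prime {r : ℕ} (hr : r.Prime) : (r = 2 ∧ Nat.gcd 2 r = 2) ∨ (r ≠ 2 ∧ Nat.gcd 2 r = 1) := by
  by_cases h2 : r = 2
  · left; subst h2; exact ⟨rfl, rfl⟩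
  · right
    refine ⟨h2, ?_⟩
    rcases Nat.Prime.eq_one_or_self_of_dvd Nat.prime_two (Nat.gcd 2 r) (Nat.gcd_dvd_left 2 r) with h | h
    · exact h
    · exfalso
      have h3 : 2 ∣ r := h ▸ Nat.gcd_dvd_right 2 r
      exact h2 ((Nat.prime_dvd_prime_iff_eq Nat.prime_two hr).1 h3).symm

/-- G5. -/
theorem cm_exponent {G : Type*} [Group G] [Finite G] (h : CM G) {r : ℕ} (hr : r.Prime) (hG : IsPGroup r G)
    (hexp : ∀ x : G, x ^ (r * Nat.gcd 2 r) = 1) : Monoid.exponent G = r * Nat.gcd 2 r := by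
  have hdvd : Monoid.exponent G ∣ r * Nat.gcd 2 r := Monoid.exponent_dvd_of_forall_pow_eq_one hexp
  have hne1 : Monoid.exponent G ≠ 1 := by
    intro h1
    rw [Monoid.exp_eq_one_iff] at h1
    apply cm_not_comm h
    intro a b
    rw [Subsingleton.elim a 1, Subsingleton.elim b 1]
  rcases gcd_two_prime hr with ⟨h2, hg⟩ | ⟨h2, hg⟩
  · subst h2
    rw [hg] at hdvd ⊢
    have hne2 : Monoid.exponent G ≠ 2 := by
      intro h2
      exact cm_not_comm h (fun a b => mul_comm_of_exponent_two h2 a b)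
    have h4 : (2 * 2 : ℕ) = 2 ^ 2 := by norm_num
    rw [h4, Nat.dvd_prime_pow Nat.prime_two] at hdvd
    obtain ⟨k, hk, hk2⟩ := hdvd
    interval_cases k
    · exact absurd hk2 hne1
    · exact absurd hk2 hne2
    · rw [hk2]; norm_num
  · rw [hg, mul_one] at hdvd ⊢
    rcases (Nat.dvd_prime hr).1 hdvd with h1 | h1
    · exact absurd h1 hne1
    · exact h1

/-- G6. -/
theorem cm_card_center {G : Type*} [Group G] [Finite G] (h : CM G) {r : ℕ} (hr : r.Prime) (hG : IsPGroup r G)
    (hexp : ∀ x : G, x ^ (r * Nat.gcd 2 r) = 1) :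
    (r ≠ 2 → Nat.card (Subgroup.center G) = r) ∧
      (r = 2 → Nat.card (Subgroup.center G) = 2 ∨ Nat.card (Subgroup.center G) = 4) := by
  haveI := h.center_cyclic
  have hdvd : Nat.card (Subgroup.center G) ∣ r * Nat.gcd 2 r := by
    rw [← IsCyclic.exponent_eq_card]
    apply Monoid.exponent_dvd_of_forall_pow_eq_one
    intro g
    apply Subtype.ext
    rw [Subgroup.coe_pow, Subgroup.coe_one]
    exact hexp g
  have hne1 : Nat.card (Subgroup.center G) ≠ 1 := by
    intro h1
    exact cm_center_ne_bot h (Subgroup.card_eq_one.mp h1)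
  constructor
  · intro h2
    rcases gcd_two_prime hr with ⟨h2', hg⟩ | ⟨_, hg⟩
    · exact absurd h2' h2
    · rw [hg, mul_one] at hdvd
      rcases (Nat.dvd_prime hr).1 hdvd with h1 | h1
      · exact absurd h1 hne1
      · exact h1
  · intro h2
    subst h2
    have h4 : (2 * Nat.gcd 2 2 : ℕ) = 2 ^ 2 := by norm_num
    rw [h4, Nat.dvd_prime_pow Nat.prime_two] at hdvd
    obtain ⟨k, hk, hk2⟩ := hdvd
    interval_cases k
    · exact absurd hk2 hne1
    · left; rw [hk2]; norm_num
    · right; rw [hk2]; norm_num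

/-- G7. -/
theorem cm_card {G : Type*} [Group G] [Finite G] (h : CM G) {r : ℕ} (hr : r.Prime) (hG : IsPGroup r G)
    (hcomm : ∀ x y : G, ⁅x, y⁆ ^ r = 1) :
    ∃ m : ℕ, 1 ≤ m ∧ Nat.card G = r ^ (2 * m) * Nat.card (Subgroup.center G) := by
  classical
  haveI : Fact r.Prime := ⟨hr⟩
  haveI := h.center_cyclic
  -- the subgroup of elements of order dividing `r` of the centre
  obtain ⟨K, hK⟩ : ∃ K : Subgroup (Subgroup.center G),
      K = (powMonoidHom r : Subgroup.center G →* Subgroup.center G).ker :=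
    ⟨(powMonoidHom r : Subgroup.center G →* Subgroup.center G).ker, rfl⟩
  have hKcard : Nat.card K = r := by
    rw [hK, IsCyclic.card_powMonoidHom_ker]
    exact Nat.gcd_eq_right (cm_dvd_card_center h hr hG)
  have hKmem : ∀ c : Subgroup.center G, c ∈ K ↔ (c : G) ^ r = 1 := by
    intro c
    rw [hK, MonoidHom.mem_ker, powMonoidHom_apply]
    constructor
    · intro h1
      have := congrArg Subtype.val h1
      rwa [Subgroup.coe_pow, Subgroup.coe_one] at this
    · intro h1
      apply Subtype.ext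
      rw [Subgroup.coe_pow, Subgroup.coe_one]
      exact h1
  haveI : Nontrivial K := by
    rw [← Finite.one_lt_card_iff_nontrivial, hKcard]
    exact hr.one_lt
  obtain ⟨z₀, hz₀⟩ : ∃ z₀ : K, z₀ ≠ 1 := exists_ne 1
  have hC2 : Cfsg.Agent.Lib.Helper20.Symp.C2 r G ((z₀ : Subgroup.center G) : G) := by
    refine ⟨?_, ?_, ?_, ?_⟩
    · intro h1
      apply hz₀
      apply Subtype.ext
      apply Subtype.ext
      exact h1
    · exact (hKmem z₀.1).1 z₀.2
    · exact z₀.1.2
    · intro x y
      have hc : (⟨⁅x, y⁆, h.comm_central x y⟩ : Subgroup.center G) ∈ K := by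
        rw [hKmem]
        exact hcomm x y
      have h1 : (⟨_, hc⟩ : K) ∈ Subgroup.zpowers z₀ := mem_zpowers_of_prime_card hKcard hz₀
      obtain ⟨j, hj⟩ := Subgroup.mem_zpowers_iff.1 h1
      refine Subgroup.mem_zpowers_iff.2 ⟨j, ?_⟩
      have h2 := congrArg (fun k : K => ((k : Subgroup.center G) : G)) hj
      simpa using h2
  obtain ⟨k, hk⟩ := Cfsg.Agent.Lib.Helper20.Symp.C2.exists_card_eq (p := r) (Nat.card G) G _ hC2 le_rfl
  refine ⟨k, ?_, hk⟩
  by_contra hk0
  have hk0' : k = 0 := by omega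
  rw [hk0', mul_zero, pow_zero, one_mul] at hk
  exact cm_center_ne_top h ((Subgroup.card_eq_iff_eq_top _).1 hk.symm)

end BlockG2

end Cfsg.Agent.Lib.Helper4.AschA7Leaf
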