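import Mathlib

set_option autoImplicit false

namespace Cfsg.Agent.Lib.Helper4.A10

/-- entry `(i,j)` of the `n × n` matrix mod `p` coded by `c`. -/
def ent (p n c i j : ℕ) : ℕ := c / p ^ (n * i + j) % p

/-- decode a matrix. -/
def dec (p n c : ℕ) : Matrix (Fin n) (Fin n) (ZMod p) :=
  Matrix.of fun i j => ((ent p n c i j : ℕ) : ZMod p)

theorem dec_apply (p n c : ℕ) (i j : Fin n) : dec p n c i j = ((ent p n c i j : ℕ) : ZMod p) := rfl

/-- sum of `f 0, …, f (n-1)`. -/
def sumTo (f : ℕ → ℕ) : ℕ → ℕ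
  | 0 => 0
  | k + 1 => sumTo f k + f k

theorem sumTo_eq (f : ℕ → ℕ) (n : ℕ) : sumTo f n = ∑ j ∈ Finset.range n, f j := by
  induction n with
  | zero => rfl
  | succ k ih => rw [sumTo, ih, Finset.sum_range_succ]

/-- conjunction of `f 0, …, f (n-1)`. -/
def allTo (f : ℕ → Bool) : ℕ → Bool
  | 0 => true
  | k + 1 => allTo f k && f k

theorem allTo_iff (f : ℕ → Bool) (n : ℕ) : allTo f n = true ↔ ∀ i < n, f i = true := by
  induction n with
  | zero => simp [allTo]
  | succ k ih =>
    rw [allTo, Bool.and_eq_true, ih]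
    constructor
    · rintro ⟨h1, h2⟩ i hi
      rcases Nat.lt_succ_iff_lt_or_eq.mp hi with h | h
      · exact h1 i h
      · rw [h]; exact h2
    · intro h
      exact ⟨fun i hi => h i (Nat.lt_succ_of_lt hi), h k (Nat.lt_succ_self k)⟩

/-- check `a * b = c` on codes. -/
def chk (p n a b c : ℕ) : Bool :=
  allTo (fun i => allTo (fun k =>
    sumTo (fun j => ent p n a i j * ent p n b j k) n % p == ent p n c i k) n) n

theorem dec_mul {p n a b c : ℕ} (h : chk p n a b c = true) :
    dec p n a * dec p n b = dec p n c := by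
  ext i k
  have h1 := (allTo_iff _ _).mp ((allTo_iff _ _).mp h i i.2) k k.2
  rw [beq_iff_eq, sumTo_eq] at h1
  rw [Matrix.mul_apply, dec_apply, ← h1, ZMod.natCast_mod, Nat.cast_sum,
    ← Fin.sum_univ_eq_sum_range (fun j => ((ent p n a i j * ent p n b j k : ℕ) : ZMod p)) n]
  apply Finset.sum_congr rfl
  intro j _
  rw [dec_apply, dec_apply, Nat.cast_mul]

/-- check that the sum of the matrices coded by `cs`, plus `t` times the identity, vanishes. -/
def chkSum (p n : ℕ) (cs : List ℕ) (t : ℕ) : Bool :=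
  allTo (fun i => allTo (fun k =>
    ((cs.map fun c => ent p n c i k).sum + (if i = k then t else 0)) % p == 0) n) n

theorem dec_sum {p n : ℕ} {cs : List ℕ} {t : ℕ} (h : chkSum p n cs t = true) :
    (cs.map (dec p n)).sum + (t : Matrix (Fin n) (Fin n) (ZMod p)) = 0 := by
  ext i k
  have h1 := (allTo_iff _ _).mp ((allTo_iff _ _).mp h i i.2) k k.2
  rw [beq_iff_eq] at h1
  have h2 : ((cs.map (dec p n)).sum) i k = (((cs.map fun c => ent p n c i k).sum : ℕ) : ZMod p) := by
    clear h h1
    induction cs with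
    | nil => simp
    | cons c cs ih =>
      rw [List.map_cons, List.sum_cons, Matrix.add_apply, ih, List.map_cons, List.sum_cons,
        Nat.cast_add, dec_apply]
  have h3 : (t : Matrix (Fin n) (Fin n) (ZMod p)) i k = ((if (i : ℕ) = k then t else 0 : ℕ) : ZMod p) := by
    rw [Matrix.natCast_apply]
    by_cases hik : i = k
    · subst hik; simp
    · have : (i : ℕ) ≠ k := fun h => hik (Fin.ext h)
      simp [hik, this]
  rw [Matrix.add_apply, h2, h3, ← Nat.cast_add, Matrix.zero_apply,
    (ZMod.natCast_eq_zero_iff _ _)]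
  exact Nat.dvd_of_mod_eq_zero h1

/-- check that the matrix coded by `c` is the identity. -/
def chkOne (p n c : ℕ) : Bool :=
  allTo (fun i => allTo (fun k => ent p n c i k == (if i = k then 1 % p else 0)) n) n

theorem dec_one {p n c : ℕ} (h : chkOne p n c = true) : dec p n c = 1 := by
  ext i k
  have h1 := (allTo_iff _ _).mp ((allTo_iff _ _).mp h i i.2) k k.2
  rw [beq_iff_eq] at h1
  rw [dec_apply, h1]
  by_cases hik : i = k
  · subst hik; simp
  · have : (i : ℕ) ≠ k := fun h => hik (Fin.ext h)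
    simp [hik, this]

end Cfsg.Agent.Lib.Helper4.A10
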