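import Mathlib
import Cfsg.Prelude.Def_Classical
import Cfsg.Prelude.Def_ClassicalGeometry
import Cfsg.Prelude.Def_GeometricClasses
import Cfsg.Agent.Lib.Helper5.SUMax
import Cfsg.Agent.Lib.Helper5.UForm
import Cfsg.Agent.Lib.Helper22.C3LDefs
import Cfsg.Agent.Lib.Helper22.C3LTool
import Cfsg.Agent.Lib.Helper16.C3uDefs
import Cfsg.Agent.Lib.Helper13.C3qDefs
import Cfsg.Agent.Lib.Helper27.C3qKC
import Cfsg.Agent.Lib.Helper6.C3qDU

/-!
S5840 conjunct (7) (rank-one unitary `C3`, planner helper13), leaf **G2** `exists_skew_cover`: for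
`r = 5`, `dim B = 2`, `dim Φ = 3`, `B ⊥ Φ` for `⟨x, y⟩ = τ (x * st y)`, there is a skew `a` with
`B ≤ a Φ` (pigeonhole `Skew → T⁻ × T⁻ × F`, then the duality DU).  (helper4)
-/

set_option autoImplicit false
set_option linter.unusedSectionVars false
set_option linter.unusedVariables false

namespace Cfsg.Agent.Lib.Helper4.C3qLeaf
open Cfsg Matrix Module Cfsg.Agent.Lib.Helper5.SpMax Cfsg.Agent.Lib.Helper5.SUMax
  Cfsg.Agent.Lib.Helper22.C3L Cfsg.Agent.Lib.Helper16.C3u Cfsg.Agent.Lib.Helper13.C3q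

universe u
variable {F : Type u} [Field F] [Fintype F] {n q : ℕ} {E : Type u} [Field E] [Algebra F E]

local notation "𝕍" => (Fin n → F)
local notation "𝕄" => Matrix (Fin n) (Fin n) F
local notation "ℍ" => (Cfsg.GU n F q ⊓ Cfsg.Geo.specialLinear (Fin n) F)

theorem st_fsmul_h4 (S : KU n q F E) (c : F) (e : E) : S.st (c • e) = (c ^ q) • S.st e := by
  rw [Algebra.smul_def, map_mul, S.st_alg, ← Algebra.smul_def]

/-- for `a` skew, `s_a (x, y) = τ (a x st y)` is skew-hermitian -/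
theorem skewform_h4 (S : KU n q F E) {a : E} (ha : S.st a = -a) (x y : E) :
    S.τ (a * y * S.st x) = - (S.τ (a * x * S.st y)) ^ q := by
  rw [← S.τ_st, ← map_neg]
  congr 1
  rw [map_mul, map_mul, S.st_st, ha]
  ring

/-- the pigeonhole step: a non-zero skew `a` with `τ (a b₁ b₁*) = τ (a b₂ b₂*) = τ (a b₁ b₂*) = 0` -/
theorem exists_skew_kernel_h4 (S : KU n q F E) (hF : Fintype.card F = q ^ 2)
    [FiniteDimensional F E] (hr5 : finrank F E = 5) (b₁ b₂ : E) :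
    ∃ a : E, a ≠ 0 ∧ S.st a = -a ∧ S.τ (a * b₁ * S.st b₁) = 0 ∧ S.τ (a * b₂ * S.st b₂) = 0 ∧
      S.τ (a * b₁ * S.st b₂) = 0 := by
  classical
  haveI : Finite E := Module.finite_of_finite F
  have hq1 : 1 < q := by
    have h1 : 1 < Fintype.card F := Fintype.one_lt_card
    rw [hF] at h1
    rcases Nat.lt_or_ge 1 q with h | h
    · exact h
    · exfalso
      interval_cases q <;> simp at h1
  -- the map `Skew → T⁻ × T⁻ × F`
  have hT : ∀ (a : {e : E // S.st e = -e}) (b : E),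
      (S.τ (a.1 * b * S.st b)) ^ q = - S.τ (a.1 * b * S.st b) := by
    intro a b
    have h := skewform_h4 S a.2 b b
    linear_combination h
  obtain ⟨ψ, hψ⟩ : ∃ ψ : {e : E // S.st e = -e} → {c : F // c ^ q = -c} × {c : F // c ^ q = -c} × F,
      ψ = fun a => (⟨S.τ (a.1 * b₁ * S.st b₁), hT a b₁⟩, ⟨S.τ (a.1 * b₂ * S.st b₂), hT a b₂⟩,
        S.τ (a.1 * b₁ * S.st b₂)) := ⟨_, rfl⟩
  have hninj : ¬ Function.Injective ψ := by
    intro hinj
    have h1 := Nat.card_le_card_of_injective ψ hinj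
    rw [Cfsg.Agent.Lib.Helper27.C3qLeaf.card_skew S hF, hr5, Nat.card_prod, Nat.card_prod,
      Nat.card_eq_fintype_card (α := F), hF] at h1
    have h2 := Cfsg.Agent.Lib.Helper27.C3qLeaf.card_tminus_le (F := F) hF
    have h3 : Nat.card {c : F // c ^ q = -c} * (Nat.card {c : F // c ^ q = -c} * q ^ 2) ≤
        q * (q * q ^ 2) := Nat.mul_le_mul h2 (Nat.mul_le_mul h2 le_rfl)
    have h4 : q * (q * q ^ 2) < q ^ 5 := by
      have : q ^ 5 = q * (q * (q * q ^ 2)) := by ring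
      rw [this]
      have hpos : 0 < q * (q * q ^ 2) := by positivity
      nlinarith
    omega
  unfold Function.Injective at hninj
  push Not at hninj
  obtain ⟨a₁, a₂, heq, hne⟩ := hninj
  refine ⟨a₁.1 - a₂.1, ?_, ?_, ?_, ?_, ?_⟩
  · intro h
    exact hne (Subtype.ext (sub_eq_zero.mp h))
  · rw [map_sub, a₁.2, a₂.2]; ring
  · have h1 := congrArg (fun p => (p.1 : F)) heq
    simp only [hψ] at h1
    rw [sub_mul, sub_mul, map_sub, h1, sub_self]
  · have h1 := congrArg (fun p => (p.2.1 : F)) heq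
    simp only [hψ] at h1
    rw [sub_mul, sub_mul, map_sub, h1, sub_self]
  · have h1 := congrArg (fun p => p.2.2) heq
    simp only [hψ] at h1
    rw [sub_mul, sub_mul, map_sub, h1, sub_self]

/-- the sesquilinear extension: `s_a` vanishes on the span of `b₁, b₂` -/
theorem skew_vanish_h4 (S : KU n q F E) (hq : q ≠ 0) {a : E} (ha : S.st a = -a) {b₁ b₂ : E}
    (h11 : S.τ (a * b₁ * S.st b₁) = 0) (h22 : S.τ (a * b₂ * S.st b₂) = 0)
    (h12 : S.τ (a * b₁ * S.st b₂) = 0) (x₁ x₂ y₁ y₂ : F) :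
    S.τ (a * (x₁ • b₁ + x₂ • b₂) * S.st (y₁ • b₁ + y₂ • b₂)) = 0 := by
  have h21 : S.τ (a * b₂ * S.st b₁) = 0 := by
    rw [skewform_h4 S ha b₁ b₂, h12, zero_pow hq, neg_zero]
  have key : a * (x₁ • b₁ + x₂ • b₂) * S.st (y₁ • b₁ + y₂ • b₂) =
      (x₁ * y₁ ^ q) • (a * b₁ * S.st b₁) + (x₁ * y₂ ^ q) • (a * b₁ * S.st b₂) +
      (x₂ * y₁ ^ q) • (a * b₂ * S.st b₁) + (x₂ * y₂ ^ q) • (a * b₂ * S.st b₂) := by
    rw [map_add, st_fsmul_h4, st_fsmul_h4]
    simp only [Algebra.smul_def, map_mul, map_pow]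
    ring
  rw [key, map_add, map_add, map_add, map_smul, map_smul, map_smul, map_smul, h11, h12, h21, h22]
  simp

/-- **G2** modulo the duality `DU` (only its first half is used) -/
theorem exists_skew_cover_of_DU_h4 (S : KU n q F E) (hF : Fintype.card F = q ^ 2)
    [FiniteDimensional F E] (hr5 : finrank F E = 5) (B Φ : Submodule F E)
    (hB : finrank F B = 2)
    (hDU : ∀ φ : E, (∀ b ∈ B, S.τ (b * S.st φ) = 0) → φ ∈ Φ) :
    ∃ a : E, S.st a = -a ∧ B ≤ smulSub a Φ := by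
  classical
  have hq0 : q ≠ 0 := by
    rintro rfl
    have h1 : 0 < Fintype.card F := Fintype.card_pos
    rw [hF] at h1
    simp at h1
  -- a basis of `B`
  obtain ⟨bs⟩ : Nonempty (Basis (Fin 2) F B) := ⟨Module.finBasisOfFinrankEq F B hB⟩
  have hrepr : ∀ b ∈ B, ∃ x₁ x₂ : F, b = x₁ • (bs 0 : E) + x₂ • (bs 1 : E) := by
    intro b hb
    have h1 := bs.sum_repr ⟨b, hb⟩
    rw [Fin.sum_univ_two] at h1
    have h2 := congrArg Subtype.val h1
    simp only [Submodule.coe_add, Submodule.coe_smul] at h2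
    exact ⟨bs.repr ⟨b, hb⟩ 0, bs.repr ⟨b, hb⟩ 1, h2.symm⟩
  obtain ⟨a', ha'0, ha', h11, h22, h12⟩ := exists_skew_kernel_h4 S hF hr5 (bs 0 : E) (bs 1 : E)
  have hvan : ∀ b ∈ B, ∀ b' ∈ B, S.τ (a' * b * S.st b') = 0 := by
    intro b hb b' hb'
    obtain ⟨x₁, x₂, rfl⟩ := hrepr b hb
    obtain ⟨y₁, y₂, rfl⟩ := hrepr b' hb'
    exact skew_vanish_h4 S hq0 ha' h11 h22 h12 x₁ x₂ y₁ y₂
  have hmem : ∀ b ∈ B, a' * b ∈ Φ := by
    intro b hb
    apply hDU
    intro b' hb'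
    have h1 : b' * S.st (a' * b) = -(a' * b' * S.st b) := by
      rw [map_mul, ha']; ring
    rw [h1, map_neg, hvan b' hb' b hb, neg_zero]
  refine ⟨a'⁻¹, ?_, ?_⟩
  · rw [map_inv₀, ha', inv_neg]
  · intro b hb
    exact mem_smulSub.mpr ⟨a' * b, hmem b hb, by rw [← mul_assoc, inv_mul_cancel₀ ha'0, one_mul]⟩

/-- **G2** [M] `r = 5`, `dim B = 2`: a skew `a` with `B ≤ a Φ` -/
theorem exists_skew_cover (S : KU n q F E) (hF : Fintype.card F = q ^ 2) (hn : 0 < n)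
    [FiniteDimensional F E] (hr5 : finrank F E = 5) (B Φ : Submodule F E)
    (hB : finrank F B = 2) (hΦ : finrank F Φ = 3)
    (hperp : ∀ b ∈ B, ∀ φ ∈ Φ, S.τ (b * S.st φ) = 0) :
    ∃ a : E, S.st a = -a ∧ B ≤ smulSub a Φ :=
  exists_skew_cover_of_DU_h4 S hF hr5 B Φ hB
    (Cfsg.Agent.Lib.Helper6.C3qLeaf.mem_of_perp S hF hn B Φ (by rw [hB, hΦ, hr5]) hperp).1

end Cfsg.Agent.Lib.Helper4.C3qLeaf
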