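import Mathlib
import Cfsg.Prelude.Def_Classical
import Cfsg.Prelude.Def_ClassicalGeometry
import Cfsg.Prelude.Def_GeometricClasses
import Cfsg.Agent.Lib.Helper5.SUMax
import Cfsg.Agent.Lib.Helper5.UForm
import Cfsg.Agent.Lib.Helper22.C3LDefs
import Cfsg.Agent.Lib.Helper22.C3LTool
import Cfsg.Agent.Lib.Helper16.C3uDefs
import Cfsg.Agent.Lib.Helper13.C3qDefs
import Cfsg.Agent.Lib.Helper26.C3uW1
import Cfsg.Agent.Lib.Helper14.Unitary2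

/-!
S5840 conjunct (7) (rank-one unitary `C3`, planner helper13), leaf **TOR1** `torus_conj`: the torus
`diag(k, (st k)⁻¹)` (`k = e^(q+1)`) of the hyperbolic `E`-plane `V = E v₀ ⊕ E v₁` lies in `C_SU(E) ≤ M` and
conjugates `1 + uX X` to `1 + uX (k X (st k ·))`.  (helper4)
-/

set_option autoImplicit false
set_option linter.unusedSectionVars false
set_option linter.unusedVariables false

namespace Cfsg.Agent.Lib.Helper4.C3qLeaf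
open Cfsg Matrix Module Cfsg.Agent.Lib.Helper5.SpMax Cfsg.Agent.Lib.Helper5.SUMax
  Cfsg.Agent.Lib.Helper22.C3L Cfsg.Agent.Lib.Helper16.C3u Cfsg.Agent.Lib.Helper13.C3q

universe u
variable {F : Type u} [Field F] [Fintype F] {n q : ℕ} {E : Type u} [Field E] [Algebra F E]

local notation "𝕍" => (Fin n → F)
local notation "𝕄" => Matrix (Fin n) (Fin n) F
local notation "ℍ" => (Cfsg.GU n F q ⊓ Cfsg.Geo.specialLinear (Fin n) F)

/-- the product of the two torus elements of a hyperbolic pair `(v₀, v₁)` -/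
theorem tor2_mulVec_h4 (S : KU n q F E) {v₀ v₁ : 𝕍} (h11 : S.fE v₁ v₁ = 0)
    (h01 : lam S v₁ v₀ = 1) (h10 : lam S v₀ v₁ = 1) {k c : E} (hk : k ≠ 0) (hc : c ≠ 0) (x : 𝕍) :
    ((tor S.ρ (lam S v₁) v₀ k h01 hk * tor S.ρ (lam S v₀) v₁ c h10 hc : GL (Fin n) F) : 𝕄) *ᵥ x =
      x + act S.ρ ((c - 1) * S.fE x v₀) v₁ + act S.ρ ((k - 1) * S.fE x v₁) v₀ := by
  rw [Units.val_mul, ← Matrix.mulVec_mulVec, tor_mulVec, tor_mulVec, lam_apply, lam_apply,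
    S.add_left, S.fE_act_left, h11, mul_zero, add_zero]

/-- the hyperbolic torus element `diag(k, c)` with `c * st k = 1` preserves `fE` -/
theorem tor2_fE_h4 (S : KU n q F E) {v₀ v₁ : 𝕍} (h00 : S.fE v₀ v₀ = 0) (h11 : S.fE v₁ v₁ = 0)
    (h01 : S.fE v₀ v₁ = 1) (h10 : S.fE v₁ v₀ = 1) {k c : E} (hck : c * S.st k = 1) (x y : 𝕍) :
    S.fE (x + act S.ρ ((c - 1) * S.fE x v₀) v₁ + act S.ρ ((k - 1) * S.fE x v₁) v₀)
      (y + act S.ρ ((c - 1) * S.fE y v₀) v₁ + act S.ρ ((k - 1) * S.fE y v₁) v₀) = S.fE x y := by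
  have hck' : S.st c * k = 1 := by
    have := congrArg S.st hck
    rwa [map_mul, S.st_st, map_one] at this
  simp only [S.add_left, S.fE_add_right, S.fE_act_left, S.fE_act_right, h00, h11, h01, h10, map_mul,
    map_sub, map_one]
  rw [S.herm y v₀, S.herm y v₁]
  linear_combination (S.fE x v₁ * S.st (S.fE y v₀)) * hck' + (S.fE x v₀ * S.st (S.fE y v₁)) * hck

/-- **TOR1** [M-L] the torus `diag(e^(q+1), (st e^(q+1))⁻¹)` acts on `XX` by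
`X ↦ e^(q+1) X (st e)^(q+1)` -/
theorem torus_conj (S : KU n q F E) (hF : Fintype.card F = q ^ 2) [FiniteDimensional F E]
    (hd : 2 * finrank F E = n) (M : Subgroup (GL (Fin n) F)) (hMS : M ≤ ℍ)
    (hM : ∀ g ∈ ℍ, (∀ e : E, (g : 𝕄) * S.ρ e = S.ρ e * (g : 𝕄)) → g ∈ M)
    {v₀ : 𝕍} (hv₀ : v₀ ≠ 0) (hiso : S.fE v₀ v₀ = 0) {e : E} (he : e ≠ 0) {X : E →ₗ[F] E}
    (hX : X ∈ XX S.ρ M (lam S v₀) v₀ (lam_self S hiso)) :
    (LinearMap.mulLeft F (e ^ (q + 1))) ∘ₗ X ∘ₗ (LinearMap.mulLeft F (S.st e ^ (q + 1))) ∈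
      XX S.ρ M (lam S v₀) v₀ (lam_self S hiso) := by
  classical
  obtain ⟨v₁, h11, h01⟩ := Cfsg.Agent.Lib.Helper26.C3uLeaf.exists_partner S hF hv₀ hiso
  have h10 : S.fE v₁ v₀ = 1 := by rw [S.herm v₀ v₁, h01, map_one]
  have hl01 : lam S v₁ v₀ = 1 := h01
  have hl10 : lam S v₀ v₁ = 1 := h10
  have hse : S.st e ≠ 0 := fun h => he (by
    have := congrArg S.st h
    rwa [S.st_st, map_zero] at this)
  have hc : (S.st e)⁻¹ ≠ 0 := inv_ne_zero hse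
  -- the basic torus element `H = diag(e, (st e)⁻¹)`
  obtain ⟨T₂, hT₂⟩ : ∃ T : GL (Fin n) F, T = tor S.ρ (lam S v₁) v₀ e hl01 he := ⟨_, rfl⟩
  obtain ⟨T₁, hT₁⟩ : ∃ T : GL (Fin n) F, T = tor S.ρ (lam S v₀) v₁ (S.st e)⁻¹ hl10 hc := ⟨_, rfl⟩
  have hHGU : T₂ * T₁ ∈ Cfsg.GU n F q := by
    rw [mem_GU]
    apply S.form_of_fE
    intro x y
    rw [hT₂, hT₁, tor2_mulVec_h4 S h11 hl01 hl10 he hc, tor2_mulVec_h4 S h11 hl01 hl10 he hc]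
    exact tor2_fE_h4 S hiso h11 h01 h10 (inv_mul_cancel₀ hse) x y
  -- its `(q+1)`-th "power" `G = diag(k, (st k)⁻¹)`, `k = e^(q+1)`
  have hk : e ^ (q + 1) ≠ 0 := pow_ne_zero _ he
  have hck : (S.st e)⁻¹ ^ (q + 1) ≠ 0 := pow_ne_zero _ hc
  obtain ⟨G, hG⟩ : ∃ G : GL (Fin n) F, G = tor S.ρ (lam S v₁) v₀ (e ^ (q + 1)) hl01 hk *
      tor S.ρ (lam S v₀) v₁ ((S.st e)⁻¹ ^ (q + 1)) hl10 hck := ⟨_, rfl⟩
  have hGeq : G = T₂ ^ (q + 1) * T₁ ^ (q + 1) := by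
    rw [hG, hT₂, hT₁, tor_pow, tor_pow]
  have hcst : (S.st e)⁻¹ ^ (q + 1) * S.st (e ^ (q + 1)) = 1 := by
    rw [map_pow, ← mul_pow, inv_mul_cancel₀ hse, one_pow]
  have hGv : ∀ x : 𝕍, (G : 𝕄) *ᵥ x = x + act S.ρ (((S.st e)⁻¹ ^ (q + 1) - 1) * S.fE x v₀) v₁ +
      act S.ρ ((e ^ (q + 1) - 1) * S.fE x v₁) v₀ := by
    intro x
    rw [hG, tor2_mulVec_h4 S h11 hl01 hl10 hk hck]
  have hGfE : ∀ x y : 𝕍, S.fE ((G : 𝕄) *ᵥ x) ((G : 𝕄) *ᵥ y) = S.fE x y := by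
    intro x y
    rw [hGv, hGv]
    exact tor2_fE_h4 S hiso h11 h01 h10 hcst x y
  have hGGU : G ∈ Cfsg.GU n F q := by
    rw [mem_GU]
    exact S.form_of_fE hGfE
  have hGSL : G ∈ Cfsg.Geo.specialLinear (Fin n) F := by
    show G ∈ (Matrix.GeneralLinearGroup.det : GL (Fin n) F →* Fˣ).ker
    rw [MonoidHom.mem_ker, hGeq, map_mul, map_pow, map_pow, ← mul_pow, ← map_mul]
    have h1 : Cfsg.Agent.Lib.Helper14.detGU F q n ⟨T₂ * T₁, hHGU⟩ ∈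
        Cfsg.Agent.Lib.Helper14.normOne F q :=
      Cfsg.Agent.Lib.Helper14.detGU_range_le hF ⟨_, rfl⟩
    exact (Cfsg.Agent.Lib.Helper14.mem_normOne _).mp h1
  have hGcent : G ∈ cent S.ρ := by
    rw [hG]
    exact (cent S.ρ).mul_mem (tor_mem_cent S.ρ hl01 hk) (tor_mem_cent S.ρ hl10 hck)
  have hGM : G ∈ M := hM G ⟨hGGU, hGSL⟩ hGcent
  -- `G v₀ = k v₀`
  have hGv₀ : (G : 𝕄) *ᵥ v₀ = act S.ρ (e ^ (q + 1)) v₀ := by
    rw [hGv, hiso, mul_zero, act_zero, add_zero, h01, mul_one, act_sub, act_one]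
    abel
  -- `ξ (G⁻¹ x) = st k * ξ x`
  have hξ : ∀ x : 𝕍, S.fE (((G⁻¹ : GL (Fin n) F) : 𝕄) *ᵥ x) v₀ =
      S.st e ^ (q + 1) * S.fE x v₀ := by
    intro x
    have h1 := hGfE (((G⁻¹ : GL (Fin n) F) : 𝕄) *ᵥ x) v₀
    rw [mul_inv_mulVec, hGv₀, S.fE_act_right, map_pow] at h1
    exact h1.symm
  -- conjugate
  obtain ⟨y, hyM, hy⟩ := mem_XX.mp hX
  apply mem_XX.mpr
  refine ⟨G * y * G⁻¹, M.mul_mem (M.mul_mem hGM hyM) (M.inv_mem hGM), ?_⟩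
  apply mat_eq_of_mulVec
  intro x
  rw [Units.val_mul, Units.val_mul, ← Matrix.mulVec_mulVec, ← Matrix.mulVec_mulVec, hy,
    Matrix.add_mulVec, Matrix.one_mulVec, uXMat_mulVec, Matrix.mulVec_add, mul_inv_mulVec,
    cent_mulVec_act S.ρ hGcent, hGv₀, ← act_mul, lam_apply, hξ, Matrix.add_mulVec,
    Matrix.one_mulVec, uXMat_mulVec, lam_apply]
  simp only [LinearMap.comp_apply, LinearMap.mulLeft_apply]
  rw [mul_comm]

end Cfsg.Agent.Lib.Helper4.C3qLeaf
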