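import Mathlib
import Cfsg.Agent.Lib.Helper13.DCDefs
import Cfsg.Agent.Lib.Helper23.WAct5
import Cfsg.Agent.Lib.Helper12.Cores

/-!
# S4719 leaf G4: `|O_{2'}(G)| ≤ c^3` from a four-group with bounded centralizers
(Wielandt's fixed point formula, helper23 `WAct.wielandt`, with `p = 2`).
-/

set_option autoImplicit false

universe u

namespace Cfsg.Agent.Lib.Helper4.DCG4

open Cfsg Cfsg.Agent.Lib.Helper13.DC Cfsg.Agent.Lib.Helper23.WAct

/-- every element of `closure {x, z}` (commuting involutions) squares to one -/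
theorem sq_eq_one_of_mem_closure {G : Type u} [Group G] (x z : G) (hx : x * x = 1)
    (hz : z * z = 1) (hxz : x * z = z * x) :
    ∀ g ∈ Subgroup.closure ({x, z} : Set G), g * g = 1 ∧ g * x = x * g ∧ g * z = z * g := by
  intro g hg
  -- first: everything in the closure commutes with x and z
  have hcomm : ∀ g ∈ Subgroup.closure ({x, z} : Set G), g * x = x * g ∧ g * z = z * g := by
    intro g hg
    induction hg using Subgroup.closure_induction with
    | mem y hy =>
      rcases hy with rfl | hy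
      · exact ⟨rfl, hxz⟩
      · rw [Set.mem_singleton_iff] at hy; subst hy; exact ⟨hxz.symm, rfl⟩
    | one => simp
    | mul a b _ _ ha hb =>
      refine ⟨?_, ?_⟩
      · rw [mul_assoc, hb.1, ← mul_assoc, ha.1, mul_assoc]
      · rw [mul_assoc, hb.2, ← mul_assoc, ha.2, mul_assoc]
    | inv a _ ha =>
      refine ⟨?_, ?_⟩
      · have := ha.1
        calc a⁻¹ * x = a⁻¹ * (x * a) * a⁻¹ := by group
          _ = a⁻¹ * (a * x) * a⁻¹ := by rw [this]
          _ = x * a⁻¹ := by group
      · have := ha.2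
        calc a⁻¹ * z = a⁻¹ * (z * a) * a⁻¹ := by group
          _ = a⁻¹ * (a * z) * a⁻¹ := by rw [this]
          _ = z * a⁻¹ := by group
  refine ⟨?_, (hcomm g hg).1, (hcomm g hg).2⟩
  -- the centralizer of the closure contains the closure, so squares multiply
  have hcc : ∀ a ∈ Subgroup.closure ({x, z} : Set G), ∀ b ∈ Subgroup.closure ({x, z} : Set G),
      a * b = b * a := by
    intro a ha b hb
    induction hb using Subgroup.closure_induction with
    | mem y hy =>
      rcases hy with rfl | hy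
      · exact (hcomm a ha).1
      · rw [Set.mem_singleton_iff] at hy; subst hy; exact (hcomm a ha).2
    | one => simp
    | mul b c _ _ hb hc =>
      rw [← mul_assoc, hb, mul_assoc, hc, ← mul_assoc]
    | inv b _ hb =>
      calc a * b⁻¹ = b⁻¹ * (b * a) * b⁻¹ := by group
        _ = b⁻¹ * (a * b) * b⁻¹ := by rw [hb]
        _ = b⁻¹ * a := by group
  induction hg using Subgroup.closure_induction with
  | mem y hy =>
    rcases hy with rfl | hy
    · exact hx
    · rw [Set.mem_singleton_iff] at hy; subst hy; exact hz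
  | one => simp
  | mul a b ha hb iha ihb =>
    have hab := hcc a ha b hb
    calc a * b * (a * b) = a * (b * a) * b := by group
      _ = a * (a * b) * b := by rw [hab]
      _ = (a * a) * (b * b) := by group
      _ = 1 := by rw [iha, ihb, one_mul]
  | inv a ha iha =>
    calc a⁻¹ * a⁻¹ = (a * a)⁻¹ := by group
      _ = 1 := by rw [iha, inv_one]

/-- LEAF G4. -/
theorem card_pPrimeCore_le {G : Type u} [Group G] [Finite G] (x z : G) (hx : x * x = 1)
    (hz : z * z = 1) (hxz : x * z = z * x) (c : ℕ)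
    (hcx : Nat.card (Subgroup.centralizer ({x} : Set G)) ≤ c)
    (hcz : Nat.card (Subgroup.centralizer ({z} : Set G)) ≤ c)
    (hcxz : Nat.card (Subgroup.centralizer ({x * z} : Set G)) ≤ c) :
    Nat.card (Cfsg.pPrimeCore 2 G) ≤ c ^ 3 := by
  classical
  haveI : Fact (Nat.Prime 2) := ⟨Nat.prime_two⟩
  set A : Subgroup G := Subgroup.closure ({x, z} : Set G) with hAdef
  have hxA : x ∈ A := Subgroup.subset_closure (by simp)
  have hzA : z ∈ A := Subgroup.subset_closure (by simp)
  have hsq := sq_eq_one_of_mem_closure x z hx hz hxz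
  -- A is a 2-group
  have hA2 : IsPGroup 2 A := by
    intro a
    refine ⟨1, ?_⟩
    apply Subtype.ext
    have := (hsq a.1 a.2).1
    simp [pow_succ, this]
  -- the conjugation action of A on G
  let φ₀ : A →* MulAut G := (MulAut.conj : G →* MulAut G).comp A.subtype
  have hφ₀ : ∀ (a : A) (g : G), φ₀ a g = (a : G) * g * (a : G)⁻¹ := fun a g => rfl
  set K : Subgroup G := Cfsg.pPrimeCore 2 G with hKdef
  haveI hKchar : K.Characteristic := Cfsg.Agent.Lib.Helper12.pPrimeCore_characteristic 2
  haveI hKn : K.Normal := inferInstance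
  have hKinv : Inv φ₀ K := by
    intro a k hk
    rw [hφ₀]
    exact hKn.conj_mem k hk a
  have hcop : ¬ 2 ∣ Nat.card K := by
    have h := Cfsg.Agent.Lib.Helper12.pPrimeCore_coprime (X := G) 2
    intro hdvd
    have : (2 : ℕ) ∣ Nat.gcd (Nat.card K) 2 := Nat.dvd_gcd hdvd (dvd_refl 2)
    rw [Nat.Coprime] at h
    rw [h] at this
    exact absurd this (by decide)
  -- commutativity and exponent of the induced action
  have hcomm : ∀ a b : A, (sub φ₀ K hKinv) (a * b) = (sub φ₀ K hKinv) (b * a) := by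
    intro a b
    have hab : a * b = b * a := by
      apply Subtype.ext
      -- elements of A commute
      have h1 := hsq (a * b : A).1 (a * b : A).2
      have ha := (hsq a.1 a.2).1
      have hb := (hsq b.1 b.2).1
      have h2 : (a : G) * b * (a * b) = 1 := h1.1
      have ha' : (a : G)⁻¹ = a := by rw [inv_eq_iff_mul_eq_one]; exact ha
      have hb' : (b : G)⁻¹ = b := by rw [inv_eq_iff_mul_eq_one]; exact hb
      calc ((a * b : A) : G) = (a : G) * b := rfl
        _ = ((a : G) * b)⁻¹ := eq_inv_of_mul_eq_one_left h2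
        _ = (b : G)⁻¹ * (a : G)⁻¹ := mul_inv_rev _ _
        _ = b * a := by rw [ha', hb']
    rw [hab]
  have hexp : ∀ a : A, (sub φ₀ K hKinv) (a ^ 2) = 1 := by
    intro a
    have : a ^ 2 = 1 := by
      apply Subtype.ext
      have := (hsq a.1 a.2).1
      simp [pow_succ, this]
    rw [this, map_one]
  have hW := wielandt (p := 2) hA2 (Nat.card K) K rfl hcop (sub φ₀ K hKinv) hcomm hexp
    ⟨x, hxA⟩ ⟨z, hzA⟩
  -- compute the product over `range 2`
  have hprod : ∏ i ∈ Finset.range 2, Nat.card (fix (sub φ₀ K hKinv) {(⟨x, hxA⟩ : A) * ⟨z, hzA⟩ ^ i})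
      = Nat.card (fix (sub φ₀ K hKinv) {(⟨x, hxA⟩ : A)})
        * Nat.card (fix (sub φ₀ K hKinv) {(⟨x, hxA⟩ : A) * ⟨z, hzA⟩}) := by
    rw [Finset.prod_range_succ, Finset.prod_range_one, pow_zero, mul_one, pow_one]
  rw [hprod] at hW
  -- each fixed point group injects into the corresponding centralizer
  have hfix_le : ∀ a : A, Nat.card (fix (sub φ₀ K hKinv) {a})
      ≤ Nat.card (Subgroup.centralizer ({(a : G)} : Set G)) := by
    intro a
    rw [card_fix_sub]
    apply Subgroup.card_le_of_le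
    intro g hg
    rw [Subgroup.mem_inf] at hg
    rw [Subgroup.mem_centralizer_singleton_iff]
    have h1 : φ₀ a g = g := (mem_fix_singleton φ₀).mp hg.1
    rw [hφ₀] at h1
    calc g * (a : G) = (a : G) * g * (a : G)⁻¹ * a := by rw [h1]
      _ = a * g := by group
  have h1 := hfix_le ⟨z, hzA⟩
  have h2 := hfix_le ⟨x, hxA⟩
  have h3 := hfix_le (⟨x, hxA⟩ * ⟨z, hzA⟩)
  have h3' : Nat.card (fix (sub φ₀ K hKinv) {(⟨x, hxA⟩ : A) * ⟨z, hzA⟩}) ≤ c :=
    le_trans h3 hcxz
  have hpos : 0 < Nat.card (fix (sub φ₀ K hKinv) {(⟨x, hxA⟩ : A), ⟨z, hzA⟩}) := Nat.card_pos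
  have hge : Nat.card K ≤ Nat.card K * Nat.card (fix (sub φ₀ K hKinv) {(⟨x, hxA⟩ : A), ⟨z, hzA⟩}) ^ 2 :=
    Nat.le_mul_of_pos_right _ (pow_pos hpos 2)
  calc Nat.card K ≤ _ := hge
    _ = _ := hW
    _ ≤ c * (c * c) := by
      apply Nat.mul_le_mul (le_trans h1 hcz)
      exact Nat.mul_le_mul (le_trans h2 hcx) h3'
    _ = c ^ 3 := by ring

end Cfsg.Agent.Lib.Helper4.DCG4
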