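/-
helper4: leaf BRE-KNORM of S4503 PART E (planner helper14, notes/S4503_E_leaves.lean):
Cauchy-Schwarz for `thetaSum` on the `p`-regular elements of `C = C_G(P)`.
-/
import Mathlib
import Cfsg.Prelude.Def_BlockRank
import Cfsg.Agent.Lib.Helper27.DODefs
import Cfsg.Agent.Lib.Helper10.IrrOrtho
import Cfsg.Agent.Lib.Helper6.DefectOrder

set_option autoImplicit false

namespace Cfsg.Agent.Lib.Helper4.BREKNORM

open Cfsg Cfsg.Agent.Lib.Helper8.DOM Cfsg.Agent.Lib.Helper27.DO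
open scoped ComplexConjugate

universe u

variable {G : Type u} [Group G] [Finite G] {p : ℕ} [Fact p.Prime]

/-- a subgroup of prime order is commutative -/
theorem comm_of_card_prime (P : Subgroup G) (hP : Nat.card P = p) (a b : G) (ha : a ∈ P) (hb : b ∈ P) :
    a * b = b * a := by
  haveI : IsCyclic ↥P := isCyclic_of_prime_card hP
  obtain ⟨g, hg⟩ := IsCyclic.exists_generator (α := ↥P)
  obtain ⟨m, hm⟩ := Subgroup.mem_zpowers_iff.mp (hg ⟨a, ha⟩)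
  obtain ⟨n, hn⟩ := Subgroup.mem_zpowers_iff.mp (hg ⟨b, hb⟩)
  have h : (⟨a, ha⟩ : ↥P) * ⟨b, hb⟩ = ⟨b, hb⟩ * ⟨a, ha⟩ := by
    rw [← hm, ← hn, ← zpow_add, ← zpow_add, add_comm]
  exact congrArg Subtype.val h

theorem le_Cz (P : Subgroup G) (hP : Nat.card P = p) : P ≤ Cz P := by
  intro x hx
  refine Subgroup.mem_centralizer_iff.mpr ?_
  intro z hz
  exact comm_of_card_prime P hP z x hz hx

/-- an element of `P` is in the kernel of a `P`-trivial irreducible character of `C_G(P)` -/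
theorem theta_mul_of_mem (P : Subgroup G) (hP : Nat.card P = p) (θ : IrrCharacter (Cz P))
    (hθP : PTriv P (θ : Cz P → ℂ))
    (x : G) (hx : x ∈ P) (y : G) (hy : y ∈ Cz P) :
    extendByZero (Cz P) (θ : Cz P → ℂ) (x * y) = extendByZero (Cz P) (θ : Cz P → ℂ) y := by
  classical
  haveI : Fintype ↥(Cz P) := Fintype.ofFinite _
  have hxC : x ∈ Cz P := le_Cz P hP hx
  have hcen : ∀ h : ↥(Cz P), h * ⟨x, hxC⟩ = ⟨x, hxC⟩ * h := by
    intro h
    apply Subtype.ext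
    simp only [Subgroup.coe_mul]
    exact (Subgroup.mem_centralizer_iff.mp h.2 x hx).symm
  have h1 := Cfsg.Agent.Lib.Helper6.irr_mul_central θ ⟨x, hxC⟩ hcen ⟨y, hy⟩
  have hθ1 : (θ : Cz P → ℂ) 1 ≠ 0 := Cfsg.Agent.Lib.Helper10.irr_one_ne_zero θ.2
  have hcc : centralChar (θ : Cz P → ℂ) ⟨x, hxC⟩ = 1 := by
    unfold centralChar
    have htop : Subgroup.centralizer ({(⟨x, hxC⟩ : ↥(Cz P))} : Set ↥(Cz P)) = ⊤ := by
      rw [eq_top_iff]
      intro h _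
      rw [Subgroup.mem_centralizer_singleton_iff]
      exact hcen h
    rw [htop, Subgroup.index_top, hθP ⟨x, hxC⟩ hx]
    simp [hθ1]
  rw [hcc, one_mul] at h1
  have hxy : x * y ∈ Cz P := Subgroup.mul_mem _ hxC hy
  rw [Cfsg.Agent.Lib.Helper10.extendByZero_apply_mem (Cz P) _ hxy,
    Cfsg.Agent.Lib.Helper10.extendByZero_apply_mem (Cz P) _ hy]
  have hsub : (⟨x * y, hxy⟩ : ↥(Cz P)) = ⟨y, hy⟩ * ⟨x, hxC⟩ :=
    Subtype.ext (Subgroup.mem_centralizer_iff.mp hy x hx)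
  rw [hsub, h1]

/-- `(x, y) ↦ x y` is injective on `P × K`, `K` the `p`-regular elements of `C_G(P)` -/
theorem mul_inj_of_reg (P : Subgroup G) (hP : Nat.card P = p) {x x' y y' : G} (hx : x ∈ P)
    (hx' : x' ∈ P) (hy : y ∈ Cz P) (hy' : y' ∈ Cz P) (hyr : ¬ p ∣ orderOf y)
    (hyr' : ¬ p ∣ orderOf y') (h : x * y = x' * y') : x = x' ∧ y = y' := by
  have hp : p.Prime := Fact.out
  have hxy : x * y = y * x := Subgroup.mem_centralizer_iff.mp hy x hx
  have hxy' : x' * y' = y' * x' := Subgroup.mem_centralizer_iff.mp hy' x' hx'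
  obtain ⟨k, hk⟩ : ∃ k, k = orderOf y * orderOf y' := ⟨_, rfl⟩
  have hyk : y ^ k = 1 := by rw [hk, pow_mul, pow_orderOf_eq_one, one_pow]
  have hyk' : y' ^ k = 1 := by rw [hk, mul_comm, pow_mul, pow_orderOf_eq_one, one_pow]
  have h1 : (x * y) ^ k = x ^ k := by
    rw [(Commute.mul_pow (show Commute x y from hxy) k), hyk, mul_one]
  have h2 : (x' * y') ^ k = x' ^ k := by
    rw [(Commute.mul_pow (show Commute x' y' from hxy') k), hyk', mul_one]
  have h3 : x ^ k = x' ^ k := by rw [← h1, ← h2, h]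
  have hcomm : x'⁻¹ * x = x * x'⁻¹ := by
    have := comm_of_card_prime P hP x x' hx hx'
    calc x'⁻¹ * x = x'⁻¹ * (x * x') * x'⁻¹ := by group
      _ = x'⁻¹ * (x' * x) * x'⁻¹ := by rw [this]
      _ = x * x'⁻¹ := by group
  have h4 : (x'⁻¹ * x) ^ k = 1 := by
    rw [(Commute.mul_pow (show Commute x'⁻¹ x from hcomm) k), inv_pow, h3, inv_mul_cancel]
  have h5 : (x'⁻¹ * x) ^ p = 1 := by
    have hmem : x'⁻¹ * x ∈ P := P.mul_mem (P.inv_mem hx') hx
    have := pow_card_eq_one' (G := ↥P) (x := ⟨x'⁻¹ * x, hmem⟩)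
    rw [hP] at this
    exact congrArg Subtype.val this
  have hcop : Nat.Coprime k p := by
    rw [hk]
    apply Nat.Coprime.mul_left
    · exact (Nat.Coprime.symm ((Nat.Prime.coprime_iff_not_dvd hp).mpr hyr))
    · exact (Nat.Coprime.symm ((Nat.Prime.coprime_iff_not_dvd hp).mpr hyr'))
  have h6 : x'⁻¹ * x = 1 := by
    have := pow_gcd_eq_one.mpr ⟨h4, h5⟩
    rwa [hcop.gcd_eq_one, pow_one] at this
  have hxx : x = x' := by
    have : x' * (x'⁻¹ * x) = x' * 1 := by rw [h6]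
    simpa using this
  refine ⟨hxx, ?_⟩
  rw [hxx] at h
  exact mul_left_cancel h

/-- `∑_{c ∈ C} |θ(c)|² = |C|` for an irreducible character `θ` of `C` (sum over `G` of the extension by zero) -/
theorem sum_normSq_extend [Fintype G] (H : Subgroup G) (θ : IrrCharacter H) :
    ∑ g : G, Complex.normSq (extendByZero H (θ : H → ℂ) g) = (Nat.card H : ℝ) := by
  classical
  haveI : Fintype ↥H := Fintype.ofFinite _
  have h1 := Cfsg.Agent.Lib.Helper10.classInner_irr_self θ.2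
  unfold classInner at h1
  have hne : (Nat.card H : ℂ) ≠ 0 := Nat.cast_ne_zero.mpr Nat.card_pos.ne'
  have h2 : ∑ h : H, (θ : H → ℂ) h * conj ((θ : H → ℂ) h) = (Nat.card H : ℂ) := by
    have := congrArg (fun z => (Nat.card H : ℂ) * z) h1
    simpa [mul_inv_cancel_left₀ hne] using this
  have h3 : ∑ h : H, Complex.normSq ((θ : H → ℂ) h) = (Nat.card H : ℝ) := by
    have h4 : ((∑ h : H, Complex.normSq ((θ : H → ℂ) h) : ℝ) : ℂ) = (Nat.card H : ℂ) := by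
      rw [← h2, Complex.ofReal_sum]
      apply Finset.sum_congr rfl
      intro h _
      rw [Complex.mul_conj]
    exact_mod_cast h4
  rw [← h3]
  have h5 : ∑ g : G, Complex.normSq (extendByZero H (θ : H → ℂ) g) =
      ∑ g ∈ Finset.univ.filter (fun g : G => g ∈ H), Complex.normSq (extendByZero H (θ : H → ℂ) g) := by
    symm
    apply Finset.sum_subset (Finset.filter_subset _ _)
    intro g _ hg
    rw [Finset.mem_filter] at hg
    have hgH : g ∉ H := fun h => hg ⟨Finset.mem_univ _, h⟩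
    rw [Cfsg.Agent.Lib.Helper10.extendByZero_apply_not_mem H _ hgH, map_zero]
  rw [h5]
  symm
  apply Finset.sum_bij (fun (h : ↥H) _ => (h : G))
  · intro h _
    simp
  · intro a _ b _ hab
    exact Subtype.ext hab
  · intro g hg
    rw [Finset.mem_filter] at hg
    exact ⟨⟨g, hg.2⟩, Finset.mem_univ _, rfl⟩
  · intro h _
    rw [Cfsg.Agent.Lib.Helper10.extendByZero_apply_coe]

/-- `p ∑_{y ∈ K} |θ(y)|² ≤ |C|` -/
theorem card_mul_sum_le [Fintype G] [DecidableEq G] (P : Subgroup G) (hP : Nat.card P = p)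
    (θ : IrrCharacter (Cz P)) (hθP : PTriv P (θ : Cz P → ℂ)) (K : Finset G)
    (hK : ∀ y, y ∈ K ↔ (y ∈ Cz P ∧ ¬ p ∣ orderOf y)) :
    (p : ℝ) * ∑ y ∈ K, Complex.normSq (extendByZero (Cz P) (θ : Cz P → ℂ) y) ≤
      (Nat.card (Cz P) : ℝ) := by
  classical
  set θ0 : G → ℂ := extendByZero (Cz P) (θ : Cz P → ℂ) with hθ0
  let Pf : Finset G := Finset.univ.filter (fun g : G => g ∈ P)
  have hPf : ∀ x, x ∈ Pf ↔ x ∈ P := by intro x; simp [Pf]
  have hPfc : Pf.card = p := by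
    rw [← hP, Nat.card_eq_fintype_card, Fintype.card_subtype]
  have hinj : Set.InjOn (fun xy : G × G => xy.1 * xy.2) ((Pf ×ˢ K : Finset (G × G)) : Set (G × G)) := by
    rintro ⟨x, y⟩ hxy ⟨x', y'⟩ hxy' h
    rw [Finset.mem_coe, Finset.mem_product] at hxy hxy'
    simp only at hxy hxy' h
    obtain ⟨h1, h2⟩ := mul_inj_of_reg P hP ((hPf x).mp hxy.1) ((hPf x').mp hxy'.1)
      ((hK y).mp hxy.2).1 ((hK y').mp hxy'.2).1 ((hK y).mp hxy.2).2 ((hK y').mp hxy'.2).2 h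
    rw [h1, h2]
  have h1 : ∑ g ∈ (Pf ×ˢ K).image (fun xy : G × G => xy.1 * xy.2), Complex.normSq (θ0 g) =
      ∑ xy ∈ Pf ×ˢ K, Complex.normSq (θ0 (xy.1 * xy.2)) := Finset.sum_image hinj
  have h2 : ∑ xy ∈ Pf ×ˢ K, Complex.normSq (θ0 (xy.1 * xy.2)) =
      (p : ℝ) * ∑ y ∈ K, Complex.normSq (θ0 y) := by
    rw [Finset.sum_product]
    have : ∀ x ∈ Pf, ∑ y ∈ K, Complex.normSq (θ0 (x * y)) = ∑ y ∈ K, Complex.normSq (θ0 y) := by
      intro x hx
      apply Finset.sum_congr rfl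
      intro y hy
      rw [hθ0, theta_mul_of_mem P hP θ hθP x ((hPf x).mp hx) y ((hK y).mp hy).1]
    rw [Finset.sum_congr rfl this, Finset.sum_const, hPfc, nsmul_eq_mul]
  have h3 : ∑ g ∈ (Pf ×ˢ K).image (fun xy : G × G => xy.1 * xy.2), Complex.normSq (θ0 g) ≤
      ∑ g : G, Complex.normSq (θ0 g) := by
    apply Finset.sum_le_sum_of_subset_of_nonneg (Finset.subset_univ _)
    intro g _ _
    exact Complex.normSq_nonneg _
  rw [← h2, ← h1]
  refine le_trans h3 ?_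
  rw [hθ0, sum_normSq_extend (Cz P) θ]

/-- KNORM : Cauchy-Schwarz for `thetaSum` on the `p`-regular part `K` of `C = P × K`:
`|K|⁻¹ ∑_{y∈K} |∑_{n ∈ T\N} θ^n(y)|² ≤ |N:T|²`. -/
theorem sum_normSq_thetaSum_le (P : Subgroup G) (hP : Nat.card P = p) (hSyl : ¬ p ∣ P.index)
    (θ : IrrCharacter (Cz P)) (hθP : PTriv P (θ : Cz P → ℂ)) (T : Subgroup G)
    (hT : IsInertia P (θ : Cz P → ℂ) T) :
    (p : ℝ) * ∑ᶠ y ∈ {y : G | y ∈ Cz P ∧ ¬ p ∣ orderOf y},
        Complex.normSq (thetaSum P (θ : Cz P → ℂ) T y) ≤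
      (T.relIndex (Nz P) : ℝ) ^ 2 * (Nat.card (Cz P) : ℝ) := by
  classical
  haveI : Fintype G := Fintype.ofFinite G
  haveI : Fintype ↥(Nz P) := Fintype.ofFinite _
  set θ0 : G → ℂ := extendByZero (Cz P) (θ : Cz P → ℂ) with hθ0
  let K : Finset G := Finset.univ.filter (fun y : G => y ∈ Cz P ∧ ¬ p ∣ orderOf y)
  have hK : ∀ y, y ∈ K ↔ (y ∈ Cz P ∧ ¬ p ∣ orderOf y) := by intro y; simp [K]
  have hset : {y : G | y ∈ Cz P ∧ ¬ p ∣ orderOf y} = (K : Set G) := by ext y; simp [K]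
  rw [hset, finsum_mem_coe_finset]
  have hTN : T ≤ Nz P := fun g hg => ((hT g).mp hg).1
  obtain ⟨cT, hcT⟩ : ∃ cT : ℝ, cT = (Nat.card T : ℝ) := ⟨_, rfl⟩
  obtain ⟨cN, hcN⟩ : ∃ cN : ℝ, cN = (Nat.card (Nz P) : ℝ) := ⟨_, rfl⟩
  have hcTpos : 0 < cT := by rw [hcT]; exact_mod_cast Nat.card_pos
  have hrel : (T.relIndex (Nz P) : ℝ) * cT = cN := by
    have h := Subgroup.relIndex_mul_relIndex (⊥ : Subgroup G) T (Nz P) bot_le hTN
    rw [Subgroup.relIndex_bot_left, Subgroup.relIndex_bot_left] at h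
    rw [hcT, hcN, ← h]
    push_cast
    ring
  obtain ⟨S, hS⟩ : ∃ S : ℝ, S = ∑ y ∈ K, Complex.normSq (θ0 y) := ⟨_, rfl⟩
  have hS0 : 0 ≤ S := by
    rw [hS]; exact Finset.sum_nonneg (fun _ _ => Complex.normSq_nonneg _)
  have hpS : (p : ℝ) * S ≤ (Nat.card (Cz P) : ℝ) := by
    rw [hS]; exact card_mul_sum_le P hP θ hθP K hK
  -- conjugation by `n ∈ N` permutes `K`
  have hconjK : ∀ n : ↥(Nz P), ∀ y ∈ K, (n : G) * y * (n : G)⁻¹ ∈ K := by
    intro n y hy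
    rw [hK] at hy ⊢
    refine ⟨conj_mem_Cz P n.2 hy.1, ?_⟩
    have : orderOf ((n : G) * y * (n : G)⁻¹) = orderOf y := by
      have := orderOf_injective (MulAut.conj (n : G)).toMonoidHom (MulAut.conj (n : G)).injective y
      simpa [MulAut.conj_apply] using this
    rw [this]; exact hy.2
  have hperm : ∀ n : ↥(Nz P), ∑ y ∈ K, Complex.normSq (θ0 ((n : G) * y * (n : G)⁻¹)) = S := by
    intro n
    rw [hS]
    apply Finset.sum_nbij' (fun y => (n : G) * y * (n : G)⁻¹) (fun y => (n : G)⁻¹ * y * (n : G))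
    · intro y hy; exact hconjK n y hy
    · intro y hy
      have := hconjK (n⁻¹) y hy
      simpa using this
    · intro y _; group
    · intro y _; group
    · intro y _; rfl
  -- pointwise Cauchy-Schwarz
  have hpt : ∀ y : G, Complex.normSq (thetaSum P (θ : Cz P → ℂ) T y) ≤
      cT⁻¹ ^ 2 * (cN * ∑ n : ↥(Nz P), Complex.normSq (θ0 ((n : G) * y * (n : G)⁻¹))) := by
    intro y
    unfold thetaSum
    rw [finsum_eq_sum_of_fintype, map_mul, Complex.normSq_inv, Complex.normSq_natCast, ← hcT]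
    have h1 : (cT * cT)⁻¹ = cT⁻¹ ^ 2 := by rw [pow_two, mul_inv]
    rw [h1]
    apply mul_le_mul_of_nonneg_left _ (by positivity)
    rw [Complex.normSq_eq_norm_sq]
    have h2 : ‖∑ n : ↥(Nz P), θ0 ((n : G) * y * (n : G)⁻¹)‖ ≤
        ∑ n : ↥(Nz P), ‖θ0 ((n : G) * y * (n : G)⁻¹)‖ := norm_sum_le _ _
    have h3 : (∑ n : ↥(Nz P), ‖θ0 ((n : G) * y * (n : G)⁻¹)‖) ^ 2 ≤
        (Finset.univ : Finset ↥(Nz P)).card * ∑ n : ↥(Nz P), ‖θ0 ((n : G) * y * (n : G)⁻¹)‖ ^ 2 :=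
      sq_sum_le_card_mul_sum_sq
    have h4 : ((Finset.univ : Finset ↥(Nz P)).card : ℝ) = cN := by
      rw [hcN, Finset.card_univ, Nat.card_eq_fintype_card]
    rw [h4] at h3
    calc ‖∑ n : ↥(Nz P), θ0 ((n : G) * y * (n : G)⁻¹)‖ ^ 2
        ≤ (∑ n : ↥(Nz P), ‖θ0 ((n : G) * y * (n : G)⁻¹)‖) ^ 2 := by
          apply pow_le_pow_left₀ (norm_nonneg _) h2
      _ ≤ cN * ∑ n : ↥(Nz P), ‖θ0 ((n : G) * y * (n : G)⁻¹)‖ ^ 2 := h3
      _ = cN * ∑ n : ↥(Nz P), Complex.normSq (θ0 ((n : G) * y * (n : G)⁻¹)) := by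
          congr 1
          apply Finset.sum_congr rfl
          intro n _
          rw [Complex.normSq_eq_norm_sq]
  have hsum : ∑ y ∈ K, Complex.normSq (thetaSum P (θ : Cz P → ℂ) T y) ≤ cT⁻¹ ^ 2 * (cN * (cN * S)) := by
    calc ∑ y ∈ K, Complex.normSq (thetaSum P (θ : Cz P → ℂ) T y)
        ≤ ∑ y ∈ K, cT⁻¹ ^ 2 * (cN * ∑ n : ↥(Nz P), Complex.normSq (θ0 ((n : G) * y * (n : G)⁻¹))) :=
          Finset.sum_le_sum (fun y _ => hpt y)
      _ = cT⁻¹ ^ 2 * (cN * ∑ y ∈ K, ∑ n : ↥(Nz P), Complex.normSq (θ0 ((n : G) * y * (n : G)⁻¹))) := by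
          rw [← Finset.mul_sum, ← Finset.mul_sum]
      _ = cT⁻¹ ^ 2 * (cN * ∑ n : ↥(Nz P), ∑ y ∈ K, Complex.normSq (θ0 ((n : G) * y * (n : G)⁻¹))) := by
          rw [Finset.sum_comm]
      _ = cT⁻¹ ^ 2 * (cN * (cN * S)) := by
          rw [Finset.sum_congr rfl (fun n _ => hperm n), Finset.sum_const, nsmul_eq_mul]
          congr 3
          rw [hcN, Finset.card_univ, Nat.card_eq_fintype_card]
  have hrel2 : cT⁻¹ ^ 2 * (cN * cN) = (T.relIndex (Nz P) : ℝ) ^ 2 := by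
    rw [← hrel]
    field_simp
  calc (p : ℝ) * ∑ y ∈ K, Complex.normSq (thetaSum P (θ : Cz P → ℂ) T y)
      ≤ (p : ℝ) * (cT⁻¹ ^ 2 * (cN * (cN * S))) :=
        mul_le_mul_of_nonneg_left hsum (Nat.cast_nonneg _)
    _ = (cT⁻¹ ^ 2 * (cN * cN)) * ((p : ℝ) * S) := by ring
    _ = (T.relIndex (Nz P) : ℝ) ^ 2 * ((p : ℝ) * S) := by rw [hrel2]
    _ ≤ (T.relIndex (Nz P) : ℝ) ^ 2 * (Nat.card (Cz P) : ℝ) :=
        mul_le_mul_of_nonneg_left hpS (by positivity)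

end Cfsg.Agent.Lib.Helper4.BREKNORM
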