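import Mathlib
import Cfsg.Prelude.Def_Transfer
import Cfsg.Prelude.Def_Solvable
import Cfsg.Prelude.Def_Local
import Cfsg.Agent.Lib.Helper13.R3Defs

/-! S4404 leaf PAIR (helper4): `fix_of_disjoint_of` (over RED and DICH given as hypotheses). -/

set_option autoImplicit false

namespace Cfsg.Agent.Lib.Helper4.R3PAIR

open Pointwise Cfsg.Agent.Lib.Helper13.R3

section cards

variable {M : Type*} [CommGroup M]

theorem card_sup_mul_card_inf (A B : Subgroup M) :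
    Nat.card ↥(A ⊔ B) * Nat.card ↥(A ⊓ B) = Nat.card A * Nat.card B := by
  have h1 : Nat.card ↥(A ⊔ B) = Nat.card B * B.relIndex A := by
    rw [← Subgroup.relIndex_bot_left (H := A ⊔ B),
      ← Subgroup.relIndex_mul_relIndex ⊥ B (A ⊔ B) bot_le le_sup_right, Subgroup.relIndex_bot_left,
      Subgroup.relIndex_sup_right]
  have h2 : Nat.card A = Nat.card ↥(A ⊓ B) * B.relIndex A := by
    rw [← Subgroup.relIndex_bot_left (H := A),
      ← Subgroup.relIndex_mul_relIndex ⊥ (A ⊓ B) A bot_le inf_le_left, Subgroup.relIndex_bot_left,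
      Subgroup.inf_relIndex_left]
  rw [h1, h2]
  ring

/-- a subgroup of order 4 meeting `B` nontrivially and not contained in `B` meets it in order 2 -/
theorem card_inf_eq_two [Finite M] (A B : Subgroup M) (hA : Nat.card A = 4) (hne : A ⊓ B ≠ ⊥)
    (hnle : ¬ A ≤ B) : Nat.card ↥(A ⊓ B) = 2 := by
  have hdvd : Nat.card ↥(A ⊓ B) ∣ 4 := hA ▸ Subgroup.card_dvd_of_le inf_le_left
  have hle : Nat.card ↥(A ⊓ B) ≤ 4 := Nat.le_of_dvd (by norm_num) hdvd
  have h1 : Nat.card ↥(A ⊓ B) ≠ 1 := fun h => hne (Subgroup.card_eq_one.mp h)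
  have h4 : Nat.card ↥(A ⊓ B) ≠ 4 := by
    intro h
    apply hnle
    have : A ⊓ B = A := Subgroup.eq_of_le_of_card_ge inf_le_left (by rw [h, hA])
    exact this ▸ inf_le_right
  have h0 : Nat.card ↥(A ⊓ B) ≠ 0 := Nat.card_pos.ne'
  interval_cases h : Nat.card ↥(A ⊓ B) <;> simp_all

end cards

section pair

variable {H : Type*} [Group H] {M : Type*} [CommGroup M] [Finite M] [MulDistribMulAction H M]

/-- PAIR over RED and DICH -/
theorem fix_of_disjoint_of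
    (hRED : ∀ S : Set H, (∀ y ∈ S, IsRoot M y) → Nat.card ↥(⨆ y ∈ S, cSub M y) = 16 →
      ∃ U U' : Subgroup M, U ≠ ⊥ ∧ U' ≠ ⊥ ∧ U ⊓ U' = ⊥ ∧ U ⊔ U' = ⨆ y ∈ S, cSub M y ∧
        (∀ y ∈ S, ∀ u ∈ U, y • u ∈ U) ∧ (∀ y ∈ S, ∀ u ∈ U', y • u ∈ U'))
    (hDICH : ∀ y : H, IsRoot M y → ∀ U U' : Subgroup M, U ⊓ U' = ⊥ →
      (∀ u ∈ U, y • u ∈ U) → (∀ u ∈ U', y • u ∈ U') → cSub M y ≤ U ⊔ U' →
      (cSub M y ≤ U ∧ ∀ u ∈ U', y • u = u) ∨ (cSub M y ≤ U' ∧ ∀ u ∈ U, y • u = u))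
    (y y' : H) (hy : IsRoot M y) (hy' : IsRoot M y') (hd : cSub M y ⊓ cSub M y' = ⊥) :
    ∀ m ∈ cSub M y', y • m = m := by
  have hsup : (⨆ z ∈ ({y, y'} : Set H), cSub M z) = cSub M y ⊔ cSub M y' := by
    rw [iSup_insert, iSup_singleton]
  have hcard : Nat.card ↥(⨆ z ∈ ({y, y'} : Set H), cSub M z) = 16 := by
    rw [hsup]
    have h := card_sup_mul_card_inf (cSub M y) (cSub M y')
    rw [hd, hy.2, hy'.2, Subgroup.card_bot, mul_one] at h
    exact h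
  have hroots : ∀ z ∈ ({y, y'} : Set H), IsRoot M z := by
    rintro z (rfl | rfl)
    · exact hy
    · exact hy'
  obtain ⟨U, U', hU, hU', hUU', hsupU, hinvU, hinvU'⟩ := hRED {y, y'} hroots hcard
  rw [hsup] at hsupU
  have hymem : y ∈ ({y, y'} : Set H) := Set.mem_insert _ _
  have hy'mem : y' ∈ ({y, y'} : Set H) := Set.mem_insert_of_mem _ rfl
  have hP : cSub M y ≤ U ⊔ U' := hsupU ▸ le_sup_left
  have hP' : cSub M y' ≤ U ⊔ U' := hsupU ▸ le_sup_right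
  rcases hDICH y hy U U' hUU' (hinvU y hymem) (hinvU' y hymem) hP with ⟨h1, hf1⟩ | ⟨h1, hf1⟩ <;>
    rcases hDICH y' hy' U U' hUU' (hinvU y' hy'mem) (hinvU' y' hy'mem) hP' with ⟨h2, hf2⟩ | ⟨h2, hf2⟩
  · exfalso
    apply hU'
    have hle : U' ≤ U := le_trans le_sup_right (hsupU ▸ sup_le h1 h2)
    rw [eq_bot_iff, ← hUU']
    exact le_inf hle le_rfl
  · intro m hm
    exact hf1 m (h2 hm)
  · intro m hm
    exact hf1 m (h2 hm)
  · exfalso
    apply hU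
    have hle : U ≤ U' := le_trans le_sup_left (hsupU ▸ sup_le h1 h2)
    rw [eq_bot_iff, ← hUU']
    exact le_inf le_rfl hle

end pair

end Cfsg.Agent.Lib.Helper4.R3PAIR
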