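/-
helper4: S2282, base case n = 3, common endgame in the antidiagonal model `UJ σ 3` (helper16 FusSU):
if a subgroup `X ≤ UJ σ 3` contains the full root group of `e`, and the root groups of two points
`P a₁ *`, `P a₂ *` (`a₁ ≠ a₂`) then it contains every unitary transvection (helper5's line closure).
General part (any `n`): `hJ`, `TJm`, conjugation of transvections.
-/
import Mathlib
import Cfsg.Agent.Lib.Helper16.FusSUA

set_option autoImplicit false

namespace Cfsg.Agent.Lib.Helper4.SU3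

open Matrix Cfsg.Agent.Lib.Helper16.FusSU

variable {K : Type*} [Field K] {n : ℕ} (σ : K →+* K)

/-- the hermitian form of the antidiagonal model -/
def hJ (x y : Fin n → K) : K := x ⬝ᵥ sh σ y

/-- the matrix of the unitary transvection `x ↦ x + c h(x,v) v` -/
def TJm (v : Fin n → K) (c : K) : Matrix (Fin n) (Fin n) K := 1 + c • vecMulVec v (sh σ v)

theorem TJm_mulVec (v x : Fin n → K) (c : K) : TJm σ v c *ᵥ x = x + (c * hJ σ x v) • v := by
  unfold TJm hJ
  rw [Matrix.add_mulVec, Matrix.one_mulVec, Matrix.smul_mulVec, Matrix.vecMulVec_mulVec,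
    dotProduct_comm]
  congr 1
  ext i
  simp only [Pi.smul_apply, smul_eq_mul, MulOpposite.smul_eq_mul_unop, MulOpposite.unop_op]
  ring

theorem TJm_zero (c : K) : TJm σ (0 : Fin n → K) c = 1 := by
  unfold TJm
  rw [zero_vecMulVec, smul_zero, add_zero]

theorem TJm_smul (l : K) (v : Fin n → K) (c : K) :
    TJm σ (l • v) c = TJm σ v (l * σ l * c) := by
  unfold TJm
  rw [sh_smul, smul_vecMulVec, vecMulVec_smul, smul_smul, smul_smul]
  congr 2
  ring

variable {σ}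

theorem hJ_smul_left (l : K) (x y : Fin n → K) : hJ σ (l • x) y = l * hJ σ x y := by
  unfold hJ; rw [smul_dotProduct, smul_eq_mul]

theorem hJ_smul_right (l : K) (x y : Fin n → K) : hJ σ x (l • y) = σ l * hJ σ x y := by
  unfold hJ; rw [sh_smul, dotProduct_smul, smul_eq_mul]

theorem hJ_add_left (x x' y : Fin n → K) : hJ σ (x + x') y = hJ σ x y + hJ σ x' y := by
  unfold hJ; rw [add_dotProduct]

theorem hJ_add_right (x y y' : Fin n → K) : hJ σ x (y + y') = hJ σ x y + hJ σ x y' := by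
  unfold hJ; rw [sh_add, dotProduct_add]

theorem hJ_symm (hσ : ∀ x, σ (σ x) = x) (x y : Fin n → K) : σ (hJ σ x y) = hJ σ y x :=
  dot_sh_comm hσ x y

/-- elements of `UJ` preserve the form -/
theorem hJ_mulVec {g : SpecialLinearGroup (Fin n) K} (hg : g ∈ UJ σ n) (x y : Fin n → K) :
    hJ σ ((g : Matrix (Fin n) (Fin n) K) *ᵥ x) ((g : Matrix (Fin n) (Fin n) K) *ᵥ y) = hJ σ x y := by
  unfold hJ
  rw [← sh_vecMul_adj, dotProduct_comm, ← Matrix.dotProduct_mulVec, Matrix.mulVec_mulVec,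
    UJ_adj_mul hg, Matrix.one_mulVec, dotProduct_comm]

/-- conjugation of a transvection by an element of `UJ` -/
theorem conj_TJm {g : SpecialLinearGroup (Fin n) K} (hg : g ∈ UJ σ n) (v : Fin n → K) (c : K) :
    (g : Matrix (Fin n) (Fin n) K) * TJm σ v c *
      ((g⁻¹ : SpecialLinearGroup (Fin n) K) : Matrix (Fin n) (Fin n) K) =
      TJm σ ((g : Matrix (Fin n) (Fin n) K) *ᵥ v) c := by
  rw [UJ_inv_coe hg]
  unfold TJm
  rw [Matrix.mul_add, Matrix.mul_one, Matrix.add_mul, mem_UJ.1 hg, Matrix.mul_smul,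
    Matrix.smul_mul, mul_vecMulVec, vecMulVec_mul, sh_vecMul_adj]

/-- the set of isotropic vectors whose full root group lies in `X` -/
def Rt (X : Subgroup (SpecialLinearGroup (Fin n) K)) : Set (Fin n → K) :=
  {v | hJ σ v v = 0 ∧ ∀ c : K, σ c = -c →
    ∃ t ∈ X, ((t : SpecialLinearGroup (Fin n) K) : Matrix (Fin n) (Fin n) K) = TJm σ v c}

variable {X : Subgroup (SpecialLinearGroup (Fin n) K)}

theorem Rt_ap (hX : X ≤ UJ σ n) {g : SpecialLinearGroup (Fin n) K} (hg : g ∈ X)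
    {v : Fin n → K} (hv : v ∈ Rt (σ := σ) X) :
    (g : Matrix (Fin n) (Fin n) K) *ᵥ v ∈ Rt (σ := σ) X := by
  refine ⟨?_, ?_⟩
  · rw [hJ_mulVec (hX hg)]; exact hv.1
  · intro c hc
    obtain ⟨t, ht, hte⟩ := hv.2 c hc
    refine ⟨g * t * g⁻¹, X.mul_mem (X.mul_mem hg ht) (X.inv_mem hg), ?_⟩
    rw [Matrix.SpecialLinearGroup.coe_mul, Matrix.SpecialLinearGroup.coe_mul, hte, conj_TJm (hX hg)]

theorem Rt_smul (hσ : ∀ x, σ (σ x) = x) (l : K) {v : Fin n → K} (hv : v ∈ Rt (σ := σ) X) :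
    l • v ∈ Rt (σ := σ) X := by
  refine ⟨?_, ?_⟩
  · rw [hJ_smul_left, hJ_smul_right, hv.1, mul_zero, mul_zero]
  · intro c hc
    have hc' : σ (l * σ l * c) = -(l * σ l * c) := by
      rw [map_mul, map_mul, hσ, hc]; ring
    obtain ⟨t, ht, hte⟩ := hv.2 _ hc'
    exact ⟨t, ht, by rw [hte, TJm_smul]⟩

/-- chord closure -/
theorem Rt_chord (hX : X ≤ UJ σ n) {v v' : Fin n → K} (hv : v ∈ Rt (σ := σ) X)
    (hv' : v' ∈ Rt (σ := σ) X) (c : K) (hc : σ c = -c) :
    v + (c * hJ σ v v') • v' ∈ Rt (σ := σ) X := by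
  obtain ⟨t, ht, hte⟩ := hv'.2 c hc
  have := Rt_ap hX ht hv
  rwa [hte, TJm_mulVec] at this

/-! ### `n = 3` -/

section three

variable {σ : K →+* K} {X : Subgroup (SpecialLinearGroup (Fin 3) K)}

theorem hJ_three (x y : Fin 3 → K) :
    hJ σ x y = x 0 * σ (y 2) + x 1 * σ (y 1) + x 2 * σ (y 0) := by
  unfold hJ dotProduct
  rw [Fin.sum_univ_three, sh_apply, sh_apply, sh_apply]
  rfl

/-- the point `⟨b e + σ a d + f⟩` -/
def Pt (σ : K →+* K) (a b : K) : Fin 3 → K := ![b, σ a, 1]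

/-- the vector `e` -/
def eV : Fin 3 → K := ![1, 0, 0]

theorem hJ_Pt_Pt (a b a' b' : K) (hσ : ∀ x, σ (σ x) = x) :
    hJ σ (Pt σ a b) (Pt σ a' b') = b + σ a * a' + σ b' := by
  rw [hJ_three]
  simp [Pt, hσ]

theorem hJ_Pt_eV (a b : K) : hJ σ (Pt σ a b) (eV : Fin 3 → K) = 1 := by
  rw [hJ_three]
  simp [Pt, eV]

/-- lines through `e` -/
theorem Pt_line (hσ : ∀ x, σ (σ x) = x) (hX : X ≤ UJ σ 3) (he : (eV : Fin 3 → K) ∈ Rt (σ := σ) X)
    {a b₀ : K} (h0 : Pt σ a b₀ ∈ Rt (σ := σ) X) (b : K) (hb : b + σ b + σ a * a = 0) :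
    Pt σ a b ∈ Rt (σ := σ) X := by
  have hb0 : b₀ + σ b₀ + σ a * a = 0 := by
    have := h0.1
    rw [hJ_Pt_Pt _ _ _ _ hσ] at this
    linear_combination this
  have hr : σ (b - b₀) = -(b - b₀) := by
    rw [map_sub]; linear_combination hb - hb0
  have := Rt_chord hX h0 he (b - b₀) hr
  rw [hJ_Pt_eV, mul_one] at this
  have e : Pt σ a b₀ + (b - b₀) • (eV : Fin 3 → K) = Pt σ a b := by
    ext i; fin_cases i <;> simp [Pt, eV]
  rwa [e] at this

/-- the line through two points with different parameters -/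
theorem Pt_affine (hσ : ∀ x, σ (σ x) = x) (hX : X ≤ UJ σ 3)
    (he : (eV : Fin 3 → K) ∈ Rt (σ := σ) X)
    {a b₀ a' b' : K} (h0 : Pt σ a b₀ ∈ Rt (σ := σ) X) (h1 : Pt σ a' b' ∈ Rt (σ := σ) X)
    (haa : a ≠ a') (z : K) (hz : σ z ≠ z) :
    ∃ b'', Pt σ (a + z * (a' - a)) b'' ∈ Rt (σ := σ) X := by
  have hb0 : b₀ + σ b₀ + σ a * a = 0 := by
    have := h0.1
    rw [hJ_Pt_Pt _ _ _ _ hσ] at this
    linear_combination this
  have hb' : b' + σ b' + σ a' * a' = 0 := by
    have := h1.1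
    rw [hJ_Pt_Pt _ _ _ _ hσ] at this
    linear_combination this
  have hz1 : 1 - z ≠ 0 := by
    intro h
    apply hz
    have : z = 1 := by linear_combination -h
    rw [this, map_one]
  have hz1' : 1 - σ z ≠ 0 := by
    intro h
    apply hz
    have h' : σ z = 1 := by linear_combination -h
    have := congrArg σ h'
    rw [hσ, map_one] at this
    rw [this, map_one]
  set y₀ := σ z / (1 - σ z) with hy
  have hsy : σ y₀ = z / (1 - z) := by
    rw [hy, map_div₀, map_sub, map_one, hσ]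
  set η₀ := b₀ + σ a * a' + σ b' with hη
  have hsη : σ η₀ = σ b₀ + a * σ a' + b' := by
    rw [hη, map_add, map_add, map_mul, hσ, hσ]
  set D := η₀ + σ η₀ with hD
  have hDv : D = -((a - a') * (σ a - σ a')) := by
    rw [hD, hsη, hη]; linear_combination hb0 + hb'
  have hD0 : D ≠ 0 := by
    rw [hDv, neg_ne_zero]
    apply mul_ne_zero (sub_ne_zero.2 haa)
    intro h
    apply haa
    have := congrArg σ (sub_eq_zero.1 h)
    rwa [hσ, hσ] at this
  have hsD : σ D = D := by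
    rw [hD, map_add, hσ]; ring
  have hyy : y₀ - σ y₀ ≠ 0 := by
    rw [hsy, hy]
    intro h
    apply hz
    field_simp at h
    linear_combination h
  set c := (y₀ - σ y₀) / D with hc
  have hc0 : c ≠ 0 := div_ne_zero hyy hD0
  have hsc : σ c = -c := by
    rw [hc, map_div₀, map_sub, hσ, hsD]; ring
  set r := y₀ / c - η₀ with hr
  have key : y₀ - σ y₀ = c * D := by
    rw [hc]; field_simp
  have hsr : σ r = -r := by
    have h2 : σ η₀ = D - η₀ := by rw [hD]; ring
    have e' : y₀ / c - σ y₀ / c = D := by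
      rw [← sub_div, key]; field_simp
    rw [hr, map_sub, map_div₀, hsc, h2, div_neg]
    linear_combination e'
  have hb : (b₀ + r) + σ (b₀ + r) + σ a * a = 0 := by
    rw [map_add, hsr]; linear_combination hb0
  have h0' := Pt_line hσ hX he h0 (b₀ + r) hb
  have hch := Rt_chord hX h0' h1 c hsc
  rw [hJ_Pt_Pt _ _ _ _ hσ] at hch
  have hcη : c * (b₀ + r + σ a * a' + σ b') = y₀ := by
    have : b₀ + r + σ a * a' + σ b' = y₀ / c := by rw [hr, hη]; ring
    rw [this]; field_simp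
  rw [hcη] at hch
  have h1y : 1 + y₀ ≠ 0 := by
    rw [hy]
    intro h
    field_simp at h
    simp at h
  have hsm := Rt_smul hσ (1 + y₀)⁻¹ hch
  refine ⟨(1 + y₀)⁻¹ * (b₀ + r + y₀ * b'), ?_⟩
  have e : (1 + y₀)⁻¹ • (Pt σ a (b₀ + r) + y₀ • Pt σ a' b') =
      Pt σ (a + z * (a' - a)) ((1 + y₀)⁻¹ * (b₀ + r + y₀ * b')) := by
    have e1 : (1 + y₀)⁻¹ * (σ a + y₀ * σ a') = σ (a + z * (a' - a)) := by
      rw [map_add, map_mul, map_sub, hy]
      field_simp
      ring
    have e2 : (1 + y₀)⁻¹ * (1 + y₀ * 1) = 1 := by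
      rw [mul_one]; field_simp
    ext i
    fin_cases i
    · simp [Pt]
    · simpa [Pt] using e1
    · simpa [Pt] using e2
  rwa [e] at hsm

/-- all parameters occur -/
theorem Pt_all (hσ : ∀ x, σ (σ x) = x) (hX : X ≤ UJ σ 3) (hne : ∃ z, σ z ≠ z)
    (he : (eV : Fin 3 → K) ∈ Rt (σ := σ) X)
    {a₁ b₁ a₂ b₂ : K} (h1 : Pt σ a₁ b₁ ∈ Rt (σ := σ) X) (h2 : Pt σ a₂ b₂ ∈ Rt (σ := σ) X)
    (h12 : a₁ ≠ a₂) (a : K) : ∃ b, Pt σ a b ∈ Rt (σ := σ) X := by
  have hd : a₂ - a₁ ≠ 0 := sub_ne_zero.2 (Ne.symm h12)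
  set z := (a - a₁) / (a₂ - a₁) with hz
  have ha : a = a₁ + z * (a₂ - a₁) := by rw [hz]; field_simp; ring
  by_cases hzz : σ z = z
  · obtain ⟨z₁, hz₁⟩ := hne
    have hz10 : z₁ ≠ 0 := by
      rintro rfl
      exact hz₁ (map_zero σ)
    obtain ⟨b₃, h3⟩ := Pt_affine hσ hX he h1 h2 h12 z₁ hz₁
    by_cases hz0 : z = 0
    · exact ⟨b₁, by rw [ha, hz0, zero_mul, add_zero]; exact h1⟩
    · have h13 : a₁ ≠ a₁ + z₁ * (a₂ - a₁) := by
        intro h
        have : z₁ * (a₂ - a₁) = 0 := by linear_combination -h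
        rcases mul_eq_zero.1 this with h | h
        · exact hz10 h
        · exact hd h
      have hzz' : σ (z / z₁) ≠ z / z₁ := by
        rw [map_div₀, hzz]
        intro h
        apply hz₁
        have hs0 : σ z₁ ≠ 0 := by
          intro h0
          have := congrArg σ h0
          rw [hσ, map_zero] at this
          exact hz10 this
        have h' := (div_eq_div_iff hs0 hz10).1 h
        exact (mul_left_cancel₀ hz0 h').symm
      obtain ⟨b, hb⟩ := Pt_affine hσ hX he h1 h3 h13 (z / z₁) hzz'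
      refine ⟨b, ?_⟩
      have : a = a₁ + z / z₁ * (a₁ + z₁ * (a₂ - a₁) - a₁) := by
        rw [ha]; field_simp; ring
      rw [this]; exact hb
  · obtain ⟨b, hb⟩ := Pt_affine hσ hX he h1 h2 h12 z hzz
    exact ⟨b, by rw [ha]; exact hb⟩

/-- **the endgame for `n = 3`**: every isotropic vector has its full root group in `X` -/
theorem endgame3 (hσ : ∀ x, σ (σ x) = x) (hX : X ≤ UJ σ 3) (hne : ∃ z, σ z ≠ z)
    (he : (eV : Fin 3 → K) ∈ Rt (σ := σ) X)
    {a₁ b₁ a₂ b₂ : K} (h1 : Pt σ a₁ b₁ ∈ Rt (σ := σ) X) (h2 : Pt σ a₂ b₂ ∈ Rt (σ := σ) X)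
    (h12 : a₁ ≠ a₂) (v : Fin 3 → K) (hv : hJ σ v v = 0) : v ∈ Rt (σ := σ) X := by
  rw [hJ_three] at hv
  by_cases h2' : v 2 = 0
  · rw [h2', map_zero, mul_zero, zero_mul, zero_add, add_zero] at hv
    have h1' : v 1 = 0 := by
      rcases mul_eq_zero.1 hv with h | h
      · exact h
      · have := congrArg σ h
        rwa [hσ, map_zero] at this
    have : v = v 0 • (eV : Fin 3 → K) := by
      ext i; fin_cases i <;> simp [eV, h1', h2']
    rw [this]
    exact Rt_smul hσ _ he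
  · obtain ⟨b₀, hb₀⟩ := Pt_all hσ hX hne he h1 h2 h12 (σ (v 1 / v 2))
    have hs2 : σ (v 2) ≠ 0 := by
      intro h
      have := congrArg σ h
      rw [hσ, map_zero] at this
      exact h2' this
    have hb : v 0 / v 2 + σ (v 0 / v 2) + σ (σ (v 1 / v 2)) * σ (v 1 / v 2) = 0 := by
      rw [hσ, map_div₀, map_div₀]
      field_simp
      linear_combination hv
    have := Pt_line hσ hX he hb₀ (v 0 / v 2) hb
    have e : v = v 2 • Pt σ (σ (v 1 / v 2)) (v 0 / v 2) := by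
      ext i
      fin_cases i
      · simp [Pt]; field_simp
      · simp [Pt, hσ]; field_simp
      · simp [Pt]
    rw [e]
    exact Rt_smul hσ _ this

end three

end Cfsg.Agent.Lib.Helper4.SU3
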