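import Mathlib
import Cfsg.Agent.Lib.Helper8.TWS2ADefs
import Cfsg.Agent.Lib.Helper9.TWST
import Cfsg.Agent.Lib.Helper24.TWU2AL1

/-!
# S5668 (C7 symplectic) — STAGE II, CASE A: leaf L1 `structureS` (helper4)

`u ∈ GSV`, `(u-1)V ≤ W(i,y)`, `u = 1` on `W(i,y)`  ⟹  `u - 1` has weight `N_y = y y†` at position `i`.
Port of `Helper24.TWU2ALeaf.structure_u` (the column relation is form-free and reused).
-/

set_option autoImplicit false
set_option linter.unusedSectionVars false
set_option linter.unusedVariables false

namespace Cfsg.Agent.Lib.Helper4.TWS2A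
open Matrix Cfsg.Geo Cfsg.Agent.Lib.Helper18.AschA89 Cfsg.Agent.Lib.Helper8.TW
open Cfsg.Agent.Lib.Helper5.TWS Cfsg.Agent.Lib.Helper28.TWU2A Cfsg.Agent.Lib.Helper8.TWS2A
open Cfsg.Agent.Lib.Helper25.SpT (sf sfv)
open Cfsg.Agent.Lib.Helper29.TWSOne
open Cfsg.Agent.Lib.Helper9.TWST

variable {F : Type*} [Field F] {t k : ℕ}

/-- `u ∈ GSV` with `(u-1)V ≤ W`, `u = 1` on `W` (a fibre) fixes `W^⊥` pointwise -/
theorem fix_perp (hk : Even k) (i : Fin t) (y : Fin k → F) (hy0 : y ≠ 0)
    (u : GL (Idx t k) F) (huG : u ∈ GSV t k F) (hu1 : ∀ v, mv u v - v ∈ Wf i y)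
    (v : Idx t k → F) (hv : v ∈ perpT (Wf i y)) : mv u v = v := by
  have key : mv u v - v = 0 := by
    apply sfT_nondeg_left hk
    intro w'
    have h1 := (mem_GSV.1 huG) v w'
    have e1 : mv u v = v + (mv u v - v) := by abel
    have e2 : mv u w' = w' + (mv u w' - w') := by abel
    rw [e1, e2, sfT_add_left, sfT_add_right, sfT_add_right] at h1
    have h2 : sfT v (mv u w' - w') = 0 := (mem_perpT.1 hv) _ (hu1 w')
    have h3 : sfT (mv u v - v) (mv u w' - w') = 0 := TIT_Wf hk i y hy0 _ (hu1 v) _ (hu1 w')
    rw [h2, h3] at h1
    linear_combination h1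
  exact sub_eq_zero.1 key

/-- the row relation -/
theorem structure_rowS (hk : Even k) (i : Fin t) (y : Fin k → F) (hy0 : y ≠ 0)
    (u : GL (Idx t k) F) (huG : u ∈ GSV t k F) (hu1 : ∀ v, mv u v - v ∈ Wf i y)
    (x x' : Idx t k) (b d : Fin k) :
    ((u : Matrix (Idx t k) (Idx t k) F) - 1) x (Function.update x' i b) * sfv y d =
      ((u : Matrix (Idx t k) (Idx t k) F) - 1) x (Function.update x' i d) * sfv y b := by
  classical
  set v : Idx t k → F := sfv y d • Pi.single (Function.update x' i b) (1 : F) -
    sfv y b • Pi.single (Function.update x' i d) (1 : F) with hv'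
  have hvperp : v ∈ perpT (Wf i y) := by
    rw [perpT_Wf hk i y hy0]
    intro z
    change sfv y ⬝ᵥ slice i z v = 0
    unfold slice
    rw [hv']
    simp only [Pi.sub_apply, Pi.smul_apply, smul_eq_mul, Pi.single_apply]
    by_cases hz : ∀ j, j ≠ i → z j = x' j
    · have e1 : ∀ a : Fin k, (Function.update z i a = Function.update x' i b) ↔ a = b := by
        intro a
        constructor
        · intro h
          have := congrFun h i
          rwa [Function.update_self, Function.update_self] at this
        · rintro rfl
          funext j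
          by_cases hj : j = i
          · subst hj; rw [Function.update_self, Function.update_self]
          · rw [Function.update_of_ne hj, Function.update_of_ne hj, hz j hj]
      have e2 : ∀ a : Fin k, (Function.update z i a = Function.update x' i d) ↔ a = d := by
        intro a
        constructor
        · intro h
          have := congrFun h i
          rwa [Function.update_self, Function.update_self] at this
        · rintro rfl
          funext j
          by_cases hj : j = i
          · subst hj; rw [Function.update_self, Function.update_self]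
          · rw [Function.update_of_ne hj, Function.update_of_ne hj, hz j hj]
      simp only [e1, e2, dotProduct]
      simp only [mul_sub, Finset.sum_sub_distrib, mul_ite, mul_one, mul_zero, Finset.sum_ite_eq',
        Finset.mem_univ, if_true]
      ring
    · have e1 : ∀ a : Fin k, ¬ (Function.update z i a = Function.update x' i b) := by
        intro a h
        apply hz
        intro j hj
        have := congrFun h j
        rwa [Function.update_of_ne hj, Function.update_of_ne hj] at this
      have e2 : ∀ a : Fin k, ¬ (Function.update z i a = Function.update x' i d) := by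
        intro a h
        apply hz
        intro j hj
        have := congrFun h j
        rwa [Function.update_of_ne hj, Function.update_of_ne hj] at this
      simp only [e1, e2, if_false, mul_zero, sub_zero, dotProduct, Finset.sum_const_zero]
  have h1 := fix_perp hk i y hy0 u huG hu1 v hvperp
  have h2 : ((u : Matrix (Idx t k) (Idx t k) F) - 1) *ᵥ v = 0 := by
    rw [Matrix.sub_mulVec, Matrix.one_mulVec]
    unfold mv at h1
    rw [h1, sub_self]
  have h3 := congrFun h2 x
  rw [hv', Matrix.mulVec_sub, Matrix.mulVec_smul, Matrix.mulVec_smul, Matrix.mulVec_single_one,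
    Matrix.mulVec_single_one] at h3
  simp only [Pi.sub_apply, Pi.smul_apply, Matrix.col_apply, smul_eq_mul, Pi.zero_apply] at h3
  have h4 := sub_eq_zero.mp h3
  rw [mul_comm, h4, mul_comm]

/-- **L1** the structure of `u`: `u - 1` has weight `N_y = y y†` at position `i` -/
theorem structureS [Fintype F] (hk : Even k) (i : Fin t) (y : Fin k → F) (hy0 : y ≠ 0)
    (u : GL (Idx t k) F) (huG : u ∈ GSV t k F) (hu1 : ∀ v, mv u v - v ∈ Wf i y)
    (hu2 : ∀ v ∈ Wf i y, mv u v = v) :
    WForm i (Nz y) ((u : Matrix (Idx t k) (Idx t k) F) - 1) := by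
  intro p p' a b
  have e : ∀ c d : Fin k, (Nz y : Matrix (Fin k) (Fin k) F) c d = y c * sfv y d := by
    intro c d; rfl
  rw [e, e]
  have hc := Cfsg.Agent.Lib.Helper24.TWU2ALeaf.structure_col i y u hu1 p (Function.update p' i b) a (p i)
  rw [Function.update_eq_self] at hc
  have hr := structure_rowS hk i y hy0 u huG hu1 p p' b (p' i)
  rw [Function.update_eq_self] at hr
  calc ((u : Matrix (Idx t k) (Idx t k) F) - 1) (Function.update p i a) (Function.update p' i b) * (y (p i) * sfv y (p' i))
      = (((u : Matrix (Idx t k) (Idx t k) F) - 1) (Function.update p i a) (Function.update p' i b) * y (p i)) * sfv y (p' i) := by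
        ring
    _ = (((u : Matrix (Idx t k) (Idx t k) F) - 1) p (Function.update p' i b) * sfv y (p' i)) * y a := by rw [hc]; ring
    _ = _ := by rw [hr]; ring

end Cfsg.Agent.Lib.Helper4.TWS2A
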