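/-
helper4: leaf BRVI-B0SUB of the S4504 (VI) market (helper23, notes/S4504_VI_leaves.lean).
The principal block `X ∪ Y` lies over the trivial character of the centre.
-/
import Mathlib
import Cfsg.Prelude.Def_BlockRank
import Cfsg.Agent.Lib.Helper6.BRHDefs
import Cfsg.Agent.Lib.Helper23.BRVIDefs
import Cfsg.Agent.Lib.Helper6.DefectOrder

set_option autoImplicit false

namespace Cfsg.Agent.Lib.Helper4.BRVIB0SUB

open Cfsg Cfsg.Agent.Lib.Helper8.DOM Cfsg.Agent.Lib.Helper27.DO Cfsg.Agent.CharLib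
open Cfsg.Agent.Lib.Helper6.BRH Cfsg.Agent.Lib.Helper23.BRVI
open scoped ComplexConjugate

universe u

variable {G : Type u} [Group G] [Finite G] {p : ℕ} [Fact p.Prime]

/-- a central element acts on an irreducible character by the scalar `χ(z) / χ(1)` -/
theorem mul_central (χ : IrrCharacter G) (z : G) (hz : z ∈ Subgroup.center G) (u : G) :
    (χ : G → ℂ) (u * z) * (χ : G → ℂ) 1 = (χ : G → ℂ) z * (χ : G → ℂ) u := by
  classical
  letI : Fintype G := Fintype.ofFinite G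
  have hcomm : ∀ h : G, h * z = z * h := fun h => Subgroup.mem_center_iff.mp hz h
  have h1 := Cfsg.Agent.Lib.Helper6.irr_mul_central χ z hcomm u
  have hcent : Subgroup.centralizer ({z} : Set G) = ⊤ := by
    rw [eq_top_iff]
    intro g _
    rw [Subgroup.mem_centralizer_iff]
    intro y hy
    rw [Set.mem_singleton_iff] at hy
    subst hy
    exact (hcomm g).symm
  have h10 : (χ : G → ℂ) 1 ≠ 0 := by
    rw [apply_one_eq]
    exact Nat.cast_ne_zero.mpr (charDegree_pos χ).ne'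
  unfold centralChar at h1
  rw [hcent, Subgroup.index_top, Nat.cast_one, one_mul] at h1
  rw [h1]
  field_simp

omit [Finite G] [Fact p.Prime] in
/-- `x0 z` is `p`-singular when `x0` has order `p` and `z` is a central `p`-regular element -/
theorem singular_mul (hpp : p.Prime) (x0 z : G) (hx0 : orderOf x0 = p) (hz : z ∈ Subgroup.center G)
    (hzreg : ¬ p ∣ orderOf z) : p ∣ orderOf (x0 * z) := by
  by_contra hnd
  have hcomm : Commute x0 z := Subgroup.mem_center_iff.mp hz x0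
  have h1 : (x0 * z) ^ (orderOf (x0 * z) * orderOf z) = 1 := by
    rw [pow_mul, pow_orderOf_eq_one, one_pow]
  rw [hcomm.mul_pow] at h1
  have h2 : z ^ (orderOf (x0 * z) * orderOf z) = 1 := by
    rw [mul_comm, pow_mul, pow_orderOf_eq_one, one_pow]
  rw [h2, mul_one] at h1
  have h3 : p ∣ orderOf (x0 * z) * orderOf z := by
    rw [← hx0]; exact orderOf_dvd_of_pow_eq_one h1
  rcases (Nat.Prime.dvd_mul hpp).mp h3 with h | h
  · exact hnd h
  · exact hzreg h

/-- B0SUB : the principal block lies over the trivial character of the centre. -/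
theorem b0_subset (P : Subgroup G) (hP : Nat.card P = p)
    (hZreg : ∀ z ∈ Subgroup.center G, ¬ p ∣ orderOf z)
    (X Y : Set (IrrCharacter G)) (v : IrrCharacter G → ℤ) (ε : ℤ) (d : B0 p P X Y v ε)
    (hYreg : ∀ ξ ∈ Y, ∀ ξ' ∈ Y, ∀ g : G, ¬ p ∣ orderOf g → (ξ : G → ℂ) g = (ξ' : G → ℂ) g) :
    X ∪ Y ⊆ cset (trivIrr G) := by
  classical
  have hpp : p.Prime := Fact.out
  obtain ⟨x0, hx0P, hx0o⟩ : ∃ x0 ∈ P, orderOf x0 = p := by
    have hd : p ∣ Nat.card P := by rw [hP]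
    obtain ⟨x, hx⟩ := exists_prime_orderOf_dvd_card' (G := P) p hd
    exact ⟨x, x.2, by rw [← hx, Subgroup.orderOf_coe]⟩
  have hsing : ∀ z ∈ Subgroup.center G, p ∣ orderOf (x0 * z) :=
    fun z hz => singular_mul hpp x0 z hx0o hz (hZreg z hz)
  have hsing0 : p ∣ orderOf x0 := by rw [hx0o]
  have hone : ¬ p ∣ orderOf (1 : G) := by
    rw [orderOf_one]
    intro h
    exact hpp.one_lt.ne' (Nat.dvd_one.mp h)
  have htriv1 : ∀ g : G, ((trivIrr G : IrrCharacter G) : G → ℂ) g = 1 := fun _ => rfl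
  intro χ hχ z hz
  rw [htriv1, htriv1, mul_one, one_mul]
  rcases hχ with hX | hY
  · have h1 := d.valX χ hX (x0 * z) (hsing z hz)
    have h2 := d.valX χ hX x0 hsing0
    have h3 := mul_central χ z hz x0
    rw [h1, h2] at h3
    have hv : (v χ : ℂ) ≠ 0 := by
      rcases d.sgnX χ hX with h | h <;> rw [h] <;> norm_num
    have h4 : (v χ : ℂ) * (χ : G → ℂ) 1 = (v χ : ℂ) * (χ : G → ℂ) z := by
      rw [h3]; ring
    exact (mul_left_cancel₀ hv h4).symm
  · have hsum1 := d.sumY (x0 * z) (hsing z hz)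
    have hsum0 := d.sumY x0 hsing0
    have hterm : ∀ ξ' ∈ Y, (ξ' : G → ℂ) (x0 * z) * (χ : G → ℂ) 1 = (χ : G → ℂ) z * (ξ' : G → ℂ) x0 := by
      intro ξ' hξ'
      have h := mul_central ξ' z hz x0
      rw [hYreg ξ' hξ' χ hY 1 hone, hYreg ξ' hξ' χ hY z (hZreg z hz)] at h
      exact h
    have h5 : (∑ᶠ ξ' ∈ Y, (ξ' : G → ℂ) (x0 * z)) * (χ : G → ℂ) 1 =
        (χ : G → ℂ) z * ∑ᶠ ξ' ∈ Y, (ξ' : G → ℂ) x0 := by
      rw [finsum_mem_mul, mul_finsum_mem]
      exact finsum_mem_congr rfl hterm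
    rw [hsum1, hsum0] at h5
    have hε : (ε : ℂ) ≠ 0 := by
      rcases d.sgn with h | h <;> rw [h] <;> norm_num
    have h6 : (-(ε : ℂ)) * (χ : G → ℂ) 1 = (-(ε : ℂ)) * (χ : G → ℂ) z := by
      rw [h5]; ring
    exact (mul_left_cancel₀ (neg_ne_zero.mpr hε) h6).symm

end Cfsg.Agent.Lib.Helper4.BRVIB0SUB
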