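/-
helper4: small `finsum` bookkeeping lemmas over a finite type, used by the BRVI leaves (S4504 (VI)).
-/
import Mathlib

set_option autoImplicit false

namespace Cfsg.Agent.Lib.Helper4.BRVIFin

variable {α : Type*} [Finite α]

/-- a constant summed over a set -/
theorem finsum_mem_const_real (s : Set α) (c : ℝ) : ∑ᶠ _i ∈ s, c = (Nat.card s : ℝ) * c := by
  classical
  have hs : s.Finite := Set.toFinite s
  rw [finsum_mem_eq_finite_toFinset_sum _ hs, Finset.sum_const, nsmul_eq_mul,
    Nat.card_eq_card_finite_toFinset hs]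

/-- a constant summed over a set (complex) -/
theorem finsum_mem_const_complex (s : Set α) (c : ℂ) : ∑ᶠ _i ∈ s, c = (Nat.card s : ℂ) * c := by
  classical
  have hs : s.Finite := Set.toFinite s
  rw [finsum_mem_eq_finite_toFinset_sum _ hs, Finset.sum_const, nsmul_eq_mul,
    Nat.card_eq_card_finite_toFinset hs]

/-- a sum of non-negative terms equal to the sum over a subset kills the rest -/
theorem eq_zero_of_sum_eq (S T : Set α) (hTS : T ⊆ S) (n : α → ℝ) (hn : ∀ i, 0 ≤ n i)
    (h : ∑ᶠ i ∈ S, n i = ∑ᶠ i ∈ T, n i) : ∀ i ∈ S, i ∉ T → n i = 0 := by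
  classical
  have hS : S.Finite := Set.toFinite S
  have h1 := finsum_mem_add_sdiff (f := n) hTS hS
  have h2 : ∑ᶠ i ∈ S \ T, n i = 0 := by linarith
  have hD : (S \ T).Finite := Set.toFinite _
  rw [finsum_mem_eq_finite_toFinset_sum _ hD] at h2
  intro i hiS hiT
  have h3 := (Finset.sum_eq_zero_iff_of_nonneg (fun j _ => hn j)).mp h2 i
    (by rw [Set.Finite.mem_toFinset]; exact ⟨hiS, hiT⟩)
  exact h3

/-- a sum whose terms vanish off a subset -/
theorem finsum_mem_subset {M : Type*} [AddCommMonoid M] (S T : Set α) (hTS : T ⊆ S) (F : α → M)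
    (h0 : ∀ i ∈ S, i ∉ T → F i = 0) : ∑ᶠ i ∈ S, F i = ∑ᶠ i ∈ T, F i := by
  classical
  have hS : S.Finite := Set.toFinite S
  have h1 := finsum_mem_add_sdiff (f := F) hTS hS
  have h2 : ∑ᶠ i ∈ S \ T, F i = 0 :=
    finsum_mem_eq_zero_of_forall_eq_zero (fun i hi => h0 i hi.1 hi.2)
  rw [h2, add_zero] at h1
  exact h1.symm

end Cfsg.Agent.Lib.Helper4.BRVIFin
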