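/-
helper4: leaf BRVI-ESIDE of the S4504 (VI) market (helper23, notes/S4504_VI_leaves.lean).
-/
import Mathlib
import Cfsg.Prelude.Def_BlockRank
import Cfsg.Agent.Lib.Helper6.BRHDefs
import Cfsg.Agent.Lib.Helper23.BRVIDefs
import Cfsg.Agent.Lib.Helper4.BRVIFin

set_option autoImplicit false

namespace Cfsg.Agent.Lib.Helper4.BRVIESIDE

open Cfsg Cfsg.Agent.Lib.Helper8.DOM Cfsg.Agent.Lib.Helper27.DO Cfsg.Agent.CharLib
open Cfsg.Agent.Lib.Helper6.BRH Cfsg.Agent.Lib.Helper23.BRVI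
open Cfsg.Agent.Lib.Helper4.BRVIFin
open scoped ComplexConjugate

universe u

variable {G : Type u} [Group G] [Finite G] {p : ℕ} [Fact p.Prime]

/-- ESIDE : the sum of the untwisted constants over `Irr(G / Z)`. -/
theorem e_side (P : Subgroup G) (hP : Nat.card P = p) (h2f : 2 * (Cz P).relIndex (Nz P) = p - 1)
    (X Y : Set (IrrCharacter G)) (v : IrrCharacter G → ℤ) (ε : ℤ) (d : B0 p P X Y v ε)
    (hsub : X ∪ Y ⊆ cset (trivIrr G)) (x x' y : G) (hxs : p ∣ orderOf x) (hxs' : p ∣ orderOf x')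
    (hY : ∀ ξ ∈ Y, (ξ : G → ℂ) x + (ξ : G → ℂ) x' = -(ε : ℂ))
    (hcol : ∑ᶠ χ ∈ cset (trivIrr G), Complex.normSq ((χ : G → ℂ) x + (χ : G → ℂ) x') = 2 * (p : ℝ)) :
    Tc (cset (trivIrr G)) x x y + Tc (cset (trivIrr G)) x x' y + Tc (cset (trivIrr G)) x' x y +
        Tc (cset (trivIrr G)) x' x' y =
      4 * ∑ᶠ η ∈ X, conj ((η : G → ℂ) y) / (η : G → ℂ) 1 + ∑ᶠ ξ ∈ Y, conj ((ξ : G → ℂ) y) / (ξ : G → ℂ) 1 := by
  classical
  have hpp : p.Prime := Fact.out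
  set S₁ : Set (IrrCharacter G) := cset (trivIrr G) with hS₁
  have hfin : ∀ s : Set (IrrCharacter G), s.Finite := fun s => Set.toFinite s
  -- the number `f`
  set f : ℕ := (Cz P).relIndex (Nz P) with hf
  have hf0 : 0 < f := by
    have := hpp.two_le
    omega
  have hcY : Nat.card Y = 2 := by
    rw [d.cardY, ← hf, ← h2f, Nat.mul_div_cancel _ hf0]
  -- values of `a χ = χ x + χ x'` on `X` and `Y`
  have haX : ∀ η ∈ X, (η : G → ℂ) x + (η : G → ℂ) x' = 2 * (v η : ℂ) := by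
    intro η hη
    rw [d.valX η hη x hxs, d.valX η hη x' hxs']; ring
  have hvsq : ∀ η ∈ X, (v η : ℂ) ^ 2 = 1 := by
    intro η hη
    rcases d.sgnX η hη with h | h <;> rw [h] <;> norm_num
  have hεsq : (ε : ℂ) ^ 2 = 1 := by
    rcases d.sgn with h | h <;> rw [h] <;> norm_num
  have hnX : ∀ η ∈ X, Complex.normSq ((η : G → ℂ) x + (η : G → ℂ) x') = 4 := by
    intro η hη
    rw [haX η hη]
    rcases d.sgnX η hη with h | h <;> rw [h] <;> norm_num [Complex.normSq_apply]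
  have hnY : ∀ ξ ∈ Y, Complex.normSq ((ξ : G → ℂ) x + (ξ : G → ℂ) x') = 1 := by
    intro ξ hξ
    rw [hY ξ hξ]
    rcases d.sgn with h | h <;> rw [h] <;> norm_num [Complex.normSq_apply]
  -- the sum of the norms over `X ∪ Y` is `2 p`
  have hsumXY : ∑ᶠ χ ∈ X ∪ Y, Complex.normSq ((χ : G → ℂ) x + (χ : G → ℂ) x') = 2 * (p : ℝ) := by
    rw [finsum_mem_union d.disj (hfin X) (hfin Y), finsum_mem_congr rfl hnX, finsum_mem_congr rfl hnY,
      finsum_mem_const_real, finsum_mem_const_real, d.cardX, hcY, ← hf]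
    have h1 : ((2 * f : ℕ) : ℝ) = ((p - 1 : ℕ) : ℝ) := by rw [h2f]
    rw [Nat.cast_sub hpp.one_lt.le] at h1
    push_cast at h1 ⊢
    linarith
  -- the other characters of `S₁` have `a χ = 0`
  have hzero : ∀ χ ∈ S₁, χ ∉ X ∪ Y → (χ : G → ℂ) x + (χ : G → ℂ) x' = 0 := by
    intro χ hχ hχn
    have := eq_zero_of_sum_eq S₁ (X ∪ Y) hsub
      (fun χ => Complex.normSq ((χ : G → ℂ) x + (χ : G → ℂ) x')) (fun χ => Complex.normSq_nonneg _)
      (by rw [hcol, hsumXY]) χ hχ hχn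
    exact Complex.normSq_eq_zero.mp this
  -- the left side as one sum
  have hL : Tc S₁ x x y + Tc S₁ x x' y + Tc S₁ x' x y + Tc S₁ x' x' y =
      ∑ᶠ χ ∈ S₁, ((χ : G → ℂ) x + (χ : G → ℂ) x') ^ 2 * conj ((χ : G → ℂ) y) / (χ : G → ℂ) 1 := by
    unfold Tc
    rw [← finsum_mem_add_distrib (hfin S₁), ← finsum_mem_add_distrib (hfin S₁),
      ← finsum_mem_add_distrib (hfin S₁)]
    apply finsum_mem_congr rfl
    intro χ _
    ring
  rw [hL]
  rw [finsum_mem_subset S₁ (X ∪ Y) hsub _ (fun χ hχ hχn => by rw [hzero χ hχ hχn]; ring)]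
  rw [finsum_mem_union d.disj (hfin X) (hfin Y), mul_finsum_mem]
  congr 1
  · apply finsum_mem_congr rfl
    intro η hη
    rw [haX η hη, mul_pow, hvsq η hη]; ring
  · apply finsum_mem_congr rfl
    intro ξ hξ
    rw [hY ξ hξ, neg_sq, hεsq]; ring

end Cfsg.Agent.Lib.Helper4.BRVIESIDE
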