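/-
helper4: leaf BRVI-THETA of the S4504 (VI) market (helper23, notes/S4504_VI_leaves.lean).
`Θ = ψ ψ̄` (case A) resp. `ψ ψ̄'` (case B) is a sum of different irreducible characters of `X`, all of the same sign:
it is constant on the `p`-singular elements, and its first two moments are known.
-/
import Mathlib
import Cfsg.Prelude.Def_BlockRank
import Cfsg.Agent.Lib.Helper6.BRHDefs
import Cfsg.Agent.Lib.Helper23.BRVIDefs
import Cfsg.Agent.Lib.Helper4.BRVIFin

set_option autoImplicit false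

namespace Cfsg.Agent.Lib.Helper4.BRVITHETA

open Cfsg Cfsg.Agent.Lib.Helper8.DOM Cfsg.Agent.Lib.Helper27.DO Cfsg.Agent.CharLib
open Cfsg.Agent.Lib.Helper6.BRH Cfsg.Agent.Lib.Helper23.BRVI
open Cfsg.Agent.Lib.Helper4.BRVIFin
open scoped ComplexConjugate

universe u

variable {G : Type u} [Group G] [Finite G] {p : ℕ} [Fact p.Prime]

/-- the sum of the irreducible characters in a set -/
noncomputable def thetaOf (S : Set (IrrCharacter G)) (g : G) : ℂ := ∑ᶠ χ ∈ S, (χ : G → ℂ) g

/-- first moment: the multiplicity of the trivial character -/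
theorem sum_thetaOf (S : Set (IrrCharacter G)) (c : ℂ)
    (hc : (trivIrr G ∈ S → c = 1) ∧ (trivIrr G ∉ S → c = 0)) :
    ∑ᶠ g : G, thetaOf S g = (Nat.card G : ℂ) * c := by
  classical
  letI : Fintype G := Fintype.ofFinite G
  have hS : S.Finite := Set.toFinite S
  have h1 : (fun g => thetaOf S g) = ∑ χ ∈ hS.toFinset, ((χ : IrrCharacter G) : G → ℂ) := by
    funext g
    unfold thetaOf
    rw [finsum_mem_eq_finite_toFinset_sum _ hS, Finset.sum_apply]
  have h2 : classInner (∑ χ ∈ hS.toFinset, ((χ : IrrCharacter G) : G → ℂ))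
      ((trivIrr G : IrrCharacter G) : G → ℂ) = c := by
    rw [classInner_sum_left]
    simp_rw [classInner_irr']
    rw [Finset.sum_ite_eq' hS.toFinset (trivIrr G) (fun _ => (1 : ℂ))]
    by_cases h : trivIrr G ∈ S
    · rw [if_pos (hS.mem_toFinset.mpr h), hc.1 h]
    · rw [if_neg (fun h' => h (hS.mem_toFinset.mp h')), hc.2 h]
  rw [← h1] at h2
  unfold classInner at h2
  have htriv : ∀ g : G, ((trivIrr G : IrrCharacter G) : G → ℂ) g = 1 := fun _ => rfl
  simp only [htriv, map_one, mul_one] at h2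
  rw [finsum_eq_sum_of_fintype, ← h2]
  have hne : (Nat.card G : ℂ) ≠ 0 := card_ne_zero_complex
  field_simp

/-- second moment: the number of constituents -/
theorem sum_normSq_thetaOf (S : Set (IrrCharacter G)) :
    ∑ᶠ g : G, Complex.normSq (thetaOf S g) = (Nat.card S : ℝ) * (Nat.card G : ℝ) := by
  classical
  letI : Fintype G := Fintype.ofFinite G
  have hS : S.Finite := Set.toFinite S
  have h1 : (fun g => thetaOf S g) = ∑ χ ∈ hS.toFinset, ((χ : IrrCharacter G) : G → ℂ) := by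
    funext g
    unfold thetaOf
    rw [finsum_mem_eq_finite_toFinset_sum _ hS, Finset.sum_apply]
  have h2 : classInner (∑ χ ∈ hS.toFinset, ((χ : IrrCharacter G) : G → ℂ))
      (∑ χ ∈ hS.toFinset, ((χ : IrrCharacter G) : G → ℂ)) = (Nat.card S : ℂ) := by
    rw [classInner_sum_left]
    simp_rw [classInner_sum_right, classInner_irr']
    rw [Finset.sum_congr rfl (fun χ hχ => Finset.sum_ite_eq hS.toFinset χ (fun _ => (1 : ℂ)))]
    rw [Finset.sum_congr rfl (fun χ hχ => if_pos hχ)]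
    rw [Finset.sum_const, nsmul_eq_mul, mul_one, Nat.card_eq_card_finite_toFinset hS]
  rw [← h1] at h2
  unfold classInner at h2
  have hne : (Nat.card G : ℂ) ≠ 0 := card_ne_zero_complex
  have h3 : ∑ g : G, thetaOf S g * conj (thetaOf S g) = (Nat.card S : ℂ) * (Nat.card G : ℂ) := by
    rw [← h2]; field_simp
  rw [finsum_eq_sum_of_fintype]
  apply Complex.ofReal_injective
  rw [Complex.ofReal_sum]
  push_cast
  rw [← h3]
  apply Finset.sum_congr rfl
  intro g _
  rw [Complex.mul_conj]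

/-- THETA : the character `Θ = ψ ψ̄` resp. `ψ ψ̄'`, constant on the `p`-singular elements. -/
theorem theta_data (P : Subgroup G) (hP : Nat.card P = p) (f : ℕ) (hf : (Cz P).relIndex (Nz P) = f)
    (ψ ψ' : IrrCharacter G) (hreg : ∀ g : G, ¬ p ∣ orderOf g → (ψ' : G → ℂ) g = (ψ : G → ℂ) g)
    (X Y : Set (IrrCharacter G)) (v : IrrCharacter G → ℤ) (ε : ℤ) (d : B0 p P X Y v ε)
    (hcase : CaseA f ψ ψ' X Y v ∨ CaseB f ψ ψ' X Y v) :
    ∃ (Θ : G → ℂ) (κ t₁ t₂ : ℝ),
      (∀ g : G, ¬ p ∣ orderOf g → Θ g = ((Complex.normSq ((ψ : G → ℂ) g) : ℝ) : ℂ)) ∧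
      (∀ g : G, p ∣ orderOf g → Θ g = (κ : ℂ)) ∧
      ∑ᶠ g : G, Θ g = ((t₁ * (Nat.card G : ℝ) : ℝ) : ℂ) ∧
      ∑ᶠ g : G, Complex.normSq (Θ g) = t₂ * (Nat.card G : ℝ) ∧
      ((2 * κ = (f : ℝ) + 1 ∧ t₁ = 1 ∧ 2 * t₂ = (f : ℝ) + 1) ∨ (2 * κ = -(f : ℝ) ∧ t₁ = 0 ∧ 2 * t₂ = (f : ℝ))) := by
  classical
  have hpp : p.Prime := Fact.out
  have hfin : ∀ s : Set (IrrCharacter G), s.Finite := fun s => Set.toFinite s
  -- a `p`-singular element
  obtain ⟨x0, hx0o⟩ : ∃ x0 : G, orderOf x0 = p := by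
    have hd : p ∣ Nat.card P := by rw [hP]
    obtain ⟨x, hx⟩ := exists_prime_orderOf_dvd_card' (G := P) p hd
    exact ⟨x, by rw [← hx, Subgroup.orderOf_coe]⟩
  have hsing0 : p ∣ orderOf x0 := by rw [hx0o]
  -- `v 1 = 1`
  have hvtriv : v (trivIrr G) = 1 := by
    have h := d.valX (trivIrr G) d.trivX x0 hsing0
    have h1 : ((trivIrr G : IrrCharacter G) : G → ℂ) x0 = 1 := rfl
    rw [h1] at h
    exact_mod_cast h.symm
  have htp : trivIrr G ∉ Xp X v := fun h => h.2.2 rfl
  have htm : trivIrr G ∉ Xm X v := by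
    intro h
    have := h.2
    rw [hvtriv] at this
    omega
  -- `X = {1} ⊔ Xp ⊔ Xm`
  have hXeq : X = insert (trivIrr G) (Xp X v ∪ Xm X v) := by
    ext η
    constructor
    · intro hη
      rcases d.sgnX η hη with h | h
      · by_cases ht : η = trivIrr G
        · exact Or.inl ht
        · exact Or.inr (Or.inl ⟨hη, h, ht⟩)
      · exact Or.inr (Or.inr ⟨hη, h⟩)
    · rintro (h | h | h)
      · rw [h]; exact d.trivX
      · exact h.1
      · exact h.1
  have hdisj : Disjoint (Xp X v) (Xm X v) := by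
    rw [Set.disjoint_left]
    intro η h1 h2
    have := h1.2.1
    rw [h2.2] at this
    omega
  have hcard : f = 1 + Nat.card (Xp X v) + Nat.card (Xm X v) := by
    have h1 : Nat.card X = f := by rw [d.cardX, hf]
    rw [← h1]
    conv_lhs => rw [hXeq]
    rw [Nat.card_coe_set_eq, Nat.card_coe_set_eq, Nat.card_coe_set_eq,
      Set.ncard_insert_of_notMem (by
        intro h
        rcases h with h | h
        · exact htp h
        · exact htm h) (hfin _),
      Set.ncard_union_eq hdisj (hfin _) (hfin _)]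
    ring
  rcases hcase with ⟨-, hXm, hψψ, -⟩ | ⟨-, hXm, -, hψψ'⟩
  · -- case A
    refine ⟨thetaOf (insert (trivIrr G) (Xp X v)), 1 + (Nat.card (Xp X v) : ℝ), 1,
      1 + (Nat.card (Xp X v) : ℝ), ?_, ?_, ?_, ?_, Or.inl ⟨?_, rfl, ?_⟩⟩
    · intro g _
      unfold thetaOf
      rw [finsum_mem_insert _ htp (hfin _)]
      have h1 : ((trivIrr G : IrrCharacter G) : G → ℂ) g = 1 := rfl
      rw [h1, ← hψψ g, Complex.mul_conj]
    · intro g hg
      unfold thetaOf
      rw [finsum_mem_insert _ htp (hfin _)]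
      have h1 : ((trivIrr G : IrrCharacter G) : G → ℂ) g = 1 := rfl
      rw [h1, finsum_mem_congr rfl (fun η hη => by
        rw [d.valX η hη.1 g hg, hη.2.1, Int.cast_one] : ∀ η ∈ Xp X v, (η : G → ℂ) g = (1 : ℂ)),
        finsum_mem_const_complex]
      push_cast; ring
    · rw [sum_thetaOf _ 1 ⟨fun _ => rfl, fun h => absurd (Set.mem_insert _ _) h⟩]
      push_cast; ring
    · rw [sum_normSq_thetaOf, Nat.card_coe_set_eq, Set.ncard_insert_of_notMem htp (hfin _),
        ← Nat.card_coe_set_eq]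
      push_cast; ring
    · have : (f : ℝ) = 1 + (Nat.card (Xp X v) : ℝ) + (Nat.card (Xm X v) : ℝ) := by
        exact_mod_cast hcard
      have h2 : (2 * (Nat.card (Xm X v) : ℝ)) + 1 = (f : ℝ) := by exact_mod_cast hXm
      linarith
    · have : (f : ℝ) = 1 + (Nat.card (Xp X v) : ℝ) + (Nat.card (Xm X v) : ℝ) := by
        exact_mod_cast hcard
      have h2 : (2 * (Nat.card (Xm X v) : ℝ)) + 1 = (f : ℝ) := by exact_mod_cast hXm
      linarith
  · -- case B
    refine ⟨thetaOf (Xm X v), -(Nat.card (Xm X v) : ℝ), 0, (Nat.card (Xm X v) : ℝ),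
      ?_, ?_, ?_, ?_, Or.inr ⟨?_, rfl, ?_⟩⟩
    · intro g hg
      unfold thetaOf
      rw [← hψψ' g, hreg g hg, Complex.mul_conj]
    · intro g hg
      unfold thetaOf
      rw [finsum_mem_congr rfl (fun η hη => by
        rw [d.valX η hη.1 g hg, hη.2, Int.cast_neg, Int.cast_one] :
          ∀ η ∈ Xm X v, (η : G → ℂ) g = (-1 : ℂ)),
        finsum_mem_const_complex]
      push_cast; ring
    · rw [sum_thetaOf _ 0 ⟨fun h => absurd h htm, fun _ => rfl⟩]
      push_cast; ring
    · rw [sum_normSq_thetaOf]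
    · have h2 : (2 * (Nat.card (Xm X v) : ℝ)) = (f : ℝ) := by exact_mod_cast hXm
      linarith
    · have h2 : (2 * (Nat.card (Xm X v) : ℝ)) = (f : ℝ) := by exact_mod_cast hXm
      linarith

end Cfsg.Agent.Lib.Helper4.BRVITHETA
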