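/-
helper4: S4885 / S4886 leaf (CE) `conjFun_eq_of_nav` (planner helper14): Clifford (the stabilizer of
`λ` has `q'`-index) + the coprime-action leaves (L1), (L2) of helper22 + the NAV conclusion `hnav`.
-/
import Mathlib
import Cfsg.Prelude.Def_Blocks
import Cfsg.Prelude.Def_Local
import Cfsg.Agent.Lib.Helper6.Clifford
import Cfsg.Agent.Lib.Helper6.CliffordCorr
import Cfsg.Agent.Lib.Helper24.PSolvable
import Cfsg.Agent.Lib.Helper14.TPDefs
import Cfsg.Agent.Lib.Helper24.NormalDegrees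
import Cfsg.Agent.Lib.Helper4.Basic
import Cfsg.Agent.Lib.Helper22.TPL1
import Cfsg.Agent.Lib.Helper22.TPL2

set_option autoImplicit false

namespace Cfsg.Agent.Lib.Helper4.TP

open Cfsg Cfsg.Agent.CharLib Cfsg.Agent.Lib.Helper6 Cfsg.Agent.Lib.Helper2.Glaub
open Cfsg.Agent.Lib.Helper14.TP
open scoped Pointwise

universe u

variable {H : Type u} [Group H] [Finite H]

/-- Clifford: the stabilizer of a constituent `λ` of `χ_V` has index dividing `χ(1)`. -/
theorem index_inertia_dvd_charDegree (V : Subgroup H) [V.Normal] (lam : IrrCharacter V)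
    (hcls : IsClassFunction V (lam : V → ℂ)) (χ : IrrCharacter H)
    (hover : haveI := Fintype.ofFinite V
      classInner (resFun V (χ : H → ℂ)) (lam : V → ℂ) ≠ 0) :
    (Cfsg.Agent.Lib.Helper24.inertia V hcls).index ∣ charDegree (χ : H → ℂ) := by
  classical
  letI : Fintype H := Fintype.ofFinite H
  letI : Fintype V := Fintype.ofFinite V
  have hχc : IsCharacter H (χ : H → ℂ) := IsIrrCharacter.isCharacter χ.2
  have hlc : IsCharacter V (lam : V → ℂ) := IsIrrCharacter.isCharacter lam.2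
  have hdeg := clifford_degree V χ.2 lam.2 hover
  obtain ⟨c, hc⟩ := IsCharacter.classInner_nat (isCharacter_resFun V hχc) hlc
  rw [hc, Cfsg.Agent.Lib.Helper24.irr_apply_one χ, Cfsg.Agent.Lib.Helper24.irr_apply_one lam] at hdeg
  have hnat : charDegree (χ : H → ℂ) =
      c * (conjOrbit V (lam : V → ℂ)).card * charDegree (lam : V → ℂ) := by
    exact_mod_cast hdeg
  have h1 := card_conjOrbit_mul V (lam : V → ℂ)
  have h2 : Nat.card {g : H // Cfsg.Agent.Lib.Helper6.conjFun V g (lam : V → ℂ) = lam} =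
      Nat.card (Cfsg.Agent.Lib.Helper24.inertia V hcls) := rfl
  rw [h2] at h1
  have h3 := (Cfsg.Agent.Lib.Helper24.inertia V hcls).card_mul_index
  have hpos : 0 < Nat.card (Cfsg.Agent.Lib.Helper24.inertia V hcls) := Nat.card_pos
  have h4 : (Cfsg.Agent.Lib.Helper24.inertia V hcls).index = (conjOrbit V (lam : V → ℂ)).card := by
    apply Nat.eq_of_mul_eq_mul_left hpos
    rw [h3, ← h1, mul_comm]
  rw [h4, hnat]
  exact ⟨c * charDegree (lam : V → ℂ), by ring⟩

set_option linter.unusedVariables false in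
theorem conjFun_eq_of_nav (p q : ℕ) [Fact p.Prime] [Fact q.Prime] (hpq : p ≠ q) (V : Subgroup H)
    [V.Normal] (Kb Ab Qb : Subgroup (H ⧸ V)) [Kb.Normal] (hKb : (Nat.card Kb).Coprime p)
    (hAb : IsPGroup p Ab) (hQb : IsSylowIn q Qb Kb)
    (hAQ : Ab ≤ Subgroup.normalizer (Qb : Set (H ⧸ V)))
    (hnav : Kb ⊓ Subgroup.centralizer (Ab : Set (H ⧸ V)) ≤
      Subgroup.normalizer (Qb : Set (H ⧸ V)))
    (lam : IrrCharacter V)
    (hlam : ∀ x : H, (QuotientGroup.mk' V) x ∈ Ab →
      Cfsg.Agent.Lib.Helper6.conjFun V x (lam : V → ℂ) = lam)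
    (χ : IrrCharacter H) (hχq : ¬ q ∣ charDegree (χ : H → ℂ))
    (hover : haveI := Fintype.ofFinite V
      classInner (resFun V (χ : H → ℂ)) (lam : V → ℂ) ≠ 0) :
    ∀ x : H, (QuotientGroup.mk' V) x ∈ Qb →
      Cfsg.Agent.Lib.Helper6.conjFun V x (lam : V → ℂ) = lam := by
  classical
  have hq : q.Prime := Fact.out
  have hcls : IsClassFunction V (lam : V → ℂ) :=
    IsCharacter.isClassFunction (IsIrrCharacter.isCharacter lam.2)
  have hVT : V ≤ Cfsg.Agent.Lib.Helper24.inertia V hcls :=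
    Cfsg.Agent.Lib.Helper24.le_inertia V hcls
  have hTq : ¬ q ∣ (Cfsg.Agent.Lib.Helper24.inertia V hcls).index := fun h =>
    hχq (h.trans (index_inertia_dvd_charDegree V lam hcls χ hover))
  -- the image of the stabilizer
  have hTbidx : ((Cfsg.Agent.Lib.Helper24.inertia V hcls).map (QuotientGroup.mk' V)).index =
      (Cfsg.Agent.Lib.Helper24.inertia V hcls).index := by
    rw [Subgroup.index_map, QuotientGroup.ker_mk', sup_of_le_left hVT,
      MonoidHom.range_eq_top.mpr (QuotientGroup.mk'_surjective V), Subgroup.index_top, mul_one]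
  have hAbT : Ab ≤ (Cfsg.Agent.Lib.Helper24.inertia V hcls).map (QuotientGroup.mk' V) := by
    intro a ha
    obtain ⟨x, rfl⟩ := QuotientGroup.mk'_surjective V a
    exact ⟨x, (Cfsg.Agent.Lib.Helper24.mem_inertia V hcls x).mpr (hlam x ha), rfl⟩
  have hKtop : Subgroup.normalizer (Kb : Set (H ⧸ V)) = ⊤ :=
    Subgroup.normalizer_eq_top_iff.mpr inferInstance
  have hAD : Ab ≤ Subgroup.normalizer
      ((((Cfsg.Agent.Lib.Helper24.inertia V hcls).map (QuotientGroup.mk' V)) ⊓ Kb :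
        Subgroup (H ⧸ V)) : Set (H ⧸ V)) := by
    intro a ha
    have haT := Subgroup.le_normalizer (hAbT ha)
    have haK : a ∈ Subgroup.normalizer (Kb : Set (H ⧸ V)) := by rw [hKtop]; trivial
    rw [Subgroup.mem_normalizer_iff]
    intro d
    rw [Subgroup.mem_inf, Subgroup.mem_inf, Subgroup.mem_normalizer_iff.mp haT d,
      Subgroup.mem_normalizer_iff.mp haK d]
  have hDcop : (Nat.card ↥(((Cfsg.Agent.Lib.Helper24.inertia V hcls).map (QuotientGroup.mk' V)) ⊓
      Kb : Subgroup (H ⧸ V))).Coprime p :=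
    Nat.Coprime.coprime_dvd_left (Subgroup.card_dvd_of_le inf_le_right) hKb
  obtain ⟨Sb, hSb, hASb⟩ := Cfsg.Agent.Lib.Helper22.TP.exists_isSylowIn_le_normalizer p q _ Ab
    hAD hDcop hAb
  have hDq : ¬ q ∣ (((Cfsg.Agent.Lib.Helper24.inertia V hcls).map (QuotientGroup.mk' V)) ⊓ Kb :
      Subgroup (H ⧸ V)).relIndex Kb := by
    rw [Subgroup.inf_relIndex_right,
      ← Cfsg.Agent.Lib.Helper4.relIndex_sup_left_of_le_normalizer _ Kb
        (by rw [hKtop]; exact le_top)]
    intro h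
    apply hTq
    rw [← hTbidx]
    exact h.trans (Subgroup.relIndex_dvd_index_of_le le_sup_left)
  have hSbK : IsSylowIn q Sb Kb := by
    refine ⟨hSb.1.trans inf_le_right, hSb.2.1, ?_⟩
    rw [← Subgroup.relIndex_mul_relIndex Sb _ Kb hSb.1 inf_le_right]
    intro h
    rcases (Nat.Prime.dvd_mul hq).mp h with h1 | h1
    · exact hSb.2.2 h1
    · exact hDq h1
  have hAK : Ab ≤ Subgroup.normalizer (Kb : Set (H ⧸ V)) := by rw [hKtop]; exact le_top
  obtain ⟨c, hc, hSQ⟩ := Cfsg.Agent.Lib.Helper22.TP.exists_conj_of_isSylowIn p q Kb Ab Qb Sb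
    hAK hKb hAb hQb hSbK hAQ hASb
  have hcN : c ∈ Subgroup.normalizer (Qb : Set (H ⧸ V)) := hnav hc
  have hSQ' : Sb = Qb := by
    rw [hSQ]
    ext x
    rw [Subgroup.mem_pointwise_smul_iff_inv_smul_mem, MulAut.smul_def, MulAut.conj_inv_apply]
    have := Subgroup.mem_normalizer_iff.mp (Subgroup.inv_mem _ hcN) x
    rw [inv_inv] at this
    exact this.symm
  intro x hx
  rw [← hSQ'] at hx
  have hxT := (hSb.1 hx).1
  obtain ⟨t, ht, htx⟩ := hxT
  have hv : t⁻¹ * x ∈ V := by
    have h1 : (QuotientGroup.mk' V) (t⁻¹ * x) = 1 := by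
      rw [map_mul, map_inv, htx, inv_mul_cancel]
    rwa [QuotientGroup.mk'_apply, QuotientGroup.eq_one_iff] at h1
  have hxmem : x ∈ Cfsg.Agent.Lib.Helper24.inertia V hcls := by
    have : x = t * (t⁻¹ * x) := by group
    rw [this]
    exact Subgroup.mul_mem _ ht (hVT hv)
  exact (Cfsg.Agent.Lib.Helper24.mem_inertia V hcls x).mp hxmem

end Cfsg.Agent.Lib.Helper4.TP
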