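import Mathlib
import Cfsg.Agent.Lib.Helper15.AschUCtx
import Cfsg.Agent.Lib.Helper15.AschPRFData
import Cfsg.Agent.Lib.Helper15.AschDSC1
import Cfsg.Agent.Lib.Helper26.AschNL
import Cfsg.Agent.Lib.Helper27.AschKF3
import Cfsg.Agent.Lib.Helper27.AschSW
import Cfsg.Agent.Lib.Helper29.AschKF2
import Cfsg.Agent.Lib.Helper20.AschTS
import Cfsg.Agent.Lib.Helper4.AschA4
import Cfsg.Agent.Lib.Helper1.AFAdj

/-!
S5663 market U, leaf (FU1) `odd_of_adjointClosed` (helper4): an adjoint-closed field subalgebra of `M_n(F)` has odd degree over `F`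
in the unitary case.  Proof: model `E` of `K` (`Helper27.AschKF3.exists_model`), the adjoint gives a ring automorphism `τ` of `E`
with `τ² = 1`, `τ|_F = σ ≠ 1`; every automorphism of the finite field `E` is a power of the Frobenius of the prime field
(`FiniteField.bijective_frobeniusAlgEquivOfAlgebraic_pow`), so `τ x = x ^ p ^ j` with `2 j = [E : F_p] = e d`; if `d = 2 m` then
`τ x = x ^ |F| ^ m` fixes `F`.
-/

set_option autoImplicit false
set_option linter.unusedSectionVars false
set_option linter.unusedVariables false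

namespace Cfsg.Agent.Lib.Helper4.UALeaf
open Matrix Cfsg Cfsg.Geo Cfsg.Agent.Lib.Helper20.Asch Cfsg.Agent.Lib.Helper20.FC
open Cfsg.Agent.Lib.Helper15.AschU Cfsg.Agent.Lib.Helper15.AschForm Cfsg.Agent.Lib.Helper18.AschA89
open scoped Kronecker

/-- the abstract statement: an involutory ring automorphism of a finite extension `E / F` of finite fields which moves `F`
forces `[E : F]` to be odd -/
theorem odd_finrank_of_involution {F E : Type*} [Field F] [Fintype F] [Field E] [Algebra F E] [Finite E]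
    (σ : F → F) (τ : E →+* E) (hτ2 : ∀ x, τ (τ x) = x)
    (hτF : ∀ c : F, τ (algebraMap F E c) = algebraMap F E (σ c)) (hσ : ∃ c, σ c ≠ c) :
    Odd (Module.finrank F E) := by
  classical
  have : Fintype E := Fintype.ofFinite E
  obtain ⟨p, hchar⟩ := CharP.exists E
  have hp : Fact p.Prime := ⟨CharP.char_is_prime E p⟩
  have hcharF : CharP F p := (algebraMap F E).charP (algebraMap F E).injective p
  letI aE : Algebra (ZMod p) E := ZMod.algebra E p
  letI aF : Algebra (ZMod p) F := ZMod.algebra F p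
  -- `τ` as an automorphism over the prime field
  let τe : E ≃+* E := RingEquiv.ofRingHom τ τ (RingHom.ext hτ2) (RingHom.ext hτ2)
  let τa : E ≃ₐ[ZMod p] E := AlgEquiv.ofRingEquiv (f := τe) (fun x => by
    have h : (τe : E →+* E).comp (algebraMap (ZMod p) E) = algebraMap (ZMod p) E := Subsingleton.elim _ _
    exact RingHom.congr_fun h x)
  have hτa : ∀ x, τa x = τ x := fun x => rfl
  obtain ⟨N, hN⟩ : ∃ N, N = Module.finrank (ZMod p) E := ⟨_, rfl⟩
  obtain ⟨⟨j, hjlt⟩, hj⟩ := (FiniteField.bijective_frobeniusAlgEquivOfAlgebraic_pow (ZMod p) E).2 τa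
  rw [← hN] at hjlt
  change FiniteField.frobeniusAlgEquivOfAlgebraic (ZMod p) E ^ j = τa at hj
  have hj' : ∀ x : E, τ x = x ^ p ^ j := by
    intro x
    have h1 : (FiniteField.frobeniusAlgEquivOfAlgebraic (ZMod p) E ^ j) x = τa x := by rw [hj]
    rw [hτa, AlgEquiv.coe_pow, FiniteField.coe_frobeniusAlgEquivOfAlgebraic_iterate, ZMod.card] at h1
    exact h1.symm
  -- `N ∣ 2 j`
  have hord := FiniteField.orderOf_frobeniusAlgEquivOfAlgebraic (ZMod p) E
  have hsq : (FiniteField.frobeniusAlgEquivOfAlgebraic (ZMod p) E) ^ (2 * j) = 1 := by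
    rw [mul_comm, pow_mul, hj]
    ext x
    change τ (τ x) = x
    exact hτ2 x
  have hdvd : N ∣ 2 * j := by
    rw [hN, ← hord]
    exact orderOf_dvd_of_pow_eq_one hsq
  obtain ⟨c₀, hc₀⟩ := hσ
  -- `j ≠ 0`
  have hj0 : j ≠ 0 := by
    intro h0
    apply hc₀
    apply (algebraMap F E).injective
    rw [← hτF, hj', h0, pow_zero, pow_one]
  have h2j : 2 * j = N := by
    obtain ⟨k, hk⟩ := hdvd
    have hk1 : k = 1 := by
      rcases Nat.lt_or_ge k 1 with h | h
      · have : k = 0 := by omega
        subst this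
        omega
      · rcases Nat.lt_or_ge k 2 with h' | h'
        · omega
        · have : N * 2 ≤ N * k := Nat.mul_le_mul_left N h'
          omega
    rw [hk, hk1, mul_one]
  -- cardinalities
  have hcE : Fintype.card E = p ^ N := by
    rw [hN, Module.card_eq_pow_finrank (K := ZMod p) (V := E), ZMod.card]
  have hcF : Fintype.card F = p ^ Module.finrank (ZMod p) F := by
    rw [Module.card_eq_pow_finrank (K := ZMod p) (V := F), ZMod.card]
  have hcEF : Fintype.card E = Fintype.card F ^ Module.finrank F E :=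
    Module.card_eq_pow_finrank (K := F) (V := E)
  set e := Module.finrank (ZMod p) F with he
  set d := Module.finrank F E with hd
  have hNed : N = e * d := by
    have : p ^ N = p ^ (e * d) := by rw [← hcE, hcEF, hcF, pow_mul]
    exact Nat.pow_right_injective hp.out.two_le this
  by_contra hodd
  rw [Nat.not_odd_iff_even] at hodd
  obtain ⟨m, hm⟩ := hodd
  have hjem : j = e * m := by
    have : 2 * j = 2 * (e * m) := by rw [h2j, hNed, hm]; ring
    omega
  apply hc₀
  apply (algebraMap F E).injective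
  rw [← hτF, hj', hjem, pow_mul, ← hcF, ← map_pow, FiniteField.pow_card_pow]

variable {F : Type*} [Field F] [Fintype F] {n q : ℕ} {H N : Subgroup (GL (Fin n) F)}

theorem odd_of_adjointClosed {σ : F ≃+* F} (hσ : IsFrob q σ) (hn : 0 < n)
    (K : Subalgebra F (Matrix (Fin n) (Fin n) F)) (d : ℕ) (hK : IsFieldSubalgebra d K)
    (hadj : IsAdjointClosedFor (hermForm n F q) K) : Odd d := by
  classical
  have hf : RForm (σ : F →+* F) 1 (hermForm n F q) := hσ.rform (n := n)
  have hdpos : 0 < d := by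
    have : Nontrivial (Matrix (Fin n) (Fin n) F) := by
      have : Nonempty (Fin n) := ⟨⟨0, hn⟩⟩
      infer_instance
    rw [← hK.finrank_eq]
    exact Module.finrank_pos
  obtain ⟨E, fE, aE, ρ, hinj, hrange, hfr⟩ := Cfsg.Agent.Lib.Helper27.AschKF3.exists_model d hdpos K hK
  have hfin : Finite E := Finite.of_injective ρ hinj
  have hmemK : ∀ x : E, ρ x ∈ K := fun x => by rw [← hrange]; exact ⟨x, rfl⟩
  have hex : ∀ x : E, ∃ y : E, IsAdj (hermForm n F q) (ρ x) (ρ y) := by
    intro x
    obtain ⟨k', hk', hkk⟩ := hadj (ρ x) (hmemK x)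
    rw [← hrange] at hk'
    obtain ⟨y, rfl⟩ := hk'
    exact ⟨y, hkk⟩
  choose τ hτ using hex
  have huniq : ∀ (x y : E), IsAdj (hermForm n F q) (ρ x) (ρ y) → τ x = y := by
    intro x y h
    exact hinj (Cfsg.Agent.Lib.Helper1.AFLeaf.isAdj_unique hf (hτ x) h)
  have h1 : τ 1 = 1 := by
    apply huniq
    rw [map_one]
    exact Cfsg.Agent.Lib.Helper1.AFLeaf.isAdj_one
  have hmul : ∀ x y, τ (x * y) = τ x * τ y := by
    intro x y
    apply huniq
    rw [map_mul, mul_comm (τ x) (τ y), map_mul]
    exact Cfsg.Agent.Lib.Helper1.AFLeaf.isAdj_mul (hτ x) (hτ y)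
  have hadd : ∀ x y, τ (x + y) = τ x + τ y := by
    intro x y
    apply huniq
    rw [map_add, map_add]
    exact Cfsg.Agent.Lib.Helper1.AFLeaf.isAdj_add hf (hτ x) (hτ y)
  let τm : E →* E := { toFun := τ, map_one' := h1, map_mul' := hmul }
  let τr : E →+* E := RingHom.mk' τm hadd
  have hτr : ∀ x, τr x = τ x := fun x => rfl
  have hτ2 : ∀ x, τr (τr x) = x := by
    intro x
    rw [hτr, hτr]
    apply huniq
    exact Cfsg.Agent.Lib.Helper1.AFLeaf.isAdj_symm hf (hτ x)
  have hτF : ∀ c : F, τr (algebraMap F E c) = algebraMap F E (σ c) := by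
    intro c
    rw [hτr]
    apply huniq
    rw [AlgHom.commutes, AlgHom.commutes, Algebra.algebraMap_eq_smul_one, Algebra.algebraMap_eq_smul_one]
    exact Cfsg.Agent.Lib.Helper1.AFLeaf.isAdj_smul hf Cfsg.Agent.Lib.Helper1.AFLeaf.isAdj_one c
  have hne : ∃ c, σ c ≠ c := by
    by_contra hcon
    push Not at hcon
    exact hσ.ne_refl (RingEquiv.ext hcon)
  have := odd_finrank_of_involution (F := F) (E := E) (fun c => σ c) τr hτ2 hτF hne
  rwa [hfr] at this

end Cfsg.Agent.Lib.Helper4.UALeaf
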