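import Mathlib
import Cfsg.Prelude.Def_PLocal
import Cfsg.Agent.Lib.Helper1.Basic
import Cfsg.Agent.Lib.Helper27.Basic
import Cfsg.Agent.Lib.Helper4.HallSystemQuot

set_option autoImplicit false
open Pointwise

namespace Cfsg.Agent.Lib.Helper4
open Cfsg Cfsg.Agent.Lib.Helper1
universe u

section
variable {G : Type u} [Group G] [Finite G] {p : ℕ} [hp : Fact p.Prime]

/-- `Ω₁(Z(O_p(G)))` as an explicit subgroup -/
def omegaCenterCore (p : ℕ) (G : Type u) [Group G] : Subgroup G where
  carrier := {x | x ∈ pCore p G ∧ x ∈ Subgroup.centralizer (pCore p G : Set G) ∧ x ^ p = 1}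
  one_mem' := ⟨one_mem _, one_mem _, one_pow p⟩
  mul_mem' := by
    rintro x y ⟨hx1, hx2, hx3⟩ ⟨hy1, hy2, hy3⟩
    refine ⟨mul_mem hx1 hy1, mul_mem hx2 hy2, ?_⟩
    have hc : Commute x y := ((Subgroup.mem_centralizer_iff.mp hy2) x hx1)
    rw [hc.mul_pow, hx3, hy3, one_mul]
  inv_mem' := by
    rintro x ⟨hx1, hx2, hx3⟩
    exact ⟨inv_mem hx1, inv_mem hx2, by rw [inv_pow, hx3, inv_one]⟩

theorem omegaCenterCore_comm (x y : G) (hx : x ∈ omegaCenterCore p G)
    (hy : y ∈ omegaCenterCore p G) : x * y = y * x :=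
  ((Subgroup.mem_centralizer_iff.mp hy.2.1) x hx.1)

/-- the generators of `Ω₁(Z(S))` lie in `Ω₁(Z(O_p(G)))` when `C_G(O_p(G)) ≤ O_p(G)` -/
theorem gen_mem_omegaCenterCore
    (hc : Subgroup.centralizer (pCore p G : Set G) ≤ pCore p G) (S : Sylow p G) (x : G)
    (hxS : x ∈ (S : Subgroup G) ⊓ Subgroup.centralizer ((S : Subgroup G) : Set G))
    (hxp : x ^ p = 1) : x ∈ omegaCenterCore p G := by
  have hRn : (pCore p G).Normal := Cfsg.Agent.Lib.Helper27.pCore_normal p G
  have hRS : pCore p G ≤ (S : Subgroup G) :=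
    (Cfsg.Agent.Lib.Helper27.pCore_isPGroup p G).le_sylow_of_normal S
  have h1 : x ∈ Subgroup.centralizer (pCore p G : Set G) :=
    Subgroup.centralizer_le (by exact_mod_cast hRS) (Subgroup.mem_inf.mp hxS).2
  exact ⟨hc h1, h1, hxp⟩

theorem iSup_omega_le_omegaCenterCore
    (hc : Subgroup.centralizer (pCore p G : Set G) ≤ pCore p G) :
    (⨆ S : Sylow p G, omegaOne p (((S : Subgroup G)) ⊓
      Subgroup.centralizer ((S : Subgroup G) : Set G))) ≤ omegaCenterCore p G := by
  apply iSup_le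
  intro S
  rw [omegaOne, Subgroup.closure_le]
  rintro x ⟨hx1, hx2⟩
  exact gen_mem_omegaCenterCore hc S x hx1 hx2

theorem iSup_omega_normal :
    (⨆ S : Sylow p G, omegaOne p (((S : Subgroup G)) ⊓
      Subgroup.centralizer ((S : Subgroup G) : Set G))).Normal := by
  constructor
  intro x hx g
  refine Subgroup.iSup_induction (fun S : Sylow p G => omegaOne p (((S : Subgroup G)) ⊓
      Subgroup.centralizer ((S : Subgroup G) : Set G)))
    (C := fun x => g * x * g⁻¹ ∈ (⨆ S : Sylow p G, omegaOne p (((S : Subgroup G)) ⊓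
      Subgroup.centralizer ((S : Subgroup G) : Set G)))) hx ?_ ?_ ?_
  · intro S y hy
    rw [omegaOne] at hy
    refine Subgroup.closure_induction (p := fun y _ => g * y * g⁻¹ ∈
      (⨆ S : Sylow p G, omegaOne p (((S : Subgroup G)) ⊓
        Subgroup.centralizer ((S : Subgroup G) : Set G)))) ?_ ?_ ?_ ?_ hy
    · rintro z ⟨hz1, hz2⟩
      apply (le_iSup (fun S : Sylow p G => omegaOne p (((S : Subgroup G)) ⊓
        Subgroup.centralizer ((S : Subgroup G) : Set G))) (g • S))
      rw [omegaOne]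
      apply Subgroup.subset_closure
      refine ⟨?_, by rw [conj_pow, hz2, mul_one, mul_inv_cancel]⟩
      obtain ⟨hzS, hzC⟩ := Subgroup.mem_inf.mp hz1
      apply Subgroup.mem_inf.mpr
      constructor
      · rw [Sylow.coe_subgroup_smul, mem_conj_smul_iff]
        have : g⁻¹ * (g * z * g⁻¹) * g = z := by group
        rw [this]; exact hzS
      · rw [Subgroup.mem_centralizer_iff]
        intro y hy
        have hy' : y ∈ ((g • S : Sylow p G) : Subgroup G) := hy
        rw [Sylow.coe_subgroup_smul, mem_conj_smul_iff] at hy'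
        have h1 := (Subgroup.mem_centralizer_iff.mp hzC) _ hy'
        calc y * (g * z * g⁻¹) = g * ((g⁻¹ * y * g) * z) * g⁻¹ := by group
          _ = g * (z * (g⁻¹ * y * g)) * g⁻¹ := by rw [h1]
          _ = g * z * g⁻¹ * y := by group
    · simp
    · intro a b _ _ ha hb
      have : g * (a * b) * g⁻¹ = (g * a * g⁻¹) * (g * b * g⁻¹) := by group
      rw [this]; exact mul_mem ha hb
    · intro a _ ha
      have : g * a⁻¹ * g⁻¹ = (g * a * g⁻¹)⁻¹ := by group
      rw [this]; exact inv_mem ha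
  · simp
  · intro a b ha hb
    have : g * (a * b) * g⁻¹ = (g * a * g⁻¹) * (g * b * g⁻¹) := by group
    rw [this]; exact mul_mem ha hb

end

end Cfsg.Agent.Lib.Helper4
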