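import Mathlib
import Cfsg.Prelude.Def_PLocal
import Cfsg.Agent.Lib.Helper4.OmegaCenter1

set_option autoImplicit false
open Pointwise

namespace Cfsg.Agent.Lib.Helper4
open Cfsg Cfsg.Agent.Lib.Helper1
universe u

/-- no nontrivial normal `p`-subgroup of `G / C_G(V)` for `V = ⟨Ω₁(Z(S)) | S ∈ Syl_p(G)⟩` -/
theorem eq_centralizer_of_relIndex_pow {G : Type u} [Group G] [Finite G] {p : ℕ}
    [hp : Fact p.Prime] (V : Subgroup G) [hVn : V.Normal]
    (hV : V = ⨆ S : Sylow p G, omegaOne p (((S : Subgroup G)) ⊓
      Subgroup.centralizer ((S : Subgroup G) : Set G)))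
    (D : Subgroup G) (hDn : D.Normal) (hCD : Subgroup.centralizer (V : Set G) ≤ D) (k : ℕ)
    (hk : (Subgroup.centralizer (V : Set G)).relIndex D = p ^ k) :
    D = Subgroup.centralizer (V : Set G) := by
  set C := Subgroup.centralizer (V : Set G) with hC
  have hCn : C.Normal := Subgroup.normal_centralizer
  apply le_antisymm _ hCD
  intro d hd
  rw [hC, Subgroup.mem_centralizer_iff]
  intro v hv
  have hv' : v ∈ (V : Subgroup G) := hv
  rw [hV] at hv'
  refine Subgroup.iSup_induction (fun S : Sylow p G => omegaOne p (((S : Subgroup G)) ⊓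
      Subgroup.centralizer ((S : Subgroup G) : Set G)))
    (C := fun v => v * d = d * v) hv' ?_ ?_ ?_
  · intro S y hy
    -- D ≤ C ⊔ (S ⊓ D)
    set L := C ⊔ ((S : Subgroup G) ⊓ D) with hL
    have hLD : L ≤ D := sup_le hCD inf_le_right
    have h1 : L.relIndex D ∣ p ^ k := by
      rw [← hk]; exact Subgroup.relIndex_dvd_of_le_left D le_sup_left
    have h2 : L.relIndex D ∣ (S : Subgroup G).index := by
      have h3 : L.relIndex D ∣ ((S : Subgroup G) ⊓ D).relIndex D :=
        Subgroup.relIndex_dvd_of_le_left D le_sup_right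
      rw [Subgroup.inf_relIndex_right] at h3
      exact h3.trans (relIndex_dvd_index_of_normal_right (S : Subgroup G) D)
    have h4 : ((S : Subgroup G).index).Coprime (p ^ k) :=
      ((Nat.Prime.coprime_iff_not_dvd hp.out).mpr S.not_dvd_index).symm.pow_right k
    have h5 : L.relIndex D = 1 := Nat.eq_one_of_dvd_coprimes h4 h2 h1
    have hdL : d ∈ L := (Subgroup.relIndex_eq_one.mp h5) hd
    rw [hL, ← SetLike.mem_coe, Subgroup.normal_mul] at hdL
    obtain ⟨c, hc, t, ht, rfl⟩ := hdL
    have htS : t ∈ (S : Subgroup G) := (Subgroup.mem_inf.mp ht).1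
    rw [omegaOne] at hy
    refine Subgroup.closure_induction (p := fun y _ => y * (c * t) = (c * t) * y) ?_ ?_ ?_ ?_ hy
    · rintro z ⟨hz1, hz2⟩
      have hzV : z ∈ V := by
        rw [hV]
        apply (le_iSup (fun S : Sylow p G => omegaOne p (((S : Subgroup G)) ⊓
          Subgroup.centralizer ((S : Subgroup G) : Set G))) S)
        rw [omegaOne]
        exact Subgroup.subset_closure ⟨hz1, hz2⟩
      have e1 : z * c = c * z := (Subgroup.mem_centralizer_iff.mp hc) z hzV
      have e2 : t * z = z * t :=
        (Subgroup.mem_centralizer_iff.mp (Subgroup.mem_inf.mp hz1).2) t htS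
      calc z * (c * t) = (z * c) * t := by group
        _ = (c * z) * t := by rw [e1]
        _ = c * (z * t) := by group
        _ = c * (t * z) := by rw [e2]
        _ = c * t * z := by group
    · simp
    · intro a b _ _ ha hb
      calc a * b * (c * t) = a * (b * (c * t)) := by group
        _ = a * ((c * t) * b) := by rw [hb]
        _ = (a * (c * t)) * b := by group
        _ = ((c * t) * a) * b := by rw [ha]
        _ = c * t * (a * b) := by group
    · intro a _ ha
      calc a⁻¹ * (c * t) = a⁻¹ * ((c * t) * a) * a⁻¹ := by group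
        _ = a⁻¹ * (a * (c * t)) * a⁻¹ := by rw [ha]
        _ = c * t * a⁻¹ := by group
  · simp
  · intro a b ha hb
    calc a * b * d = a * (b * d) := by group
      _ = a * (d * b) := by rw [hb]
      _ = (a * d) * b := by group
      _ = (d * a) * b := by rw [ha]
      _ = d * (a * b) := by group

/-- S0601 -/
theorem omega_center_closure_props {G : Type u} [Group G] [Finite G] {p : ℕ} [hp : Fact p.Prime]
    (hc : Subgroup.centralizer (pCore p G : Set G) ≤ pCore p G) :
    (⨆ S : Sylow p G, omegaOne p (((S : Subgroup G)) ⊓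
      Subgroup.centralizer ((S : Subgroup G) : Set G))).Normal ∧
    IsElementaryAbelian p (⨆ S : Sylow p G, omegaOne p (((S : Subgroup G)) ⊓
      Subgroup.centralizer ((S : Subgroup G) : Set G))) ∧
    ∀ D : Subgroup G, D.Normal →
      Subgroup.centralizer ((⨆ S : Sylow p G, omegaOne p (((S : Subgroup G)) ⊓
        Subgroup.centralizer ((S : Subgroup G) : Set G)) : Subgroup G) : Set G) ≤ D →
      (∃ k : ℕ, (Subgroup.centralizer ((⨆ S : Sylow p G, omegaOne p (((S : Subgroup G)) ⊓
        Subgroup.centralizer ((S : Subgroup G) : Set G)) : Subgroup G) : Set G)).relIndex D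
          = p ^ k) →
      D = Subgroup.centralizer ((⨆ S : Sylow p G, omegaOne p (((S : Subgroup G)) ⊓
        Subgroup.centralizer ((S : Subgroup G) : Set G)) : Subgroup G) : Set G) := by
  have hn := iSup_omega_normal (G := G) (p := p)
  have hle := iSup_omega_le_omegaCenterCore (G := G) (p := p) hc
  refine ⟨hn, ⟨⟨⟨fun a b => Subtype.ext ?_⟩⟩, fun a ha => (hle ha).2.2⟩, ?_⟩
  · exact omegaCenterCore_comm (a : G) (b : G) (hle a.2) (hle b.2)
  · rintro D hDn hCD ⟨k, hk⟩
    exact eq_centralizer_of_relIndex_pow _ rfl D hDn hCD k hk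

end Cfsg.Agent.Lib.Helper4
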