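import Mathlib
import Cfsg.Prelude.Def_PLocal
import Cfsg.Agent.Lib.Helper1.Coprime
import Cfsg.Agent.Lib.Helper27.Thompson
import Cfsg.Agent.Lib.Helper4.OmegaCenter2

set_option autoImplicit false
open Pointwise

namespace Cfsg.Agent.Lib.Helper4
open Cfsg Cfsg.Agent.Lib.Helper1 Cfsg.Agent.Lib.Helper27
universe u

theorem isPGroup_of_isElementaryAbelian {G : Type u} [Group G] {p : ℕ} {A : Subgroup G}
    (hA : IsElementaryAbelian p A) : IsPGroup p A := fun a => ⟨1, by
  rw [pow_one]; exact Subtype.ext (by simpa using hA.2 a a.2)⟩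

/-- `J(S) ≤ J(G)` for a Sylow subgroup `S` -/
theorem thompsonSubgroupOf_sylow_le {G : Type u} [Group G] [Finite G] {p : ℕ} [Fact p.Prime]
    (S : Sylow p G) : thompsonSubgroupOf p (S : Subgroup G) ≤ thompsonSubgroup p G := by
  rw [thompsonSubgroupOf_eq, thompsonSubgroup]
  apply sSup_le
  intro A hA
  apply le_sSup
  refine ⟨hA.2.1, ?_⟩
  intro B hB
  obtain ⟨S', hBS'⟩ := (isPGroup_of_isElementaryAbelian hB).exists_le_sylow
  obtain ⟨g, hg⟩ := MulAction.exists_smul_eq G S' S
  have h1 : B.map (MulAut.conj g).toMonoidHom ≤ (S : Subgroup G) := by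
    rw [← hg, sylow_smul_eq_map]
    exact Subgroup.map_mono hBS'
  have h2 := hA.2.2 _ h1 (isElementaryAbelian_map_equiv (MulAut.conj g) hB)
  rwa [card_map_equiv] at h2

/-- a maximal elementary abelian subgroup of `G` inside a Sylow subgroup `S` lies in `J(S)` -/
theorem le_thompsonSubgroupOf_of_mem_max {G : Type u} [Group G] {p : ℕ}
    (S : Subgroup G) (A : Subgroup G) (hA : A ∈ maxElementaryAbelianSubgroups p G)
    (hAS : A ≤ S) : A ≤ thompsonSubgroupOf p S := by
  rw [thompsonSubgroupOf_eq]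
  exact le_sSup ⟨hAS, hA.1, fun B' _ hB' => hA.2 B' hB'⟩

theorem normalizer_le_normalizer_thompson {G : Type u} [Group G] {p : ℕ} (T : Subgroup G) :
    Subgroup.normalizer (T : Set G) ≤ Subgroup.normalizer (thompsonSubgroupOf p T : Set G) := by
  intro n hn
  rw [Subgroup.mem_normalizer_iff_map_conj_eq] at hn ⊢
  have h1 := thompsonSubgroupOf_map p (MulAut.conj n) T
  have h2 : T.map (MulAut.conj n).toMonoidHom = T := hn
  rw [h2] at h1
  exact h1.symm

end Cfsg.Agent.Lib.Helper4
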