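import Mathlib
import Cfsg.Agent.Lib.Helper4.SubnormalJoin

set_option autoImplicit false
open Pointwise

namespace Cfsg.Agent.Lib.Helper4
universe u

theorem isSubnormal_sSup {G : Type u} [Group G] [Finite G] (s : Set (Subgroup G))
    (hs : ∀ U ∈ s, U.IsSubnormal) : (sSup s).IsSubnormal := by
  have hfin : s.Finite := Set.toFinite s
  induction s, hfin using Set.Finite.induction_on with
  | empty => rw [sSup_empty]; exact Subgroup.IsSubnormal.bot
  | insert _ _ ih =>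
    rw [sSup_insert]
    exact isSubnormal_sup _ _ (hs _ (Set.mem_insert _ _))
      (ih (fun U hU => hs U (Set.mem_insert_of_mem _ hU)))

theorem exists_normalizes_sSup {G : Type u} [Group G] [Finite G] (S S₀ : Set (Subgroup G))
    (hS : ∀ U ∈ S, U.IsSubnormal) (hconj : ∀ U ∈ S, ∀ g : G, MulAut.conj g • U ∈ S)
    (h₀ : S₀ ⊂ S) :
    ∃ X ∈ S, X ∉ S₀ ∧ X ≤ Subgroup.normalizer ((sSup S₀ : Subgroup G) : Set G) := by
  set H : Subgroup G := sSup S₀ with hHdef
  have hHsn : H.IsSubnormal := isSubnormal_sSup S₀ (fun U hU => hS U (h₀.subset hU))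
  by_cases hT : ∃ X ∈ S, ¬ X ≤ H
  · -- minimal subnormal K ≥ H containing some X ∈ S with X ≰ H
    let 𝒦 : Set (Subgroup G) := {K | K.IsSubnormal ∧ H ≤ K ∧ ∃ X ∈ S, ¬ X ≤ H ∧ X ≤ K}
    have hne : 𝒦.Nonempty := by
      obtain ⟨X, hXS, hXH⟩ := hT
      exact ⟨⊤, Subgroup.IsSubnormal.top, le_top, X, hXS, hXH, le_top⟩
    obtain ⟨K, ⟨hKsn, hHK, X, hXS, hXH, hXK⟩, hmin⟩ := (wellFounded_lt (α := Subgroup G)).has_min 𝒦 hne
    refine ⟨X, hXS, fun hX0 => hXH (le_sSup hX0), hXK.trans ?_⟩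
    -- K ≤ N(H)
    have hHK' : (H.subgroupOf K).IsSubnormal := hHsn.subgroupOf
    have hne' : H.subgroupOf K ≠ ⊤ := by
      intro h
      rw [Subgroup.subgroupOf_eq_top] at h
      exact hXH (hXK.trans h)
    obtain ⟨K', hK'n, hHK'le, hK'lt⟩ := hHK'.exists_normal_and_le_and_lt_top_of_ne hne'
    set K₁ : Subgroup G := K'.map K.subtype with hK₁def
    have hK₁K : K₁ ≤ K := by
      rintro x ⟨y, _, rfl⟩; exact y.2
    have hHK₁ : H ≤ K₁ := by
      intro x hx
      exact ⟨⟨x, hHK hx⟩, hHK'le (Subgroup.mem_subgroupOf.mpr hx), rfl⟩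
    have hK₁lt : K₁ < K := by
      refine lt_of_le_of_ne hK₁K (fun h => hK'lt.ne ?_)
      rw [eq_top_iff]
      intro y _
      have : (y : G) ∈ K₁ := by rw [h]; exact y.2
      obtain ⟨z, hz, hzy⟩ := this
      have : z = y := Subtype.ext hzy
      rwa [← this]
    have hK₁sn : K₁.IsSubnormal := hK'n.isSubnormal.trans' hKsn
    have hK₁not : ∀ Y ∈ S, Y ≤ K₁ → Y ≤ H := by
      intro Y hYS hYK₁
      by_contra hYH
      exact hmin K₁ ⟨hK₁sn, hHK₁, Y, hYS, hYH, hYK₁⟩ hK₁lt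
    intro g hg
    apply Cfsg.Agent.Lib.Helper17.mem_normalizer_of_map_conj_le
    rw [Subgroup.map_le_iff_le_comap, hHdef]
    apply sSup_le
    intro U hU u hu
    rw [Subgroup.mem_comap]
    have hUS : U ∈ S := h₀.subset hU
    have h1 : MulAut.conj g • U ≤ K₁ := by
      intro x hx
      rw [Subgroup.mem_pointwise_smul_iff_inv_smul_mem] at hx
      have hx1 : (MulAut.conj g)⁻¹ • x ∈ K₁ := hHK₁ (le_sSup hU hx)
      obtain ⟨z, hz, hzx⟩ := hx1
      have h2 : (⟨g, hg⟩ : K) * z * (⟨g, hg⟩ : K)⁻¹ ∈ K' := hK'n.conj_mem z hz _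
      refine ⟨_, h2, ?_⟩
      simp only [Subgroup.subtype_apply, Subgroup.coe_mul, Subgroup.coe_inv]
      have hzx' : (z : G) = (MulAut.conj g)⁻¹ • x := hzx
      rw [hzx']
      simp only [MulAut.smul_def, MulAut.conj_inv_apply]
      group
    have h3 := hK₁not _ (hconj U hUS g) h1
    apply h3
    exact Subgroup.smul_mem_pointwise_smul u (MulAut.conj g) U hu
  · push Not at hT
    obtain ⟨X, hXS, hX0⟩ := Set.exists_of_ssubset h₀
    exact ⟨X, hXS, hX0, (hT X hXS).trans Subgroup.le_normalizer⟩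

end Cfsg.Agent.Lib.Helper4
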