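import Mathlib
import Cfsg.Prelude.Def_Transfer

/-!
# SF market (S2752, planner helper16): leaf `exists_compl_ea`
-/

set_option autoImplicit false
universe u v
open Cfsg

namespace Cfsg.Agent.Lib.Helper4.SFLeaf

section grp
variable {H : Type u} [Group H] [Finite H]

/-- **exists_compl_ea**: complements in an elementary abelian `p`-group. -/
theorem exists_compl_ea (p : ℕ) [Fact p.Prime] (A B : Subgroup H) (hAe : Cfsg.IsElementaryAbelian p A)
    (hBA : B ≤ A) : ∃ C : Subgroup H, C ≤ A ∧ C ⊓ B = ⊥ ∧ C ⊔ B = A := by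
  classical
  have hp : p.Prime := Fact.out
  haveI := hAe.1
  letI : CommGroup ↥A := { (inferInstance : Group ↥A) with mul_comm := fun a b => mul_comm' a b }
  set B' : Subgroup ↥A := B.subgroupOf A with hB'
  have hpow : ∀ x : ↥A, x ^ p = 1 := by
    intro x
    apply Subtype.ext
    rw [Subgroup.coe_pow, Subgroup.coe_one]
    exact hAe.2 x x.2
  -- a maximal subgroup meeting `B'` trivially
  have hfin : {C : Subgroup ↥A | C ⊓ B' = ⊥}.Finite := Set.toFinite _
  obtain ⟨C', hC'⟩ := hfin.exists_maximal ⟨⊥, by simp⟩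
  have hC'B : C' ⊓ B' = ⊥ := hC'.prop
  have htop : C' ⊔ B' = ⊤ := by
    by_contra hne
    obtain ⟨x, hx⟩ : ∃ x : ↥A, x ∉ C' ⊔ B' := by
      by_contra hcon
      simp only [not_exists, not_not] at hcon
      exact hne (eq_top_iff.2 fun x _ => hcon x)
    have hx1 : x ≠ 1 := by
      rintro rfl
      exact hx (Subgroup.one_mem _)
    have hox : orderOf x = p := orderOf_eq_prime (hpow x) hx1
    have hcardx : Nat.card (Subgroup.zpowers x) = p := by rw [Nat.card_zpowers, hox]
    have hkey : (C' ⊔ Subgroup.zpowers x) ⊓ B' = ⊥ := by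
      rw [eq_bot_iff]
      intro y hy
      obtain ⟨hy1, hy2⟩ := Subgroup.mem_inf.1 hy
      obtain ⟨c, hc, z, hz, rfl⟩ := Subgroup.mem_sup.1 hy1
      by_cases hz1 : z = 1
      · subst hz1
        rw [mul_one] at hy2 ⊢
        have : c ∈ C' ⊓ B' := Subgroup.mem_inf.2 ⟨hc, hy2⟩
        rwa [hC'B] at this
      · exfalso
        have hzle : Subgroup.zpowers z ≤ Subgroup.zpowers x := by
          rw [Subgroup.zpowers_le]; exact hz
        have hcz : Nat.card (Subgroup.zpowers z) = p := by
          have hdvd := Subgroup.card_dvd_of_le hzle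
          rw [hcardx] at hdvd
          rcases (Nat.dvd_prime hp).1 hdvd with h | h
          · exfalso
            rw [Nat.card_zpowers, orderOf_eq_one_iff] at h
            exact hz1 h
          · exact h
        have heq : Subgroup.zpowers z = Subgroup.zpowers x :=
          Subgroup.eq_of_le_of_card_ge hzle (by rw [hcz, hcardx])
        have hxz : x ∈ Subgroup.zpowers z := by rw [heq]; exact Subgroup.mem_zpowers x
        have hzin : z ∈ C' ⊔ B' := by
          have h1 : z = c⁻¹ * (c * z) := by group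
          rw [h1]
          exact Subgroup.mul_mem _ (Subgroup.mem_sup_left (C'.inv_mem hc))
            (Subgroup.mem_sup_right hy2)
        exact hx ((Subgroup.zpowers_le.2 hzin) hxz)
    have hle : C' ⊔ Subgroup.zpowers x ≤ C' := hC'.le_of_ge hkey le_sup_left
    exact hx (Subgroup.mem_sup_left (hle (Subgroup.mem_sup_right (Subgroup.mem_zpowers x))))
  refine ⟨C'.map A.subtype, Subgroup.map_subtype_le C', ?_, ?_⟩
  · rw [eq_bot_iff]
    intro h hh
    obtain ⟨hh1, hh2⟩ := Subgroup.mem_inf.1 hh
    obtain ⟨c, hc, rfl⟩ := Subgroup.mem_map.1 hh1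
    have hcB : c ∈ B' := by
      rw [hB', Subgroup.mem_subgroupOf]
      exact hh2
    have : c ∈ C' ⊓ B' := Subgroup.mem_inf.2 ⟨hc, hcB⟩
    rw [hC'B, Subgroup.mem_bot] at this
    rw [this]
    exact Subgroup.one_mem _
  · apply le_antisymm
    · exact sup_le (Subgroup.map_subtype_le C') hBA
    · intro h hh
      have hmem : (⟨h, hh⟩ : ↥A) ∈ C' ⊔ B' := by rw [htop]; exact Subgroup.mem_top _
      obtain ⟨c, hc, b, hb, hcb⟩ := Subgroup.mem_sup.1 hmem
      have hval : h = (c : H) * (b : H) := by
        have := congrArg (fun t : ↥A => (t : H)) hcb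
        simpa using this.symm
      rw [hval]
      refine Subgroup.mul_mem _ (Subgroup.mem_sup_left (Subgroup.mem_map.2 ⟨c, hc, rfl⟩))
        (Subgroup.mem_sup_right ?_)
      rw [hB', Subgroup.mem_subgroupOf] at hb
      exact hb

end grp

end Cfsg.Agent.Lib.Helper4.SFLeaf
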