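import Mathlib
import Cfsg.Prelude.Def_Local
import Cfsg.Prelude.Def_Transfer
import Cfsg.Agent.Lib.Helper9.Components
import Cfsg.Agent.Lib.Helper8.FStar

/-!
# SF market (S2752), leaf `diag`: the diagonal of the `C`-orbit of a component

`δ y := ∏_{c ∈ C} c y c⁻¹`, built with `MonoidHom.noncommPiCoprod`.
-/

set_option autoImplicit false
universe u
open Cfsg

namespace Cfsg.Agent.Lib.Helper4.SFLeaf

namespace DiagAux

variable {H : Type u} [Group H] (K C : Subgroup H)

/-- `y ↦ c y c⁻¹` on `K`. -/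
def phi (c : ↥C) : ↥K →* H := (MulAut.conj (c : H)).toMonoidHom.comp K.subtype

theorem phi_apply (c : ↥C) (y : ↥K) : phi K C c y = (c : H) * (y : H) * (c : H)⁻¹ := rfl

theorem phi_range (c : ↥C) : (phi K C c).range = K.map (MulAut.conj (c : H)).toMonoidHom := by
  unfold phi
  rw [MonoidHom.range_comp, Subgroup.range_subtype]

theorem map_conj_ne (hCK : C ⊓ Subgroup.normalizer (K : Set H) = ⊥) {c c' : ↥C} (hne : c ≠ c') :
    K.map (MulAut.conj (c : H)).toMonoidHom ≠ K.map (MulAut.conj (c' : H)).toMonoidHom := by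
  intro heq
  apply hne
  have hmem : ((c' : H)⁻¹ * (c : H)) ∈ C ⊓ Subgroup.normalizer (K : Set H) := by
    refine Subgroup.mem_inf.mpr ⟨C.mul_mem (C.inv_mem c'.2) c.2, ?_⟩
    rw [Subgroup.mem_normalizer_iff]
    intro h
    constructor
    · intro hh
      have h1 : (c : H) * h * (c : H)⁻¹ ∈ K.map (MulAut.conj (c : H)).toMonoidHom :=
        ⟨h, hh, rfl⟩
      rw [heq] at h1
      obtain ⟨k, hk, hk2⟩ := h1
      have hk3 : (c' : H) * k * (c' : H)⁻¹ = (c : H) * h * (c : H)⁻¹ := hk2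
      have : (c' : H)⁻¹ * (c : H) * h * ((c' : H)⁻¹ * (c : H))⁻¹ = k := by
        rw [mul_inv_rev, inv_inv]
        calc (c' : H)⁻¹ * (c : H) * h * ((c : H)⁻¹ * (c' : H))
            = (c' : H)⁻¹ * ((c : H) * h * (c : H)⁻¹) * (c' : H) := by group
          _ = (c' : H)⁻¹ * ((c' : H) * k * (c' : H)⁻¹) * (c' : H) := by rw [hk3]
          _ = k := by group
      rw [this]
      exact hk
    · intro hh
      have h1 : (c' : H) * ((c' : H)⁻¹ * (c : H) * h * ((c' : H)⁻¹ * (c : H))⁻¹) * (c' : H)⁻¹ ∈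
          K.map (MulAut.conj (c' : H)).toMonoidHom := ⟨_, hh, rfl⟩
      rw [← heq] at h1
      obtain ⟨k, hk, hk2⟩ := h1
      have hk3 : (c : H) * k * (c : H)⁻¹ =
          (c' : H) * ((c' : H)⁻¹ * (c : H) * h * ((c' : H)⁻¹ * (c : H))⁻¹) * (c' : H)⁻¹ := hk2
      have : h = k := by
        have h2 : (c : H) * k * (c : H)⁻¹ = (c : H) * h * (c : H)⁻¹ := by
          rw [hk3]; group
        have h3 := mul_right_cancel h2
        exact (mul_left_cancel h3).symm
      rw [this]
      exact hk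
  rw [hCK, Subgroup.mem_bot] at hmem
  have : (c : H) = (c' : H) := by
    have := inv_mul_eq_one.mp hmem
    exact this.symm
  exact Subtype.ext this

theorem hcomm (hK : Cfsg.IsComponent K) (hCK : C ⊓ Subgroup.normalizer (K : Set H) = ⊥) :
    Pairwise fun c c' : ↥C => ∀ (x y : ↥K), Commute (phi K C c x) (phi K C c' y) := by
  intro c c' hne x y
  have h1 := Cfsg.Agent.Lib.Helper9.components_commute _ _
    (Cfsg.Agent.Lib.Helper8.isComponent_map_conj hK (c : H))
    (Cfsg.Agent.Lib.Helper8.isComponent_map_conj hK (c' : H)) (map_conj_ne K C hCK hne)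
  have hx : phi K C c x ∈ K.map (MulAut.conj (c : H)).toMonoidHom := ⟨x, x.2, rfl⟩
  have hy : phi K C c' y ∈ K.map (MulAut.conj (c' : H)).toMonoidHom := ⟨y, y.2, rfl⟩
  have h2 := Subgroup.commutator_mem_commutator hx hy
  rw [h1, Subgroup.mem_bot, commutatorElement_eq_one_iff_commute] at h2
  exact h2

section fin
variable [Fintype ↥C] [DecidableEq ↥C]
variable (hc : Pairwise fun c c' : ↥C => ∀ (x y : ↥K), Commute (phi K C c x) (phi K C c' y))

/-- The product map `(C → K) →* H`. -/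
noncomputable def Phi : (↥C → ↥K) →* H := MonoidHom.noncommPiCoprod (phi K C) hc

/-- The diagonal `K →* (C → K)`. -/
def dg : ↥K →* (↥C → ↥K) := MonoidHom.pi (fun _ => MonoidHom.id ↥K)

theorem dg_apply (y : ↥K) (c : ↥C) : dg K C y c = y := rfl

/-- Translation of the index set by `c₀`. -/
def shift (c₀ : ↥C) : (↥C → ↥K) →* (↥C → ↥K) where
  toFun f := fun c => f (c₀⁻¹ * c)
  map_one' := rfl
  map_mul' _ _ := rfl

theorem shift_mulSingle (c₀ c : ↥C) (y : ↥K) :
    shift K C c₀ (Pi.mulSingle c y) = Pi.mulSingle (c₀ * c) y := by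
  funext d
  show (Pi.mulSingle c y : ↥C → ↥K) (c₀⁻¹ * d) = (Pi.mulSingle (c₀ * c) y : ↥C → ↥K) d
  rw [Pi.mulSingle_apply, Pi.mulSingle_apply]
  by_cases hd : d = c₀ * c
  · subst hd
    rw [if_pos (by group), if_pos rfl]
  · rw [if_neg, if_neg hd]
    intro h
    apply hd
    rw [← h]
    group

theorem shift_dg (c₀ : ↥C) (y : ↥K) : shift K C c₀ (dg K C y) = dg K C y := rfl

theorem conj_Phi (c₀ : ↥C) :
    (MulAut.conj (c₀ : H)).toMonoidHom.comp (Phi K C hc) = (Phi K C hc).comp (shift K C c₀) := by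
  apply MonoidHom.pi_ext
  intro c y
  show (c₀ : H) * (Phi K C hc (Pi.mulSingle c y)) * (c₀ : H)⁻¹ =
    Phi K C hc (shift K C c₀ (Pi.mulSingle c y))
  rw [shift_mulSingle]
  unfold Phi
  rw [MonoidHom.noncommPiCoprod_mulSingle, MonoidHom.noncommPiCoprod_mulSingle, phi_apply,
    phi_apply]
  push_cast
  group

/-- The diagonal map `δ`. -/
noncomputable def delta : ↥K →* H := (Phi K C hc).comp (dg K C)

theorem delta_comm (c₀ : H) (hc₀ : c₀ ∈ C) (y : ↥K) :
    c₀ * delta K C hc y = delta K C hc y * c₀ := by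
  have h1 := congrArg (fun f : (↥C → ↥K) →* H => f (dg K C y)) (conj_Phi K C hc ⟨c₀, hc₀⟩)
  have h2 : c₀ * (Phi K C hc (dg K C y)) * c₀⁻¹ = Phi K C hc (dg K C y) := h1
  show c₀ * Phi K C hc (dg K C y) = Phi K C hc (dg K C y) * c₀
  calc c₀ * Phi K C hc (dg K C y) = c₀ * Phi K C hc (dg K C y) * c₀⁻¹ * c₀ := by group
    _ = Phi K C hc (dg K C y) * c₀ := by rw [h2]

theorem delta_equivariant (g : H) (hg : ∀ c ∈ C, g * c = c * g) (y z : ↥K)
    (hyz : g * (y : H) * g⁻¹ = (z : H)) : g * delta K C hc y * g⁻¹ = delta K C hc z := by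
  show (MulAut.conj g).toMonoidHom (Phi K C hc (dg K C y)) = Phi K C hc (dg K C z)
  unfold Phi
  rw [MonoidHom.noncommPiCoprod_apply, MonoidHom.noncommPiCoprod_apply, Finset.map_noncommProd]
  apply Finset.noncommProd_congr rfl
  intro c _
  show g * (phi K C c (dg K C y c)) * g⁻¹ = phi K C c (dg K C z c)
  rw [dg_apply, dg_apply, phi_apply, phi_apply, ← hyz]
  have h1 := hg c c.2
  have h2 : g⁻¹ * (c : H)⁻¹ = (c : H)⁻¹ * g⁻¹ := by
    rw [← mul_inv_rev, ← mul_inv_rev, h1]
  calc g * ((c : H) * (y : H) * (c : H)⁻¹) * g⁻¹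
      = (g * (c : H)) * (y : H) * ((c : H)⁻¹ * g⁻¹) := by group
    _ = ((c : H) * g) * (y : H) * (g⁻¹ * (c : H)⁻¹) := by rw [h1, h2]
    _ = (c : H) * (g * (y : H) * g⁻¹) * (c : H)⁻¹ := by group

theorem delta_mem (y : ↥K) :
    delta K C hc y ∈ ⨆ c : ↥C, K.map (MulAut.conj (c : H)).toMonoidHom := by
  have h1 : delta K C hc y ∈ (Phi K C hc).range := ⟨dg K C y, rfl⟩
  unfold Phi at h1
  rw [MonoidHom.noncommPiCoprod_range] at h1
  simp only [phi_range] at h1
  exact h1

theorem delta_eq_mul (y : ↥K) :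
    ∃ r : H, delta K C hc y = (y : H) * r ∧ ∀ k ∈ K, r * k = k * r := by
  refine ⟨Phi K C hc (Function.update (dg K C y) 1 1), ?_, ?_⟩
  · have h1 : dg K C y = Pi.mulSingle 1 y * Function.update (dg K C y) 1 1 := by
      funext c
      rw [Pi.mul_apply, Pi.mulSingle_apply]
      by_cases hc1 : c = 1
      · subst hc1
        rw [if_pos rfl, Function.update_self, mul_one, dg_apply]
      · rw [if_neg hc1, Function.update_of_ne hc1, one_mul]
    show Phi K C hc (dg K C y) = _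
    conv_lhs => rw [h1]
    rw [map_mul]
    congr 1
    unfold Phi
    rw [MonoidHom.noncommPiCoprod_mulSingle, phi_apply]
    simp
  · intro k hk
    have h1 : Commute k (Phi K C hc (Function.update (dg K C y) 1 1)) := by
      unfold Phi
      rw [MonoidHom.noncommPiCoprod_apply]
      apply Finset.noncommProd_commute
      intro c _
      by_cases hc1 : c = 1
      · subst hc1
        rw [Function.update_self, map_one]
        exact Commute.one_right k
      · rw [Function.update_of_ne hc1]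
        have h2 := hc (Ne.symm hc1) ⟨k, hk⟩ (dg K C y c)
        have h3 : phi K C 1 ⟨k, hk⟩ = k := by
          rw [phi_apply]; simp
        rw [h3] at h2
        exact h2
    exact h1.eq.symm

theorem delta_ker : (delta K C hc).ker ≤ Subgroup.center ↥K := by
  intro y hy
  rw [MonoidHom.mem_ker] at hy
  obtain ⟨r, hr1, hr2⟩ := delta_eq_mul K C hc y
  rw [hy] at hr1
  have hyr : (y : H) = r⁻¹ := eq_inv_of_mul_eq_one_left hr1.symm
  rw [Subgroup.mem_center_iff]
  intro k
  apply Subtype.ext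
  show (k : H) * (y : H) = (y : H) * (k : H)
  rw [hyr]
  have := hr2 k k.2
  calc (k : H) * r⁻¹ = r⁻¹ * (r * (k : H)) * r⁻¹ := by group
    _ = r⁻¹ * ((k : H) * r) * r⁻¹ := by rw [this]
    _ = r⁻¹ * (k : H) := by group

end fin

end DiagAux

section grp
variable {H : Type u} [Group H] [Finite H]

/-- **diag** (the diagonal of the `C`-orbit of a component). -/
theorem diag (K : Subgroup H) (hK : Cfsg.IsComponent K) (C : Subgroup H)
    (hC : Cfsg.IsElementaryAbelian 2 C) (hCK : C ⊓ Subgroup.normalizer (K : Set H) = ⊥) :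
    ∃ δ : ↥K →* H,
      (∀ c ∈ C, ∀ y : ↥K, c * δ y = δ y * c) ∧
      (∀ g : H, (∀ c ∈ C, g * c = c * g) → ∀ y z : ↥K, g * (y : H) * g⁻¹ = (z : H) → g * δ y * g⁻¹ = δ z) ∧
      δ.ker ≤ Subgroup.center ↥K ∧
      (∀ y : ↥K, δ y ∈ ⨆ c : ↥C, K.map (MulAut.conj (c : H)).toMonoidHom) ∧
      (∀ y : ↥K, ∃ r : H, δ y = (y : H) * r ∧ ∀ k ∈ K, r * k = k * r) := by
  classical
  haveI : Fintype ↥C := Fintype.ofFinite _
  have hc := DiagAux.hcomm K C hK hCK
  exact ⟨DiagAux.delta K C hc, fun c hcC y => DiagAux.delta_comm K C hc c hcC y,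
    fun g hg y z hyz => DiagAux.delta_equivariant K C hc g hg y z hyz,
    DiagAux.delta_ker K C hc, fun y => DiagAux.delta_mem K C hc y,
    fun y => DiagAux.delta_eq_mul K C hc y⟩

end grp

end Cfsg.Agent.Lib.Helper4.SFLeaf
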