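import Mathlib

/-!
# SF market (S2752, planner helper16): leaf `card_le_two_mul`
-/

set_option autoImplicit false
universe u v

namespace Cfsg.Agent.Lib.Helper4.SFLeaf

section grp
variable {H : Type u} [Group H] [Finite H]

/-- **card_le_two_mul**: `B ⊔ ⟨a⟩ = B ∪ aB` when `a² = 1` commutes with `B`. -/
theorem card_le_two_mul (A B : Subgroup H) (a : H) (ha : a * a = 1) (hBa : ∀ b ∈ B, b * a = a * b)
    (hAB : A ≤ B ⊔ Subgroup.zpowers a) : Nat.card A ≤ 2 * Nat.card B := by
  classical
  have hinv : a⁻¹ = a := inv_eq_of_mul_eq_one_left ha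
  let T : Subgroup H :=
    { carrier := {x | x ∈ B ∨ x * a ∈ B}
      one_mem' := Or.inl B.one_mem
      mul_mem' := by
        rintro x y (hx | hx) (hy | hy)
        · exact Or.inl (B.mul_mem hx hy)
        · right
          rw [mul_assoc]
          exact B.mul_mem hx hy
        · right
          have : x * y * a = x * a * y := by rw [mul_assoc, hBa y hy, ← mul_assoc]
          rw [this]
          exact B.mul_mem hx hy
        · left
          have h1 : y = y * a * a := by rw [mul_assoc, ha, mul_one]
          have : x * y = x * a * (y * a) := by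
            rw [mul_assoc x a, ← hBa (y * a) hy, ← h1]
          rw [this]
          exact B.mul_mem hx hy
      inv_mem' := by
        rintro x (hx | hx)
        · exact Or.inl (B.inv_mem hx)
        · right
          have hb := hBa _ (B.inv_mem hx)
          have hx' : x = x * a * a := by rw [mul_assoc, ha, mul_one]
          have h1 : x⁻¹ * a = (x * a)⁻¹ := by
            calc x⁻¹ * a = (x * a * a)⁻¹ * a := by rw [← hx']
              _ = a * ((x * a)⁻¹ * a) := by rw [mul_inv_rev (x * a) a, hinv, mul_assoc]
              _ = a * (a * (x * a)⁻¹) := by rw [hb]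
              _ = (x * a)⁻¹ := by rw [← mul_assoc, ha, one_mul]
          rw [h1]
          exact B.inv_mem hx }
  have hBT : B ≤ T := fun x hx => Or.inl hx
  have haT : Subgroup.zpowers a ≤ T := by
    rw [Subgroup.zpowers_le]
    exact Or.inr (by rw [ha]; exact B.one_mem)
  have hAT : A ≤ T := hAB.trans (sup_le hBT haT)
  have h1 : Nat.card A ≤ Nat.card T := Subgroup.card_le_of_le hAT
  have h2 : Nat.card T ≤ Nat.card (↥B × Bool) := by
    refine Nat.card_le_card_of_injective
      (fun x : T => if h : (x : H) ∈ B then ((⟨x, h⟩ : B), false)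
        else ((⟨(x : H) * a, x.2.resolve_left h⟩ : B), true)) ?_
    intro x y hxy
    by_cases hx : (x : H) ∈ B <;> by_cases hy : (y : H) ∈ B
    · simp only [hx, hy, dite_true, Prod.mk.injEq, Subtype.mk.injEq, and_true] at hxy
      exact Subtype.ext hxy
    · simp [hx, hy] at hxy
    · simp [hx, hy] at hxy
    · simp only [hx, hy, dite_false, Prod.mk.injEq, Subtype.mk.injEq, and_true] at hxy
      exact Subtype.ext (mul_right_cancel hxy)
  have h3 : Nat.card (↥B × Bool) = 2 * Nat.card B := by
    rw [Nat.card_prod, Nat.card_eq_fintype_card (α := Bool), Fintype.card_bool, mul_comm]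
  omega

end grp

end Cfsg.Agent.Lib.Helper4.SFLeaf
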