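import Mathlib
import Cfsg.Prelude.Def_Blocks
import Cfsg.Agent.Lib.Helper24.PrincipalPairs

/-!
# S4551 leaf L5 (helper4): the hypotheses of Alperin–Dade pass to every intermediate subgroup
`N ≤ X`, and members of `B₀(N)` transport to `B₀(N.subgroupOf X)`.
-/

set_option autoImplicit false

namespace Cfsg.Agent.Lib.Helper4.AlpDade

open Cfsg Cfsg.Agent.Lib.Helper24

universe u
variable {G : Type u} [Group G] [Finite G]

/-- A normal subgroup of index prime to `p` contains every Sylow `p`-subgroup. -/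
theorem sylow_le_of_not_dvd_index (p : ℕ) [hp : Fact p.Prime] (N : Subgroup G) [N.Normal]
    (hidx : ¬ p ∣ N.index) (P : Sylow p G) : (P : Subgroup G) ≤ N := by
  intro x hx
  obtain ⟨k, hk⟩ := P.isPGroup' ⟨x, hx⟩
  have hk' : x ^ p ^ k = 1 := by simpa using congrArg Subtype.val hk
  have h1 : orderOf (x : G ⧸ N) ∣ p ^ k := by
    apply orderOf_dvd_of_pow_eq_one
    rw [← QuotientGroup.mk_pow, hk']
    rfl
  have h2 : orderOf (x : G ⧸ N) ∣ N.index := by
    rw [Subgroup.index_eq_card]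
    exact orderOf_dvd_natCard _
  have hcop : Nat.Coprime (p ^ k) N.index :=
    Nat.Coprime.pow_left _ ((Nat.Prime.coprime_iff_not_dvd hp.out).2 hidx)
  have h3 : orderOf (x : G ⧸ N) = 1 := Nat.eq_one_of_dvd_coprimes hcop h1 h2
  rw [orderOf_eq_one_iff, QuotientGroup.eq_one_iff] at h3
  exact h3

theorem hyp_subgroup (p : ℕ) [Fact p.Prime] (M : Ideal AlgInt)
    (N : Subgroup G) [N.Normal] (hidx : ¬ p ∣ N.index) (P : Sylow p G)
    (hsup : N ⊔ Subgroup.centralizer ((P : Subgroup G) : Set G) = ⊤)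
    (X : Subgroup G) (hNX : N ≤ X) :
    (N.subgroupOf X).Normal ∧ ¬ p ∣ (N.subgroupOf X).index ∧
    (N.subgroupOf X).index * X.index = N.index ∧
    ∃ P' : Sylow p X, (N.subgroupOf X) ⊔ Subgroup.centralizer ((P' : Subgroup X) : Set X) = ⊤ ∧
      ∀ θ : IrrCharacter N, θ ∈ principalBlock M N →
        ∃ θ' : IrrCharacter (N.subgroupOf X), θ' ∈ principalBlock M (N.subgroupOf X) ∧
          ∀ (n : N.subgroupOf X),
            (θ' : N.subgroupOf X → ℂ) n = (θ : N → ℂ) ⟨(n : X), n.2⟩ := by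
  classical
  have hmul : (N.subgroupOf X).index * X.index = N.index := Subgroup.relIndex_mul_index hNX
  have hPN : (P : Subgroup G) ≤ N := sylow_le_of_not_dvd_index p N hidx P
  have hPX : (P : Subgroup G) ≤ X := hPN.trans hNX
  refine ⟨inferInstance, fun h => hidx (hmul ▸ Dvd.dvd.mul_right h _), hmul,
    P.subtype hPX, ?_, ?_⟩
  · rw [eq_top_iff]
    rintro ⟨x, hx⟩ -
    have hg : x ∈ N ⊔ Subgroup.centralizer ((P : Subgroup G) : Set G) := by
      rw [hsup]; exact Subgroup.mem_top x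
    obtain ⟨n, hn, c, hc, hnc⟩ := Subgroup.mem_sup_of_normal_left.1 hg
    have hnX : n ∈ X := hNX hn
    have hcX : c ∈ X := by
      have : c = n⁻¹ * x := by rw [← hnc]; group
      rw [this]
      exact X.mul_mem (X.inv_mem hnX) hx
    have hx' : (⟨x, hx⟩ : X) = ⟨n, hnX⟩ * ⟨c, hcX⟩ := Subtype.ext hnc.symm
    rw [hx']
    apply Subgroup.mul_mem_sup
    · rw [Subgroup.mem_subgroupOf]; exact hn
    · rw [Subgroup.mem_centralizer_iff]
      intro y hy
      have hy' : (y : G) ∈ (P : Subgroup G) := by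
        have : y ∈ ((P.subtype hPX : Sylow p X) : Subgroup X) := hy
        rw [Sylow.coe_subtype, Subgroup.mem_subgroupOf] at this
        exact this
      apply Subtype.ext
      exact Subgroup.mem_centralizer_iff.1 hc (y : G) hy'
  · intro θ hθ
    refine ⟨irrCompIso (Subgroup.subgroupOfEquivOfLe hNX) θ, ?_, fun n => rfl⟩
    have h1 : SameBlock M (fun _ : N => (1 : ℂ)) (θ : N → ℂ) := hθ
    exact sameBlock_compIso M (Subgroup.subgroupOfEquivOfLe hNX) h1

end Cfsg.Agent.Lib.Helper4.AlpDade
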