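/-
helper4: leaf T2P-SQ of the S4707 market (helper26, notes/S4707_leaves.lean).
-/
import Mathlib
import Cfsg.Agent.Lib.Helper19.PDegC

set_option autoImplicit false

namespace Cfsg.Agent.Lib.Helper4.T2PSQ

open Cfsg Cfsg.Agent.CharLib Cfsg.Agent.Lib.Helper19.PDeg
open scoped ComplexConjugate

universe u v

variable {G : Type u} [Group G] [Finite G] {p : ℕ} [hp : Fact p.Prime]

variable {P : Subgroup G} {χ χ₁ : IrrCharacter G} {Y : Finset (IrrCharacter G)}

/-- T2P-SQ: `χ² = χ η + 1 + η` (pointwise; `by_cases p ∣ orderOf g`, `h.sing` / `h.reg`). -/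
theorem sq_eq (h : BlockData p P χ χ₁ Y) (η : IrrCharacter G) (hη : η ∈ Y) (g : G) :
    (χ : G → ℂ) g * (χ : G → ℂ) g =
      (χ : G → ℂ) g * (η : G → ℂ) g + 1 + (η : G → ℂ) g := by
  by_cases hg : p ∣ orderOf g
  · rw [h.sing g hg]; ring
  · rw [h.reg η hη g hg]; ring

end Cfsg.Agent.Lib.Helper4.T2PSQ
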