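/-
helper4: leaf T2P-B1A of the S4707 market (helper26, notes/S4707_leaves.lean).
-/
import Mathlib
import Cfsg.Agent.Lib.Helper19.PDegC
import Cfsg.Agent.Lib.Lead.CharEquiv
import Cfsg.Agent.Lib.Helper4.T2PSQ

set_option autoImplicit false

namespace Cfsg.Agent.Lib.Helper4.T2PB1A

open Cfsg Cfsg.Agent.CharLib Cfsg.Agent.Lib.Helper19.PDeg
open scoped ComplexConjugate

universe u v

variable {G : Type u} [Group G] [Finite G] {p : ℕ} [hp : Fact p.Prime]

variable {P : Subgroup G} {χ χ₁ : IrrCharacter G} {Y : Finset (IrrCharacter G)}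

/-- T2P-B1A: `<χ², χ> = <χ², η> ≥ 1` for `η ∈ Y`. -/
theorem inner_sq [Fintype G] (h : BlockData p P χ χ₁ Y)
    (hreal : ∀ g : G, conj ((χ : G → ℂ) g) = (χ : G → ℂ) g)
    (η : IrrCharacter G) (hη : η ∈ Y) :
    ∃ b : ℕ, 1 ≤ b ∧
      classInner (fun g => (χ : G → ℂ) g * (χ : G → ℂ) g) (χ : G → ℂ) = (b : ℂ) ∧
      classInner (fun g => (χ : G → ℂ) g * (χ : G → ℂ) g) (η : G → ℂ) = (b : ℂ) := by
  have hχc : IsCharacter G (χ : G → ℂ) := IsIrrCharacter.isCharacter χ.2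
  have hηc : IsCharacter G (η : G → ℂ) := IsIrrCharacter.isCharacter η.2
  have hΦ : IsCharacter G (fun g => (χ : G → ℂ) g * (χ : G → ℂ) g) := IsCharacter.mul hχc hχc
  have hΨ : IsCharacter G (fun g => (χ : G → ℂ) g * (η : G → ℂ) g) := IsCharacter.mul hχc hηc
  obtain ⟨b, hb⟩ := IsCharacter.classInner_nat hΦ hχc
  obtain ⟨c, hc⟩ := IsCharacter.classInner_nat hΦ hηc
  obtain ⟨e, he⟩ := IsCharacter.classInner_nat hΨ hηc
  have hηχ : η ≠ χ := fun heq => h.not_mem (heq ▸ hη)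
  have hηχ₁ : η ≠ χ₁ := fun heq => h.not_mem₁ (heq ▸ hη)
  -- `χ² = χ η + 1 + η`
  have hdec : (fun g => (χ : G → ℂ) g * (χ : G → ℂ) g) =
      (fun g => (χ : G → ℂ) g * (η : G → ℂ) g) + (χ₁ : G → ℂ) + (η : G → ℂ) := by
    funext g
    rw [Pi.add_apply, Pi.add_apply, h.triv]
    exact Cfsg.Agent.Lib.Helper4.T2PSQ.sq_eq h η hη g
  -- `<χ², χ> = <χ η, χ>`
  have h1 : classInner (fun g => (χ : G → ℂ) g * (χ : G → ℂ) g) (χ : G → ℂ) =
      classInner (fun g => (χ : G → ℂ) g * (η : G → ℂ) g) (χ : G → ℂ) := by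
    conv_lhs => rw [hdec]
    rw [classInner_add_left, classInner_add_left, classInner_irr', classInner_irr',
      if_neg h.ne.symm, if_neg hηχ, add_zero, add_zero]
  -- `<χ η, χ> = conj <χ², η>`
  have h2 : classInner (fun g => (χ : G → ℂ) g * (η : G → ℂ) g) (χ : G → ℂ) =
      conj (classInner (fun g => (χ : G → ℂ) g * (χ : G → ℂ) g) (η : G → ℂ)) := by
    rw [classInner_conj_symm]
    unfold classInner
    congr 1
    apply Finset.sum_congr rfl
    intro g _
    rw [map_mul, hreal g]; ring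
  -- `<χ², η> = <χ η, η> + 1`
  have h3 : classInner (fun g => (χ : G → ℂ) g * (χ : G → ℂ) g) (η : G → ℂ) =
      classInner (fun g => (χ : G → ℂ) g * (η : G → ℂ) g) (η : G → ℂ) + 1 := by
    conv_lhs => rw [hdec]
    rw [classInner_add_left, classInner_add_left, classInner_irr', classInner_irr',
      if_neg hηχ₁.symm, if_pos rfl, add_zero]
  have hbc : b = c := by
    have : (b : ℂ) = (c : ℂ) := by
      rw [← hb, h1, h2, hc, Complex.conj_natCast]
    exact_mod_cast this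
  have hce : c = e + 1 := by
    have : (c : ℂ) = ((e + 1 : ℕ) : ℂ) := by
      rw [← hc, h3, he]; push_cast; ring
    exact_mod_cast this
  refine ⟨b, by omega, hb, ?_⟩
  rw [hc, hbc]

end Cfsg.Agent.Lib.Helper4.T2PB1A
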