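/-
helper4: leaf T2P-B1B of the S4707 market (helper26, notes/S4707_leaves.lean).
-/
import Mathlib
import Cfsg.Agent.Lib.Helper19.PDegC
import Cfsg.Agent.Lib.Helper6.CharExtra

set_option autoImplicit false

namespace Cfsg.Agent.Lib.Helper4.T2PB1B

open Cfsg Cfsg.Agent.CharLib Cfsg.Agent.Lib.Helper19.PDeg
open scoped ComplexConjugate

universe u v

variable {G : Type u} [Group G] [Finite G] {p : ℕ} [hp : Fact p.Prime]

variable {P : Subgroup G} {χ χ₁ : IrrCharacter G} {Y : Finset (IrrCharacter G)}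

/-- T2P-B1B: the degree count forces `b = 1`. -/
theorem inner_sq_eq_one [Fintype G] (h : BlockData p P χ χ₁ Y) (hp5 : 5 ≤ p)
    (b : ℕ) (hb1 : 1 ≤ b)
    (hbχ : classInner (fun g => (χ : G → ℂ) g * (χ : G → ℂ) g) (χ : G → ℂ) = (b : ℂ))
    (hbY : ∀ η ∈ Y, classInner (fun g => (χ : G → ℂ) g * (χ : G → ℂ) g) (η : G → ℂ) = (b : ℂ)) :
    b = 1 := by
  classical
  letI : Fintype (IrrCharacter G) := fintypeIrr G
  have hpp : p.Prime := hp.out
  have hχc : IsCharacter G (χ : G → ℂ) := IsIrrCharacter.isCharacter χ.2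
  have hΦ : IsCharacter G (fun g => (χ : G → ℂ) g * (χ : G → ℂ) g) := IsCharacter.mul hχc hχc
  obtain ⟨m, hm, hmi⟩ := Cfsg.Agent.Lib.Helper6.IsCharacter.exists_decomp_sum hΦ
  -- the degrees
  have hdeg : ∀ ψ : IrrCharacter G, ∃ k : ℕ, (ψ : G → ℂ) 1 = (k : ℂ) := by
    intro ψ
    obtain ⟨k, _, hk⟩ := IsIrrCharacter.apply_one_pos ψ.2
    exact ⟨k, hk⟩
  choose dg hdg using hdeg
  have hdχ : dg χ = p - 1 := by
    have : (dg χ : ℂ) = ((p - 1 : ℕ) : ℂ) := by
      rw [← hdg χ, h.deg, Nat.cast_sub hpp.one_lt.le]; push_cast; ring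
    exact_mod_cast this
  have hdη : ∀ η ∈ Y, dg η = p - 2 := by
    intro η hη
    have : (dg η : ℂ) = ((p - 2 : ℕ) : ℂ) := by
      rw [← hdg η, h.exc_deg η hη, Nat.cast_sub (by omega : 2 ≤ p)]; push_cast; ring
    exact_mod_cast this
  have hmχ : m χ = b := by
    have : (m χ : ℂ) = (b : ℂ) := by rw [← hmi χ, hbχ]
    exact_mod_cast this
  have hmη : ∀ η ∈ Y, m η = b := by
    intro η hη
    have : (m η : ℂ) = (b : ℂ) := by rw [← hmi η, hbY η hη]
    exact_mod_cast this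
  -- evaluate at `1`
  have h1 : (p - 1) ^ 2 = ∑ ψ : IrrCharacter G, m ψ * dg ψ := by
    have h2 := congrFun hm 1
    simp only [Finset.sum_apply, Pi.smul_apply] at h2
    simp only [nsmul_eq_mul] at h2
    rw [h.deg] at h2
    have : (((p - 1) ^ 2 : ℕ) : ℂ) = ((∑ ψ : IrrCharacter G, m ψ * dg ψ : ℕ) : ℂ) := by
      push_cast
      rw [Nat.cast_sub hpp.one_lt.le]
      push_cast
      rw [pow_two, h2]
      apply Finset.sum_congr rfl
      intro ψ _
      rw [hdg ψ]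
    exact_mod_cast this
  -- the part over `{χ} ∪ Y`
  have h3 : ∑ ψ ∈ insert χ Y, m ψ * dg ψ ≤ ∑ ψ : IrrCharacter G, m ψ * dg ψ :=
    Finset.sum_le_sum_of_subset (Finset.subset_univ _)
  rw [Finset.sum_insert h.not_mem, hmχ, hdχ] at h3
  have h4 : ∑ η ∈ Y, m η * dg η = Y.card * (b * (p - 2)) := by
    rw [Finset.sum_congr rfl (fun η hη => by rw [hmη η hη, hdη η hη] :
      ∀ η ∈ Y, m η * dg η = b * (p - 2)), Finset.sum_const, smul_eq_mul]
  rw [h4, h.card, ← h1] at h3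
  -- arithmetic
  by_contra hb
  have hb2 : 2 ≤ b := by omega
  have hodd : p % 2 = 1 := by
    rcases hpp.eq_two_or_odd with h2 | h2
    · omega
    · exact h2
  obtain ⟨q, hq⟩ : ∃ q, p = q + 2 := ⟨p - 2, by omega⟩
  obtain ⟨t, ht⟩ : ∃ t, (p - 1) / 2 = t := ⟨_, rfl⟩
  have ht2 : 2 * t = q + 1 := by omega
  rw [ht] at h3
  have e1 : p - 1 = q + 1 := by omega
  have e2 : p - 2 = q := by omega
  rw [e1, e2] at h3
  have h5 : 2 * (q + 1) + t * (2 * q) ≤ b * (q + 1) + t * (b * q) := by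
    have := Nat.mul_le_mul_right (q + 1) hb2
    have h6 : t * (2 * q) ≤ t * (b * q) := Nat.mul_le_mul_left t (Nat.mul_le_mul_right q hb2)
    omega
  have h7 : t * (2 * q) = (q + 1) * q := by rw [← ht2]; ring
  nlinarith

end Cfsg.Agent.Lib.Helper4.T2PB1B
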