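/-
helper4: leaf T2P-MOM of the S4707 market (helper26, notes/S4707_leaves.lean).
-/
import Mathlib
import Cfsg.Agent.Lib.Helper19.PDegC

set_option autoImplicit false

namespace Cfsg.Agent.Lib.Helper4.T2PMOM

open Cfsg Cfsg.Agent.CharLib Cfsg.Agent.Lib.Helper19.PDeg
open scoped ComplexConjugate

universe u v

variable {G : Type u} [Group G] [Finite G] {p : ℕ} [hp : Fact p.Prime]

variable {P : Subgroup G} {χ χ₁ : IrrCharacter G} {Y : Finset (IrrCharacter G)}

omit [Finite G] in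
/-- a sum over the group from a `classInner` -/
theorem sum_eq_of_classInner [Fintype G] (φ ψ : G → ℂ) (c : ℂ) (h : classInner φ ψ = c) :
    ∑ g : G, φ g * conj (ψ g) = (Nat.card G : ℂ) * c := by
  have hne : (Nat.card G : ℂ) ≠ 0 := card_ne_zero_complex
  unfold classInner at h
  rw [← h]; field_simp

/-- the sum of a non-trivial irreducible character vanishes -/
theorem sum_irr_eq_zero [Fintype G] (h : BlockData p P χ χ₁ Y) (ψ : IrrCharacter G) (hψ : ψ ≠ χ₁) :
    ∑ g : G, (ψ : G → ℂ) g = 0 := by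
  have h1 := sum_eq_of_classInner (ψ : G → ℂ) (χ₁ : G → ℂ) 0 (by rw [classInner_irr', if_neg hψ])
  rw [mul_zero] at h1
  rw [← h1]
  apply Finset.sum_congr rfl
  intro g _
  rw [h.triv]; simp

/-- T2P-MOM: the first three moments of `χ` (`χ ≠ 1`, `χ` real, `<χ²,χ> = 1`). -/
theorem moments [Fintype G] (h : BlockData p P χ χ₁ Y)
    (hreal : ∀ g : G, conj ((χ : G → ℂ) g) = (χ : G → ℂ) g)
    (hb : classInner (fun g => (χ : G → ℂ) g * (χ : G → ℂ) g) (χ : G → ℂ) = 1) :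
    ∑ g : G, (χ : G → ℂ) g = 0 ∧ ∑ g : G, (χ : G → ℂ) g ^ 2 = (Nat.card G : ℂ) ∧
      ∑ g : G, (χ : G → ℂ) g ^ 3 = (Nat.card G : ℂ) := by
  refine ⟨sum_irr_eq_zero h χ h.ne, ?_, ?_⟩
  · have h1 := sum_eq_of_classInner (χ : G → ℂ) (χ : G → ℂ) 1 (by rw [classInner_irr', if_pos rfl])
    rw [mul_one] at h1
    rw [← h1]
    apply Finset.sum_congr rfl
    intro g _
    rw [hreal g]; ring
  · have h1 := sum_eq_of_classInner (fun g => (χ : G → ℂ) g * (χ : G → ℂ) g) (χ : G → ℂ) 1 hb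
    rw [mul_one] at h1
    rw [← h1]
    apply Finset.sum_congr rfl
    intro g _
    rw [hreal g]; ring

end Cfsg.Agent.Lib.Helper4.T2PMOM
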