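/-
helper4: leaf T2P-COUNT of the S4707 market (helper26, notes/S4707_leaves.lean).
-/
import Mathlib
import Cfsg.Agent.Lib.Helper19.PDegC
import Cfsg.Agent.Lib.Helper4.T2PMOM

set_option autoImplicit false

namespace Cfsg.Agent.Lib.Helper4.T2PCOUNT

open Cfsg Cfsg.Agent.CharLib Cfsg.Agent.Lib.Helper19.PDeg
open scoped ComplexConjugate

universe u v

variable {G : Type u} [Group G] [Finite G] {p : ℕ} [hp : Fact p.Prime]

variable {P : Subgroup G} {χ χ₁ : IrrCharacter G} {Y : Finset (IrrCharacter G)}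

/-- T2P-COUNT: the number of `p`-singular elements. -/
theorem card_singular [Fintype G] (h : BlockData p P χ χ₁ Y) (hp3 : 3 ≤ p)
    (hconj : ∀ g : G, p ∣ orderOf g →
      ∃ k : G, k * g * k⁻¹ ∈ P ∧ k * g * k⁻¹ ≠ 1 ∧ p ∣ orderOf (k * g * k⁻¹)) :
    2 * p * Nat.card {g : G // p ∣ orderOf g} = (p - 1) * Nat.card G := by
  classical
  have hpp : p.Prime := hp.out
  have hodd : p % 2 = 1 := by
    rcases hpp.eq_two_or_odd with h2 | h2
    · omega
    · exact h2
  have hcf : ∀ ψ : IrrCharacter G, IsClassFunction G (ψ : G → ℂ) :=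
    fun ψ => IsCharacter.isClassFunction (IsIrrCharacter.isCharacter ψ.2)
  -- the function `Φ`
  set Φ : G → ℂ := fun g => ∑ η ∈ Y, (1 - (χ : G → ℂ) g + (η : G → ℂ) g) with hΦ
  have hreg : ∀ g : G, ¬ p ∣ orderOf g → Φ g = 0 := by
    intro g hg
    rw [hΦ]
    apply Finset.sum_eq_zero
    intro η hη
    rw [h.reg η hη g hg]; ring
  have hsing : ∀ g : G, p ∣ orderOf g → Φ g = (p : ℂ) := by
    intro g hg
    obtain ⟨k, hkP, hk1, hko⟩ := hconj g hg
    have hχg : (χ : G → ℂ) g = -1 := h.sing g hg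
    have hηg : ∀ η : IrrCharacter G, (η : G → ℂ) g = (η : G → ℂ) (k * g * k⁻¹) :=
      fun η => (hcf η g k).symm
    have hsum := h.sum_exc hp3 (k * g * k⁻¹) hkP hk1 hko
    rw [hΦ]
    simp only [hχg]
    rw [Finset.sum_add_distrib, Finset.sum_const, Finset.sum_congr rfl (fun η _ => hηg η), hsum,
      h.card, nsmul_eq_mul]
    have h2 : (((p - 1) / 2 : ℕ) : ℂ) * 2 = (p : ℂ) - 1 := by
      have : ((p - 1) / 2) * 2 = p - 1 := by omega
      have h3 : ((((p - 1) / 2) * 2 : ℕ) : ℂ) = ((p - 1 : ℕ) : ℂ) := by rw [this]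
      rw [Nat.cast_sub hpp.one_lt.le] at h3
      push_cast at h3
      exact h3
    linear_combination h2
  -- the sum of `Φ` over the group, first way
  have hS1 : ∑ g : G, Φ g = (Y.card : ℂ) * (Nat.card G : ℂ) := by
    rw [hΦ, Finset.sum_comm]
    have : ∀ η ∈ Y, ∑ g : G, (1 - (χ : G → ℂ) g + (η : G → ℂ) g) = (Nat.card G : ℂ) := by
      intro η hη
      have hηχ₁ : η ≠ χ₁ := fun heq => h.not_mem₁ (heq ▸ hη)
      rw [Finset.sum_add_distrib, Finset.sum_sub_distrib,
        Cfsg.Agent.Lib.Helper4.T2PMOM.sum_irr_eq_zero h χ h.ne,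
        Cfsg.Agent.Lib.Helper4.T2PMOM.sum_irr_eq_zero h η hηχ₁, Finset.sum_const, Finset.card_univ,
        Nat.card_eq_fintype_card]
      simp
    rw [Finset.sum_congr rfl this, Finset.sum_const, nsmul_eq_mul]
  -- second way
  have hS2 : ∑ g : G, Φ g = (p : ℂ) * (Nat.card {g : G // p ∣ orderOf g} : ℂ) := by
    have : ∀ g : G, Φ g = if p ∣ orderOf g then (p : ℂ) else 0 := by
      intro g
      by_cases hg : p ∣ orderOf g
      · rw [if_pos hg, hsing g hg]
      · rw [if_neg hg, hreg g hg]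
    rw [Finset.sum_congr rfl (fun g _ => this g), Finset.sum_ite, Finset.sum_const_zero, add_zero,
      Finset.sum_const, nsmul_eq_mul, Nat.card_eq_fintype_card, Fintype.card_subtype]
    ring
  have hnat : p * Nat.card {g : G // p ∣ orderOf g} = Y.card * Nat.card G := by
    have : ((p * Nat.card {g : G // p ∣ orderOf g} : ℕ) : ℂ) = ((Y.card * Nat.card G : ℕ) : ℂ) := by
      push_cast
      rw [← hS2, hS1]
    exact_mod_cast this
  rw [h.card] at hnat
  have h2 : ((p - 1) / 2) * 2 = p - 1 := by omega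
  calc 2 * p * Nat.card {g : G // p ∣ orderOf g}
      = 2 * (p * Nat.card {g : G // p ∣ orderOf g}) := by ring
    _ = 2 * ((p - 1) / 2 * Nat.card G) := by rw [hnat]
    _ = ((p - 1) / 2 * 2) * Nat.card G := by ring
    _ = (p - 1) * Nat.card G := by rw [h2]

end Cfsg.Agent.Lib.Helper4.T2PCOUNT
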