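/-
helper4: leaf BRC-EXINV of the Brauer-Reynolds core market (helper24, notes/S0999_leaves.lean).
-/
import Mathlib
import Cfsg.Prelude.Def_BlockRank
import Cfsg.Prelude.Def_Perm
import Cfsg.Agent.Lib.Helper24.BRCDefs

set_option autoImplicit false

namespace Cfsg.Agent.Lib.Helper4.BRCEXINV

open Cfsg Cfsg.Agent.Lib.Helper8.DOM Cfsg.Agent.Lib.Helper27.DO Cfsg.Agent.CharLib
open Cfsg.Agent.Lib.Helper6.BRH Cfsg.Agent.Lib.Helper24.BRC
open scoped ComplexConjugate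

universe u

variable {G : Type u} [Group G] [Finite G] {p : ℕ} [Fact p.Prime]

variable {P : Subgroup G} {n w : ℕ} {X Y : Set (IrrCharacter G)} {v : IrrCharacter G → ℤ} {ε : ℤ}

/-- **BRC-EXINV**.  `2 ∣ f ∣ |N|`: Cauchy; `p` is odd (`2 ≤ f ∣ p - 1`). -/
theorem exists_invol (hS : Special p P n w X Y v ε) (hev : Even (fI P)) :
    ∃ y0 : G, y0 ∈ Nz P ∧ y0 ∉ P ∧ orderOf y0 = 2 := by
  have h2N : 2 ∣ Nat.card (Nz P) :=
    dvd_trans (even_iff_two_dvd.mp hev) (Subgroup.relIndex_dvd_card (Cz P) (Nz P))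
  haveI : Fact (Nat.Prime 2) := ⟨Nat.prime_two⟩
  obtain ⟨y, hy⟩ := exists_prime_orderOf_dvd_card' (G := Nz P) 2 h2N
  refine ⟨(y : G), y.2, ?_, ?_⟩
  · intro hyP
    -- then `2 ∣ p`, so `p = 2`, against `2 ≤ f < p - 1`
    have h1 : orderOf (⟨(y : G), hyP⟩ : P) ∣ Nat.card P := orderOf_dvd_natCard _
    have h2 : orderOf (⟨(y : G), hyP⟩ : P) = 2 := by
      rw [← hy, ← Subgroup.orderOf_coe, ← Subgroup.orderOf_coe]
    rw [h2, hS.hP] at h1
    have hpp : p.Prime := Fact.out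
    have h3 : p = 2 := ((Nat.prime_dvd_prime_iff_eq Nat.prime_two hpp).mp h1).symm
    have h4 := hS.hf2
    have h5 : (Cz P).relIndex (Nz P) ∣ p - 1 := hS.bx.b0.dvd
    rw [h3] at h5
    have h6 : (Cz P).relIndex (Nz P) ≤ 1 := Nat.le_of_dvd (by norm_num) h5
    omega
  · rw [← hy, Subgroup.orderOf_coe]

end Cfsg.Agent.Lib.Helper4.BRCEXINV
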