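/-
helper4: leaf BRC-EXP2 of the Brauer-Reynolds core market (helper24, notes/S0999_leaves.lean).
-/
import Mathlib
import Cfsg.Prelude.Def_BlockRank
import Cfsg.Prelude.Def_Perm
import Cfsg.Agent.Lib.Helper24.BRCDefs

set_option autoImplicit false

namespace Cfsg.Agent.Lib.Helper4.BRCEXP2

open Cfsg Cfsg.Agent.Lib.Helper8.DOM Cfsg.Agent.Lib.Helper27.DO Cfsg.Agent.CharLib
open Cfsg.Agent.Lib.Helper6.BRH Cfsg.Agent.Lib.Helper24.BRC
open scoped ComplexConjugate

universe u

variable {G : Type u} [Group G] [Finite G] {p : ℕ} [Fact p.Prime]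

/-- **BRC-EXP2**.  `g ∈ C(y0)`, `z := g²`.  `z ≠ 1`, `z² = 1`: `z` is conjugate to `y0`, so `y0` has a square root, but `∑ χ(y0) = 0`.
`z² ≠ 1`: `z` is `p`-regular (`|C(y0)| = p - 1`) so it has exactly one square root, but `g ≠ y0 g` are two. -/
theorem exp_two (y0 : G) (hy2 : orderOf y0 = 2)
    (hsqrt : ∀ g : G, (Nat.card {u : G // u * u = g} : ℂ) = ∑ᶠ χ : IrrCharacter G, (χ : G → ℂ) g)
    (hconj : ∀ g : G, orderOf g = 2 → IsConj y0 g)
    (hcent : Nat.card (Subgroup.centralizer ({y0} : Set G)) = p - 1)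
    (hsum0 : ∑ᶠ χ : IrrCharacter G, (χ : G → ℂ) y0 = 0)
    (hsumz : ∀ z : G, ¬ p ∣ orderOf z → z ≠ 1 → z ^ 2 ≠ 1 → ∑ᶠ χ : IrrCharacter G, (χ : G → ℂ) z = 1) :
    ∀ g ∈ Subgroup.centralizer ({y0} : Set G), g ^ 2 = 1 := by
  intro g hg
  have hpp : p.Prime := Fact.out
  by_contra hz1
  have hy01 : y0 ≠ 1 := by
    intro h; rw [h, orderOf_one] at hy2; omega
  have hy0sq : y0 * y0 = 1 := by
    have := pow_orderOf_eq_one y0
    rw [hy2, pow_two] at this; exact this
  have hcomm : y0 * g = g * y0 := (Subgroup.mem_centralizer_iff.mp hg) y0 (Set.mem_singleton y0)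
  by_cases hz2 : (g ^ 2) ^ 2 = 1
  · -- `z = g²` is an involution, conjugate to `y0`: `y0` has a square root
    haveI : Fact (Nat.Prime 2) := ⟨Nat.prime_two⟩
    have ho : orderOf (g ^ 2) = 2 := orderOf_eq_prime hz2 hz1
    obtain ⟨c, hc⟩ := isConj_iff.mp (hconj (g ^ 2) ho)
    have hroot : (c⁻¹ * g * c) * (c⁻¹ * g * c) = y0 := by
      have h1 : (c⁻¹ * g * c) * (c⁻¹ * g * c) = c⁻¹ * (g ^ 2) * c := by
        rw [pow_two]; group
      rw [h1, ← hc]; group
    have h0 : (Nat.card {u : G // u * u = y0} : ℂ) = 0 := by rw [hsqrt y0, hsum0]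
    have h0' : Nat.card {u : G // u * u = y0} = 0 := by exact_mod_cast h0
    rcases Nat.card_eq_zero.mp h0' with h | h
    · exact h.false ⟨c⁻¹ * g * c, hroot⟩
    · exact h.not_finite inferInstance
  · -- `z = g²` is `p`-regular with two square roots `g`, `y0 g`
    have hgo : orderOf g ∣ p - 1 := by
      rw [← hcent]
      have : orderOf (⟨g, hg⟩ : Subgroup.centralizer ({y0} : Set G)) = orderOf g := by
        rw [← Subgroup.orderOf_coe]
      rw [← this]
      exact orderOf_dvd_natCard _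
    have hzo : orderOf (g ^ 2) ∣ p - 1 := dvd_trans (orderOf_pow_dvd 2) hgo
    have hreg : ¬ p ∣ orderOf (g ^ 2) := by
      intro hd
      have h1 : p ∣ p - 1 := dvd_trans hd hzo
      have h2 : 0 < p - 1 := by have := hpp.two_le; omega
      have := Nat.le_of_dvd h2 h1
      omega
    have h1 : (Nat.card {u : G // u * u = g ^ 2} : ℂ) = 1 := by
      rw [hsqrt (g ^ 2), hsumz (g ^ 2) hreg hz1 hz2]
    have h1' : Nat.card {u : G // u * u = g ^ 2} = 1 := by exact_mod_cast h1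
    obtain ⟨hsub, _⟩ := Nat.card_eq_one_iff_unique.mp h1'
    have ha : g * g = g ^ 2 := (pow_two g).symm
    have hb : (y0 * g) * (y0 * g) = g ^ 2 := by
      calc (y0 * g) * (y0 * g) = y0 * (g * y0) * g := by group
        _ = y0 * (y0 * g) * g := by rw [hcomm]
        _ = (y0 * y0) * (g * g) := by group
        _ = g ^ 2 := by rw [hy0sq, one_mul, ha]
    have heq : (⟨g, ha⟩ : {u : G // u * u = g ^ 2}) = ⟨y0 * g, hb⟩ := Subsingleton.elim _ _
    have h2 : g = y0 * g := congrArg Subtype.val heq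
    apply hy01
    have : y0 * g = 1 * g := by rw [one_mul]; exact h2.symm
    exact mul_right_cancel this

end Cfsg.Agent.Lib.Helper4.BRCEXP2
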