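/-
helper4: leaf BRC-PGL of the Brauer-Reynolds core market (helper24, notes/S0999_leaves.lean).
-/
import Mathlib
import Cfsg.Prelude.Def_BlockRank
import Cfsg.Prelude.Def_Perm
import Cfsg.Agent.Lib.Helper24.BRCDefs

set_option autoImplicit false

namespace Cfsg.Agent.Lib.Helper4.BRCPGL

open Cfsg Cfsg.Agent.Lib.Helper8.DOM Cfsg.Agent.Lib.Helper27.DO Cfsg.Agent.CharLib
open Cfsg.Agent.Lib.Helper6.BRH Cfsg.Agent.Lib.Helper24.BRC
open scoped ComplexConjugate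

universe u

variable {G : Type u} [Group G] [Finite G] {p : ℕ} [Fact p.Prime]

/-- for `p` odd there is a non-square unit of `ZMod p` -/
theorem exists_not_sq (hp2 : p ≠ 2) :
    ∃ u : (ZMod p)ˣ, u ∉ (powMonoidHom 2 : (ZMod p)ˣ →* (ZMod p)ˣ).range := by
  have hpp : p.Prime := Fact.out
  haveI : Fact (2 < p) := ⟨lt_of_le_of_ne hpp.two_le (Ne.symm hp2)⟩
  have hninj : ¬ Function.Injective (powMonoidHom 2 : (ZMod p)ˣ →* (ZMod p)ˣ) := by
    intro hinj
    have h1 : (powMonoidHom 2 : (ZMod p)ˣ →* (ZMod p)ˣ) (-1) = (powMonoidHom 2 : (ZMod p)ˣ →* (ZMod p)ˣ) 1 := by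
      simp [powMonoidHom_apply]
    have h2 : (-1 : (ZMod p)ˣ) = 1 := hinj h1
    have h3 : (-1 : ZMod p) = 1 := by
      have := congrArg Units.val h2
      simpa using this
    exact ZMod.neg_one_ne_one h3
  have hnsurj : ¬ Function.Surjective (powMonoidHom 2 : (ZMod p)ˣ →* (ZMod p)ˣ) :=
    fun hs => hninj (Finite.injective_iff_surjective.mpr hs)
  rw [Function.Surjective] at hnsurj
  push Not at hnsurj
  obtain ⟨u, hu⟩ := hnsurj
  exact ⟨u, fun ⟨a, ha⟩ => hu a ha⟩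

/-- the subgroup of squares of `𝔽_pˣ` -/
abbrev Sq (p : ℕ) : Subgroup (ZMod p)ˣ := (powMonoidHom 2 : (ZMod p)ˣ →* (ZMod p)ˣ).range

/-- `det` modulo squares on `GL₂(𝔽_p)` -/
noncomputable def detSq (p : ℕ) : GL (Fin 2) (ZMod p) →* (ZMod p)ˣ ⧸ Sq p :=
  (QuotientGroup.mk' (Sq p)).comp Matrix.GeneralLinearGroup.det

theorem detSq_apply (p : ℕ) (g : GL (Fin 2) (ZMod p)) :
    detSq p g = (QuotientGroup.mk' (Sq p)) (Matrix.GeneralLinearGroup.det g) := rfl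

theorem center_le_ker (p : ℕ) : Subgroup.center (GL (Fin 2) (ZMod p)) ≤ (detSq p).ker := by
  rw [Matrix.GeneralLinearGroup.center_eq_range_scalar]
  rintro _ ⟨u, rfl⟩
  rw [MonoidHom.mem_ker, detSq_apply, Matrix.GeneralLinearGroup.det_scalar, Fintype.card_fin,
    QuotientGroup.mk'_apply, QuotientGroup.eq_one_iff]
  exact ⟨u, rfl⟩

/-- `det` modulo squares on `PGL₂(𝔽_p)` -/
noncomputable def detSqP (p : ℕ) : Matrix.ProjGenLinGroup (Fin 2) (ZMod p) →* (ZMod p)ˣ ⧸ Sq p :=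
  QuotientGroup.lift _ (detSq p) (center_le_ker p)

theorem detSqP_mk (p : ℕ) (g : GL (Fin 2) (ZMod p)) :
    detSqP p (Matrix.ProjGenLinGroup.mk g) = detSq p g :=
  QuotientGroup.lift_mk' _ _ g

/-- **BRC-PGL**.  `det` modulo squares is a non-trivial homomorphism `PGL₂(𝔽_p) → 𝔽_pˣ / (𝔽_pˣ)²` (`p` odd). -/
theorem not_perfect_pgl (hp2 : p ≠ 2) :
    commutator (Matrix.ProjGenLinGroup (Fin 2) (ZMod p)) ≠ ⊤ := by
  intro htop
  letI : CommGroup ((ZMod p)ˣ ⧸ Sq p) := QuotientGroup.Quotient.commGroup (Sq p)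
  have h1 : commutator (Matrix.ProjGenLinGroup (Fin 2) (ZMod p)) ≤ (detSqP p).ker :=
    Abelianization.commutator_subset_ker (detSqP p)
  rw [htop] at h1
  obtain ⟨u, hu⟩ := exists_not_sq hp2
  obtain ⟨g, hg⟩ := Matrix.GeneralLinearGroup.det_surjective (n := Fin 2) (R := ZMod p) u
  have h2 : detSqP p (Matrix.ProjGenLinGroup.mk g) = 1 :=
    MonoidHom.mem_ker.mp (h1 (Subgroup.mem_top _))
  rw [detSqP_mk, detSq_apply, hg, QuotientGroup.mk'_apply, QuotientGroup.eq_one_iff] at h2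
  exact hu h2

end Cfsg.Agent.Lib.Helper4.BRCPGL
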