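/-
helper4: leaf BRC-SETUP of the Brauer-Reynolds core market (helper24, notes/S0999_leaves.lean).
-/
import Mathlib
import Cfsg.Prelude.Def_BlockRank
import Cfsg.Prelude.Def_Perm
import Cfsg.Agent.Lib.Helper24.BRCDefs

set_option autoImplicit false

namespace Cfsg.Agent.Lib.Helper4.BRCSETUP

open Cfsg Cfsg.Agent.Lib.Helper8.DOM Cfsg.Agent.Lib.Helper27.DO Cfsg.Agent.CharLib
open Cfsg.Agent.Lib.Helper6.BRH Cfsg.Agent.Lib.Helper24.BRC
open scoped ComplexConjugate

universe u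

variable {G : Type u} [Group G] [Finite G] {p : ℕ} [Fact p.Prime]

/-- **BRC-SETUP**.  `|P| = p^k`, `|G : N(P)| = #Syl ≡ 1 (mod p)` and `≠ 1`; `k ≥ 2` would give `|G| ≥ p² (1 + p)`. -/
theorem br_setup (hdvd : p ∣ Nat.card G) (hbig : Nat.card G < p ^ 3) (P : Sylow p G)
    (hP : ¬ (P : Subgroup G).Normal) :
    Nat.card (P : Subgroup G) = p ∧ ∃ n : ℕ, 1 ≤ n ∧ (Nz (P : Subgroup G)).index = 1 + n * p := by
  have hpp : p.Prime := Fact.out
  -- the index of the normalizer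
  have hidx : Nat.card (Sylow p G) = (Nz (P : Subgroup G)).index := Sylow.card_eq_index_normalizer P
  have hmod : Nat.card (Sylow p G) ≡ 1 [MOD p] := card_sylow_modEq_one p G
  have hne1 : (Nz (P : Subgroup G)).index ≠ 1 := by
    intro h1
    apply hP
    have : Nz (P : Subgroup G) = ⊤ := Subgroup.index_eq_one.mp h1
    exact Subgroup.normalizer_eq_top_iff.mp this
  have hpos : 0 < (Nz (P : Subgroup G)).index := Nat.pos_of_ne_zero (Subgroup.index_ne_zero_of_finite)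
  obtain ⟨n, hn1, hn⟩ : ∃ n : ℕ, 1 ≤ n ∧ (Nz (P : Subgroup G)).index = 1 + n * p := by
    rw [hidx] at hmod
    have h1 : 1 ≤ (Nz (P : Subgroup G)).index := hpos
    have h2 : p ∣ (Nz (P : Subgroup G)).index - 1 := (Nat.modEq_iff_dvd' h1).mp hmod.symm
    obtain ⟨n, hn⟩ := h2
    refine ⟨n, ?_, by rw [mul_comm n p, ← hn]; omega⟩
    rcases Nat.eq_zero_or_pos n with h0 | h0
    · exfalso; rw [h0, mul_zero] at hn; omega
    · exact h0
  refine ⟨?_, n, hn1, hn⟩
  -- `|P| = p ^ k`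
  obtain ⟨k, hk⟩ := IsPGroup.iff_card.mp P.isPGroup'
  have hk1 : k ≠ 0 := by
    intro h0
    rw [h0, pow_zero] at hk
    have : p ∣ Nat.card (P : Subgroup G) := P.dvd_card_of_dvd_card hdvd
    rw [hk] at this
    exact hpp.one_lt.ne' (Nat.dvd_one.mp this)
  -- `|G| = |N| * |G : N| ≥ p ^ k * (1 + p)`
  have hle : (P : Subgroup G) ≤ Nz (P : Subgroup G) := Subgroup.le_normalizer
  have hcardN : Nat.card (P : Subgroup G) ∣ Nat.card (Nz (P : Subgroup G)) :=
    Subgroup.card_dvd_of_le hle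
  have hNpos : 0 < Nat.card (Nz (P : Subgroup G)) := Nat.card_pos
  have h1 : p ^ k ≤ Nat.card (Nz (P : Subgroup G)) := by
    rw [← hk]; exact Nat.le_of_dvd hNpos hcardN
  have h2 : Nat.card (Nz (P : Subgroup G)) * (Nz (P : Subgroup G)).index = Nat.card G :=
    Subgroup.card_mul_index _
  have h3 : p ^ k * (1 + n * p) ≤ Nat.card G := by
    rw [← h2, hn]; exact Nat.mul_le_mul_right _ h1
  by_contra hk2
  have hk2' : 2 ≤ k := by
    rcases Nat.lt_or_ge k 2 with h | h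
    · exfalso; apply hk2; rw [hk]
      have : k = 1 := by omega
      rw [this, pow_one]
    · exact h
  have h4 : p ^ 2 ≤ p ^ k := Nat.pow_le_pow_right hpp.pos hk2'
  have h5 : p ^ 2 * (1 + p) ≤ p ^ k * (1 + n * p) :=
    Nat.mul_le_mul h4 (by nlinarith [hpp.pos])
  have h6 : p ^ 3 < p ^ 2 * (1 + p) := by
    have : 0 < p ^ 2 := pow_pos hpp.pos 2
    nlinarith
  omega

end Cfsg.Agent.Lib.Helper4.BRCSETUP
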