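import Mathlib
import Cfsg.Agent.Lib.Helper1.Coprime
import Cfsg.Agent.Lib.Helper4.SupersolvableComm
import Cfsg.Agent.Lib.Helper12.Cores

set_option autoImplicit false

namespace Cfsg.Agent.Lib.Helper4

open Subgroup
open scoped commutatorElement

universe u

section PSC

variable {G : Type u} [Group G] [Finite G] {p : ℕ} {x : G}

theorem psc_mem_zpowers_of_ne_one (hp : p.Prime) (hx : orderOf x = p) {z : G}
    (hz : z ∈ zpowers x) (hz1 : z ≠ 1) : x ∈ zpowers z := by
  have h1 : zpowers z ≤ zpowers x := zpowers_le.mpr hz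
  have h2 : zpowers z = zpowers x := by
    apply Subgroup.eq_of_le_of_card_ge h1
    rw [Nat.card_zpowers, Nat.card_zpowers, hx]
    have h3 : orderOf z ∣ p := by
      rw [← hx]
      exact orderOf_dvd_of_mem_zpowers hz
    rcases (Nat.dvd_prime hp).mp h3 with h | h
    · exact absurd (orderOf_eq_one_iff.mp h) hz1
    · exact h.ge
  rw [h2]; exact mem_zpowers x

omit [Finite G] in
theorem psc_ne_one (hp : p.Prime) (hx : orderOf x = p) : x ≠ 1 := by
  intro h
  rw [h, orderOf_one] at hx
  exact hp.ne_one hx.symm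

/-- Every `p`-subgroup containing `x` lies in `⟨x⟩`. -/
theorem psc_le_zpowers (hp : p.Prime) (hx : orderOf x = p)
    (hC : centralizer ({x} : Set G) = zpowers x) (Q : Subgroup G) (hQ : IsPGroup p Q)
    (hxQ : x ∈ Q) : Q ≤ zpowers x := by
  haveI : Fact p.Prime := ⟨hp⟩
  have hx1 := psc_ne_one hp hx
  haveI : Nontrivial Q := ⟨⟨⟨x, hxQ⟩, 1, fun h => hx1 (congrArg Subtype.val h)⟩⟩
  haveI : Nontrivial (center Q) := hQ.center_nontrivial
  obtain ⟨z, hz1⟩ := exists_ne (1 : center Q)
  have hzx : ((z : Q) : G) ∈ centralizer ({x} : Set G) := by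
    rw [mem_centralizer_singleton_iff]
    have := mem_center_iff.mp z.2 ⟨x, hxQ⟩
    exact (congrArg Subtype.val this).symm
  rw [hC] at hzx
  have hz1' : ((z : Q) : G) ≠ 1 := by
    intro h
    apply hz1
    apply Subtype.ext; apply Subtype.ext
    exact h
  have hxz := psc_mem_zpowers_of_ne_one hp hx hzx hz1'
  intro q hq
  rw [← hC, mem_centralizer_singleton_iff]
  obtain ⟨k, hk⟩ := mem_zpowers_iff.mp hxz
  rw [← hk]
  have hzc : (z : Q) ^ k ∈ center Q := (center Q).zpow_mem z.2 k
  have := mem_center_iff.mp hzc ⟨q, hq⟩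
  have h2 := congrArg Subtype.val this
  simpa using h2

/-- `p` divides `|G|` exactly once. -/
theorem psc_factorization (hp : p.Prime) (hx : orderOf x = p)
    (hC : centralizer ({x} : Set G) = zpowers x) : (Nat.card G).factorization p = 1 := by
  haveI : Fact p.Prime := ⟨hp⟩
  have hPx : IsPGroup p (zpowers x) := IsPGroup.of_card (n := 1) (by rw [Nat.card_zpowers, hx, pow_one])
  obtain ⟨P₁, hP₁⟩ := hPx.exists_le_sylow
  have h1 : (P₁ : Subgroup G) ≤ zpowers x :=
    psc_le_zpowers hp hx hC P₁ P₁.2 (hP₁ (mem_zpowers x))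
  have h2 : (P₁ : Subgroup G) = zpowers x := le_antisymm h1 hP₁
  have h3 := P₁.card_eq_multiplicity
  rw [h2, Nat.card_zpowers, hx] at h3
  have h4 : p ^ 1 = p ^ (Nat.card G).factorization p := by rw [pow_one]; exact h3
  exact (Nat.pow_right_injective hp.two_le h4).symm

/-- A normal subgroup of order divisible by `p` contains `x`. -/
theorem psc_mem_of_dvd (hp : p.Prime) (hx : orderOf x = p)
    (hC : centralizer ({x} : Set G) = zpowers x) (S : Subgroup G) [S.Normal]
    (h : p ∣ Nat.card S) : x ∈ S := by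
  haveI : Fact p.Prime := ⟨hp⟩
  have hfac := psc_factorization hp hx hC
  have hidx : ¬ p ∣ S.index := by
    intro h2
    have h3 : p ^ 2 ∣ Nat.card G := by
      rw [← Subgroup.card_mul_index S, pow_two]
      exact Nat.mul_dvd_mul h h2
    have := (hp.pow_dvd_iff_le_factorization Nat.card_pos.ne').mp h3
    omega
  have h1 : orderOf (QuotientGroup.mk x : G ⧸ S) ∣ p := by
    apply orderOf_dvd_of_pow_eq_one
    rw [← QuotientGroup.mk_pow, ← hx, pow_orderOf_eq_one]
    rfl
  have h2 : orderOf (QuotientGroup.mk x : G ⧸ S) ∣ S.index := orderOf_dvd_natCard _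
  have h3 : orderOf (QuotientGroup.mk x : G ⧸ S) = 1 := by
    rcases (Nat.dvd_prime hp).mp h1 with h | h
    · exact h
    · exact absurd (h ▸ h2) hidx
  rw [orderOf_eq_one_iff, QuotientGroup.eq_one_iff] at h3
  exact h3

/-- (a) a normal subgroup of order divisible by `p` contains the commutator subgroup. -/
theorem psc_commutator_le (hp : p.Prime) (hx : orderOf x = p)
    (hC : centralizer ({x} : Set G) = zpowers x) (S : Subgroup G) [S.Normal]
    (h : p ∣ Nat.card S) : commutator G ≤ S := by
  haveI : Fact p.Prime := ⟨hp⟩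
  have hfac := psc_factorization hp hx hC
  have hxS := psc_mem_of_dvd hp hx hC S h
  set P₀ : Sylow p G := Sylow.ofCard (zpowers x)
    (by rw [hfac, pow_one, Nat.card_zpowers, hx]) with hP₀
  have hP₀c : (P₀ : Subgroup G) = zpowers x := rfl
  have hFr0 := Sylow.normalizer_sup_eq_top' P₀ (N := S) (by rw [hP₀c]; exact zpowers_le.mpr hxS)
  have hFr : normalizer ((zpowers x : Subgroup G) : Set G) ⊔ S = ⊤ := hFr0
  -- commutators of elements of the normalizer centralize `x`
  have hNN : ∀ a ∈ normalizer ((zpowers x : Subgroup G) : Set G),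
      ∀ b ∈ normalizer ((zpowers x : Subgroup G) : Set G), ⁅a, b⁆ ∈ S := by
    intro a ha b hb
    haveI : IsCyclic ((zpowers x).subgroupOf (normalizer ((zpowers x : Subgroup G) : Set G))) :=
      isCyclic_of_surjective (Subgroup.subgroupOfEquivOfLe (le_normalizer)).symm
        (Subgroup.subgroupOfEquivOfLe (le_normalizer)).symm.surjective
    have h1 := commutator_le_centralizer_of_cyclic_normal
      ((zpowers x).subgroupOf (normalizer ((zpowers x : Subgroup G) : Set G)))
    have h2 : ⁅(⟨a, ha⟩ : normalizer ((zpowers x : Subgroup G) : Set G)), ⟨b, hb⟩⁆ ∈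
        commutator (normalizer ((zpowers x : Subgroup G) : Set G)) := by
      rw [_root_.commutator_def]
      exact Subgroup.commutator_mem_commutator (Subgroup.mem_top _) (Subgroup.mem_top _)
    have h3 := h1 h2
    rw [Subgroup.mem_centralizer_iff] at h3
    have h4 := h3 ⟨x, le_normalizer (mem_zpowers x)⟩
      (by show (⟨x, _⟩ : normalizer ((zpowers x : Subgroup G) : Set G)) ∈
            (zpowers x).subgroupOf _
          rw [Subgroup.mem_subgroupOf]; exact mem_zpowers x)
    have h5 : x * ⁅a, b⁆ = ⁅a, b⁆ * x := congrArg Subtype.val h4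
    have h6 : ⁅a, b⁆ ∈ centralizer ({x} : Set G) := by
      rw [mem_centralizer_singleton_iff]; exact h5.symm
    rw [hC] at h6
    exact (zpowers_le.mpr hxS) h6
  rw [_root_.commutator_def, Subgroup.commutator_le]
  intro g _ k _
  have hg : g ∈ normalizer ((zpowers x : Subgroup G) : Set G) ⊔ S := by rw [hFr]; trivial
  have hk : k ∈ normalizer ((zpowers x : Subgroup G) : Set G) ⊔ S := by rw [hFr]; trivial
  rw [Subgroup.mem_sup_of_normal_right] at hg hk
  obtain ⟨a, ha, s, hs, rfl⟩ := hg
  obtain ⟨b, hb, t, ht, rfl⟩ := hk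
  have key : (QuotientGroup.mk' S) ⁅a * s, b * t⁆ = 1 := by
    rw [map_commutatorElement, map_mul, map_mul]
    have hs' : QuotientGroup.mk' S s = 1 := (QuotientGroup.eq_one_iff s).mpr hs
    have ht' : QuotientGroup.mk' S t = 1 := (QuotientGroup.eq_one_iff t).mpr ht
    rw [hs', ht', mul_one, mul_one, ← map_commutatorElement]
    exact (QuotientGroup.eq_one_iff _).mpr (hNN a ha b hb)
  exact (QuotientGroup.eq_one_iff _).mp key

end PSC

end Cfsg.Agent.Lib.Helper4
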