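import Mathlib
import Cfsg.Agent.Lib.Helper4.PrimeSelfCent

set_option autoImplicit false

namespace Cfsg.Agent.Lib.Helper4

open Subgroup
open scoped commutatorElement

universe u

section PSC

variable {G : Type u} [Group G] [Finite G] {p : ℕ} {x : G}

omit [Finite G] in
theorem psc_inf_eq_bot (hp : p.Prime) (hx : orderOf x = p) (S : Subgroup G)
    (hS : ¬ p ∣ Nat.card S) : zpowers x ⊓ S = ⊥ := by
  apply (Subgroup.disjoint_of_coprime_natCard _).eq_bot
  rw [Nat.card_zpowers, hx]
  exact (Nat.Prime.coprime_iff_not_dvd hp).mpr hS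

omit [Finite G] in
theorem psc_not_mem (hp : p.Prime) (hx : orderOf x = p) (S : Subgroup G)
    (hS : ¬ p ∣ Nat.card S) : x ∉ S := by
  intro h
  have h1 : x ∈ zpowers x ⊓ S := ⟨mem_zpowers x, h⟩
  rw [psc_inf_eq_bot hp hx S hS, mem_bot] at h1
  exact psc_ne_one hp hx h1

/-- `|S| ≡ 1 mod p` for a normal `p'`-subgroup `S`. -/
theorem psc_card_mod (hp : p.Prime) (hx : orderOf x = p)
    (hC : centralizer ({x} : Set G) = zpowers x) (S : Subgroup G) [hSn : S.Normal]
    (hS : ¬ p ∣ Nat.card S) : Nat.card S % p = 1 := by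
  classical
  haveI : Fact p.Prime := ⟨hp⟩
  haveI : Fintype S := Fintype.ofFinite S
  let f : Function.End S := fun s => ⟨x * s * x⁻¹, hSn.conj_mem s s.2 x⟩
  have hfk : ∀ (k : ℕ) (s : S), (((f ^ k) s : S) : G) = x ^ k * s * (x ^ k)⁻¹ := by
    intro k
    induction k with
    | zero =>
      intro s
      rw [pow_zero, pow_zero, inv_one, mul_one, one_mul]
      rfl
    | succ k ih =>
      intro s
      rw [pow_succ]
      show (((f ^ k) (f s) : S) : G) = _
      rw [ih (f s)]
      show x ^ k * (x * s * x⁻¹) * (x ^ k)⁻¹ = _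
      rw [pow_succ]
      group
  have hf : f ^ p ^ 1 = 1 := by
    funext s
    apply Subtype.ext
    rw [pow_one, hfk, ← hx, pow_orderOf_eq_one, inv_one, mul_one, one_mul]
    rfl
  have h1 := Equiv.Perm.card_fixedPoints_modEq (p := p) (n := 1) hf
  have h2 : Fintype.card (Function.fixedPoints f) = 1 := by
    rw [Fintype.card_eq_one_iff]
    refine ⟨⟨1, ?_⟩, ?_⟩
    · show f 1 = 1
      apply Subtype.ext
      show x * 1 * x⁻¹ = 1
      group
    · rintro ⟨s, hs⟩
      apply Subtype.ext
      have h3 : x * (s : G) * x⁻¹ = s := congrArg Subtype.val hs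
      have h4 : (s : G) ∈ centralizer ({x} : Set G) := by
        rw [mem_centralizer_singleton_iff]
        calc (s : G) * x = x * s * x⁻¹ * x := by rw [h3]
          _ = x * s := by group
      rw [hC] at h4
      have h5 : (s : G) ∈ zpowers x ⊓ S := ⟨h4, s.2⟩
      rw [psc_inf_eq_bot hp hx S hS, mem_bot] at h5
      apply Subtype.ext
      exact h5
  rw [h2] at h1
  rw [Nat.card_eq_fintype_card]
  have := h1
  unfold Nat.ModEq at this
  rw [this, Nat.mod_eq_of_lt hp.one_lt]

/-- The number of subgroups of order `p` is the number of Sylow `p`-subgroups. -/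
theorem psc_card_subgroups (hp : p.Prime) (hx : orderOf x = p)
    (hC : centralizer ({x} : Set G) = zpowers x) :
    Nat.card {H : Subgroup G // Nat.card H = p} =
      (normalizer ((zpowers x : Subgroup G) : Set G)).index := by
  haveI : Fact p.Prime := ⟨hp⟩
  have hfac := psc_factorization hp hx hC
  let P₀ : Sylow p G := Sylow.ofCard (zpowers x)
    (by rw [hfac, pow_one, Nat.card_zpowers, hx])
  have h1 : Nat.card (Sylow p G) = (normalizer ((zpowers x : Subgroup G) : Set G)).index :=
    Sylow.card_eq_index_normalizer P₀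
  rw [← h1]
  apply Nat.card_congr
  refine ⟨fun H => Sylow.ofCard H.1 (by rw [hfac, pow_one]; exact H.2),
    fun Q => ⟨Q.1, by rw [Q.card_eq_multiplicity, hfac, pow_one]⟩, ?_, ?_⟩
  · intro H; rfl
  · intro Q; rfl

/-- `|S|` divides the number of subgroups of order `p`, for a normal `p'`-subgroup `S`. -/
theorem psc_card_dvd (hp : p.Prime) (hx : orderOf x = p)
    (hC : centralizer ({x} : Set G) = zpowers x) (S : Subgroup G) [hSn : S.Normal]
    (hS : ¬ p ∣ Nat.card S) :
    Nat.card S ∣ Nat.card {H : Subgroup G // Nat.card H = p} := by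
  rw [psc_card_subgroups hp hx hC]
  set N := normalizer ((zpowers x : Subgroup G) : Set G) with hN
  have hdisj : N ⊓ S = ⊥ := by
    rw [eq_bot_iff]
    rintro s ⟨hsN, hsS⟩
    have h1 : s * x * s⁻¹ ∈ zpowers x := by
      have := (Subgroup.mem_normalizer_iff.mp hsN x).mp (mem_zpowers x)
      exact this
    have h2 : s * x * s⁻¹ * x⁻¹ ∈ zpowers x ⊓ S := by
      refine ⟨(zpowers x).mul_mem h1 ((zpowers x).inv_mem (mem_zpowers x)), ?_⟩
      have : s * x * s⁻¹ * x⁻¹ = s * (x * s⁻¹ * x⁻¹) := by group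
      rw [this]
      exact S.mul_mem hsS (hSn.conj_mem _ (S.inv_mem hsS) x)
    rw [psc_inf_eq_bot hp hx S hS, mem_bot] at h2
    have h3 : s ∈ centralizer ({x} : Set G) := by
      rw [mem_centralizer_singleton_iff]
      calc s * x = s * x * s⁻¹ * x⁻¹ * (x * s) := by group
        _ = x * s := by rw [h2, one_mul]
    rw [hC] at h3
    have h4 : s ∈ zpowers x ⊓ S := ⟨h3, hsS⟩
    rw [psc_inf_eq_bot hp hx S hS] at h4
    exact h4
  have h1 := Cfsg.Agent.Lib.Helper12.card_sup_eq_of_normal N S
  have h2 : S.relIndex N = Nat.card N := by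
    rw [← Subgroup.inf_relIndex_right, inf_comm, hdisj, Subgroup.relIndex_bot_left]
  rw [h2] at h1
  have h3 : Nat.card (N ⊔ S : Subgroup G) ∣ Nat.card G := Subgroup.card_subgroup_dvd_card _
  rw [h1, ← Subgroup.card_mul_index N, mul_comm] at h3
  exact Nat.dvd_of_mul_dvd_mul_left Nat.card_pos h3

/-- In `G ⧸ S` the image of `x` has order `p` and is again self-centralizing. -/
theorem psc_quotient (hp : p.Prime) (hx : orderOf x = p)
    (hC : centralizer ({x} : Set G) = zpowers x) (S : Subgroup G) [hSn : S.Normal]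
    (hS : ¬ p ∣ Nat.card S) :
    orderOf (QuotientGroup.mk x : G ⧸ S) = p ∧
      centralizer ({(QuotientGroup.mk x : G ⧸ S)} : Set (G ⧸ S)) =
        zpowers (QuotientGroup.mk x : G ⧸ S) := by
  haveI : Fact p.Prime := ⟨hp⟩
  refine ⟨?_, ?_⟩
  · apply orderOf_eq_prime
    · rw [← QuotientGroup.mk_pow, ← hx, pow_orderOf_eq_one]; rfl
    · intro h
      rw [QuotientGroup.eq_one_iff] at h
      exact psc_not_mem hp hx S hS h
  · apply le_antisymm
    · intro q hq
      obtain ⟨g, rfl⟩ := QuotientGroup.mk_surjective q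
      rw [mem_centralizer_singleton_iff] at hq
      have hcop : (Nat.card (zpowers x)).Coprime (Nat.card S) := by
        rw [Nat.card_zpowers, hx]
        exact (Nat.Prime.coprime_iff_not_dvd hp).mpr hS
      have hsolv : Group.IsSolvable (zpowers x) :=
        Group.isSolvable_of_comm (fun a b => IsMulCommutative.is_comm.comm a b)
      obtain ⟨n, hn, hgn⟩ := Cfsg.Agent.Lib.Helper1.exists_mul_mem_centralizer (A := zpowers x)
        (N := S) (by rw [Subgroup.normalizer_eq_top]; exact le_top) hcop (Or.inl hsolv) g (by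
          intro a ha
          obtain ⟨k, rfl⟩ := mem_zpowers_iff.mp ha
          rw [← QuotientGroup.eq_one_iff]
          have h1 : ((g⁻¹ * x ^ k * g * (x ^ k)⁻¹ : G) : G ⧸ S) =
              (g : G ⧸ S)⁻¹ * (x : G ⧸ S) ^ k * (g : G ⧸ S) * ((x : G ⧸ S) ^ k)⁻¹ := by
            simp
          rw [h1]
          have h2 : (x : G ⧸ S) ^ k * (g : G ⧸ S) = (g : G ⧸ S) * (x : G ⧸ S) ^ k := by
            have : Commute (x : G ⧸ S) (g : G ⧸ S) := hq.symm
            exact (this.zpow_left k).eq
          rw [mul_assoc _ _ (g : G ⧸ S), h2]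
          group)
      have h3 : g * n ∈ centralizer ({x} : Set G) :=
        Subgroup.centralizer_le (Set.singleton_subset_iff.mpr (mem_zpowers x)) hgn
      rw [hC] at h3
      obtain ⟨k, hk⟩ := mem_zpowers_iff.mp h3
      rw [mem_zpowers_iff]
      refine ⟨k, ?_⟩
      rw [← QuotientGroup.mk_zpow, hk, QuotientGroup.mk_mul, (QuotientGroup.eq_one_iff n).mpr hn,
        mul_one]
    · rw [zpowers_le, mem_centralizer_singleton_iff]

end PSC

end Cfsg.Agent.Lib.Helper4
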