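import Mathlib
import Cfsg.Agent.Lib.Helper4.PrimeSelfCent2

set_option autoImplicit false
set_option linter.style.haveILetI false

namespace Cfsg.Agent.Lib.Helper4

open Subgroup

universe u

/-- Counting by fibres of constant size. -/
theorem card_eq_mul_of_fibers {α β : Type*} [Finite α] [Finite β] (f : α → β) (k : ℕ)
    (h : ∀ b, Nat.card {a // f a = b} = k) : Nat.card α = Nat.card β * k := by
  haveI : Fintype β := Fintype.ofFinite β
  rw [← Nat.card_congr (Equiv.sigmaFiberEquiv f), Nat.card_sigma]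
  simp only [h, Finset.sum_const, Finset.card_univ, smul_eq_mul, Nat.card_eq_fintype_card]

theorem card_subtype_ne' {α : Type*} [Finite α] (a : α) :
    Nat.card {x : α // x ≠ a} = Nat.card α - 1 := by
  classical
  have h1 : Nat.card α = Nat.card {x : α // x = a} + Nat.card {x : α // ¬ x = a} := by
    rw [← Nat.card_sum]
    exact Nat.card_congr (Equiv.sumCompl (fun x => x = a)).symm
  have h2 : Nat.card {x : α // x = a} = 1 := by
    rw [Nat.card_eq_one_iff_unique]
    exact ⟨⟨fun x y => Subtype.ext (x.2.trans y.2.symm)⟩, ⟨⟨a, rfl⟩⟩⟩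
  rw [h2] at h1
  change Nat.card {x : α // ¬ x = a} = _
  omega

/-- The size of a conjugacy class times the order of the centralizer is the group order. -/
theorem card_eq_card_conj_mul_card_centralizer {G : Type u} [Group G] [Finite G] (g : G) :
    Nat.card G = Nat.card {x : G // IsConj g x} * Nat.card (centralizer ({g} : Set G)) := by
  apply card_eq_mul_of_fibers (fun h : G => (⟨h * g * h⁻¹, isConj_iff.mpr ⟨h, rfl⟩⟩ : {x : G // IsConj g x}))
  rintro ⟨x, hx⟩
  obtain ⟨h₀, hh₀⟩ := isConj_iff.mp hx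
  apply Nat.card_congr
  refine ⟨fun h => ⟨h₀⁻¹ * h.1, ?_⟩, fun c => ⟨h₀ * c.1, ?_⟩, ?_, ?_⟩
  · have h1 : h.1 * g * h.1⁻¹ = x := congrArg Subtype.val h.2
    rw [mem_centralizer_singleton_iff]
    have : h.1 * g * h.1⁻¹ = h₀ * g * h₀⁻¹ := h1.trans hh₀.symm
    calc h₀⁻¹ * h.1 * g = h₀⁻¹ * (h.1 * g * h.1⁻¹) * h.1 := by group
      _ = h₀⁻¹ * (h₀ * g * h₀⁻¹) * h.1 := by rw [this]
      _ = g * (h₀⁻¹ * h.1) := by group
  · have hc := mem_centralizer_singleton_iff.mp c.2
    apply Subtype.ext
    change h₀ * c.1 * g * (h₀ * c.1)⁻¹ = x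
    rw [← hh₀]
    calc h₀ * c.1 * g * (h₀ * c.1)⁻¹ = h₀ * (c.1 * g) * c.1⁻¹ * h₀⁻¹ := by group
      _ = h₀ * (g * c.1) * c.1⁻¹ * h₀⁻¹ := by rw [hc]
      _ = h₀ * g * h₀⁻¹ := by group
  · intro h; apply Subtype.ext; simp
  · intro c; apply Subtype.ext; simp


section PSCCount

variable {G : Type u} [Group G] [Finite G] {p : ℕ} {z : G}

/-- Every element of order `p` is conjugate into `⟨z⟩`. -/
theorem psc_exists_conj_mem (hp : p.Prime) (hz : orderOf z = p)
    (hC : centralizer ({z} : Set G) = zpowers z) (g : G) (hg : orderOf g = p) :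
    ∃ h : G, h * g * h⁻¹ ∈ zpowers z := by
  haveI : Fact p.Prime := ⟨hp⟩
  have hfac := psc_factorization hp hz hC
  let P₀ : Sylow p G := Sylow.ofCard (zpowers z)
    (by rw [hfac, pow_one, Nat.card_zpowers, hz])
  have hPg : IsPGroup p (zpowers g) :=
    IsPGroup.of_card (n := 1) (by rw [Nat.card_zpowers, hg, pow_one])
  obtain ⟨Q, hQ⟩ := hPg.exists_le_sylow
  obtain ⟨h, hh⟩ := MulAction.exists_smul_eq G Q P₀
  refine ⟨h, ?_⟩
  have h1 : g ∈ (Q : Subgroup G) := hQ (mem_zpowers g)
  have h2 := Subgroup.smul_mem_pointwise_smul _ (MulAut.conj h) _ h1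
  rw [← Sylow.coe_subgroup_smul, hh, MulAut.smul_def, MulAut.conj_apply] at h2
  exact h2

/-- The centralizer of an element of order `p` has order `p`. -/
theorem psc_card_centralizer (hp : p.Prime) (hz : orderOf z = p)
    (hC : centralizer ({z} : Set G) = zpowers z) (g : G) (hg : orderOf g = p) :
    Nat.card (centralizer ({g} : Set G)) = p := by
  obtain ⟨h, hh⟩ := psc_exists_conj_mem hp hz hC g hg
  have hg1 : g ≠ 1 := psc_ne_one hp hg
  have hne : h * g * h⁻¹ ≠ 1 := by
    intro h1
    apply hg1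
    have := congrArg (fun x => h⁻¹ * x * h) h1
    simpa [mul_assoc] using this
  have hzmem : z ∈ zpowers (h * g * h⁻¹) := psc_mem_zpowers_of_ne_one hp hz hh hne
  have hcent : centralizer ({h * g * h⁻¹} : Set G) = zpowers z := by
    apply le_antisymm
    · intro c hc
      rw [← hC, mem_centralizer_singleton_iff]
      rw [mem_centralizer_singleton_iff] at hc
      obtain ⟨k, hk⟩ := mem_zpowers_iff.mp hzmem
      rw [← hk]
      exact ((Commute.zpow_right (show Commute c (h * g * h⁻¹) from hc) k)).eq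
    · intro c hc
      rw [mem_centralizer_singleton_iff]
      obtain ⟨i, rfl⟩ := mem_zpowers_iff.mp hc
      obtain ⟨k, hk⟩ := mem_zpowers_iff.mp hh
      rw [← hk]
      exact ((Commute.refl z).zpow_zpow i k).eq
  have e1 := card_eq_card_conj_mul_card_centralizer g
  have e2 := card_eq_card_conj_mul_card_centralizer (h * g * h⁻¹)
  have hcl : Nat.card {x : G // IsConj g x} = Nat.card {x : G // IsConj (h * g * h⁻¹) x} := by
    apply Nat.card_congr
    apply Equiv.subtypeEquivRight
    intro x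
    have hcj : IsConj g (h * g * h⁻¹) := isConj_iff.mpr ⟨h, rfl⟩
    exact ⟨fun hx => hcj.symm.trans hx, fun hx => hcj.trans hx⟩
  rw [hcent, Nat.card_zpowers, hz, ← hcl] at e2
  have hpos : 0 < Nat.card {x : G // IsConj g x} :=
    Nat.card_pos_iff.mpr ⟨⟨⟨g, IsConj.refl g⟩⟩, inferInstance⟩
  rw [e1] at e2
  exact Nat.eq_of_mul_eq_mul_left hpos e2

/-- `[G : 1] * t = (p - 1) * p * n_p` for the number `t` of classes of elements of order `p`. -/
theorem psc_class_count (hp : p.Prime) (hz : orderOf z = p)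
    (hC : centralizer ({z} : Set G) = zpowers z) :
    ∃ n t : ℕ, t = Nat.card {c : ConjClasses G // ∃ g : G, ConjClasses.mk g = c ∧ orderOf g = p} ∧
      t ∣ p - 1 ∧ Nat.card (Sylow p G) = 1 + n * p ∧
      Nat.card G * t = (p - 1) * p * (1 + n * p) := by
  haveI : Fact p.Prime := ⟨hp⟩
  have hfac := psc_factorization hp hz hC
  -- the number of Sylow subgroups
  have hmod := card_sylow_modEq_one p G
  have hpos : 1 ≤ Nat.card (Sylow p G) := Nat.card_pos
  obtain ⟨n, hn⟩ := (Nat.modEq_iff_dvd' hpos).mp hmod.symm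
  have hnp : Nat.card (Sylow p G) = 1 + n * p := by rw [mul_comm n p]; omega
  let P₀ : Sylow p G := Sylow.ofCard (zpowers z)
    (by rw [hfac, pow_one, Nat.card_zpowers, hz])
  have hidx : Nat.card (Sylow p G) = (normalizer ((zpowers z : Subgroup G) : Set G)).index :=
    Sylow.card_eq_index_normalizer P₀
  -- elements of order `p`, counted via subgroups of order `p`
  have hE1 : Nat.card {g : G // orderOf g = p} =
      Nat.card {H : Subgroup G // Nat.card H = p} * (p - 1) := by
    apply card_eq_mul_of_fibers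
      (fun g : {g : G // orderOf g = p} =>
        (⟨zpowers g.1, by rw [Nat.card_zpowers, g.2]⟩ : {H : Subgroup G // Nat.card H = p}))
    rintro ⟨H, hH⟩
    have key : Nat.card {h : H // h ≠ 1} = p - 1 := by rw [card_subtype_ne', hH]
    rw [← key]
    apply Nat.card_congr
    refine ⟨fun g => ⟨⟨g.1.1, ?_⟩, ?_⟩, fun h => ⟨⟨h.1.1, ?_⟩, ?_⟩, ?_, ?_⟩
    · have := congrArg Subtype.val g.2
      simp only at this
      have h0 : (g.1.1 : G) ∈ zpowers (g.1.1 : G) := mem_zpowers _
      rw [this] at h0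
      exact h0
    · intro h1
      have : g.1.1 = 1 := congrArg Subtype.val h1
      exact psc_ne_one hp g.1.2 this
    · have h1 : (h.1 : G) ≠ 1 := fun h1 => h.2 (Subtype.ext h1)
      have h2 : orderOf (h.1 : G) ∣ p := by
        rw [Subgroup.orderOf_coe, ← hH]; exact orderOf_dvd_natCard _
      rcases (Nat.dvd_prime hp).mp h2 with h3 | h3
      · exact absurd (orderOf_eq_one_iff.mp h3) h1
      · exact h3
    · apply Subtype.ext
      simp only
      apply Subgroup.eq_of_le_of_card_ge (zpowers_le.mpr h.1.2)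
      rw [hH, Nat.card_zpowers]
      have h1 : (h.1 : G) ≠ 1 := fun h1 => h.2 (Subtype.ext h1)
      have h2 : orderOf (h.1 : G) ∣ p := by
        rw [Subgroup.orderOf_coe, ← hH]; exact orderOf_dvd_natCard _
      rcases (Nat.dvd_prime hp).mp h2 with h3 | h3
      · exact absurd (orderOf_eq_one_iff.mp h3) h1
      · exact h3.ge
    · intro g; rfl
    · intro h; rfl
  rw [psc_card_subgroups hp hz hC, ← hidx] at hE1
  -- elements of order `p`, counted via conjugacy classes
  have hpG : p ∣ Nat.card G := by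
    rw [← hz]; exact orderOf_dvd_natCard z
  have hE2 : Nat.card {g : G // orderOf g = p} =
      Nat.card {c : ConjClasses G // ∃ g : G, ConjClasses.mk g = c ∧ orderOf g = p} *
        (Nat.card G / p) := by
    apply card_eq_mul_of_fibers
      (fun g : {g : G // orderOf g = p} =>
        (⟨ConjClasses.mk g.1, g.1, rfl, g.2⟩ :
          {c : ConjClasses G // ∃ g : G, ConjClasses.mk g = c ∧ orderOf g = p}))
    rintro ⟨c, g₀, rfl, hg₀⟩
    have e1 := card_eq_card_conj_mul_card_centralizer g₀
    rw [psc_card_centralizer hp hz hC g₀ hg₀] at e1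
    have key : Nat.card {x : G // IsConj g₀ x} = Nat.card G / p := by
      rw [e1, Nat.mul_div_cancel _ hp.pos]
    rw [← key]
    apply Nat.card_congr
    refine ⟨fun g => ⟨g.1.1, ?_⟩, fun x => ⟨⟨x.1, ?_⟩, ?_⟩, ?_, ?_⟩
    · have := congrArg Subtype.val g.2
      simp only at this
      exact (ConjClasses.mk_eq_mk_iff_isConj.mp this).symm
    · obtain ⟨h, hh⟩ := isConj_iff.mp x.2
      have := (MulAut.conj h).orderOf_eq g₀
      rw [MulAut.conj_apply, hh] at this
      rw [this, hg₀]
    · apply Subtype.ext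
      simp only
      exact (ConjClasses.mk_eq_mk_iff_isConj.mpr x.2).symm
    · intro g; rfl
    · intro x; rfl
  -- combine
  set t := Nat.card {c : ConjClasses G // ∃ g : G, ConjClasses.mk g = c ∧ orderOf g = p} with ht
  set N := normalizer ((zpowers z : Subgroup G) : Set G) with hN
  have hG : Nat.card G = Nat.card (Sylow p G) * Nat.card N := by
    rw [hidx, mul_comm]; exact (Subgroup.card_mul_index N).symm
  have hpN : p ∣ Nat.card N := by
    have h1 : zpowers z ≤ N := Subgroup.le_normalizer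
    have h2 := Subgroup.card_dvd_of_le h1
    rwa [Nat.card_zpowers, hz] at h2
  obtain ⟨e, he⟩ := hpN
  obtain ⟨m, hm⟩ := hpG
  have hsp : 0 < Nat.card (Sylow p G) := Nat.card_pos
  have hmain : t * m = Nat.card (Sylow p G) * (p - 1) := by
    rw [← hE1, hE2, hm, Nat.mul_div_cancel_left _ hp.pos]
  have hm' : m = Nat.card (Sylow p G) * e := by
    apply Nat.eq_of_mul_eq_mul_left hp.pos
    rw [← hm, hG, he]; ring
  have hte : t * e = p - 1 := by
    apply Nat.eq_of_mul_eq_mul_left hsp
    rw [← hmain, hm']; ring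
  refine ⟨n, t, rfl, ⟨e, hte.symm⟩, hnp, ?_⟩
  rw [← hnp, hm, ← hte, hm']
  ring

end PSCCount

end Cfsg.Agent.Lib.Helper4
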