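import Cfsg.Agent.Lib.Helper17.FrCDefs
import Cfsg.Agent.Lib.Helper17.OC2Tool
import Cfsg.Agent.Lib.Helper15.FrCS
import Cfsg.Agent.Lib.Helper9.FrCPencil

/-!
# CORE13 (S5679 + S5696), block IA: roots and Siegel elements (helper4)
-/

set_option autoImplicit false
set_option linter.unusedSectionVars false
set_option linter.unusedVariables false

namespace Cfsg.Agent.Lib.Helper4.FrCLeaf

open Module QuadraticMap Matrix Cfsg.Agent.Lib.Helper25.CD Cfsg.Agent.Lib.Helper25.Spin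
  Cfsg.Agent.Lib.Helper5.NSMax Cfsg.Agent.Lib.Helper5.PairMax Cfsg.Agent.Lib.Helper17.OC2
  Cfsg.Agent.Lib.Helper29.FrStd Cfsg.Agent.Lib.Helper11.Mono Cfsg.Agent.Lib.Helper17.FrC
  Cfsg.Agent.Lib.Helper15.FrCLeaf Cfsg.Agent.Lib.Helper9.FrCLeaf

variable {κ : Type} [Fintype κ] [DecidableEq κ] {F : Type*} [Field F] [Fintype F]
  {c : F} {M : Subgroup ↥(Cfsg.isometryGroup F ⇑(stdQ κ F c))}

local notation "flp" => Cfsg.Agent.Lib.Helper17.FrC.flip

/-- `stdQ` in terms of the dot product -/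
lemma stdQ_dot (c : F) (x : κ → F) : stdQ κ F c x = c * (x ⬝ᵥ x) := stdQ_apply c x

/-- the polar form of `stdQ` in terms of the dot product -/
lemma polar_dot (c : F) (x y : κ → F) : polar (stdQ κ F c) x y = 2 * c * (x ⬝ᵥ y) := polar_stdQ c x y

lemma dot_sub_self {a b : κ → F} (ha : a ⬝ᵥ a = 1) (hb : b ⬝ᵥ b = 1) (hab : a ⬝ᵥ b = 1) :
    (b - a) ⬝ᵥ (b - a) = 0 := by
  rw [sub_dotProduct, dotProduct_sub, dotProduct_sub, hb, ha, hab, dotProduct_comm b a, hab]
  ring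

lemma dot_sub_left {a b : κ → F} (ha : a ⬝ᵥ a = 1) (hab : a ⬝ᵥ b = 1) :
    (b - a) ⬝ᵥ a = 0 := by
  rw [sub_dotProduct, ha, dotProduct_comm b a, hab]
  ring

/-- IA1. -/
theorem inA_of_pair (h : Ctx c M) {a b : κ → F} (ha : Rt c M a) (hb : Rt c M b) (hab : a ⬝ᵥ b = 1) :
    InA (stdQ κ F c) M (b - a) a := by
  intro s
  have hS := sys_of_ctx h
  have hr : Rt c M (a + (s * c) • (b - a)) := pencil h.prime hS ha hb hab (s * c)
  refine ⟨negRefl (stdQ κ F c) a * negRefl (stdQ κ F c) (a + (s * c) • (b - a)),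
    M.mul_mem ha.2 hr.2, fun x => ?_⟩
  rw [negRefl_mul]
  have hQa : stdQ κ F c a = c := by rw [stdQ_dot, ha.1, mul_one]
  have hQz : stdQ κ F c (b - a) = 0 := by
    rw [stdQ_dot, dot_sub_self ha.1 hb.1 hab, mul_zero]
  have hza : polar (stdQ κ F c) (b - a) a = 0 := by
    rw [polar_dot, dot_sub_left ha.1 hab, mul_zero]
  rw [Cfsg.Agent.Lib.Helper17.OC2Leaf.refl_pair_eq_egen h.hc hQa hQz hza x, mul_div_assoc,
    div_self h.hc, mul_one]

/-- IA2. -/
theorem rt_of_inA (h : Ctx c M) {z y : κ → F} (hz : z ⬝ᵥ z = 0) (hzy : z ⬝ᵥ y = 0) (hy : Rt c M y)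
    (hA : InA (stdQ κ F c) M z y) (t : F) : Rt c M (y + t • z) := by
  have hyz : y ⬝ᵥ z = 0 := by rw [dotProduct_comm]; exact hzy
  refine ⟨?_, ?_⟩
  · rw [add_dotProduct, dotProduct_add, dotProduct_add, hy.1, smul_dotProduct, smul_dotProduct,
      dotProduct_smul, dotProduct_smul, hz, hzy, hyz]
    simp
  · obtain ⟨g, hg, hgx⟩ := hA (t / c)
    have hQy : stdQ κ F c y = c := by rw [stdQ_dot, hy.1, mul_one]
    have hQz : stdQ κ F c z = 0 := by rw [stdQ_dot, hz, mul_zero]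
    have hpz : polar (stdQ κ F c) z y = 0 := by rw [polar_dot, hzy, mul_zero]
    have e1 : reflM (stdQ κ F c) y * reflM (stdQ κ F c) (y + t • z) = g := by
      apply toOG_injective
      ext1 x
      rw [Cfsg.Agent.Lib.Helper17.OC2Leaf.refl_pair_eq_egen h.hc hQy hQz hpz x, hgx]
    have e2 : negRefl (stdQ κ F c) (y + t • z) =
        negRefl (stdQ κ F c) y * (negRefl (stdQ κ F c) y * negRefl (stdQ κ F c) (y + t • z)) := by
      rw [← mul_assoc, negRefl_mul_self, one_mul]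
    rw [e2, negRefl_mul, e1]
    exact M.mul_mem hy.2 hg

lemma flip_eq (k : κ) (y : κ → F) : flp k y = y - (2 * y k) • e k := by
  funext l
  unfold Cfsg.Agent.Lib.Helper17.FrC.flip e
  by_cases hl : l = k
  · subst hl
    simp
    ring
  · rw [Function.update_of_ne hl]
    simp [hl]

lemma dot_e (x : κ → F) (k : κ) : x ⬝ᵥ e k = x k := by
  unfold e
  rw [dotProduct_single, mul_one]

lemma e_dot (x : κ → F) (k : κ) : e k ⬝ᵥ x = x k := by
  rw [dotProduct_comm, dot_e]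

/-- the action of `-r_{e_k}` -/
lemma negRefl_e_apply (hc : c ≠ 0) (k : κ) (x : κ → F) :
    toOG (stdQ κ F c) (negRefl (stdQ κ F c) (e k)) x = -(flp k x) := by
  rw [toOG_negRefl, reflE_apply, flip_eq, stdQ_dot, polar_dot, e_dot, e_dot]
  unfold e
  rw [Pi.single_eq_same, mul_one]
  congr 2
  congr 1
  field_simp

/-- IA3. -/
theorem inA_e_of_inA (h : Ctx c M) {z y : κ → F} (hz : z ⬝ᵥ z = 0) (hzy : z ⬝ᵥ y = 0) {k : κ}
    (hzk : z k = 0) (hyk : y k ≠ 0) (hA : InA (stdQ κ F c) M z y) : InA (stdQ κ F c) M z (e k) := by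
  have hek := rt_e h k
  have h1 := InA.conj hek.2 hA
  rw [negRefl_e_apply h.hc, negRefl_e_apply h.hc] at h1
  have hfz : flp k z = z := by
    rw [flip_eq, hzk, mul_zero, zero_smul, sub_zero]
  rw [hfz] at h1
  -- `InA z (flp k y)`
  have h2 : InA (stdQ κ F c) M z (flp k y) := by
    intro s
    obtain ⟨g, hg, hgx⟩ := h1 s
    refine ⟨g, hg, fun x => ?_⟩
    rw [hgx]
    have : (-z : κ → F) = (-1 : F) • z := by rw [neg_smul, one_smul]
    rw [this, Cfsg.Agent.Lib.Helper17.OC2Leaf.egen_smul_left]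
    congr 1
    rw [smul_neg, neg_smul, one_smul, neg_neg]
  have hQz : stdQ κ F c z = 0 := by rw [stdQ_dot, hz, mul_zero]
  have hpz : polar (stdQ κ F c) z y = 0 := by rw [polar_dot, hzy, mul_zero]
  have hpz' : polar (stdQ κ F c) z ((-1 : F) • flp k y) = 0 := by
    rw [polar_dot, flip_eq, dotProduct_smul, dotProduct_sub, hzy, dotProduct_smul, dot_e, hzk]
    simp
  have h3 := InA.add hQz hpz hpz' hA (h2.smul (-1))
  have e3 : y + (-1 : F) • flp k y = (2 * y k) • e k := by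
    rw [flip_eq]
    module
  rw [e3] at h3
  have h4 := h3.smul ((2 * y k)⁻¹)
  rw [smul_smul, inv_mul_cancel₀ (mul_ne_zero h.h2 hyk), one_smul] at h4
  exact h4

end Cfsg.Agent.Lib.Helper4.FrCLeaf
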