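import Cfsg.Agent.Lib.Helper4.FrCIA

/-!
# CORE13 (S5679 + S5696), block SH: shrinking the singular vector (helper4)
-/

set_option autoImplicit false
set_option linter.unusedSectionVars false
set_option linter.unusedVariables false

namespace Cfsg.Agent.Lib.Helper4.FrCLeaf

open Module QuadraticMap Matrix Cfsg.Agent.Lib.Helper25.CD Cfsg.Agent.Lib.Helper25.Spin
  Cfsg.Agent.Lib.Helper5.NSMax Cfsg.Agent.Lib.Helper5.PairMax Cfsg.Agent.Lib.Helper17.OC2
  Cfsg.Agent.Lib.Helper29.FrStd Cfsg.Agent.Lib.Helper11.Mono Cfsg.Agent.Lib.Helper17.FrC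
  Cfsg.Agent.Lib.Helper15.FrCLeaf Cfsg.Agent.Lib.Helper9.FrCLeaf

variable {κ : Type} [Fintype κ] [DecidableEq κ] {F : Type*} [Field F] [Fintype F]
  {c : F} {M : Subgroup ↥(Cfsg.isometryGroup F ⇑(stdQ κ F c))}

local notation "flp" => Cfsg.Agent.Lib.Helper17.FrC.flip

/-- flipping all the coordinates of a finite set -/
lemma sys_flip_set {R : (κ → F) → Prop} (hS : Sys R) (K : Finset κ) :
    ∀ a : κ → F, R a → R (fun l => if l ∈ K then -(a l) else a l) := by
  classical
  induction K using Finset.induction_on with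
  | empty => intro a ha; simpa using ha
  | insert j K hj ih =>
    intro a ha
    have h1 := hS.flip _ j (ih a ha)
    have e1 : flp j (fun l => if l ∈ K then -(a l) else a l) =
        fun l => if l ∈ insert j K then -(a l) else a l := by
      funext l
      unfold Cfsg.Agent.Lib.Helper17.FrC.flip
      by_cases hl : l = j
      · subst hl
        simp [hj]
      · rw [Function.update_of_ne hl]
        simp [hl]
    rw [e1] at h1
    exact h1

/-- the sum of squares over the support is the dot product -/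
lemma sum_supp_sq (z : κ → F) : ∑ l ∈ supp z, z l ^ 2 = z ⬝ᵥ z := by
  classical
  unfold dotProduct
  rw [← Finset.sum_subset (Finset.subset_univ (supp z))]
  · exact Finset.sum_congr rfl (fun l _ => by ring)
  · intro l _ hl
    rw [mem_supp, not_not] at hl
    rw [hl, mul_zero]

/-- `InA` only depends on the line of the centre -/
lemma inA_of_smul {z y : κ → F} {d : F} (hd : d ≠ 0) (hA : InA (stdQ κ F c) M (d • z) y) :
    InA (stdQ κ F c) M z y := by
  intro s
  obtain ⟨g, hg, hgx⟩ := hA (s / d)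
  refine ⟨g, hg, fun x => ?_⟩
  rw [hgx, Cfsg.Agent.Lib.Helper17.OC2Leaf.egen_smul_left, smul_smul, mul_div_cancel₀ _ hd]

/-- SH1. -/
theorem shrink (h : Ctx c M) {m : κ} {z : κ → F} (hP : PZ c M m z) (J : Finset κ) (hJ : J ⊆ supp z)
    {ν : F} (hν : ν ≠ 0) (hJν : ∑ l ∈ J, z l ^ 2 = ν ^ 2) (hK : (supp z \ J).Nonempty) {k : κ} (hk : k ∈ J) :
    PZ c M k (fun l => if l = m then 1 else if l ∈ supp z \ J then ν⁻¹ * z l else 0) := by
  classical
  obtain ⟨hzm, hzz, hz0, hA⟩ := hP
  have hS := sys_of_ctx h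
  have hem := rt_e h m
  have hzem : z ⬝ᵥ e m = 0 := by rw [dot_e]; exact hzm
  -- sums over `J` and `K`
  have hsumK : ∑ l ∈ supp z \ J, z l ^ 2 = -ν ^ 2 := by
    have := Finset.sum_sdiff (f := fun l => z l ^ 2) hJ
    rw [sum_supp_sq, hzz, hJν] at this
    exact eq_neg_of_add_eq_zero_left this
  have hkm : k ≠ m := by
    intro hkm
    have := mem_supp.1 (hJ hk)
    rw [hkm] at this
    exact this hzm
  have hmK : m ∉ supp z \ J := by
    intro hm
    exact (mem_supp.1 (Finset.mem_sdiff.1 hm).1) hzm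
  have hkK : k ∉ supp z \ J := fun hkK => (Finset.mem_sdiff.1 hkK).2 hk
  -- the two roots
  have hw : Rt c M (e m + ν⁻¹ • z) := rt_of_inA h hzz hzem hem hA ν⁻¹
  have hw0 : Rt c M (e m + (-ν⁻¹) • z) := rt_of_inA h hzz hzem hem hA (-ν⁻¹)
  have hw1 := hS.neg _ (sys_flip_set hS (supp z \ J) _ hw0)
  obtain ⟨w, hwdef⟩ : ∃ w : κ → F, w = e m + ν⁻¹ • z := ⟨_, rfl⟩
  obtain ⟨w', hw'def⟩ : ∃ w' : κ → F,
      w' = -(fun l => if l ∈ supp z \ J then -((e m + (-ν⁻¹) • z : κ → F) l) else (e m + (-ν⁻¹) • z : κ → F) l) :=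
    ⟨_, rfl⟩
  rw [← hwdef] at hw
  rw [← hw'def] at hw1
  obtain ⟨z₂, hz₂def⟩ : ∃ z₂ : κ → F,
      z₂ = fun l => if l = m then 1 else if l ∈ supp z \ J then ν⁻¹ * z l else 0 := ⟨_, rfl⟩
  rw [← hz₂def]
  -- coordinates
  have hwl : ∀ l, w l = if l = m then 1 else ν⁻¹ * z l := by
    intro l
    rw [hwdef]
    unfold e
    by_cases hl : l = m
    · subst hl; simp [hzm]
    · simp [hl]
  have hw'l : ∀ l, w' l = if l = m then -1 else if l ∈ supp z \ J then -(ν⁻¹ * z l) else ν⁻¹ * z l := by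
    intro l
    rw [hw'def, Pi.neg_apply]
    have hv : ∀ l', (e m + (-ν⁻¹) • z : κ → F) l' = if l' = m then 1 else -(ν⁻¹ * z l') := by
      intro l'
      unfold e
      by_cases hl' : l' = m
      · subst hl'; simp [hzm]
      · simp [hl']
    by_cases hl : l = m
    · subst hl
      rw [if_neg hmK, hv, if_pos rfl, if_pos rfl]
    · by_cases hlK : l ∈ supp z \ J
      · rw [if_pos hlK, hv, if_neg hl, if_neg hl, if_pos hlK, neg_neg]
      · rw [if_neg hlK, hv, if_neg hl, if_neg hl, if_neg hlK, neg_neg]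
  have hdiff : w' - w = (-2 : F) • z₂ := by
    funext l
    rw [Pi.sub_apply, Pi.smul_apply, hwl, hw'l, hz₂def]
    by_cases hl : l = m
    · subst hl; simp; ring
    · by_cases hlK : l ∈ supp z \ J
      · simp only [hl, hlK, if_false, if_true, smul_eq_mul]; ring
      · simp only [hl, hlK, if_false, smul_eq_mul]; ring
  -- `w ⬝ᵥ w' = 1`
  have hsplit : ∀ f : κ → F, (∀ l, l ∉ supp z → l ≠ m → f l = 0) →
      ∑ l, f l = f m + ∑ l ∈ J, f l + ∑ l ∈ supp z \ J, f l := by
    intro f hf
    have hmz : m ∉ supp z := fun hm => (mem_supp.1 hm) hzm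
    rw [← Finset.sum_subset (Finset.subset_univ (insert m (supp z)))]
    · rw [Finset.sum_insert hmz, ← Finset.sum_sdiff hJ]
      ring
    · intro l _ hl
      rw [Finset.mem_insert, not_or] at hl
      exact hf l hl.2 hl.1
  have hzero : ∀ l, l ∉ supp z → z l = 0 := fun l hl => by
    rw [mem_supp, not_not] at hl; exact hl
  have hww' : w ⬝ᵥ w' = 1 := by
    unfold dotProduct
    rw [hsplit]
    · have e1 : ∑ l ∈ J, w l * w' l = ∑ l ∈ J, (ν⁻¹) ^ 2 * z l ^ 2 := by
        refine Finset.sum_congr rfl (fun l hl => ?_)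
        have hlm : l ≠ m := fun hlm => by
          have := mem_supp.1 (hJ hl); rw [hlm] at this; exact this hzm
        have hlK : l ∉ supp z \ J := fun hlK => (Finset.mem_sdiff.1 hlK).2 hl
        rw [hwl, hw'l]
        simp only [hlm, hlK, if_false]
        ring
      have e2 : ∑ l ∈ supp z \ J, w l * w' l = ∑ l ∈ supp z \ J, -((ν⁻¹) ^ 2 * z l ^ 2) := by
        refine Finset.sum_congr rfl (fun l hl => ?_)
        have hlm : l ≠ m := fun hlm => hmK (hlm ▸ hl)
        rw [hwl, hw'l]
        simp only [hlm, hl, if_false, if_true]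
        ring
      rw [e1, e2, Finset.sum_neg_distrib, ← Finset.mul_sum, ← Finset.mul_sum, hJν, hsumK, hwl, hw'l]
      simp only [if_true]
      field_simp
      ring
    · intro l hl hlm
      rw [hwl]
      simp only [hlm, if_false]
      rw [hzero l hl, mul_zero, zero_mul]
  -- IA1
  have hA1 : InA (stdQ κ F c) M (w' - w) w := inA_of_pair h hw hw1 hww'
  rw [hdiff] at hA1
  have hA2 : InA (stdQ κ F c) M z₂ w := inA_of_smul (by
    intro h0
    exact h.h2 (by rw [neg_eq_zero] at h0; exact h0)) hA1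
  -- the new vector
  have hz₂m : z₂ m = 1 := by rw [hz₂def]; simp
  have hz₂k : z₂ k = 0 := by rw [hz₂def]; simp [hkm, hkK]
  have hz₂z₂ : z₂ ⬝ᵥ z₂ = 0 := by
    unfold dotProduct
    rw [hsplit]
    · have e1 : ∑ l ∈ J, z₂ l * z₂ l = 0 := by
        refine Finset.sum_eq_zero (fun l hl => ?_)
        have hlm : l ≠ m := fun hlm => by
          have := mem_supp.1 (hJ hl); rw [hlm] at this; exact this hzm
        have hlK : l ∉ supp z \ J := fun hlK => (Finset.mem_sdiff.1 hlK).2 hl
        rw [hz₂def]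
        simp [hlm, hlK]
      have e2 : ∑ l ∈ supp z \ J, z₂ l * z₂ l = ∑ l ∈ supp z \ J, (ν⁻¹) ^ 2 * z l ^ 2 := by
        refine Finset.sum_congr rfl (fun l hl => ?_)
        have hlm : l ≠ m := fun hlm => hmK (hlm ▸ hl)
        rw [hz₂def]
        simp only [hlm, hl, if_false, if_true]
        ring
      rw [e1, e2, ← Finset.mul_sum, hsumK, hz₂m]
      field_simp
      ring
    · intro l hl hlm
      have hlK : l ∉ supp z \ J := fun hlK => hl (Finset.mem_sdiff.1 hlK).1
      rw [hz₂def]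
      simp [hlm, hlK]
  have hz₂w : z₂ ⬝ᵥ w = 0 := by
    unfold dotProduct
    rw [hsplit]
    · have e1 : ∑ l ∈ J, z₂ l * w l = 0 := by
        refine Finset.sum_eq_zero (fun l hl => ?_)
        have hlm : l ≠ m := fun hlm => by
          have := mem_supp.1 (hJ hl); rw [hlm] at this; exact this hzm
        have hlK : l ∉ supp z \ J := fun hlK => (Finset.mem_sdiff.1 hlK).2 hl
        rw [hz₂def]
        simp [hlm, hlK]
      have e2 : ∑ l ∈ supp z \ J, z₂ l * w l = ∑ l ∈ supp z \ J, (ν⁻¹) ^ 2 * z l ^ 2 := by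
        refine Finset.sum_congr rfl (fun l hl => ?_)
        have hlm : l ≠ m := fun hlm => hmK (hlm ▸ hl)
        rw [hz₂def, hwl]
        simp only [hlm, hl, if_false, if_true]
        ring
      rw [e1, e2, ← Finset.mul_sum, hsumK, hz₂m, hwl]
      simp only [if_true]
      field_simp
      ring
    · intro l hl hlm
      have hlK : l ∉ supp z \ J := fun hlK => hl (Finset.mem_sdiff.1 hlK).1
      rw [hz₂def]
      simp [hlm, hlK]
  have hwk : w k ≠ 0 := by
    rw [hwl]
    simp only [hkm, if_false]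
    exact mul_ne_zero (inv_ne_zero hν) (mem_supp.1 (hJ hk))
  refine ⟨hz₂k, hz₂z₂, ?_, inA_e_of_inA h hz₂z₂ hz₂w hz₂k hwk hA2⟩
  intro h0
  rw [h0] at hz₂m
  exact zero_ne_one hz₂m


/-- a non-zero vector has a non-zero coordinate -/
lemma exists_mem_supp {z : κ → F} (hz0 : z ≠ 0) : ∃ l, l ∈ supp z := by
  by_contra hcon
  apply hz0
  funext l
  by_contra hl
  exact hcon ⟨l, mem_supp.2 hl⟩

/-- SH2. -/
theorem pz_two (h : Ctx c M) {j₀ : F} (hj : j₀ ^ 2 = -1) {m : κ} {z : κ → F} (hP : PZ c M m z) :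
    ∃ (k l : κ) (j : F), j ^ 2 = -1 ∧ k ≠ m ∧ l ≠ m ∧ k ≠ l ∧ PZ c M k (e m + j • e l) := by
  classical
  have hP' := hP
  obtain ⟨hzm, hzz, hz0, hA⟩ := hP
  obtain ⟨l, hl⟩ := exists_mem_supp hz0
  have hzl : z l ≠ 0 := mem_supp.1 hl
  have hj0 : j₀ ≠ 0 := by
    intro h0
    rw [h0] at hj
    simp at hj
  have hν : j₀ * z l ≠ 0 := mul_ne_zero hj0 hzl
  have hJsub : (supp z).erase l ⊆ supp z := Finset.erase_subset _ _
  have hJν : ∑ l' ∈ (supp z).erase l, z l' ^ 2 = (j₀ * z l) ^ 2 := by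
    have := Finset.add_sum_erase (supp z) (fun l' => z l' ^ 2) hl
    rw [sum_supp_sq, hzz] at this
    rw [mul_pow, hj]
    linear_combination this
  have hK : supp z \ (supp z).erase l = {l} := by
    ext l'
    rw [Finset.mem_sdiff, Finset.mem_erase, Finset.mem_singleton]
    constructor
    · rintro ⟨h1, h2⟩
      by_contra hne
      exact h2 ⟨hne, h1⟩
    · rintro rfl
      exact ⟨hl, fun h2 => h2.1 rfl⟩
  have hJne : ((supp z).erase l).Nonempty := by
    by_contra hcon
    rw [Finset.not_nonempty_iff_eq_empty] at hcon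
    rw [hcon, Finset.sum_empty] at hJν
    exact hν (pow_eq_zero_iff (two_ne_zero) |>.1 hJν.symm)
  obtain ⟨k, hk⟩ := hJne
  have hkl : k ≠ l := (Finset.mem_erase.1 hk).1
  have hkz : z k ≠ 0 := mem_supp.1 (Finset.mem_erase.1 hk).2
  have hkm : k ≠ m := fun hkm => hkz (hkm ▸ hzm)
  have hlm : l ≠ m := fun hlm => hzl (hlm ▸ hzm)
  have hsh := shrink h hP' ((supp z).erase l) hJsub hν hJν (by rw [hK]; exact Finset.singleton_nonempty l) hk
  refine ⟨k, l, (j₀ * z l)⁻¹ * z l, ?_, hkm, hlm, hkl, ?_⟩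
  · rw [mul_pow, inv_pow, mul_pow, hj]
    field_simp
  · have e1 : (fun l' => if l' = m then 1 else if l' ∈ supp z \ (supp z).erase l then (j₀ * z l)⁻¹ * z l' else 0) =
        e m + ((j₀ * z l)⁻¹ * z l) • e l := by
      funext l'
      rw [hK, Pi.add_apply, Pi.smul_apply]
      unfold e
      by_cases h1 : l' = m
      · subst h1
        rw [if_pos rfl, Pi.single_eq_same, Pi.single_eq_of_ne hlm.symm]
        simp
      · rw [if_neg h1, Pi.single_eq_of_ne h1]
        by_cases h2 : l' = l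
        · subst h2
          rw [if_pos (Finset.mem_singleton_self _), Pi.single_eq_same]
          simp
        · rw [if_neg (by rw [Finset.mem_singleton]; exact h2), Pi.single_eq_of_ne h2]
          simp
    rw [e1] at hsh
    exact hsh


/-- the support of the shrunk vector -/
lemma supp_shrunk {m : κ} {z : κ → F} (K : Finset κ) (hK : K ⊆ supp z) {u : F} (hu : u ≠ 0) :
    supp (fun l => if l = m then (1 : F) else if l ∈ K then u * z l else 0) = insert m K := by
  classical
  ext l
  rw [mem_supp, Finset.mem_insert]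
  by_cases h1 : l = m
  · simp [h1]
  · by_cases h2 : l ∈ K
    · have : z l ≠ 0 := mem_supp.1 (hK h2)
      simp [h1, h2, hu, this]
    · simp [h1, h2]

/-- if `-1` is a non-square then one of `μ`, `-μ` is a square -/
lemma isSquare_or_neg (hm1 : ¬ IsSquare (-1 : F)) (μ : F) : IsSquare μ ∨ IsSquare (-μ) := by
  classical
  by_cases hμ : μ = 0
  · left; rw [hμ]; exact IsSquare.zero
  · by_cases hs : IsSquare μ
    · left; exact hs
    · right
      have h1 : quadraticChar F μ = -1 := quadraticChar_neg_one_iff_not_isSquare.2 hs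
      have h2 : quadraticChar F (-1) = -1 := quadraticChar_neg_one_iff_not_isSquare.2 hm1
      have h3 : quadraticChar F (-μ) = 1 := by
        rw [show (-μ : F) = -1 * μ by ring, map_mul, h1, h2]
        norm_num
      exact (quadraticChar_one_iff_isSquare (neg_ne_zero.2 hμ)).1 h3

/-- SH3. -/
theorem pz_three (h : Ctx c M) (hm1 : ¬ IsSquare (-1 : F)) {m : κ} {z : κ → F} (hP : PZ c M m z) :
    ∃ (k : κ) (z' : κ → F), PZ c M k z' ∧ (supp z').card = 3 := by
  classical
  have key : ∀ n : ℕ, ∀ (m : κ) (z : κ → F), PZ c M m z → (supp z).card = n →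
      ∃ (k : κ) (z' : κ → F), PZ c M k z' ∧ (supp z').card = 3 := by
    intro n
    induction n using Nat.strong_induction_on with
    | _ n ih =>
      intro m z hP hn
      have hP' := hP
      obtain ⟨hzm, hzz, hz0, hA⟩ := hP
      obtain ⟨l₁, hl₁⟩ := exists_mem_supp hz0
      have hz1 : z l₁ ≠ 0 := mem_supp.1 hl₁
      have hsum1 := Finset.add_sum_erase (supp z) (fun l' => z l' ^ 2) hl₁
      rw [sum_supp_sq, hzz] at hsum1
      have hne1 : ((supp z).erase l₁).Nonempty := by
        by_contra hcon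
        rw [Finset.not_nonempty_iff_eq_empty] at hcon
        rw [hcon, Finset.sum_empty, add_zero] at hsum1
        exact hz1 (pow_eq_zero_iff (two_ne_zero) |>.1 hsum1)
      obtain ⟨l₂, hl₂⟩ := hne1
      have hl₂' : l₂ ∈ supp z := (Finset.mem_erase.1 hl₂).2
      have hl21 : l₂ ≠ l₁ := (Finset.mem_erase.1 hl₂).1
      have hz2 : z l₂ ≠ 0 := mem_supp.1 hl₂'
      have hμ : z l₁ ^ 2 + z l₂ ^ 2 ≠ 0 := by
        intro h0
        apply hm1
        refine ⟨z l₁ / z l₂, ?_⟩
        rw [div_mul_div_comm, eq_div_iff (mul_ne_zero hz2 hz2)]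
        linear_combination (-1 : F) * h0
      have hJ2 : ({l₁, l₂} : Finset κ) ⊆ supp z := by
        intro l hl
        rw [Finset.mem_insert, Finset.mem_singleton] at hl
        rcases hl with rfl | rfl
        · exact hl₁
        · exact hl₂'
      have hsumJ : ∑ l ∈ ({l₁, l₂} : Finset κ), z l ^ 2 = z l₁ ^ 2 + z l₂ ^ 2 := by
        rw [Finset.sum_pair hl21.symm]
      have hsumR : ∑ l ∈ supp z \ {l₁, l₂}, z l ^ 2 = -(z l₁ ^ 2 + z l₂ ^ 2) := by
        have := Finset.sum_sdiff (f := fun l => z l ^ 2) hJ2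
        rw [sum_supp_sq, hzz, hsumJ] at this
        exact eq_neg_of_add_eq_zero_left this
      have hRne : (supp z \ {l₁, l₂}).Nonempty := by
        by_contra hcon
        rw [Finset.not_nonempty_iff_eq_empty] at hcon
        rw [hcon, Finset.sum_empty] at hsumR
        exact hμ (neg_eq_zero.1 hsumR.symm)
      have hcardR : (supp z \ {l₁, l₂}).card = n - 2 := by
        rw [Finset.card_sdiff_of_subset hJ2, hn, Finset.card_pair hl21.symm]
      have hmz : m ∉ supp z := fun hm => (mem_supp.1 hm) hzm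
      by_cases hn3 : n = 3
      · exact ⟨m, z, hP', by rw [hn, hn3]⟩
      · have hRpos : 0 < (supp z \ {l₁, l₂}).card := Finset.card_pos.2 hRne
        rcases isSquare_or_neg hm1 (z l₁ ^ 2 + z l₂ ^ 2) with ⟨ν, hν⟩ | ⟨ν, hν⟩
        · -- `μ` is a square: shrink to `m ∪ rest`
          have hν0 : ν ≠ 0 := by
            intro h0; rw [h0, mul_zero] at hν; exact hμ hν
          have hJν : ∑ l ∈ ({l₁, l₂} : Finset κ), z l ^ 2 = ν ^ 2 := by rw [hsumJ, hν]; ring
          have hsh := shrink h hP' {l₁, l₂} hJ2 hν0 hJν hRne (Finset.mem_insert_self l₁ _)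
          refine ih (n - 1) (by omega) l₁ _ hsh ?_
          rw [supp_shrunk _ Finset.sdiff_subset (inv_ne_zero hν0),
            Finset.card_insert_of_notMem (fun hm => hmz (Finset.mem_sdiff.1 hm).1), hcardR]
          omega
        · -- `-μ` is a square: shrink to `{m, l₁, l₂}`
          have hν0 : ν ≠ 0 := by
            intro h0; rw [h0, mul_zero] at hν; exact hμ (neg_eq_zero.1 hν)
          have hJν : ∑ l ∈ supp z \ {l₁, l₂}, z l ^ 2 = ν ^ 2 := by rw [hsumR, hν]; ring
          have hKeq : supp z \ (supp z \ {l₁, l₂}) = {l₁, l₂} := Finset.sdiff_sdiff_eq_self hJ2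
          obtain ⟨k, hk⟩ := hRne
          have hsh := shrink h hP' (supp z \ {l₁, l₂}) Finset.sdiff_subset hν0 hJν
            (by rw [hKeq]; exact ⟨l₁, Finset.mem_insert_self l₁ _⟩) hk
          refine ⟨k, _, hsh, ?_⟩
          rw [supp_shrunk _ Finset.sdiff_subset (inv_ne_zero hν0), hKeq,
            Finset.card_insert_of_notMem (fun hm => hmz (hJ2 hm)), Finset.card_pair hl21.symm]
  exact key _ m z hP rfl

end Cfsg.Agent.Lib.Helper4.FrCLeaf
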