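import Mathlib
import Cfsg.Agent.Lib.Helper17.SLMDefs
import Cfsg.Agent.Lib.Helper1.SLMTools

/-!
SLnMax market (helper17): leaf P3 `not_sl_le_field` (helper4).
-/

set_option autoImplicit false
set_option linter.unusedSectionVars false
set_option linter.unusedVariables false

namespace Cfsg.Agent.Lib.Helper4.SLMLeaf

open Cfsg.Geo Matrix Module Cfsg.Agent.Lib.Helper17.SLM

variable {n : ℕ} {F : Type*} [Field F] [Fintype F]

/-- a transvection fixes the vectors whose `j`-th coordinate vanishes -/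
theorem transvection_mulVec_of_eq_zero {F : Type*} [Field F] {n : ℕ} (i j : Fin n) (c : F) (w : Fin n → F)
    (hw : w j = 0) : Matrix.transvection i j c *ᵥ w = w := by
  rw [Matrix.transvection, Matrix.add_mulVec, Matrix.one_mulVec, Matrix.single_mulVec_eq, hw, mul_zero,
    zero_smul, add_zero]

/-- P3. -/
theorem not_sl_le_field (hn : 3 ≤ n) {r : ℕ} (hr : r.Prime) {K : Subalgebra F (Matrix (Fin n) (Fin n) F)}
    (hK : IsFieldSubalgebra r K) : ¬ specialLinear (Fin n) F ≤ subalgebraNormalizer K := by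
  intro hle
  -- every element of `K` commutes with all transvections
  have hcomm : ∀ k ∈ K, ∀ i j : Fin n, i ≠ j →
      k * Matrix.transvection i j (1 : F) = Matrix.transvection i j (1 : F) * k := by
    intro k hk i j hij
    obtain ⟨t, ht, htM⟩ := Cfsg.Agent.Lib.Helper1.SLMLeaf.transvection_mem_sl (F := F) hij (1 : F)
    have hnorm : ∀ k : Matrix (Fin n) (Fin n) F, k ∈ K ↔
        (t : Matrix (Fin n) (Fin n) F) * k * ((t⁻¹ : GL (Fin n) F) : Matrix (Fin n) (Fin n) F) ∈ K := hle ht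
    have htt : ((t⁻¹ : GL (Fin n) F) : Matrix (Fin n) (Fin n) F) * (t : Matrix (Fin n) (Fin n) F) = 1 := by
      rw [← Units.val_mul, inv_mul_cancel, Units.val_one]
    obtain ⟨k', hk'def⟩ : ∃ k' : Matrix (Fin n) (Fin n) F,
        k' = (t : Matrix (Fin n) (Fin n) F) * k * ((t⁻¹ : GL (Fin n) F) : Matrix (Fin n) (Fin n) F) := ⟨_, rfl⟩
    have hk' : k' ∈ K := by rw [hk'def]; exact (hnorm k).1 hk
    have hd : k' - k ∈ K := K.sub_mem hk' hk
    -- a non-zero vector `v` with `v j = 0` and `(k v) j = 0`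
    obtain ⟨f, hf⟩ : ∃ f : (Fin n → F) →ₗ[F] F × F,
        f = LinearMap.prod (LinearMap.proj j) ((LinearMap.proj j).comp (Matrix.toLin' k)) := ⟨_, rfl⟩
    have hker : LinearMap.ker f ≠ ⊥ := by
      apply LinearMap.ker_ne_bot_of_finrank_lt
      rw [Module.finrank_prod, Module.finrank_self, Module.finrank_fin_fun]
      omega
    obtain ⟨v, hvk, hv0⟩ := Submodule.exists_mem_ne_zero_of_ne_bot hker
    rw [LinearMap.mem_ker, hf, LinearMap.prod_apply] at hvk
    have hvk' : ((LinearMap.proj j : (Fin n → F) →ₗ[F] F) v,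
        ((LinearMap.proj j : (Fin n → F) →ₗ[F] F).comp (Matrix.toLin' k)) v) = ((0, 0) : F × F) := hvk
    rw [Prod.mk.injEq] at hvk'
    obtain ⟨hv1, hv2⟩ := hvk'
    have hv1' : v j = 0 := hv1
    have hv2' : (k *ᵥ v) j = 0 := by
      have : (Matrix.toLin' k v) j = 0 := hv2
      rwa [Matrix.toLin'_apply] at this
    -- `t` fixes `v` and `k v`
    have htv : (t : Matrix (Fin n) (Fin n) F) *ᵥ v = v := by
      rw [htM]; exact transvection_mulVec_of_eq_zero i j 1 v hv1'
    have htkv : (t : Matrix (Fin n) (Fin n) F) *ᵥ (k *ᵥ v) = k *ᵥ v := by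
      rw [htM]; exact transvection_mulVec_of_eq_zero i j 1 _ hv2'
    have htiv : ((t⁻¹ : GL (Fin n) F) : Matrix (Fin n) (Fin n) F) *ᵥ v = v := by
      have h1 : ((t⁻¹ : GL (Fin n) F) : Matrix (Fin n) (Fin n) F) *ᵥ ((t : Matrix (Fin n) (Fin n) F) *ᵥ v) = v := by
        rw [Matrix.mulVec_mulVec, htt, Matrix.one_mulVec]
      rw [htv] at h1
      exact h1
    have hdv : (k' - k) *ᵥ v = 0 := by
      rw [Matrix.sub_mulVec, hk'def, ← Matrix.mulVec_mulVec, ← Matrix.mulVec_mulVec, htiv, htkv, sub_self]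
    -- so `k' = k`
    have hd0 : k' - k = 0 := by
      by_contra hne
      obtain ⟨y, hy, hdy⟩ := hK.inv _ hd hne
      have hyd : y * (k' - k) = 1 := by rw [hK.comm y hy _ hd]; exact hdy
      apply hv0
      have : (y * (k' - k)) *ᵥ v = v := by rw [hyd, Matrix.one_mulVec]
      rw [← Matrix.mulVec_mulVec, hdv, Matrix.mulVec_zero] at this
      exact this.symm
    have hkk : k' = k := sub_eq_zero.1 hd0
    rw [← htM]
    calc k * (t : Matrix (Fin n) (Fin n) F) = k' * (t : Matrix (Fin n) (Fin n) F) := by rw [hkk]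
      _ = (t : Matrix (Fin n) (Fin n) F) * k := by
          rw [hk'def, mul_assoc, htt, mul_one]
  -- so `K` consists of scalars
  have hKbot : K = ⊥ := by
    rw [eq_bot_iff]
    intro k hk
    obtain ⟨c, hc⟩ := Cfsg.Agent.Lib.Helper1.SLMLeaf.scalar_of_commute_transvections k (hcomm k hk)
    rw [Algebra.mem_bot]
    exact ⟨c, by rw [hc, Algebra.algebraMap_eq_smul_one]⟩
  haveI : Nonempty (Fin n) := ⟨⟨0, by omega⟩⟩
  have h1 := hK.finrank_eq
  rw [hKbot, Subalgebra.finrank_bot] at h1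
  exact Nat.not_prime_one (h1 ▸ hr)

end Cfsg.Agent.Lib.Helper4.SLMLeaf
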