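import Mathlib
import Cfsg.Agent.Lib.Helper17.SLMDefs
import Cfsg.Agent.Lib.Helper1.SLMTools
import Cfsg.Agent.Lib.Helper4.SLMT56
import Cfsg.Agent.Lib.Helper4.AschA1

/-!
SLnMax market (helper17): leaf P6 `not_sl_le_symplType` (helper4).
-/

set_option autoImplicit false
set_option linter.unusedSectionVars false
set_option linter.unusedVariables false

namespace Cfsg.Agent.Lib.Helper4.SLMLeaf

open Cfsg.Geo Matrix Module Cfsg.Agent.Lib.Helper17.SLM
open scoped commutatorElement

variable {n : ℕ} {F : Type*} [Field F] [Fintype F]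

/-- an element centralising a perfect group modulo scalars centralises it -/
theorem le_centralizer_of_comm_scalars {F : Type*} [Field F] {n : ℕ} {N : Subgroup (GL (Fin n) F)}
    (hperf : ⁅N, N⁆ = N) (h : GL (Fin n) F)
    (hc : ∀ x ∈ N, h * x * h⁻¹ * x⁻¹ ∈ scalars (Fin n) F) : N ≤ Subgroup.centralizer {h} := by
  have hconj : ∀ x ∈ N, ∃ z ∈ scalars (Fin n) F, h * x * h⁻¹ = z * x := by
    intro x hx
    exact ⟨_, hc x hx, by group⟩
  have hcomm : ⁅N, N⁆ ≤ Subgroup.centralizer {h} := by
    rw [Subgroup.commutator_le]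
    intro x hx y hy
    rw [Subgroup.mem_centralizer_iff]
    intro k hk
    rw [Set.mem_singleton_iff] at hk
    subst hk
    obtain ⟨z, hz, hzx⟩ := hconj x hx
    obtain ⟨w, hw, hwy⟩ := hconj y hy
    have e1 : k * ⁅x, y⁆ * k⁻¹ = ⁅k * x * k⁻¹, k * y * k⁻¹⁆ := by
      rw [commutatorElement_def, commutatorElement_def]; group
    have e2 : ⁅z * x, w * y⁆ = ⁅x, y⁆ := by
      rw [Cfsg.Agent.Lib.Helper4.AschLeaf.comm_central_left (Cfsg.Agent.Lib.Helper4.AschLeaf.scalars_comm hz),
        Cfsg.Agent.Lib.Helper4.AschLeaf.comm_central_right (Cfsg.Agent.Lib.Helper4.AschLeaf.scalars_comm hw)]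
    rw [hzx, hwy, e2] at e1
    calc k * ⁅x, y⁆ = k * ⁅x, y⁆ * k⁻¹ * k := by group
      _ = ⁅x, y⁆ * k := by rw [e1]
  rw [hperf] at hcomm
  exact hcomm

/-- an invertible matrix which is a multiple of the identity is a scalar -/
theorem mem_scalars_of_smul_one {F : Type*} [Field F] {n : ℕ} (g : GL (Fin n) F) (c : F)
    (hcM : (g : Matrix (Fin n) (Fin n) F) = c • (1 : Matrix (Fin n) (Fin n) F)) : g ∈ scalars (Fin n) F := by
  rw [mem_scalars_iff]
  by_cases hc0 : c = 0
  · rw [hc0, zero_smul] at hcM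
    have h1 : (g : Matrix (Fin n) (Fin n) F) * ((g⁻¹ : GL (Fin n) F) : Matrix (Fin n) (Fin n) F) = 1 := by
      rw [← Units.val_mul, mul_inv_cancel, Units.val_one]
    rw [hcM, zero_mul] at h1
    refine ⟨1, ?_⟩
    rw [Units.val_one, one_smul, hcM]
    exact h1
  · exact ⟨Units.mk0 c hc0, hcM⟩

/-- a group of scalars is not irreducible in dimension at least two -/
theorem not_irr_of_le_scalars {F : Type*} [Field F] {n : ℕ} (hn : 2 ≤ n) {R : Subgroup (GL (Fin n) F)}
    (hRs : R ≤ scalars (Fin n) F) : ¬ ActsIrreducibly (matrixSet R) := by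
  intro hirr
  obtain ⟨W, hW⟩ : ∃ W : Submodule F (Fin n → F),
      W = Submodule.span F {(Pi.single (⟨0, by omega⟩ : Fin n) (1 : F) : Fin n → F)} := ⟨_, rfl⟩
  have hinv : ∀ s ∈ matrixSet R, W.map (Matrix.toLin' s) ≤ W := by
    rintro _ ⟨g, hg, rfl⟩
    obtain ⟨c, hc⟩ := (mem_scalars_iff g).1 (hRs hg)
    rintro _ ⟨v, hv, rfl⟩
    simp only [hc]
    rw [Matrix.toLin'_apply, Matrix.smul_mulVec, Matrix.one_mulVec]
    exact W.smul_mem _ hv
  rcases hirr W hinv with h0 | h1
  · have : (Pi.single (⟨0, by omega⟩ : Fin n) (1 : F) : Fin n → F) ∈ W := by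
      rw [hW]; exact Submodule.subset_span rfl
    rw [h0, Submodule.mem_bot] at this
    have h2 := congrFun this ⟨0, by omega⟩
    rw [Pi.single_eq_same] at h2
    exact one_ne_zero h2
  · have hmem : (Pi.single (⟨1, by omega⟩ : Fin n) (1 : F) : Fin n → F) ∈ W := by
      rw [h1]; exact Submodule.mem_top
    rw [hW, Submodule.mem_span_singleton] at hmem
    obtain ⟨a, ha⟩ := hmem
    have h2 := congrFun ha ⟨1, by omega⟩
    rw [Pi.smul_apply, Pi.single_eq_same, Pi.single_eq_of_ne (by
      intro h; exact absurd (congrArg Fin.val h) (by simp)), smul_zero] at h2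
    exact zero_ne_one h2

theorem transvection_pow {F : Type*} [Field F] {n : ℕ} {i j : Fin n} (hij : i ≠ j) (c : F) (m : ℕ) :
    (Matrix.transvection i j c) ^ m = Matrix.transvection i j ((m : F) * c) := by
  induction m with
  | zero => rw [pow_zero, Nat.cast_zero, zero_mul, Matrix.transvection_zero]
  | succ m ih =>
    rw [pow_succ, ih, Matrix.transvection_mul_transvection_same i j hij]
    congr 1
    push_cast
    ring

/-- an element of `GL` commuting with `SL_n` is a scalar -/
theorem mem_scalars_of_sl_le_centralizer {F : Type*} [Field F] [Fintype F] {n : ℕ} (x : GL (Fin n) F)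
    (h : specialLinear (Fin n) F ≤ Subgroup.centralizer {x}) : x ∈ scalars (Fin n) F := by
  obtain ⟨c, hc⟩ := Cfsg.Agent.Lib.Helper1.SLMLeaf.scalar_of_commute_transvections
    (x : Matrix (Fin n) (Fin n) F) (by
      intro i j hij
      obtain ⟨t, ht, htM⟩ := Cfsg.Agent.Lib.Helper1.SLMLeaf.transvection_mem_sl (F := F) hij (1 : F)
      have h1 := h ht
      rw [Subgroup.mem_centralizer_iff] at h1
      have h2 := h1 x rfl
      have h3 := congrArg (fun g : GL (Fin n) F => (g : Matrix (Fin n) (Fin n) F)) h2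
      simp only [Units.val_mul] at h3
      rw [← htM]
      exact h3)
  exact mem_scalars_of_smul_one x c hc

/-- P6. -/
theorem not_sl_le_symplType (hn : 3 ≤ n) {r : ℕ} {R : Subgroup (GL (Fin n) F)}
    (hR : IsLinearSymplecticTypeData r R) : ¬ specialLinear (Fin n) F ≤ subgroupNormalizer R := by
  intro hle
  have hnormR : ∀ g ∈ specialLinear (Fin n) F, ∀ x ∈ R, g * x * g⁻¹ ∈ R := by
    intro g hg x hx
    have := hle hg
    unfold subgroupNormalizer at this
    rw [Subgroup.mem_normalizer_iff] at this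
    exact (this x).1 hx
  have hSLn : ∀ g ∈ specialLinear (Fin n) F, ∀ x ∈ specialLinear (Fin n) F,
      g * x * g⁻¹ ∈ specialLinear (Fin n) F := by
    intro g hg x hx
    exact Subgroup.mul_mem _ (Subgroup.mul_mem _ hg hx) (Subgroup.inv_mem _ hg)
  have hR1norm : ∀ g ∈ specialLinear (Fin n) F, ∀ x ∈ R ⊓ specialLinear (Fin n) F,
      g * x * g⁻¹ ∈ R ⊓ specialLinear (Fin n) F := by
    intro g hg x hx
    exact ⟨hnormR g hg x hx.1, hSLn g hg x hx.2⟩
  rcases sl_normal_sub hn (R ⊓ specialLinear (Fin n) F) inf_le_right hR1norm with h1 | h1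
  · -- `SL ≤ R`: a transvection has order `p`
    have hSLR : specialLinear (Fin n) F ≤ R := by rw [← h1]; exact inf_le_left
    obtain ⟨p, e, hrp, hmin, _⟩ := hR.field
    obtain ⟨hp, hchar, _⟩ := hmin
    have hij : (⟨0, by omega⟩ : Fin n) ≠ ⟨1, by omega⟩ := by
      intro h; exact absurd (congrArg Fin.val h) (by simp)
    obtain ⟨t, ht, htM⟩ := Cfsg.Agent.Lib.Helper1.SLMLeaf.transvection_mem_sl (F := F) hij (1 : F)
    obtain ⟨k, hk⟩ := hR.symplecticType.pGroup ⟨t, hSLR ht⟩
    have hk' : (t : GL (Fin n) F) ^ (r ^ k) = 1 := by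
      have := congrArg (fun y : R => (y : GL (Fin n) F)) hk
      simpa using this
    have hk'' : (t : Matrix (Fin n) (Fin n) F) ^ (r ^ k) = 1 := by
      have := congrArg (fun y : GL (Fin n) F => (y : Matrix (Fin n) (Fin n) F)) hk'
      simpa using this
    rw [htM, transvection_pow hij, mul_one] at hk''
    have h01 := congrFun (congrFun hk'' ⟨0, by omega⟩) ⟨1, by omega⟩
    rw [Matrix.transvection, Matrix.add_apply, Matrix.one_apply_ne hij, Matrix.single_apply_same, zero_add] at h01
    have h02 : ((r ^ k : ℕ) : F) = 0 := h01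
    haveI := hchar
    rw [CharP.cast_eq_zero_iff F p] at h02
    have h03 := hp.dvd_of_dvd_pow h02
    exact hrp ((Nat.prime_dvd_prime_iff_eq hp hR.symplecticType.prime).1 h03).symm
  · -- `R ⊓ SL` is scalar: then `R` is scalar
    have hRs : R ≤ scalars (Fin n) F := by
      intro x hx
      apply mem_scalars_of_sl_le_centralizer
      apply le_centralizer_of_comm_scalars (sl_perfect hn)
      intro g hg
      apply h1
      constructor
      · have h2 := hnormR g hg x⁻¹ (R.inv_mem hx)
        have e : x * g * x⁻¹ * g⁻¹ = x * (g * x⁻¹ * g⁻¹) := by group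
        rw [e]
        exact R.mul_mem hx h2
      · have hg1 : Matrix.GeneralLinearGroup.det g = 1 := hg
        show x * g * x⁻¹ * g⁻¹ ∈ (Matrix.GeneralLinearGroup.det : GL (Fin n) F →* Fˣ).ker
        rw [MonoidHom.mem_ker, map_mul, map_mul, map_mul, map_inv, map_inv]
        rw [hg1, mul_one, inv_one, mul_one, mul_inv_cancel]
    exact not_irr_of_le_scalars (by omega) hRs hR.absIrred.1

end Cfsg.Agent.Lib.Helper4.SLMLeaf
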