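import Mathlib
import Cfsg.Agent.Lib.Helper4.Schmidt5
import Cfsg.Agent.Lib.Helper4.MinNonAbelian

set_option autoImplicit false
open Pointwise
open scoped commutatorElement

namespace Cfsg.Agent.Lib.Helper4
open Cfsg Cfsg.Agent.Lib.Helper1
universe u

theorem schmidt_structure' {G : Type u} [Group G] [Finite G]
    (hnn : ¬ Group.IsNilpotent G) (hnil : ∀ H : Subgroup G, H ≠ ⊤ → Group.IsNilpotent H) :
    ∃ p q : ℕ, p.Prime ∧ q.Prime ∧ p ≠ q ∧ ∃ (P : Sylow p G) (Q : Sylow q G),
      IsCyclic P ∧ (Q : Subgroup G).Normal ∧ (P : Subgroup G) ⊔ Q = ⊤ ∧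
        ¬ (P : Subgroup G).Normal := by
  have hsol : Group.IsSolvable G := isSolvable_of_proper_nilpotent hnil
  have hnt : Nontrivial G := by
    by_contra h
    rw [not_nontrivial_iff_subsingleton] at h
    exact hnn inferInstance
  have hlt := Group.IsSolvable.commutator_lt_top_of_nontrivial G
  obtain ⟨M, hMc, hGM⟩ := (eq_top_or_exists_le_coatom (commutator G)).resolve_left hlt.ne
  have hMn : M.Normal := by
    refine ⟨fun x hx g => ?_⟩
    have h1 : ⁅g, x⁆ ∈ M := by
      apply hGM
      rw [commutator_def]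
      exact Subgroup.commutator_mem_commutator (Subgroup.mem_top g) (Subgroup.mem_top x)
    have h2 : g * x * g⁻¹ = ⁅g, x⁆ * x := by
      rw [commutatorElement_def]; group
    rw [h2]
    exact M.mul_mem h1 hx
  have hpp : M.index.Prime := index_prime_of_normal_coatom M hMc
  set p := M.index with hp
  have : Fact p.Prime := ⟨hpp⟩
  have hM : Group.IsNilpotent M := hnil M hMc.1
  have hQn : ∀ (q : ℕ) [Fact q.Prime], q ≠ p → ∀ Q : Sylow q G, (Q : Subgroup G).Normal := by
    intro q hq hqp Q
    have hQM : (Q : Subgroup G) ≤ M := by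
      apply Cfsg.Agent.Lib.Helper23.sylow_le_of_normal_of_not_dvd_index q M _ Q
      intro h
      exact hqp ((Nat.prime_dvd_prime_iff_eq hq.out hpp).mp h)
    exact sylow_normal_of_le_normal_nilpotent M hM Q hQM
  let P : Sylow p G := default
  have hPn : ¬ (P : Subgroup G).Normal := by
    intro h
    apply hnn
    apply (Group.isNilpotent_of_finite_tfae (G := G)).out 3 0 |>.mp
    intro r hr R
    by_cases hrp : r = p
    · subst hrp
      have := Sylow.unique_of_normal P h
      rw [Subsingleton.elim R P]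
      exact h
    · exact hQn r hrp R
  have hex : ∃ (q : ℕ) (_ : Fact q.Prime), q ≠ p ∧ ∃ Q : Sylow q G,
      (P : Subgroup G) ⊔ Q = ⊤ := by
    by_contra hcon
    push Not at hcon
    apply hPn
    rw [← Subgroup.normalizer_eq_top_iff]
    apply eq_top_of_forall_sylow_le
    intro r hr
    by_cases hrp : r = p
    · subst hrp
      exact ⟨P, Subgroup.le_normalizer⟩
    · let R : Sylow r G := default
      refine ⟨R, ?_⟩
      have hne := hcon r hr hrp R
      have hH := hnil _ hne
      have hcomm := commute_of_nilpotent_le _ hH (Ne.symm hrp) (P : Subgroup G) (R : Subgroup G)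
        le_sup_left le_sup_right P.2 R.2
      refine le_trans ?_ (Subgroup.centralizer_le_normalizer (P : Set G))
      intro b hb
      rw [Subgroup.mem_centralizer_iff]
      intro a ha
      exact hcomm a ha b hb
  obtain ⟨q, hq, hqp, Q, hPQ⟩ := hex
  have hQnorm : (Q : Subgroup G).Normal := hQn q hqp Q
  refine ⟨p, q, hpp, hq.out, Ne.symm hqp, P, Q, ?_, hQnorm, hPQ, hPn⟩
  by_contra hcyc
  apply hPn
  rw [← Subgroup.normalizer_eq_top_iff, eq_top_iff, ← hPQ]
  apply sup_le Subgroup.le_normalizer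
  refine le_trans ?_ (Subgroup.centralizer_le_normalizer (P : Set G))
  intro b hb
  rw [Subgroup.mem_centralizer_iff]
  intro a ha
  have hza : Subgroup.zpowers a ≤ (P : Subgroup G) := by
    rw [Subgroup.zpowers_le]; exact ha
  have hzp : IsPGroup p (Subgroup.zpowers a) := P.2.to_le hza
  have hL : Subgroup.zpowers a ⊔ (Q : Subgroup G) ≠ ⊤ := by
    intro h
    apply hcyc
    have h1 := card_sup_of_pgroups (Ne.symm hqp) (Subgroup.zpowers a) (Q : Subgroup G) hzp Q.2
    have h2 := card_sup_of_pgroups (Ne.symm hqp) (P : Subgroup G) (Q : Subgroup G) P.2 Q.2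
    rw [h] at h1
    rw [hPQ, h1] at h2
    have h3 : Nat.card (Subgroup.zpowers a) = Nat.card (P : Subgroup G) :=
      Nat.eq_of_mul_eq_mul_right Nat.card_pos h2
    have h4 : Subgroup.zpowers a = (P : Subgroup G) :=
      Subgroup.eq_of_le_of_card_ge hza h3.ge
    rw [← h4]
    infer_instance
  have hH := hnil _ hL
  exact commute_of_nilpotent_le _ hH (Ne.symm hqp) (Subgroup.zpowers a) (Q : Subgroup G)
    le_sup_left le_sup_right hzp Q.2 a (Subgroup.mem_zpowers a) b hb


end Cfsg.Agent.Lib.Helper4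

namespace Cfsg.Agent.Lib.Helper4
open Cfsg Cfsg.Agent.Lib.Helper1
universe u

theorem comm_sup_of_comm {G : Type u} [Group G] (H₁ H₂ : Subgroup G)
    (h11 : ∀ x ∈ H₁, ∀ y ∈ H₁, x * y = y * x) (h22 : ∀ x ∈ H₂, ∀ y ∈ H₂, x * y = y * x)
    (h12 : ∀ x ∈ H₁, ∀ y ∈ H₂, x * y = y * x) :
    ∀ x ∈ H₁ ⊔ H₂, ∀ y ∈ H₁ ⊔ H₂, x * y = y * x := by
  have h1 : H₁ ≤ Subgroup.centralizer ((H₁ ⊔ H₂ : Subgroup G) : Set G) := by
    apply Subgroup.le_centralizer_iff.mp
    apply sup_le
    · intro x hx
      rw [Subgroup.mem_centralizer_iff]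
      intro y hy
      exact h11 y hy x hx
    · intro x hx
      rw [Subgroup.mem_centralizer_iff]
      intro y hy
      exact h12 y hy x hx
  have h2 : H₂ ≤ Subgroup.centralizer ((H₁ ⊔ H₂ : Subgroup G) : Set G) := by
    apply Subgroup.le_centralizer_iff.mp
    apply sup_le
    · intro x hx
      rw [Subgroup.mem_centralizer_iff]
      intro y hy
      exact (h12 x hx y hy).symm
    · intro x hx
      rw [Subgroup.mem_centralizer_iff]
      intro y hy
      exact h22 y hy x hx
  intro x hx y hy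
  have := (sup_le h1 h2) hy
  rw [Subgroup.mem_centralizer_iff] at this
  exact this x hx

/-- a subgroup of order prime to the index of a normal subgroup lies in it -/
theorem le_of_coprime_card_index {G : Type u} [Group G] [Finite G] (M X : Subgroup G)
    [M.Normal] (h : (Nat.card X).Coprime M.index) : X ≤ M := by
  have h1 : Nat.card (X.map (QuotientGroup.mk' M)) ∣ Nat.card X := Subgroup.card_map_dvd X _
  have h2 : Nat.card (X.map (QuotientGroup.mk' M)) ∣ M.index := by
    rw [Subgroup.index]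
    exact Subgroup.card_subgroup_dvd_card _
  have h3 : Nat.card (X.map (QuotientGroup.mk' M)) = 1 :=
    Nat.eq_one_of_dvd_coprimes h h1 h2
  have h4 : X.map (QuotientGroup.mk' M) = ⊥ := Subgroup.card_eq_one.mp h3
  rw [Subgroup.map_eq_bot_iff, QuotientGroup.ker_mk'] at h4
  exact h4

theorem schmidt_quotient {G : Type u} [Group G] [Finite G]
    (hnn : ¬ Group.IsNilpotent G) (hnil : ∀ H : Subgroup G, H ≠ ⊤ → Group.IsNilpotent H)
    (q : ℕ) [hqf : Fact q.Prime] (hq : q ∣ Nat.card G) (Q : Sylow q G)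
    (hQ : (Q : Subgroup G).Normal)
    (D : Subgroup G) [hDn : D.Normal]
    (hD : D = (commutator ↥(Q : Subgroup G)).map (Q : Subgroup G).subtype) :
    ¬ IsMulCommutative (G ⧸ D) ∧ ∀ K : Subgroup (G ⧸ D), K ≠ ⊤ → IsMulCommutative K := by
  obtain ⟨p, q', hp, hq', hpq', P, Q', hPc, hQ'n, hPQ', hPn⟩ := schmidt_structure' hnn hnil
  have : Fact p.Prime := ⟨hp⟩
  have : Fact q'.Prime := ⟨hq'⟩
  have hQuniq := Sylow.unique_of_normal Q hQ
  -- identify q' = q
  have hcardG : Nat.card G = Nat.card (P : Subgroup G) * Nat.card (Q' : Subgroup G) := by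
    have h1 := card_sup_of_pgroups hpq' (P : Subgroup G) (Q' : Subgroup G) P.2 Q'.2
    rw [hPQ', Subgroup.card_top] at h1
    exact h1
  have hqq : q' = q := by
    obtain ⟨a, ha⟩ := (IsPGroup.iff_card).mp P.2
    obtain ⟨b, hb⟩ := (IsPGroup.iff_card).mp Q'.2
    rw [hcardG, ha, hb] at hq
    rcases (Nat.Prime.dvd_mul hqf.out).mp hq with h | h
    · exfalso
      have h1 : q = p := (Nat.prime_dvd_prime_iff_eq hqf.out hp).mp (hqf.out.dvd_of_dvd_pow h)
      subst h1
      apply hPn
      rw [Subsingleton.elim P Q]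
      exact hQ
    · exact ((Nat.prime_dvd_prime_iff_eq hqf.out hq').mp (hqf.out.dvd_of_dvd_pow h)).symm
  subst hqq
  have hQQ : Q' = Q := Subsingleton.elim _ _
  subst hQQ
  clear hQ'n
  have hpq := hpq'
  have hPQ := hPQ'
  -- basic facts about D
  have hDQ : D ≤ (Q' : Subgroup G) := by rw [hD]; exact Subgroup.map_subtype_le _
  have hDq : IsPGroup q' D := Q'.2.to_le hDQ
  have hQbot : (Q' : Subgroup G) ≠ ⊥ := Q'.ne_bot_of_dvd_card hq
  have hDne : D ≠ (Q' : Subgroup G) := by
    intro h
    have hnt : Nontrivial (Q' : Subgroup G) := (Subgroup.nontrivial_iff_ne_bot _).mpr hQbot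
    have hQnil : Group.IsNilpotent (Q' : Subgroup G) := Q'.2.isNilpotent
    have hlt := Group.IsSolvable.commutator_lt_top_of_nontrivial (Q' : Subgroup G)
    apply hlt.ne
    apply Subgroup.map_injective (Q' : Subgroup G).subtype_injective
    rw [← hD, h, ← MonoidHom.range_eq_map, Subgroup.range_subtype]
  have hcardlt : ∀ X : Subgroup G, X.Normal → X ≤ (Q' : Subgroup G) → X ≠ (Q' : Subgroup G) →
      (P : Subgroup G) ⊔ X ≠ ⊤ := by
    intro X hXn hXQ hXne htop
    have hXq : IsPGroup q' X := Q'.2.to_le hXQ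
    have h1 := card_sup_of_pgroups hpq (P : Subgroup G) X P.2 hXq
    have h2 := card_sup_of_pgroups hpq (P : Subgroup G) (Q' : Subgroup G) P.2 Q'.2
    rw [htop] at h1
    rw [hPQ, h1] at h2
    have h3 : Nat.card X = Nat.card (Q' : Subgroup G) :=
      Nat.eq_of_mul_eq_mul_left Nat.card_pos h2
    exact hXne (Subgroup.eq_of_le_of_card_ge hXQ h3.ge)
  constructor
  · intro hcomm
    set L := (P : Subgroup G) ⊔ D with hL
    have hLtop : L ≠ ⊤ := hcardlt D hDn hDQ hDne
    have hLn : L.Normal := by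
      refine ⟨fun x hx g => ?_⟩
      have h1 : ⁅g, x⁆ ∈ D := by
        apply (QuotientGroup.eq_one_iff _).mp
        change QuotientGroup.mk' D ⁅g, x⁆ = 1
        rw [commutatorElement_def, map_mul, map_mul, map_mul, map_inv, map_inv,
          mul_comm' (QuotientGroup.mk' D g) (QuotientGroup.mk' D x)]
        group
      have h2 : g * x * g⁻¹ = ⁅g, x⁆ * x := by
        rw [commutatorElement_def]; group
      rw [h2]
      exact L.mul_mem (le_sup_right (a := (P : Subgroup G)) h1) hx
    exact hPn (sylow_normal_of_le_normal_nilpotent L (hnil L hLtop) P le_sup_left)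
  · intro Kb hKb
    set K := Kb.comap (QuotientGroup.mk' D) with hK
    have hKtop : K ≠ ⊤ := by
      intro h
      apply hKb
      rw [eq_top_iff]
      intro y _
      obtain ⟨x, rfl⟩ := QuotientGroup.mk'_surjective D y
      have : x ∈ K := by rw [h]; trivial
      exact this
    have hKnil : Group.IsNilpotent K := hnil K hKtop
    let A' : Sylow p K := default
    set B' : Subgroup K := (Q' : Subgroup G).subgroupOf K with hB'
    have hQidx : (Q' : Subgroup G).index = Nat.card (P : Subgroup G) := by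
      have h1 := (Q' : Subgroup G).card_mul_index
      rw [hcardG, mul_comm] at h1
      exact Nat.eq_of_mul_eq_mul_right Nat.card_pos h1
    have hsup : (A' : Subgroup K) ⊔ B' = ⊤ := by
      apply eq_top_of_forall_sylow_le
      intro r hr
      by_cases hrp : r = p
      · subst hrp
        exact ⟨A', le_sup_left⟩
      · let R : Sylow r K := default
        refine ⟨R, le_trans ?_ le_sup_right⟩
        intro x hx
        rw [hB', Subgroup.mem_subgroupOf]
        have hX : IsPGroup r ((R : Subgroup K).map K.subtype) := R.2.map _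
        have hle : (R : Subgroup K).map K.subtype ≤ (Q' : Subgroup G) := by
          apply le_of_coprime_card_index
          obtain ⟨a, ha⟩ := (IsPGroup.iff_card).mp hX
          obtain ⟨b, hb⟩ := (IsPGroup.iff_card).mp P.2
          rw [ha, hQidx, hb]
          exact Nat.Coprime.pow _ _ ((Nat.coprime_primes hr.out hp).mpr hrp)
        exact hle (Subgroup.mem_map_of_mem _ hx)
    set φ : K →* G ⧸ D := (QuotientGroup.mk' D).comp K.subtype with hφ
    have hKb' : Kb = (⊤ : Subgroup K).map φ := by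
      rw [hφ, ← Subgroup.map_map, ← MonoidHom.range_eq_map, Subgroup.range_subtype, hK,
        Subgroup.map_comap_eq_self_of_surjective (QuotientGroup.mk'_surjective D)]
    rw [← hsup, Subgroup.map_sup] at hKb'
    -- commutation facts
    have hA : ∀ a₁ ∈ (A' : Subgroup K), ∀ a₂ ∈ (A' : Subgroup K), a₁ * a₂ = a₂ * a₁ := by
      intro a₁ h₁ a₂ h₂
      have hX : IsPGroup p ((A' : Subgroup K).map K.subtype) := A'.2.map _
      obtain ⟨R, hR⟩ := hX.exists_le_sylow
      have hRc : IsCyclic R := isCyclic_of_surjective (Sylow.equiv P R) (Sylow.equiv P R).surjective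
      have hRm : IsMulCommutative R := IsCyclic.isMulCommutative
      have e := comm_of_isMulCommutative _ hRm (a₁ : G) (hR (Subgroup.mem_map_of_mem _ h₁))
        (a₂ : G) (hR (Subgroup.mem_map_of_mem _ h₂))
      exact Subtype.ext e
    have hAB : ∀ a ∈ (A' : Subgroup K), ∀ b ∈ B', a * b = b * a :=
      commute_of_nilpotent_of_pgroups hKnil hpq (A' : Subgroup K) B' A'.2 (Q'.2.comap_subtype)
    have hB : ∀ u₁ ∈ B', ∀ u₂ ∈ B', φ u₁ * φ u₂ = φ u₂ * φ u₁ := by
      intro u₁ h₁ u₂ h₂
      rw [hB', Subgroup.mem_subgroupOf] at h₁ h₂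
      rw [← map_mul, ← map_mul]
      change QuotientGroup.mk' D ((u₁ : G) * (u₂ : G)) = QuotientGroup.mk' D ((u₂ : G) * (u₁ : G))
      apply QuotientGroup.eq.mpr
      rw [hD]
      refine ⟨⁅(⟨(u₂ : G)⁻¹, Subgroup.inv_mem _ h₂⟩ : (Q' : Subgroup G)),
        (⟨(u₁ : G)⁻¹, Subgroup.inv_mem _ h₁⟩ : (Q' : Subgroup G))⁆, ?_, ?_⟩
      · rw [SetLike.mem_coe, commutator_def]
        exact Subgroup.commutator_mem_commutator (Subgroup.mem_top _) (Subgroup.mem_top _)
      · rw [commutatorElement_def]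
        simp only [Subgroup.subtype_apply, Subgroup.coe_mul, Subgroup.coe_inv, inv_inv]
        group
    have hcomm := comm_sup_of_comm ((A' : Subgroup K).map φ) (B'.map φ)
      (by
        rintro _ ⟨a₁, h₁, rfl⟩ _ ⟨a₂, h₂, rfl⟩
        rw [← map_mul, ← map_mul, hA a₁ h₁ a₂ h₂])
      (by
        rintro _ ⟨u₁, h₁, rfl⟩ _ ⟨u₂, h₂, rfl⟩
        exact hB u₁ h₁ u₂ h₂)
      (by
        rintro _ ⟨a, ha, rfl⟩ _ ⟨b, hb, rfl⟩
        rw [← map_mul, ← map_mul, hAB a ha b hb])
    rw [← hKb'] at hcomm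
    exact ⟨⟨fun x y => Subtype.ext (hcomm x x.2 y y.2)⟩⟩

end Cfsg.Agent.Lib.Helper4
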