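import Mathlib
import Cfsg.Agent.Lib.Helper18.Glaub2Defs
import Cfsg.Prelude.Def_Solvable
import Cfsg.Prelude.Def_CaseTheorems
import Cfsg.Agent.Lib.Helper12.ThompsonNPC

/-!
# GLAUB2 market (S4385), leaf A1: `M / O₂(M) ≅ D_n` forces `n` odd; order formula
-/

set_option autoImplicit false

namespace Cfsg.Agent.Lib.Helper4.GLAUB2A1

open Cfsg Cfsg.Agent.Lib.Helper18.Sims3 Cfsg.Agent.Lib.Helper18.Glaub

/-- For `n = 2k`, the rotation `r k` is central in `D_n`. -/
theorem r_half_central {n k : ℕ} (hk : n = 2 * k) (d : DihedralGroup n) :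
    d * DihedralGroup.r (k : ZMod n) = DihedralGroup.r (k : ZMod n) * d := by
  have h2 : (k : ZMod n) + (k : ZMod n) = 0 := by
    have : (k : ZMod n) + (k : ZMod n) = ((2 * k : ℕ) : ZMod n) := by push_cast; ring
    rw [this, ← hk, ZMod.natCast_self]
  rcases d with j | j
  · rw [DihedralGroup.r_mul_r, DihedralGroup.r_mul_r, add_comm]
  · rw [DihedralGroup.sr_mul_r, DihedralGroup.r_mul_sr]
    congr 1
    have : j + (k : ZMod n) = j - (k : ZMod n) + ((k : ZMod n) + (k : ZMod n)) := by ring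
    rw [this, h2, add_zero]

/-- LEAF A1 (`n` is odd, order formula). -/
theorem dihedral_quotient_data {M : Type*} [Group M] [Finite M] (n : ℕ) (hn : 2 ≤ n)
    (hD : Nonempty (M ⧸ Cfsg.pCore 2 M ≃* DihedralGroup n)) :
    Odd n ∧ Nat.card M = 2 * n * Nat.card ↥(Cfsg.pCore 2 M) := by
  obtain ⟨e⟩ := hD
  haveI : Fact (Nat.Prime 2) := ⟨Nat.prime_two⟩
  constructor
  · by_contra hodd
    rw [Nat.not_odd_iff_even] at hodd
    obtain ⟨k, hk⟩ := hodd
    have hk2 : n = 2 * k := by omega
    have hk1 : 1 ≤ k := by omega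
    set c : DihedralGroup n := DihedralGroup.r (k : ZMod n) with hc
    have hcc : ∀ d : DihedralGroup n, d * c = c * d := r_half_central hk2
    have hc2 : c * c = 1 := by
      rw [hc, DihedralGroup.r_mul_r, DihedralGroup.one_def]
      congr 1
      have : (k : ZMod n) + (k : ZMod n) = ((2 * k : ℕ) : ZMod n) := by push_cast; ring
      rw [this, ← hk2, ZMod.natCast_self]
    have hc1 : c ≠ 1 := by
      rw [hc, DihedralGroup.one_def]
      intro h
      injection h with h'
      rw [ZMod.natCast_eq_zero_iff] at h'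
      have := Nat.le_of_dvd (by omega) h'
      omega
    -- the subgroup `Z = ⟨c⟩` and its preimage
    let Z : Subgroup (DihedralGroup n) := Subgroup.zpowers c
    have hZc : ∀ z ∈ Z, ∀ d : DihedralGroup n, d * z * d⁻¹ = z := by
      intro z hz d
      obtain ⟨j, rfl⟩ := Subgroup.mem_zpowers_iff.mp hz
      have : Commute d (c ^ j) := Commute.zpow_right (hcc d) j
      rw [this.eq, mul_inv_cancel_right]
    have hZn : Z.Normal := ⟨fun z hz d => by rw [hZc z hz d]; exact hz⟩
    have hZ2 : ∀ z ∈ Z, z ^ 2 = 1 := by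
      intro z hz
      obtain ⟨j, rfl⟩ := Subgroup.mem_zpowers_iff.mp hz
      rw [← zpow_natCast, ← zpow_mul, mul_comm, zpow_mul, zpow_natCast, pow_two, hc2, one_zpow]
    let Nb : Subgroup (M ⧸ Cfsg.pCore 2 M) := Z.comap e.toMonoidHom
    haveI hNbn : Nb.Normal := hZn.comap _
    have hNbp : IsPGroup 2 ↥Nb := by
      intro g
      refine ⟨1, ?_⟩
      apply Subtype.ext
      have hg : e (g : M ⧸ Cfsg.pCore 2 M) ∈ Z := g.2
      have h1 := hZ2 _ hg
      rw [← map_pow] at h1
      have h2 : ((g : M ⧸ Cfsg.pCore 2 M)) ^ 2 = 1 := by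
        apply e.injective
        rw [h1, map_one]
      simpa using h2
    have hbot := Cfsg.Agent.Lib.Helper12.eq_bot_of_normal_isPGroup_quotient_pCore (p := 2) Nb hNbp
    have hmem : e.symm c ∈ Nb := by
      show e (e.symm c) ∈ Z
      rw [MulEquiv.apply_symm_apply]
      exact Subgroup.mem_zpowers c
    rw [hbot, Subgroup.mem_bot] at hmem
    apply hc1
    have := congrArg e hmem
    rwa [MulEquiv.apply_symm_apply, map_one] at this
  · rw [Subgroup.card_eq_card_quotient_mul_card_subgroup (Cfsg.pCore 2 M), Nat.card_congr e.toEquiv,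
      DihedralGroup.nat_card]

end Cfsg.Agent.Lib.Helper4.GLAUB2A1
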