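import Mathlib
import Cfsg.Agent.Lib.Helper18.Glaub2Defs
import Cfsg.Prelude.Def_Solvable
import Cfsg.Prelude.Def_CaseTheorems

/-!
# GLAUB2 market (S4385), leaf A2: two conjugate Sylow 2-subgroups generate

`M / O₂(M) ≅ D_n`, `n` odd, `|Q : O₂(M)| = 2`: there is `x` with `Q ⊔ x Q x⁻¹ = ⊤`.
-/

set_option autoImplicit false

namespace Cfsg.Agent.Lib.Helper4.GLAUB2A2

open Cfsg Cfsg.Agent.Lib.Helper18.Sims3 Cfsg.Agent.Lib.Helper18.Glaub

/-- Two "adjacent" reflections generate the dihedral group. -/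
theorem dihedral_gen {n : ℕ} [NeZero n] (S : Subgroup (DihedralGroup n)) (i : ZMod n)
    (h1 : DihedralGroup.sr i ∈ S) (h2 : DihedralGroup.sr (i - 1) ∈ S) : S = ⊤ := by
  have hr1 : DihedralGroup.r (1 : ZMod n) ∈ S := by
    have := S.mul_mem h2 h1
    rw [DihedralGroup.sr_mul_sr] at this
    have e : i - (i - 1) = 1 := by ring
    rwa [e] at this
  have hr : ∀ k : ZMod n, DihedralGroup.r k ∈ S := by
    intro k
    have := S.pow_mem hr1 k.val
    rw [DihedralGroup.r_one_pow, ZMod.natCast_zmod_val] at this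
    exact this
  rw [eq_top_iff]
  rintro (k | k) _
  · exact hr k
  · have := S.mul_mem h1 (hr (k - i))
    rw [DihedralGroup.sr_mul_r] at this
    have e : i + (k - i) = k := by ring
    rwa [e] at this

/-- In `D_n`, `n` odd, a non-identity element of square one is a reflection. -/
theorem eq_sr_of_sq {n : ℕ} (hn : Odd n) (d : DihedralGroup n) (hd1 : d ≠ 1) (hd2 : d * d = 1) :
    ∃ i : ZMod n, d = DihedralGroup.sr i := by
  rcases d with j | j
  · exfalso
    apply hd1
    rw [DihedralGroup.r_mul_r, DihedralGroup.one_def] at hd2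
    have h2 : j + j = 0 := by
      injection hd2
    obtain ⟨m, hm⟩ := hn
    have h3 : ((m + 1 : ℕ) : ZMod n) * (j + j) = j := by
      have : ((m + 1 : ℕ) : ZMod n) * (j + j) = ((2 * m + 1 : ℕ) : ZMod n) * j + j := by
        push_cast; ring
      rw [this, ← hm, ZMod.natCast_self, zero_mul, zero_add]
    rw [h2, mul_zero] at h3
    rw [DihedralGroup.one_def, ← h3]
  · exact ⟨j, rfl⟩

/-- LEAF A2 (two conjugate Sylow 2-subgroups generate). -/
theorem exists_gen_conj {M : Type*} [Group M] [Finite M] (n : ℕ) (hn : Odd n)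
    (hD : Nonempty (M ⧸ Cfsg.pCore 2 M ≃* DihedralGroup n)) (Q : Subgroup M)
    (hQ : Cfsg.pCore 2 M ≤ Q) (hQc : Nat.card ↥Q = 2 * Nat.card ↥(Cfsg.pCore 2 M)) :
    ∃ x : M, Q ⊔ Q.map (MulAut.conj x).toMonoidHom = ⊤ := by
  obtain ⟨e⟩ := hD
  haveI : NeZero n := ⟨by rintro rfl; exact absurd hn (by decide)⟩
  set N := Cfsg.pCore 2 M with hN
  -- the map `f : M →* D_n`
  let f : M →* DihedralGroup n := e.toMonoidHom.comp (QuotientGroup.mk' N)
  have hfsurj : Function.Surjective f := by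
    intro d
    obtain ⟨q, hq⟩ := e.surjective d
    obtain ⟨m, rfl⟩ := QuotientGroup.mk'_surjective N q
    exact ⟨m, hq⟩
  have hfker : f.ker = N := by
    ext m
    rw [MonoidHom.mem_ker]
    show e (QuotientGroup.mk' N m) = 1 ↔ m ∈ N
    rw [MulEquiv.map_eq_one_iff, QuotientGroup.mk'_apply, QuotientGroup.eq_one_iff]
  -- an element `w ∈ Q ∖ N`
  have hcN : 0 < Nat.card ↥N := Nat.card_pos
  obtain ⟨w, hwQ, hwN⟩ : ∃ w ∈ Q, w ∉ N := by
    by_contra hcon
    push Not at hcon
    have hle : Q ≤ N := fun w hw => hcon w hw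
    have : Q = N := le_antisymm hle hQ
    rw [this] at hQc
    omega
  -- `w * w ∈ N`
  have hidx : (N.subgroupOf Q).index = 2 := by
    have h1 : N.relIndex Q * Nat.card ↥N = Nat.card ↥Q := by
      have := Subgroup.relIndex_mul_relIndex (⊥ : Subgroup M) N Q bot_le hQ
      simp only [Subgroup.relIndex_bot_left] at this
      rw [mul_comm]
      exact this
    rw [hQc] at h1
    have : N.relIndex Q = 2 := Nat.eq_of_mul_eq_mul_right hcN h1
    exact this
  have hww : w * w ∈ N := by
    have := Subgroup.mul_self_mem_of_index_two hidx ⟨w, hwQ⟩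
    exact this
  -- `f w = sr i`
  have hfw1 : f w ≠ 1 := by
    intro h
    apply hwN
    rw [← hfker, MonoidHom.mem_ker]
    exact h
  have hfw2 : f w * f w = 1 := by
    rw [← map_mul, ← MonoidHom.mem_ker, hfker]
    exact hww
  obtain ⟨i, hi⟩ := eq_sr_of_sq hn (f w) hfw1 hfw2
  -- the element `x`
  obtain ⟨m, hm⟩ := hn
  set a : ZMod n := ((m + 1 : ℕ) : ZMod n) with ha
  have h2a : a + a = 1 := by
    have : a + a = ((2 * m + 1 : ℕ) : ZMod n) + 1 := by
      rw [ha]; push_cast; ring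
    rw [this, ← hm, ZMod.natCast_self, zero_add]
  obtain ⟨x, hx⟩ := hfsurj (DihedralGroup.r a)
  refine ⟨x, ?_⟩
  have hNle : N ≤ Q ⊔ Q.map (MulAut.conj x).toMonoidHom := hQ.trans le_sup_left
  have hmap : (Q ⊔ Q.map (MulAut.conj x).toMonoidHom).map f = ⊤ := by
    apply dihedral_gen _ i
    · rw [← hi]
      exact Subgroup.mem_map_of_mem f (Subgroup.mem_sup_left hwQ)
    · have h1 : f (x * w * x⁻¹) = DihedralGroup.sr (i - 1) := by
        rw [map_mul, map_mul, map_inv, hx, hi, DihedralGroup.r_mul_sr]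
        have hinv : (DihedralGroup.r a : DihedralGroup n)⁻¹ = DihedralGroup.r (-a) := rfl
        rw [hinv, DihedralGroup.sr_mul_r]
        congr 1
        have : i - a + -a = i - (a + a) := by ring
        rw [this, h2a]
      rw [← h1]
      apply Subgroup.mem_map_of_mem f
      apply Subgroup.mem_sup_right
      exact ⟨w, hwQ, rfl⟩
  have h3 := Subgroup.comap_map_eq_self (f := f) (H := Q ⊔ Q.map (MulAut.conj x).toMonoidHom)
    (by rw [hfker]; exact hNle)
  rw [hmap, Subgroup.comap_top] at h3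
  exact h3.symm

end Cfsg.Agent.Lib.Helper4.GLAUB2A2
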