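import Mathlib
import Cfsg.Agent.Lib.Helper18.Glaub2Defs
import Cfsg.Prelude.Def_Solvable
import Cfsg.Prelude.Def_CaseTheorems

/-!
# GLAUB2 market (S4385), leaf B2: the weak core condition
-/

set_option autoImplicit false

namespace Cfsg.Agent.Lib.Helper4.GLAUB2B2

open Cfsg Cfsg.Agent.Lib.Helper18.Sims3 Cfsg.Agent.Lib.Helper18.Glaub

variable {G : Type*} [Group G]

theorem mem_cj {g : G} {S : Subgroup G} {z : G} : z ∈ cj g S ↔ ∃ s ∈ S, g * s * g⁻¹ = z := by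
  constructor
  · rintro ⟨s, hs, rfl⟩
    exact ⟨s, hs, rfl⟩
  · rintro ⟨s, hs, rfl⟩
    exact ⟨s, hs, rfl⟩

/-- invariance of a supremum under conjugation by a fixed element -/
theorem sSup_inv (F : Set (Subgroup G)) (g : G)
    (h : ∀ M ∈ F, ∀ m ∈ M, g * m * g⁻¹ ∈ M) : ∀ m ∈ sSup F, g * m * g⁻¹ ∈ sSup F := by
  have hle : sSup F ≤ (sSup F).comap (MulAut.conj g).toMonoidHom := by
    apply sSup_le
    intro M hM m hm
    show g * m * g⁻¹ ∈ sSup F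
    exact (le_sSup hM) (h M hM m hm)
  intro m hm
  exact hle hm

/-- LEAF B2 (the weak core condition). -/
theorem coreP_of_gen [Finite G] (H P : Subgroup G) (hPH : P ≤ H) (x y : G) (hx : x ∈ H)
    (hyN : cj y P = P) (hy2 : y ^ 2 ∈ P ⊔ Subgroup.centralizer (P : Set G))
    (hyQ : ∀ Q : Subgroup G, Q ≤ P → (Q.subgroupOf H).Normal → cj y Q = Q → Q = ⊥)
    (N : Subgroup G) (hNP : N ≤ P) (hNH : H ≤ Subgroup.normalizer (N : Set G))
    (hNH' : cj (x * y) H ≤ Subgroup.normalizer (N : Set G)) : N = ⊥ := by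
  -- conjugation by `y` and `y⁻¹` on `P`
  have hyP : ∀ p ∈ P, y * p * y⁻¹ ∈ P := by
    intro p hp
    rw [← hyN]
    exact mem_cj.mpr ⟨p, hp, rfl⟩
  have hyP' : ∀ p ∈ P, y⁻¹ * p * y ∈ P := by
    intro p hp
    rw [← hyN] at hp
    obtain ⟨p', hp', rfl⟩ := mem_cj.mp hp
    have : y⁻¹ * (y * p' * y⁻¹) * y = p' := by group
    rw [this]
    exact hp'
  -- `y² = u * c`
  have hPC : P ≤ Subgroup.normalizer ((Subgroup.centralizer (P : Set G) : Subgroup G) : Set G) := by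
    intro p hp
    rw [Subgroup.mem_normalizer_iff]
    intro c
    constructor
    · intro hc
      rw [Subgroup.mem_centralizer_iff] at hc ⊢
      intro q hq
      have hq' : p⁻¹ * q * p ∈ P := P.mul_mem (P.mul_mem (P.inv_mem hp) hq) hp
      have h1 := hc _ hq'
      calc q * (p * c * p⁻¹) = p * ((p⁻¹ * q * p) * c) * p⁻¹ := by group
        _ = p * (c * (p⁻¹ * q * p)) * p⁻¹ := by rw [h1]
        _ = p * c * p⁻¹ * q := by group
    · intro hc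
      rw [Subgroup.mem_centralizer_iff] at hc ⊢
      intro q hq
      have hq' : p * q * p⁻¹ ∈ P := P.mul_mem (P.mul_mem hp hq) (P.inv_mem hp)
      have h1 := hc _ hq'
      have h2 : p * (q * c) * p⁻¹ = p * (c * q) * p⁻¹ := by
        calc p * (q * c) * p⁻¹ = (p * q * p⁻¹) * (p * c * p⁻¹) := by group
          _ = (p * c * p⁻¹) * (p * q * p⁻¹) := h1
          _ = p * (c * q) * p⁻¹ := by group
      exact mul_left_cancel (mul_right_cancel h2)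
  obtain ⟨u, hu, c, hc, huc⟩ : ∃ u ∈ P, ∃ c ∈ Subgroup.centralizer (P : Set G), u * c = y ^ 2 := by
    have h1 : y ^ 2 ∈ ((P ⊔ Subgroup.centralizer (P : Set G) : Subgroup G) : Set G) := hy2
    rw [Subgroup.coe_mul_of_left_le_normalizer_right _ _ hPC] at h1
    obtain ⟨u, hu, c, hc, h⟩ := Set.mem_mul.mp h1
    exact ⟨u, hu, c, hc, h⟩
  -- `c' := y c y⁻¹` centralizes `P`
  have hc' : ∀ p ∈ P, (y * c * y⁻¹) * p = p * (y * c * y⁻¹) := by
    intro p hp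
    have h1 := (Subgroup.mem_centralizer_iff.mp hc) _ (hyP' p hp)
    calc (y * c * y⁻¹) * p = y * (c * (y⁻¹ * p * y)) * y⁻¹ := by group
      _ = y * ((y⁻¹ * p * y) * c) * y⁻¹ := by rw [h1]
      _ = p * (y * c * y⁻¹) := by group
  -- invariance of `N`
  have hN1 : ∀ h ∈ H, ∀ m ∈ N, h * m * h⁻¹ ∈ N := by
    intro h hh m hm
    exact (Subgroup.mem_normalizer_iff.mp (hNH hh) m).mp hm
  have hN2 : ∀ h ∈ H, ∀ m ∈ N, (y * h * y⁻¹) * m * (y * h * y⁻¹)⁻¹ ∈ N := by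
    intro h hh m hm
    have hg : (x * y) * h * (x * y)⁻¹ ∈ Subgroup.normalizer (N : Set G) :=
      hNH' (mem_cj.mpr ⟨h, hh, rfl⟩)
    have h1 : x * m * x⁻¹ ∈ N := hN1 x hx m hm
    have h2 := (Subgroup.mem_normalizer_iff.mp hg _).mp h1
    have h3 := hN1 x⁻¹ (H.inv_mem hx) _ h2
    have : x⁻¹ * ((x * y) * h * (x * y)⁻¹ * (x * m * x⁻¹) * ((x * y) * h * (x * y)⁻¹)⁻¹) * x⁻¹⁻¹
        = (y * h * y⁻¹) * m * (y * h * y⁻¹)⁻¹ := by group
    rw [this] at h3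
    exact h3
  -- the family
  let F : Set (Subgroup G) := {M | M ≤ P ∧ (∀ h ∈ H, ∀ m ∈ M, h * m * h⁻¹ ∈ M) ∧
    (∀ h ∈ H, ∀ m ∈ M, (y * h * y⁻¹) * m * (y * h * y⁻¹)⁻¹ ∈ M)}
  have hNF : N ∈ F := ⟨hNP, hN1, hN2⟩
  have hFcj : ∀ M ∈ F, cj y M ∈ F := by
    rintro M ⟨hMP, hM1, hM2⟩
    refine ⟨?_, ?_, ?_⟩
    · intro z hz
      obtain ⟨m, hm, rfl⟩ := mem_cj.mp hz
      exact hyP m (hMP hm)
    · intro h hh z hz
      obtain ⟨m, hm, rfl⟩ := mem_cj.mp hz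
      -- `h' := u⁻¹ h u`
      have hh' : u⁻¹ * h * u ∈ H := H.mul_mem (H.mul_mem (H.inv_mem (hPH hu)) hh) (hPH hu)
      have h1 := hM2 _ hh' m hm
      set b := (y * (u⁻¹ * h * u) * y⁻¹) * m * (y * (u⁻¹ * h * u) * y⁻¹)⁻¹ with hb
      have hbP : b ∈ P := hMP h1
      have h2 : (y * c * y⁻¹)⁻¹ * b * (y * c * y⁻¹) = b := by
        have := hc' b hbP
        calc (y * c * y⁻¹)⁻¹ * b * (y * c * y⁻¹) = (y * c * y⁻¹)⁻¹ * (b * (y * c * y⁻¹)) := by group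
          _ = (y * c * y⁻¹)⁻¹ * ((y * c * y⁻¹) * b) := by rw [this]
          _ = b := by group
      have h3 : m = (y * c * y⁻¹) * m * (y * c * y⁻¹)⁻¹ := by
        have := hc' m (hMP hm)
        calc m = m * (y * c * y⁻¹) * (y * c * y⁻¹)⁻¹ := by group
          _ = (y * c * y⁻¹) * m * (y * c * y⁻¹)⁻¹ := by rw [this]
      -- `y⁻¹ h y = c'⁻¹ (y h' y⁻¹) c'`
      have hy2' : y * y = u * c := by rw [huc, pow_two]
      have hkey : y⁻¹ * h * y = (y * c * y⁻¹)⁻¹ * (y * (u⁻¹ * h * u) * y⁻¹) * (y * c * y⁻¹) := by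
        have e1 : (y * c * y⁻¹)⁻¹ * (y * (u⁻¹ * h * u) * y⁻¹) * (y * c * y⁻¹)
            = y * (u * c)⁻¹ * h * (u * c) * y⁻¹ := by group
        rw [e1, ← hy2']
        group
      refine mem_cj.mpr ⟨(y⁻¹ * h * y) * m * (y⁻¹ * h * y)⁻¹, ?_, by group⟩
      rw [hkey]
      have e2 : (y * c * y⁻¹)⁻¹ * (y * (u⁻¹ * h * u) * y⁻¹) * (y * c * y⁻¹) * m *
          ((y * c * y⁻¹)⁻¹ * (y * (u⁻¹ * h * u) * y⁻¹) * (y * c * y⁻¹))⁻¹
          = (y * c * y⁻¹)⁻¹ * ((y * (u⁻¹ * h * u) * y⁻¹) * ((y * c * y⁻¹) * m * (y * c * y⁻¹)⁻¹) *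
            (y * (u⁻¹ * h * u) * y⁻¹)⁻¹) * (y * c * y⁻¹) := by group
      rw [e2, ← h3, ← hb, h2]
      exact h1
    · intro h hh z hz
      obtain ⟨m, hm, rfl⟩ := mem_cj.mp hz
      refine mem_cj.mpr ⟨h * m * h⁻¹, hM1 h hh m hm, by group⟩
  -- the supremum
  have hSF : sSup F ∈ F := by
    refine ⟨sSup_le (fun M hM => hM.1), ?_, ?_⟩
    · intro h hh
      exact sSup_inv F h (fun M hM => hM.2.1 h hh)
    · intro h hh
      exact sSup_inv F (y * h * y⁻¹) (fun M hM => hM.2.2 h hh)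
  have hle : cj y (sSup F) ≤ sSup F := le_sSup (hFcj _ hSF)
  have hcard : Nat.card ↥(cj y (sSup F)) = Nat.card ↥(sSup F) :=
    (Nat.card_congr ((sSup F).equivMapOfInjective _ (MulAut.conj y).injective).toEquiv).symm
  have heq : cj y (sSup F) = sSup F := Subgroup.eq_of_le_of_card_ge hle hcard.ge
  have hnorm : ((sSup F).subgroupOf H).Normal := by
    constructor
    intro n hn h
    rw [Subgroup.mem_subgroupOf] at hn ⊢
    exact hSF.2.1 h h.2 n hn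
  have hbot := hyQ (sSup F) hSF.1 hnorm heq
  rw [eq_bot_iff, ← hbot]
  exact le_sSup hNF

end Cfsg.Agent.Lib.Helper4.GLAUB2B2
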