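import Mathlib
import Cfsg.Agent.Lib.Helper14.DihedralCrit

set_option autoImplicit false
set_option linter.style.haveILetI false

namespace Cfsg.Agent.Lib.Helper4

open Subgroup

section D8

variable {X : Type*} [Group X] [Finite X]

/-- A nonabelian group of order `8` has an element of order `4`. -/
theorem exists_orderOf_eq_four (hcard : Nat.card X = 8) (hab : ¬ IsMulCommutative X) :
    ∃ r : X, orderOf r = 4 := by
  have hex : ∃ x : X, ¬ orderOf x ∣ 2 := by
    by_contra h
    push Not at h
    exact hab ⟨⟨fun a b => Commute.of_orderOf_dvd_two h a b⟩⟩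
  obtain ⟨x, hx⟩ := hex
  have hdvd : orderOf x ∣ 8 := hcard ▸ orderOf_dvd_natCard x
  have hle : orderOf x ≤ 8 := Nat.le_of_dvd (by norm_num) hdvd
  have h8 : orderOf x ≠ 8 := by
    intro h
    have hcyc : IsCyclic X := isCyclic_of_orderOf_eq_card x (by rw [h, hcard])
    exact hab IsCyclic.isMulCommutative
  refine ⟨x, ?_⟩
  interval_cases h : orderOf x <;> simp_all

/-- In a group of order `8`, a subgroup containing `⟨r⟩` (`r` of order `4`) and an element
outside it is everything. -/
theorem eq_top_of_zpowers_le (hcard : Nat.card X = 8) {r s : X} (hr : orderOf r = 4)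
    (hs : s ∉ zpowers r) (H : Subgroup X) (h1 : zpowers r ≤ H) (h2 : s ∈ H) : H = ⊤ := by
  have h3 : Nat.card H ∣ 8 := hcard ▸ Subgroup.card_subgroup_dvd_card H
  have h4 : 4 ∣ Nat.card H := by
    have := Subgroup.card_dvd_of_le h1
    rwa [Nat.card_zpowers, hr] at this
  have h5 : Nat.card H ≠ 4 := by
    intro h5
    have : zpowers r = H := by
      apply Subgroup.eq_of_le_of_card_ge h1
      rw [h5, Nat.card_zpowers, hr]
    exact hs (this ▸ h2)
  have h6 : Nat.card H ≤ 8 := Nat.le_of_dvd (by norm_num) h3
  apply Subgroup.eq_top_of_card_eq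
  rw [hcard]
  generalize Nat.card H = n at *
  interval_cases n <;> omega

/-- Elements of `⟨r⟩` for `r` of order `4`. -/
theorem mem_zpowers_four {r c : X} (hr : orderOf r = 4) (hc : c ∈ zpowers r) :
    c = 1 ∨ c = r ∨ c = r ^ 2 ∨ c = r ^ 3 := by
  obtain ⟨k, rfl⟩ := mem_zpowers_iff.mp hc
  rw [← zpow_mod_orderOf, hr]
  have h1 : 0 ≤ k % 4 := Int.emod_nonneg _ (by norm_num)
  have h2 : k % 4 < 4 := Int.emod_lt_of_pos _ (by norm_num)
  obtain ⟨j, hj⟩ := Int.eq_ofNat_of_zero_le h1
  have h3 : j < 4 := by omega
  rw [Nat.cast_ofNat, hj, zpow_natCast]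
  interval_cases j
  · left; simp
  · right; left; simp
  · right; right; left; rfl
  · right; right; right; rfl

theorem dihedral_four_core (hcard : Nat.card X = 8) (hab : ¬ IsMulCommutative X)
    (r s : X) (hr : orderOf r = 4) (hs : s * s = 1) (hs' : s ∉ zpowers r) :
    Nonempty (X ≃* DihedralGroup 4) := by
  have hidx : (zpowers r).index = 2 := by
    have := (zpowers r).card_mul_index
    rw [Nat.card_zpowers, hr, hcard] at this
    omega
  have hn : (zpowers r).Normal := Subgroup.normal_of_index_eq_two hidx
  have hsinv : s⁻¹ = s := inv_eq_of_mul_eq_one_left hs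
  have hc : s * r * s⁻¹ ∈ zpowers r := hn.conj_mem r (mem_zpowers r) s
  have hco : orderOf (s * r * s⁻¹) = 4 := by
    have := (MulAut.conj s).orderOf_eq r
    rw [MulAut.conj_apply] at this
    rw [this, hr]
  have hr4 : r ^ 4 = 1 := by rw [← hr]; exact pow_orderOf_eq_one r
  have key : s * r * s⁻¹ = r ^ 3 := by
    rcases mem_zpowers_four hr hc with h1 | h1 | h1 | h1
    · rw [h1, orderOf_one] at hco; norm_num at hco
    · exfalso
      -- `s` commutes with `r`
      have hsr : s * r = r * s := by
        have := congrArg (fun t => t * s) h1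
        simpa using this
      apply hab
      have hrc : r ∈ center X := by
        have : centralizer ({r} : Set X) = ⊤ := by
          apply eq_top_of_zpowers_le hcard hr hs'
          · rw [zpowers_le, mem_centralizer_singleton_iff]
          · rw [mem_centralizer_singleton_iff]; exact hsr
        rw [mem_center_iff]
        intro g
        have hg : g ∈ centralizer ({r} : Set X) := by rw [this]; trivial
        rw [mem_centralizer_singleton_iff] at hg
        exact hg
      have hsc : s ∈ center X := by
        have : centralizer ({s} : Set X) = ⊤ := by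
          apply eq_top_of_zpowers_le hcard hr hs'
          · rw [zpowers_le, mem_centralizer_singleton_iff]; exact hsr.symm
          · rw [mem_centralizer_singleton_iff]
        rw [mem_center_iff]
        intro g
        have hg : g ∈ centralizer ({s} : Set X) := by rw [this]; trivial
        rw [mem_centralizer_singleton_iff] at hg
        exact hg
      have htop : center X = ⊤ :=
        eq_top_of_zpowers_le hcard hr hs' _ (zpowers_le.mpr hrc) hsc
      refine ⟨⟨fun a b => ?_⟩⟩
      have ha : a ∈ center X := by rw [htop]; trivial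
      exact (mem_center_iff.mp ha b).symm
    · exfalso
      have h2 : (s * r * s⁻¹) ^ 2 = 1 := by
        rw [h1, ← pow_mul]; exact hr4
      have := orderOf_dvd_of_pow_eq_one h2
      rw [hco] at this
      norm_num at this
    · exact h1
  have hsr : s * r * s = r⁻¹ := by
    have : r ^ 3 = r⁻¹ := by
      rw [eq_inv_iff_mul_eq_one, ← pow_succ]; exact hr4
    rw [← this, ← key, hsinv]
  exact Cfsg.Agent.Lib.Helper14.nonempty_mulEquiv_dihedral 4 (by rw [hcard]) r s hr4 hs hsr hr hs'

/-- A nonabelian group of order `8` with two distinct involutions is dihedral. -/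
theorem nonempty_mulEquiv_dihedral_four (hcard : Nat.card X = 8) (hab : ¬ IsMulCommutative X)
    (s t : X) (hs : orderOf s = 2) (ht : orderOf t = 2) (hst : s ≠ t) :
    Nonempty (X ≃* DihedralGroup 4) := by
  obtain ⟨r, hr⟩ := exists_orderOf_eq_four hcard hab
  have hr4 : r ^ 4 = 1 := by rw [← hr]; exact pow_orderOf_eq_one r
  have hss : s * s = 1 := by rw [← pow_two, ← hs]; exact pow_orderOf_eq_one s
  have htt : t * t = 1 := by rw [← pow_two, ← ht]; exact pow_orderOf_eq_one t
  have hinv : ∀ w : X, orderOf w = 2 → w ∈ zpowers r → w = r ^ 2 := by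
    intro w hw hwr
    rcases mem_zpowers_four hr hwr with h1 | h1 | h1 | h1
    · rw [h1, orderOf_one] at hw; norm_num at hw
    · rw [h1, hr] at hw; norm_num at hw
    · exact h1
    · exfalso
      have h2 : w ^ 2 = 1 := by rw [← hw]; exact pow_orderOf_eq_one w
      rw [h1, ← pow_mul] at h2
      have h3 : r ^ 2 = 1 := by
        have : r ^ (3 * 2) = r ^ 4 * r ^ 2 := by rw [← pow_add]
        rw [this, hr4, one_mul] at h2
        exact h2
      have := orderOf_dvd_of_pow_eq_one h3
      rw [hr] at this
      norm_num at this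
  by_cases hsr : s ∈ zpowers r
  · have htr : t ∉ zpowers r := by
      intro htr
      exact hst ((hinv s hs hsr).trans (hinv t ht htr).symm)
    exact dihedral_four_core hcard hab r t hr htt htr
  · exact dihedral_four_core hcard hab r s hr hss hsr

end D8

end Cfsg.Agent.Lib.Helper4
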