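/-
helper4: S2282 / S2283, `n = 3`: explicit 3×3 matrices of the antidiagonal model `UJ σ 3`
(helper16 FusSU): upper unipotents `uU a g`, lower unipotents `vL a g`, torus `hT l`, Weyl element
`J3 = antidiag(1,-1,1)`, with multiplication / conjugation / commutator formulas, valid in every
characteristic.  Everything is an element of `SpecialLinearGroup (Fin 3) K`; the `_mem` lemmas put
them into `UJ σ 3`.
-/
import Mathlib
import Cfsg.Agent.Lib.Helper4.SU3End

set_option autoImplicit false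

namespace Cfsg.Agent.Lib.Helper4.SU3

open Matrix Cfsg.Agent.Lib.Helper16.FusSU

variable {K : Type*} [Field K] (σ : K →+* K)

theorem adj3 (M : Matrix (Fin 3) (Fin 3) K) :
    adj σ M = !![σ (M 2 2), σ (M 1 2), σ (M 0 2); σ (M 2 1), σ (M 1 1), σ (M 0 1);
      σ (M 2 0), σ (M 1 0), σ (M 0 0)] := by
  ext i j
  fin_cases i <;> fin_cases j <;> rfl

theorem TJm_three (v : Fin 3 → K) (c : K) :
    TJm σ v c = !![1 + c * (v 0 * σ (v 2)), c * (v 0 * σ (v 1)), c * (v 0 * σ (v 0));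
      c * (v 1 * σ (v 2)), 1 + c * (v 1 * σ (v 1)), c * (v 1 * σ (v 0));
      c * (v 2 * σ (v 2)), c * (v 2 * σ (v 1)), 1 + c * (v 2 * σ (v 0))] := by
  ext i j
  fin_cases i <;> fin_cases j <;>
    simp only [TJm, Matrix.add_apply, Matrix.smul_apply, vecMulVec_apply, sh_apply, smul_eq_mul] <;>
    simp

/-- the vector `f` -/
def fV : Fin 3 → K := ![0, 0, 1]

/-- the vector `d` -/
def dV : Fin 3 → K := ![0, 1, 0]

/-- upper unitriangular matrices -/
def uUm (a g : K) : Matrix (Fin 3) (Fin 3) K := !![1, a, g; 0, 1, -σ a; 0, 0, 1]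

/-- lower unitriangular matrices -/
def vLm (a g : K) : Matrix (Fin 3) (Fin 3) K := !![1, 0, 0; σ a, 1, 0; g, -a, 1]

/-- diagonal matrices -/
def hTm (l : K) : Matrix (Fin 3) (Fin 3) K := !![l, 0, 0; 0, σ l / l, 0; 0, 0, (σ l)⁻¹]

/-- the Weyl element `antidiag(1,-1,1)` -/
def J3m : Matrix (Fin 3) (Fin 3) K := !![0, 0, 1; 0, -1, 0; 1, 0, 0]

theorem det_uUm (a g : K) : (uUm σ a g).det = 1 := by
  simp [uUm, det_fin_three]

theorem det_vLm (a g : K) : (vLm σ a g).det = 1 := by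
  simp [vLm, det_fin_three]

theorem det_J3m : (J3m : Matrix (Fin 3) (Fin 3) K).det = 1 := by
  simp [J3m, det_fin_three]

theorem det_hTm {l : K} (hl : l ≠ 0) : (hTm σ l).det = 1 := by
  have hsl : σ l ≠ 0 := (map_ne_zero σ).2 hl
  simp [hTm, det_fin_three]
  field_simp

/-- `uU a g` as an element of `SL₃` -/
def uU (a g : K) : SpecialLinearGroup (Fin 3) K := ⟨uUm σ a g, det_uUm σ a g⟩

/-- `vL a g` as an element of `SL₃` -/
def vL (a g : K) : SpecialLinearGroup (Fin 3) K := ⟨vLm σ a g, det_vLm σ a g⟩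

/-- the Weyl element of `SL₃` -/
def J3 : SpecialLinearGroup (Fin 3) K := ⟨J3m, det_J3m⟩

/-- the torus element `diag(l, σ l / l, (σ l)⁻¹)`, `l ≠ 0` -/
def hT (l : K) (hl : l ≠ 0) : SpecialLinearGroup (Fin 3) K := ⟨hTm σ l, det_hTm σ hl⟩

variable {σ}

theorem uU_coe (a g : K) :
    ((uU σ a g : SpecialLinearGroup (Fin 3) K) : Matrix (Fin 3) (Fin 3) K) = uUm σ a g := rfl

theorem vL_coe (a g : K) :
    ((vL σ a g : SpecialLinearGroup (Fin 3) K) : Matrix (Fin 3) (Fin 3) K) = vLm σ a g := rfl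

theorem J3_coe : ((J3 : SpecialLinearGroup (Fin 3) K) : Matrix (Fin 3) (Fin 3) K) = J3m := rfl

theorem hT_coe {l : K} (hl : l ≠ 0) :
    ((hT σ l hl : SpecialLinearGroup (Fin 3) K) : Matrix (Fin 3) (Fin 3) K) = hTm σ l := rfl

/-! ### membership in `UJ σ 3` -/

theorem uU_mem (hσ : ∀ x, σ (σ x) = x) {a g : K} (h : g + σ g + a * σ a = 0) :
    uU σ a g ∈ UJ σ 3 := by
  rw [mem_UJ]
  show uUm σ a g * adj σ (uUm σ a g) = 1
  rw [adj3]
  ext i j
  fin_cases i <;> fin_cases j <;>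
    simp [uUm, Matrix.mul_apply, Fin.sum_univ_three, hσ]
  linear_combination h

theorem vL_mem (hσ : ∀ x, σ (σ x) = x) {a g : K} (h : g + σ g + a * σ a = 0) :
    vL σ a g ∈ UJ σ 3 := by
  rw [mem_UJ]
  show vLm σ a g * adj σ (vLm σ a g) = 1
  rw [adj3]
  ext i j
  fin_cases i <;> fin_cases j <;>
    simp [vLm, Matrix.mul_apply, Fin.sum_univ_three, hσ]
  linear_combination h

theorem J3_mem : (J3 : SpecialLinearGroup (Fin 3) K) ∈ UJ σ 3 := by
  rw [mem_UJ]
  show (J3m : Matrix (Fin 3) (Fin 3) K) * adj σ J3m = 1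
  rw [adj3]
  ext i j
  fin_cases i <;> fin_cases j <;> simp [J3m, Matrix.mul_apply, Fin.sum_univ_three]

theorem hT_mem (hσ : ∀ x, σ (σ x) = x) {l : K} (hl : l ≠ 0) : hT σ l hl ∈ UJ σ 3 := by
  have hsl : σ l ≠ 0 := (map_ne_zero σ).2 hl
  rw [mem_UJ, hT_coe hl, adj3]
  ext i j
  fin_cases i <;> fin_cases j <;>
    simp [hTm, Matrix.mul_apply, Fin.sum_univ_three, hσ, hl, hsl]

/-! ### multiplication -/

theorem uU_mul (a g a' g' : K) :
    uU σ a g * uU σ a' g' = uU σ (a + a') (g + g' - a * σ a') := by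
  apply Subtype.ext
  rw [Matrix.SpecialLinearGroup.coe_mul, uU_coe, uU_coe, uU_coe]
  ext i j
  fin_cases i <;> fin_cases j <;>
    simp [uUm, Matrix.mul_apply, Fin.sum_univ_three] <;> ring

theorem vL_mul (a g a' g' : K) :
    vL σ a g * vL σ a' g' = vL σ (a + a') (g + g' - a * σ a') := by
  apply Subtype.ext
  rw [Matrix.SpecialLinearGroup.coe_mul, vL_coe, vL_coe, vL_coe]
  ext i j
  fin_cases i <;> fin_cases j <;>
    simp [vLm, Matrix.mul_apply, Fin.sum_univ_three] <;> ring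

theorem uU_zero_zero : uU σ 0 (0 : K) = 1 := by
  apply Subtype.ext
  show uUm σ 0 0 = 1
  ext i j
  fin_cases i <;> fin_cases j <;> simp [uUm]

theorem vL_zero_zero : vL σ 0 (0 : K) = 1 := by
  apply Subtype.ext
  show vLm σ 0 0 = 1
  ext i j
  fin_cases i <;> fin_cases j <;> simp [vLm]

theorem uU_inv (a g : K) : (uU σ a g)⁻¹ = uU σ (-a) (-g - a * σ a) := by
  rw [inv_eq_iff_mul_eq_one, uU_mul]
  have : g + (-g - a * σ a) - a * σ (-a) = 0 := by rw [map_neg]; ring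
  rw [this, add_neg_cancel, uU_zero_zero]

theorem uU_inv' {a g : K} (h : g + σ g + a * σ a = 0) : (uU σ a g)⁻¹ = uU σ (-a) (σ g) := by
  rw [uU_inv]
  congr 1
  linear_combination -h

theorem vL_inv (a g : K) : (vL σ a g)⁻¹ = vL σ (-a) (-g - a * σ a) := by
  rw [inv_eq_iff_mul_eq_one, vL_mul]
  have : g + (-g - a * σ a) - a * σ (-a) = 0 := by rw [map_neg]; ring
  rw [this, add_neg_cancel, vL_zero_zero]

theorem vL_inv' {a g : K} (h : g + σ g + a * σ a = 0) : (vL σ a g)⁻¹ = vL σ (-a) (σ g) := by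
  rw [vL_inv]
  congr 1
  linear_combination -h

theorem J3_mul_self : (J3 : SpecialLinearGroup (Fin 3) K) * J3 = 1 := by
  apply Subtype.ext
  rw [Matrix.SpecialLinearGroup.coe_mul, J3_coe]
  ext i j
  fin_cases i <;> fin_cases j <;> simp [J3m, Matrix.mul_apply, Fin.sum_univ_three]

theorem J3_inv : (J3 : SpecialLinearGroup (Fin 3) K)⁻¹ = J3 :=
  inv_eq_of_mul_eq_one_left J3_mul_self

/-- the Weyl element swaps the two unipotent radicals -/
theorem J3_mul_uU (a g : K) : J3 * uU σ a g = vL σ a g * J3 := by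
  apply Subtype.ext
  rw [Matrix.SpecialLinearGroup.coe_mul, Matrix.SpecialLinearGroup.coe_mul, J3_coe, uU_coe, vL_coe]
  ext i j
  fin_cases i <;> fin_cases j <;> simp [J3m, uUm, vLm, Matrix.mul_apply, Fin.sum_univ_three]

theorem J3_conj_uU (a g : K) : J3 * uU σ a g * J3⁻¹ = vL σ a g := by
  rw [J3_mul_uU, mul_inv_cancel_right]

theorem J3_conj_vL (a g : K) : J3 * vL σ a g * J3⁻¹ = uU σ a g := by
  rw [← J3_conj_uU, J3_inv]
  simp only [mul_assoc, J3_mul_self, mul_one]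
  rw [← mul_assoc, J3_mul_self, one_mul]

/-- the torus normalises the upper unipotent radical -/
theorem hT_mul_uU (hσ : ∀ x, σ (σ x) = x) {l : K} (hl : l ≠ 0) (a g : K) :
    hT σ l hl * uU σ a g = uU σ (l ^ 2 / σ l * a) (l * σ l * g) * hT σ l hl := by
  have hsl : σ l ≠ 0 := (map_ne_zero σ).2 hl
  apply Subtype.ext
  rw [Matrix.SpecialLinearGroup.coe_mul, Matrix.SpecialLinearGroup.coe_mul, hT_coe hl, uU_coe,
    uU_coe]
  ext i j
  fin_cases i <;> fin_cases j <;>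
    simp [hTm, uUm, Matrix.mul_apply, Fin.sum_univ_three, hσ] <;> field_simp

theorem hT_conj_uU (hσ : ∀ x, σ (σ x) = x) {l : K} (hl : l ≠ 0) (a g : K) :
    hT σ l hl * uU σ a g * (hT σ l hl)⁻¹ = uU σ (l ^ 2 / σ l * a) (l * σ l * g) := by
  rw [hT_mul_uU hσ hl, mul_inv_cancel_right]

theorem hT_mul {l l' : K} (hl : l ≠ 0) (hl' : l' ≠ 0) :
    hT σ l hl * hT σ l' hl' = hT σ (l * l') (mul_ne_zero hl hl') := by
  have hsl : σ l ≠ 0 := (map_ne_zero σ).2 hl
  have hsl' : σ l' ≠ 0 := (map_ne_zero σ).2 hl'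
  apply Subtype.ext
  rw [Matrix.SpecialLinearGroup.coe_mul, hT_coe hl, hT_coe hl', hT_coe (mul_ne_zero hl hl')]
  ext i j
  fin_cases i <;> fin_cases j <;>
    simp [hTm, Matrix.mul_apply, Fin.sum_univ_three] <;> field_simp

theorem hT_inv {l : K} (hl : l ≠ 0) : (hT σ l hl)⁻¹ = hT σ l⁻¹ (inv_ne_zero hl) := by
  rw [inv_eq_iff_mul_eq_one, hT_mul]
  have hsl : σ l ≠ 0 := (map_ne_zero σ).2 hl
  apply Subtype.ext
  rw [hT_coe]
  ext i j
  fin_cases i <;> fin_cases j <;> simp [hTm, hl]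

/-- the torus normalises the lower unipotent radical -/
theorem hT_mul_vL (hσ : ∀ x, σ (σ x) = x) {l : K} (hl : l ≠ 0) (a g : K) :
    hT σ l hl * vL σ a g = vL σ (l / σ l ^ 2 * a) (g / (l * σ l)) * hT σ l hl := by
  have hsl : σ l ≠ 0 := (map_ne_zero σ).2 hl
  apply Subtype.ext
  rw [Matrix.SpecialLinearGroup.coe_mul, Matrix.SpecialLinearGroup.coe_mul, hT_coe hl, vL_coe,
    vL_coe]
  ext i j
  fin_cases i <;> fin_cases j <;>
    simp [hTm, vLm, Matrix.mul_apply, Fin.sum_univ_three, hσ] <;> field_simp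

/-- the commutator of two upper unipotents is central -/
theorem uU_comm (a g a' g' : K) :
    uU σ a g * uU σ a' g' * (uU σ a' g' * uU σ a g)⁻¹ = uU σ 0 (a' * σ a - a * σ a') := by
  rw [uU_mul, uU_mul, uU_inv, uU_mul]
  congr 1
  · ring
  · simp only [map_neg, map_add]; ring

/-- `uU 0 c` commutes with every upper unipotent -/
theorem uU_zero_mul (c a g : K) : uU σ 0 c * uU σ a g = uU σ a g * uU σ 0 c := by
  rw [uU_mul, uU_mul]
  congr 1
  · ring
  · simp only [map_zero]; ring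

/-! ### transvections -/

theorem uU_zero_eq_TJm (c : K) : uUm σ 0 c = TJm σ (eV : Fin 3 → K) c := by
  rw [TJm_three]
  ext i j
  fin_cases i <;> fin_cases j <;> simp [uUm, eV]

theorem vL_zero_eq_TJm (c : K) : vLm σ 0 c = TJm σ (fV : Fin 3 → K) c := by
  rw [TJm_three]
  ext i j
  fin_cases i <;> fin_cases j <;> simp [vLm, fV]

/-! ### action on vectors -/

theorem uUm_mulVec (a g : K) (v : Fin 3 → K) :
    uUm σ a g *ᵥ v = ![v 0 + a * v 1 + g * v 2, v 1 - σ a * v 2, v 2] := by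
  ext i
  fin_cases i <;> simp [uUm, Matrix.mulVec, dotProduct, Fin.sum_univ_three]
  ring

theorem vLm_mulVec (a g : K) (v : Fin 3 → K) :
    vLm σ a g *ᵥ v = ![v 0, σ a * v 0 + v 1, g * v 0 - a * v 1 + v 2] := by
  ext i
  fin_cases i <;> simp [vLm, Matrix.mulVec, dotProduct, Fin.sum_univ_three]
  ring

theorem hTm_mulVec (l : K) (v : Fin 3 → K) :
    hTm σ l *ᵥ v = ![l * v 0, σ l / l * v 1, (σ l)⁻¹ * v 2] := by
  ext i
  fin_cases i <;> simp [hTm, Matrix.mulVec, dotProduct, Fin.sum_univ_three]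

theorem J3m_mulVec (v : Fin 3 → K) :
    (J3m : Matrix (Fin 3) (Fin 3) K) *ᵥ v = ![v 2, -v 1, v 0] := by
  ext i
  fin_cases i <;> simp [J3m, Matrix.mulVec, dotProduct, Fin.sum_univ_three]

/-! ### regularity -/

theorem uUm_sub_one_sq (a g : K) :
    (uUm σ a g - 1) ^ 2 = !![0, 0, -(a * σ a); 0, 0, 0; 0, 0, 0] := by
  rw [pow_two]
  ext i j
  fin_cases i <;> fin_cases j <;>
    simp [uUm, Matrix.mul_apply, Fin.sum_univ_three]

theorem uUm_sub_one_cube (a g : K) : (uUm σ a g - 1) ^ 3 = 0 := by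
  rw [pow_succ, uUm_sub_one_sq]
  ext i j
  fin_cases i <;> fin_cases j <;>
    simp [uUm, Matrix.mul_apply, Fin.sum_univ_three]

/-- `uU a g` is a regular unipotent element when `a ≠ 0` -/
theorem uUm_regular {a : K} (ha : a ≠ 0) (g : K) :
    IsNilpotent (uUm σ a g - 1) ∧ (uUm σ a g - 1) ^ 2 ≠ 0 := by
  refine ⟨⟨3, uUm_sub_one_cube a g⟩, ?_⟩
  rw [uUm_sub_one_sq]
  intro h
  have h1 := congrFun (congrFun h 0) 2
  simp [ha] at h1

theorem vLm_sub_one_sq (a g : K) :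
    (vLm σ a g - 1) ^ 2 = !![0, 0, 0; 0, 0, 0; -(a * σ a), 0, 0] := by
  rw [pow_two]
  ext i j
  fin_cases i <;> fin_cases j <;>
    simp [vLm, Matrix.mul_apply, Fin.sum_univ_three]

end Cfsg.Agent.Lib.Helper4.SU3
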