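/-
helper4: leaf BT-CARD of the S0997 (Brauer-Tuan) market (helper19, notes/S0997_leaves.lean).
-/
import Mathlib
import Cfsg.Prelude.Def_BlockRank
import Cfsg.Agent.Lib.Helper24.BRCDefs

set_option autoImplicit false

namespace Cfsg.Agent.Lib.Helper4.BTCARD

open Cfsg Cfsg.Agent.Lib.Helper8.DOM Cfsg.Agent.Lib.Helper27.DO Cfsg.Agent.CharLib
open Cfsg.Agent.Lib.Helper6.BRH Cfsg.Agent.Lib.Helper24.BRC
open scoped ComplexConjugate

universe u

variable {G : Type u} [Group G] [Finite G] {p : ℕ} [Fact p.Prime]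

omit [Finite G] in
/-- a subgroup of prime order lies in its centralizer -/
theorem le_Cz (P : Subgroup G) (hP : Nat.card P = p) : P ≤ Cz P := by
  have hpp : p.Prime := Fact.out
  haveI : Fact (Nat.card P).Prime := ⟨by rw [hP]; exact hpp⟩
  haveI : IsCyclic P := isCyclic_of_prime_card rfl
  rw [Subgroup.le_centralizer_iff_isMulCommutative]
  exact ⟨⟨fun a b => by
    obtain ⟨g, hg⟩ := IsCyclic.exists_generator (α := P)
    obtain ⟨i, rfl⟩ := Subgroup.mem_zpowers_iff.mp (hg a)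
    obtain ⟨j, rfl⟩ := Subgroup.mem_zpowers_iff.mp (hg b)
    exact (Commute.zpow_zpow_self g i j).eq⟩⟩

/-- BT-CARD.  `P ≤ C_G(P)` (`P` has prime order, so it is abelian), `|G| = |C_G(P)| · |N:C| · |G:N|`. -/
theorem card_eq (P : Subgroup G) (hP : Nat.card P = p) (n : ℕ) (hidx : (Nz P).index = 1 + n * p) :
    ∃ c : ℕ, Nat.card (Cz P) = p * c ∧ Nat.card G = p * c * fI P * (1 + n * p) := by
  have hle : P ≤ Cz P := le_Cz P hP
  obtain ⟨c, hc⟩ : Nat.card P ∣ Nat.card (Cz P) := Subgroup.card_dvd_of_le hle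
  rw [hP] at hc
  refine ⟨c, hc, ?_⟩
  have hCN : Cz P ≤ Nz P := Subgroup.centralizer_le_normalizer _
  have h1 : Nat.card (Cz P) * (Cz P).index = Nat.card G := Subgroup.card_mul_index _
  have h2 : (Cz P).relIndex (Nz P) * (Nz P).index = (Cz P).index := Subgroup.relIndex_mul_index hCN
  rw [← h1, ← h2, hc, hidx]
  ring

end Cfsg.Agent.Lib.Helper4.BTCARD
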