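/-
helper4: leaf BT-FIX of the S0997 (Brauer-Tuan) market (helper19, notes/S0997_leaves.lean),
plus the small group-theoretic tools shared with BT-ORBIT.
-/
import Mathlib
import Cfsg.Prelude.Def_BlockRank
import Cfsg.Agent.Lib.Helper24.BRCDefs

set_option autoImplicit false

namespace Cfsg.Agent.Lib.Helper4.BTFIX

open Cfsg Cfsg.Agent.Lib.Helper8.DOM Cfsg.Agent.Lib.Helper27.DO Cfsg.Agent.CharLib
open Cfsg.Agent.Lib.Helper6.BRH Cfsg.Agent.Lib.Helper24.BRC
open scoped ComplexConjugate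

universe u

variable {G : Type u} [Group G] [Finite G] {p : ℕ} [Fact p.Prime]

omit [Finite G] in
/-- every element of a subgroup of prime order is a power of any of its non-trivial elements -/
theorem exists_zpow (P : Subgroup G) (hP : Nat.card P = p) {x : G} (hx : x ∈ P) (hx1 : x ≠ 1)
    {u : G} (hu : u ∈ P) : ∃ k : ℤ, x ^ k = u := by
  have h := mem_zpowers_of_prime_card (G := P) hP (g := ⟨x, hx⟩) (g' := ⟨u, hu⟩)
    (by intro h; exact hx1 (congrArg Subtype.val h))
  obtain ⟨k, hk⟩ := Subgroup.mem_zpowers_iff.mp h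
  exact ⟨k, by simpa using congrArg Subtype.val hk⟩

omit [Finite G] in
/-- if `y` inverts one non-trivial element of `P` then it inverts all of `P` -/
theorem conj_eq_inv (P : Subgroup G) (hP : Nat.card P = p) {y x : G} (hx : x ∈ P) (hx1 : x ≠ 1)
    (hyx : y * x * y⁻¹ = x⁻¹) {u : G} (hu : u ∈ P) : y * u * y⁻¹ = u⁻¹ := by
  obtain ⟨k, rfl⟩ := exists_zpow P hP hx hx1 hu
  rw [← conj_zpow, hyx, inv_zpow]

omit [Finite G] in
/-- the elements of `P` have `p`-th power `1` -/
theorem pow_eq_one (P : Subgroup G) (hP : Nat.card P = p) {u : G} (hu : u ∈ P) : u ^ p = 1 := by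
  have h : (⟨u, hu⟩ : P) ^ Nat.card P = 1 := pow_card_eq_one'
  rw [hP] at h
  simpa using congrArg Subtype.val h

omit [Finite G] in
/-- `P` is the only Sylow `p`-subgroup of its normalizer: the elements of `N(P)` with `p`-th power `1` lie in `P` -/
theorem mem_of_pow_eq_one (P : Subgroup G) (hP : Nat.card P = p) (hSyl : ¬ p ∣ P.index) {v : G}
    (hvN : v ∈ Nz P) (hv : v ^ p = 1) : v ∈ P := by
  have hPp : IsPGroup p P := IsPGroup.of_card (n := 1) (by rw [hP, pow_one])
  have hZp : IsPGroup p (Subgroup.zpowers v) := by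
    rintro ⟨g, hg⟩
    obtain ⟨j, rfl⟩ := Subgroup.mem_zpowers_iff.mp hg
    refine ⟨1, Subtype.ext ?_⟩
    simp only [pow_one, Subgroup.coe_pow, Subgroup.coe_one]
    rw [← zpow_natCast, ← zpow_mul, mul_comm, zpow_mul, zpow_natCast, hv, one_zpow]
  have hle : Subgroup.zpowers v ≤ Subgroup.normalizer (P : Set G) := (Subgroup.zpowers_le).mpr hvN
  have hQ : IsPGroup p ↥(Subgroup.zpowers v ⊔ P) := IsPGroup.to_sup_of_normal_right' hZp hPp hle
  have hmax := (hPp.toSylow hSyl).is_maximal' hQ (le_sup_right)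
  have hvQ : v ∈ Subgroup.zpowers v ⊔ P := (le_sup_left : Subgroup.zpowers v ≤ _) (Subgroup.mem_zpowers v)
  rw [hmax] at hvQ
  exact hvQ

omit [Finite G] in
/-- a conjugating element carrying a non-trivial element of `P` into `N(P)` normalizes `P` -/
theorem mem_Nz_of_conj_mem (P : Subgroup G) (hP : Nat.card P = p) (hSyl : ¬ p ∣ P.index) {g u : G}
    (hu : u ∈ P) (hu1 : u ≠ 1) (h : g⁻¹ * u * g ∈ Nz P) : g ∈ Nz P := by
  have hvp : (g⁻¹ * u * g) ^ p = 1 := by
    have := conj_pow (a := g⁻¹) (b := u) (i := p)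
    rw [inv_inv] at this
    rw [this, pow_eq_one P hP hu]; group
  have hvP : g⁻¹ * u * g ∈ P := mem_of_pow_eq_one P hP hSyl h hvp
  have hv1 : g⁻¹ * u * g ≠ 1 := by
    intro h1
    apply hu1
    have : u = g * (g⁻¹ * u * g) * g⁻¹ := by group
    rw [this, h1]; group
  have hzp : ∀ k : ℤ, g⁻¹ * u ^ k * g = (g⁻¹ * u * g) ^ k := by
    intro k
    have := conj_zpow (a := g⁻¹) (b := u) (i := k)
    rw [inv_inv] at this
    exact this.symm
  have hginv : g⁻¹ ∈ Nz P := by
    refine Subgroup.mem_normalizer_iff.mpr fun h => ⟨fun hh => ?_, fun hh => ?_⟩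
    · obtain ⟨k, rfl⟩ := exists_zpow P hP hu hu1 hh
      rw [inv_inv, hzp]
      exact Subgroup.zpow_mem _ hvP k
    · obtain ⟨k, hk⟩ := exists_zpow P hP hvP hv1 hh
      rw [inv_inv, ← hzp] at hk
      have : h = u ^ k := by
        have h2 : g * (g⁻¹ * u ^ k * g) * g⁻¹ = g * (g⁻¹ * h * g) * g⁻¹ := by rw [hk]
        rw [show g * (g⁻¹ * u ^ k * g) * g⁻¹ = u ^ k by group,
          show g * (g⁻¹ * h * g) * g⁻¹ = h by group] at h2
        exact h2.symm
      rw [this]
      exact Subgroup.zpow_mem _ hu k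
  simpa using Subgroup.inv_mem _ hginv

omit [Finite G] in
/-- the non-trivial elements of `P` fix only the point `N(P)` of `G / N(P)` -/
theorem semireg (P : Subgroup G) (hP : Nat.card P = p) (hSyl : ¬ p ∣ P.index) {u : G}
    (hu : u ∈ P) (hu1 : u ≠ 1) (ω : G ⧸ Nz P) (h : u • ω = ω) : ω = ((1 : G) : G ⧸ Nz P) := by
  induction ω using QuotientGroup.induction_on with
  | H g =>
    rw [MulAction.Quotient.smul_mk, smul_eq_mul, QuotientGroup.eq] at h
    have h2 : g⁻¹ * u⁻¹ * g ∈ Nz P := by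
      have : (u * g)⁻¹ * g = g⁻¹ * u⁻¹ * g := by group
      rwa [this] at h
    have hg : g ∈ Nz P := mem_Nz_of_conj_mem P hP hSyl (Subgroup.inv_mem _ hu)
      (by simpa using hu1) h2
    rw [QuotientGroup.eq]
    simpa using Subgroup.inv_mem _ hg

omit [Finite G] [Fact p.Prime] in
/-- `P` fixes the point `N(P)` of `G / N(P)` -/
theorem smul_pt (P : Subgroup G) {u : G} (hu : u ∈ P) :
    u • ((1 : G) : G ⧸ Nz P) = ((1 : G) : G ⧸ Nz P) := by
  rw [MulAction.Quotient.smul_mk, smul_eq_mul, QuotientGroup.eq]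
  have : u ∈ Nz P := Subgroup.le_normalizer hu
  simpa using Subgroup.inv_mem _ this

omit [Finite G] in
/-- an element of `P` of square `1` is trivial (`p` odd) -/
theorem eq_one_of_sq (hp2 : p ≠ 2) (P : Subgroup G) (hP : Nat.card P = p) {w : G} (hw : w ∈ P)
    (h2 : w * w = 1) : w = 1 := by
  have hpp : p.Prime := Fact.out
  have h1 : orderOf w ∣ 2 := orderOf_dvd_of_pow_eq_one (by rw [pow_two]; exact h2)
  have h3 : orderOf w ∣ p := orderOf_dvd_of_pow_eq_one (pow_eq_one P hP hw)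
  have hcop : Nat.Coprime 2 p := (Nat.coprime_primes Nat.prime_two hpp).mpr (Ne.symm hp2)
  have : orderOf w ∣ 1 := by
    have := Nat.dvd_gcd h1 h3
    rwa [hcop.gcd_eq_one] at this
  exact orderOf_eq_one_iff.mp (Nat.dvd_one.mp this)

/-- BT-FIX.  `y` inverts `x ∈ P#`, `p` odd: `y` fixes at most `n + 1` points of `G / N(P)`. -/
theorem card_fixedBy_le (hp2 : p ≠ 2) (P : Subgroup G) (hP : Nat.card P = p) (hSyl : ¬ p ∣ P.index) (n : ℕ)
    (hidx : (Nz P).index = 1 + n * p) (y x : G) (hx : x ∈ P) (hx1 : x ≠ 1) (hyx : y * x * y⁻¹ = x⁻¹) :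
    Nat.card (MulAction.fixedBy (G ⧸ Nz P) y) ≤ n + 1 := by
  classical
  have hpp : p.Prime := Fact.out
  set pt : G ⧸ Nz P := ((1 : G) : G ⧸ Nz P) with hpt
  let F' : Set (G ⧸ Nz P) := {ω | y • ω = ω ∧ ω ≠ pt}
  -- the injection
  let φ : Option (F' × P) → G ⧸ Nz P := fun o =>
    match o with
    | none => pt
    | some (ω, u) => (u : G) • (ω : G ⧸ Nz P)
  have hφ : Function.Injective φ := by
    rintro (_ | ⟨⟨ω, hω⟩, ⟨u, hu⟩⟩) (_ | ⟨⟨ω', hω'⟩, ⟨u', hu'⟩⟩) h
    · rfl
    · exfalso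
      change pt = u' • ω' at h
      apply hω'.2
      have h2 : u'⁻¹ • pt = ω' := by rw [h, inv_smul_smul]
      rw [← h2]
      exact smul_pt P (Subgroup.inv_mem _ hu')
    · exfalso
      change u • ω = pt at h
      apply hω.2
      have h2 : u⁻¹ • pt = ω := by rw [← h, inv_smul_smul]
      rw [← h2]
      exact smul_pt P (Subgroup.inv_mem _ hu)
    · change u • ω = u' • ω' at h
      have hwP : u'⁻¹ * u ∈ P := Subgroup.mul_mem _ (Subgroup.inv_mem _ hu') hu
      have h2 : ω' = (u'⁻¹ * u) • ω := by rw [mul_smul, h, inv_smul_smul]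
      have hyω : y⁻¹ • ω = ω := by
        have := hω.1
        rw [← this, inv_smul_smul, this]
      have hfix : ((u'⁻¹ * u)⁻¹ * (u'⁻¹ * u)⁻¹) • ω = ω := by
        have hc := conj_eq_inv P hP hx hx1 hyx hwP
        have h3 : y • (u'⁻¹ * u) • ω = (u'⁻¹ * u) • ω := by rw [← h2]; exact hω'.1
        calc ((u'⁻¹ * u)⁻¹ * (u'⁻¹ * u)⁻¹) • ω
            = ((u'⁻¹ * u)⁻¹ * (y * (u'⁻¹ * u) * y⁻¹)) • ω := by rw [hc]
          _ = (u'⁻¹ * u)⁻¹ • y • (u'⁻¹ * u) • y⁻¹ • ω := by simp only [mul_smul]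
          _ = ω := by rw [hyω, h3, inv_smul_smul]
      have hw1 : (u'⁻¹ * u)⁻¹ * (u'⁻¹ * u)⁻¹ = 1 := by
        by_contra hne
        exact hω.2 (semireg P hP hSyl
          (Subgroup.mul_mem _ (Subgroup.inv_mem _ hwP) (Subgroup.inv_mem _ hwP)) hne ω hfix)
      have hw : (u'⁻¹ * u)⁻¹ = 1 :=
        eq_one_of_sq hp2 P hP (Subgroup.inv_mem _ hwP) hw1
      have huu : u = u' := by
        have : u'⁻¹ * u = 1 := inv_eq_one.mp hw
        calc u = u' * (u'⁻¹ * u) := by group
          _ = u' := by rw [this, mul_one]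
      subst huu
      have : ω = ω' := smul_left_cancel u h
      subst this
      rfl
  have hcard := Nat.card_le_card_of_injective φ hφ
  rw [Finite.card_option, Nat.card_prod, hP, ← Subgroup.index_eq_card, hidx] at hcard
  have hF' : Nat.card F' ≤ n := by
    have : Nat.card F' * p ≤ n * p := by omega
    exact Nat.le_of_mul_le_mul_right this hpp.pos
  have hsub : MulAction.fixedBy (G ⧸ Nz P) y ⊆ insert pt F' := by
    intro ω hω
    by_cases h : ω = pt
    · exact Set.mem_insert_iff.mpr (Or.inl h)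
    · exact Set.mem_insert_iff.mpr (Or.inr ⟨hω, h⟩)
  calc Nat.card (MulAction.fixedBy (G ⧸ Nz P) y)
      = (MulAction.fixedBy (G ⧸ Nz P) y).ncard := Nat.card_coe_set_eq _
    _ ≤ (insert pt F').ncard := Set.ncard_le_ncard hsub (Set.toFinite _)
    _ ≤ F'.ncard + 1 := Set.ncard_insert_le _ _
    _ = Nat.card F' + 1 := by rw [Nat.card_coe_set_eq]
    _ ≤ n + 1 := by omega

end Cfsg.Agent.Lib.Helper4.BTFIX
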