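/-
helper4: leaf BT-ORBIT of the S0997 (Brauer-Tuan) market (helper19, notes/S0997_leaves.lean).
Counting proof: `(c, w) ↦ c w` embeds `C_G(y) × P` into the preimage of `Fix(y)` in `G`,
which has `|N| · |Fix(y)| = p f |Fix(y)|` elements.
-/
import Mathlib
import Cfsg.Prelude.Def_BlockRank
import Cfsg.Agent.Lib.Helper24.BRCDefs
import Cfsg.Agent.Lib.Helper4.BTFIX

set_option autoImplicit false

namespace Cfsg.Agent.Lib.Helper4.BTORBIT

open Cfsg Cfsg.Agent.Lib.Helper8.DOM Cfsg.Agent.Lib.Helper27.DO Cfsg.Agent.CharLib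
open Cfsg.Agent.Lib.Helper6.BRH Cfsg.Agent.Lib.Helper24.BRC
open Cfsg.Agent.Lib.Helper4.BTFIX
open scoped ComplexConjugate

universe u

variable {G : Type u} [Group G] [Finite G] {p : ℕ} [Fact p.Prime]

omit [Finite G] in
/-- an element inverting `P` normalizes it -/
theorem mem_Nz_of_inverts (P : Subgroup G) (hP : Nat.card P = p) {y x : G} (hx : x ∈ P) (hx1 : x ≠ 1)
    (hyx : y * x * y⁻¹ = x⁻¹) : y ∈ Nz P := by
  refine Subgroup.mem_normalizer_iff.mpr fun h => ⟨fun hh => ?_, fun hh => ?_⟩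
  · rw [conj_eq_inv P hP hx hx1 hyx hh]
    exact Subgroup.inv_mem _ hh
  · have h1 := conj_eq_inv P hP hx hx1 hyx hh
    have h3 : y * h * y⁻¹ = y⁻¹ * (y * (y * h * y⁻¹) * y⁻¹) * y := by group
    rw [h1] at h3
    have h4 : (y * h * y⁻¹)⁻¹ = h := by
      rw [h3]; group
    rw [← h4]
    exact Subgroup.inv_mem _ hh

omit [Finite G] [Fact p.Prime] in
/-- `N(P)` fixes the point `N(P)` of `G / N(P)` -/
theorem smul_pt' (P : Subgroup G) {u : G} (hu : u ∈ Nz P) :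
    u • ((1 : G) : G ⧸ Nz P) = ((1 : G) : G ⧸ Nz P) := by
  rw [MulAction.Quotient.smul_mk, smul_eq_mul, QuotientGroup.eq]
  simpa using Subgroup.inv_mem _ hu

omit [Finite G] in
/-- `|N(P)| = |C(P)| · f` -/
theorem card_Nz (P : Subgroup G) : Nat.card (Nz P) = Nat.card (Cz P) * fI P := by
  have hCN : Cz P ≤ Nz P := Subgroup.centralizer_le_normalizer _
  have := Subgroup.relIndex_mul_relIndex (⊥ : Subgroup G) (Cz P) (Nz P) bot_le hCN
  rw [Subgroup.relIndex_bot_left, Subgroup.relIndex_bot_left] at this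
  exact this.symm

/-- BT-ORBIT.  `|C_G(y)| ≤ f · |Fix(y)|` for `y` inverting `x ∈ P#`, `C_G(P) = P`, `p` odd. -/
theorem card_centralizer_le_mul (hp2 : p ≠ 2) (P : Subgroup G) (hP : Nat.card P = p) (hSyl : ¬ p ∣ P.index) (hC : Cz P = P)
    (y x : G) (hy : orderOf y = 2) (hx : x ∈ P) (hx1 : x ≠ 1) (hyx : y * x * y⁻¹ = x⁻¹) :
    Nat.card (Subgroup.centralizer ({y} : Set G)) ≤ fI P * Nat.card (MulAction.fixedBy (G ⧸ Nz P) y) := by
  classical
  have hpp : p.Prime := Fact.out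
  have hyN : y ∈ Nz P := mem_Nz_of_inverts P hP hx hx1 hyx
  -- the map
  have hmem : ∀ (c : Subgroup.centralizer ({y} : Set G)) (w : P),
      ((c : G) * (w : G)) ∈ (QuotientGroup.mk : G → G ⧸ Nz P) ⁻¹' (MulAction.fixedBy (G ⧸ Nz P) y) := by
    rintro ⟨c, hc⟩ ⟨w, hw⟩
    have hcy : y * c = c * y := (Subgroup.mem_centralizer_iff.mp hc) y (Set.mem_singleton y)
    rw [Set.mem_preimage, MulAction.mem_fixedBy]
    have e1 : ((c * w : G) : G ⧸ Nz P) = (c * w) • ((1 : G) : G ⧸ Nz P) := by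
      rw [MulAction.Quotient.smul_mk, smul_eq_mul, mul_one]
    have hwN : w ∈ Nz P := Subgroup.le_normalizer hw
    change y • ((c * w : G) : G ⧸ Nz P) = ((c * w : G) : G ⧸ Nz P)
    rw [e1, mul_smul, smul_pt' P hwN, ← mul_smul, hcy, mul_smul, smul_pt' P hyN]
  let φ : (Subgroup.centralizer ({y} : Set G)) × P →
      ((QuotientGroup.mk : G → G ⧸ Nz P) ⁻¹' (MulAction.fixedBy (G ⧸ Nz P) y)) :=
    fun cw => ⟨(cw.1 : G) * (cw.2 : G), hmem cw.1 cw.2⟩
  have hφ : Function.Injective φ := by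
    rintro ⟨⟨c, hc⟩, ⟨w, hw⟩⟩ ⟨⟨c', hc'⟩, ⟨w', hw'⟩⟩ h
    have h0 : c * w = c' * w' := congrArg Subtype.val h
    -- z := c'⁻¹ c = w' w⁻¹ lies in `C(y) ∩ P`
    have hz : c'⁻¹ * c = w' * w⁻¹ := by
      have : c = c' * w' * w⁻¹ := by rw [← h0]; group
      rw [this]; group
    have hzP : c'⁻¹ * c ∈ P := by
      rw [hz]; exact Subgroup.mul_mem _ hw' (Subgroup.inv_mem _ hw)
    have hzK : c'⁻¹ * c ∈ Subgroup.centralizer ({y} : Set G) :=
      Subgroup.mul_mem _ (Subgroup.inv_mem _ hc') hc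
    have hzy : y * (c'⁻¹ * c) = (c'⁻¹ * c) * y :=
      (Subgroup.mem_centralizer_iff.mp hzK) y (Set.mem_singleton y)
    have hinv := conj_eq_inv P hP hx hx1 hyx hzP
    have hzz : (c'⁻¹ * c) * (c'⁻¹ * c) = 1 := by
      have : (c'⁻¹ * c)⁻¹ = c'⁻¹ * c := by
        rw [← hinv, hzy]; group
      calc (c'⁻¹ * c) * (c'⁻¹ * c) = (c'⁻¹ * c)⁻¹ * (c'⁻¹ * c) := by rw [this]
        _ = 1 := inv_mul_cancel _
    have hz1 : c'⁻¹ * c = 1 := eq_one_of_sq hp2 P hP hzP hzz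
    have hcc : c = c' := by
      calc c = c' * (c'⁻¹ * c) := by group
        _ = c' := by rw [hz1, mul_one]
    subst hcc
    have hww : w = w' := mul_left_cancel h0
    subst hww
    rfl
  have hcard := Nat.card_le_card_of_injective φ hφ
  rw [Nat.card_prod, hP, Nat.card_congr (QuotientGroup.preimageMkEquivSubgroupProdSet _ _),
    Nat.card_prod, card_Nz P, hC, hP] at hcard
  have : Nat.card (Subgroup.centralizer ({y} : Set G)) * p
      ≤ (fI P * Nat.card (MulAction.fixedBy (G ⧸ Nz P) y)) * p := by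
    calc Nat.card (Subgroup.centralizer ({y} : Set G)) * p
        ≤ p * fI P * Nat.card (MulAction.fixedBy (G ⧸ Nz P) y) := hcard
      _ = (fI P * Nat.card (MulAction.fixedBy (G ⧸ Nz P) y)) * p := by ring
  exact Nat.le_of_mul_le_mul_right this hpp.pos

end Cfsg.Agent.Lib.Helper4.BTORBIT
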