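import Mathlib
import Cfsg.Agent.Lib.Helper4.D8Rec
import Cfsg.Agent.Lib.Helper4.Klein1

set_option autoImplicit false
set_option linter.style.haveILetI false
set_option linter.unusedSectionVars false

namespace Cfsg.Agent.Lib.Helper4

open Subgroup

section D8Klein

variable {X : Type*} [Group X]

theorem kleinOf_mul_left {z a : X} (hz : z * z = 1) (ha : a * a = 1) (hza : z * a = a * z)
    (h2 : (z * a) * (z * a) = 1) (h3 : z * (z * a) = (z * a) * z) :
    kleinOf z (z * a) hz h2 h3 = kleinOf z a hz ha hza := by
  ext x
  rw [mem_kleinOf, mem_kleinOf]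
  have : z * (z * a) = a := by rw [← mul_assoc, hz, one_mul]
  rw [this]
  tauto

theorem kleinOf_le {z a : X} (hz : z * z = 1) (ha : a * a = 1) (hza : z * a = a * z)
    (U : Subgroup X) (hzU : z ∈ U) (haU : a ∈ U) : kleinOf z a hz ha hza ≤ U := by
  intro x hx
  rcases mem_kleinOf.mp hx with rfl | rfl | rfl | rfl
  · exact U.one_mem
  · exact hzU
  · exact haU
  · exact U.mul_mem hzU haU

variable [Finite X]

/-- A nonabelian group of order `8` with dihedral data has exactly two four-subgroups. -/
theorem klein_of_dihedral_data (hcard : Nat.card X = 8) (r s : X) (hr : orderOf r = 4)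
    (hs : s * s = 1) (hs' : s ∉ zpowers r) (hsr : s * r * s = r⁻¹) :
    ∃ U₁ U₂ : Subgroup X, U₁ ≠ U₂ ∧ IsKleinFour U₁ ∧ IsKleinFour U₂ ∧
      ∀ U : Subgroup X, IsKleinFour U → U = U₁ ∨ U = U₂ := by
  have hr4 : r ^ 4 = 1 := by rw [← hr]; exact pow_orderOf_eq_one r
  have hr1 : r ≠ 1 := by
    intro h0; rw [h0, orderOf_one] at hr; norm_num at hr
  have hr2 : r ^ 2 ≠ 1 := by
    intro h0
    have := orderOf_dvd_of_pow_eq_one h0
    rw [hr] at this; norm_num at this
  have hsinv : s⁻¹ = s := inv_eq_of_mul_eq_one_left hs
  set z := r ^ 2 with hz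
  have hz2 : z * z = 1 := by rw [hz, ← pow_add]; exact hr4
  have hzr : z ∈ zpowers r := Subgroup.pow_mem _ (mem_zpowers r) 2
  -- s r = r⁻¹ s
  have h1 : s * r = r⁻¹ * s := by
    have := congrArg (fun t => t * s) hsr
    simp only [mul_assoc, hs, mul_one] at this
    exact this
  have h1' : s * r⁻¹ = r * s := by
    have : r * (s * r) * r⁻¹ = r * (r⁻¹ * s) * r⁻¹ := by rw [h1]
    have h2 : r * s = s * r⁻¹ := by
      calc r * s = r * (s * r) * r⁻¹ := by group
        _ = r * (r⁻¹ * s) * r⁻¹ := by rw [h1]
        _ = s * r⁻¹ := by group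
    exact h2.symm
  have hrinv2 : r⁻¹ * r⁻¹ = z := by
    have : r⁻¹ * r⁻¹ * (r ^ 2 * r ^ 2) = r ^ 2 := by group
    rw [← pow_add, hr4, mul_one] at this
    rw [hz, ← this]
  have hzs : z * s = s * z := by
    rw [hz, pow_two]
    calc r * r * s = r * (r * s) := by group
      _ = r * (s * r⁻¹) := by rw [h1']
      _ = (r * s) * r⁻¹ := by group
      _ = (s * r⁻¹) * r⁻¹ := by rw [h1']
      _ = s * (r⁻¹ * r⁻¹) := by group
      _ = s * (r * r) := by rw [hrinv2, hz, pow_two]
  have hzrr : z * r = r * z := by rw [hz, ← pow_succ, ← pow_succ']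
  have hsr2 : (s * r) * (s * r) = 1 := by
    calc s * r * (s * r) = (s * r * s) * r := by group
      _ = 1 := by rw [hsr]; group
  have hzsr : z * (s * r) = (s * r) * z := by
    rw [← mul_assoc, hzs, mul_assoc, hzrr, mul_assoc]
  have hsr' : s * r ∉ zpowers r := by
    intro h0
    apply hs'
    have := Subgroup.mul_mem _ h0 (Subgroup.inv_mem _ (mem_zpowers r))
    simpa using this
  have hs1 : s ≠ 1 := fun h0 => hs' (h0 ▸ Subgroup.one_mem _)
  have hsr1 : s * r ≠ 1 := fun h0 => hsr' (h0 ▸ Subgroup.one_mem _)
  have hzs' : z ≠ s := fun h0 => hs' (h0 ▸ hzr)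
  have hzsr' : z ≠ s * r := fun h0 => hsr' (h0 ▸ hzr)
  have hidx : (zpowers r).index = 2 := by
    have := (zpowers r).card_mul_index
    rw [Nat.card_zpowers, hr, hcard] at this
    omega
  refine ⟨kleinOf z s hz2 hs hzs, kleinOf z (s * r) hz2 hsr2 hzsr, ?_,
    isKleinFour_kleinOf hz2 hs hzs hr2 hs1 hzs', isKleinFour_kleinOf hz2 hsr2 hzsr hr2 hsr1 hzsr', ?_⟩
  · intro h0
    have hmem : s ∈ kleinOf z (s * r) hz2 hsr2 hzsr := by
      rw [← h0, mem_kleinOf]; right; right; left; rfl
    rcases mem_kleinOf.mp hmem with h2 | h2 | h2 | h2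
    · exact hs1 h2
    · exact hzs' h2.symm
    · apply hr1
      have : s * 1 = s * r := by rw [mul_one]; exact h2
      exact (mul_left_cancel this).symm
    · -- s = z * (s * r) = s * (z * r)
      have h3 : s * 1 = s * (z * r) := by
        rw [mul_one, ← mul_assoc, ← hzs, mul_assoc]; exact h2
      have h4 : z * r = 1 := (mul_left_cancel h3).symm
      have h5 : r ^ 3 = 1 := by rw [pow_succ, ← hz]; exact h4
      apply hr1
      have : r ^ 4 = r ^ 3 * r := pow_succ r 3
      rw [hr4, h5, one_mul] at this
      exact this.symm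
  · intro U hU
    have hU2 : ∀ x ∈ U, x * x = 1 := by
      intro x hx
      have := IsKleinFour.mul_self (⟨x, hx⟩ : U)
      exact congrArg Subtype.val this
    have hU4 : Nat.card U = 4 := hU.card_four
    -- Step A
    have stepA : ∀ x ∈ U, x ∈ zpowers r → x = 1 ∨ x = z := by
      intro x hx hxr
      rcases mem_zpowers_four hr hxr with h2 | h2 | h2 | h2
      · left; exact h2
      · exfalso
        have := hU2 x hx
        rw [h2, ← pow_two] at this
        exact hr2 this
      · right; exact h2
      · exfalso
        have := hU2 x hx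
        rw [h2, ← pow_add] at this
        have h6 : r ^ (3 + 3) = r ^ 4 * r ^ 2 := by rw [← pow_add]
        rw [h6, hr4, one_mul] at this
        exact hr2 this
    -- Step B
    obtain ⟨a, haU, ha1, haz⟩ := exists_ne_of_two_lt_card U z hz2 (by rw [hU4]; norm_num)
    have har : a ∉ zpowers r := by
      intro h0
      rcases stepA a haU h0 with h2 | h2
      · exact ha1 h2
      · exact haz h2
    have ha2 : a * a = 1 := hU2 a haU
    have hainv : a⁻¹ = a := inv_eq_of_mul_eq_one_left ha2
    -- Step C
    have hzU : z ∈ U := by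
      obtain ⟨b, hbU, hb1, hba⟩ := exists_ne_of_two_lt_card U a ha2 (by rw [hU4]; norm_num)
      by_cases hbr : b ∈ zpowers r
      · rcases stepA b hbU hbr with h2 | h2
        · exact absurd h2 hb1
        · rw [← h2]; exact hbU
      · have habr : a * b ∈ zpowers r :=
          (Subgroup.mul_mem_iff_of_index_two hidx).mpr ⟨fun h => absurd h har, fun h => absurd h hbr⟩
        have habU : a * b ∈ U := U.mul_mem haU hbU
        rcases stepA _ habU habr with h2 | h2
        · exfalso
          apply hba
          have : b = a⁻¹ := eq_inv_of_mul_eq_one_right h2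
          rw [this, hainv]
        · rw [← h2]; exact habU
    -- Step D
    have hza : z * a = a * z := by
      -- U is commutative
      have hc := mul_comm_of_exponent_two hU.exponent_two (⟨z, hzU⟩ : U) ⟨a, haU⟩
      exact congrArg Subtype.val hc
    have hUeq : U = kleinOf z a hz2 ha2 hza := by
      symm
      apply Subgroup.eq_of_le_of_card_ge (kleinOf_le hz2 ha2 hza U hzU haU)
      rw [hU4, card_kleinOf hz2 ha2 hza hr2 ha1 (fun h0 => haz h0.symm)]
    -- Step E
    have hsa : s * a ∈ zpowers r :=
      (Subgroup.mul_mem_iff_of_index_two hidx).mpr ⟨fun h => absurd h hs', fun h => absurd h har⟩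
    have ha_eq : a = s * (s * a) := by rw [← mul_assoc, hs, one_mul]
    rcases mem_zpowers_four hr hsa with h2 | h2 | h2 | h2
    · left
      have : a = s := by rw [ha_eq, h2, mul_one]
      subst this
      exact hUeq
    · right
      have : a = s * r := by rw [ha_eq, h2]
      subst this
      exact hUeq
    · left
      have : a = z * s := by rw [ha_eq, h2, ← hz, hzs]
      subst this
      rw [hUeq]
      exact kleinOf_mul_left hz2 hs hzs ha2 hza
    · right
      have : a = z * (s * r) := by
        rw [ha_eq, h2, hzsr, pow_succ, ← hz, mul_assoc, hzrr]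
      subst this
      rw [hUeq]
      exact kleinOf_mul_left hz2 hsr2 hzsr ha2 hza

theorem dihedral_data_core (hcard : Nat.card X = 8) (hab : ¬ IsMulCommutative X)
    (r s : X) (hr : orderOf r = 4) (hs : s * s = 1) (hs' : s ∉ zpowers r) :
    s * r * s = r⁻¹ := by
  have hidx : (zpowers r).index = 2 := by
    have := (zpowers r).card_mul_index
    rw [Nat.card_zpowers, hr, hcard] at this
    omega
  have hn : (zpowers r).Normal := Subgroup.normal_of_index_eq_two hidx
  have hsinv : s⁻¹ = s := inv_eq_of_mul_eq_one_left hs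
  have hc : s * r * s⁻¹ ∈ zpowers r := hn.conj_mem r (mem_zpowers r) s
  have hco : orderOf (s * r * s⁻¹) = 4 := by
    have := (MulAut.conj s).orderOf_eq r
    rw [MulAut.conj_apply] at this
    rw [this, hr]
  have hr4 : r ^ 4 = 1 := by rw [← hr]; exact pow_orderOf_eq_one r
  have key : s * r * s⁻¹ = r ^ 3 := by
    rcases mem_zpowers_four hr hc with h1 | h1 | h1 | h1
    · rw [h1, orderOf_one] at hco; norm_num at hco
    · exfalso
      have hsr : s * r = r * s := by
        have := congrArg (fun t => t * s) h1
        simpa using this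
      apply hab
      have hrc : r ∈ center X := by
        have : centralizer ({r} : Set X) = ⊤ := by
          apply eq_top_of_zpowers_le hcard hr hs'
          · rw [zpowers_le, mem_centralizer_singleton_iff]
          · rw [mem_centralizer_singleton_iff]; exact hsr
        rw [mem_center_iff]
        intro g
        have hg : g ∈ centralizer ({r} : Set X) := by rw [this]; trivial
        rw [mem_centralizer_singleton_iff] at hg
        exact hg
      have hsc : s ∈ center X := by
        have : centralizer ({s} : Set X) = ⊤ := by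
          apply eq_top_of_zpowers_le hcard hr hs'
          · rw [zpowers_le, mem_centralizer_singleton_iff]; exact hsr.symm
          · rw [mem_centralizer_singleton_iff]
        rw [mem_center_iff]
        intro g
        have hg : g ∈ centralizer ({s} : Set X) := by rw [this]; trivial
        rw [mem_centralizer_singleton_iff] at hg
        exact hg
      have htop : center X = ⊤ :=
        eq_top_of_zpowers_le hcard hr hs' _ (zpowers_le.mpr hrc) hsc
      refine ⟨⟨fun a b => ?_⟩⟩
      have ha : a ∈ center X := by rw [htop]; trivial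
      exact (mem_center_iff.mp ha b).symm
    · exfalso
      have h2 : (s * r * s⁻¹) ^ 2 = 1 := by
        rw [h1, ← pow_mul]; exact hr4
      have := orderOf_dvd_of_pow_eq_one h2
      rw [hco] at this
      norm_num at this
    · exact h1
  have : r ^ 3 = r⁻¹ := by
    rw [eq_inv_iff_mul_eq_one, ← pow_succ]; exact hr4
  rw [← this, ← key, hsinv]

/-- Dihedral data in a nonabelian group of order `8` with two distinct involutions. -/
theorem exists_dihedral_data (hcard : Nat.card X = 8) (hab : ¬ IsMulCommutative X)
    (s t : X) (hs : orderOf s = 2) (ht : orderOf t = 2) (hst : s ≠ t) :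
    ∃ r s : X, orderOf r = 4 ∧ s * s = 1 ∧ s ∉ zpowers r ∧ s * r * s = r⁻¹ := by
  obtain ⟨r, hr⟩ := exists_orderOf_eq_four hcard hab
  have hr4 : r ^ 4 = 1 := by rw [← hr]; exact pow_orderOf_eq_one r
  have hss : s * s = 1 := by rw [← pow_two, ← hs]; exact pow_orderOf_eq_one s
  have htt : t * t = 1 := by rw [← pow_two, ← ht]; exact pow_orderOf_eq_one t
  have hinv : ∀ w : X, orderOf w = 2 → w ∈ zpowers r → w = r ^ 2 := by
    intro w hw hwr
    rcases mem_zpowers_four hr hwr with h1 | h1 | h1 | h1
    · rw [h1, orderOf_one] at hw; norm_num at hw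
    · rw [h1, hr] at hw; norm_num at hw
    · exact h1
    · exfalso
      have h2 : w ^ 2 = 1 := by rw [← hw]; exact pow_orderOf_eq_one w
      rw [h1, ← pow_mul] at h2
      have h3 : r ^ 2 = 1 := by
        have : r ^ (3 * 2) = r ^ 4 * r ^ 2 := by rw [← pow_add]
        rw [this, hr4, one_mul] at h2
        exact h2
      have := orderOf_dvd_of_pow_eq_one h3
      rw [hr] at this
      norm_num at this
  by_cases hsr : s ∈ zpowers r
  · have htr : t ∉ zpowers r := by
      intro htr
      exact hst ((hinv s hs hsr).trans (hinv t ht htr).symm)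
    exact ⟨r, t, hr, htt, htr, dihedral_data_core hcard hab r t hr htt htr⟩
  · exact ⟨r, s, hr, hss, hsr, dihedral_data_core hcard hab r s hr hss hsr⟩

/-- A nonabelian group of order `8` with two distinct involutions has exactly two
four-subgroups. -/
theorem klein_of_card_eight (hcard : Nat.card X = 8) (hab : ¬ IsMulCommutative X)
    (s t : X) (hs : orderOf s = 2) (ht : orderOf t = 2) (hst : s ≠ t) :
    ∃ U₁ U₂ : Subgroup X, U₁ ≠ U₂ ∧ IsKleinFour U₁ ∧ IsKleinFour U₂ ∧
      ∀ U : Subgroup X, IsKleinFour U → U = U₁ ∨ U = U₂ := by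
  obtain ⟨r, s', hr, hs2, hs', hsr⟩ := exists_dihedral_data hcard hab s t hs ht hst
  exact klein_of_dihedral_data hcard r s' hr hs2 hs' hsr

/-- The center of a nonabelian group of order `8` has order `2`. -/
theorem card_center_of_card_eight (hcard : Nat.card X = 8) (hab : ¬ IsMulCommutative X) :
    Nat.card (center X) = 2 := by
  haveI : Fact (Nat.Prime 2) := ⟨Nat.prime_two⟩
  have hX : IsPGroup 2 X := IsPGroup.of_card (n := 3) (by rw [hcard]; norm_num)
  haveI : Nontrivial X := by
    rw [← Finite.one_lt_card_iff_nontrivial, hcard]; norm_num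
  haveI : Nontrivial (center X) := hX.center_nontrivial
  have h1 : 1 < Nat.card (center X) := Finite.one_lt_card
  have h2 : Nat.card (center X) ∣ 8 := hcard ▸ Subgroup.card_subgroup_dvd_card _
  have h8 : Nat.card (center X) ≠ 8 := by
    intro h8
    apply hab
    have htop : center X = ⊤ := Subgroup.eq_top_of_card_eq _ (by rw [h8, hcard])
    refine ⟨⟨fun a b => ?_⟩⟩
    have ha : a ∈ center X := by rw [htop]; trivial
    exact (mem_center_iff.mp ha b).symm
  have h4 : Nat.card (center X) ≠ 4 := by
    intro h4
    apply hab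
    have hq : Nat.card (X ⧸ center X) = 2 := by
      have := Subgroup.card_eq_card_quotient_mul_card_subgroup (center X)
      rw [hcard, h4] at this
      omega
    haveI : IsCyclic (X ⧸ center X) := isCyclic_of_prime_card hq
    exact MonoidHom.isMulCommutative_of_isCyclic_of_ker_le_center (QuotientGroup.mk' (center X))
      (by rw [QuotientGroup.ker_mk'])
  have hle : Nat.card (center X) ≤ 8 := Nat.le_of_dvd (by norm_num) h2
  generalize Nat.card (center X) = n at *
  interval_cases n <;> omega

end D8Klein

end Cfsg.Agent.Lib.Helper4
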