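import Mathlib
import Cfsg.Prelude.Def_CaseTheorems
import Cfsg.Agent.Lib.Helper4.Klein1
import Cfsg.Agent.Lib.Helper19.Clifford

set_option autoImplicit false
open Cfsg

namespace Cfsg.Agent.Lib.Helper4

universe u

open Cfsg.Agent.Lib.Helper19 (cj mem_cj cj_one cj_mul cj_mono)

theorem isKleinFour_of_mulEquiv {A B : Type*} [Group A] [Group B] (e : A ≃* B) (hA : IsKleinFour A) :
    IsKleinFour B := by
  apply isKleinFour_of_card_of_sq
  · rw [← Nat.card_congr e.toEquiv]; exact hA.card_four
  · intro x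
    obtain ⟨a, rfl⟩ := e.surjective x
    rw [← map_mul, IsKleinFour.mul_self, map_one]

variable {G : Type u} [Group G]

/-- adjacency of Klein four-subgroups -/
def fourRel (A B : Subgroup G) : Prop :=
  IsKleinFour A ∧ IsKleinFour B ∧ ∀ a ∈ A, ∀ b ∈ B, a * b = b * a

theorem isFourConnected_iff : IsFourConnected G ↔
    ∀ U V : Subgroup G, IsKleinFour U → IsKleinFour V → Relation.ReflTransGen fourRel U V :=
  Iff.rfl

theorem isKleinFour_cj (g : G) {V : Subgroup G} (hV : IsKleinFour V) : IsKleinFour (cj g V) :=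
  isKleinFour_of_mulEquiv (V.equivMapOfInjective _ (MulAut.conj g).injective) hV

theorem fourRel_cj (g : G) {A B : Subgroup G} (h : fourRel A B) : fourRel (cj g A) (cj g B) := by
  obtain ⟨hA, hB, hc⟩ := h
  refine ⟨isKleinFour_cj g hA, isKleinFour_cj g hB, ?_⟩
  intro a ha b hb
  rw [mem_cj] at ha hb
  have := hc _ ha _ hb
  calc a * b = g * ((g⁻¹ * a * g) * (g⁻¹ * b * g)) * g⁻¹ := by group
    _ = g * ((g⁻¹ * b * g) * (g⁻¹ * a * g)) * g⁻¹ := by rw [this]
    _ = b * a := by group

theorem fourRel_symm {A B : Subgroup G} (h : fourRel A B) : fourRel B A :=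
  ⟨h.2.1, h.1, fun b hb a ha => (h.2.2 a ha b hb).symm⟩

theorem fourPath_cj (g : G) {A B : Subgroup G} (h : Relation.ReflTransGen fourRel A B) :
    Relation.ReflTransGen fourRel (cj g A) (cj g B) :=
  Relation.ReflTransGen.lift (cj g) (fun _ _ hab => fourRel_cj g hab) _ _ h

theorem fourPath_symm {A B : Subgroup G} (h : Relation.ReflTransGen fourRel A B) :
    Relation.ReflTransGen fourRel B A := by
  induction h with
  | refl => exact Relation.ReflTransGen.refl
  | tail _ hbc ih => exact Relation.ReflTransGen.head (fourRel_symm hbc) ih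

/-- four-connectedness of a subgroup, stated for four-subgroups of the ambient group -/
theorem fourPath_of_isFourConnected_subgroup (S : Subgroup G) (hS : IsFourConnected S)
    {U V : Subgroup G} (hUS : U ≤ S) (hVS : V ≤ S) (hU : IsKleinFour U) (hV : IsKleinFour V) :
    Relation.ReflTransGen fourRel U V := by
  have hU' : IsKleinFour (U.subgroupOf S) :=
    isKleinFour_of_mulEquiv (Subgroup.subgroupOfEquivOfLe hUS).symm hU
  have hV' : IsKleinFour (V.subgroupOf S) :=
    isKleinFour_of_mulEquiv (Subgroup.subgroupOfEquivOfLe hVS).symm hV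
  have h1 := hS _ _ hU' hV'
  have h2 := Relation.ReflTransGen.lift (fun A : Subgroup S => A.map S.subtype)
    (r := fun A B : Subgroup S => IsKleinFour A ∧ IsKleinFour B ∧ ∀ a ∈ A, ∀ b ∈ B, a * b = b * a)
    (p := fourRel (G := G)) (fun A B hAB => by
      obtain ⟨hA, hB, hc⟩ := hAB
      refine ⟨isKleinFour_of_mulEquiv (A.equivMapOfInjective _ S.subtype_injective) hA,
        isKleinFour_of_mulEquiv (B.equivMapOfInjective _ S.subtype_injective) hB, ?_⟩
      rintro _ ⟨a, ha, rfl⟩ _ ⟨b, hb, rfl⟩
      have := hc a ha b hb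
      exact congrArg Subtype.val this) _ _ h1
  simp only [Function.onFun, Subgroup.subgroupOf_map_subtype, inf_eq_left.mpr hUS, inf_eq_left.mpr hVS] at h2
  exact h2

end Cfsg.Agent.Lib.Helper4
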