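import Mathlib
import Cfsg.Agent.Lib.Helper4.PscCount
import Cfsg.Agent.Lib.Helper7.SimpleTools

set_option autoImplicit false
set_option linter.style.haveILetI false

namespace Cfsg.Agent.Lib.Helper4

open Subgroup

universe u

section Generic

variable {G : Type u} [Group G]

theorem centralizer_singleton_eq_centralizer_zpowers (x : G) :
    centralizer ({x} : Set G) = centralizer ((zpowers x : Subgroup G) : Set G) := by
  apply le_antisymm
  · intro c hc
    rw [mem_centralizer_singleton_iff] at hc
    rw [mem_centralizer_iff]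
    intro y hy
    obtain ⟨k, rfl⟩ := mem_zpowers_iff.mp hy
    exact ((Commute.zpow_left (show Commute x c from hc.symm) k)).eq
  · exact centralizer_le (by
      intro y hy
      rw [Set.mem_singleton_iff] at hy
      rw [hy]; exact mem_zpowers x)

variable [Finite G]

/-- Cover by three predicates. -/
theorem card_le_of_three_cover {α : Type*} [Finite α] (p q r : α → Prop)
    (h : ∀ a, p a ∨ q a ∨ r a) :
    Nat.card α ≤ Nat.card {a // p a} + Nat.card {a // q a} + Nat.card {a // r a} := by
  classical
  rw [← Nat.card_sum, ← Nat.card_sum]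
  apply Nat.card_le_card_of_surjective
    (fun s : ({a // p a} ⊕ {a // q a}) ⊕ {a // r a} =>
      Sum.elim (Sum.elim (fun a => a.1) (fun a => a.1)) (fun a => a.1) s)
  intro a
  rcases h a with h1 | h1 | h1
  · exact ⟨Sum.inl (Sum.inl ⟨a, h1⟩), rfl⟩
  · exact ⟨Sum.inl (Sum.inr ⟨a, h1⟩), rfl⟩
  · exact ⟨Sum.inr ⟨a, h1⟩, rfl⟩

/-- Union bound. -/
theorem card_le_of_cover {α ι : Type*} [Finite α] [Finite ι] (q : α → Prop) (S : ι → Set α)
    (k : ℕ) (hk : ∀ i, Nat.card (S i) ≤ k) (h : ∀ a, q a → ∃ i, a ∈ S i) :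
    Nat.card {a // q a} ≤ Nat.card ι * k := by
  classical
  haveI : Fintype ι := Fintype.ofFinite ι
  have h1 : Nat.card {a // q a} ≤ Nat.card (Σ i, S i) := by
    apply Nat.card_le_card_of_injective
      (fun a : {a // q a} => (⟨(h a.1 a.2).choose, ⟨a.1, (h a.1 a.2).choose_spec⟩⟩ : Σ i, S i))
    intro a b hab
    apply Subtype.ext
    have := congrArg (fun s : Σ i, S i => (s.2 : α)) hab
    exact this
  refine h1.trans ?_
  rw [Nat.card_sigma]
  calc ∑ i, Nat.card (S i) ≤ ∑ _i : ι, k := Finset.sum_le_sum (fun i _ => hk i)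
    _ = Nat.card ι * k := by
      simp [Nat.card_eq_fintype_card]

/-- Elements of order `p`: exact count. -/
theorem psc_card_orderOf_eq {p : ℕ} {z : G} (hp : p.Prime) (hz : orderOf z = p)
    (hC : centralizer ({z} : Set G) = zpowers z) :
    Nat.card {g : G // orderOf g = p} = Nat.card (Sylow p G) * (p - 1) := by
  haveI : Fact p.Prime := ⟨hp⟩
  have hfac := psc_factorization hp hz hC
  let P₀ : Sylow p G := Sylow.ofCard (zpowers z)
    (by rw [hfac, pow_one, Nat.card_zpowers, hz])
  have hidx : Nat.card (Sylow p G) = (normalizer ((zpowers z : Subgroup G) : Set G)).index :=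
    Sylow.card_eq_index_normalizer P₀
  have hE1 : Nat.card {g : G // orderOf g = p} =
      Nat.card {H : Subgroup G // Nat.card H = p} * (p - 1) := by
    apply card_eq_mul_of_fibers
      (fun g : {g : G // orderOf g = p} =>
        (⟨zpowers g.1, by rw [Nat.card_zpowers, g.2]⟩ : {H : Subgroup G // Nat.card H = p}))
    rintro ⟨H, hH⟩
    have key : Nat.card {h : H // h ≠ 1} = p - 1 := by rw [card_subtype_ne', hH]
    rw [← key]
    apply Nat.card_congr
    refine ⟨fun g => ⟨⟨g.1.1, ?_⟩, ?_⟩, fun h => ⟨⟨h.1.1, ?_⟩, ?_⟩, ?_, ?_⟩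
    · have := congrArg Subtype.val g.2
      simp only at this
      have h0 : (g.1.1 : G) ∈ zpowers (g.1.1 : G) := mem_zpowers _
      rw [this] at h0
      exact h0
    · intro h1
      have : g.1.1 = 1 := congrArg Subtype.val h1
      exact psc_ne_one hp g.1.2 this
    · have h1 : (h.1 : G) ≠ 1 := fun h1 => h.2 (Subtype.ext h1)
      have h2 : orderOf (h.1 : G) ∣ p := by
        rw [Subgroup.orderOf_coe, ← hH]; exact orderOf_dvd_natCard _
      rcases (Nat.dvd_prime hp).mp h2 with h3 | h3
      · exact absurd (orderOf_eq_one_iff.mp h3) h1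
      · exact h3
    · apply Subtype.ext
      simp only
      apply Subgroup.eq_of_le_of_card_ge (zpowers_le.mpr h.1.2)
      rw [hH, Nat.card_zpowers]
      have h1 : (h.1 : G) ≠ 1 := fun h1 => h.2 (Subtype.ext h1)
      have h2 : orderOf (h.1 : G) ∣ p := by
        rw [Subgroup.orderOf_coe, ← hH]; exact orderOf_dvd_natCard _
      rcases (Nat.dvd_prime hp).mp h2 with h3 | h3
      · exact absurd (orderOf_eq_one_iff.mp h3) h1
      · exact h3.ge
    · intro g; rfl
    · intro h; rfl
  rw [psc_card_subgroups hp hz hC, ← hidx] at hE1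
  exact hE1

/-- An element whose order is divisible by `p` has order `p`. -/
theorem psc_orderOf_eq_of_dvd {p : ℕ} {z : G} (hp : p.Prime) (hz : orderOf z = p)
    (hC : centralizer ({z} : Set G) = zpowers z) (g : G) (hg : p ∣ orderOf g) :
    orderOf g = p := by
  obtain ⟨k, hk⟩ := hg
  have hpos : 0 < orderOf g := orderOf_pos g
  have hk0 : k ≠ 0 := by
    rintro rfl
    rw [mul_zero] at hk
    omega
  have h1 : orderOf (g ^ k) = p := by
    rw [orderOf_pow_of_dvd hk0 ⟨p, by rw [hk, mul_comm]⟩, hk,
      Nat.mul_div_cancel _ (Nat.pos_of_ne_zero hk0)]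
  have h2 := psc_card_centralizer hp hz hC (g ^ k) h1
  have h3 : g ∈ centralizer ({g ^ k} : Set G) := by
    rw [mem_centralizer_singleton_iff]
    exact (Commute.self_pow g k).eq
  have h4 : orderOf g ∣ p := by
    have := orderOf_dvd_natCard (⟨g, h3⟩ : centralizer ({g ^ k} : Set G))
    rw [h2, ← Subgroup.orderOf_coe] at this
    exact this
  exact Nat.dvd_antisymm h4 ⟨k, hk⟩

/-- In a simple group, if Sylow `p`-subgroups have order `p` and normalizers of order `p * q`
(`q` prime), then elements of order `p` are self-centralizing. -/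
theorem cent_eq_zpowers_of_card_normalizer [IsSimpleGroup G] (hG : ¬ IsMulCommutative G)
    {p q : ℕ} [Fact p.Prime] (hq : q.Prime)
    (hP : ∀ P : Sylow p G, Nat.card (P : Subgroup G) = p)
    (hN : ∀ P : Sylow p G, Nat.card (normalizer ((P : Subgroup G) : Set G)) = p * q)
    (x : G) (hx : orderOf x = p) : centralizer ({x} : Set G) = zpowers x := by
  have hp : p.Prime := Fact.out
  have hPx : IsPGroup p (zpowers x) :=
    IsPGroup.of_card (n := 1) (by rw [Nat.card_zpowers, hx, pow_one])
  obtain ⟨P, hxP⟩ := hPx.exists_le_sylow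
  have hPeq : zpowers x = (P : Subgroup G) := by
    apply Subgroup.eq_of_le_of_card_ge hxP
    rw [hP P, Nat.card_zpowers, hx]
  have hle : zpowers x ≤ centralizer ({x} : Set G) := by
    rw [zpowers_le, mem_centralizer_singleton_iff]
  have hCN : centralizer ({x} : Set G) ≤ normalizer ((P : Subgroup G) : Set G) := by
    rw [centralizer_singleton_eq_centralizer_zpowers, hPeq]
    exact centralizer_le_normalizer _
  have h1 : p ∣ Nat.card (centralizer ({x} : Set G)) := by
    have := Subgroup.card_dvd_of_le hle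
    rwa [Nat.card_zpowers, hx] at this
  have h2 : Nat.card (centralizer ({x} : Set G)) ∣ p * q := by
    rw [← hN P]; exact Subgroup.card_dvd_of_le hCN
  obtain ⟨d, hd⟩ := h1
  rw [hd] at h2
  have h3 : d ∣ q := Nat.dvd_of_mul_dvd_mul_left hp.pos h2
  rcases (Nat.dvd_prime hq).mp h3 with h4 | h4
  · rw [h4, mul_one] at hd
    apply (Subgroup.eq_of_le_of_card_ge hle _).symm
    rw [hd, Nat.card_zpowers, hx]
  · exfalso
    rw [h4] at hd
    have h5 : centralizer ({x} : Set G) = normalizer ((P : Subgroup G) : Set G) := by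
      apply Subgroup.eq_of_le_of_card_ge hCN
      rw [hN P, hd]
    have h6 : normalizer ((P : Subgroup G) : Set G) ≤ centralizer ((P : Subgroup G) : Set G) := by
      rw [← h5, centralizer_singleton_eq_centralizer_zpowers, hPeq]
    have h7 : 1 < Nat.card (P : Subgroup G) := by rw [hP P]; exact hp.one_lt
    exact Cfsg.Agent.Lib.Helper7.not_normalizer_le_centralizer hG P h7
      (Cfsg.Agent.Lib.Helper7.comm_of_card_prime _ (hP P)) h6

end Generic

end Cfsg.Agent.Lib.Helper4
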