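import Mathlib
import Cfsg.Agent.Lib.Helper4.S168a

set_option autoImplicit false
set_option linter.style.haveILetI false

namespace Cfsg.Agent.Lib.Helper4

open Subgroup

universe u

section S168

variable {G : Type u} [Group G] [Finite G] [IsSimpleGroup G]

theorem s168_not_comm (h : Nat.card G = 168) : ¬ IsMulCommutative G :=
  Cfsg.Agent.Lib.Helper7.not_comm_of_card_not_prime (by rw [h]; norm_num)

theorem s168_card_P7 (h : Nat.card G = 168) (P : Sylow 7 G) :
    Nat.card (P : Subgroup G) = 7 ∧ (P : Subgroup G).index = 24 := by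
  haveI : Fact (Nat.Prime 7) := ⟨by norm_num⟩
  exact Cfsg.Agent.Lib.Helper7.sylow_card_index_of_exact (m := 24) (by rw [h]) (by norm_num) P

theorem s168_card_P3 (h : Nat.card G = 168) (P : Sylow 3 G) :
    Nat.card (P : Subgroup G) = 3 ∧ (P : Subgroup G).index = 56 := by
  exact Cfsg.Agent.Lib.Helper7.sylow_card_index_of_exact (m := 56) (by rw [h]) (by norm_num) P

theorem s168_card_P2 (h : Nat.card G = 168) (P : Sylow 2 G) :
    Nat.card (P : Subgroup G) = 8 ∧ (P : Subgroup G).index = 21 := by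
  exact Cfsg.Agent.Lib.Helper7.sylow_card_index_of_pow (k := 3) (m := 21) (by rw [h]; norm_num) (by norm_num) P

theorem s168_card_sylow7 (h : Nat.card G = 168) : Nat.card (Sylow 7 G) = 8 := by
  haveI : Fact (Nat.Prime 7) := ⟨by norm_num⟩
  obtain ⟨P⟩ : Nonempty (Sylow 7 G) := Sylow.nonempty
  obtain ⟨hP, hI⟩ := s168_card_P7 h P
  have h1 : Nat.card (Sylow 7 G) ∣ 24 := by rw [← hI]; exact Sylow.card_dvd_index P
  have h2 : Nat.card (Sylow 7 G) % 7 = 1 := card_sylow_modEq_one 7 G
  have h3 : Nat.card (Sylow 7 G) ≠ 1 :=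
    Cfsg.Agent.Lib.Helper7.card_sylow_ne_one P (by rw [hP]; norm_num) (by rw [hP, h]; norm_num)
  have h4 : Nat.card (Sylow 7 G) ≤ 24 := Nat.le_of_dvd (by norm_num) h1
  generalize Nat.card (Sylow 7 G) = n at *
  interval_cases n <;> omega

theorem s168_card_N7 (h : Nat.card G = 168) (P : Sylow 7 G) :
    Nat.card (normalizer ((P : Subgroup G) : Set G)) = 7 * 3 := by
  haveI : Fact (Nat.Prime 7) := ⟨by norm_num⟩
  have := Cfsg.Agent.Lib.Helper7.card_sylow_mul_card_normalizer P
  rw [s168_card_sylow7 h, h] at this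
  omega

theorem s168_cent7 (h : Nat.card G = 168) (x : G) (hx : orderOf x = 7) :
    centralizer ({x} : Set G) = zpowers x := by
  haveI : Fact (Nat.Prime 7) := ⟨by norm_num⟩
  exact cent_eq_zpowers_of_card_normalizer (s168_not_comm h) (q := 3) (by norm_num)
    (fun P => (s168_card_P7 h P).1) (fun P => s168_card_N7 h P) x hx

theorem s168_card_sylow3_ne_seven (h : Nat.card G = 168) : Nat.card (Sylow 3 G) ≠ 7 := by
  intro h7
  haveI : Fact (Nat.Prime 7) := ⟨by norm_num⟩
  obtain ⟨x, hx⟩ := exists_prime_orderOf_dvd_card' (G := G) 7 (by rw [h]; norm_num)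
  have hC := s168_cent7 h x hx
  have hPx : IsPGroup 7 (zpowers x) :=
    IsPGroup.of_card (n := 1) (by rw [Nat.card_zpowers, hx, pow_one])
  obtain ⟨P, hxP⟩ := hPx.exists_le_sylow
  have hNcard : Nat.card (normalizer ((P : Subgroup G) : Set G)) = 21 := s168_card_N7 h P
  obtain ⟨y', hy'⟩ := exists_prime_orderOf_dvd_card'
    (G := normalizer ((P : Subgroup G) : Set G)) 3 (by rw [hNcard]; norm_num)
  obtain ⟨y, hyN⟩ := y'
  have hyo : orderOf y = 3 := by rw [← hy', Subgroup.orderOf_mk]
  have hQy : IsPGroup 3 (zpowers y) :=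
    IsPGroup.of_card (n := 1) (by rw [Nat.card_zpowers, hyo, pow_one])
  obtain ⟨Q, hyQ⟩ := hQy.exists_le_sylow
  have hyQ' : y ∈ (Q : Subgroup G) := hyQ (mem_zpowers y)
  have hxP' : x ∈ (P : Subgroup G) := hxP (mem_zpowers x)
  have hQeq : zpowers y = (Q : Subgroup G) := by
    apply Subgroup.eq_of_le_of_card_ge hyQ
    rw [(s168_card_P3 h Q).1, Nat.card_zpowers, hyo]
  have hdisj : (P : Subgroup G) ⊓ Q = ⊥ := by
    apply (Subgroup.disjoint_of_coprime_natCard _).eq_bot
    rw [(s168_card_P7 h P).1, (s168_card_P3 h Q).1]; norm_num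
  have hxQ : ∀ c ∈ zpowers x, c ∈ normalizer ((Q : Subgroup G) : Set G) → c = 1 := by
    intro c hc hcN
    by_contra hc1
    have hxc : x ∈ zpowers c := psc_mem_zpowers_of_ne_one (by norm_num) hx hc hc1
    have hxN : x ∈ normalizer ((Q : Subgroup G) : Set G) := (zpowers_le.mpr hcN) hxc
    have c1 : x * y * x⁻¹ ∈ (Q : Subgroup G) := (mem_normalizer_iff.mp hxN y).mp hyQ'
    have c2 : y * x⁻¹ * y⁻¹ ∈ (P : Subgroup G) :=
      (mem_normalizer_iff.mp hyN x⁻¹).mp (Subgroup.inv_mem _ hxP')
    have c3 : x * y * x⁻¹ * y⁻¹ ∈ (P : Subgroup G) ⊓ Q := by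
      constructor
      · have : x * y * x⁻¹ * y⁻¹ = x * (y * x⁻¹ * y⁻¹) := by group
        rw [this]; exact Subgroup.mul_mem _ hxP' c2
      · exact Subgroup.mul_mem _ c1 (Subgroup.inv_mem _ hyQ')
    rw [hdisj, mem_bot] at c3
    have hcomm : y ∈ centralizer ({x} : Set G) := by
      rw [mem_centralizer_singleton_iff]
      have := congrArg (fun t => t * y * x) c3
      simp only [one_mul] at this
      rw [← this]; group
    rw [hC] at hcomm
    have : y ∈ (P : Subgroup G) ⊓ Q := ⟨hxP hcomm, hyQ'⟩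
    rw [hdisj, mem_bot] at this
    rw [this, orderOf_one] at hyo
    norm_num at hyo
  have hinj : Function.Injective (fun a : zpowers x => (a : G) • Q) := by
    intro a b hab
    simp only at hab
    have h1 : ((b : G)⁻¹ * (a : G)) • Q = Q := by
      rw [mul_smul, hab, inv_smul_smul]
    rw [Sylow.smul_eq_iff_mem_normalizer] at h1
    have h2 := hxQ _ (mul_mem (inv_mem b.2) a.2) h1
    apply Subtype.ext
    exact (inv_mul_eq_one.mp h2).symm
  have hsurj : Function.Surjective (fun a : zpowers x => (a : G) • Q) := by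
    apply (hinj.bijective_of_nat_card_le _).2
    rw [h7, Nat.card_zpowers, hx]
  have hall : ∀ R : Sylow 3 G, (R : Subgroup G) ≤ normalizer ((P : Subgroup G) : Set G) := by
    intro R
    obtain ⟨a, ha⟩ := hsurj R
    simp only at ha
    intro g hg
    rw [← ha, Sylow.coe_subgroup_smul, mem_smul_pointwise_iff_exists] at hg
    obtain ⟨s, hs, rfl⟩ := hg
    rw [MulAut.smul_def, MulAut.conj_apply]
    have haN : (a : G) ∈ normalizer ((P : Subgroup G) : Set G) := le_normalizer (hxP a.2)
    have hsN : s ∈ normalizer ((P : Subgroup G) : Set G) := by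
      rw [← hQeq] at hs
      exact (zpowers_le.mpr hyN) hs
    exact mul_mem (mul_mem haN hsN) (inv_mem haN)
  have hM : normalClosure ((Q : Subgroup G) : Set G) ≤ normalizer ((P : Subgroup G) : Set G) := by
    rw [normalClosure, closure_le]
    intro g hg
    rw [Group.mem_conjugatesOfSet_iff] at hg
    obtain ⟨b, hb, hbg⟩ := hg
    obtain ⟨c, hc⟩ := isConj_iff.mp hbg
    apply hall (c • Q)
    rw [Sylow.coe_subgroup_smul, mem_smul_pointwise_iff_exists]
    exact ⟨b, hb, by rw [MulAut.smul_def, MulAut.conj_apply, hc]⟩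
  rcases (normalClosure_normal (s := ((Q : Subgroup G) : Set G))).eq_bot_or_eq_top with h1 | h1
  · have : y ∈ normalClosure ((Q : Subgroup G) : Set G) := subset_normalClosure hyQ'
    rw [h1, mem_bot] at this
    rw [this, orderOf_one] at hyo
    norm_num at hyo
  · rw [h1, top_le_iff] at hM
    rw [hM, Subgroup.card_top, h] at hNcard
    norm_num at hNcard

theorem s168_card_sylow3 (h : Nat.card G = 168) : Nat.card (Sylow 3 G) = 28 := by
  obtain ⟨P⟩ : Nonempty (Sylow 3 G) := Sylow.nonempty
  obtain ⟨hP, hI⟩ := s168_card_P3 h P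
  have h1 : Nat.card (Sylow 3 G) ∣ 56 := by rw [← hI]; exact Sylow.card_dvd_index P
  have h2 : Nat.card (Sylow 3 G) % 3 = 1 := card_sylow_modEq_one 3 G
  have h3 : Nat.card (Sylow 3 G) ≠ 1 :=
    Cfsg.Agent.Lib.Helper7.card_sylow_ne_one P (by rw [hP]; norm_num) (by rw [hP, h]; norm_num)
  have h4 : Nat.card (Sylow 3 G) ≠ 4 := by
    intro h4
    have hidx : (normalizer ((P : Subgroup G) : Set G)).index = 4 := by
      have := Sylow.card_eq_index_normalizer P
      rw [h4] at this
      exact this.symm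
    have hne : normalizer ((P : Subgroup G) : Set G) ≠ ⊤ := by
      intro ht
      rw [ht, Subgroup.index_top] at hidx
      norm_num at hidx
    have := Cfsg.Agent.Lib.Helper7.card_dvd_factorial_index _ hne
    rw [hidx, h] at this
    revert this
    decide
  have h7 := s168_card_sylow3_ne_seven h
  have h5 : Nat.card (Sylow 3 G) ≤ 56 := Nat.le_of_dvd (by norm_num) h1
  generalize Nat.card (Sylow 3 G) = n at *
  interval_cases n <;> omega

theorem s168_card_N3 (h : Nat.card G = 168) (P : Sylow 3 G) :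
    Nat.card (normalizer ((P : Subgroup G) : Set G)) = 3 * 2 := by
  have := Cfsg.Agent.Lib.Helper7.card_sylow_mul_card_normalizer P
  rw [s168_card_sylow3 h, h] at this
  omega

theorem s168_cent3 (h : Nat.card G = 168) (x : G) (hx : orderOf x = 3) :
    centralizer ({x} : Set G) = zpowers x := by
  exact cent_eq_zpowers_of_card_normalizer (s168_not_comm h) (q := 2) (by norm_num)
    (fun P => (s168_card_P3 h P).1) (fun P => s168_card_N3 h P) x hx

theorem s168_orderOf (h : Nat.card G = 168) (g : G) :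
    orderOf g = 7 ∨ orderOf g = 3 ∨ orderOf g ∣ 8 := by
  haveI : Fact (Nat.Prime 7) := ⟨by norm_num⟩
  by_cases h7 : 7 ∣ orderOf g
  · left
    obtain ⟨x, hx⟩ := exists_prime_orderOf_dvd_card' (G := G) 7 (by rw [h]; norm_num)
    exact psc_orderOf_eq_of_dvd (by norm_num) hx (s168_cent7 h x hx) g h7
  by_cases h3 : 3 ∣ orderOf g
  · right; left
    obtain ⟨x, hx⟩ := exists_prime_orderOf_dvd_card' (G := G) 3 (by rw [h]; norm_num)
    exact psc_orderOf_eq_of_dvd (by norm_num) hx (s168_cent3 h x hx) g h3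
  right; right
  have hd : orderOf g ∣ 8 * 21 := by
    have := orderOf_dvd_natCard g
    rwa [h] at this
  have hc7 : Nat.Coprime (orderOf g) 7 :=
    ((Nat.Prime.coprime_iff_not_dvd (by norm_num)).mpr h7).symm
  have hc3 : Nat.Coprime (orderOf g) 3 :=
    ((Nat.Prime.coprime_iff_not_dvd (by norm_num)).mpr h3).symm
  have hc : Nat.Coprime (orderOf g) 21 := by
    have := Nat.Coprime.mul_right hc3 hc7
    simpa using this
  exact hc.dvd_of_dvd_mul_right hd

theorem s168_card_orderOf_seven (h : Nat.card G = 168) :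
    Nat.card {g : G // orderOf g = 7} = 48 := by
  haveI : Fact (Nat.Prime 7) := ⟨by norm_num⟩
  obtain ⟨x, hx⟩ := exists_prime_orderOf_dvd_card' (G := G) 7 (by rw [h]; norm_num)
  rw [psc_card_orderOf_eq (by norm_num) hx (s168_cent7 h x hx), s168_card_sylow7 h]

theorem s168_card_orderOf_three (h : Nat.card G = 168) :
    Nat.card {g : G // orderOf g = 3} = 56 := by
  obtain ⟨x, hx⟩ := exists_prime_orderOf_dvd_card' (G := G) 3 (by rw [h]; norm_num)
  rw [psc_card_orderOf_eq (by norm_num) hx (s168_cent3 h x hx), s168_card_sylow3 h]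

theorem s168_card_two_elements_ge (h : Nat.card G = 168) :
    64 ≤ Nat.card {g : G // orderOf g ∣ 8} := by
  have := card_le_of_three_cover (fun g : G => orderOf g = 7) (fun g : G => orderOf g = 3)
    (fun g : G => orderOf g ∣ 8) (s168_orderOf h)
  rw [h, s168_card_orderOf_seven h, s168_card_orderOf_three h] at this
  omega

theorem s168_card_sylow2 (h : Nat.card G = 168) : Nat.card (Sylow 2 G) = 21 := by
  obtain ⟨P⟩ : Nonempty (Sylow 2 G) := Sylow.nonempty
  obtain ⟨hP, hI⟩ := s168_card_P2 h P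
  have h1 : Nat.card (Sylow 2 G) ∣ 21 := by rw [← hI]; exact Sylow.card_dvd_index P
  have h3 : Nat.card (Sylow 2 G) ≠ 1 :=
    Cfsg.Agent.Lib.Helper7.card_sylow_ne_one P (by rw [hP]; norm_num) (by rw [hP, h]; norm_num)
  have h4 : Nat.card (Sylow 2 G) ≠ 3 := by
    intro h4
    have hidx : (normalizer ((P : Subgroup G) : Set G)).index = 3 := by
      have := Sylow.card_eq_index_normalizer P
      rw [h4] at this
      exact this.symm
    have hne : normalizer ((P : Subgroup G) : Set G) ≠ ⊤ := by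
      intro ht
      rw [ht, Subgroup.index_top] at hidx
      norm_num at hidx
    have := Cfsg.Agent.Lib.Helper7.card_dvd_factorial_index _ hne
    rw [hidx, h] at this
    revert this
    decide
  have h6 : 64 ≤ Nat.card (Sylow 2 G) * 8 := by
    refine (s168_card_two_elements_ge h).trans ?_
    apply card_le_of_cover (fun g : G => orderOf g ∣ 8)
      (fun T : Sylow 2 G => ((T : Subgroup G) : Set G)) 8
    · intro T
      exact (s168_card_P2 h T).1.le
    · intro g hg
      obtain ⟨j, -, hj⟩ := (Nat.dvd_prime_pow Nat.prime_two (m := 3)).mp hg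
      have hgp : IsPGroup 2 (zpowers g) :=
        IsPGroup.of_card (n := j) (by rw [Nat.card_zpowers, hj])
      obtain ⟨T, hT⟩ := hgp.exists_le_sylow
      exact ⟨T, hT (mem_zpowers g)⟩
  have h5 : Nat.card (Sylow 2 G) ≤ 21 := Nat.le_of_dvd (by norm_num) h1
  generalize Nat.card (Sylow 2 G) = n at *
  interval_cases n <;> omega

theorem s168_sylow_counts (h : Nat.card G = 168) :
    Nat.card (Sylow 2 G) = 21 ∧ Nat.card (Sylow 3 G) = 28 ∧ Nat.card (Sylow 7 G) = 8 :=
  ⟨s168_card_sylow2 h, s168_card_sylow3 h, s168_card_sylow7 h⟩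

end S168

end Cfsg.Agent.Lib.Helper4
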