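import Mathlib
import Cfsg.Agent.Lib.Helper4.S168b
import Cfsg.Agent.Lib.Helper4.D8Rec

set_option autoImplicit false
set_option linter.style.haveILetI false
set_option linter.unusedSectionVars false

namespace Cfsg.Agent.Lib.Helper4

open Subgroup

universe u

/-- Exact three-way partition count. -/
theorem card_eq_of_three_partition {α : Type*} [Finite α] (p q r : α → Prop)
    (h : ∀ a, p a ∨ q a ∨ r a) (hpq : ∀ a, p a → ¬ q a) (hpr : ∀ a, p a → ¬ r a)
    (hqr : ∀ a, q a → ¬ r a) :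
    Nat.card α = Nat.card {a // p a} + Nat.card {a // q a} + Nat.card {a // r a} := by
  classical
  rw [← Nat.card_sum, ← Nat.card_sum]
  symm
  apply Nat.card_eq_of_bijective
    (fun s : ({a // p a} ⊕ {a // q a}) ⊕ {a // r a} =>
      Sum.elim (Sum.elim (fun a => a.1) (fun a => a.1)) (fun a => a.1) s)
  constructor
  · rintro ((a | a) | a) ((b | b) | b) hab <;> simp only [Sum.elim_inl, Sum.elim_inr] at hab
    · rw [Subtype.ext hab]
    · exact absurd b.2 (hab ▸ hpq _ a.2)
    · exact absurd b.2 (hab ▸ hpr _ a.2)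
    · exact absurd a.2 (hab ▸ hpq _ b.2)
    · rw [Subtype.ext hab]
    · exact absurd b.2 (hab ▸ hqr _ a.2)
    · exact absurd a.2 (hab ▸ hpr _ b.2)
    · exact absurd a.2 (hab ▸ hqr _ b.2)
    · rw [Subtype.ext hab]
  · intro a
    rcases h a with h1 | h1 | h1
    · exact ⟨Sum.inl (Sum.inl ⟨a, h1⟩), rfl⟩
    · exact ⟨Sum.inl (Sum.inr ⟨a, h1⟩), rfl⟩
    · exact ⟨Sum.inr ⟨a, h1⟩, rfl⟩

section S168

variable {G : Type u} [Group G] [Finite G] [IsSimpleGroup G]

theorem s168_card_two_elements (h : Nat.card G = 168) :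
    Nat.card {g : G // orderOf g ∣ 8} = 64 := by
  have := card_eq_of_three_partition (fun g : G => orderOf g = 7) (fun g : G => orderOf g = 3)
    (fun g : G => orderOf g ∣ 8) (s168_orderOf h)
    (by intro a h1 h2; rw [h1] at h2; norm_num at h2)
    (by intro a h1 h2; rw [h1] at h2; norm_num at h2)
    (by intro a h1 h2; rw [h1] at h2; norm_num at h2)
  rw [h, s168_card_orderOf_seven h, s168_card_orderOf_three h] at this
  omega

theorem s168_orderOf_dvd_of_commute (h : Nat.card G = 168) {w g : G} (hw : orderOf w ∣ 8)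
    (hw1 : w ≠ 1) (hc : g * w = w * g) : orderOf g ∣ 8 := by
  have aux : ∀ p : ℕ, Nat.Coprime p 8 → centralizer ({g} : Set G) = zpowers g →
      orderOf g = p → False := by
    intro p hp hC hg
    have hwC : w ∈ centralizer ({g} : Set G) := by
      rw [mem_centralizer_singleton_iff]; exact hc.symm
    rw [hC] at hwC
    have h1 : orderOf w ∣ p := by
      have := orderOf_dvd_natCard (⟨w, hwC⟩ : zpowers g)
      rwa [Subgroup.orderOf_mk, Nat.card_zpowers, hg] at this
    have h2 : orderOf w ∣ 1 := by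
      have := Nat.dvd_gcd h1 hw
      rwa [hp] at this
    exact hw1 (orderOf_eq_one_iff.mp (Nat.dvd_one.mp h2))
  rcases s168_orderOf h g with h7 | h3 | h8
  · exact (aux 7 (by norm_num) (s168_cent7 h g h7) h7).elim
  · exact (aux 3 (by norm_num) (s168_cent3 h g h3) h3).elim
  · exact h8

theorem s168_centralizer_le_sylow (h : Nat.card G = 168) {w : G} (hw : orderOf w ∣ 8)
    (hw1 : w ≠ 1) : ∃ T : Sylow 2 G, centralizer ({w} : Set G) ≤ T := by
  have hP : IsPGroup 2 (centralizer ({w} : Set G)) := by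
    intro g
    refine ⟨3, ?_⟩
    have hg := mem_centralizer_singleton_iff.mp g.2
    have := s168_orderOf_dvd_of_commute h hw hw1 hg
    apply Subtype.ext
    rw [Subgroup.coe_pow, Subgroup.coe_one]
    show (g : G) ^ 8 = 1
    exact orderOf_dvd_iff_pow_eq_one.mp this
  exact hP.exists_le_sylow

theorem s168_normalizer_sylow2 (h : Nat.card G = 168) (T : Sylow 2 G) :
    normalizer ((T : Subgroup G) : Set G) = T := by
  have := Cfsg.Agent.Lib.Helper7.card_sylow_mul_card_normalizer T
  rw [s168_card_sylow2 h, h] at this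
  symm
  apply Subgroup.eq_of_le_of_card_ge le_normalizer
  rw [(s168_card_P2 h T).1]
  omega

theorem s168_orderOf_dvd_of_mem (h : Nat.card G = 168) (T : Sylow 2 G) {g : G}
    (hg : g ∈ (T : Subgroup G)) : orderOf g ∣ 8 := by
  have := orderOf_dvd_natCard (⟨g, hg⟩ : (T : Subgroup G))
  rwa [Subgroup.orderOf_mk, (s168_card_P2 h T).1] at this

theorem s168_centralizer_central (h : Nat.card G = 168) (T : Sylow 2 G) (z : G)
    (hz : z ∈ (T : Subgroup G)) (hz1 : z ≠ 1) (hzc : ∀ t ∈ (T : Subgroup G), t * z = z * t) :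
    centralizer ({z} : Set G) = T := by
  have hzo := s168_orderOf_dvd_of_mem h T hz
  obtain ⟨T', hT'⟩ := s168_centralizer_le_sylow h hzo hz1
  have h1 : (T : Subgroup G) ≤ centralizer ({z} : Set G) := by
    intro t ht
    rw [mem_centralizer_singleton_iff]
    exact hzc t ht
  have h2 : (T : Subgroup G) = T' := by
    apply Subgroup.eq_of_le_of_card_ge (h1.trans hT')
    rw [(s168_card_P2 h T).1, (s168_card_P2 h T').1]
  exact le_antisymm (h2 ▸ hT') h1

theorem s168_sylow2_not_comm (h : Nat.card G = 168) (T : Sylow 2 G) :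
    ¬ IsMulCommutative (T : Subgroup G) := by
  intro hc
  have hcomm : ∀ a ∈ (T : Subgroup G), ∀ b ∈ (T : Subgroup G), a * b = b * a := by
    intro a ha b hb
    exact congrArg Subtype.val (hc.is_comm.comm ⟨a, ha⟩ ⟨b, hb⟩)
  apply Cfsg.Agent.Lib.Helper7.not_normalizer_le_centralizer (s168_not_comm h) T
    (by rw [(s168_card_P2 h T).1]; norm_num) hcomm
  rw [s168_normalizer_sylow2 h T]
  intro t ht
  rw [mem_centralizer_iff]
  intro u hu
  exact hcomm u hu t ht

/-- An involution as a power of a nontrivial `2`-element. -/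
theorem exists_pow_orderOf_eq_two {X : Type*} [Group X] {g : X} (hg : orderOf g ∣ 8) (hg1 : g ≠ 1) :
    ∃ k : ℕ, orderOf (g ^ k) = 2 := by
  have h2 : 2 ∣ orderOf g := by
    obtain ⟨j, hj3, hj⟩ := (Nat.dvd_prime_pow Nat.prime_two (m := 3)).mp hg
    rcases j with _ | j
    · rw [pow_zero] at hj
      exact absurd (orderOf_eq_one_iff.mp hj) hg1
    · rw [hj, pow_succ]; exact dvd_mul_left 2 _
  have h0 : orderOf g ≠ 0 := by
    intro h0; rw [h0] at hg; norm_num at hg
  exact ⟨orderOf g / 2, orderOf_pow_orderOf_div h0 h2⟩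

theorem s168_exists_two_invol (h : Nat.card G = 168) (T : Sylow 2 G) :
    ∃ s t : G, s ∈ (T : Subgroup G) ∧ t ∈ (T : Subgroup G) ∧ orderOf s = 2 ∧ orderOf t = 2 ∧
      s ≠ t := by
  by_contra hcon
  push Not at hcon
  -- every Sylow `2`-subgroup has a unique involution
  have huniq : ∀ T' : Sylow 2 G, ∀ s t : G, s ∈ (T' : Subgroup G) → t ∈ (T' : Subgroup G) →
      orderOf s = 2 → orderOf t = 2 → s = t := by
    intro T' s t hs ht hso hto
    obtain ⟨g, hg⟩ := MulAction.exists_smul_eq G T T'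
    have key : ∀ u : G, u ∈ (T' : Subgroup G) → g⁻¹ * u * g ∈ (T : Subgroup G) := by
      intro u hu
      rw [← hg, Sylow.coe_subgroup_smul, mem_smul_pointwise_iff_exists] at hu
      obtain ⟨v, hv, rfl⟩ := hu
      rw [MulAut.smul_def, MulAut.conj_apply]
      have : g⁻¹ * (g * v * g⁻¹) * g = v := by group
      rw [this]; exact hv
    have ho : ∀ u : G, orderOf (g⁻¹ * u * g) = orderOf u := by
      intro u
      have := (MulAut.conj g⁻¹).orderOf_eq u
      rw [MulAut.conj_apply, inv_inv] at this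
      exact this
    have := hcon (g⁻¹ * s * g) (g⁻¹ * t * g) (key s hs) (key t ht) (by rw [ho, hso])
      (by rw [ho, hto])
    have h2 := congrArg (fun x => g * x * g⁻¹) this
    have e1 : g * (g⁻¹ * s * g) * g⁻¹ = s := by group
    have e2 : g * (g⁻¹ * t * g) * g⁻¹ = t := by group
    rw [e1, e2] at h2
    exact h2
  -- TI
  have hTI : ∀ T₁ T₂ : Sylow 2 G, ∀ g : G, g ∈ (T₁ : Subgroup G) → g ∈ (T₂ : Subgroup G) →
      g ≠ 1 → T₁ = T₂ := by
    intro T₁ T₂ g h1 h2 hg1
    obtain ⟨k, hk⟩ := exists_pow_orderOf_eq_two (s168_orderOf_dvd_of_mem h T₁ h1) hg1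
    set w := g ^ k with hw
    have hw1 : w ∈ (T₁ : Subgroup G) := Subgroup.pow_mem _ h1 k
    have hw2 : w ∈ (T₂ : Subgroup G) := Subgroup.pow_mem _ h2 k
    have hwne : w ≠ 1 := by
      intro h0; rw [h0, orderOf_one] at hk; norm_num at hk
    have hcen : ∀ T' : Sylow 2 G, w ∈ (T' : Subgroup G) →
        ∀ t ∈ (T' : Subgroup G), t * w = w * t := by
      intro T' hwT t ht
      have h3 : t * w * t⁻¹ ∈ (T' : Subgroup G) :=
        Subgroup.mul_mem _ (Subgroup.mul_mem _ ht hwT) (Subgroup.inv_mem _ ht)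
      have h4 : orderOf (t * w * t⁻¹) = 2 := by
        have := (MulAut.conj t).orderOf_eq w
        rw [MulAut.conj_apply] at this
        rw [this, hk]
      have h5 := huniq T' _ _ h3 hwT h4 hk
      have := congrArg (fun x => x * t) h5
      simpa using this
    have e1 := s168_centralizer_central h T₁ w hw1 hwne (hcen T₁ hw1)
    have e2 := s168_centralizer_central h T₂ w hw2 hwne (hcen T₂ hw2)
    exact Sylow.ext (e1.symm.trans e2)
  -- counting
  have hcount : Nat.card (Σ T' : Sylow 2 G, {g : (T' : Subgroup G) // g ≠ 1}) ≤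
      Nat.card {g : {g : G // orderOf g ∣ 8} // g ≠ ⟨1, by simp⟩} := by
    apply Nat.card_le_card_of_injective
      (fun x : (Σ T' : Sylow 2 G, {g : (T' : Subgroup G) // g ≠ 1}) =>
        (⟨⟨(x.2.1 : G), s168_orderOf_dvd_of_mem h x.1 x.2.1.2⟩, by
          intro h0
          have h1 : (x.2.1 : G) = 1 := congrArg Subtype.val h0
          exact x.2.2 (Subtype.ext h1)⟩ : {g : {g : G // orderOf g ∣ 8} // g ≠ ⟨1, by simp⟩}))
    rintro ⟨T₁, ⟨g₁, hg₁⟩⟩ ⟨T₂, ⟨g₂, hg₂⟩⟩ hab
    have h1 : (g₁ : G) = (g₂ : G) := congrArg (fun y => ((y.1 : {g : G // orderOf g ∣ 8}) : G)) hab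
    have hne : (g₁ : G) ≠ 1 := fun h0 => hg₁ (Subtype.ext h0)
    obtain rfl : T₁ = T₂ := hTI T₁ T₂ g₁ g₁.2 (h1 ▸ g₂.2) hne
    have : g₁ = g₂ := Subtype.ext h1
    subst this
    rfl
  haveI : Fintype (Sylow 2 G) := Fintype.ofFinite _
  rw [Nat.card_sigma, card_subtype_ne', s168_card_two_elements h] at hcount
  have h7 : ∀ T' : Sylow 2 G, Nat.card {g : (T' : Subgroup G) // g ≠ 1} = 7 := by
    intro T'
    rw [card_subtype_ne', (s168_card_P2 h T').1]
  simp only [h7, Finset.sum_const, Finset.card_univ, smul_eq_mul] at hcount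
  rw [← Nat.card_eq_fintype_card, s168_card_sylow2 h] at hcount
  norm_num at hcount

theorem s168_sylow2_dihedral (h : Nat.card G = 168) (T : Sylow 2 G) :
    Nonempty ((T : Subgroup G) ≃* DihedralGroup 4) := by
  obtain ⟨s, t, hs, ht, hso, hto, hst⟩ := s168_exists_two_invol h T
  exact nonempty_mulEquiv_dihedral_four (s168_card_P2 h T).1 (s168_sylow2_not_comm h T)
    ⟨s, hs⟩ ⟨t, ht⟩ (by rw [Subgroup.orderOf_mk, hso]) (by rw [Subgroup.orderOf_mk, hto])
    (fun h0 => hst (congrArg Subtype.val h0))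

theorem s168_sylow2_main (h : Nat.card G = 168) (T : Sylow 2 G) :
    Nonempty (↥(T : Subgroup G) ≃* DihedralGroup 4) ∧
      Subgroup.normalizer ((T : Subgroup G) : Set G) = T ∧
      ∀ z : G, z ∈ (T : Subgroup G) → z ≠ 1 → (∀ t ∈ (T : Subgroup G), t * z = z * t) →
        Subgroup.centralizer ({z} : Set G) = T :=
  ⟨s168_sylow2_dihedral h T, s168_normalizer_sylow2 h T,
    fun z hz hz1 hzc => s168_centralizer_central h T z hz hz1 hzc⟩

end S168

end Cfsg.Agent.Lib.Helper4
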