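import Mathlib
import Cfsg.Agent.Lib.Helper4.S168c

set_option autoImplicit false
set_option linter.style.haveILetI false
set_option linter.unusedSectionVars false

namespace Cfsg.Agent.Lib.Helper4

open Subgroup

universe u

section Generic

variable {G : Type u} [Group G]

theorem orderOf_eq_of_isConj {z x : G} (h : IsConj z x) : orderOf x = orderOf z := by
  obtain ⟨c, hc⟩ := isConj_iff.mp h
  have := (MulAut.conj c).orderOf_eq z
  rw [MulAut.conj_apply, hc] at this
  exact this

variable [Finite G]

/-- The class of `z` injects into the elements of the same order. -/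
theorem card_class_le (n : ℕ) (z : G) (hz : orderOf z = n) :
    Nat.card {x : G // IsConj z x} ≤ Nat.card {g : G // orderOf g = n} := by
  apply Nat.card_le_card_of_injective
    (fun x : {x : G // IsConj z x} =>
      (⟨x.1, by rw [orderOf_eq_of_isConj x.2, hz]⟩ : {g : G // orderOf g = n}))
  intro a b hab
  have : (a : G) = (b : G) := congrArg (fun y : {g : G // orderOf g = n} => (y : G)) hab
  exact Subtype.ext this

/-- If the class of `z` is as large as the set of elements of order `n`, all elements of order
`n` are conjugate. -/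
theorem isConj_of_card_class_ge (n : ℕ) (z : G) (hz : orderOf z = n)
    (hcard : Nat.card {g : G // orderOf g = n} ≤ Nat.card {x : G // IsConj z x}) :
    ∀ s t : G, orderOf s = n → orderOf t = n → IsConj s t := by
  have hinj : Function.Injective (fun x : {x : G // IsConj z x} =>
      (⟨x.1, by rw [orderOf_eq_of_isConj x.2, hz]⟩ : {g : G // orderOf g = n})) := by
    intro a b hab
    have : (a : G) = (b : G) := congrArg (fun y : {g : G // orderOf g = n} => (y : G)) hab
    exact Subtype.ext this
  have hsurj := (hinj.bijective_of_nat_card_le hcard).2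
  have key : ∀ s : G, orderOf s = n → IsConj z s := by
    intro s hs
    obtain ⟨x, hx⟩ := hsurj ⟨s, hs⟩
    have : x.1 = s := congrArg Subtype.val hx
    rw [← this]; exact x.2
  intro s t hs ht
  exact (key s hs).symm.trans (key t ht)

/-- Class size from the centralizer order. -/
theorem card_class_of_card_centralizer (z : G) (c m : ℕ) (hG : Nat.card G = m * c)
    (hc : Nat.card (centralizer ({z} : Set G)) = c) (hc0 : 0 < c) :
    Nat.card {x : G // IsConj z x} = m := by
  have := card_eq_card_conj_mul_card_centralizer z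
  rw [hc, hG] at this
  exact (Nat.eq_of_mul_eq_mul_right hc0 this).symm

theorem card_orderOf_eq_one : Nat.card {g : G // orderOf g = 1} = 1 := by
  rw [Nat.card_eq_one_iff_unique]
  refine ⟨⟨fun x y => Subtype.ext ?_⟩, ⟨⟨1, orderOf_one⟩⟩⟩
  rw [orderOf_eq_one_iff.mp x.2, orderOf_eq_one_iff.mp y.2]

end Generic

section D8

variable {X : Type*} [Group X] [Finite X]

theorem isMulCommutative_of_commute_of_card_eight (hcard : Nat.card X = 8) {r s : X}
    (hr : orderOf r = 4) (hs' : s ∉ zpowers r) (hsr : s * r = r * s) : IsMulCommutative X := by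
  have hrc : r ∈ center X := by
    have : centralizer ({r} : Set X) = ⊤ := by
      apply eq_top_of_zpowers_le hcard hr hs'
      · rw [zpowers_le, mem_centralizer_singleton_iff]
      · rw [mem_centralizer_singleton_iff]; exact hsr
    rw [mem_center_iff]
    intro g
    have hg : g ∈ centralizer ({r} : Set X) := by rw [this]; trivial
    rw [mem_centralizer_singleton_iff] at hg
    exact hg
  have hsc : s ∈ center X := by
    have : centralizer ({s} : Set X) = ⊤ := by
      apply eq_top_of_zpowers_le hcard hr hs'
      · rw [zpowers_le, mem_centralizer_singleton_iff]; exact hsr.symm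
      · rw [mem_centralizer_singleton_iff]
    rw [mem_center_iff]
    intro g
    have hg : g ∈ centralizer ({s} : Set X) := by rw [this]; trivial
    rw [mem_centralizer_singleton_iff] at hg
    exact hg
  have htop : center X = ⊤ :=
    eq_top_of_zpowers_le hcard hr hs' _ (zpowers_le.mpr hrc) hsc
  refine ⟨⟨fun a b => ?_⟩⟩
  have ha : a ∈ center X := by rw [htop]; trivial
  exact (mem_center_iff.mp ha b).symm

theorem not_mem_center_of_orderOf_four (hcard : Nat.card X = 8) (hab : ¬ IsMulCommutative X)
    (u : X) (hu : orderOf u = 4) : u ∉ center X := by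
  intro hc
  have hex : ∃ s : X, s ∉ zpowers u := by
    by_contra hcon
    push Not at hcon
    have : zpowers u = ⊤ := by
      rw [eq_top_iff]; intro s _; exact hcon s
    have h2 := Nat.card_zpowers u
    rw [this, Subgroup.card_top, hcard, hu] at h2
    norm_num at h2
  obtain ⟨s, hs⟩ := hex
  exact hab (isMulCommutative_of_commute_of_card_eight hcard hu hs (mem_center_iff.mp hc s))

end D8

section S168

variable {G : Type u} [Group G] [Finite G] [IsSimpleGroup G]

theorem s168_orderOf_ne_eight (h : Nat.card G = 168) (g : G) : orderOf g ≠ 8 := by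
  intro h8
  have hgp : IsPGroup 2 (zpowers g) :=
    IsPGroup.of_card (n := 3) (by rw [Nat.card_zpowers, h8]; norm_num)
  obtain ⟨T, hT⟩ := hgp.exists_le_sylow
  have heq : zpowers g = (T : Subgroup G) := by
    apply Subgroup.eq_of_le_of_card_ge hT
    rw [(s168_card_P2 h T).1, Nat.card_zpowers, h8]
  apply s168_sylow2_not_comm h T
  rw [← heq]
  exact IsCyclic.isMulCommutative

theorem s168_orderOf_cases (h : Nat.card G = 168) (g : G) :
    orderOf g = 1 ∨ orderOf g = 2 ∨ orderOf g = 3 ∨ orderOf g = 4 ∨ orderOf g = 7 := by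
  rcases s168_orderOf h g with h7 | h3 | h8
  · right; right; right; right; exact h7
  · right; right; left; exact h3
  · have hne := s168_orderOf_ne_eight h g
    have hle : orderOf g ≤ 8 := Nat.le_of_dvd (by norm_num) h8
    have hpos : 0 < orderOf g := orderOf_pos g
    generalize orderOf g = n at *
    interval_cases n <;> simp_all

/-- A central involution of a Sylow `2`-subgroup. -/
theorem s168_exists_central_invol (h : Nat.card G = 168) (T : Sylow 2 G) :
    ∃ z : G, z ∈ (T : Subgroup G) ∧ orderOf z = 2 ∧ ∀ t ∈ (T : Subgroup G), t * z = z * t := by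
  haveI : Nontrivial (T : Subgroup G) := by
    rw [← Finite.one_lt_card_iff_nontrivial, (s168_card_P2 h T).1]; norm_num
  haveI : Nontrivial (center (T : Subgroup G)) := T.2.center_nontrivial
  obtain ⟨⟨z', hz'⟩, hne⟩ := exists_ne (1 : center (T : Subgroup G))
  have hz1 : (z' : G) ≠ 1 := by
    intro h0
    apply hne
    apply Subtype.ext
    apply Subtype.ext
    exact h0
  obtain ⟨k, hk⟩ := exists_pow_orderOf_eq_two (s168_orderOf_dvd_of_mem h T z'.2) hz1
  refine ⟨(z' : G) ^ k, Subgroup.pow_mem _ z'.2 k, hk, ?_⟩
  intro t ht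
  have h1 := mem_center_iff.mp hz' ⟨t, ht⟩
  have h2 : t * (z' : G) = (z' : G) * t := congrArg Subtype.val h1
  exact ((show Commute t (z' : G) from h2).pow_right k).eq

theorem s168_card_centralizer_four (h : Nat.card G = 168) (u : G) (hu : orderOf u = 4) :
    Nat.card (centralizer ({u} : Set G)) = 4 := by
  have hu8 : orderOf u ∣ 8 := by rw [hu]; norm_num
  have hu1 : u ≠ 1 := by
    intro h0; rw [h0, orderOf_one] at hu; norm_num at hu
  obtain ⟨T, hT⟩ := s168_centralizer_le_sylow h hu8 hu1
  have h1 : Nat.card (centralizer ({u} : Set G)) ∣ 8 := by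
    rw [← (s168_card_P2 h T).1]; exact Subgroup.card_dvd_of_le hT
  have hle : zpowers u ≤ centralizer ({u} : Set G) := by
    rw [zpowers_le, mem_centralizer_singleton_iff]
  have h2 : 4 ∣ Nat.card (centralizer ({u} : Set G)) := by
    have := Subgroup.card_dvd_of_le hle
    rwa [Nat.card_zpowers, hu] at this
  have h3 : Nat.card (centralizer ({u} : Set G)) ≠ 8 := by
    intro h8
    have heq : centralizer ({u} : Set G) = (T : Subgroup G) := by
      apply Subgroup.eq_of_le_of_card_ge hT
      rw [(s168_card_P2 h T).1, h8]
    have huT : u ∈ (T : Subgroup G) := by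
      rw [← heq, mem_centralizer_singleton_iff]
    apply not_mem_center_of_orderOf_four (X := (T : Subgroup G)) (s168_card_P2 h T).1
      (s168_sylow2_not_comm h T) ⟨u, huT⟩ (by rw [Subgroup.orderOf_mk, hu])
    rw [mem_center_iff]
    intro t
    apply Subtype.ext
    have ht : (t : G) ∈ centralizer ({u} : Set G) := by rw [heq]; exact t.2
    rw [mem_centralizer_singleton_iff] at ht
    exact ht
  have h4 : Nat.card (centralizer ({u} : Set G)) ≤ 8 := Nat.le_of_dvd (by norm_num) h1
  generalize Nat.card (centralizer ({u} : Set G)) = n at *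
  interval_cases n <;> omega

theorem s168_exists_orderOf_four (h : Nat.card G = 168) : ∃ u : G, orderOf u = 4 := by
  obtain ⟨T⟩ : Nonempty (Sylow 2 G) := Sylow.nonempty
  obtain ⟨r, hr⟩ := exists_orderOf_eq_four (X := (T : Subgroup G)) (s168_card_P2 h T).1
    (s168_sylow2_not_comm h T)
  exact ⟨(r : G), by rw [Subgroup.orderOf_coe, hr]⟩

/-- `21` involutions and `42` elements of order `4`. -/
theorem s168_card_two_four (h : Nat.card G = 168) :
    Nat.card {g : G // orderOf g = 2} = 21 ∧ Nat.card {g : G // orderOf g = 4} = 42 ∧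
    (∀ z : G, orderOf z = 2 → Nat.card {x : G // IsConj z x} = 21 → True) ∧
    (∀ s t : G, orderOf s = 2 → orderOf t = 2 → IsConj s t) ∧
    (∀ s t : G, orderOf s = 4 → orderOf t = 4 → IsConj s t) := by
  obtain ⟨T⟩ : Nonempty (Sylow 2 G) := Sylow.nonempty
  obtain ⟨z, hzT, hz2, hzc⟩ := s168_exists_central_invol h T
  have hz1 : z ≠ 1 := by
    intro h0; rw [h0, orderOf_one] at hz2; norm_num at hz2
  have hCz : Nat.card (centralizer ({z} : Set G)) = 8 := by
    rw [s168_centralizer_central h T z hzT hz1 hzc, (s168_card_P2 h T).1]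
  have hclz : Nat.card {x : G // IsConj z x} = 21 :=
    card_class_of_card_centralizer z 8 21 (by rw [h]) hCz (by norm_num)
  obtain ⟨u, hu⟩ := s168_exists_orderOf_four h
  have hclu : Nat.card {x : G // IsConj u x} = 42 :=
    card_class_of_card_centralizer u 4 42 (by rw [h]) (s168_card_centralizer_four h u hu)
      (by norm_num)
  have hI := card_class_le 2 z hz2
  have hF := card_class_le 4 u hu
  rw [hclz] at hI
  rw [hclu] at hF
  -- partition of the 2-elements
  have hpart := card_eq_of_three_partition
    (fun a : {g : G // orderOf g ∣ 8} => orderOf a.1 = 1)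
    (fun a : {g : G // orderOf g ∣ 8} => orderOf a.1 = 2)
    (fun a : {g : G // orderOf g ∣ 8} => orderOf a.1 = 4)
    (by
      rintro ⟨g, hg⟩
      rcases s168_orderOf_cases h g with h1 | h1 | h1 | h1 | h1
      · left; exact h1
      · right; left; exact h1
      · rw [h1] at hg; norm_num at hg
      · right; right; exact h1
      · rw [h1] at hg; norm_num at hg)
    (by intro a h1 h2; rw [h1] at h2; norm_num at h2)
    (by intro a h1 h2; rw [h1] at h2; norm_num at h2)
    (by intro a h1 h2; rw [h1] at h2; norm_num at h2)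
  have e1 : Nat.card {a : {g : G // orderOf g ∣ 8} // orderOf a.1 = 1} = 1 := by
    rw [Nat.card_congr (Equiv.subtypeSubtypeEquivSubtype
      (p := fun g : G => orderOf g ∣ 8) (q := fun g : G => orderOf g = 1)
      (by intro g hg; rw [hg]; norm_num))]
    exact card_orderOf_eq_one
  have e2 : Nat.card {a : {g : G // orderOf g ∣ 8} // orderOf a.1 = 2} =
      Nat.card {g : G // orderOf g = 2} :=
    Nat.card_congr (Equiv.subtypeSubtypeEquivSubtype
      (p := fun g : G => orderOf g ∣ 8) (q := fun g : G => orderOf g = 2)
      (by intro g hg; rw [hg]; norm_num))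
  have e4 : Nat.card {a : {g : G // orderOf g ∣ 8} // orderOf a.1 = 4} =
      Nat.card {g : G // orderOf g = 4} :=
    Nat.card_congr (Equiv.subtypeSubtypeEquivSubtype
      (p := fun g : G => orderOf g ∣ 8) (q := fun g : G => orderOf g = 4)
      (by intro g hg; rw [hg]; norm_num))
  rw [s168_card_two_elements h, e1, e2, e4] at hpart
  have hI' : Nat.card {g : G // orderOf g = 2} = 21 := by omega
  have hF' : Nat.card {g : G // orderOf g = 4} = 42 := by omega
  refine ⟨hI', hF', fun _ _ _ => trivial, ?_, ?_⟩
  · exact isConj_of_card_class_ge 2 z hz2 (by rw [hI', hclz])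
  · exact isConj_of_card_class_ge 4 u hu (by rw [hF', hclu])

theorem s168_invol_main (h : Nat.card G = 168) :
    (∀ g : G, orderOf g = 1 ∨ orderOf g = 2 ∨ orderOf g = 3 ∨ orderOf g = 4 ∨ orderOf g = 7) ∧
      Nat.card {g : G // orderOf g = 2} = 21 ∧
      ∀ s t : G, orderOf s = 2 → orderOf t = 2 → IsConj s t :=
  ⟨s168_orderOf_cases h, (s168_card_two_four h).1, (s168_card_two_four h).2.2.2.1⟩

end S168

end Cfsg.Agent.Lib.Helper4
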