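import Mathlib
import Cfsg.Agent.Lib.Helper4.S168d
import Cfsg.Agent.Lib.Helper17.Basic

set_option autoImplicit false
set_option linter.style.haveILetI false
set_option linter.unusedSectionVars false

namespace Cfsg.Agent.Lib.Helper4

open Subgroup

universe u

section S168

variable {G : Type u} [Group G] [Finite G] [IsSimpleGroup G]

theorem s168_not_isConj_inv (h : Nat.card G = 168) (x : G) (hx : orderOf x = 7) :
    ¬ IsConj x x⁻¹ := by
  intro hcj
  obtain ⟨c, hc⟩ := isConj_iff.mp hcj
  haveI : Fact (Nat.Prime 7) := ⟨by norm_num⟩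
  have hPx : IsPGroup 7 (zpowers x) :=
    IsPGroup.of_card (n := 1) (by rw [Nat.card_zpowers, hx, pow_one])
  obtain ⟨P, hxP⟩ := hPx.exists_le_sylow
  have hPeq : zpowers x = (P : Subgroup G) := by
    apply Subgroup.eq_of_le_of_card_ge hxP
    rw [(s168_card_P7 h P).1, Nat.card_zpowers, hx]
  have hcN : c ∈ normalizer ((zpowers x : Subgroup G) : Set G) := by
    apply Cfsg.Agent.Lib.Helper17.mem_normalizer_of_forall_conj_mem
    intro y hy
    obtain ⟨k, rfl⟩ := mem_zpowers_iff.mp hy
    have : c * x ^ k * c⁻¹ = (c * x * c⁻¹) ^ k := by rw [conj_zpow]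
    rw [this, hc]
    exact zpow_mem (inv_mem (mem_zpowers x)) k
  have hN21 : Nat.card (normalizer ((zpowers x : Subgroup G) : Set G)) = 21 := by
    rw [hPeq]; exact s168_card_N7 h P
  have hc21 : c ^ 21 = 1 := by
    have := orderOf_dvd_natCard (⟨c, hcN⟩ : normalizer ((zpowers x : Subgroup G) : Set G))
    rw [hN21, Subgroup.orderOf_mk] at this
    exact orderOf_dvd_iff_pow_eq_one.mp this
  have e1 : c * x⁻¹ * c⁻¹ = x := by
    have : c * x⁻¹ * c⁻¹ = (c * x * c⁻¹)⁻¹ := by group
    rw [this, hc, inv_inv]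
  have e2 : c ^ 2 * x * (c ^ 2)⁻¹ = x := by
    have : c ^ 2 * x * (c ^ 2)⁻¹ = c * (c * x * c⁻¹) * c⁻¹ := by
      rw [pow_two, mul_inv_rev]; simp only [mul_assoc]
    rw [this, hc, e1]
  have hc2 : c ^ 2 * x = x * c ^ 2 := by
    have := congrArg (fun t => t * c ^ 2) e2
    simpa using this
  have hcx : c * x = x * c := by
    have h22 : c = (c ^ 2) ^ 11 := by
      rw [← pow_mul]
      have : c ^ (2 * 11) = c ^ 21 * c := by rw [← pow_succ]
      rw [this, hc21, one_mul]
    rw [h22]
    exact ((show Commute (c ^ 2) x from hc2).pow_left 11).eq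
  have hxx : x⁻¹ = x := by
    rw [← hc, hcx]; group
  have hx2 : x ^ 2 = 1 := by
    rw [pow_two]
    nth_rewrite 2 [← hxx]
    group
  have := orderOf_dvd_of_pow_eq_one hx2
  rw [hx] at this
  norm_num at this

theorem s168_classes_main (h : Nat.card G = 168) :
    Nat.card {g : G // orderOf g = 3} = 56 ∧
    (∀ s t : G, orderOf s = 3 → orderOf t = 3 → IsConj s t) ∧
    Nat.card {g : G // orderOf g = 4} = 42 ∧
    (∀ s t : G, orderOf s = 4 → orderOf t = 4 → IsConj s t) ∧
    Nat.card {g : G // orderOf g = 7} = 48 ∧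
    ∀ x : G, orderOf x = 7 → Nat.card {g : G // IsConj x g} = 24 ∧ ¬ IsConj x x⁻¹ := by
  refine ⟨s168_card_orderOf_three h, ?_, (s168_card_two_four h).2.1,
    (s168_card_two_four h).2.2.2.2, s168_card_orderOf_seven h, ?_⟩
  · obtain ⟨y, hy⟩ := exists_prime_orderOf_dvd_card' (G := G) 3 (by rw [h]; norm_num)
    have hC : Nat.card (centralizer ({y} : Set G)) = 3 := by
      rw [s168_cent3 h y hy, Nat.card_zpowers, hy]
    have hcl : Nat.card {x : G // IsConj y x} = 56 :=
      card_class_of_card_centralizer y 3 56 (by rw [h]) hC (by norm_num)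
    exact isConj_of_card_class_ge 3 y hy (by rw [hcl, s168_card_orderOf_three h])
  · intro x hx
    have hC : Nat.card (centralizer ({x} : Set G)) = 7 := by
      rw [s168_cent7 h x hx, Nat.card_zpowers, hx]
    exact ⟨card_class_of_card_centralizer x 7 24 (by rw [h]) hC (by norm_num),
      s168_not_isConj_inv h x hx⟩

end S168

end Cfsg.Agent.Lib.Helper4
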