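import Mathlib
import Cfsg.Agent.Lib.Helper4.S168e
import Cfsg.Agent.Lib.Helper4.D8Klein
import Cfsg.Agent.Lib.Helper4.FourGraph1
import Cfsg.Agent.S1012

set_option autoImplicit false
set_option linter.style.haveILetI false
set_option linter.unusedSectionVars false

namespace Cfsg.Agent.Lib.Helper4

open Subgroup

universe u

section Generic

variable {G : Type u} [Group G]

/-- A subgroup of half the order is normalized. -/
theorem le_normalizer_of_card_eq_two_mul [Finite G] {U T : Subgroup G} (hUT : U ≤ T)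
    (hcard : Nat.card T = 2 * Nat.card U) : T ≤ normalizer (U : Set G) := by
  rw [← Subgroup.normal_subgroupOf_iff_le_normalizer hUT]
  apply Subgroup.normal_of_index_eq_two
  have h1 := (U.subgroupOf T).card_mul_index
  have h2 : Nat.card (U.subgroupOf T) = Nat.card U :=
    Nat.card_congr (Subgroup.subgroupOfEquivOfLe hUT).toEquiv
  rw [h2, hcard] at h1
  have hpos : 0 < Nat.card U := Nat.card_pos
  have : Nat.card U * (U.subgroupOf T).index = Nat.card U * 2 := by rw [h1]; ring
  exact Nat.eq_of_mul_eq_mul_left hpos this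

theorem orderOf_eq_two_of_mul_self {a : G} (ha : a * a = 1) (ha1 : a ≠ 1) : orderOf a = 2 := by
  haveI : Fact (Nat.Prime 2) := ⟨Nat.prime_two⟩
  exact orderOf_eq_prime (by rw [pow_two]; exact ha) ha1

end Generic

section S168

variable {G : Type u} [Group G] [Finite G] [IsSimpleGroup G]

/-- The centralizer of an involution is a Sylow `2`-subgroup. -/
theorem s168_centralizer_invol (h : Nat.card G = 168) (a : G) (ha : orderOf a = 2) :
    ∃ T : Sylow 2 G, centralizer ({a} : Set G) = T := by
  have ha8 : orderOf a ∣ 8 := by rw [ha]; norm_num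
  have ha1 : a ≠ 1 := by
    intro h0; rw [h0, orderOf_one] at ha; norm_num at ha
  obtain ⟨T, hT⟩ := s168_centralizer_le_sylow h ha8 ha1
  refine ⟨T, ?_⟩
  have hcls : Nat.card {x : G // IsConj a x} = 21 := by
    rw [← (s168_card_two_four h).1]
    apply Nat.card_congr
    apply Equiv.subtypeEquivRight
    intro x
    exact ⟨fun hx => by rw [orderOf_eq_of_isConj hx, ha],
      fun hx => (s168_card_two_four h).2.2.2.1 a x ha hx⟩
  have hC : Nat.card (centralizer ({a} : Set G)) = 8 := by
    have := card_eq_card_conj_mul_card_centralizer a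
    rw [hcls, h] at this
    omega
  apply Subgroup.eq_of_le_of_card_ge hT
  rw [hC, (s168_card_P2 h T).1]

/-- The normalizer of a four-subgroup has order `24`. -/
theorem s168_card_normalizer_klein (h : Nat.card G = 168) (U : Subgroup G) (hU : IsKleinFour U) :
    Nat.card (normalizer (U : Set G)) = 24 := by
  have hU4 : Nat.card U = 4 := hU.card_four
  have hU2 : ∀ x ∈ U, x * x = 1 := by
    intro x hx
    exact congrArg Subtype.val (IsKleinFour.mul_self (⟨x, hx⟩ : U))
  have hUc : ∀ x ∈ U, ∀ y ∈ U, x * y = y * x := by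
    intro x hx y hy
    exact congrArg Subtype.val (mul_comm_of_exponent_two hU.exponent_two (⟨x, hx⟩ : U) ⟨y, hy⟩)
  obtain ⟨a, haU, ha1, -⟩ := exists_ne_of_two_lt_card U 1 (one_mul 1) (by rw [hU4]; norm_num)
  have ha2 := hU2 a haU
  obtain ⟨b, hbU, hb1, hba⟩ := exists_ne_of_two_lt_card U a ha2 (by rw [hU4]; norm_num)
  have hb2 := hU2 b hbU
  obtain ⟨Ta, hTa⟩ := s168_centralizer_invol h a (orderOf_eq_two_of_mul_self ha2 ha1)
  obtain ⟨Tb, hTb⟩ := s168_centralizer_invol h b (orderOf_eq_two_of_mul_self hb2 hb1)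
  have hUTa : U ≤ (Ta : Subgroup G) := by
    intro x hx
    rw [← hTa, mem_centralizer_singleton_iff]
    exact hUc x hx a haU
  have hUTb : U ≤ (Tb : Subgroup G) := by
    intro x hx
    rw [← hTb, mem_centralizer_singleton_iff]
    exact hUc x hx b hbU
  have hne : (Ta : Subgroup G) ≠ (Tb : Subgroup G) := by
    intro heq
    have hc2 := card_center_of_card_eight (X := (Ta : Subgroup G)) (s168_card_P2 h Ta).1
      (s168_sylow2_not_comm h Ta)
    have hac : (⟨a, hUTa haU⟩ : (Ta : Subgroup G)) ∈ center (Ta : Subgroup G) := by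
      rw [mem_center_iff]
      intro t
      apply Subtype.ext
      have ht : (t : G) ∈ centralizer ({a} : Set G) := by rw [hTa]; exact t.2
      exact mem_centralizer_singleton_iff.mp ht
    have hbc : (⟨b, hUTa hbU⟩ : (Ta : Subgroup G)) ∈ center (Ta : Subgroup G) := by
      rw [mem_center_iff]
      intro t
      apply Subtype.ext
      have ht : (t : G) ∈ centralizer ({b} : Set G) := by rw [hTb, ← heq]; exact t.2
      exact mem_centralizer_singleton_iff.mp ht
    have huniq := (Nat.card_eq_two_iff' (1 : center (Ta : Subgroup G))).mp hc2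
    have e := huniq.unique (y₁ := ⟨⟨a, hUTa haU⟩, hac⟩) (y₂ := ⟨⟨b, hUTa hbU⟩, hbc⟩)
      (by intro h0; apply ha1; exact Subtype.ext_iff.mp (Subtype.ext_iff.mp h0))
      (by intro h0; apply hb1; exact Subtype.ext_iff.mp (Subtype.ext_iff.mp h0))
    apply hba
    exact (Subtype.ext_iff.mp (Subtype.ext_iff.mp e)).symm
  have hTaN : (Ta : Subgroup G) ≤ normalizer (U : Set G) :=
    le_normalizer_of_card_eq_two_mul hUTa (by rw [(s168_card_P2 h Ta).1, hU4])
  have hTbN : (Tb : Subgroup G) ≤ normalizer (U : Set G) :=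
    le_normalizer_of_card_eq_two_mul hUTb (by rw [(s168_card_P2 h Tb).1, hU4])
  have h8 : 8 ∣ Nat.card (normalizer (U : Set G)) := by
    rw [← (s168_card_P2 h Ta).1]; exact Subgroup.card_dvd_of_le hTaN
  have hd : Nat.card (normalizer (U : Set G)) ∣ 168 := h ▸ Subgroup.card_subgroup_dvd_card _
  have hne8 : Nat.card (normalizer (U : Set G)) ≠ 8 := by
    intro h0
    apply hne
    have e1 : (Ta : Subgroup G) = normalizer (U : Set G) :=
      Subgroup.eq_of_le_of_card_ge hTaN (by rw [h0, (s168_card_P2 h Ta).1])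
    have e2 : (Tb : Subgroup G) = normalizer (U : Set G) :=
      Subgroup.eq_of_le_of_card_ge hTbN (by rw [h0, (s168_card_P2 h Tb).1])
    rw [e1, e2]
  have hne168 : Nat.card (normalizer (U : Set G)) ≠ 168 := by
    intro h0
    have htop : normalizer (U : Set G) = ⊤ := Subgroup.eq_top_of_card_eq _ (by rw [h0, h])
    have hn : U.Normal := Subgroup.normalizer_eq_top_iff.mp htop
    rcases hn.eq_bot_or_eq_top with h1 | h1
    · rw [h1, Subgroup.card_bot] at hU4; norm_num at hU4
    · rw [h1, Subgroup.card_top, h] at hU4; norm_num at hU4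
  have hne56 : Nat.card (normalizer (U : Set G)) ≠ 56 := by
    intro h0
    have hidx : (normalizer (U : Set G)).index = 3 := by
      have := (normalizer (U : Set G)).card_mul_index
      rw [h0, h] at this
      omega
    have hnt : normalizer (U : Set G) ≠ ⊤ := by
      intro ht
      rw [ht, Subgroup.index_top] at hidx
      norm_num at hidx
    have := Cfsg.Agent.Lib.Helper7.card_dvd_factorial_index _ hnt
    rw [hidx, h] at this
    revert this
    decide
  have hle : Nat.card (normalizer (U : Set G)) ≤ 168 := Nat.le_of_dvd (by norm_num) hd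
  generalize Nat.card (normalizer (U : Set G)) = n at *
  obtain ⟨k, rfl⟩ := h8
  have hk : k ≤ 21 := by omega
  interval_cases k <;> simp_all

/-- The normalizer of a four-subgroup is `S₄`. -/
theorem s168_normalizer_klein (h : Nat.card G = 168) (U : Subgroup G) (hU : IsKleinFour U) :
    Nonempty (↥(normalizer (U : Set G)) ≃* Equiv.Perm (Fin 4)) := by
  apply Cfsg.Agent.S1012.result (s168_card_normalizer_klein h U hU)
  intro g hg
  have := s168_orderOf_cases h (g : G)
  rw [Subgroup.orderOf_coe, hg] at this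
  norm_num at this

theorem s168_card_klein_in_sylow (h : Nat.card G = 168) (T : Sylow 2 G) :
    Nat.card {U : Subgroup G // U ≤ (T : Subgroup G) ∧ IsKleinFour ↥U} = 2 := by
  obtain ⟨s, t, hs, ht, hso, hto, hst⟩ := s168_exists_two_invol h T
  obtain ⟨U₁, U₂, hne, hK1, hK2, hall⟩ := klein_of_card_eight (X := (T : Subgroup G))
    (s168_card_P2 h T).1 (s168_sylow2_not_comm h T) ⟨s, hs⟩ ⟨t, ht⟩
    (by rw [Subgroup.orderOf_mk, hso]) (by rw [Subgroup.orderOf_mk, hto])
    (fun h0 => hst (congrArg Subtype.val h0))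
  have hinj : Function.Injective (T : Subgroup G).subtype := Subgroup.subtype_injective _
  have hW1 : IsKleinFour (U₁.map (T : Subgroup G).subtype) :=
    isKleinFour_of_mulEquiv (U₁.equivMapOfInjective _ hinj) hK1
  have hW2 : IsKleinFour (U₂.map (T : Subgroup G).subtype) :=
    isKleinFour_of_mulEquiv (U₂.equivMapOfInjective _ hinj) hK2
  rw [Nat.card_eq_two_iff]
  refine ⟨⟨U₁.map (T : Subgroup G).subtype, Subgroup.map_subtype_le U₁, hW1⟩,
    ⟨U₂.map (T : Subgroup G).subtype, Subgroup.map_subtype_le U₂, hW2⟩, ?_, ?_⟩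
  · intro h0
    apply hne
    exact Subgroup.map_injective hinj (congrArg Subtype.val h0)
  · rw [Set.eq_univ_iff_forall]
    rintro ⟨U, hUT, hUK⟩
    have hK : IsKleinFour (U.subgroupOf (T : Subgroup G)) :=
      isKleinFour_of_mulEquiv (Subgroup.subgroupOfEquivOfLe hUT).symm hUK
    have hmap : (U.subgroupOf (T : Subgroup G)).map (T : Subgroup G).subtype = U :=
      Subgroup.map_subgroupOf_eq_of_le hUT
    rcases hall _ hK with h1 | h1
    · left
      apply Subtype.ext
      show U = U₁.map (T : Subgroup G).subtype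
      rw [← h1, hmap]
    · right
      apply Subtype.ext
      show U = U₂.map (T : Subgroup G).subtype
      rw [← h1, hmap]

theorem s168_klein_not_conj (h : Nat.card G = 168) (T : Sylow 2 G) (U W : Subgroup G)
    (hUT : U ≤ (T : Subgroup G)) (hWT : W ≤ (T : Subgroup G)) (hU : IsKleinFour U)
    (hW : IsKleinFour W) (hUW : U ≠ W) (g : G) : U.map (MulAut.conj g).toMonoidHom ≠ W := by
  intro hg
  have hU4 : Nat.card U = 4 := hU.card_four
  have hW4 : Nat.card W = 4 := hW.card_four
  have hTU : (T : Subgroup G) ≤ normalizer (U : Set G) :=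
    le_normalizer_of_card_eq_two_mul hUT (by rw [(s168_card_P2 h T).1, hU4])
  have hTW : (T : Subgroup G) ≤ normalizer (W : Set G) :=
    le_normalizer_of_card_eq_two_mul hWT (by rw [(s168_card_P2 h T).1, hW4])
  have hgU : ∀ u ∈ U, g * u * g⁻¹ ∈ W := by
    intro u hu
    rw [← hg]
    exact ⟨u, hu, by simp [MulAut.conj_apply]⟩
  have hT'W : ((g • T : Sylow 2 G) : Subgroup G) ≤ normalizer (W : Set G) := by
    intro t' ht'
    rw [Sylow.coe_subgroup_smul, mem_smul_pointwise_iff_exists] at ht'
    obtain ⟨t, ht, rfl⟩ := ht'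
    rw [MulAut.smul_def, MulAut.conj_apply]
    apply Cfsg.Agent.Lib.Helper17.mem_normalizer_of_forall_conj_mem
    intro w hw
    rw [← hg] at hw
    obtain ⟨u, hu, rfl⟩ := hw
    have h1 : t * u * t⁻¹ ∈ U := Cfsg.Agent.Lib.Helper17.conj_mem_of_mem_normalizer (hTU ht) hu
    have h2 := hgU _ h1
    have e : g * t * g⁻¹ * ((MulAut.conj g).toMonoidHom u) * (g * t * g⁻¹)⁻¹ =
        g * (t * u * t⁻¹) * g⁻¹ := by
      simp only [MulEquiv.coe_toMonoidHom, MulAut.conj_apply]; group
    rw [e]; exact h2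
  obtain ⟨n, hn⟩ := MulAction.exists_smul_eq (normalizer (W : Set G))
    ((g • T : Sylow 2 G).subtype hT'W) (T.subtype hTW)
  rw [Sylow.smul_subtype] at hn
  have hn' := Sylow.subtype_injective hn
  rw [Subgroup.smul_def, smul_smul] at hn'
  have hmT : (n : G) * g ∈ (T : Subgroup G) := by
    have := Sylow.smul_eq_iff_mem_normalizer.mp hn'
    exact (SetLike.ext_iff.mp (s168_normalizer_sylow2 h T) _).mp this
  have hmU := hTU hmT
  apply hUW
  apply Subgroup.eq_of_le_of_card_ge _ (by rw [hU4, hW4])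
  intro u hu
  have h1 : ((n : G) * g)⁻¹ * u * ((n : G) * g) ∈ U :=
    Cfsg.Agent.Lib.Helper17.conj_inv_mem_of_mem_normalizer hmU hu
  have h2 := hgU _ h1
  have h3 : (n : G) * (g * (((n : G) * g)⁻¹ * u * ((n : G) * g)) * g⁻¹) * (n : G)⁻¹ ∈ W :=
    Cfsg.Agent.Lib.Helper17.conj_mem_of_mem_normalizer n.2 h2
  have e : (n : G) * (g * (((n : G) * g)⁻¹ * u * ((n : G) * g)) * g⁻¹) * (n : G)⁻¹ = u := by group
  rw [e] at h3
  exact h3

theorem s168_klein_main (h : Nat.card G = 168) (T : Sylow 2 G) :
    Nat.card {U : Subgroup G // U ≤ (T : Subgroup G) ∧ IsKleinFour ↥U} = 2 ∧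
    (∀ U W : Subgroup G, U ≤ (T : Subgroup G) → W ≤ (T : Subgroup G) → IsKleinFour ↥U →
      IsKleinFour ↥W → U ≠ W → ∀ g : G, U.map (MulAut.conj g).toMonoidHom ≠ W) ∧
    ∀ U : Subgroup G, IsKleinFour ↥U →
      Nonempty (↥(Subgroup.normalizer (U : Set G)) ≃* Equiv.Perm (Fin 4)) :=
  ⟨s168_card_klein_in_sylow h T,
    fun U W hUT hWT hU hW hUW g => s168_klein_not_conj h T U W hUT hWT hU hW hUW g,
    fun U hU => s168_normalizer_klein h U hU⟩

end S168

end Cfsg.Agent.Lib.Helper4
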