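import Mathlib
import Cfsg.Agent.Lib.Helper4.S168f

set_option autoImplicit false
set_option linter.style.haveILetI false
set_option linter.unusedSectionVars false

namespace Cfsg.Agent.Lib.Helper4

open Subgroup

universe u

section Generic

variable {G : Type u} [Group G]

theorem sylow_smul_eq_map {p : ℕ} (P : Sylow p G) (g : G) :
    ((g • P : Sylow p G) : Subgroup G) = (P : Subgroup G).map (MulAut.conj g).toMonoidHom := by
  rw [Sylow.coe_subgroup_smul]
  rfl

theorem normalizer_map_conj (H : Subgroup G) (g : G) :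
    normalizer ((H.map (MulAut.conj g).toMonoidHom : Subgroup G) : Set G) =
      (normalizer (H : Set G)).map (MulAut.conj g).toMonoidHom :=
  (Subgroup.map_equiv_normalizer_eq H (MulAut.conj g)).symm

variable [Finite G]

/-- A Sylow subgroup normalizing another one equals it. -/
theorem sylow_eq_of_le_normalizer {p : ℕ} [Fact p.Prime] (P P' : Sylow p G)
    (hle : (P : Subgroup G) ≤ normalizer ((P' : Subgroup G) : Set G)) : P = P' := by
  have hsup : IsPGroup p ((P : Subgroup G) ⊔ (P' : Subgroup G) : Subgroup G) :=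
    IsPGroup.to_sup_of_normal_right' P.2 P'.2 hle
  have h1 := P.is_maximal' hsup le_sup_left
  have h2 := P'.is_maximal' hsup le_sup_right
  exact Sylow.ext (h1.symm.trans h2)

end Generic

section S168

variable {G : Type u} [Group G] [Finite G] [IsSimpleGroup G]

/-- If `M ⊇ P` does not normalize the Sylow `7`-subgroup `P`, it contains all Sylow
`7`-subgroups. -/
theorem s168_sylow7_le (h : Nat.card G = 168) (M : Subgroup G) (x : G) (hx : orderOf x = 7)
    (P : Sylow 7 G) (hP : zpowers x = (P : Subgroup G)) (hxM : x ∈ M)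
    (hM : ¬ M ≤ normalizer ((P : Subgroup G) : Set G)) :
    ∀ R : Sylow 7 G, (R : Subgroup G) ≤ M := by
  haveI : Fact (Nat.Prime 7) := ⟨by norm_num⟩
  have hPM : (P : Subgroup G) ≤ M := by rw [← hP]; exact zpowers_le.mpr hxM
  obtain ⟨m, hmM, hmN⟩ := SetLike.not_le_iff_exists.mp hM
  have hP' : m • P ≠ P := fun h0 => hmN (Sylow.smul_eq_iff_mem_normalizer.mp h0)
  have hne : ∀ a : (P : Subgroup G), (a : G) • (m • P) ≠ P := by
    intro a h0
    apply hP'
    have h1 : (a : G)⁻¹ • P = P :=
      Sylow.smul_eq_iff_mem_normalizer.mpr (le_normalizer (Subgroup.inv_mem _ a.2))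
    have h2 : m • P = (a : G)⁻¹ • P := by
      have := congrArg (fun R : Sylow 7 G => (a : G)⁻¹ • R) h0
      simp only [inv_smul_smul] at this
      exact this
    exact h2.trans h1
  have hinj : Function.Injective
      (fun a : (P : Subgroup G) => (⟨(a : G) • (m • P), hne a⟩ : {R : Sylow 7 G // R ≠ P})) := by
    intro a b hab
    have hab' : (a : G) • (m • P) = (b : G) • (m • P) := congrArg Subtype.val hab
    have h1 : ((b : G)⁻¹ * (a : G)) • (m • P) = m • P := by
      rw [mul_smul, hab', inv_smul_smul]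
    rw [Sylow.smul_eq_iff_mem_normalizer] at h1
    by_contra hne'
    have hc1 : (b : G)⁻¹ * (a : G) ≠ 1 := by
      intro h0
      apply hne'
      apply Subtype.ext
      exact (inv_mul_eq_one.mp h0).symm
    have hcP : (b : G)⁻¹ * (a : G) ∈ zpowers x := by
      rw [hP]; exact Subgroup.mul_mem _ (Subgroup.inv_mem _ b.2) a.2
    have hxc : x ∈ zpowers ((b : G)⁻¹ * (a : G)) :=
      psc_mem_zpowers_of_ne_one (by norm_num) hx hcP hc1
    have hxN : x ∈ normalizer (((m • P : Sylow 7 G) : Subgroup G) : Set G) :=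
      (zpowers_le.mpr h1) hxc
    have hle : (P : Subgroup G) ≤ normalizer (((m • P : Sylow 7 G) : Subgroup G) : Set G) := by
      rw [← hP]; exact zpowers_le.mpr hxN
    exact hP' (sylow_eq_of_le_normalizer P (m • P) hle).symm
  have hsurj := (hinj.bijective_of_nat_card_le (by
    rw [card_subtype_ne', s168_card_sylow7 h, (s168_card_P7 h P).1])).2
  intro R
  by_cases hR : R = P
  · rw [hR]; exact hPM
  · obtain ⟨a, ha⟩ := hsurj ⟨R, hR⟩
    have ha' : (a : G) • (m • P) = R := congrArg Subtype.val ha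
    rw [← ha', ← mul_smul, sylow_smul_eq_map]
    rintro _ ⟨q, hq, rfl⟩
    have hamM : (a : G) * m ∈ M := M.mul_mem (hPM a.2) hmM
    simp only [MulEquiv.coe_toMonoidHom, MulAut.conj_apply]
    exact M.mul_mem (M.mul_mem hamM (hPM hq)) (M.inv_mem hamM)

/-- A proper subgroup containing an element of order `7` normalizes its Sylow `7`-subgroup. -/
theorem s168_le_normalizer_sylow7 (h : Nat.card G = 168) (M : Subgroup G) (hMtop : M ≠ ⊤)
    (x : G) (hx : orderOf x = 7) (P : Sylow 7 G) (hP : zpowers x = (P : Subgroup G))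
    (hxM : x ∈ M) : M ≤ normalizer ((P : Subgroup G) : Set G) := by
  by_contra hM
  have hall := s168_sylow7_le h M x hx P hP hxM hM
  apply hMtop
  have hcl : normalClosure ((P : Subgroup G) : Set G) ≤ M := by
    rw [normalClosure, closure_le]
    intro g hg
    rw [Group.mem_conjugatesOfSet_iff] at hg
    obtain ⟨b, hb, hbg⟩ := hg
    obtain ⟨c, hc⟩ := isConj_iff.mp hbg
    apply hall (c • P)
    rw [sylow_smul_eq_map]
    exact ⟨b, hb, by simp [MulAut.conj_apply, hc]⟩
  rcases (normalClosure_normal (s := ((P : Subgroup G) : Set G))).eq_bot_or_eq_top with h1 | h1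
  · exfalso
    have hxP : x ∈ normalClosure ((P : Subgroup G) : Set G) :=
      subset_normalClosure (by rw [← hP]; exact mem_zpowers x)
    rw [h1, mem_bot] at hxP
    rw [hxP, orderOf_one] at hx
    norm_num at hx
  · rw [h1] at hcl
    exact top_le_iff.mp hcl

theorem s168_exists_sylow7_eq_zpowers (h : Nat.card G = 168) (x : G) (hx : orderOf x = 7) :
    ∃ P : Sylow 7 G, zpowers x = (P : Subgroup G) := by
  haveI : Fact (Nat.Prime 7) := ⟨by norm_num⟩
  have hPx : IsPGroup 7 (zpowers x) :=
    IsPGroup.of_card (n := 1) (by rw [Nat.card_zpowers, hx, pow_one])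
  obtain ⟨P, hxP⟩ := hPx.exists_le_sylow
  refine ⟨P, ?_⟩
  apply Subgroup.eq_of_le_of_card_ge hxP
  rw [(s168_card_P7 h P).1, Nat.card_zpowers, hx]

theorem s168_exists_sylow3_eq_zpowers (h : Nat.card G = 168) (y : G) (hy : orderOf y = 3) :
    ∃ Q : Sylow 3 G, zpowers y = (Q : Subgroup G) := by
  have hQy : IsPGroup 3 (zpowers y) :=
    IsPGroup.of_card (n := 1) (by rw [Nat.card_zpowers, hy, pow_one])
  obtain ⟨Q, hyQ⟩ := hQy.exists_le_sylow
  refine ⟨Q, ?_⟩
  apply Subgroup.eq_of_le_of_card_ge hyQ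
  rw [(s168_card_P3 h Q).1, Nat.card_zpowers, hy]

/-- A proper subgroup of order divisible by `7` is contained in a Sylow `7`-normalizer. -/
theorem s168_le_normalizer_of_seven_dvd (h : Nat.card G = 168) (M : Subgroup G) (hMtop : M ≠ ⊤)
    (h7 : 7 ∣ Nat.card M) :
    ∃ (x : G) (P : Sylow 7 G), x ∈ M ∧ orderOf x = 7 ∧ zpowers x = (P : Subgroup G) ∧
      M ≤ normalizer ((P : Subgroup G) : Set G) := by
  haveI : Fact (Nat.Prime 7) := ⟨by norm_num⟩
  obtain ⟨x', hx'⟩ := exists_prime_orderOf_dvd_card' (G := M) 7 h7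
  have hx : orderOf (x' : G) = 7 := by rw [Subgroup.orderOf_coe, hx']
  obtain ⟨P, hP⟩ := s168_exists_sylow7_eq_zpowers h (x' : G) hx
  exact ⟨x', P, x'.2, hx, hP, s168_le_normalizer_sylow7 h M hMtop _ hx P hP x'.2⟩

theorem s168_eq_normalizer_of_card (h : Nat.card G = 168) (M : Subgroup G)
    (hM : Nat.card M = 21) : ∃ P : Sylow 7 G, M = normalizer ((P : Subgroup G) : Set G) := by
  have hMtop : M ≠ ⊤ := by
    intro h0; rw [h0, Subgroup.card_top, h] at hM; norm_num at hM
  obtain ⟨x, P, hxM, hx, hP, hle⟩ := s168_le_normalizer_of_seven_dvd h M hMtop (by rw [hM]; norm_num)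
  refine ⟨P, ?_⟩
  apply Subgroup.eq_of_le_of_card_ge hle
  rw [s168_card_N7 h P, hM]

theorem s168_not_comm_of_card (h : Nat.card G = 168) (M : Subgroup G)
    (hM : Nat.card M = 21) : ¬ IsMulCommutative M := by
  intro hc
  haveI : Fact (Nat.Prime 7) := ⟨by norm_num⟩
  obtain ⟨x', hx'⟩ := exists_prime_orderOf_dvd_card' (G := M) 7 (by rw [hM]; norm_num)
  have hx : orderOf (x' : G) = 7 := by rw [Subgroup.orderOf_coe, hx']
  have hle : M ≤ centralizer ({(x' : G)} : Set G) := by
    intro m hm
    rw [mem_centralizer_singleton_iff]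
    exact congrArg Subtype.val (hc.is_comm.comm ⟨m, hm⟩ x')
  have := Subgroup.card_le_of_le hle
  rw [s168_cent7 h _ hx, Nat.card_zpowers, hx, hM] at this
  norm_num at this

/-- Subgroups of order `21` are conjugate. -/
theorem s168_conj_of_card (h : Nat.card G = 168) (M M' : Subgroup G)
    (hM : Nat.card M = 21) (hM' : Nat.card M' = 21) :
    ∃ g : G, M' = M.map (MulAut.conj g).toMonoidHom := by
  haveI : Fact (Nat.Prime 7) := ⟨by norm_num⟩
  obtain ⟨P, hP⟩ := s168_eq_normalizer_of_card h M hM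
  obtain ⟨P', hP'⟩ := s168_eq_normalizer_of_card h M' hM'
  obtain ⟨g, hg⟩ := MulAction.exists_smul_eq G P P'
  refine ⟨g, ?_⟩
  rw [hP', hP, ← normalizer_map_conj, ← sylow_smul_eq_map, hg]

end S168

end Cfsg.Agent.Lib.Helper4
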