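import Mathlib
import Cfsg.Agent.Lib.Helper4.S168g

set_option autoImplicit false
set_option linter.style.haveILetI false
set_option linter.unusedSectionVars false

namespace Cfsg.Agent.Lib.Helper4

open Subgroup

universe u

section Generic

variable {G : Type u} [Group G]

theorem map_conj_inv_map_conj (H : Subgroup G) (g : G) :
    (H.map (MulAut.conj g).toMonoidHom).map (MulAut.conj g⁻¹).toMonoidHom = H := by
  rw [Subgroup.map_map]
  convert Subgroup.map_id H
  ext x
  simp [MulAut.conj_apply, mul_assoc]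

theorem isKleinFour_map_conj {U : Subgroup G} (hU : IsKleinFour U) (g : G) :
    IsKleinFour (U.map (MulAut.conj g).toMonoidHom) :=
  isKleinFour_of_mulEquiv (U.equivMapOfInjective _ (MulAut.conj g).injective) hU

variable [Finite G]

/-- The number of Sylow subgroups of a subgroup containing a Sylow subgroup of `G`. -/
theorem card_sylow_subgroup_eq_relIndex {p : ℕ} [Fact p.Prime] (K : Subgroup G) (Q : Sylow p G)
    (hQK : (Q : Subgroup G) ≤ K) :
    Nat.card (Sylow p K) = (normalizer ((Q : Subgroup G) : Set G)).relIndex K := by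
  have h1 := Sylow.card_eq_index_normalizer (Q.subtype hQK)
  rw [h1, Subgroup.relIndex, Subgroup.subgroupOf_normalizer_eq hQK]
  rfl

theorem relIndex_mul_card_inf (H K : Subgroup G) :
    H.relIndex K * Nat.card (H ⊓ K : Subgroup G) = Nat.card K := by
  have h1 := (H.subgroupOf K).card_mul_index
  have h2 : Nat.card (H.subgroupOf K) = Nat.card (H ⊓ K : Subgroup G) := by
    rw [← Subgroup.inf_subgroupOf_right]
    exact Nat.card_congr (Subgroup.subgroupOfEquivOfLe (inf_le_right : H ⊓ K ≤ K)).toEquiv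
  rw [Subgroup.relIndex, ← h1, h2, mul_comm]

end Generic

section S168

variable {G : Type u} [Group G] [Finite G] [IsSimpleGroup G]

theorem s168_klein_cases (h : Nat.card G = 168) (T : Sylow 2 G) :
    ∃ U₁ U₂ : Subgroup G, U₁ ≤ (T : Subgroup G) ∧ U₂ ≤ (T : Subgroup G) ∧ IsKleinFour U₁ ∧
      IsKleinFour U₂ ∧ U₁ ≠ U₂ ∧
      ∀ U : Subgroup G, U ≤ (T : Subgroup G) → IsKleinFour U → U = U₁ ∨ U = U₂ := by
  obtain ⟨x, y, hxy, huniv⟩ := Nat.card_eq_two_iff.mp (s168_card_klein_in_sylow h T)
  refine ⟨x.1, y.1, x.2.1, y.2.1, x.2.2, y.2.2, fun h0 => hxy (Subtype.ext h0), ?_⟩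
  intro U hUT hU
  have : (⟨U, hUT, hU⟩ : {U : Subgroup G // U ≤ (T : Subgroup G) ∧ IsKleinFour ↥U}) ∈
      ({x, y} : Set _) := by rw [huniv]; trivial
  rcases this with h1 | h1
  · left; exact congrArg Subtype.val h1
  · right; exact congrArg Subtype.val h1

theorem s168_ne_top_of_card (h : Nat.card G = 168) (K : Subgroup G) (n : ℕ)
    (hK : Nat.card K = n) (hn : n ≠ 168) : K ≠ ⊤ := by
  intro h0
  rw [h0, Subgroup.card_top, h] at hK
  exact hn hK.symm

/-- A maximal subgroup is not a `2`-group. -/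
theorem s168_not_isCoatom_of_two_group (h : Nat.card G = 168) (M : Subgroup G) (hM : IsCoatom M)
    (h8 : Nat.card M ∣ 8) : False := by
  obtain ⟨j, -, hj⟩ := (Nat.dvd_prime_pow Nat.prime_two (m := 3)).mp h8
  have hMp : IsPGroup 2 M := IsPGroup.of_card hj
  obtain ⟨T, hT⟩ := hMp.exists_le_sylow
  obtain ⟨U, -, hUT, -, hU, -, -, -⟩ := s168_klein_cases h T
  have hTN : (T : Subgroup G) ≤ normalizer (U : Set G) :=
    le_normalizer_of_card_eq_two_mul hUT (by rw [(s168_card_P2 h T).1, hU.card_four])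
  have hN24 := s168_card_normalizer_klein h U hU
  have hNtop := s168_ne_top_of_card h _ 24 hN24 (by norm_num)
  rcases hM.le_iff.mp (hT.trans hTN) with h1 | h1
  · exact hNtop h1
  · rw [h1] at hN24
    rw [hN24] at h8
    norm_num at h8

/-- A subgroup of order `24` containing a Sylow `3`-subgroup contains its normalizer. -/
theorem s168_normalizer_sylow3_le (h : Nat.card G = 168) (K : Subgroup G) (hK : Nat.card K = 24)
    (Q : Sylow 3 G) (hQK : (Q : Subgroup G) ≤ K) :
    normalizer ((Q : Subgroup G) : Set G) ≤ K := by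
  have hmod : Nat.card (Sylow 3 K) % 3 = 1 := card_sylow_modEq_one 3 K
  rw [card_sylow_subgroup_eq_relIndex K Q hQK] at hmod
  have hmul := relIndex_mul_card_inf (normalizer ((Q : Subgroup G) : Set G)) K
  rw [hK] at hmul
  have hd : Nat.card (normalizer ((Q : Subgroup G) : Set G) ⊓ K : Subgroup G) ∣ 6 := by
    have := Subgroup.card_dvd_of_le
      (inf_le_left : normalizer ((Q : Subgroup G) : Set G) ⊓ K ≤ normalizer ((Q : Subgroup G) : Set G))
    rwa [s168_card_N3 h Q] at this
  have h3 : 3 ∣ Nat.card (normalizer ((Q : Subgroup G) : Set G) ⊓ K : Subgroup G) := by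
    have := Subgroup.card_dvd_of_le (le_inf (le_normalizer) hQK :
      (Q : Subgroup G) ≤ normalizer ((Q : Subgroup G) : Set G) ⊓ K)
    rwa [(s168_card_P3 h Q).1] at this
  have hc6 : Nat.card (normalizer ((Q : Subgroup G) : Set G) ⊓ K : Subgroup G) = 6 := by
    have hle : Nat.card (normalizer ((Q : Subgroup G) : Set G) ⊓ K : Subgroup G) ≤ 6 :=
      Nat.le_of_dvd (by norm_num) hd
    generalize Nat.card (normalizer ((Q : Subgroup G) : Set G) ⊓ K : Subgroup G) = c at *
    generalize (normalizer ((Q : Subgroup G) : Set G)).relIndex K = n at *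
    interval_cases c <;> omega
  have heq : normalizer ((Q : Subgroup G) : Set G) ⊓ K = normalizer ((Q : Subgroup G) : Set G) :=
    Subgroup.eq_of_le_of_card_ge inf_le_left (by rw [hc6, s168_card_N3 h Q])
  rw [← heq]
  exact inf_le_right

/-- Every Sylow `3`-normalizer lies in the normalizer of a four-subgroup. -/
theorem s168_normalizer_sylow3_le_klein (h : Nat.card G = 168) (Q : Sylow 3 G) :
    ∃ U : Subgroup G, IsKleinFour U ∧
      normalizer ((Q : Subgroup G) : Set G) ≤ normalizer (U : Set G) := by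
  obtain ⟨T⟩ : Nonempty (Sylow 2 G) := Sylow.nonempty
  obtain ⟨U₀, -, -, -, hU₀, -, -, -⟩ := s168_klein_cases h T
  have hN24 := s168_card_normalizer_klein h U₀ hU₀
  obtain ⟨y', hy'⟩ := exists_prime_orderOf_dvd_card' (G := normalizer (U₀ : Set G)) 3
    (by rw [hN24]; norm_num)
  have hy : orderOf (y' : G) = 3 := by rw [Subgroup.orderOf_coe, hy']
  obtain ⟨Q₀, hQ₀⟩ := s168_exists_sylow3_eq_zpowers h (y' : G) hy
  have hQ₀N : (Q₀ : Subgroup G) ≤ normalizer (U₀ : Set G) := by
    rw [← hQ₀]; exact zpowers_le.mpr y'.2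
  obtain ⟨g, hg⟩ := MulAction.exists_smul_eq G Q₀ Q
  have hU := isKleinFour_map_conj hU₀ g
  refine ⟨_, hU, ?_⟩
  apply s168_normalizer_sylow3_le h _ (s168_card_normalizer_klein h _ hU) Q
  rw [← hg, sylow_smul_eq_map, normalizer_map_conj]
  exact Subgroup.map_mono hQ₀N

end S168

end Cfsg.Agent.Lib.Helper4
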