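import Mathlib
import Cfsg.Agent.Lib.Helper4.S168h

set_option autoImplicit false
set_option linter.style.haveILetI false
set_option linter.unusedSectionVars false

namespace Cfsg.Agent.Lib.Helper4

open Subgroup

universe u

section S168

variable {G : Type u} [Group G] [Finite G] [IsSimpleGroup G]

/-- A subgroup of order `12` is not maximal. -/
theorem s168_not_isCoatom_twelve (h : Nat.card G = 168) (M : Subgroup G) (hM : IsCoatom M)
    (hM12 : Nat.card M = 12) (Q : Sylow 3 G) (hQM : (Q : Subgroup G) ≤ M)
    (hc : Nat.card (normalizer ((Q : Subgroup G) : Set G) ⊓ M : Subgroup G) = 3) : False := by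
  have hQ3 := (s168_card_P3 h Q).1
  have hinf : normalizer ((Q : Subgroup G) : Set G) ⊓ M = (Q : Subgroup G) := by
    symm
    apply Subgroup.eq_of_le_of_card_ge (le_inf le_normalizer hQM)
    rw [hc, hQ3]
  -- the Sylow subgroup of `M`
  set QM : Sylow 3 M := Q.subtype hQM with hQMdef
  have hQMcoe : (QM : Subgroup M) = (Q : Subgroup G).subgroupOf M := rfl
  have hQMcard : Nat.card (QM : Subgroup M) = 3 := by
    rw [hQMcoe, Nat.card_congr (Subgroup.subgroupOfEquivOfLe hQM).toEquiv, hQ3]
  have hNM : normalizer ((QM : Subgroup M) : Set M) = (QM : Subgroup M) := by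
    rw [hQMcoe, ← Subgroup.subgroupOf_normalizer_eq hQM, ← Subgroup.inf_subgroupOf_right, hinf]
  have hcomm := Cfsg.Agent.Lib.Helper7.comm_of_card_prime (QM : Subgroup M) hQMcard
  have hN : normalizer ((QM : Subgroup M) : Set M) ≤ centralizer ((QM : Subgroup M) : Set M) := by
    rw [hNM]
    intro a ha
    rw [mem_centralizer_iff]
    intro b hb
    exact hcomm b hb a ha
  have hcompl := MonoidHom.ker_transferSylow_isComplement' QM hN
  set V : Subgroup M := (MonoidHom.transferSylow QM hN).ker with hV
  have hVn : V.Normal := MonoidHom.normal_ker _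
  have hVcard : Nat.card V = 4 := by
    have := hcompl.card_mul_card
    rw [hQMcard, hM12] at this
    omega
  -- push to `G`
  have hinj : Function.Injective M.subtype := Subgroup.subtype_injective _
  set V' : Subgroup G := V.map M.subtype with hV'
  have hV'card : Nat.card V' = 4 := by
    rw [← hVcard]
    exact (Nat.card_congr (V.equivMapOfInjective _ hinj).toEquiv).symm
  have hMN : M ≤ normalizer (V' : Set G) := by
    have h1 := Subgroup.le_normalizer_map (H := V) M.subtype
    rw [Subgroup.normalizer_eq_top_iff.mpr hVn, ← MonoidHom.range_eq_map, Subgroup.range_subtype] at h1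
    exact h1
  by_cases hexp : ∀ v ∈ V', v * v = 1
  · -- four-group
    have hK : IsKleinFour V' := by
      apply isKleinFour_of_card_of_sq hV'card
      rintro ⟨v, hv⟩
      exact Subtype.ext (hexp v hv)
    have hN24 := s168_card_normalizer_klein h V' hK
    have hNtop := s168_ne_top_of_card h _ 24 hN24 (by norm_num)
    rcases hM.le_iff.mp hMN with h1 | h1
    · exact hNtop h1
    · rw [h1, hM12] at hN24
      norm_num at hN24
  · -- cyclic
    push Not at hexp
    obtain ⟨u, huV, hu2⟩ := hexp
    have hu4 : orderOf u = 4 := by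
      have h1 : orderOf u ∣ 4 := by
        have := orderOf_dvd_natCard (⟨u, huV⟩ : V')
        rwa [Subgroup.orderOf_mk, hV'card] at this
      have h2 : orderOf u ≠ 1 := by
        intro h0
        rw [orderOf_eq_one_iff] at h0
        apply hu2
        rw [h0, one_mul]
      have h3 : orderOf u ≠ 2 := by
        intro h0
        apply hu2
        rw [← pow_two, ← h0]
        exact pow_orderOf_eq_one u
      have hle : orderOf u ≤ 4 := Nat.le_of_dvd (by norm_num) h1
      have hpos : 0 < orderOf u := orderOf_pos u
      generalize orderOf u = n at *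
      interval_cases n <;> simp_all
    have hVz : zpowers u = V' := by
      apply Subgroup.eq_of_le_of_card_ge (zpowers_le.mpr huV)
      rw [hV'card, Nat.card_zpowers, hu4]
    rw [← hVz] at hMN
    have hC : Nat.card (centralizer ((zpowers u : Subgroup G) : Set G)) = 4 := by
      rw [← centralizer_singleton_eq_centralizer_zpowers]
      exact s168_card_centralizer_four h u hu4
    have hAut : Nat.card (MulAut (zpowers u)) = 2 := by
      rw [IsCyclic.card_mulAut, Nat.card_zpowers, hu4]
      decide
    have hdvd := Cfsg.Agent.Lib.Helper7.relIndex_centralizer_normalizer_dvd (zpowers u)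
    rw [hAut] at hdvd
    have hmul := Cfsg.Agent.Lib.Helper7.card_centralizer_mul_relIndex (zpowers u)
    rw [hC] at hmul
    have h12 : 12 ∣ Nat.card (normalizer ((zpowers u : Subgroup G) : Set G)) := by
      rw [← hM12]; exact Subgroup.card_dvd_of_le hMN
    rw [← hmul] at h12
    have hr : (centralizer ((zpowers u : Subgroup G) : Set G)).relIndex
        (normalizer ((zpowers u : Subgroup G) : Set G)) ≤ 2 := Nat.le_of_dvd (by norm_num) hdvd
    generalize (centralizer ((zpowers u : Subgroup G) : Set G)).relIndex
        (normalizer ((zpowers u : Subgroup G) : Set G)) = r at *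
    interval_cases r <;> omega

/-- A maximal subgroup of order prime to `7` and divisible by `3` has order `24`. -/
theorem s168_card_coatom_of_three_dvd (h : Nat.card G = 168) (M : Subgroup G) (hM : IsCoatom M)
    (h7 : ¬ 7 ∣ Nat.card M) (h3 : 3 ∣ Nat.card M) : Nat.card M = 24 := by
  obtain ⟨y', hy'⟩ := exists_prime_orderOf_dvd_card' (G := M) 3 h3
  have hy : orderOf (y' : G) = 3 := by rw [Subgroup.orderOf_coe, hy']
  obtain ⟨Q, hQ⟩ := s168_exists_sylow3_eq_zpowers h (y' : G) hy
  have hQM : (Q : Subgroup G) ≤ M := by rw [← hQ]; exact zpowers_le.mpr y'.2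
  have hmod : Nat.card (Sylow 3 M) % 3 = 1 := card_sylow_modEq_one 3 M
  rw [card_sylow_subgroup_eq_relIndex M Q hQM] at hmod
  have hmul := relIndex_mul_card_inf (normalizer ((Q : Subgroup G) : Set G)) M
  have hd : Nat.card (normalizer ((Q : Subgroup G) : Set G) ⊓ M : Subgroup G) ∣ 6 := by
    have := Subgroup.card_dvd_of_le
      (inf_le_left : normalizer ((Q : Subgroup G) : Set G) ⊓ M ≤ normalizer ((Q : Subgroup G) : Set G))
    rwa [s168_card_N3 h Q] at this
  have h3' : 3 ∣ Nat.card (normalizer ((Q : Subgroup G) : Set G) ⊓ M : Subgroup G) := by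
    have := Subgroup.card_dvd_of_le (le_inf (le_normalizer) hQM :
      (Q : Subgroup G) ≤ normalizer ((Q : Subgroup G) : Set G) ⊓ M)
    rwa [(s168_card_P3 h Q).1] at this
  have hM24 : Nat.card M ∣ 24 := by
    have h168 : Nat.card M ∣ 24 * 7 := by
      have := Subgroup.card_subgroup_dvd_card M
      rwa [h] at this
    have hc7 : Nat.Coprime (Nat.card M) 7 :=
      ((Nat.Prime.coprime_iff_not_dvd (by norm_num)).mpr h7).symm
    exact hc7.dvd_of_dvd_mul_right h168
  -- the case `n = 1`
  have hn1 : (normalizer ((Q : Subgroup G) : Set G)).relIndex M ≠ 1 := by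
    intro h1
    have hle : M ≤ normalizer ((Q : Subgroup G) : Set G) := Subgroup.relIndex_eq_one.mp h1
    obtain ⟨U, hU, hNU⟩ := s168_normalizer_sylow3_le_klein h Q
    have hN24 := s168_card_normalizer_klein h U hU
    have hNtop := s168_ne_top_of_card h _ 24 hN24 (by norm_num)
    rcases hM.le_iff.mp (hle.trans hNU) with h2 | h2
    · exact hNtop h2
    · have := Subgroup.card_dvd_of_le hle
      rw [← h2, hN24, s168_card_N3 h Q] at this
      norm_num at this
  by_contra hne
  have hle6 : Nat.card (normalizer ((Q : Subgroup G) : Set G) ⊓ M : Subgroup G) ≤ 6 :=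
    Nat.le_of_dvd (by norm_num) hd
  have hle24 : Nat.card M ≤ 24 := Nat.le_of_dvd (by norm_num) hM24
  have hcpos : 0 < Nat.card (normalizer ((Q : Subgroup G) : Set G) ⊓ M : Subgroup G) :=
    Nat.card_pos
  have key : Nat.card M = 12 ∧
      Nat.card (normalizer ((Q : Subgroup G) : Set G) ⊓ M : Subgroup G) = 3 := by
    generalize Nat.card (normalizer ((Q : Subgroup G) : Set G) ⊓ M : Subgroup G) = c at *
    generalize (normalizer ((Q : Subgroup G) : Set G)).relIndex M = n at *
    generalize Nat.card M = k at *
    subst hmul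
    interval_cases c <;> omega
  exact s168_not_isCoatom_twelve h M hM key.1 Q hQM key.2

/-- Orders of maximal subgroups. -/
theorem s168_card_coatom (h : Nat.card G = 168) (M : Subgroup G) (hM : IsCoatom M) :
    Nat.card M = 21 ∨ Nat.card M = 24 := by
  by_cases h7 : 7 ∣ Nat.card M
  · left
    obtain ⟨x, P, hxM, hx, hP, hle⟩ := s168_le_normalizer_of_seven_dvd h M hM.1 h7
    have hN21 := s168_card_N7 h P
    have hNtop := s168_ne_top_of_card h _ 21 hN21 (by norm_num)
    rcases hM.le_iff.mp hle with h1 | h1
    · exact absurd h1 hNtop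
    · rw [← h1]; exact hN21
  · right
    by_cases h3 : 3 ∣ Nat.card M
    · exact s168_card_coatom_of_three_dvd h M hM h7 h3
    · exfalso
      apply s168_not_isCoatom_of_two_group h M hM
      have h168 : Nat.card M ∣ 8 * 21 := by
        have := Subgroup.card_subgroup_dvd_card M
        rwa [h] at this
      have hc7 : Nat.Coprime (Nat.card M) 7 :=
        ((Nat.Prime.coprime_iff_not_dvd (by norm_num)).mpr h7).symm
      have hc3 : Nat.Coprime (Nat.card M) 3 :=
        ((Nat.Prime.coprime_iff_not_dvd (by norm_num)).mpr h3).symm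
      have hc : Nat.Coprime (Nat.card M) 21 := by
        have := Nat.Coprime.mul_right hc3 hc7
        simpa using this
      exact hc.dvd_of_dvd_mul_right h168

theorem s168_mulEquiv_of_card (h : Nat.card G = 168) (M : Subgroup G) (hM : Nat.card M = 24) :
    Nonempty (M ≃* Equiv.Perm (Fin 4)) := by
  apply Cfsg.Agent.S1012.result hM
  intro g hg
  have := s168_orderOf_cases h (g : G)
  rw [Subgroup.orderOf_coe, hg] at this
  norm_num at this

theorem s168_coatom_cases (h : Nat.card G = 168) (M : Subgroup G) (hM : IsCoatom M) :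
    Nonempty (↥M ≃* Equiv.Perm (Fin 4)) ∨ (Nat.card ↥M = 21 ∧ ¬ IsMulCommutative ↥M) := by
  rcases s168_card_coatom h M hM with h1 | h1
  · right; exact ⟨h1, s168_not_comm_of_card h M h1⟩
  · left; exact s168_mulEquiv_of_card h M h1

end S168

end Cfsg.Agent.Lib.Helper4
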