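import Mathlib
import Cfsg.Agent.Lib.Helper4.S168i

set_option autoImplicit false
set_option linter.style.haveILetI false
set_option linter.unusedSectionVars false

namespace Cfsg.Agent.Lib.Helper4

open Subgroup

universe u

section V4

open Equiv

def v4a : Perm (Fin 4) := swap 0 1 * swap 2 3
def v4b : Perm (Fin 4) := swap 0 2 * swap 1 3

theorem v4a_sq : v4a * v4a = 1 := by decide
theorem v4b_sq : v4b * v4b = 1 := by decide
theorem v4_comm : v4a * v4b = v4b * v4a := by decide

set_option maxRecDepth 100000 in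
theorem v4_normal_aux : ∀ g : Perm (Fin 4),
    (g * v4a * g⁻¹ = 1 ∨ g * v4a * g⁻¹ = v4a ∨ g * v4a * g⁻¹ = v4b ∨ g * v4a * g⁻¹ = v4a * v4b) ∧
    (g * v4b * g⁻¹ = 1 ∨ g * v4b * g⁻¹ = v4a ∨ g * v4b * g⁻¹ = v4b ∨ g * v4b * g⁻¹ = v4a * v4b) := by
  decide

/-- The normal four-subgroup of `S₄`. -/
def permV4 : Subgroup (Perm (Fin 4)) := kleinOf v4a v4b v4a_sq v4b_sq v4_comm

theorem permV4_isKleinFour : IsKleinFour permV4 :=
  isKleinFour_kleinOf v4a_sq v4b_sq v4_comm (by decide) (by decide) (by decide)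

theorem permV4_normal : permV4.Normal := by
  refine ⟨fun v hv g => ?_⟩
  have ha : g * v4a * g⁻¹ ∈ permV4 := mem_kleinOf.mpr (v4_normal_aux g).1
  have hb : g * v4b * g⁻¹ ∈ permV4 := mem_kleinOf.mpr (v4_normal_aux g).2
  rcases mem_kleinOf.mp hv with rfl | rfl | rfl | rfl
  · simp only [mul_one, mul_inv_cancel]; exact permV4.one_mem
  · exact ha
  · exact hb
  · have : g * (v4a * v4b) * g⁻¹ = (g * v4a * g⁻¹) * (g * v4b * g⁻¹) := by group
    rw [this]; exact permV4.mul_mem ha hb

/-- A group isomorphic to `S₄` has a normal four-subgroup. -/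
theorem exists_normal_klein_of_mulEquiv {M : Type*} [Group M] (e : M ≃* Perm (Fin 4)) :
    ∃ V : Subgroup M, V.Normal ∧ IsKleinFour V := by
  refine ⟨permV4.map e.symm.toMonoidHom, permV4_normal.map _ e.symm.surjective, ?_⟩
  exact isKleinFour_of_mulEquiv (permV4.equivMapOfInjective _ e.symm.injective) permV4_isKleinFour

end V4

section S168

variable {G : Type u} [Group G] [Finite G] [IsSimpleGroup G]

/-- Subgroups of order `24` are maximal. -/
theorem s168_isCoatom_of_card (h : Nat.card G = 168) (K : Subgroup G) (hK : Nat.card K = 24) :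
    IsCoatom K := by
  refine ⟨s168_ne_top_of_card h K 24 hK (by norm_num), fun b hb => ?_⟩
  have h1 : 24 ∣ Nat.card b := by rw [← hK]; exact Subgroup.card_dvd_of_le hb.le
  have h2 : Nat.card b ∣ 168 := h ▸ Subgroup.card_subgroup_dvd_card b
  have h3 : Nat.card b ≠ 24 := by
    intro h0
    have : K = b := Subgroup.eq_of_le_of_card_ge hb.le (by rw [h0, hK])
    exact hb.ne this
  apply Subgroup.eq_top_of_card_eq
  rw [h]
  have hle : Nat.card b ≤ 168 := Nat.le_of_dvd (by norm_num) h2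
  obtain ⟨k, hk⟩ := h1
  rw [hk] at h2 h3 hle ⊢
  have hk7 : k ≤ 7 := by omega
  interval_cases k <;> omega

/-- A four-subgroup is determined by its normalizer. -/
theorem s168_klein_eq_of_normalizer_eq (h : Nat.card G = 168) (U U' : Subgroup G)
    (hU : IsKleinFour U) (hU' : IsKleinFour U')
    (hN : normalizer (U : Set G) = normalizer (U' : Set G)) : U = U' := by
  by_contra hne
  have hUp : IsPGroup 2 U := IsPGroup.of_card (n := 2) (by rw [hU.card_four]; norm_num)
  have hUp' : IsPGroup 2 U' := IsPGroup.of_card (n := 2) (by rw [hU'.card_four]; norm_num)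
  have hle : U ≤ normalizer (U' : Set G) := by rw [← hN]; exact le_normalizer
  have hsup : IsPGroup 2 (U ⊔ U' : Subgroup G) := IsPGroup.to_sup_of_normal_right' hUp hUp' hle
  obtain ⟨T, hT⟩ := hsup.exists_le_sylow
  have h1 : Nat.card (U ⊔ U' : Subgroup G) ∣ 8 := by
    rw [← (s168_card_P2 h T).1]; exact Subgroup.card_dvd_of_le hT
  have h2 : 4 ∣ Nat.card (U ⊔ U' : Subgroup G) := by
    rw [← hU.card_four]; exact Subgroup.card_dvd_of_le le_sup_left
  have h3 : Nat.card (U ⊔ U' : Subgroup G) ≠ 4 := by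
    intro h0
    have e1 : U = U ⊔ U' := Subgroup.eq_of_le_of_card_ge le_sup_left (by rw [h0, hU.card_four])
    have e2 : U' = U ⊔ U' := Subgroup.eq_of_le_of_card_ge le_sup_right (by rw [h0, hU'.card_four])
    exact hne (e1.trans e2.symm)
  have h8 : Nat.card (U ⊔ U' : Subgroup G) = 8 := by
    have hle8 : Nat.card (U ⊔ U' : Subgroup G) ≤ 8 := Nat.le_of_dvd (by norm_num) h1
    generalize Nat.card (U ⊔ U' : Subgroup G) = n at *
    interval_cases n <;> omega
  have hTeq : U ⊔ U' = (T : Subgroup G) :=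
    Subgroup.eq_of_le_of_card_ge hT (by rw [h8, (s168_card_P2 h T).1])
  have hNT : normalizer (U : Set G) ≤ normalizer ((T : Subgroup G) : Set G) := by
    intro n hn
    have hn' : n ∈ normalizer (U' : Set G) := by rw [← hN]; exact hn
    apply Cfsg.Agent.Lib.Helper17.mem_normalizer_of_map_conj_le
    rw [← hTeq, Subgroup.map_sup]
    apply sup_le_sup
    · exact (Subgroup.mem_normalizer_iff_map_conj_eq.mp hn).le
    · exact (Subgroup.mem_normalizer_iff_map_conj_eq.mp hn').le
  rw [s168_normalizer_sylow2 h T] at hNT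
  have := Subgroup.card_le_of_le hNT
  rw [s168_card_normalizer_klein h U hU, (s168_card_P2 h T).1] at this
  norm_num at this

/-- A subgroup isomorphic to `S₄` is the normalizer of a four-subgroup. -/
theorem s168_eq_normalizer_klein (h : Nat.card G = 168) (M : Subgroup G)
    (e : M ≃* Equiv.Perm (Fin 4)) :
    ∃ K : Subgroup G, IsKleinFour K ∧ M = normalizer (K : Set G) := by
  obtain ⟨V, hVn, hVK⟩ := exists_normal_klein_of_mulEquiv e
  have hinj : Function.Injective M.subtype := Subgroup.subtype_injective _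
  have hK : IsKleinFour (V.map M.subtype) :=
    isKleinFour_of_mulEquiv (V.equivMapOfInjective _ hinj) hVK
  refine ⟨V.map M.subtype, hK, ?_⟩
  have hMN : M ≤ normalizer ((V.map M.subtype : Subgroup G) : Set G) := by
    have h1 := Subgroup.le_normalizer_map (H := V) M.subtype
    rw [Subgroup.normalizer_eq_top_iff.mpr hVn, ← MonoidHom.range_eq_map, Subgroup.range_subtype] at h1
    exact h1
  apply Subgroup.eq_of_le_of_card_ge hMN
  rw [s168_card_normalizer_klein h _ hK, Nat.card_congr e.toEquiv, Nat.card_perm]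
  simp [Nat.factorial]

/-- Every four-subgroup is conjugate into a given Sylow `2`-subgroup. -/
theorem s168_klein_conj_le (h : Nat.card G = 168) (T : Sylow 2 G) (K : Subgroup G)
    (hK : IsKleinFour K) : ∃ g : G, K.map (MulAut.conj g).toMonoidHom ≤ (T : Subgroup G) := by
  have hKp : IsPGroup 2 K := IsPGroup.of_card (n := 2) (by rw [hK.card_four]; norm_num)
  obtain ⟨T', hT'⟩ := hKp.exists_le_sylow
  obtain ⟨g, hg⟩ := MulAction.exists_smul_eq G T' T
  refine ⟨g, ?_⟩
  rw [← hg, sylow_smul_eq_map]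
  exact Subgroup.map_mono hT'

theorem s168_coatom_main (h : Nat.card G = 168) :
    (∀ M : Subgroup G, IsCoatom M → Nonempty (↥M ≃* Equiv.Perm (Fin 4)) ∨
      (Nat.card ↥M = 21 ∧ ¬ IsMulCommutative ↥M)) ∧
    (∀ M M' : Subgroup G, IsCoatom M → IsCoatom M' → Nat.card ↥M = 21 → Nat.card ↥M' = 21 →
      ∃ g : G, M' = M.map (MulAut.conj g).toMonoidHom) ∧
    ∃ M₁ M₂ : Subgroup G, IsCoatom M₁ ∧ IsCoatom M₂ ∧ Nonempty (↥M₁ ≃* Equiv.Perm (Fin 4)) ∧
      Nonempty (↥M₂ ≃* Equiv.Perm (Fin 4)) ∧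
      (∀ g : G, M₂ ≠ M₁.map (MulAut.conj g).toMonoidHom) ∧
      ∀ M : Subgroup G, IsCoatom M → Nonempty (↥M ≃* Equiv.Perm (Fin 4)) →
        ∃ g : G, M = M₁.map (MulAut.conj g).toMonoidHom ∨
          M = M₂.map (MulAut.conj g).toMonoidHom := by
  refine ⟨fun M hM => s168_coatom_cases h M hM,
    fun M M' _ _ hM hM' => s168_conj_of_card h M M' hM hM', ?_⟩
  obtain ⟨T⟩ : Nonempty (Sylow 2 G) := Sylow.nonempty
  obtain ⟨U₁, U₂, hU₁T, hU₂T, hU₁, hU₂, hne, hall⟩ := s168_klein_cases h T
  have hc1 := s168_card_normalizer_klein h U₁ hU₁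
  have hc2 := s168_card_normalizer_klein h U₂ hU₂
  refine ⟨normalizer (U₁ : Set G), normalizer (U₂ : Set G), s168_isCoatom_of_card h _ hc1,
    s168_isCoatom_of_card h _ hc2, s168_normalizer_klein h U₁ hU₁, s168_normalizer_klein h U₂ hU₂,
    ?_, ?_⟩
  · intro g h0
    rw [← normalizer_map_conj] at h0
    have := s168_klein_eq_of_normalizer_eq h _ _ hU₂ (isKleinFour_map_conj hU₁ g) h0
    exact s168_klein_not_conj h T U₁ U₂ hU₁T hU₂T hU₁ hU₂ hne g this.symm
  · intro M _ ⟨e⟩
    obtain ⟨K, hK, hMK⟩ := s168_eq_normalizer_klein h M e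
    obtain ⟨g, hg⟩ := s168_klein_conj_le h T K hK
    refine ⟨g⁻¹, ?_⟩
    have hKg := isKleinFour_map_conj hK g
    have hMg : M.map (MulAut.conj g).toMonoidHom =
        normalizer ((K.map (MulAut.conj g).toMonoidHom : Subgroup G) : Set G) := by
      rw [normalizer_map_conj, hMK]
    have hM' : M = (M.map (MulAut.conj g).toMonoidHom).map (MulAut.conj g⁻¹).toMonoidHom :=
      (map_conj_inv_map_conj M g).symm
    rcases hall _ hg hKg with h1 | h1
    · left
      rw [hM', hMg, h1]
    · right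
      rw [hM', hMg, h1]

end S168

end Cfsg.Agent.Lib.Helper4
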