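import Mathlib

set_option autoImplicit false

namespace Cfsg.Agent.Lib.Helper4

/-- The projective line over `𝔽₇`. -/
abbrev L8 := Option (ZMod 7)

def u168x : Equiv.Perm L8 := Equiv.optionCongr (Equiv.addRight (1 : ZMod 7))

def u168y : Equiv.Perm L8 :=
  Equiv.optionCongr ⟨fun z => 2 * z, fun z => 4 * z, by decide, by decide⟩

def u168tf (a : ZMod 7) : L8 → L8
  | none => some 0
  | some z => if z = 0 then none else some (a * z ^ 5)

theorem u168tf_invol3 : Function.Involutive (u168tf 3) := by
  unfold Function.Involutive; decide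
theorem u168tf_invol5 : Function.Involutive (u168tf 5) := by
  unfold Function.Involutive; decide
theorem u168tf_invol6 : Function.Involutive (u168tf 6) := by
  unfold Function.Involutive; decide

def u168t3 : Equiv.Perm L8 := Function.Involutive.toPerm (u168tf 3) u168tf_invol3
def u168t5 : Equiv.Perm L8 := Function.Involutive.toPerm (u168tf 5) u168tf_invol5
def u168t6 : Equiv.Perm L8 := Function.Involutive.toPerm (u168tf 6) u168tf_invol6

theorem u168x_none : u168x none = none := rfl
theorem u168x_some (z : ZMod 7) : u168x (some z) = some (z + 1) := rfl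
theorem u168y_none : u168y none = none := rfl
theorem u168y_some (z : ZMod 7) : u168y (some z) = some (2 * z) := rfl

theorem u168t3_eq : u168t3 = u168t6 * u168y := by decide
theorem u168t5_eq : u168t5 = u168t6 * u168y * u168y := by decide

/-- The concrete simple group of order `168`. -/
def u168C : Subgroup (Equiv.Perm L8) := Subgroup.closure {u168x, u168y, u168t6}

theorem u168_closure3 : Subgroup.closure ({u168x, u168y, u168t3} : Set (Equiv.Perm L8)) = u168C := by
  apply le_antisymm
  · rw [Subgroup.closure_le]
    rintro g (rfl | rfl | rfl)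
    · exact Subgroup.subset_closure (by simp)
    · exact Subgroup.subset_closure (by simp)
    · rw [u168t3_eq]
      exact Subgroup.mul_mem _ (Subgroup.subset_closure (by simp)) (Subgroup.subset_closure (by simp))
  · rw [u168C, Subgroup.closure_le]
    rintro g (rfl | rfl | rfl)
    · exact Subgroup.subset_closure (by simp)
    · exact Subgroup.subset_closure (by simp)
    · have : u168t6 = u168t3 * u168y⁻¹ := by rw [u168t3_eq]; group
      rw [this]
      exact Subgroup.mul_mem _ (Subgroup.subset_closure (by simp))
        (Subgroup.inv_mem _ (Subgroup.subset_closure (by simp)))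

theorem u168_closure5 : Subgroup.closure ({u168x, u168y, u168t5} : Set (Equiv.Perm L8)) = u168C := by
  apply le_antisymm
  · rw [Subgroup.closure_le]
    rintro g (rfl | rfl | rfl)
    · exact Subgroup.subset_closure (by simp)
    · exact Subgroup.subset_closure (by simp)
    · rw [u168t5_eq]
      exact Subgroup.mul_mem _ (Subgroup.mul_mem _ (Subgroup.subset_closure (by simp))
        (Subgroup.subset_closure (by simp))) (Subgroup.subset_closure (by simp))
  · rw [u168C, Subgroup.closure_le]
    rintro g (rfl | rfl | rfl)
    · exact Subgroup.subset_closure (by simp)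
    · exact Subgroup.subset_closure (by simp)
    · have : u168t6 = u168t5 * u168y⁻¹ * u168y⁻¹ := by rw [u168t5_eq]; group
      rw [this]
      exact Subgroup.mul_mem _ (Subgroup.mul_mem _ (Subgroup.subset_closure (by simp))
        (Subgroup.inv_mem _ (Subgroup.subset_closure (by simp))))
        (Subgroup.inv_mem _ (Subgroup.subset_closure (by simp)))

theorem u168y_inv : u168y⁻¹ = u168y * u168y := by decide

theorem u168y_inv_some (w : ZMod 7) : u168y⁻¹ (some w) = some (4 * w) := by
  rw [u168y_inv, Equiv.Perm.mul_apply, u168y_some, u168y_some, ← mul_assoc]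
  rfl

theorem u168y_fixed : ∀ l : L8, u168y l = l → l = none ∨ l = some 0 := by decide

theorem u168x_ne_one : u168x ≠ 1 := by decide

/-- An involution is determined by its values on `∞, 0, 1, 2, 4`. -/
theorem u168_tau_eq (τ : Equiv.Perm L8) (a : ZMod 7) (σ : Equiv.Perm L8)
    (hinv : ∀ l, τ (τ l) = l)
    (h0 : τ none = some 0) (v1 : τ (some 1) = some a) (v2 : τ (some 2) = some (4 * a))
    (v4 : τ (some 4) = some (2 * a))
    (s0 : σ none = some 0) (s0' : σ (some 0) = none) (s1 : σ (some 1) = some a)
    (s2 : σ (some 2) = some (4 * a)) (s4 : σ (some 4) = some (2 * a))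
    (sa : σ (some a) = some 1) (s4a : σ (some (4 * a)) = some 2) (s2a : σ (some (2 * a)) = some 4)
    (hcover : ∀ z : ZMod 7, z = 0 ∨ z = 1 ∨ z = 2 ∨ z = 4 ∨ z = a ∨ z = 4 * a ∨ z = 2 * a) :
    τ = σ := by
  ext l
  rcases l with _ | z
  · rw [h0, s0]
  · rcases hcover z with rfl | rfl | rfl | rfl | rfl | rfl | rfl
    · rw [s0', ← h0, hinv]
    · rw [v1, s1]
    · rw [v2, s2]
    · rw [v4, s4]
    · rw [sa, ← v1, hinv]
    · rw [s4a, ← v2, hinv]
    · rw [s2a, ← v4, hinv]

theorem u168_tau_cases (τ : Equiv.Perm L8) (h2 : τ * τ = 1)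
    (hy : τ * u168y * τ⁻¹ = u168y⁻¹) (hfix : ∀ l, τ l ≠ l) :
    τ = u168t3 ∨ τ = u168t5 ∨ τ = u168t6 := by
  have hinv : ∀ l, τ (τ l) = l := by
    intro l
    have := congrArg (fun σ : Equiv.Perm L8 => σ l) h2
    simpa using this
  have hcomm : ∀ l, τ (u168y l) = u168y⁻¹ (τ l) := by
    intro l
    have h3 : τ * u168y = u168y⁻¹ * τ := by rw [← hy]; group
    have := congrArg (fun σ : Equiv.Perm L8 => σ l) h3
    simpa using this
  -- τ none = some 0
  have h0 : τ none = some 0 := by
    have h4 : u168y (τ none) = τ none := by
      have := hcomm none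
      rw [u168y_none] at this
      exact Equiv.Perm.eq_inv_iff_eq.mp this
    rcases u168y_fixed _ h4 with h5 | h5
    · exact absurd h5 (hfix none)
    · exact h5
  have h0' : τ (some 0) = none := by rw [← h0, hinv]
  -- τ (some 1) = some a
  obtain ⟨a, ha⟩ : ∃ a, τ (some 1) = some a := by
    rcases hτ1 : τ (some 1) with _ | a
    · exfalso
      have := τ.injective (hτ1.trans h0'.symm)
      revert this; decide
    · exact ⟨a, rfl⟩
  have ha0 : a ≠ 0 := by
    intro h5
    rw [h5, ← h0] at ha
    have := τ.injective ha
    revert this; decide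
  have ha1 : a ≠ 1 := by
    intro h5
    rw [h5] at ha
    exact hfix _ ha
  have v2 : τ (some 2) = some (4 * a) := by
    have := hcomm (some 1)
    rw [u168y_some, ha, u168y_inv_some] at this
    exact this
  have v4 : τ (some 4) = some (2 * a) := by
    have := hcomm (some 2)
    rw [u168y_some, v2, u168y_inv_some] at this
    have e : (4 : ZMod 7) * (4 * a) = 2 * a := by
      rw [← mul_assoc]; congr 1
    rw [e] at this
    exact this
  -- case analysis on `a`
  have hcases : a = 2 ∨ a = 3 ∨ a = 4 ∨ a = 5 ∨ a = 6 := by
    revert ha0 ha1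
    generalize a = b
    revert b
    decide
  rcases hcases with rfl | rfl | rfl | rfl | rfl
  · exfalso
    exact hfix _ v4
  · left
    exact u168_tau_eq τ 3 u168t3 hinv h0 ha v2 v4 (by decide) (by decide) (by decide) (by decide)
      (by decide) (by decide) (by decide) (by decide) (by decide)
  · exfalso
    exact hfix _ v2
  · right; left
    exact u168_tau_eq τ 5 u168t5 hinv h0 ha v2 v4 (by decide) (by decide) (by decide) (by decide)
      (by decide) (by decide) (by decide) (by decide) (by decide)
  · right; right
    exact u168_tau_eq τ 6 u168t6 hinv h0 ha v2 v4 (by decide) (by decide) (by decide) (by decide)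
      (by decide) (by decide) (by decide) (by decide) (by decide)

end Cfsg.Agent.Lib.Helper4
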