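import Mathlib
import Cfsg.Agent.Lib.Helper4.S168j
import Cfsg.Agent.Lib.Helper4.U168a

set_option autoImplicit false
set_option linter.style.haveILetI false
set_option linter.unusedSectionVars false

namespace Cfsg.Agent.Lib.Helper4

open Subgroup

universe u

theorem exists_pow_of_mem_zpowers {G : Type u} [Group G] {x c : G} {n : ℕ} (hn : 0 < n)
    (hx : orderOf x = n) (hc : c ∈ zpowers x) : ∃ k < n, x ^ k = c := by
  obtain ⟨k, rfl⟩ := mem_zpowers_iff.mp hc
  have h1 : 0 ≤ k % (n : ℤ) := Int.emod_nonneg _ (by omega)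
  have h2 : k % (n : ℤ) < n := Int.emod_lt_of_pos _ (by omega)
  refine ⟨(k % (n : ℤ)).toNat, by omega, ?_⟩
  rw [← zpow_natCast, Int.toNat_of_nonneg h1, ← hx, zpow_mod_orderOf]

section S168

variable {G : Type u} [Group G] [Finite G] [IsSimpleGroup G]

theorem s168_exists_y (h : Nat.card G = 168) (x : G) (hx : orderOf x = 7) (P : Sylow 7 G)
    (hP : zpowers x = (P : Subgroup G)) :
    ∃ y : G, orderOf y = 3 ∧ y * x * y⁻¹ = x ^ 2 := by
  haveI : Fact (Nat.Prime 7) := ⟨by norm_num⟩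
  have hN21 := s168_card_N7 h P
  obtain ⟨y', hy'⟩ := exists_prime_orderOf_dvd_card'
    (G := normalizer ((P : Subgroup G) : Set G)) 3 (by rw [hN21]; norm_num)
  obtain ⟨y₁, hy₁N⟩ := y'
  have hy₁ : orderOf y₁ = 3 := by rw [← hy', Subgroup.orderOf_mk]
  have hx7 : x ^ 7 = 1 := by rw [← hx]; exact pow_orderOf_eq_one x
  have hy3 : y₁ ^ 3 = 1 := by rw [← hy₁]; exact pow_orderOf_eq_one y₁
  have hc : y₁ * x * y₁⁻¹ ∈ zpowers x := by
    rw [hP]
    exact Cfsg.Agent.Lib.Helper17.conj_mem_of_mem_normalizer hy₁N (hP ▸ mem_zpowers x)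
  obtain ⟨k, hk7, hk⟩ : ∃ k < 7, x ^ k = y₁ * x * y₁⁻¹ :=
    exists_pow_of_mem_zpowers (by norm_num) hx hc
  have hconj : ∀ n : ℕ, y₁ * x ^ n * y₁⁻¹ = x ^ (k * n) := by
    intro n; rw [← conj_pow, ← hk, ← pow_mul]
  have h3 : x = x ^ (k * (k * k)) := by
    have e1 : y₁ * (y₁ * (y₁ * x * y₁⁻¹) * y₁⁻¹) * y₁⁻¹ = x := by
      have : y₁ * (y₁ * (y₁ * x * y₁⁻¹) * y₁⁻¹) * y₁⁻¹ = y₁ ^ 3 * x * (y₁ ^ 3)⁻¹ := by
        simp only [pow_succ, pow_zero, one_mul, mul_inv_rev, mul_assoc]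
      rw [this, hy3]; group
    rw [← hk, hconj, hconj] at e1
    exact e1.symm
  have hmod : k * (k * k) % 7 = 1 := by
    have h4 : x ^ 1 = x ^ (k * (k * k)) := by rw [pow_one]; exact h3
    have h5 := (pow_eq_pow_iff_modEq (x := x)).mp h4
    rw [hx] at h5
    exact h5.symm
  interval_cases k
  · omega
  · exfalso
    rw [pow_one] at hk
    have hcomm : y₁ * x = x * y₁ := by
      have := congrArg (fun g => g * y₁) hk
      simp only [inv_mul_cancel_right] at this
      exact this.symm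
    have hyC : y₁ ∈ centralizer ({x} : Set G) := by
      rw [mem_centralizer_singleton_iff]; exact hcomm
    rw [s168_cent7 h x hx] at hyC
    have := orderOf_dvd_natCard (⟨y₁, hyC⟩ : zpowers x)
    rw [Subgroup.orderOf_mk, Nat.card_zpowers, hx, hy₁] at this
    norm_num at this
  · exact ⟨y₁, hy₁, hk.symm⟩
  · omega
  · refine ⟨y₁ ^ 2, ?_, ?_⟩
    · rw [Nat.Coprime.orderOf_pow (by rw [hy₁]; norm_num), hy₁]
    · have e1 : y₁ ^ 2 * x * (y₁ ^ 2)⁻¹ = y₁ * (y₁ * x * y₁⁻¹) * y₁⁻¹ := by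
        simp only [pow_succ, pow_zero, one_mul, mul_inv_rev, mul_assoc]
      rw [e1, ← hk, hconj]
      rw [pow_eq_pow_mod (4 * 4) hx7]
  · omega
  · omega

theorem s168_exists_fixed (h : Nat.card G = 168) (y : G) (hy : orderOf y = 3) (P : Sylow 7 G) :
    ∃ P₀ : Sylow 7 G, P₀ ≠ P ∧ y • P₀ = P₀ := by
  haveI : Fact (Nat.Prime 7) := ⟨by norm_num⟩
  haveI : Fact (Nat.Prime 3) := ⟨Nat.prime_three⟩
  have hp : IsPGroup 3 (zpowers y) :=
    IsPGroup.of_card (n := 1) (by rw [Nat.card_zpowers, hy, pow_one])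
  have hmod := hp.card_modEq_card_fixedPoints (Sylow 7 G)
  rw [s168_card_sylow7 h] at hmod
  by_contra hcon
  push Not at hcon
  have hsub : MulAction.fixedPoints (zpowers y) (Sylow 7 G) ⊆ {P} := by
    intro R hR
    by_contra hRP
    exact hcon R hRP (hR ⟨y, mem_zpowers y⟩)
  have hle : Nat.card (MulAction.fixedPoints (zpowers y) (Sylow 7 G)) ≤ 1 := by
    rw [Nat.card_coe_set_eq]
    exact (Set.ncard_le_ncard hsub).trans (by simp)
  unfold Nat.ModEq at hmod
  omega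

theorem s168_exists_t (h : Nat.card G = 168) (y : G) (hy : orderOf y = 3) :
    ∃ t : G, orderOf t = 2 ∧ t * y * t⁻¹ = y⁻¹ := by
  obtain ⟨Q, hQ⟩ := s168_exists_sylow3_eq_zpowers h y hy
  have hN6 := s168_card_N3 h Q
  obtain ⟨t', ht'⟩ := exists_prime_orderOf_dvd_card'
    (G := normalizer ((Q : Subgroup G) : Set G)) 2 (by rw [hN6]; norm_num)
  obtain ⟨t, htN⟩ := t'
  have ht : orderOf t = 2 := by rw [← ht', Subgroup.orderOf_mk]
  refine ⟨t, ht, ?_⟩
  have hy3 : y ^ 3 = 1 := by rw [← hy]; exact pow_orderOf_eq_one y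
  have hc : t * y * t⁻¹ ∈ zpowers y := by
    rw [hQ]
    exact Cfsg.Agent.Lib.Helper17.conj_mem_of_mem_normalizer htN (hQ ▸ mem_zpowers y)
  obtain ⟨k, hk3, hk⟩ : ∃ k < 3, y ^ k = t * y * t⁻¹ :=
    exists_pow_of_mem_zpowers (by norm_num) hy hc
  have hco : orderOf (t * y * t⁻¹) = 3 := by
    have := (MulAut.conj t).orderOf_eq y
    rw [MulAut.conj_apply] at this
    rw [this, hy]
  interval_cases k
  · exfalso
    rw [pow_zero] at hk
    rw [← hk, orderOf_one] at hco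
    norm_num at hco
  · exfalso
    rw [pow_one] at hk
    have hcomm : t * y = y * t := by
      have := congrArg (fun g => g * t) hk
      simp only [inv_mul_cancel_right] at this
      exact this.symm
    have htC : t ∈ centralizer ({y} : Set G) := by
      rw [mem_centralizer_singleton_iff]; exact hcomm
    rw [s168_cent3 h y hy] at htC
    have := orderOf_dvd_natCard (⟨t, htC⟩ : zpowers y)
    rw [Subgroup.orderOf_mk, Nat.card_zpowers, hy, ht] at this
    norm_num at this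
  · rw [← hk, eq_inv_iff_mul_eq_one, ← pow_succ]
    exact hy3

end S168

end Cfsg.Agent.Lib.Helper4
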