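import Mathlib
import Cfsg.Agent.Lib.Helper4.U168b

set_option autoImplicit false
set_option linter.style.haveILetI false
set_option linter.unusedSectionVars false

namespace Cfsg.Agent.Lib.Helper4

open Subgroup

universe u

section S168

variable {G : Type u} [Group G] [Finite G] [IsSimpleGroup G]

/-- The labelling of the Sylow `7`-subgroups by the projective line. -/
def u168ι (x : G) (P P₀ : Sylow 7 G) : L8 → Sylow 7 G
  | none => P
  | some z => x ^ z.val • P₀

theorem u168ι_none (x : G) (P P₀ : Sylow 7 G) : u168ι x P P₀ none = P := rfl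
theorem u168ι_some (x : G) (P P₀ : Sylow 7 G) (z : ZMod 7) :
    u168ι x P P₀ (some z) = x ^ z.val • P₀ := rfl

theorem u168_pow_smul_inj (h : Nat.card G = 168) (x : G) (hx : orderOf x = 7) (P P₀ : Sylow 7 G)
    (hP : zpowers x = (P : Subgroup G)) (hP₀ : P₀ ≠ P) (m n : ℕ)
    (hmn : x ^ m • P₀ = x ^ n • P₀) : x ^ m = x ^ n := by
  haveI : Fact (Nat.Prime 7) := ⟨by norm_num⟩
  by_contra hne
  have h1 : ((x ^ n)⁻¹ * x ^ m) • P₀ = P₀ := by
    rw [mul_smul, hmn, inv_smul_smul]
  rw [Sylow.smul_eq_iff_mem_normalizer] at h1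
  have hc1 : (x ^ n)⁻¹ * x ^ m ≠ 1 := by
    intro h0
    exact hne (inv_mul_eq_one.mp h0).symm
  have hcP : (x ^ n)⁻¹ * x ^ m ∈ zpowers x :=
    Subgroup.mul_mem _ (Subgroup.inv_mem _ (Subgroup.pow_mem _ (mem_zpowers x) n))
      (Subgroup.pow_mem _ (mem_zpowers x) m)
  have hxc : x ∈ zpowers ((x ^ n)⁻¹ * x ^ m) :=
    psc_mem_zpowers_of_ne_one (by norm_num) hx hcP hc1
  have hxN : x ∈ normalizer ((P₀ : Subgroup G) : Set G) := (zpowers_le.mpr h1) hxc
  have hle : (P : Subgroup G) ≤ normalizer ((P₀ : Subgroup G) : Set G) := by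
    rw [← hP]; exact zpowers_le.mpr hxN
  exact hP₀ (sylow_eq_of_le_normalizer P P₀ hle).symm

theorem u168ι_bijective (h : Nat.card G = 168) (x : G) (hx : orderOf x = 7) (P P₀ : Sylow 7 G)
    (hP : zpowers x = (P : Subgroup G)) (hP₀ : P₀ ≠ P) :
    Function.Bijective (u168ι x P P₀) := by
  haveI : Fact (Nat.Prime 7) := ⟨by norm_num⟩
  have hne : ∀ m : ℕ, x ^ m • P₀ ≠ P := by
    intro m h0
    apply hP₀
    have hxm : x ^ m ∈ (P : Subgroup G) := by
      rw [← hP]; exact Subgroup.pow_mem _ (mem_zpowers x) m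
    have h1 : (x ^ m)⁻¹ • P = P :=
      Sylow.smul_eq_iff_mem_normalizer.mpr (le_normalizer (Subgroup.inv_mem _ hxm))
    have h2 : P₀ = (x ^ m)⁻¹ • P := by
      have := congrArg (fun R : Sylow 7 G => (x ^ m)⁻¹ • R) h0
      simp only [inv_smul_smul] at this
      exact this
    exact h2.trans h1
  have hinj : Function.Injective (u168ι x P P₀) := by
    rintro (_ | z) (_ | w) hzw
    · rfl
    · exact absurd hzw.symm (hne _)
    · exact absurd hzw (hne _)
    · have h1 := u168_pow_smul_inj h x hx P P₀ hP hP₀ _ _ hzw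
      have h2 := (pow_eq_pow_iff_modEq (x := x)).mp h1
      rw [hx] at h2
      have h3 : z.val = w.val := by
        have hz := ZMod.val_lt z
        have hw := ZMod.val_lt w
        unfold Nat.ModEq at h2
        omega
      rw [ZMod.val_injective 7 h3]
  apply hinj.bijective_of_nat_card_le
  rw [s168_card_sylow7 h, Nat.card_eq_fintype_card, Fintype.card_option, ZMod.card]

variable (G) in
/-- The permutation representation on labels. -/
noncomputable def u168ρ (e : L8 ≃ Sylow 7 G) : G →* Equiv.Perm L8 :=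
  (e.symm.permCongrHom).toMonoidHom.comp (MulAction.toPermHom G (Sylow 7 G))

theorem u168ρ_apply (e : L8 ≃ Sylow 7 G) (g : G) (l : L8) :
    u168ρ G e g l = e.symm (g • e l) := rfl

theorem u168ρ_eq (e : L8 ≃ Sylow 7 G) (g : G) (σ : Equiv.Perm L8)
    (hσ : ∀ l, g • e l = e (σ l)) : u168ρ G e g = σ := by
  ext l
  rw [u168ρ_apply, hσ, Equiv.symm_apply_apply]

theorem s168_closure_eq_top (h : Nat.card G = 168) (x y t : G) (hx : orderOf x = 7)
    (hy : orderOf y = 3) (ht : orderOf t = 2) : closure ({x, y, t} : Set G) = ⊤ := by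
  by_contra hne
  have hxC : x ∈ closure ({x, y, t} : Set G) := subset_closure (by simp)
  have hyC : y ∈ closure ({x, y, t} : Set G) := subset_closure (by simp)
  have htC : t ∈ closure ({x, y, t} : Set G) := subset_closure (by simp)
  have h7 : 7 ∣ Nat.card (closure ({x, y, t} : Set G)) := by
    have := orderOf_dvd_natCard (⟨x, hxC⟩ : closure ({x, y, t} : Set G))
    rwa [Subgroup.orderOf_mk, hx] at this
  have h3 : 3 ∣ Nat.card (closure ({x, y, t} : Set G)) := by
    have := orderOf_dvd_natCard (⟨y, hyC⟩ : closure ({x, y, t} : Set G))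
    rwa [Subgroup.orderOf_mk, hy] at this
  have h2 : 2 ∣ Nat.card (closure ({x, y, t} : Set G)) := by
    have := orderOf_dvd_natCard (⟨t, htC⟩ : closure ({x, y, t} : Set G))
    rwa [Subgroup.orderOf_mk, ht] at this
  have hmul := (closure ({x, y, t} : Set G)).card_mul_index
  rw [h] at hmul
  have hidx : (closure ({x, y, t} : Set G)).index ≤ 4 := by
    have h42 : 42 ∣ Nat.card (closure ({x, y, t} : Set G)) := by omega
    obtain ⟨m, hm⟩ := h42
    rw [hm] at hmul
    have : m * (closure ({x, y, t} : Set G)).index = 4 := by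
      have : 42 * (m * (closure ({x, y, t} : Set G)).index) = 42 * 4 := by
        rw [← mul_assoc, hmul]
      omega
    exact Nat.le_of_dvd (by norm_num) ⟨m, by rw [← this, mul_comm]⟩
  have := Cfsg.Agent.Lib.Helper7.card_dvd_factorial_of_index_le _ hne hidx
  rw [h] at this
  revert this
  decide

/-- Every simple group of order `168` is isomorphic to the concrete group `u168C`. -/
theorem u168_unique (h : Nat.card G = 168) : Nonempty (G ≃* u168C) := by
  haveI : Fact (Nat.Prime 7) := ⟨by norm_num⟩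
  obtain ⟨x, hx⟩ := exists_prime_orderOf_dvd_card' (G := G) 7 (by rw [h]; norm_num)
  obtain ⟨P, hP⟩ := s168_exists_sylow7_eq_zpowers h x hx
  obtain ⟨y, hy, hyx⟩ := s168_exists_y h x hx P hP
  obtain ⟨P₀, hP₀, hyP₀⟩ := s168_exists_fixed h y hy P
  obtain ⟨t, ht, hty⟩ := s168_exists_t h y hy
  have hx7 : x ^ 7 = 1 := by rw [← hx]; exact pow_orderOf_eq_one x
  set e : L8 ≃ Sylow 7 G := Equiv.ofBijective _ (u168ι_bijective h x hx P P₀ hP hP₀) with he
  have he_none : e none = P := rfl
  have he_some : ∀ z : ZMod 7, e (some z) = x ^ z.val • P₀ := fun z => rfl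
  have hxP : x ∈ (P : Subgroup G) := hP ▸ mem_zpowers x
  have hxsP : x • P = P := Sylow.smul_eq_iff_mem_normalizer.mpr (le_normalizer hxP)
  have hyN : y ∈ normalizer ((P : Subgroup G) : Set G) := by
    rw [← hP]
    apply Cfsg.Agent.Lib.Helper17.mem_normalizer_of_forall_conj_mem
    intro c hc
    obtain ⟨k, rfl⟩ := mem_zpowers_iff.mp hc
    rw [← conj_zpow, hyx]
    exact Subgroup.zpow_mem _ (Subgroup.pow_mem _ (mem_zpowers x) 2) k
  have hysP : y • P = P := Sylow.smul_eq_iff_mem_normalizer.mpr hyN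
  have hρx : u168ρ G e x = u168x := by
    apply u168ρ_eq
    rintro (_ | z)
    · rw [u168x_none, he_none]; exact hxsP
    · rw [u168x_some, he_some, he_some, ← mul_smul, ← pow_succ']
      congr 1
      have h1 : (z + 1).val = (z.val + 1) % 7 := by
        rw [ZMod.val_add]; rfl
      rw [h1, ← pow_eq_pow_mod _ hx7]
  have hρy : u168ρ G e y = u168y := by
    apply u168ρ_eq
    rintro (_ | z)
    · rw [u168y_none, he_none]; exact hysP
    · rw [u168y_some, he_some, he_some]
      have e1 : y • x ^ z.val • P₀ = (y * x ^ z.val * y⁻¹) • y • P₀ := by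
        rw [← mul_smul, ← mul_smul]; congr 1; group
      rw [e1, hyP₀, ← conj_pow, hyx, ← pow_mul]
      congr 1
      have h1 : (2 * z).val = (2 * z.val) % 7 := by
        rw [ZMod.val_mul]; rfl
      rw [h1, ← pow_eq_pow_mod _ hx7]
  set τ := u168ρ G e t with hτ
  have ht2 : t * t = 1 := by rw [← pow_two, ← ht]; exact pow_orderOf_eq_one t
  have hτ2 : τ * τ = 1 := by rw [hτ, ← map_mul, ht2, map_one]
  have hτy : τ * u168y * τ⁻¹ = u168y⁻¹ := by
    rw [hτ, ← hρy, ← map_inv, ← map_mul, ← map_mul, hty, map_inv]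
  have hτfix : ∀ l, τ l ≠ l := by
    intro l h0
    rw [hτ, u168ρ_apply] at h0
    have h1 : t • e l = e l := by
      have := congrArg e h0
      rwa [Equiv.apply_symm_apply] at this
    rw [Sylow.smul_eq_iff_mem_normalizer] at h1
    have := orderOf_dvd_natCard (⟨t, h1⟩ : normalizer (((e l : Sylow 7 G) : Subgroup G) : Set G))
    rw [Subgroup.orderOf_mk, ht, s168_card_N7 h (e l)] at this
    norm_num at this
  have hτcases := u168_tau_cases τ hτ2 hτy hτfix
  have hinj : Function.Injective (u168ρ G e) := by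
    rw [← MonoidHom.ker_eq_bot_iff]
    rcases (MonoidHom.normal_ker (u168ρ G e)).eq_bot_or_eq_top with h1 | h1
    · exact h1
    · exfalso
      have : x ∈ (u168ρ G e).ker := by rw [h1]; trivial
      rw [MonoidHom.mem_ker, hρx] at this
      exact u168x_ne_one this
  have hrange : (u168ρ G e).range = u168C := by
    rw [MonoidHom.range_eq_map, ← s168_closure_eq_top h x y t hx hy ht, MonoidHom.map_closure]
    have himg : (u168ρ G e) '' ({x, y, t} : Set G) = {u168x, u168y, τ} := by
      rw [Set.image_insert_eq, Set.image_insert_eq, Set.image_singleton, hρx, hρy]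
    rw [himg]
    rcases hτcases with h1 | h1 | h1
    · rw [h1]; exact u168_closure3
    · rw [h1]; exact u168_closure5
    · rw [h1]; rfl
  exact ⟨(MonoidHom.ofInjective hinj).trans (MulEquiv.subgroupCongr hrange)⟩

/-- Any two simple groups of order `168` are isomorphic. -/
theorem s168_mulEquiv {H : Type*} [Group H] [Finite H] [IsSimpleGroup H] (h : Nat.card G = 168)
    (h' : Nat.card H = 168) : Nonempty (G ≃* H) := by
  obtain ⟨e1⟩ := u168_unique h
  obtain ⟨e2⟩ := u168_unique h'
  exact ⟨e1.trans e2.symm⟩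

end S168

end Cfsg.Agent.Lib.Helper4
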