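import Mathlib
import Cfsg.Agent.Lib.Helper4.PrimitiveConj

set_option autoImplicit false

namespace Cfsg.Agent.Lib.Helper4
open Cfsg Cfsg.Agent.Lib.Helper1
universe u

/-- If `A, B` are normal with `A ⊓ B = ⊥`, and `U` is a complement of `B` in `G`, then
`A ≃* (A ⊔ B) ⊓ U`. -/
theorem nonempty_equiv_sup_inf {G : Type u} [Group G] (A B U : Subgroup G) [hA : A.Normal]
    [hB : B.Normal] (hAB : A ⊓ B = ⊥) (hUB : U ⊓ B = ⊥) (hsup : U ⊔ B = ⊤) :
    Nonempty (A ≃* ↥((A ⊔ B) ⊓ U)) := by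
  set T : Subgroup G := A ⊔ B with hT
  set D : Subgroup G := T ⊓ U with hD
  have hKn : (B.subgroupOf T).Normal := hB.subgroupOf T
  have c1 : Subgroup.IsComplement' (A.subgroupOf T) (B.subgroupOf T) := by
    apply isComplement'_subgroupOf_of_sup_eq le_sup_left le_sup_right (disjoint_iff.mpr hAB)
    intro l hl
    have hl' : l ∈ ((A ⊔ B : Subgroup G) : Set G) := hl
    rw [Subgroup.normal_mul] at hl'
    obtain ⟨a, ha, b, hb, rfl⟩ := hl'
    exact ⟨a, ha, b, hb, rfl⟩
  have c2 : Subgroup.IsComplement' (D.subgroupOf T) (B.subgroupOf T) := by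
    apply isComplement'_subgroupOf_of_sup_eq inf_le_left le_sup_right
    · rw [disjoint_iff, eq_bot_iff, ← hUB]
      exact inf_le_inf_right B inf_le_right
    · intro l hl
      have hl' : l ∈ ((U ⊔ B : Subgroup G) : Set G) := by rw [hsup]; trivial
      rw [Subgroup.mul_normal] at hl'
      obtain ⟨u, hu, b, hb, rfl⟩ := hl'
      refine ⟨u, ⟨?_, hu⟩, b, hb, rfl⟩
      have : u = (u * b) * b⁻¹ := by group
      rw [this]
      exact T.mul_mem hl (T.inv_mem (le_sup_right (a := A) hb))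
  have e1 := c1.QuotientMulEquiv
  have e2 := c2.QuotientMulEquiv
  have f1 : ↥(A.subgroupOf T) ≃* ↥A := Subgroup.subgroupOfEquivOfLe le_sup_left
  have f2 : ↥(D.subgroupOf T) ≃* ↥D := Subgroup.subgroupOfEquivOfLe inf_le_left
  exact ⟨f1.symm.trans (e1.symm.trans (e2.trans f2))⟩

theorem coreFree_two_minNormal {G : Type u} [Group G] [Finite G] (U : Subgroup G) (hU : IsCoatom U)
    (hcore : U.normalCore = ⊥) (A B : Subgroup G) [hAn : A.Normal] [hBn : B.Normal] (hA : A ≠ ⊥)
    (hB : B ≠ ⊥) (hAmin : ∀ K : Subgroup G, K.Normal → K ≤ A → K = ⊥ ∨ K = A)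
    (hBmin : ∀ K : Subgroup G, K.Normal → K ≤ B → K = ⊥ ∨ K = B) (hAB : A ≠ B) :
    Subgroup.centralizer (B : Set G) = A ∧ Subgroup.centralizer (A : Set G) = B ∧
    Subgroup.IsComplement' A U ∧ Subgroup.IsComplement' B U ∧ ¬ IsMulCommutative A ∧
    Nonempty (A ≃* B) ∧ Nonempty (A ≃* ↥((A ⊔ B) ⊓ U)) := by
  -- A ⊓ B = ⊥
  have hinf : A ⊓ B = ⊥ := by
    have hn : (A ⊓ B).Normal := inferInstance
    rcases hAmin _ hn inf_le_left with h | h
    · exact h
    · rcases hBmin _ hn inf_le_right with h' | h'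
      · exact h'
      · exact absurd (h.symm.trans h') hAB
  -- A and B commute
  have hcomm : ∀ a ∈ A, ∀ b ∈ B, a * b = b * a := by
    intro a ha b hb
    have h1 : a * b * a⁻¹ * b⁻¹ ∈ A ⊓ B := by
      refine ⟨?_, ?_⟩
      · have : a * b * a⁻¹ * b⁻¹ = a * (b * a⁻¹ * b⁻¹) := by group
        rw [this]
        exact A.mul_mem ha (hAn.conj_mem _ (A.inv_mem ha) b)
      · exact B.mul_mem (hBn.conj_mem b hb a) (B.inv_mem hb)
    rw [hinf, Subgroup.mem_bot] at h1
    calc a * b = (a * b * a⁻¹ * b⁻¹) * (b * a) := by group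
      _ = b * a := by rw [h1, one_mul]
  have hUA := coreFree_sup_eq_top U hU hcore A hAn hA
  have hUB := coreFree_sup_eq_top U hU hcore B hBn hB
  -- general: for X, Y ∈ {A, B} commuting, C(X) ⊓ U = ⊥
  have key : ∀ (X Y : Subgroup G) (hXn : X.Normal) (hYn : Y.Normal), X ≠ ⊥ → Y ≠ ⊥ → U ⊔ Y = ⊤ →
      (∀ x ∈ X, ∀ y ∈ Y, x * y = y * x) →
      Subgroup.centralizer (X : Set G) = Y ∧ X ⊓ U = ⊥ := by
    intro X Y hXn hYn hX1 hY1 hUY hXY
    have hCn : (Subgroup.centralizer (X : Set G)).Normal := Subgroup.normal_centralizer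
    have h1 : Subgroup.centralizer (X : Set G) ⊓ U = ⊥ := by
      apply coreFree_eq_bot U hU hcore X hXn hX1 _ inf_le_right
      · intro u hu
        apply Cfsg.Agent.Lib.Helper17.mem_normalizer_of_forall_conj_mem
        intro x hx
        exact ⟨hCn.conj_mem x hx.1 u, U.mul_mem (U.mul_mem hu hx.2) (U.inv_mem hu)⟩
      · intro n hn
        apply Cfsg.Agent.Lib.Helper17.mem_normalizer_of_forall_conj_mem
        intro x hx
        have := (Subgroup.mem_inf.mp hx).1
        rw [Subgroup.mem_centralizer_iff] at this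
        rw [this n hn, mul_inv_cancel_right]
        exact hx
    have hYC : Y ≤ Subgroup.centralizer (X : Set G) := by
      intro y hy
      rw [Subgroup.mem_centralizer_iff]
      intro x hx
      exact hXY x hx y hy
    constructor
    · have h2 := dedekind_of_sup_eq_top Y (Subgroup.centralizer (X : Set G)) U hYC hUY
      rw [h1, sup_bot_eq] at h2
      exact h2
    · apply coreFree_eq_bot U hU hcore Y hYn hY1 _ inf_le_right
      · intro u hu
        apply Cfsg.Agent.Lib.Helper17.mem_normalizer_of_forall_conj_mem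
        intro x hx
        exact ⟨hXn.conj_mem x hx.1 u, U.mul_mem (U.mul_mem hu hx.2) (U.inv_mem hu)⟩
      · intro n hn
        apply Cfsg.Agent.Lib.Helper17.mem_normalizer_of_forall_conj_mem
        intro x hx
        rw [← hXY x hx.1 n hn, mul_inv_cancel_right]
        exact hx
  obtain ⟨hCA, hAU⟩ := key A B hAn hBn hA hB hUB hcomm
  obtain ⟨hCB, hBU⟩ := key B A hBn hAn hB hA hUA (fun b hb a ha => (hcomm a ha b hb).symm)
  have compl : ∀ (X : Subgroup G), X.Normal → X ⊓ U = ⊥ → U ⊔ X = ⊤ → Subgroup.IsComplement' X U := by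
    intro X hXn hXU hUX
    apply Subgroup.isComplement'_of_disjoint_and_mul_eq_univ (disjoint_iff.mpr hXU)
    rw [← Subgroup.normal_mul, sup_comm, hUX]
    rfl
  refine ⟨hCB, hCA, compl A hAn hAU hUA, compl B hBn hBU hUB, ?_, ?_, ?_⟩
  · intro hc
    apply hA
    have h1 : A ≤ Subgroup.centralizer (A : Set G) := by
      intro x hx
      rw [Subgroup.mem_centralizer_iff]
      intro y hy
      exact congrArg Subtype.val (mul_comm' (⟨y, hy⟩ : A) ⟨x, hx⟩)
    rw [hCA] at h1
    have : A ≤ A ⊓ B := le_inf le_rfl h1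
    rwa [hinf, le_bot_iff] at this
  · obtain ⟨e1⟩ := nonempty_equiv_sup_inf A B U hinf (by rw [inf_comm]; exact hBU) hUB
    obtain ⟨e2⟩ := nonempty_equiv_sup_inf B A U (by rw [inf_comm]; exact hinf)
      (by rw [inf_comm]; exact hAU) hUA
    have e3 : ↥((B ⊔ A) ⊓ U) ≃* ↥((A ⊔ B) ⊓ U) := MulEquiv.subgroupCongr (by rw [sup_comm])
    exact ⟨e1.trans (e3.symm.trans e2.symm)⟩
  · exact nonempty_equiv_sup_inf A B U hinf (by rw [inf_comm]; exact hBU) hUB

end Cfsg.Agent.Lib.Helper4
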