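import Mathlib
import Cfsg.Agent.Lib.Helper5.TWU.Defs
import Cfsg.Agent.Lib.Helper23.TWUT
import Cfsg.Agent.Lib.Helper23.TWUQMain
import Cfsg.Agent.Lib.Helper23.TWUQSc
import Cfsg.Agent.Lib.Helper22.TWExtMore
import Cfsg.Agent.Lib.Helper14.TWIIDefs
import Cfsg.Agent.Lib.Helper19.TWGrow
import Cfsg.Agent.Lib.Helper19.TWU3Defs

import Cfsg.Agent.Lib.Helper23.TWUT3
import Cfsg.Agent.Lib.Helper19.TWU3Tool

/-!
S5672 (C7 unitary) Stage III (sub-planner helper19), leaf **A2** `XTU_inf_SUV` (helper4).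
-/


set_option autoImplicit false
set_option linter.unusedSectionVars false
set_option linter.unusedVariables false

namespace Cfsg.Agent.Lib.Helper4.TWU3Leaf
open Matrix Cfsg.Geo Cfsg.Agent.Lib.Helper18.AschA89 Cfsg.Agent.Lib.Helper20.AschLeaf Cfsg.Agent.Lib.Helper8.TW
open Cfsg.Agent.Lib.Helper5.TWU Cfsg.Agent.Lib.Helper19.TWU3
open Cfsg.Agent.Lib.Helper20.UT (hv)
open Cfsg.Agent.Lib.Helper23.TWUT (adjM)
open Cfsg.Agent.Lib.Helper19.TWU3Leaf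

variable {F : Type*} [Field F] [Fintype F] {t k q : ℕ}

/-- `nilU q J y` squares to zero as soon as some `y j₀` (`j₀ ∈ J`) is isotropic -/
theorem nilU_sq_h4 (J : Finset (Fin t)) (y : Fin t → Fin k → F) {j₀ : Fin t} (hj₀ : j₀ ∈ J)
    (hy : hv q (y j₀) (y j₀) = 0) : nilU q J y * nilU q J y = 0 := by
  rw [nilU_eq_ptens, ptens_mul]
  ext x x'
  rw [ptens_apply, Matrix.zero_apply]
  apply Finset.prod_eq_zero (Finset.mem_univ j₀)
  have h1 : famU q J y j₀ * famU q J y j₀ = 0 := by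
    unfold famU
    rw [if_pos hj₀, vv_mul_vv, hy, zero_smul]
  rw [h1, Matrix.zero_apply]

/-- `nilU q J y` is self-adjoint -/
theorem nilU_adj_h4 (hF : Fintype.card F = q ^ 2) (J : Finset (Fin t)) (y : Fin t → Fin k → F) :
    adjM q (nilU q J y) = nilU q J y := by
  rw [nilU_eq_ptens, Cfsg.Agent.Lib.Helper23.TWUT.adjM_ptens]
  congr 1
  funext j
  unfold famU
  by_cases hj : j ∈ J
  · rw [if_pos hj, adjM_vv hF]
  · rw [if_neg hj, Cfsg.Agent.Lib.Helper23.TWUT.adjM_one (Cfsg.Agent.Lib.Helper23.TWUT.q_ne_zero hF)]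

/-- the unipotent `1 + c • nilU q J y` (`c` skew, some `y j₀` isotropic) lies in `SU(V)` -/
theorem unip_nilU_mem_SUV_h4 (hF : Fintype.card F = q ^ 2) (J : Finset (Fin t))
    (y : Fin t → Fin k → F) {j₀ : Fin t} (hj₀ : j₀ ∈ J) (hy : hv q (y j₀) (y j₀) = 0) (c : F)
    (hc : c ^ q = -c) (h : (c • nilU q J y) * (c • nilU q J y) = 0) :
    unip (c • nilU q J y) h ∈ SUV t k q F :=
  unip_mem_SUV hF (nilU q J y) (nilU_sq_h4 J y hj₀ hy) (nilU_adj_h4 hF J y) c hc h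

/-- A2 (M) WLOG `X ≤ SU(V)` -/
theorem XTU_inf_SUV (hF : Fintype.card F = q ^ 2) (X : Subgroup (GL (Idx t k) F)) (J : Finset (Fin t))
    (hJ : J.Nonempty) (h : XTU q X J) : XTU q (X ⊓ SUV t k q F) J := by
  intro y c hy hc
  obtain ⟨g, hgX, hgv⟩ := h y c hy hc
  obtain ⟨j₀, hj₀⟩ := hJ
  have hsq : (c • nilU q J y) * (c • nilU q J y) = 0 := by
    rw [Matrix.smul_mul, Matrix.mul_smul, nilU_sq_h4 J y hj₀ (hy j₀ hj₀).2, smul_zero, smul_zero]
  have hg : g = unip (c • nilU q J y) hsq := by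
    apply Units.ext
    rw [hgv, unip_val]
  refine ⟨g, ⟨hgX, ?_⟩, hgv⟩
  rw [hg]
  exact unip_nilU_mem_SUV_h4 hF J y hj₀ (hy j₀ hj₀).2 c hc hsq

end Cfsg.Agent.Lib.Helper4.TWU3Leaf
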