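import Mathlib
import Cfsg.Agent.Lib.Helper5.TWU.Defs
import Cfsg.Agent.Lib.Helper23.TWUT
import Cfsg.Agent.Lib.Helper23.TWUQMain
import Cfsg.Agent.Lib.Helper23.TWUQSc
import Cfsg.Agent.Lib.Helper22.TWExtMore
import Cfsg.Agent.Lib.Helper14.TWIIDefs
import Cfsg.Agent.Lib.Helper19.TWGrow
import Cfsg.Agent.Lib.Helper19.TWU3Defs

import Cfsg.Agent.Lib.Helper23.TWUT3
import Cfsg.Agent.Lib.Helper19.TWU3Tool
import Cfsg.Agent.Lib.Helper4.TWU3A2
import Cfsg.Agent.Lib.Helper6.TWSlot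
import Cfsg.Agent.Lib.Helper12.TWTS
import Cfsg.Agent.Lib.Helper23.TWU3A4

/-!
S5672 (C7 unitary) Stage III (sub-planner helper19), leaf **A5** `not_le_Gstd_nilU` (helper4).
-/


set_option autoImplicit false
set_option linter.unusedSectionVars false
set_option linter.unusedVariables false

namespace Cfsg.Agent.Lib.Helper4.TWU3Leaf
open Matrix Cfsg.Geo Cfsg.Agent.Lib.Helper18.AschA89 Cfsg.Agent.Lib.Helper20.AschLeaf Cfsg.Agent.Lib.Helper8.TW
open Cfsg.Agent.Lib.Helper5.TWU Cfsg.Agent.Lib.Helper19.TWU3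
open Cfsg.Agent.Lib.Helper20.UT (hv)
open Cfsg.Agent.Lib.Helper23.TWUT (adjM)
open Cfsg.Agent.Lib.Helper19.TWU3Leaf

variable {F : Type*} [Field F] [Fintype F] {t k q : ℕ}

/-- an isotropic non-zero vector has two distinct non-zero coordinates -/
theorem two_coords_h4 {x₀ : Fin k → F} (h0 : x₀ ≠ 0) (hiso : hv q x₀ x₀ = 0) :
    ∃ a b : Fin k, a ≠ b ∧ x₀ a ≠ 0 ∧ x₀ b ≠ 0 := by
  obtain ⟨a, ha⟩ : ∃ a, x₀ a ≠ 0 := by
    by_contra hcon
    push Not at hcon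
    exact h0 (funext hcon)
  by_contra hcon
  push Not at hcon
  have h1 : hv q x₀ x₀ = x₀ a * (x₀ a) ^ q := by
    unfold Cfsg.Agent.Lib.Helper20.UT.hv
    apply Finset.sum_eq_single a
    · intro b _ hb
      have := hcon a b (Ne.symm hb) ha
      rw [this, zero_mul]
    · intro h; exact absurd (Finset.mem_univ a) h
  rw [h1] at hiso
  rcases mul_eq_zero.mp hiso with h | h
  · exact ha h
  · exact ha (eq_zero_of_pow_eq_zero h)

/-- the rank of `nilU q J y` is at most `k^(t-1)` (`J ≠ ∅`) -/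
theorem rank_nilU_le_h4 (J : Finset (Fin t)) (y : Fin t → Fin k → F) {j₀ : Fin t} (hj₀ : j₀ ∈ J) :
    (nilU q J y).rank ≤ k ^ (t - 1) := by
  have h1 : nilU q J y = slot k t j₀ (vv q (y j₀) (y j₀)) *
      ptens k t (Function.update (famU q J y) j₀ 1) := by
    rw [nilU_eq_ptens, Cfsg.Agent.Lib.Helper12.TWLeaf.slot_mul_ptens]
    congr 1
    funext i
    by_cases hi : i = j₀
    · subst hi
      rw [Function.update_self, Function.update_self, mul_one]
      unfold famU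
      rw [if_pos hj₀]
    · rw [Function.update_of_ne hi, Function.update_of_ne hi]
  rw [h1]
  refine le_trans (Matrix.rank_mul_le_left _ _) ?_
  rw [Cfsg.Agent.Lib.Helper6.TWQ.rank_slot]
  have h2 : (vv q (y j₀) (y j₀)).rank ≤ 1 := by
    unfold vv
    exact Matrix.rank_vecMulVec_le _ _
  calc (vv q (y j₀) (y j₀)).rank * k ^ (t - 1) ≤ 1 * k ^ (t - 1) := Nat.mul_le_mul_right _ h2
    _ = k ^ (t - 1) := one_mul _

/-- A5, modulo the rigidity A4 for `N = nilU q J y` -/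
theorem not_le_Gstd_nilU_of_A4_h4 (hF : Fintype.card F = q ^ 2) (hk : 3 ≤ k)
    (hA4 : ∀ N : Matrix (Idx t k) (Idx t k) F, N ≠ 0 → N * N = 0 → N.rank ≤ k ^ (t - 1) →
      (∀ c : F, c ^ q = -c → InM (Gstd t k F) (1 + c • N)) →
      ∃ (c₁ : F) (j : Fin t) (z ζ : Fin k → F), c₁ ≠ 0 ∧ z ≠ 0 ∧ ζ ≠ 0 ∧ c₁ • N = rootN j z ζ)
    (K : Subgroup (GL (Idx t k) F)) (J : Finset (Fin t)) (hJ : 2 ≤ J.card) (h : XTU q K J) :
    ¬ K ≤ Gstd t k F := by
  intro hK
  obtain ⟨x₀, hx0, hxiso⟩ := exists_iso_ne_zero (k := k) hF (by omega)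
  obtain ⟨a, b, hab, ha, hb⟩ := two_coords_h4 hx0 hxiso
  have hJne : J.Nonempty := by
    rw [← Finset.card_pos]; omega
  obtain ⟨j₀, hj₀⟩ := hJne
  obtain ⟨y, hy⟩ : ∃ y : Fin t → Fin k → F, y = fun _ => x₀ := ⟨_, rfl⟩
  have hyJ : ∀ j ∈ J, y j ≠ 0 ∧ hv q (y j) (y j) = 0 := by
    intro j _
    rw [hy]
    exact ⟨hx0, hxiso⟩
  -- entries of `N`
  have hent : ∀ x x' : Idx t k, (∀ i, i ∉ J → x i = x' i) → (∀ i, x i = a ∨ x i = b) →
      (∀ i, x' i = a ∨ x' i = b) → nilU q J y x x' ≠ 0 := by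
    intro x x' h1 h2 h3
    unfold nilU
    rw [if_pos h1]
    apply Finset.prod_ne_zero_iff.mpr
    intro i _
    rw [hy]
    apply mul_ne_zero
    · rcases h2 i with e | e <;> rw [e] <;> assumption
    · apply pow_ne_zero
      rcases h3 i with e | e <;> rw [e] <;> assumption
  have hN0 : nilU q J y ≠ 0 := by
    intro h0
    apply hent (fun _ => a) (fun _ => a) (fun _ _ => rfl) (fun _ => Or.inl rfl) (fun _ => Or.inl rfl)
    rw [h0, Matrix.zero_apply]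
  obtain ⟨c₁, j, z, ζ, hc₁, hz, hζ, heq⟩ := hA4 (nilU q J y) hN0
    (nilU_sq_h4 J y hj₀ (hyJ j₀ hj₀).2) (rank_nilU_le_h4 J y hj₀)
    (fun c hc => by
      obtain ⟨g, hgK, hgv⟩ := h y c hyJ hc
      exact ⟨g, hK hgK, hgv⟩)
  obtain ⟨j₁, hj₁J, hj₁⟩ := Finset.exists_mem_ne (by omega : 1 < J.card) j
  have h1 := congrFun (congrFun heq (fun _ => a)) (Function.update (fun _ => a) j₁ b)
  rw [Matrix.smul_apply, smul_eq_mul] at h1
  have h2 : rootN j z ζ (fun _ => a) (Function.update (fun _ => a) j₁ b) = 0 := by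
    unfold rootN
    rw [slot_apply, if_neg]
    intro hcon
    have := hcon j₁ hj₁
    rw [Function.update_self] at this
    exact hab this
  rw [h2] at h1
  rcases mul_eq_zero.mp h1 with h3 | h3
  · exact hc₁ h3
  · refine hent (fun _ => a) (Function.update (fun _ => a) j₁ b) ?_ (fun _ => Or.inl rfl) ?_ h3
    · intro i hi
      have : i ≠ j₁ := fun e => hi (e ▸ hj₁J)
      rw [Function.update_of_ne this]
    · intro i
      by_cases hi : i = j₁
      · subst hi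
        rw [Function.update_self]; exact Or.inr rfl
      · rw [Function.update_of_ne hi]; exact Or.inl rfl

/-- A5 (M-L) `XT_J ⊆ K`, `|J| ≥ 2` ⟹ `K ⊄ G` -/
theorem not_le_Gstd_nilU (hF : Fintype.card F = q ^ 2) (hk : 3 ≤ k) (hex : ¬ (q = 2 ∧ k = 3))
    (K : Subgroup (GL (Idx t k) F)) (J : Finset (Fin t)) (hJ : 2 ≤ J.card) (h : XTU q K J) :
    ¬ K ≤ Gstd t k F :=
  not_le_Gstd_nilU_of_A4_h4 hF hk
    (fun N hN0 hNN hrk hN =>
      Cfsg.Agent.Lib.Helper23.TWU3Leaf.root_of_skew_family hF hk hex N hN0 hNN hrk hN) K J hJ h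

end Cfsg.Agent.Lib.Helper4.TWU3Leaf
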