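import Mathlib
import Cfsg.Agent.Lib.Helper5.TWU.Defs
import Cfsg.Agent.Lib.Helper23.TWUT
import Cfsg.Agent.Lib.Helper23.TWUQMain
import Cfsg.Agent.Lib.Helper23.TWUQSc
import Cfsg.Agent.Lib.Helper22.TWExtMore
import Cfsg.Agent.Lib.Helper14.TWIIDefs
import Cfsg.Agent.Lib.Helper19.TWGrow
import Cfsg.Agent.Lib.Helper19.TWU3Defs

import Cfsg.Agent.Lib.Helper23.TWUT3
import Cfsg.Agent.Lib.Helper19.TWU3Tool
import Cfsg.Agent.Lib.Helper6.TWU3U12
import Cfsg.Agent.Lib.Helper19.TWU3U3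

/-!
S5672 (C7 unitary) Stage III (sub-planner helper19), leaf **U4** `exists_ext_univ` (helper4).
-/


set_option autoImplicit false
set_option linter.unusedSectionVars false
set_option linter.unusedVariables false

namespace Cfsg.Agent.Lib.Helper4.TWU3Leaf
open Matrix Cfsg.Geo Cfsg.Agent.Lib.Helper18.AschA89 Cfsg.Agent.Lib.Helper20.AschLeaf Cfsg.Agent.Lib.Helper8.TW
open Cfsg.Agent.Lib.Helper5.TWU Cfsg.Agent.Lib.Helper19.TWU3
open Cfsg.Agent.Lib.Helper20.UT (hv)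
open Cfsg.Agent.Lib.Helper23.TWUT (adjM)
open Cfsg.Agent.Lib.Helper19.TWU3Leaf

variable {F : Type*} [Field F] [Fintype F] {t k q : ℕ}

lemma ext_add_h4 (i : Fin (t + 1)) (γ γ' : Matrix (Idx t k) (Idx t k) F) :
    ext i (γ + γ') = ext i γ + ext i γ' := by
  funext x z
  change (if x i = z i then (γ + γ') _ _ else 0) =
    (if x i = z i then γ _ _ else 0) + (if x i = z i then γ' _ _ else 0)
  split_ifs <;> simp

lemma ext_smul_h4 (i : Fin (t + 1)) (d : F) (γ : Matrix (Idx t k) (Idx t k) F) :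
    ext i (d • γ) = d • ext i γ := by
  funext x z
  change (if x i = z i then (d • γ) _ _ else 0) = d • (if x i = z i then γ _ _ else 0)
  split_ifs <;> simp

lemma vv_mulVec_h4 {κ : Type} [Fintype κ] (s w v : κ → F) : vv q s w *ᵥ v = hv q v w • s := by
  unfold vv
  rw [Matrix.vecMulVec_mulVec, Cfsg.Agent.Lib.Helper20.UT.hv_eq_dot]
  funext a
  simp [mul_comm]

lemma rank_add_le_h4 {κ : Type} [Fintype κ] [DecidableEq κ] (A B : Matrix κ κ F) :
    (A + B).rank ≤ A.rank + B.rank := by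
  unfold Matrix.rank
  have h1 : LinearMap.range (A + B).mulVecLin ≤
      LinearMap.range A.mulVecLin ⊔ LinearMap.range B.mulVecLin := by
    rintro _ ⟨v, rfl⟩
    rw [Matrix.mulVecLin_apply, Matrix.add_mulVec]
    exact Submodule.add_mem_sup ⟨v, rfl⟩ ⟨v, rfl⟩
  exact le_trans (Submodule.finrank_mono h1) (Submodule.finrank_add_le_finrank_add_finrank _ _)

/-- pure vectors sharing an isotropic component are perpendicular -/
lemma hv_pt_zero_h4 {s : ℕ} (f g : Fin s → Fin k → F) (p : Fin s) (h : hv q (f p) (g p) = 0) :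
    hv q (pt f) (pt g) = 0 := by
  rw [Cfsg.Agent.Lib.Helper23.TWUT.hv_pt]
  exact Finset.prod_eq_zero (Finset.mem_univ p) h

/-- U4, modulo U2 (`one_eq_sum`) and U3 (`mixed_mem`) -/
theorem exists_ext_univ_of_h4 (hF : Fintype.card F = q ^ 2) (hk : 3 ≤ k) (ht : 2 ≤ t)
    (X : Subgroup (GL (Idx (t + 1) k) F)) (hXG : X ≤ GUV (t + 1) k q F) (h : XTU q X Finset.univ)
    (hU2 : ∃ (ι : Type) (_ : Fintype ι) (s : ι → F) (y y' : ι → Fin k → F), (∀ m, s m ^ q = s m) ∧
      (∀ m, y m ≠ 0 ∧ hv q (y m) (y m) = 0 ∧ y' m ≠ 0 ∧ hv q (y' m) (y' m) = 0 ∧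
        hv q (y' m) (y m) = 1) ∧
      ∑ m, s m • vv q (y m) (y' m) = 1 ∧ ∑ m, s m • vv q (y' m) (y m) = 1)
    (hU3 : ∀ (p : Fin (t + 1)) (yv yw : Fin (t + 1) → Fin k → F),
      (∀ i, yv i ≠ 0 ∧ hv q (yv i) (yv i) = 0) → (∀ i, yw i ≠ 0 ∧ hv q (yw i) (yw i) = 0) →
      yv p = yw p → (∀ i, i ≠ p → hv q (yw i) (yv i) = 1) → ∀ c : F, c ^ q = -c →
      InM X (1 + c • (vv q (pt yv) (pt yw) + vv q (pt yw) (pt yv)))) :
    ∃ (j : Fin (t + 1)) (N : Matrix (Idx t k) (Idx t k) F), N ≠ 0 ∧ N * N = 0 ∧ N.rank ≤ 2 ∧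
      ∀ c : F, c ^ q = -c → InM X (ext j (1 + c • N)) := by
  classical
  obtain ⟨ι, instι, s, y, y', hs, hyy, hsum, hsum'⟩ := hU2
  -- a hyperbolic pair
  have hne : Nonempty ι := by
    by_contra hcon
    rw [not_nonempty_iff] at hcon
    rw [Finset.univ_eq_empty, Finset.sum_empty] at hsum
    have h1 := congrFun (congrFun hsum (⟨0, by omega⟩ : Fin k)) ⟨0, by omega⟩
    rw [Matrix.zero_apply, Matrix.one_apply_eq] at h1
    exact zero_ne_one h1
  obtain ⟨m₀⟩ := hne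
  obtain ⟨e, he⟩ : ∃ e : Fin k → F, e = y m₀ := ⟨_, rfl⟩
  obtain ⟨e', he'⟩ : ∃ e' : Fin k → F, e' = y' m₀ := ⟨_, rfl⟩
  have he0 : e ≠ 0 := by rw [he]; exact (hyy m₀).1
  have hee : hv q e e = 0 := by rw [he]; exact (hyy m₀).2.1
  have he'0 : e' ≠ 0 := by rw [he']; exact (hyy m₀).2.2.1
  have he'e' : hv q e' e' = 0 := by rw [he']; exact (hyy m₀).2.2.2.1
  have he'e : hv q e' e = 1 := by rw [he', he]; exact (hyy m₀).2.2.2.2
  have hee' : hv q e e' = 1 := by
    rw [← Cfsg.Agent.Lib.Helper20.UT.hv_conj hF, he'e, one_pow]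
  -- positions
  obtain ⟨j, hj⟩ : ∃ j : Fin (t + 1), j = 0 := ⟨_, rfl⟩
  obtain ⟨i₀, hi₀⟩ : ∃ i : Fin t, i = ⟨0, by omega⟩ := ⟨_, rfl⟩
  obtain ⟨i₁, hi₁⟩ : ∃ i : Fin t, i = ⟨1, by omega⟩ := ⟨_, rfl⟩
  have hi01 : i₁ ≠ i₀ := by
    rw [hi₀, hi₁]
    intro hcon
    have := congrArg Fin.val hcon
    simp at this
  obtain ⟨u, hu⟩ : ∃ u : Fin t → Fin k → F, u = fun _ => e := ⟨_, rfl⟩
  obtain ⟨w, hw⟩ : ∃ w : Fin t → Fin k → F, w = fun i => if i = i₀ then e else e' := ⟨_, rfl⟩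
  have hui : ∀ i, u i = e := fun i => by rw [hu]
  have hw0 : w i₀ = e := by rw [hw]; simp
  have hwi : ∀ i, i ≠ i₀ → w i = e' := fun i hi => by rw [hw]; simp [hi]
  have hu_ok : ∀ i, u i ≠ 0 ∧ hv q (u i) (u i) = 0 := fun i => by rw [hui]; exact ⟨he0, hee⟩
  have hw_ok : ∀ i, w i ≠ 0 ∧ hv q (w i) (w i) = 0 := fun i => by
    by_cases hi : i = i₀
    · rw [hi, hw0]; exact ⟨he0, hee⟩
    · rw [hwi i hi]; exact ⟨he'0, he'e'⟩
  refine ⟨j, vv q (pt u) (pt w) + vv q (pt w) (pt u), ?_, ?_, ?_, ?_⟩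
  · -- `N ≠ 0`
    intro hN
    obtain ⟨v', hv'⟩ : ∃ v' : Fin t → Fin k → F, v' = fun i => if i = i₀ then e' else e := ⟨_, rfl⟩
    have h1 : (vv q (pt u) (pt w) + vv q (pt w) (pt u)) *ᵥ pt v' = pt u := by
      rw [Matrix.add_mulVec, vv_mulVec_h4, vv_mulVec_h4]
      have h2 : hv q (pt v') (pt u) = 0 := by
        apply hv_pt_zero_h4 v' u i₁
        rw [hui, hv']
        simp only [if_neg hi01]
        exact hee
      have h3 : hv q (pt v') (pt w) = 1 := by
        rw [Cfsg.Agent.Lib.Helper23.TWUT.hv_pt]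
        apply Finset.prod_eq_one
        intro i _
        by_cases hi : i = i₀
        · rw [hi, hw0, hv']
          simp only [if_true]
          exact he'e
        · rw [hwi i hi, hv']
          simp only [if_neg hi]
          exact hee'
      rw [h2, h3, one_smul, zero_smul, add_zero]
    rw [hN, Matrix.zero_mulVec] at h1
    exact pt_ne_zero u (fun i => (hu_ok i).1) h1.symm
  · -- `N * N = 0`
    have hz : ∀ f g : Fin t → Fin k → F, f i₀ = e → g i₀ = e → hv q (pt f) (pt g) = 0 := by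
      intro f g hf hg
      apply hv_pt_zero_h4 f g i₀
      rw [hf, hg]
      exact hee
    rw [add_mul, mul_add, mul_add, vv_mul_vv, vv_mul_vv, vv_mul_vv, vv_mul_vv,
      hz u w (hui i₀) hw0, hz w w hw0 hw0, hz u u (hui i₀) (hui i₀), hz w u hw0 (hui i₀)]
    simp
  · -- rank
    refine le_trans (rank_add_le_h4 _ _) ?_
    have h1 : (vv q (pt u) (pt w)).rank ≤ 1 := by
      unfold vv; exact Matrix.rank_vecMulVec_le _ _
    have h2 : (vv q (pt w) (pt u)).rank ≤ 1 := by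
      unfold vv; exact Matrix.rank_vecMulVec_le _ _
    omega
  · -- membership
    intro c hc
    obtain ⟨p, hp⟩ : ∃ p : Fin (t + 1), p = j.succAbove i₀ := ⟨_, rfl⟩
    obtain ⟨yv, hyv⟩ : ∃ yv : ι → Fin (t + 1) → Fin k → F,
        yv = fun m => Fin.insertNth (α := fun _ => Fin k → F) j (y m) u := ⟨_, rfl⟩
    obtain ⟨yw, hyw⟩ : ∃ yw : ι → Fin (t + 1) → Fin k → F,
        yw = fun m => Fin.insertNth (α := fun _ => Fin k → F) j (y' m) w := ⟨_, rfl⟩
    have hyvj : ∀ m, yv m j = y m := fun m => by rw [hyv]; simp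
    have hywj : ∀ m, yw m j = y' m := fun m => by rw [hyw]; simp
    have hyvs : ∀ m i, yv m (j.succAbove i) = u i := fun m i => by rw [hyv]; simp
    have hyws : ∀ m i, yw m (j.succAbove i) = w i := fun m i => by rw [hyw]; simp
    have hcases : ∀ i : Fin (t + 1), i = j ∨ ∃ i', i = j.succAbove i' := by
      intro i
      by_cases hi : i = j
      · exact Or.inl hi
      · obtain ⟨z, hz⟩ := Fin.exists_succAbove_eq hi
        exact Or.inr ⟨z, hz.symm⟩
    have hyv_ok : ∀ m i, yv m i ≠ 0 ∧ hv q (yv m i) (yv m i) = 0 := by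
      intro m i
      rcases hcases i with rfl | ⟨i', rfl⟩
      · rw [hyvj]; exact ⟨(hyy m).1, (hyy m).2.1⟩
      · rw [hyvs]; exact hu_ok i'
    have hyw_ok : ∀ m i, yw m i ≠ 0 ∧ hv q (yw m i) (yw m i) = 0 := by
      intro m i
      rcases hcases i with rfl | ⟨i', rfl⟩
      · rw [hywj]; exact ⟨(hyy m).2.2.1, (hyy m).2.2.2.1⟩
      · rw [hyws]; exact hw_ok i'
    have hyp : ∀ m, yv m p = yw m p := fun m => by rw [hp, hyvs, hyws, hui, hw0]
    have hy1 : ∀ m i, i ≠ p → hv q (yw m i) (yv m i) = 1 := by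
      intro m i hi
      rcases hcases i with rfl | ⟨i', rfl⟩
      · rw [hywj, hyvj]; exact (hyy m).2.2.2.2
      · have hi' : i' ≠ i₀ := fun e => hi (by rw [hp, e])
        rw [hyws, hyvs, hui, hwi i' hi']
        exact he'e
    -- the individual elements
    obtain ⟨Mm, hMm⟩ : ∃ Mm : ι → Matrix (Idx (t + 1) k) (Idx (t + 1) k) F,
        Mm = fun m => (s m * c) • (vv q (pt (yv m)) (pt (yw m)) + vv q (pt (yw m)) (pt (yv m))) :=
      ⟨_, rfl⟩
    have hmem : ∀ m, InM X (1 + Mm m) := by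
      intro m
      rw [hMm]
      apply hU3 p (yv m) (yw m) (hyv_ok m) (hyw_ok m) (hyp m) (hy1 m)
      rw [mul_pow, hs m, hc, mul_neg]
    have hzz : ∀ (f g : Fin (t + 1) → Fin k → F), f p = e → g p = e → hv q (pt f) (pt g) = 0 := by
      intro f g hf hg
      apply hv_pt_zero_h4 f g p
      rw [hf, hg]
      exact hee
    have hpv : ∀ m, yv m p = e := fun m => by rw [hp, hyvs, hui]
    have hpw : ∀ m, yw m p = e := fun m => by rw [hp, hyws, hw0]
    have hann : ∀ a b, Mm a * Mm b = 0 := by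
      intro a b
      rw [hMm]
      simp only [Matrix.smul_mul, Matrix.mul_smul, add_mul, mul_add, vv_mul_vv]
      rw [hzz (yv b) (yw a) (hpv b) (hpw a), hzz (yw b) (yw a) (hpw b) (hpw a),
        hzz (yv b) (yv a) (hpv b) (hpv a), hzz (yw b) (yv a) (hpw b) (hpv a)]
      simp
    have hall := sum_mem_of_annihilate X Mm hann hmem
    -- compute the sum
    obtain ⟨G, hG⟩ : ∃ G : Fin (t + 1) → Matrix (Fin k) (Fin k) F,
        G = Fin.insertNth (α := fun _ => Matrix (Fin k) (Fin k) F) j 1 (fun i => vv q (u i) (w i)) :=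
      ⟨_, rfl⟩
    obtain ⟨G', hG'⟩ : ∃ G' : Fin (t + 1) → Matrix (Fin k) (Fin k) F,
        G' = Fin.insertNth (α := fun _ => Matrix (Fin k) (Fin k) F) j 1 (fun i => vv q (w i) (u i)) :=
      ⟨_, rfl⟩
    have hGj : G j = 1 := by rw [hG]; simp
    have hG'j : G' j = 1 := by rw [hG']; simp
    have e1 : ∀ m, vv q (pt (yv m)) (pt (yw m)) =
        ptens k (t + 1) (Function.update G j (vv q (y m) (y' m))) := by
      intro m
      rw [vv_pt]
      congr 1
      funext i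
      rcases hcases i with rfl | ⟨i', rfl⟩
      · rw [Function.update_self, hyvj, hywj]
      · rw [Function.update_of_ne (Fin.succAbove_ne j i'), hyvs, hyws, hG]
        simp
    have e2 : ∀ m, vv q (pt (yw m)) (pt (yv m)) =
        ptens k (t + 1) (Function.update G' j (vv q (y' m) (y m))) := by
      intro m
      rw [vv_pt]
      congr 1
      funext i
      rcases hcases i with rfl | ⟨i', rfl⟩
      · rw [Function.update_self, hyvj, hywj]
      · rw [Function.update_of_ne (Fin.succAbove_ne j i'), hyvs, hyws, hG']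
        simp
    have e3 : ∑ m, Mm m = ext j (c • (vv q (pt u) (pt w) + vv q (pt w) (pt u))) := by
      have h1 : ∑ m, Mm m = c • (∑ m, s m • ptens k (t + 1) (Function.update G j (vv q (y m) (y' m))))
          + c • (∑ m, s m • ptens k (t + 1) (Function.update G' j (vv q (y' m) (y m)))) := by
        rw [hMm, Finset.smul_sum, Finset.smul_sum, ← Finset.sum_add_distrib]
        apply Finset.sum_congr rfl
        intro m _
        beta_reduce
        rw [e1, e2, smul_add, smul_smul, smul_smul, mul_comm (s m) c]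
      rw [h1, ← ptens_update_sum, ← ptens_update_sum, hsum, hsum', ← hGj,
        Function.update_eq_self, hGj, ← hG'j, Function.update_eq_self, hG, hG',
        ← Cfsg.Agent.Lib.Helper22.TWLeaf.ext_ptens, ← Cfsg.Agent.Lib.Helper22.TWLeaf.ext_ptens,
        ← vv_pt, ← vv_pt, ← ext_smul_h4, ← ext_smul_h4, ← ext_add_h4, smul_add]
    rw [e3] at hall
    rw [ext_add_h4, ext_one]
    exact hall

/-- U4 (L) the case `J = univ`: an element `γ ⊗ 1_j ∈ X` with `γ = 1 + c N`, `N` of rank `≤ 2`, `N² = 0` -/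
theorem exists_ext_univ (hF : Fintype.card F = q ^ 2) (hk : 3 ≤ k) (ht : 2 ≤ t) (X : Subgroup (GL (Idx (t + 1) k) F))
    (hXG : X ≤ GUV (t + 1) k q F) (h : XTU q X Finset.univ) :
    ∃ (j : Fin (t + 1)) (N : Matrix (Idx t k) (Idx t k) F), N ≠ 0 ∧ N * N = 0 ∧ N.rank ≤ 2 ∧
      ∀ c : F, c ^ q = -c → InM X (ext j (1 + c • N)) :=
  exists_ext_univ_of_h4 hF hk ht X hXG h (Cfsg.Agent.Lib.Helper6.TWU3Leaf.one_eq_sum hF hk)
    (fun p yv yw hv0 hw0 hp h1 c hc =>
      Cfsg.Agent.Lib.Helper19.TWU3Leaf.mixed_mem hF (by omega) (by omega) X hXG h p yv yw hv0 hw0 hp h1 c hc)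

end Cfsg.Agent.Lib.Helper4.TWU3Leaf
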