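import Cfsg.Agent.Lib.Helper4.BinForm

/-!
# S4539 leaves (ALG1) `exists_reduced` and (ALG2b) `reduced_arith`  (helper4)
-/

set_option autoImplicit false

namespace Cfsg.Agent.Lib.Helper4.MajSubALG1

open Matrix Cfsg.Agent.Lib.Helper4.BinForm

/-- (ALG1) reduction of a positive definite integral binary quadratic form. -/
theorem exists_reduced (α β γ : ℤ) (hα : 0 < α) (hdet : 0 < α * γ - β * β) :
    ∃ s t u v : ℤ, (s * v - t * u = 1 ∨ s * v - t * u = -1) ∧
      0 ≤ 2 * (s * (α * t + β * v) + u * (β * t + γ * v)) ∧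
      2 * (s * (α * t + β * v) + u * (β * t + γ * v)) ≤ s * (α * s + β * u) + u * (β * s + γ * u) ∧
      s * (α * s + β * u) + u * (β * s + γ * u) ≤ t * (α * t + β * v) + v * (β * t + γ * v) := by
  obtain ⟨a', b', c', ⟨S, hS, hSC⟩, h1, h2, h3, -⟩ :=
    BinForm.exists_reduced α β γ hα (by rw [sq]; exact hdet)
  have h00 := congrFun (congrFun hSC 0) 0
  have h01 := congrFun (congrFun hSC 0) 1
  have h11 := congrFun (congrFun hSC 1) 1
  simp [Matrix.mul_apply, Fin.sum_univ_two] at h00 h01 h11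
  refine ⟨S 0 0, S 0 1, S 1 0, S 1 1, ?_, ?_, ?_, ?_⟩
  · rw [Matrix.det_fin_two] at hS
    have h := mul_self_eq_one_iff.mp hS
    rcases h with h | h
    · left; linarith
    · right; linarith
  · have : S 0 0 * (α * S 0 1 + β * S 1 1) + S 1 0 * (β * S 0 1 + γ * S 1 1) = b' := by
      rw [← h01]; ring
    rw [this]; omega
  · have e1 : S 0 0 * (α * S 0 1 + β * S 1 1) + S 1 0 * (β * S 0 1 + γ * S 1 1) = b' := by
      rw [← h01]; ring
    have e2 : S 0 0 * (α * S 0 0 + β * S 1 0) + S 1 0 * (β * S 0 0 + γ * S 1 0) = a' := by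
      rw [← h00]; ring
    rw [e1, e2]; exact h2
  · have e2 : S 0 0 * (α * S 0 0 + β * S 1 0) + S 1 0 * (β * S 0 0 + γ * S 1 0) = a' := by
      rw [← h00]; ring
    have e3 : S 0 1 * (α * S 0 1 + β * S 1 1) + S 1 1 * (β * S 0 1 + γ * S 1 1) = c' := by
      rw [← h11]; ring
    rw [e2, e3]; exact h3

variable {p : ℕ} [hpp : Fact p.Prime]

/-- (ALG2b) integer arithmetic of a reduced form with `C C' = p^d`, `p ∣ det C'`. -/
theorem reduced_arith (hp : p.Prime) (d : ℕ) (α β γ a' b' c' : ℤ) (hα : 0 < α)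
    (hred : 0 ≤ 2 * β ∧ 2 * β ≤ α ∧ α ≤ γ)
    (h00 : α * a' + β * b' = (p : ℤ) ^ d) (h01 : α * b' + β * c' = 0)
    (h10 : β * a' + γ * b' = 0) (h11 : β * b' + γ * c' = (p : ℤ) ^ d)
    (hdet : (p : ℤ) ∣ a' * c' - b' * b') :
    α + γ - β ≤ (p : ℤ) ^ d ∨
      ∃ r : ℕ, r < d ∧ α = (p : ℤ) ^ r ∧ β = 0 ∧ γ = (p : ℤ) ^ d ∧
        a' = (p : ℤ) ^ (d - r) ∧ b' = 0 ∧ c' = 1 := by
  obtain ⟨hβ0, hβα, hαγ⟩ := hred
  have hp0 : (0 : ℤ) < p := by exact_mod_cast hp.pos
  have hp2 : (2 : ℤ) ≤ p := by exact_mod_cast hp.two_le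
  have hpZ : Prime (p : ℤ) := Nat.prime_iff_prime_int.mp hp
  set Δ : ℤ := α * γ - β ^ 2 with hΔ
  have hΔpos : 0 < Δ := by
    have : β ^ 2 < α * γ := by nlinarith
    rw [hΔ]; linarith
  have ea : Δ * a' = γ * (p : ℤ) ^ d := by
    rw [← h00, hΔ]; linear_combination (-β) * h10
  have eb : Δ * b' = -β * (p : ℤ) ^ d := by
    rw [hΔ]; linear_combination α * h10 - β * h00
  have ec : Δ * c' = α * (p : ℤ) ^ d := by
    rw [hΔ]; linear_combination α * h11 - β * h01
  have eD : Δ * (a' * c' - b' * b') = (p : ℤ) ^ (2 * d) := by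
    rw [hΔ, two_mul, pow_add]
    linear_combination (β * b' + γ * c') * h00 - (β * a' + γ * b') * h01 + (p : ℤ) ^ d * h11
  -- Δ = p^e
  obtain ⟨e, he, hass⟩ := (dvd_prime_pow hpZ _).1 (Dvd.intro _ eD)
  have hΔe : Δ = (p : ℤ) ^ e :=
    Int.eq_of_associated_of_nonneg hass hΔpos.le (by positivity)
  have hD' : a' * c' - b' * b' = (p : ℤ) ^ (2 * d - e) := by
    have h2 : (p : ℤ) ^ (2 * d) = (p : ℤ) ^ e * (p : ℤ) ^ (2 * d - e) := by
      rw [← pow_add]; congr 1; omega
    have h1 : (p : ℤ) ^ e * (a' * c' - b' * b') = (p : ℤ) ^ e * (p : ℤ) ^ (2 * d - e) := by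
      rw [← h2, ← eD, hΔe]
    exact mul_left_cancel₀ (by positivity) h1
  have he2 : e < 2 * d := by
    by_contra hcon
    have h0 : 2 * d - e = 0 := by omega
    rw [hD', h0, pow_zero] at hdet
    have := Int.le_of_dvd one_pos hdet
    omega
  rcases le_or_gt e d with hed | hed
  · -- Δ ≤ p^d
    have hΔle : Δ ≤ (p : ℤ) ^ d := by
      rw [hΔe]; exact pow_le_pow_right₀ (by omega) hed
    rcases reduced_dichotomy α β γ Δ (by omega) hβα hαγ hα hΔ.symm with h | ⟨h1, h2, h3⟩
    · left; omega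
    · rcases Nat.lt_or_eq_of_le hed with hlt | heq
      · left
        rw [h1, h2, h3, hΔe]
        have hle1 : (p : ℤ) ^ (e + 1) ≤ (p : ℤ) ^ d := pow_le_pow_right₀ (by omega) hlt
        have hpe : (1 : ℤ) ≤ (p : ℤ) ^ e := one_le_pow₀ (by omega)
        rw [pow_succ] at hle1
        nlinarith
      · right
        subst heq
        have hd0 : 0 < e := by omega
        refine ⟨0, hd0, by rw [h1, pow_zero], h2, by rw [h3, hΔe], ?_, ?_, ?_⟩
        · rw [h1, h2] at h00; simpa using h00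
        · rw [h1, h2] at h01; simpa using h01
        · rw [h2, h3, hΔe] at h11
          have : (p : ℤ) ^ e * c' = (p : ℤ) ^ e * 1 := by rw [mul_one]; linarith
          exact mul_left_cancel₀ (by positivity) this
  · -- e > d: (α, β, γ) = p^(e-d) (c', -b', a')
    set q : ℤ := (p : ℤ) ^ (e - d) with hq
    have hqpos : 0 < q := by positivity
    have hPq : Δ = q * (p : ℤ) ^ d := by
      rw [hΔe, hq, ← pow_add]; congr 1; omega
    have hPpos : (0 : ℤ) < (p : ℤ) ^ d := by positivity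
    have eα : α = q * c' := by
      have : (p : ℤ) ^ d * α = (p : ℤ) ^ d * (q * c') := by
        rw [hPq] at ec; linear_combination -ec
      exact mul_left_cancel₀ hPpos.ne' this
    have eβ : β = q * (-b') := by
      have : (p : ℤ) ^ d * β = (p : ℤ) ^ d * (q * (-b')) := by
        rw [hPq] at eb; linear_combination eb
      exact mul_left_cancel₀ hPpos.ne' this
    have eγ : γ = q * a' := by
      have : (p : ℤ) ^ d * γ = (p : ℤ) ^ d * (q * a') := by
        rw [hPq] at ea; linear_combination -ea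
      exact mul_left_cancel₀ hPpos.ne' this
    have hqD : q * (p : ℤ) ^ (2 * d - e) = (p : ℤ) ^ d := by
      rw [hq, ← pow_add]; congr 1; omega
    have hc'pos : 0 < c' := by
      by_contra hcon
      push Not at hcon
      nlinarith
    have h1 : 0 ≤ -b' := by
      by_contra hcon
      push Not at hcon
      nlinarith
    have h2 : 2 * (-b') ≤ c' := by
      by_contra hcon
      push Not at hcon
      nlinarith
    have h3 : c' ≤ a' := by
      by_contra hcon
      push Not at hcon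
      nlinarith
    have hdd : c' * a' - (-b') ^ 2 = (p : ℤ) ^ (2 * d - e) := by
      rw [← hD']; ring
    rcases reduced_dichotomy c' (-b') a' _ h1 h2 h3 hc'pos hdd with h | ⟨k1, k2, k3⟩
    · left
      have := mul_le_mul_of_nonneg_left h hqpos.le
      rw [eα, eβ, eγ, ← hqD]
      linarith
    · right
      have hb0 : b' = 0 := by omega
      refine ⟨e - d, by omega, ?_, ?_, ?_, ?_, hb0, k1⟩
      · rw [eα, k1, mul_one]
      · rw [eβ, hb0]; simp
      · rw [eγ, k3, hqD]
      · rw [k3]; congr 1; omega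

end Cfsg.Agent.Lib.Helper4.MajSubALG1
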