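import Mathlib
import Cfsg.Prelude.Def_Transfer
import Cfsg.Agent.Lib.Helper20.Subnormal
import Cfsg.Agent.Lib.Helper4.SubnormalJoin
import Cfsg.Agent.Lib.Helper4.ChainStab

set_option autoImplicit false
open Cfsg
open scoped commutatorElement

namespace Cfsg.Agent.Lib.Helper4

universe u

theorem commutator_le_chainStab {G : Type u} [Group G] (V H : Subgroup G)
    (hHV : H ≤ Subgroup.normalizer (V : Set G))
    (E₁ E₂ : Subgroup G) (h₁ : E₁ ≤ H) (h₂ : E₂ ≤ H) (hc : ⁅⁅V, E₁⁆, E₂⁆ = ⊥) :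
    ⁅E₁, E₂⁆ ≤ chainStab V ⁅V, E₁⁆ := by
  set W := ⁅V, E₁⁆ with hW
  have hNV : ∀ h ∈ H, ∀ v ∈ V, h * v * h⁻¹ ∈ V := fun h hh v hv =>
    (Subgroup.mem_normalizer_iff.mp (hHV hh) v).mp hv
  have hWV : W ≤ V := by
    rw [hW, Subgroup.commutator_le]
    intro v hv e he
    have h3 : e * v⁻¹ * e⁻¹ ∈ V := hNV e (h₁ he) _ (V.inv_mem hv)
    have e1 : ⁅v, e⁆ = v * (e * v⁻¹ * e⁻¹) := by simp only [commutatorElement_def]; group
    rw [e1]; exact V.mul_mem hv h3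
  have hDW : ⁅⁅E₁, E₂⁆, W⁆ = ⊥ := by
    apply Subgroup.commutator_commutator_eq_bot_of_rotate
    · rw [Subgroup.commutator_comm E₂ W, hc]; exact Subgroup.commutator_bot_left _
    · have h3 : ⁅W, E₁⁆ ≤ W := Subgroup.commutator_mono hWV le_rfl
      exact le_bot_iff.mp (hc ▸ Subgroup.commutator_mono h3 le_rfl)
  have hP1 : ∀ e ∈ E₁, ∀ v ∈ V, e * v * e⁻¹ * v⁻¹ ∈ W := by
    intro e he v hv
    have h3 : ⁅e, v⁆ ∈ ⁅E₁, V⁆ := Subgroup.commutator_mem_commutator he hv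
    rw [Subgroup.commutator_comm] at h3
    rwa [commutatorElement_def] at h3
  have hQ2 : ∀ e ∈ E₂, ∀ w ∈ W, e * w * e⁻¹ = w := by
    intro e he w hw
    have h3 : ⁅w, e⁆ ∈ ⁅W, E₂⁆ := Subgroup.commutator_mem_commutator hw he
    rw [hc, Subgroup.mem_bot, commutatorElement_def] at h3
    calc e * w * e⁻¹ = (w * e * w⁻¹ * e⁻¹)⁻¹ * w := by group
      _ = w := by rw [h3]; simp
  rw [Subgroup.commutator_le]
  intro e₁ he₁ e₂ he₂
  refine ⟨fun w hw => ?_, fun v hv => ?_⟩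
  · have hcm : ⁅⁅e₁, e₂⁆, w⁆ ∈ ⁅⁅E₁, E₂⁆, W⁆ :=
      Subgroup.commutator_mem_commutator (Subgroup.commutator_mem_commutator he₁ he₂) hw
    rw [hDW, Subgroup.mem_bot] at hcm
    rw [commutatorElement_def ⁅e₁, e₂⁆ w] at hcm
    exact mul_inv_eq_one.mp hcm
  · have hv1 : e₂⁻¹ * v * e₂⁻¹⁻¹ ∈ V := hNV _ (H.inv_mem (h₂ he₂)) v hv
    have hw1 : e₁⁻¹ * (e₂⁻¹ * v * e₂⁻¹⁻¹) * e₁⁻¹⁻¹ * (e₂⁻¹ * v * e₂⁻¹⁻¹)⁻¹ ∈ W :=
      hP1 _ (E₁.inv_mem he₁) _ hv1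
    have h3 := hQ2 e₂ he₂ _ hw1
    have hw2 := hP1 e₁ he₁ _ (hWV hw1)
    have hw3 := W.mul_mem hw2 hw1
    have hw4 := hP1 e₁ he₁ v hv
    have hw5 := W.mul_mem hw3 hw4
    have key : ⁅e₁, e₂⁆ * v * ⁅e₁, e₂⁆⁻¹ * v⁻¹ =
        e₁ * (e₂ * (e₁⁻¹ * (e₂⁻¹ * v * e₂⁻¹⁻¹) * e₁⁻¹⁻¹ * (e₂⁻¹ * v * e₂⁻¹⁻¹)⁻¹) * e₂⁻¹) * e₁⁻¹ *
          (e₁ * v * e₁⁻¹ * v⁻¹) := by
      simp only [commutatorElement_def]; group
    rw [key, h3]
    convert hw5 using 1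
    group

end Cfsg.Agent.Lib.Helper4

namespace Cfsg.Agent.Lib.Helper4

universe u

theorem commutator_le_pCore_of_chain {G : Type u} [Group G] [Finite G] {p : ℕ} [Fact p.Prime]
    (V H : Subgroup G) (hV : Cfsg.IsElementaryAbelian p V)
    (hHV : H ≤ Subgroup.normalizer (V : Set G))
    (hf : H ⊓ Subgroup.centralizer (V : Set G) = ⊥) (E₁ E₂ : Subgroup G) (h₁ : E₁ ≤ H) (h₂ : E₂ ≤ H)
    (hs₁ : (E₁.subgroupOf H).IsSubnormal) (hs₂ : (E₂.subgroupOf H).IsSubnormal)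
    (hc : ⁅⁅V, E₁⁆, E₂⁆ = ⊥) : ⁅E₁, E₂⁆ ≤ (Cfsg.pCore p H).map H.subtype := by
  have hD := commutator_le_chainStab V H hHV E₁ E₂ h₁ h₂ hc
  have hNV : ∀ h ∈ H, ∀ v ∈ V, h * v * h⁻¹ ∈ V := fun h hh v hv =>
    (Subgroup.mem_normalizer_iff.mp (hHV hh) v).mp hv
  have hWV : ⁅V, E₁⁆ ≤ V := by
    rw [Subgroup.commutator_le]
    intro v hv e he
    have h3 : e * v⁻¹ * e⁻¹ ∈ V := hNV e (h₁ he) _ (V.inv_mem hv)
    have e1 : ⁅v, e⁆ = v * (e * v⁻¹ * e⁻¹) := by simp only [commutatorElement_def]; group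
    rw [e1]; exact V.mul_mem hv h3
  have hDH : ⁅E₁, E₂⁆ ≤ H := (Subgroup.commutator_mono h₁ h₂).trans (Subgroup.commutator_le_self H)
  have hpow : ∀ g ∈ ⁅E₁, E₂⁆, g ^ p = 1 := fun g hg =>
    chainStab_pow_eq_one V _ H (fun w hw => hV.2 w (hWV hw)) hf (hD hg) (hDH hg)
  set A := E₁.subgroupOf H with hA
  set B := E₂.subgroupOf H with hB
  have hmap : (⁅A, B⁆ : Subgroup H).map H.subtype = ⁅E₁, E₂⁆ := by
    rw [Subgroup.map_commutator, hA, hB, Subgroup.subgroupOf_map_subtype,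
      Subgroup.subgroupOf_map_subtype, inf_eq_left.mpr h₁, inf_eq_left.mpr h₂]
  have hsn : (⁅A, B⁆ : Subgroup H).IsSubnormal := by
    have h3 : (A ⊔ B).IsSubnormal := isSubnormal_sup A B hs₁ hs₂
    have h4 : ⁅A, B⁆ ≤ A ⊔ B := by
      have := commutator_normal_in_sup A B
      exact (Subgroup.commutator_mono le_sup_left le_sup_right).trans (Subgroup.commutator_le_self _)
    refine Subgroup.IsSubnormal.step _ _ h4 h3 ?_
    rw [Subgroup.normal_subgroupOf_iff_le_normalizer h4]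
    exact commutator_normal_in_sup A B
  have hpg : IsPGroup p (⁅A, B⁆ : Subgroup H) := by
    intro x
    refine ⟨1, ?_⟩
    have h3 : ((x : H) : G) ∈ ⁅E₁, E₂⁆ := by
      rw [← hmap]; exact ⟨x.1, x.2, rfl⟩
    have h4 := hpow _ h3
    apply Subtype.ext
    apply Subtype.ext
    simpa using h4
  have hle := Cfsg.Agent.Lib.Helper20.subnormal_pgroup_le_pCore p _ hsn hpg
  rw [← hmap]
  exact Subgroup.map_mono hle

end Cfsg.Agent.Lib.Helper4
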