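import Mathlib
import Cfsg.Prelude.Def_PLocal
import Cfsg.Agent.Lib.Helper4.ThompsonFact1

set_option autoImplicit false
open Pointwise

namespace Cfsg.Agent.Lib.Helper4
open Cfsg Cfsg.Agent.Lib.Helper1 Cfsg.Agent.Lib.Helper27
universe u

section
variable {G : Type u} [Group G] [Finite G] {p : ℕ} [hp : Fact p.Prime]

/-- forward direction -/
theorem thompson_le_centralizer_of_factorizable (hO : pPrimeCore p G = ⊥)
    (hfac : IsThompsonFactorizable p G) :
    thompsonSubgroup p G ≤ Subgroup.centralizer ((⨆ S : Sylow p G, omegaOne p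
      (((S : Subgroup G)) ⊓ Subgroup.centralizer ((S : Subgroup G) : Set G)) : Subgroup G) :
        Set G) := by
  rw [thompsonSubgroup]
  apply sSup_le
  intro A hA
  obtain ⟨S₁, hAS₁⟩ := (isPGroup_of_isElementaryAbelian hA.1).exists_le_sylow
  have hAJ : A ≤ thompsonSubgroupOf p (S₁ : Subgroup G) :=
    le_thompsonSubgroupOf_of_mem_max _ A hA hAS₁
  have hJS : thompsonSubgroupOf p (S₁ : Subgroup G) ≤ (S₁ : Subgroup G) := by
    rw [thompsonSubgroupOf]; exact Subgroup.map_subtype_le _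
  intro a ha
  rw [Subgroup.mem_centralizer_iff]
  intro v hv
  have hv' : v ∈ (⨆ S : Sylow p G, omegaOne p
      (((S : Subgroup G)) ⊓ Subgroup.centralizer ((S : Subgroup G) : Set G)) : Subgroup G) := hv
  refine Subgroup.iSup_induction (fun S : Sylow p G => omegaOne p (((S : Subgroup G)) ⊓
      Subgroup.centralizer ((S : Subgroup G) : Set G)))
    (C := fun v => v * a = a * v) hv' ?_ ?_ ?_
  · intro S y hy
    rw [omegaOne] at hy
    refine Subgroup.closure_induction (p := fun y _ => y * a = a * y) ?_ ?_ ?_ ?_ hy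
    · rintro z ⟨hz1, hz2⟩
      obtain ⟨h, hh⟩ := MulAction.exists_smul_eq G S₁ S
      obtain ⟨x, hx, c, hc, n, hn, hdec⟩ := hfac S₁ h⁻¹
      have hx1 : x = 1 := by rw [hO] at hx; exact Subgroup.mem_bot.mp hx
      rw [hx1, one_mul] at hdec
      obtain ⟨hzS, hzC⟩ := Subgroup.mem_inf.mp hz1
      set y₀ := h⁻¹ * z * h with hy₀
      have hy₀S : y₀ ∈ (S₁ : Subgroup G) := by
        have : z ∈ ((h • S₁ : Sylow p G) : Subgroup G) := by rw [hh]; exact hzS
        rw [Sylow.coe_subgroup_smul, mem_conj_smul_iff] at this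
        exact this
      have hy₀C : y₀ ∈ Subgroup.centralizer ((S₁ : Subgroup G) : Set G) := by
        rw [Subgroup.mem_centralizer_iff]
        intro s hs
        have hs' : h * s * h⁻¹ ∈ (S : Subgroup G) := by
          rw [← hh, Sylow.coe_subgroup_smul, mem_conj_smul_iff]
          have : h⁻¹ * (h * s * h⁻¹) * h = s := by group
          rw [this]; exact hs
        have h1 := (Subgroup.mem_centralizer_iff.mp hzC) _ hs'
        calc s * y₀ = h⁻¹ * ((h * s * h⁻¹) * z) * h := by rw [hy₀]; group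
          _ = h⁻¹ * (z * (h * s * h⁻¹)) * h := by rw [h1]
          _ = y₀ * s := by rw [hy₀]; group
      have hy₀p : y₀ ^ p = 1 := by
        rw [hy₀]
        have : h⁻¹ * z * h = h⁻¹ * z * h⁻¹⁻¹ := by rw [inv_inv]
        rw [this, conj_pow, hz2, mul_one, mul_inv_cancel]
      have hy₀W : y₀ ∈ omegaOne p (((S₁ : Subgroup G)) ⊓
          Subgroup.centralizer ((S₁ : Subgroup G) : Set G)) := by
        rw [omegaOne]
        exact Subgroup.subset_closure ⟨Subgroup.mem_inf.mpr ⟨hy₀S, hy₀C⟩, hy₀p⟩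
      have hcy : y₀ * c = c * y₀ := (Subgroup.mem_centralizer_iff.mp hc) y₀ hy₀W
      have hnan : n * a * n⁻¹ ∈ thompsonSubgroupOf p (S₁ : Subgroup G) :=
        (Subgroup.mem_normalizer_iff.mp hn a).mp (hAJ ha)
      have hnay : (n * a * n⁻¹) * y₀ = y₀ * (n * a * n⁻¹) :=
        (Subgroup.mem_centralizer_iff.mp hy₀C) _ (hJS hnan)
      have hh' : h = n⁻¹ * c⁻¹ := by
        have : h = (h⁻¹)⁻¹ := (inv_inv h).symm
        rw [this, hdec]; group
      have hz : z = n⁻¹ * y₀ * n := by
        have e1 : z = h * y₀ * h⁻¹ := by rw [hy₀]; group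
        have e2 : c⁻¹ * y₀ * c = y₀ := by rw [mul_assoc, hcy]; group
        rw [e1, hh']
        calc n⁻¹ * c⁻¹ * y₀ * (n⁻¹ * c⁻¹)⁻¹ = n⁻¹ * (c⁻¹ * y₀ * c) * n := by group
          _ = n⁻¹ * y₀ * n := by rw [e2]
      rw [hz]
      calc n⁻¹ * y₀ * n * a = n⁻¹ * (y₀ * (n * a * n⁻¹)) * n := by group
        _ = n⁻¹ * ((n * a * n⁻¹) * y₀) * n := by rw [hnay]
        _ = a * (n⁻¹ * y₀ * n) := by group
    · simp
    · intro u w _ _ hu hw
      calc u * w * a = u * (w * a) := by group
        _ = u * (a * w) := by rw [hw]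
        _ = (u * a) * w := by group
        _ = (a * u) * w := by rw [hu]
        _ = a * (u * w) := by group
    · intro u _ hu
      calc u⁻¹ * a = u⁻¹ * (a * u) * u⁻¹ := by group
        _ = u⁻¹ * (u * a) * u⁻¹ := by rw [hu]
        _ = a * u⁻¹ := by group
  · simp
  · intro u w hu hw
    calc u * w * a = u * (w * a) := by group
      _ = u * (a * w) := by rw [hw]
      _ = (u * a) * w := by group
      _ = (a * u) * w := by rw [hu]
      _ = a * (u * w) := by group

end

end Cfsg.Agent.Lib.Helper4
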