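import Mathlib
import Cfsg.Prelude.Def_PLocal
import Cfsg.Agent.Lib.Helper4.ThompsonFact2

set_option autoImplicit false
open Pointwise

namespace Cfsg.Agent.Lib.Helper4
open Cfsg Cfsg.Agent.Lib.Helper1 Cfsg.Agent.Lib.Helper27
universe u

section
variable {G : Type u} [Group G] [Finite G] {p : ℕ} [hp : Fact p.Prime]

/-- backward direction -/
theorem factorizable_of_thompson_le_centralizer
    (hJ : thompsonSubgroup p G ≤ Subgroup.centralizer ((⨆ S : Sylow p G, omegaOne p
      (((S : Subgroup G)) ⊓ Subgroup.centralizer ((S : Subgroup G) : Set G)) : Subgroup G) :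
        Set G)) : IsThompsonFactorizable p G := by
  intro S g
  set V := (⨆ S : Sylow p G, omegaOne p
      (((S : Subgroup G)) ⊓ Subgroup.centralizer ((S : Subgroup G) : Set G)) : Subgroup G) with hV
  have hVn : V.Normal := iSup_omega_normal
  set C := Subgroup.centralizer (V : Set G) with hC
  have hCn : C.Normal := Subgroup.normal_centralizer
  have hJS : thompsonSubgroupOf p (S : Subgroup G) ≤ (S : Subgroup G) := by
    rw [thompsonSubgroupOf]; exact Subgroup.map_subtype_le _
  set T := (S : Subgroup G) ⊓ C with hT
  have hJT : thompsonSubgroupOf p (S : Subgroup G) ≤ T :=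
    le_inf hJS ((thompsonSubgroupOf_sylow_le S).trans hJ)
  have hTC : T ≤ C := inf_le_right
  have hTp : IsPGroup p T := S.isPGroup'.to_le inf_le_left
  have h1 : IsPGroup p (T.subgroupOf C) := hTp.comap_subtype
  have h2 : ¬ p ∣ (T.subgroupOf C).index := by
    intro hd
    have h3 : (T.subgroupOf C).index = (S : Subgroup G).relIndex C := by
      show T.relIndex C = _
      rw [hT, Subgroup.inf_relIndex_right]
    rw [h3] at hd
    exact S.not_dvd_index (hd.trans (relIndex_dvd_index_of_normal_right (S : Subgroup G) C))
  set PC : Sylow p C := h1.toSylow h2 with hPC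
  have hPCmap : ((PC : Subgroup C).map C.subtype) = T := by
    show (T.subgroupOf C).map C.subtype = T
    exact Subgroup.map_subgroupOf_eq_of_le hTC
  have hgN : g ∈ Subgroup.normalizer (C : Set G) := by
    rw [Subgroup.normalizer_eq_top_iff.mpr hCn]; exact Subgroup.mem_top g
  obtain ⟨k, hkC, hkn⟩ := frattini_sylow C PC g hgN
  rw [hPCmap] at hkn
  refine ⟨1, one_mem _, k, ?_, k⁻¹ * g, ?_, by group⟩
  · have hsub : ((omegaOne p (((S : Subgroup G)) ⊓
        Subgroup.centralizer ((S : Subgroup G) : Set G)) : Subgroup G) : Set G) ⊆ (V : Set G) := by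
      have : omegaOne p (((S : Subgroup G)) ⊓
        Subgroup.centralizer ((S : Subgroup G) : Set G)) ≤ V :=
        le_iSup (fun S : Sylow p G => omegaOne p (((S : Subgroup G)) ⊓
          Subgroup.centralizer ((S : Subgroup G) : Set G))) S
      exact this
    exact Subgroup.centralizer_le hsub hkC
  · have h5 : thompsonSubgroupOf p T = thompsonSubgroupOf p (S : Subgroup G) :=
      thompsonSubgroupOf_eq_of_le p hJT inf_le_left
    rw [← h5]
    exact normalizer_le_normalizer_thompson T hkn

theorem thompsonFactorizable_iff (hO : pPrimeCore p G = ⊥) :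
    IsThompsonFactorizable p G ↔
      thompsonSubgroup p G ≤ Subgroup.centralizer ((⨆ S : Sylow p G, omegaOne p
        (((S : Subgroup G)) ⊓ Subgroup.centralizer ((S : Subgroup G) : Set G)) : Subgroup G) :
          Set G) :=
  ⟨thompson_le_centralizer_of_factorizable hO, factorizable_of_thompson_le_centralizer⟩

end

end Cfsg.Agent.Lib.Helper4
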