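/-
helper4: S4581 leaf (CCN) `cntUnder_normalizer_eq` (planner helper5): the counted Clifford
correspondence (CCG, helper19) inside `N_G(P)`, transported to `N_T(P)`.
-/
import Mathlib
import Cfsg.Prelude.Def_Blocks
import Cfsg.Agent.Lib.Helper6.Clifford
import Cfsg.Agent.Lib.Helper5.RODefs
import Cfsg.Agent.Lib.Helper6.CliffordCorr
import Cfsg.Agent.Lib.Helper19.ROCCG

set_option autoImplicit false

namespace Cfsg.Agent.Lib.Helper4.RO

open Cfsg Cfsg.Agent.Lib.Helper6 Cfsg.Agent.Lib.Helper5.RO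

universe u

/-- transport of irreducible characters along a group isomorphism -/
def irrCongr {A B : Type u} [Group A] [Group B] (e : A ≃* B) :
    IrrCharacter B ≃ IrrCharacter A where
  toFun β := ⟨(β : B → ℂ) ∘ e, isIrrCharacter_comp_mulEquiv' e β.2⟩
  invFun α := ⟨(α : A → ℂ) ∘ e.symm, isIrrCharacter_comp_mulEquiv' e.symm α.2⟩
  left_inv β := by
    apply Subtype.ext
    funext b
    simp
  right_inv α := by
    apply Subtype.ext
    funext a
    simp

theorem irrCongr_apply {A B : Type u} [Group A] [Group B] (e : A ≃* B) (β : IrrCharacter B)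
    (a : A) : ((irrCongr e β : IrrCharacter A) : A → ℂ) a = (β : B → ℂ) (e a) := rfl

/-- transport of `cntOver` along a group isomorphism compatible with the embeddings -/
theorem cntOver_congr {X Y W W' : Type u} [Group X] [Group Y] [Group W] [Group W']
    (e : X ≃* Y) (ι : W →* X) (ι' : W' →* Y) (lam : W → ℂ) (lam' : W' → ℂ) (ew : W ≃ W')
    (h1 : ∀ w, e (ι w) = ι' (ew w)) (h2 : ∀ w, lam w = lam' (ew w)) :
    cntOver X ι lam = cntOver Y ι' lam' := by
  unfold cntOver
  symm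
  apply Nat.card_congr
  refine (irrCongr e).subtypeEquiv ?_
  intro ψ
  have hval : ∀ x : X, ((irrCongr e ψ : IrrCharacter X) : X → ℂ) x =
      (ψ : Y → ℂ) (e x) := fun x => irrCongr_apply e ψ x
  have hdeg : charDegree ((irrCongr e ψ : IrrCharacter X) : X → ℂ) =
      charDegree (ψ : Y → ℂ) := by
    unfold charDegree
    rw [hval, map_one]
  constructor
  · rintro ⟨⟨hre, hodd⟩, hov⟩
    refine ⟨⟨fun x => ?_, ?_⟩, fun w => ?_⟩
    · rw [hval]
      exact hre _
    · rw [hdeg]
      exact hodd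
    · rw [hval, hval, map_one, h1, h2]
      exact hov (ew w)
  · rintro ⟨⟨hre, hodd⟩, hov⟩
    refine ⟨⟨fun y => ?_, ?_⟩, fun w' => ?_⟩
    · have := hre (e.symm y)
      rw [hval, MulEquiv.apply_symm_apply] at this
      exact this
    · rw [← hdeg]
      exact hodd
    · have := hov (ew.symm w')
      rw [hval, hval, map_one, h1, h2, Equiv.apply_symm_apply] at this
      exact this

theorem cntUnder_normalizer_eq_aux {G : Type u} [Group G] [Finite G] (P : Sylow 2 G)
    (V : Subgroup G)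
    [hV : V.Normal] (hV2 : ∀ v ∈ V, v ^ 2 = 1) (hVP : V ≤ (P : Subgroup G)) (lam : V → ℂ)
    (hlam : IsIrrCharacter V lam) (T : Subgroup G)
    (hT : ∀ g : G, g ∈ T ↔ Cfsg.Agent.Lib.Helper6.conjFun V g lam = lam)
    (hPT : (P : Subgroup G) ≤ T) (hVT : V ≤ T)
    (hN : ∀ v : V, Subgroup.inclusion hVT v ∈
      Subgroup.normalizer (((P.subtype hPT : Sylow 2 ↥T) : Subgroup ↥T) : Set ↥T))
    (N : Subgroup G) (hNdef : N = Subgroup.normalizer ((P : Subgroup G) : Set G)) :
    cntUnder ↥N (V.subgroupOf N)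
        (fun w : ↥(V.subgroupOf N) => lam ⟨((w : ↥N) : G), Subgroup.mem_subgroupOf.mp w.2⟩) =
      cntOver ↥(Subgroup.normalizer (((P.subtype hPT : Sylow 2 ↥T) : Subgroup ↥T) : Set ↥T))
        ((Subgroup.inclusion hVT).codRestrict _ hN) lam := by
  classical
  have hPN : (P : Subgroup G) ≤ N := by rw [hNdef]; exact Subgroup.le_normalizer
  have hVN : V ≤ N := hVP.trans hPN
  -- the data inside `N`
  have hV'2 : ∀ v ∈ V.subgroupOf N, v ^ 2 = 1 := by
    intro v hv
    apply Subtype.ext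
    rw [Subgroup.coe_pow]
    exact hV2 _ (Subgroup.mem_subgroupOf.mp hv)
  have hlam' : IsIrrCharacter ↥(V.subgroupOf N)
      (fun w : ↥(V.subgroupOf N) => lam ⟨((w : ↥N) : G), Subgroup.mem_subgroupOf.mp w.2⟩) := by
    have h := isIrrCharacter_comp_mulEquiv' (Subgroup.subgroupOfEquivOfLe hVN) hlam
    exact h
  have hT' : ∀ g : ↥N, g ∈ T.subgroupOf N ↔
      Cfsg.Agent.Lib.Helper6.conjFun (V.subgroupOf N) g
        (fun w : ↥(V.subgroupOf N) => lam ⟨((w : ↥N) : G), Subgroup.mem_subgroupOf.mp w.2⟩) =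
        (fun w : ↥(V.subgroupOf N) => lam ⟨((w : ↥N) : G), Subgroup.mem_subgroupOf.mp w.2⟩) := by
    intro g
    rw [Subgroup.mem_subgroupOf, hT]
    constructor
    · intro h
      funext w
      have := congrFun h ⟨((w : ↥N) : G), Subgroup.mem_subgroupOf.mp w.2⟩
      exact this
    · intro h
      funext v
      have := congrFun h ⟨⟨(v : G), hVN v.2⟩, Subgroup.mem_subgroupOf.mpr v.2⟩
      exact this
  have hodd' : Odd (T.subgroupOf N).index := by
    have h1 : ((P : Subgroup G).subgroupOf N) ≤ T.subgroupOf N := by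
      intro x hx
      exact Subgroup.mem_subgroupOf.mpr (hPT (Subgroup.mem_subgroupOf.mp hx))
    have h2 := Subgroup.index_dvd_of_le h1
    have h3 : ((P : Subgroup G).subgroupOf N).index ∣ (P : Subgroup G).index := by
      have := Subgroup.relIndex_mul_index hPN
      exact Dvd.intro _ this
    have h4 : ¬ 2 ∣ (P : Subgroup G).index := P.not_dvd_index
    rw [← Nat.not_even_iff_odd, even_iff_two_dvd]
    intro h5
    exact h4 ((h5.trans h2).trans h3)
  have hV'T' : V.subgroupOf N ≤ T.subgroupOf N := by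
    intro x hx
    exact Subgroup.mem_subgroupOf.mpr (hVT (Subgroup.mem_subgroupOf.mp hx))
  rw [Cfsg.Agent.Lib.Helper19.RO.cntUnder_eq_cntOver_stab
    (V.subgroupOf N) hV'2 _ hlam' (T.subgroupOf N) hT' hodd' hV'T']
  -- transport to `N_T(P)`
  have hnorm : ∀ t : ↥T, t ∈ Subgroup.normalizer
      (((P.subtype hPT : Sylow 2 ↥T) : Subgroup ↥T) : Set ↥T) ↔ (t : G) ∈ N := by
    intro t
    rw [hNdef, Sylow.coe_subtype, ← Subgroup.subgroupOf_normalizer_eq hPT, Subgroup.mem_subgroupOf]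
  let e : ↥(T.subgroupOf N) ≃*
      ↥(Subgroup.normalizer (((P.subtype hPT : Sylow 2 ↥T) : Subgroup ↥T) : Set ↥T)) :=
    { toFun := fun x => ⟨⟨((x : ↥N) : G), Subgroup.mem_subgroupOf.mp x.2⟩, (hnorm _).mpr x.1.2⟩
      invFun := fun y => ⟨⟨((y : ↥T) : G), (hnorm _).mp y.2⟩, Subgroup.mem_subgroupOf.mpr y.1.2⟩
      left_inv := fun x => rfl
      right_inv := fun y => rfl
      map_mul' := fun x y => rfl }
  exact cntOver_congr e _ _ _ _ (Subgroup.subgroupOfEquivOfLe hVN).toEquiv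
    (fun w => rfl) (fun w => rfl)

theorem cntUnder_normalizer_eq {G : Type u} [Group G] [Finite G] (P : Sylow 2 G) (V : Subgroup G)
    [hV : V.Normal] (hV2 : ∀ v ∈ V, v ^ 2 = 1) (hVP : V ≤ (P : Subgroup G)) (lam : V → ℂ)
    (hlam : IsIrrCharacter V lam) (T : Subgroup G)
    (hT : ∀ g : G, g ∈ T ↔ Cfsg.Agent.Lib.Helper6.conjFun V g lam = lam)
    (hPT : (P : Subgroup G) ≤ T) (hVT : V ≤ T)
    (hN : ∀ v : V, Subgroup.inclusion hVT v ∈
      Subgroup.normalizer (((P.subtype hPT : Sylow 2 ↥T) : Subgroup ↥T) : Set ↥T)) :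
    cntUnder ↥(Subgroup.normalizer ((P : Subgroup G) : Set G))
        (V.subgroupOf (Subgroup.normalizer ((P : Subgroup G) : Set G)))
        (fun w => lam ⟨((w : ↥(Subgroup.normalizer ((P : Subgroup G) : Set G))) : G),
          Subgroup.mem_subgroupOf.mp w.2⟩) =
      cntOver ↥(Subgroup.normalizer (((P.subtype hPT : Sylow 2 ↥T) : Subgroup ↥T) : Set ↥T))
        ((Subgroup.inclusion hVT).codRestrict _ hN) lam :=
  cntUnder_normalizer_eq_aux P V hV2 hVP lam hlam T hT hPT hVT hN _ rfl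

end Cfsg.Agent.Lib.Helper4.RO
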