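/-
helper4: S4581 leaf (KQ2) `rcountKer_normalizer_quotient` (planner helper5): the map
`N_X(P) → N_{X/K}(PK/K)` is onto (helper11 NQ) with kernel `K ∩ N_X(P)`, hence the count
(helper16 KQ1).
-/
import Mathlib
import Cfsg.Prelude.Def_Blocks
import Cfsg.Agent.Lib.Helper6.Clifford
import Cfsg.Agent.Lib.Helper5.RODefs
import Cfsg.Agent.Lib.Helper4.ROCCN
import Cfsg.Agent.Lib.Helper16.ROKQ1
import Cfsg.Agent.Lib.Helper11.RONQ

set_option autoImplicit false

namespace Cfsg.Agent.Lib.Helper4.RO

open Cfsg Cfsg.Agent.Lib.Helper6 Cfsg.Agent.Lib.Helper5.RO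

universe u

/-- transport of `rcount` along a group isomorphism -/
theorem rcount_congr {A B : Type u} [Group A] [Group B] (e : A ≃* B) : rcount A = rcount B := by
  unfold rcount
  symm
  apply Nat.card_congr
  refine (irrCongr e).subtypeEquiv ?_
  intro ψ
  have hval : ∀ x : A, ((irrCongr e ψ : IrrCharacter A) : A → ℂ) x = (ψ : B → ℂ) (e x) :=
    fun x => irrCongr_apply e ψ x
  have hdeg : charDegree ((irrCongr e ψ : IrrCharacter A) : A → ℂ) = charDegree (ψ : B → ℂ) := by
    unfold charDegree
    rw [hval, map_one]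
  constructor
  · rintro ⟨hre, hodd⟩
    refine ⟨fun x => ?_, ?_⟩
    · rw [hval]
      exact hre _
    · rw [hdeg]
      exact hodd
  · rintro ⟨hre, hodd⟩
    refine ⟨fun y => ?_, ?_⟩
    · have := hre (e.symm y)
      rw [hval, MulEquiv.apply_symm_apply] at this
      exact this
    · rw [← hdeg]
      exact hodd

theorem rcountKer_normalizer_quotient {X : Type u} [Group X] [Finite X] (K : Subgroup X) [K.Normal]
    (P : Sylow 2 X) :
    rcountKer ↥(Subgroup.normalizer ((P : Subgroup X) : Set X))
        {n | (n : X) ∈ K} =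
      rcount ↥(Subgroup.normalizer
        (((P.mapSurjective (QuotientGroup.mk'_surjective K) : Sylow 2 (X ⧸ K)) :
          Subgroup (X ⧸ K)) : Set (X ⧸ K))) := by
  classical
  have hset : {n : ↥(Subgroup.normalizer ((P : Subgroup X) : Set X)) | (n : X) ∈ K} =
      ((K.subgroupOf (Subgroup.normalizer ((P : Subgroup X) : Set X)) :
        Subgroup ↥(Subgroup.normalizer ((P : Subgroup X) : Set X))) :
        Set ↥(Subgroup.normalizer ((P : Subgroup X) : Set X))) := by
    ext n
    exact Iff.rfl
  rw [hset, Cfsg.Agent.Lib.Helper16.RO.rcountKer_quotient]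
  apply rcount_congr
  -- the first isomorphism theorem
  let φ : ↥(Subgroup.normalizer ((P : Subgroup X) : Set X)) →* X ⧸ K :=
    (QuotientGroup.mk' K).comp (Subgroup.normalizer ((P : Subgroup X) : Set X)).subtype
  have hker : K.subgroupOf (Subgroup.normalizer ((P : Subgroup X) : Set X)) = φ.ker := by
    ext n
    rw [Subgroup.mem_subgroupOf, MonoidHom.mem_ker]
    show _ ↔ (QuotientGroup.mk' K) (n : X) = 1
    rw [QuotientGroup.mk'_apply, QuotientGroup.eq_one_iff]
  have hrange : φ.range = Subgroup.normalizer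
      (((P.mapSurjective (QuotientGroup.mk'_surjective K) : Sylow 2 (X ⧸ K)) :
          Subgroup (X ⧸ K)) : Set (X ⧸ K)) := by
    rw [Cfsg.Agent.Lib.Helper11.RO.normalizer_mapSurjective K P]
    show ((QuotientGroup.mk' K).comp
      (Subgroup.normalizer ((P : Subgroup X) : Set X)).subtype).range = _
    rw [MonoidHom.range_comp, Subgroup.range_subtype]
  exact ((QuotientGroup.quotientMulEquivOfEq hker).trans
    (QuotientGroup.quotientKerEquivRange φ)).trans (MulEquiv.subgroupCongr hrange)

end Cfsg.Agent.Lib.Helper4.RO
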