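import Mathlib

set_option autoImplicit false
set_option linter.style.haveILetI false
set_option linter.unusedSectionVars false

namespace Cfsg.Agent.Lib.Helper4

open Subgroup

section Defs

variable {V : Type*} [AddGroup V]

/-- Left translation `z ↦ v + z` on `V ∪ {∞}`. -/
def plvX (v : V) : Equiv.Perm (Option V) := Equiv.optionCongr (Equiv.addLeft v)

theorem plvX_none (v : V) : plvX v none = none := rfl
theorem plvX_some (v z : V) : plvX v (some z) = some (v + z) := rfl
theorem plvX_apply (v : V) (l : Option V) : plvX v l = Option.map (fun z => v + z) l := by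
  cases l <;> rfl

theorem plvX_add (v w : V) : plvX (v + w) = plvX v * plvX w := by
  ext1 l
  cases l with
  | none => rfl
  | some z => rw [Equiv.Perm.mul_apply, plvX_some, plvX_some, plvX_some, add_assoc]

theorem plvX_zero : plvX (0 : V) = 1 := by
  ext1 l
  cases l with
  | none => rfl
  | some z => rw [plvX_some, zero_add]; rfl

theorem plvX_neg (v : V) : plvX (-v) = (plvX v)⁻¹ := by
  rw [eq_inv_iff_mul_eq_one, ← plvX_add, neg_add_cancel, plvX_zero]

/-- An additive automorphism acting on `V ∪ {∞}`. -/
def plvA (A : V ≃+ V) : Equiv.Perm (Option V) := Equiv.optionCongr A.toEquiv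

theorem plvA_none (A : V ≃+ V) : plvA A none = none := rfl
theorem plvA_some (A : V ≃+ V) (z : V) : plvA A (some z) = some (A z) := rfl
theorem plvA_apply (A : V ≃+ V) (l : Option V) : plvA A l = Option.map (fun z => A z) l := by
  cases l <;> rfl

theorem plvA_conj (A : V ≃+ V) (v : V) : plvA A * plvX v * (plvA A)⁻¹ = plvX (A v) := by
  rw [mul_inv_eq_iff_eq_mul]
  ext1 l
  cases l with
  | none => rfl
  | some z =>
    rw [Equiv.Perm.mul_apply, Equiv.Perm.mul_apply, plvX_some, plvA_some, plvA_some, plvX_some,
      map_add]

/-- The two-point stabilizer word attached to `d`. -/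
def plvPi (f : Option V → Option V) (d : V) (l : Option V) : Option V :=
  Option.map (fun z => -((f (some d)).getD 0) + z)
    (f (Option.map (fun z => d + z)
      (f (Option.map (fun z => (f (some (-d))).getD 0 + z) (f l)))))

end Defs

end Cfsg.Agent.Lib.Helper4
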