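import Mathlib
import Cfsg.Agent.Lib.Helper4.PslV1

set_option autoImplicit false

namespace Cfsg.Agent.Lib.Helper4

abbrev V9 := ZMod 3 × ZMod 3
abbrev PL9 := Option V9

/-- candidate function from the eight values at
`(0,1),(0,2),(1,0),(1,1),(1,2),(2,0),(2,1),(2,2)`. -/
def a6F (a0 a1 a2 a3 a4 a5 a6 a7 : V9) : PL9 → PL9
  | none => some 0
  | some v =>
    if v = (0, 1) then some a0 else if v = (0, 2) then some a1 else
    if v = (1, 0) then some a2 else if v = (1, 1) then some a3 else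
    if v = (1, 2) then some a4 else if v = (2, 0) then some a5 else
    if v = (2, 1) then some a6 else if v = (2, 2) then some a7 else none

def a6T0f : PL9 → PL9
  | none => some 0
  | some z => if z = 0 then none else
      some (-(z.1 * (z.1 * z.1 + z.2 * z.2)), z.2 * (z.1 * z.1 + z.2 * z.2))

def a6M (a b c d : ZMod 3) (v : V9) : V9 := (a * v.1 + b * v.2, c * v.1 + d * v.2)

def A6Good (f : PL9 → PL9) : Prop :=
  (∀ l, f (f l) = l) ∧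
  (∀ d : V9, d ≠ 0 → ∀ u : V9,
    (plvPi f d (some (u + (1, 0)))).getD 0 =
      (plvPi f d (some u)).getD 0 + (plvPi f d (some (1, 0))).getD 0 ∧
    (plvPi f d (some (u + (0, 1)))).getD 0 =
      (plvPi f d (some u)).getD 0 + (plvPi f d (some (0, 1))).getD 0) ∧
  (Finset.univ.image (fun d : V9 => if d = 0 then (((1, 0) : V9), ((0, 1) : V9)) else
    ((plvPi f d (some (1, 0))).getD 0, (plvPi f d (some (0, 1))).getD 0))).card ≤ 4

instance (f : PL9 → PL9) : Decidable (A6Good f) := by unfold A6Good; infer_instance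

def A6Concl (f : PL9 → PL9) : Prop :=
  ∃ a b c d : ZMod 3, a * d - b * c ≠ 0 ∧
    ∀ l, f (Option.map (a6M a b c d) l) = Option.map (a6M a b c d) (a6T0f l)

instance (f : PL9 → PL9) : Decidable (A6Concl f) := by unfold A6Concl; infer_instance

/-- consistency of a partial involution: `x ↦ y` and `x' ↦ y'`. -/
def a6k (x y x' y' : V9) : Prop := (y = x' → y' = x) ∧ (y' = x → y = x')

instance (x y x' y' : V9) : Decidable (a6k x y x' y') := by unfold a6k; infer_instance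

def a6S7 (a0 a1 a2 a3 a4 a5 a6 : V9) : Prop :=
  ∀ a7 : V9, a7 ≠ 0 → a6k (2,2) a7 (0,1) a0 → a6k (2,2) a7 (0,2) a1 → a6k (2,2) a7 (1,0) a2 →
    a6k (2,2) a7 (1,1) a3 → a6k (2,2) a7 (1,2) a4 → a6k (2,2) a7 (2,0) a5 → a6k (2,2) a7 (2,1) a6 →
    A6Good (a6F a0 a1 a2 a3 a4 a5 a6 a7) → A6Concl (a6F a0 a1 a2 a3 a4 a5 a6 a7)
instance (a0 a1 a2 a3 a4 a5 a6 : V9) : Decidable (a6S7 a0 a1 a2 a3 a4 a5 a6) := by
  unfold a6S7; infer_instance

def a6S6 (a0 a1 a2 a3 a4 a5 : V9) : Prop :=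
  ∀ a6 : V9, a6 ≠ 0 → a6k (2,1) a6 (0,1) a0 → a6k (2,1) a6 (0,2) a1 → a6k (2,1) a6 (1,0) a2 →
    a6k (2,1) a6 (1,1) a3 → a6k (2,1) a6 (1,2) a4 → a6k (2,1) a6 (2,0) a5 → a6S7 a0 a1 a2 a3 a4 a5 a6
instance (a0 a1 a2 a3 a4 a5 : V9) : Decidable (a6S6 a0 a1 a2 a3 a4 a5) := by
  unfold a6S6; infer_instance

def a6S5 (a0 a1 a2 a3 a4 : V9) : Prop :=
  ∀ a5 : V9, a5 ≠ 0 → a6k (2,0) a5 (0,1) a0 → a6k (2,0) a5 (0,2) a1 → a6k (2,0) a5 (1,0) a2 →
    a6k (2,0) a5 (1,1) a3 → a6k (2,0) a5 (1,2) a4 → a6S6 a0 a1 a2 a3 a4 a5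
instance (a0 a1 a2 a3 a4 : V9) : Decidable (a6S5 a0 a1 a2 a3 a4) := by
  unfold a6S5; infer_instance

def a6S4 (a0 a1 a2 a3 : V9) : Prop :=
  ∀ a4 : V9, a4 ≠ 0 → a6k (1,2) a4 (0,1) a0 → a6k (1,2) a4 (0,2) a1 → a6k (1,2) a4 (1,0) a2 →
    a6k (1,2) a4 (1,1) a3 → a6S5 a0 a1 a2 a3 a4
instance (a0 a1 a2 a3 : V9) : Decidable (a6S4 a0 a1 a2 a3) := by
  unfold a6S4; infer_instance

def a6S3 (a0 a1 a2 : V9) : Prop :=
  ∀ a3 : V9, a3 ≠ 0 → a6k (1,1) a3 (0,1) a0 → a6k (1,1) a3 (0,2) a1 → a6k (1,1) a3 (1,0) a2 →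
    a6S4 a0 a1 a2 a3
instance (a0 a1 a2 : V9) : Decidable (a6S3 a0 a1 a2) := by
  unfold a6S3; infer_instance

def a6S2 (a0 a1 : V9) : Prop :=
  ∀ a2 : V9, a2 ≠ 0 → a6k (1,0) a2 (0,1) a0 → a6k (1,0) a2 (0,2) a1 → a6S3 a0 a1 a2
instance (a0 a1 : V9) : Decidable (a6S2 a0 a1) := by
  unfold a6S2; infer_instance

def a6S1 (a0 : V9) : Prop :=
  ∀ a1 : V9, a1 ≠ 0 → a6k (0,2) a1 (0,1) a0 → a6S2 a0 a1
instance (a0 : V9) : Decidable (a6S1 a0) := by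
  unfold a6S1; infer_instance

def a6S0 : Prop := ∀ a0 : V9, a0 ≠ 0 → a6S1 a0
instance : Decidable a6S0 := by unfold a6S0; infer_instance

set_option maxRecDepth 1000000 in
theorem a6_dec : a6S0 := by
  decide +kernel

end Cfsg.Agent.Lib.Helper4
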