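import Mathlib
import Cfsg.Agent.Lib.Helper4.A6Dec

set_option autoImplicit false
set_option linter.style.haveILetI false
set_option linter.unusedSectionVars false

namespace Cfsg.Agent.Lib.Helper4

open Subgroup

theorem a6T0f_invol : ∀ l : PL9, a6T0f (a6T0f l) = l := by decide

/-- `z ↦ -1/z` as a permutation. -/
def a6T0 : Equiv.Perm PL9 := ⟨a6T0f, a6T0f, a6T0f_invol, a6T0f_invol⟩

theorem a6M_bij : ∀ a b c d : ZMod 3, a * d - b * c ≠ 0 → Function.Bijective (a6M a b c d) := by
  decide +kernel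

theorem a6M_add (a b c d : ZMod 3) (v w : V9) :
    a6M a b c d (v + w) = a6M a b c d v + a6M a b c d w := by
  unfold a6M
  ext
  · simp only [Prod.fst_add, Prod.snd_add]; ring
  · simp only [Prod.fst_add, Prod.snd_add]; ring

/-- The additive automorphism given by an invertible matrix. -/
noncomputable def a6A (a b c d : ZMod 3) (hdet : a * d - b * c ≠ 0) : V9 ≃+ V9 :=
  AddEquiv.ofBijective (AddMonoidHom.mk' (a6M a b c d) (a6M_add a b c d)) (a6M_bij a b c d hdet)

theorem a6A_apply (a b c d : ZMod 3) (hdet : a * d - b * c ≠ 0) (v : V9) :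
    a6A a b c d hdet v = a6M a b c d v := rfl

theorem a6F_eq (f : PL9 → PL9) (h0 : f none = some 0) (h1 : f (some 0) = none)
    (h2 : ∀ v : V9, v ≠ 0 → f (some v) = some ((f (some v)).getD 0)) :
    f = a6F ((f (some (0, 1))).getD 0) ((f (some (0, 2))).getD 0) ((f (some (1, 0))).getD 0)
      ((f (some (1, 1))).getD 0) ((f (some (1, 2))).getD 0) ((f (some (2, 0))).getD 0)
      ((f (some (2, 1))).getD 0) ((f (some (2, 2))).getD 0) := by
  funext l
  cases l with
  | none => exact h0
  | some v =>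
    by_cases hv : v = 0
    · subst hv
      rw [h1]
      rfl
    · rw [h2 v hv]
      revert hv
      fin_cases v
      · intro hv; exact absurd rfl hv
      all_goals (intro _; rfl)

theorem a6k_of_invol (f : PL9 → PL9) (hinv : ∀ l, f (f l) = l) (x x' : V9)
    (hx : f (some x) = some ((f (some x)).getD 0))
    (hx' : f (some x') = some ((f (some x')).getD 0)) :
    a6k x ((f (some x)).getD 0) x' ((f (some x')).getD 0) := by
  constructor
  · intro h
    have h1 : f (some x) = some x' := by rw [hx, h]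
    have h2 : f (some x') = some x := by rw [← h1, hinv]
    rw [h2]; rfl
  · intro h
    have h1 : f (some x') = some x := by rw [hx', h]
    have h2 : f (some x) = some x' := by rw [← h1, hinv]
    rw [h2]; rfl

theorem a6_card_le_ncard {β : Type*} (F : Finset β) (T : Set β) (hT : T.Finite)
    (hsub : ∀ x ∈ F, x ∈ T) : F.card ≤ T.ncard := by
  rw [← Set.ncard_coe_finset]
  exact Set.ncard_le_ncard (fun x hx => hsub x (Finset.mem_coe.mp hx)) hT

theorem a6_good (f : PL9 → PL9) (hinv : ∀ l, f (f l) = l)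
    (S : Set (V9 ≃+ V9)) (hS : S.ncard ≤ 4) (hrefl : AddEquiv.refl V9 ∈ S)
    (hSd : ∀ d : V9, d ≠ 0 → ∃ A ∈ S, ∀ l, plvPi f d l = plvA A l) : A6Good f := by
  refine ⟨hinv, ?_, ?_⟩
  · intro d hd u
    obtain ⟨A, -, hA⟩ := hSd d hd
    simp only [hA, plvA_some, Option.getD_some, map_add, and_self]
  · have hfin : S.Finite := Set.toFinite S
    refine le_trans (a6_card_le_ncard _ ((fun A : V9 ≃+ V9 => (A (1, 0), A (0, 1))) '' S)
      (hfin.image _) ?_) (le_trans (Set.ncard_image_le hfin) hS)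
    intro x hx
    rw [Finset.mem_image] at hx
    obtain ⟨d, -, rfl⟩ := hx
    by_cases hd : d = 0
    · refine ⟨AddEquiv.refl V9, hrefl, ?_⟩
      rw [if_pos hd]
      rfl
    · obtain ⟨A, hAS, hA⟩ := hSd d hd
      refine ⟨A, hAS, ?_⟩
      rw [if_neg hd, hA, hA, plvA_some, plvA_some]
      rfl

theorem a6_concl (f : PL9 → PL9) (hinv : ∀ l, f (f l) = l) (hn : f none = some 0)
    (S : Set (V9 ≃+ V9)) (hS : S.ncard ≤ 4) (hrefl : AddEquiv.refl V9 ∈ S)
    (hSd : ∀ d : V9, d ≠ 0 → ∃ A ∈ S, ∀ l, plvPi f d l = plvA A l) : A6Concl f := by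
  have h0 : f (some 0) = none := by rw [← hn, hinv]
  have hsome : ∀ v : V9, v ≠ 0 → f (some v) = some ((f (some v)).getD 0) := by
    intro v hv
    cases hc : f (some v) with
    | none =>
      exfalso
      have := hinv (some v)
      rw [hc, hn] at this
      exact hv (Option.some.inj this).symm
    | some w => rfl
  have hne : ∀ v : V9, v ≠ 0 → (f (some v)).getD 0 ≠ 0 := by
    intro v hv h
    have h1 := hsome v hv
    rw [h] at h1
    have h2 := hinv (some v)
    rw [h1, h0] at h2
    exact absurd h2 (by simp)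
  have hgood := a6_good f hinv S hS hrefl hSd
  have hf := a6F_eq f hn h0 hsome
  have k := fun x x' (hx : x ≠ 0) (hx' : x' ≠ 0) =>
    a6k_of_invol f hinv x x' (hsome x hx) (hsome x' hx')
  have key := a6_dec _ (hne (0, 1) (by decide)) _ (hne (0, 2) (by decide))
    (k (0, 2) (0, 1) (by decide) (by decide))
    _ (hne (1, 0) (by decide)) (k (1, 0) (0, 1) (by decide) (by decide))
      (k (1, 0) (0, 2) (by decide) (by decide))
    _ (hne (1, 1) (by decide)) (k (1, 1) (0, 1) (by decide) (by decide))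
      (k (1, 1) (0, 2) (by decide) (by decide)) (k (1, 1) (1, 0) (by decide) (by decide))
    _ (hne (1, 2) (by decide)) (k (1, 2) (0, 1) (by decide) (by decide))
      (k (1, 2) (0, 2) (by decide) (by decide)) (k (1, 2) (1, 0) (by decide) (by decide))
      (k (1, 2) (1, 1) (by decide) (by decide))
    _ (hne (2, 0) (by decide)) (k (2, 0) (0, 1) (by decide) (by decide))
      (k (2, 0) (0, 2) (by decide) (by decide)) (k (2, 0) (1, 0) (by decide) (by decide))
      (k (2, 0) (1, 1) (by decide) (by decide)) (k (2, 0) (1, 2) (by decide) (by decide))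
    _ (hne (2, 1) (by decide)) (k (2, 1) (0, 1) (by decide) (by decide))
      (k (2, 1) (0, 2) (by decide) (by decide)) (k (2, 1) (1, 0) (by decide) (by decide))
      (k (2, 1) (1, 1) (by decide) (by decide)) (k (2, 1) (1, 2) (by decide) (by decide))
      (k (2, 1) (2, 0) (by decide) (by decide))
    _ (hne (2, 2) (by decide)) (k (2, 2) (0, 1) (by decide) (by decide))
      (k (2, 2) (0, 2) (by decide) (by decide)) (k (2, 2) (1, 0) (by decide) (by decide))
      (k (2, 2) (1, 1) (by decide) (by decide)) (k (2, 2) (1, 2) (by decide) (by decide))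
      (k (2, 2) (2, 0) (by decide) (by decide)) (k (2, 2) (2, 1) (by decide) (by decide))
      (hf ▸ hgood)
  rw [hf]
  exact key

/-- The model group. -/
def a6C : Subgroup (Equiv.Perm PL9) :=
  closure (Set.range (plvX : V9 → Equiv.Perm PL9) ∪ {a6T0})

theorem a6_model (τ : Equiv.Perm PL9) (hττ : τ * τ = 1) (hτn : τ none = some 0)
    (S : Set (V9 ≃+ V9)) (hS : S.ncard ≤ 4) (hrefl : AddEquiv.refl V9 ∈ S)
    (hSd : ∀ d : V9, d ≠ 0 → ∃ A ∈ S, ∀ l, plvPi τ d l = plvA A l) :
    Nonempty (closure (Set.range (plvX : V9 → Equiv.Perm PL9) ∪ {τ}) ≃* a6C) := by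
  have hinv : ∀ l, τ (τ l) = l := by
    intro l
    rw [← Equiv.Perm.mul_apply, hττ]; rfl
  obtain ⟨a, b, c, d, hdet, hconj⟩ := a6_concl (⇑τ) hinv hτn S hS hrefl hSd
  set A := a6A a b c d hdet with hA
  have hτA : τ = plvA A * a6T0 * (plvA A)⁻¹ := by
    rw [eq_mul_inv_iff_mul_eq]
    ext1 l
    rw [Equiv.Perm.mul_apply, Equiv.Perm.mul_apply, plvA_apply, plvA_apply]
    exact hconj l
  have hcl : closure (Set.range (plvX : V9 → Equiv.Perm PL9) ∪ {τ}) =
      a6C.map (MulAut.conj (plvA A)).toMonoidHom := by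
    rw [a6C, MonoidHom.map_closure, Set.image_union, Set.image_singleton]
    congr 2
    · ext g
      constructor
      · rintro ⟨v, rfl⟩
        refine ⟨plvX (A.symm v), ⟨_, rfl⟩, ?_⟩
        simp only [MulEquiv.coe_toMonoidHom, MulAut.conj_apply, plvA_conj, AddEquiv.apply_symm_apply]
      · rintro ⟨_, ⟨v, rfl⟩, rfl⟩
        exact ⟨A v, by simp only [MulEquiv.coe_toMonoidHom, MulAut.conj_apply, plvA_conj]⟩
    · rw [hτA]; rfl
  exact ⟨(MulEquiv.subgroupCongr hcl).trans
    (a6C.equivMapOfInjective _ (MulAut.conj (plvA A)).injective).symm⟩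

end Cfsg.Agent.Lib.Helper4
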