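import Mathlib
import Cfsg.Agent.Lib.Helper4.PslU4
import Cfsg.Agent.Lib.Helper4.PslV1

set_option autoImplicit false
set_option linter.style.haveILetI false
set_option linter.unusedSectionVars false

namespace Cfsg.Agent.Lib.Helper4

open Subgroup

universe u v

section

variable {G : Type u} [Group G] [Finite G] {p : ℕ} [Fact p.Prime]
  {V : Type v} [AddGroup V] [Finite V]

/-- Hypotheses: `P` is a Sylow subgroup identified with `V`, acting regularly on the other Sylow
subgroups, and `G` acts faithfully on its Sylow `p`-subgroups. -/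
structure PlvHyp (P : Sylow p G) (φ : Multiplicative V ≃* (P : Subgroup G)) (h : ℕ) : Prop where
  card : Nat.card G = (Nat.card V + 1) * (Nat.card V * h)
  nsyl : Nat.card (Sylow p G) = Nat.card V + 1
  faithful : ∀ g : G, (∀ R : Sylow p G, g • R = R) → g = 1
  regular : ∀ g ∈ (P : Subgroup G), ∀ Q : Sylow p G, Q ≠ P → g • Q = Q → g = 1
  even : 2 ∣ Nat.card G

/-- The element of `P` labelled by `v`. -/
def plvx {P : Sylow p G} (φ : Multiplicative V ≃* (P : Subgroup G)) (v : V) : G :=
  ((φ (Multiplicative.ofAdd v) : (P : Subgroup G)) : G)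

variable {P : Sylow p G} {φ : Multiplicative V ≃* (P : Subgroup G)} {h : ℕ}

theorem plvx_mem (v : V) : plvx φ v ∈ (P : Subgroup G) := (φ (Multiplicative.ofAdd v)).2

theorem plvx_add (v w : V) : plvx φ (v + w) = plvx φ v * plvx φ w := by
  unfold plvx
  rw [ofAdd_add, map_mul]
  rfl

theorem plvx_zero : plvx φ (0 : V) = 1 := by
  unfold plvx
  rw [ofAdd_zero, map_one]
  rfl

theorem plvx_neg (v : V) : plvx φ (-v) = (plvx φ v)⁻¹ := by
  rw [eq_inv_iff_mul_eq_one, ← plvx_add, neg_add_cancel, plvx_zero]

theorem plvx_injective : Function.Injective (plvx φ : V → G) := by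
  intro v w hvw
  have h1 : φ (Multiplicative.ofAdd v) = φ (Multiplicative.ofAdd w) := Subtype.ext hvw
  exact Multiplicative.ofAdd.injective (φ.injective h1)

theorem plvx_surj (g : G) (hg : g ∈ (P : Subgroup G)) : ∃ v : V, plvx φ v = g := by
  obtain ⟨m, hm⟩ := φ.surjective ⟨g, hg⟩
  refine ⟨Multiplicative.toAdd m, ?_⟩
  unfold plvx
  rw [ofAdd_toAdd, hm]

theorem plvx_smul_P (v : V) : plvx φ v • P = P :=
  Sylow.smul_eq_iff_mem_normalizer.mpr (le_normalizer (plvx_mem v))

theorem plvx_mem_normalizer (v : V) : plvx φ v ∈ normalizer ((P : Subgroup G) : Set G) :=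
  le_normalizer (plvx_mem v)

/-- The labelling of the Sylow `p`-subgroups. -/
def plvι (φ : Multiplicative V ≃* (P : Subgroup G)) (P₀ : Sylow p G) : Option V → Sylow p G
  | none => P
  | some v => plvx φ v • P₀

theorem plvι_bijective (hyp : PlvHyp P φ h) (P₀ : Sylow p G) (hP₀ : P₀ ≠ P) :
    Function.Bijective (plvι φ P₀) := by
  have hne : ∀ v : V, plvx φ v • P₀ ≠ P := by
    intro v h0
    apply hP₀
    have h1 : (plvx φ v)⁻¹ • P = P := by
      rw [← plvx_neg]; exact plvx_smul_P _
    have h2 : (plvx φ v)⁻¹ • (plvx φ v • P₀) = (plvx φ v)⁻¹ • P := congrArg _ h0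
    rw [inv_smul_smul] at h2
    exact h2.trans h1
  have hinj : Function.Injective (plvι φ P₀) := by
    rintro (_ | z) (_ | w) hzw
    · rfl
    · exact absurd hzw.symm (hne _)
    · exact absurd hzw (hne _)
    · have h1 : plvx φ (-w + z) • P₀ = P₀ := by
        rw [plvx_add, mul_smul, plvx_neg]
        have : plvx φ z • P₀ = plvx φ w • P₀ := hzw
        rw [this, inv_smul_smul]
      have h2 := hyp.regular _ (plvx_mem _) P₀ hP₀ h1
      rw [← plvx_zero (φ := φ)] at h2
      have h3 := plvx_injective h2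
      have : z = w := by
        have := congrArg (fun t => w + t) h3
        simpa using this
      rw [this]
  apply hinj.bijective_of_nat_card_le
  rw [hyp.nsyl, Finite.card_option]

variable (G) in
/-- The permutation representation on labels. -/
noncomputable def plvρ (e : Option V ≃ Sylow p G) : G →* Equiv.Perm (Option V) :=
  (e.symm.permCongrHom).toMonoidHom.comp (MulAction.toPermHom G (Sylow p G))

theorem plvρ_apply (e : Option V ≃ Sylow p G) (g : G) (l : Option V) :
    plvρ G e g l = e.symm (g • e l) := rfl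

theorem plvρ_eq (e : Option V ≃ Sylow p G) (g : G) (σ : Equiv.Perm (Option V))
    (hσ : ∀ l, g • e l = e (σ l)) : plvρ G e g = σ := by
  ext1 l
  rw [plvρ_apply, hσ, Equiv.symm_apply_apply]

theorem plvρ_smul (e : Option V ≃ Sylow p G) (g : G) (l : Option V) :
    g • e l = e (plvρ G e g l) := by
  rw [plvρ_apply, Equiv.apply_symm_apply]

theorem plvρ_injective (hyp : PlvHyp P φ h) (e : Option V ≃ Sylow p G) :
    Function.Injective (plvρ G e) := by
  rw [injective_iff_map_eq_one]
  intro g hg
  apply hyp.faithful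
  intro R
  have := plvρ_smul e g (e.symm R)
  rw [hg, Equiv.Perm.one_apply, Equiv.apply_symm_apply] at this
  exact this

theorem plvρ_x (P₀ : Sylow p G) (e : Option V ≃ Sylow p G) (he_none : e none = P)
    (he_some : ∀ z : V, e (some z) = plvx φ z • P₀) (v : V) :
    plvρ G e (plvx φ v) = plvX v := by
  apply plvρ_eq
  rintro (_ | z)
  · rw [plvX_none, he_none]; exact plvx_smul_P v
  · rw [plvX_some, he_some, he_some, ← mul_smul, ← plvx_add]

theorem plv_exists_label (P₀ : Sylow p G) (e : Option V ≃ Sylow p G) (he_none : e none = P)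
    (he_some : ∀ z : V, e (some z) = plvx φ z • P₀) (R : Sylow p G) (hR : R ≠ P) :
    ∃ z : V, R = plvx φ z • P₀ := by
  rcases hl : e.symm R with _ | z
  · exfalso
    apply hR
    rw [← he_none, ← hl, Equiv.apply_symm_apply]
  · refine ⟨z, ?_⟩
    rw [← he_some, ← hl, Equiv.apply_symm_apply]

end

end Cfsg.Agent.Lib.Helper4
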