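import Mathlib
import Cfsg.Agent.Lib.Helper4.PslV2

set_option autoImplicit false
set_option linter.style.haveILetI false
set_option linter.unusedSectionVars false

namespace Cfsg.Agent.Lib.Helper4

open Subgroup

universe u v

section

variable {G : Type u} [Group G] [Finite G] {p : ℕ} [Fact p.Prime]
  {V : Type v} [AddGroup V] [Finite V]
  {P : Sylow p G} {φ : Multiplicative V ≃* (P : Subgroup G)} {h : ℕ}

/-- An element of the two-point stabilizer acts on the labels as an additive automorphism. -/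
theorem plvρ_stab (P₀ : Sylow p G) (e : Option V ≃ Sylow p G) (he_none : e none = P)
    (he_some : ∀ z : V, e (some z) = plvx φ z • P₀) (g : G) (hgP : g • P = P)
    (hgP₀ : g • P₀ = P₀) :
    ∃ A : V ≃+ V, plvρ G e g = plvA A ∧ ∀ v, g * plvx φ v * g⁻¹ = plvx φ (A v) := by
  have hgN : g ∈ normalizer ((P : Subgroup G) : Set G) := Sylow.smul_eq_iff_mem_normalizer.mp hgP
  have hex : ∀ v : V, ∃ w : V, plvx φ w = g * plvx φ v * g⁻¹ := fun v =>
    plvx_surj _ (Cfsg.Agent.Lib.Helper17.conj_mem_of_mem_normalizer hgN (plvx_mem v))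
  choose A hA using hex
  have hadd : ∀ v w, A (v + w) = A v + A w := by
    intro v w
    apply plvx_injective (φ := φ)
    rw [hA, plvx_add, plvx_add, hA, hA]
    group
  have hinj : Function.Injective A := by
    intro v w hvw
    have h1 : g * plvx φ v * g⁻¹ = g * plvx φ w * g⁻¹ := by rw [← hA, ← hA, hvw]
    have h2 : plvx φ v = plvx φ w := by
      have := congrArg (fun t => g⁻¹ * t * g) h1
      simp only [mul_assoc, inv_mul_cancel_left, inv_mul_cancel, mul_one] at this
      exact this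
    exact plvx_injective h2
  have hbij : Function.Bijective A := Finite.injective_iff_bijective.mp hinj
  refine ⟨AddEquiv.ofBijective (AddMonoidHom.mk' A hadd) hbij, ?_, ?_⟩
  · apply plvρ_eq
    rintro (_ | z)
    · rw [plvA_none, he_none]; exact hgP
    · rw [plvA_some, he_some, he_some]
      have e1 : g • plvx φ z • P₀ = (g * plvx φ z * g⁻¹) • g • P₀ := by
        rw [← mul_smul, ← mul_smul]; congr 1; group
      rw [e1, hgP₀, ← hA]
      rfl
  · intro v
    rw [← hA]
    rfl

theorem plv_card_normalizer (hyp : PlvHyp P φ h) :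
    Nat.card (normalizer ((P : Subgroup G) : Set G)) = Nat.card V * h := by
  have h1 := Cfsg.Agent.Lib.Helper7.card_sylow_mul_card_normalizer P
  rw [hyp.nsyl, hyp.card] at h1
  exact Nat.eq_of_mul_eq_mul_left (by omega) h1

theorem plv_card_stab (hyp : PlvHyp P φ h) (P₀ : Sylow p G) (hP₀ : P₀ ≠ P)
    (e : Option V ≃ Sylow p G) (he_none : e none = P)
    (he_some : ∀ z : V, e (some z) = plvx φ z • P₀) :
    Nat.card (psluH P P₀) = h := by
  have hHN : ∀ k : psluH P P₀, (k : G) ∈ normalizer ((P : Subgroup G) : Set G) := fun k =>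
    (mem_inf.mp k.2).1
  let f : V × psluH P P₀ → normalizer ((P : Subgroup G) : Set G) := fun q =>
    ⟨plvx φ q.1 * (q.2 : G), Subgroup.mul_mem _ (plvx_mem_normalizer _) (hHN q.2)⟩
  have hf : Function.Bijective f := by
    constructor
    · rintro ⟨i, k⟩ ⟨j, k'⟩ hij
      have h1 : plvx φ i * (k : G) = plvx φ j * (k' : G) := congrArg Subtype.val hij
      have hh : (k : G) • P₀ = P₀ := ((mem_psluH P P₀ _).mp k.2).2
      have hh' : (k' : G) • P₀ = P₀ := ((mem_psluH P P₀ _).mp k'.2).2
      have h2 : plvx φ i • P₀ = plvx φ j • P₀ := by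
        have := congrArg (fun g : G => g • P₀) h1
        simp only [mul_smul, hh, hh'] at this
        exact this
      have h3 : i = j := by
        rw [← he_some, ← he_some] at h2
        exact Option.some.inj (e.injective h2)
      subst h3
      have h4 : (k : G) = (k' : G) := mul_left_cancel h1
      rw [Subtype.ext h4]
    · rintro ⟨g, hg⟩
      have hgP : g • P = P := Sylow.smul_eq_iff_mem_normalizer.mpr hg
      have hne : g • P₀ ≠ P := by
        intro h0
        apply hP₀
        have := h0.trans hgP.symm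
        exact smul_left_cancel g this
      obtain ⟨z, hz⟩ := plv_exists_label P₀ e he_none he_some _ hne
      have hmem : (plvx φ z)⁻¹ * g ∈ psluH P P₀ := by
        rw [mem_psluH]
        constructor
        · exact Sylow.smul_eq_iff_mem_normalizer.mpr
            (Subgroup.mul_mem _ (Subgroup.inv_mem _ (plvx_mem_normalizer _)) hg)
        · rw [mul_smul, hz, inv_smul_smul]
      refine ⟨(z, ⟨_, hmem⟩), ?_⟩
      apply Subtype.ext
      show plvx φ z * ((plvx φ z)⁻¹ * g) = g
      rw [mul_inv_cancel_left]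
  have hcard := Nat.card_congr (Equiv.ofBijective f hf)
  rw [Nat.card_prod, plv_card_normalizer hyp] at hcard
  have hV : 0 < Nat.card V := Nat.card_pos
  exact Nat.eq_of_mul_eq_mul_left hV hcard

theorem plv_exists_t (hyp : PlvHyp P φ h) (P₀ : Sylow p G)
    (e : Option V ≃ Sylow p G) (he_none : e none = P)
    (he_some : ∀ z : V, e (some z) = plvx φ z • P₀) :
    ∃ t : G, t * t = 1 ∧ t • P = P₀ ∧ t • P₀ = P := by
  haveI : Fact (Nat.Prime 2) := ⟨Nat.prime_two⟩
  obtain ⟨u, hu⟩ := exists_prime_orderOf_dvd_card' (G := G) 2 hyp.even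
  have huu : u * u = 1 := by rw [← pow_two, ← hu]; exact pow_orderOf_eq_one u
  have hu1 : u ≠ 1 := by
    intro h0
    rw [h0, orderOf_one] at hu
    norm_num at hu
  obtain ⟨R, hR⟩ : ∃ R : Sylow p G, u • R ≠ R := by
    by_contra hcon
    push Not at hcon
    exact hu1 (hyp.faithful u hcon)
  obtain ⟨g₁, hg₁⟩ := MulAction.exists_smul_eq G R P
  have hne : g₁ • (u • R) ≠ P := by
    intro h0
    exact hR (smul_left_cancel g₁ (h0.trans hg₁.symm))
  obtain ⟨z, hz⟩ := plv_exists_label P₀ e he_none he_some _ hne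
  have hxzP : (plvx φ z)⁻¹ • P = P := by
    rw [← plvx_neg]; exact plvx_smul_P _
  set g := (plvx φ z)⁻¹ * g₁ with hg
  have hgR : g • R = P := by rw [hg, mul_smul, hg₁, hxzP]
  have hgR' : g • (u • R) = P₀ := by rw [hg, mul_smul, hz, inv_smul_smul]
  have hgP : g⁻¹ • P = R := by rw [← hgR, inv_smul_smul]
  have hgP₀ : g⁻¹ • P₀ = u • R := by rw [← hgR', inv_smul_smul]
  refine ⟨g * u * g⁻¹, ?_, ?_, ?_⟩
  · have : g * u * g⁻¹ * (g * u * g⁻¹) = g * (u * u) * g⁻¹ := by group
    rw [this, huu]; group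
  · rw [mul_smul, mul_smul, hgP, hgR']
  · rw [mul_smul, mul_smul, hgP₀, ← mul_smul u u, huu, one_smul, hgR]


theorem plv_main (hyp : PlvHyp P φ h) :
    ∃ (ρ : G →* Equiv.Perm (Option V)) (t : G),
      Function.Injective ρ ∧ (∀ v, ρ (plvx φ v) = plvX v) ∧ t * t = 1 ∧ ρ t none = some 0 ∧
      t • P ≠ P ∧ (∀ R : Sylow p G, R ≠ P → ∃ v : V, R = plvx φ v • (t • P)) ∧
      (∀ g : G, ρ g none = none ↔ g • P = P) ∧
      (∀ g : G, ρ g (some 0) = some 0 ↔ g • (t • P) = t • P) ∧
      ∃ S : Set (V ≃+ V), S.ncard ≤ h ∧ AddEquiv.refl V ∈ S ∧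
        ∀ g : G, ρ g none = none → ρ g (some 0) = some 0 →
        ∃ A ∈ S, ρ g = plvA A ∧ ∀ v, g * plvx φ v * g⁻¹ = plvx φ (A v) := by
  have hV : 0 < Nat.card V := Nat.card_pos
  haveI : Nontrivial (Sylow p G) := by
    rw [← Finite.one_lt_card_iff_nontrivial, hyp.nsyl]
    omega
  obtain ⟨P₀, hP₀⟩ := exists_ne P
  set e : Option V ≃ Sylow p G := Equiv.ofBijective _ (plvι_bijective hyp P₀ hP₀) with he
  have he_none : e none = P := rfl
  have he_some : ∀ z : V, e (some z) = plvx φ z • P₀ := fun z => rfl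
  have he_zero : e (some 0) = P₀ := by rw [he_some, plvx_zero, one_smul]
  obtain ⟨t, htt, htP, htP₀⟩ := plv_exists_t hyp P₀ e he_none he_some
  have hex : ∀ k : psluH P P₀, ∃ A : V ≃+ V, plvρ G e (k : G) = plvA A ∧
      ∀ v, (k : G) * plvx φ v * (k : G)⁻¹ = plvx φ (A v) := fun k =>
    plvρ_stab P₀ e he_none he_some k ((mem_psluH P P₀ _).mp k.2).1 ((mem_psluH P P₀ _).mp k.2).2
  choose A hA using hex
  have hnone : ∀ g : G, plvρ G e g none = none ↔ g • P = P := by
    intro g
    constructor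
    · intro hgn
      have := plvρ_smul e g none
      rw [hgn, he_none] at this
      exact this
    · intro hgP
      rw [plvρ_apply, he_none, hgP, ← he_none, Equiv.symm_apply_apply]
  have hzero : ∀ g : G, plvρ G e g (some 0) = some 0 ↔ g • P₀ = P₀ := by
    intro g
    constructor
    · intro hg0
      have := plvρ_smul e g (some 0)
      rw [hg0, he_zero] at this
      exact this
    · intro hgP₀
      rw [plvρ_apply, he_zero, hgP₀, ← he_zero, Equiv.symm_apply_apply]
  refine ⟨plvρ G e, t, plvρ_injective hyp e, plvρ_x P₀ e he_none he_some, htt, ?_, ?_, ?_,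
    hnone, ?_, Set.range A, ?_, ?_, ?_⟩
  · rw [plvρ_apply, he_none, htP, ← he_zero, Equiv.symm_apply_apply]
  · rw [htP]; exact hP₀
  · intro R hR
    rw [htP]
    exact plv_exists_label P₀ e he_none he_some R hR
  · intro g
    rw [htP]
    exact hzero g
  · rw [← Nat.card_coe_set_eq, ← plv_card_stab hyp P₀ hP₀ e he_none he_some]
    exact Finite.card_range_le A
  · refine ⟨⟨1, Subgroup.one_mem _⟩, ?_⟩
    ext v
    apply plvx_injective (φ := φ)
    have := (hA ⟨1, Subgroup.one_mem _⟩).2 v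
    rw [← this]
    simp
  · intro g hgn hg0
    have hgP : g • P = P := (hnone g).mp hgn
    have hgP₀ : g • P₀ = P₀ := (hzero g).mp hg0
    have hmem : g ∈ psluH P P₀ := (mem_psluH P P₀ g).mpr ⟨hgP, hgP₀⟩
    exact ⟨A ⟨g, hmem⟩, Set.mem_range_self _, hA ⟨g, hmem⟩⟩

/-- In the commutative case `P` is self-centralizing. -/
theorem plv_centralizer_le (hyp : PlvHyp P φ h) (hcomm : ∀ v w : V, v + w = w + v) (c : G)
    (hc : ∀ g ∈ (P : Subgroup G), c * g = g * c) : c ∈ (P : Subgroup G) := by
  obtain ⟨ρ, t, hinj, hρx, -, hρt, htP, hlab, hnone, hzero, S, -, -, hS⟩ := plv_main hyp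
  have hcN : c ∈ normalizer ((P : Subgroup G) : Set G) := by
    apply Cfsg.Agent.Lib.Helper17.mem_normalizer_of_forall_conj_mem
    intro g hg
    have : c * g * c⁻¹ = g := by rw [hc g hg]; group
    rw [this]; exact hg
  have hcP : c • P = P := Sylow.smul_eq_iff_mem_normalizer.mpr hcN
  have hne : c • (t • P) ≠ P := by
    intro h0
    exact htP (smul_left_cancel c (h0.trans hcP.symm))
  obtain ⟨z, hz⟩ := hlab _ hne
  set k := (plvx φ z)⁻¹ * c with hk
  have hcomm_k : ∀ v, k * plvx φ v * k⁻¹ = plvx φ v := by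
    intro v
    have h1 : c * plvx φ v * c⁻¹ = plvx φ v := by rw [hc _ (plvx_mem v)]; group
    have h2 : k * plvx φ v * k⁻¹ = (plvx φ z)⁻¹ * (c * plvx φ v * c⁻¹) * plvx φ z := by
      rw [hk]; group
    rw [h2, h1, ← plvx_neg, ← plvx_add, ← plvx_add, hcomm (-z) v, add_assoc, neg_add_cancel,
      add_zero]
  have hkP : k • P = P := by
    rw [hk, mul_smul, hcP, ← plvx_neg]
    exact plvx_smul_P _
  have hkP₀ : k • (t • P) = t • P := by
    rw [hk, mul_smul, hz, inv_smul_smul]
  obtain ⟨A, -, hρk, hAk⟩ := hS k ((hnone k).mpr hkP) ((hzero k).mpr hkP₀)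
  have hAid : ∀ v, A v = v := by
    intro v
    apply plvx_injective (φ := φ)
    rw [← hAk, hcomm_k]
  have hρk1 : ρ k = 1 := by
    rw [hρk]
    ext1 l
    cases l with
    | none => rfl
    | some z => rw [plvA_some, hAid]; rfl
  have hk1 : k = 1 := by
    apply hinj
    rw [hρk1, map_one]
  have : c = plvx φ z := by
    rw [hk] at hk1
    exact (inv_mul_eq_one.mp hk1).symm
  rw [this]
  exact plvx_mem z

end

end Cfsg.Agent.Lib.Helper4
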