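import Mathlib
import Cfsg.Agent.Lib.Helper4.PslV3

set_option autoImplicit false
set_option linter.style.haveILetI false
set_option linter.unusedSectionVars false

namespace Cfsg.Agent.Lib.Helper4

open Subgroup

universe u v

section

variable {G : Type u} [Group G] [Finite G] {p : ℕ} [Fact p.Prime]
  {V : Type v} [AddGroup V] [Finite V]
  {P : Sylow p G} {φ : Multiplicative V ≃* (P : Subgroup G)} {h : ℕ}

theorem plv_closure_eq_top (hs : IsSimpleGroup G) (t : G) (htP : t • P ≠ P)
    (hlab : ∀ R : Sylow p G, R ≠ P → ∃ v : V, R = plvx φ v • (t • P)) :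
    closure (Set.range (plvx φ) ∪ {t}) = ⊤ := by
  set K := closure (Set.range (plvx φ) ∪ {t}) with hK
  have hxK : ∀ v, plvx φ v ∈ K := fun v => subset_closure (Or.inl ⟨v, rfl⟩)
  have htK : t ∈ K := subset_closure (Or.inr rfl)
  have hPK : (P : Subgroup G) ≤ K := by
    intro g hg
    obtain ⟨v, rfl⟩ := plvx_surj (φ := φ) g hg
    exact hxK v
  have hall : ∀ R : Sylow p G, (R : Subgroup G) ≤ K := by
    intro R
    by_cases hR : R = P
    · rw [hR]; exact hPK
    · obtain ⟨v, hv⟩ := hlab R hR
      rw [hv, ← mul_smul]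
      intro g hg
      rw [Sylow.coe_subgroup_smul, mem_smul_pointwise_iff_exists] at hg
      obtain ⟨s, hs, rfl⟩ := hg
      rw [MulAut.smul_def, MulAut.conj_apply]
      have hk : plvx φ v * t ∈ K := mul_mem (hxK v) htK
      exact mul_mem (mul_mem hk (hPK hs)) (inv_mem hk)
  have hnc : normalClosure ((P : Subgroup G) : Set G) ≤ K := by
    rw [normalClosure, closure_le]
    intro g hg
    rw [Group.mem_conjugatesOfSet_iff] at hg
    obtain ⟨b, hb, hbg⟩ := hg
    obtain ⟨c, hc⟩ := isConj_iff.mp hbg
    apply hall (c • P)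
    rw [Sylow.coe_subgroup_smul, mem_smul_pointwise_iff_exists]
    exact ⟨b, hb, by rw [MulAut.smul_def, MulAut.conj_apply, hc]⟩
  have htop : normalClosure ((P : Subgroup G) : Set G) = ⊤ := by
    rcases (normalClosure_normal (s := ((P : Subgroup G) : Set G))).eq_bot_or_eq_top with h0 | h0
    · exfalso
      apply htP
      have hPbot : (P : Subgroup G) = ⊥ := by
        rw [eq_bot_iff, ← h0]
        exact le_normalClosure
      apply Sylow.ext
      rw [Sylow.coe_subgroup_smul, hPbot]
      exact smul_bot _
    · exact h0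
  rw [eq_top_iff, ← htop]
  exact hnc

/-- Second main theorem: a simple group satisfying `PlvHyp` is isomorphic to the group generated by
the translations and an involution `τ` whose two-point stabilizer words are additive. -/
theorem plv_main2 (hyp : PlvHyp P φ h) (hs : IsSimpleGroup G) :
    ∃ τ : Equiv.Perm (Option V), τ * τ = 1 ∧ τ none = some 0 ∧
      (∃ S : Set (V ≃+ V), S.ncard ≤ h ∧ AddEquiv.refl V ∈ S ∧
        ∀ d : V, d ≠ 0 → ∃ A ∈ S, ∀ l, plvPi τ d l = plvA A l) ∧
      Nonempty (G ≃* closure (Set.range (plvX : V → Equiv.Perm (Option V)) ∪ {τ})) := by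
  obtain ⟨ρ, t, hinj, hρx, htt, hρt, htP, hlab, hnone, hzero, S, hScard, hSrefl, hS⟩ :=
    plv_main hyp
  have hττ : ρ t * ρ t = 1 := by rw [← map_mul, htt, map_one]
  have hinv : ∀ l, ρ t (ρ t l) = l := by
    intro l
    rw [← Equiv.Perm.mul_apply, hττ]; rfl
  have h0 : ρ t (some 0) = none := by rw [← hρt, hinv]
  refine ⟨ρ t, hττ, hρt, ⟨S, hScard, hSrefl, ?_⟩, ?_⟩
  · intro d hd
    have hsome : ∀ v : V, v ≠ 0 → ρ t (some v) = some ((ρ t (some v)).getD 0) := by
      intro v hv
      cases hc : ρ t (some v) with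
      | none =>
        exfalso
        have := hinv (some v)
        rw [hc, hρt] at this
        exact hv (Option.some.inj this).symm
      | some w => rfl
    set a := (ρ t (some d)).getD 0 with ha
    set b := (ρ t (some (-d))).getD 0 with hb
    have hda : ρ t (some d) = some a := hsome d hd
    have hdb : ρ t (some (-d)) = some b := hsome (-d) (neg_ne_zero.mpr hd)
    have hbd : ρ t (some b) = some (-d) := by rw [← hdb, hinv]
    set w := plvx φ (-a) * t * plvx φ d * t * plvx φ b * t with hw
    have hρw : ∀ l, ρ w l = plvPi (ρ t) d l := by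
      intro l
      rw [hw]
      simp only [map_mul, hρx, Equiv.Perm.mul_apply, plvX_apply]
      rfl
    have hwn : ρ w none = none := by
      rw [hw]
      simp only [map_mul, hρx, Equiv.Perm.mul_apply]
      rw [hρt, plvX_some, add_zero, hbd, plvX_some, add_neg_cancel, h0, plvX_none]
    have hw0 : ρ w (some 0) = some 0 := by
      rw [hw]
      simp only [map_mul, hρx, Equiv.Perm.mul_apply]
      rw [h0, plvX_none, hρt, plvX_some, add_zero, hda, plvX_some, neg_add_cancel]
    obtain ⟨A, hAS, hρA, -⟩ := hS w hwn hw0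
    exact ⟨A, hAS, fun l => by rw [← hρw, hρA]⟩
  · have htop := plv_closure_eq_top (φ := φ) hs t htP hlab
    have hrange : ρ.range = closure (Set.range (plvX : V → Equiv.Perm (Option V)) ∪ {ρ t}) := by
      rw [MonoidHom.range_eq_map, ← htop, MonoidHom.map_closure, Set.image_union,
        Set.image_singleton, ← Set.range_comp]
      congr 3
      funext v
      exact hρx v
    exact ⟨(MonoidHom.ofInjective hinj).trans (MulEquiv.subgroupCongr hrange)⟩

end

end Cfsg.Agent.Lib.Helper4
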