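import Mathlib
import Cfsg.Agent.Lib.Helper7.SimpleTools

set_option autoImplicit false
set_option linter.style.haveILetI false
set_option linter.unusedSectionVars false

namespace Cfsg.Agent.Lib.Helper4

open Subgroup

/-- A group of order 36 with a central element of order 3 has a normal subgroup of order 4 or a
normal subgroup of order 9. -/
theorem s360_l36 {M : Type*} [Group M] [Finite M] (hM : Nat.card M = 36) (z : M)
    (hz : 3 ∣ orderOf z) (hzc : ∀ g : M, g * z = z * g) :
    (∃ T : Subgroup M, T.Normal ∧ Nat.card T = 4) ∨ (∃ K : Subgroup M, K.Normal ∧ Nat.card K = 9) := by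
  haveI : Fact (Nat.Prime 2) := ⟨Nat.prime_two⟩
  obtain ⟨T⟩ : Nonempty (Sylow 2 M) := inferInstance
  have hTc : Nat.card (T : Subgroup M) = 2 ^ 2 :=
    (Cfsg.Agent.Lib.Helper7.sylow_card_index_of_pow (p := 2) (k := 2) (m := 9)
      (by rw [hM]; norm_num) (by decide) T).1
  have hcomm : ∀ a ∈ (T : Subgroup M), ∀ b ∈ (T : Subgroup M), a * b = b * a :=
    Cfsg.Agent.Lib.Helper7.comm_of_card_prime_sq (p := 2) (T : Subgroup M) hTc
  set N := normalizer ((T : Subgroup M) : Set M) with hN
  have hTN : (T : Subgroup M) ≤ N := le_normalizer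
  have hzN : zpowers z ≤ N := by
    rw [zpowers_le]
    rw [hN, mem_normalizer_iff]
    intro g
    have : z * g * z⁻¹ = g := by rw [← hzc g]; group
    rw [this]
  have hzT_cent : (T : Subgroup M) ⊔ zpowers z ≤ centralizer ((T : Subgroup M) : Set M) := by
    rw [sup_le_iff]
    constructor
    · intro a ha
      rw [mem_centralizer_iff]
      intro b hb
      exact hcomm b hb a ha
    · rw [zpowers_le, mem_centralizer_iff]
      intro b _
      exact hzc b
  have hzT_N : (T : Subgroup M) ⊔ zpowers z ≤ N := sup_le hTN hzN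
  have h12 : 12 ∣ Nat.card ((T : Subgroup M) ⊔ zpowers z : Subgroup M) := by
    have h4 : 4 ∣ Nat.card ((T : Subgroup M) ⊔ zpowers z : Subgroup M) := by
      have := Subgroup.card_dvd_of_le (le_sup_left : (T : Subgroup M) ≤ (T : Subgroup M) ⊔ zpowers z)
      rwa [hTc] at this
    have h3 : 3 ∣ Nat.card ((T : Subgroup M) ⊔ zpowers z : Subgroup M) := by
      have := Subgroup.card_dvd_of_le (le_sup_right : zpowers z ≤ (T : Subgroup M) ⊔ zpowers z)
      rw [Nat.card_zpowers] at this
      exact hz.trans this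
    exact Nat.Coprime.mul_dvd_of_dvd_of_dvd (by decide : Nat.Coprime 4 3) h4 h3
  have hNdvd : Nat.card N ∣ 36 := hM ▸ Subgroup.card_subgroup_dvd_card N
  have h12N : 12 ∣ Nat.card N := h12.trans (Subgroup.card_dvd_of_le hzT_N)
  have hNcases : Nat.card N = 12 ∨ Nat.card N = 36 := by
    obtain ⟨k, hk⟩ := h12N
    have hk3 : k ∣ 3 := by
      rw [hk] at hNdvd
      exact Nat.dvd_of_mul_dvd_mul_left (by norm_num : 0 < 12) (by simpa using hNdvd)
    have hk' : k = 1 ∨ k = 3 := (Nat.dvd_prime Nat.prime_three).mp hk3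
    rcases hk' with rfl | rfl
    · left; omega
    · right; omega
  rcases hNcases with h | h
  · right
    have hNeq : (T : Subgroup M) ⊔ zpowers z = N := by
      apply Subgroup.eq_of_le_of_card_ge hzT_N
      rw [h]
      exact Nat.le_of_dvd Nat.card_pos h12
    have hNC : N ≤ centralizer ((T : Subgroup M) : Set M) := hNeq ▸ hzT_cent
    have hcompl := MonoidHom.ker_transferSylow_isComplement' T hNC
    refine ⟨(MonoidHom.transferSylow T hNC).ker, MonoidHom.normal_ker _, ?_⟩
    have := hcompl.card_mul_card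
    rw [hTc, hM] at this
    omega
  · left
    refine ⟨(T : Subgroup M), ?_, hTc⟩
    rw [← normalizer_eq_top_iff]
    apply Subgroup.eq_top_of_card_eq
    rw [← hN, h, hM]

end Cfsg.Agent.Lib.Helper4
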