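import Mathlib
import Cfsg.Agent.Lib.Helper4.S360a

set_option autoImplicit false
set_option linter.style.haveILetI false
set_option linter.unusedSectionVars false

namespace Cfsg.Agent.Lib.Helper4

open Subgroup

section

variable {G : Type*} [Group G] [Finite G] [IsSimpleGroup G]

theorem s360_sylow3_card (h : Nat.card G = 360) (P : Sylow 3 G) :
    Nat.card (P : Subgroup G) = 3 ^ 2 :=
  (Cfsg.Agent.Lib.Helper7.sylow_card_index_of_pow (p := 3) (k := 2) (m := 40)
    (by rw [h]; norm_num) (by decide) P).1

theorem s360_sylow2_card (h : Nat.card G = 360) (S : Sylow 2 G) :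
    Nat.card (S : Subgroup G) = 2 ^ 3 :=
  (Cfsg.Agent.Lib.Helper7.sylow_card_index_of_pow (p := 2) (k := 3) (m := 45)
    (by rw [h]; norm_num) (by decide) S).1

theorem s360_not_comm (h : Nat.card G = 360) : ¬ IsMulCommutative G :=
  Cfsg.Agent.Lib.Helper7.not_comm_of_card_not_prime (by rw [h]; norm_num)

theorem s360_index (h : Nat.card G = 360) (H : Subgroup G) (hH : H ≠ ⊤) : 5 < H.index := by
  by_contra hle
  rw [not_lt] at hle
  have := Cfsg.Agent.Lib.Helper7.card_dvd_factorial_of_index_le H hH hle
  rw [h] at this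
  norm_num [Nat.factorial] at this

theorem s360_center (h : Nat.card G = 360) (x : G) (hx : ∀ g : G, g * x = x * g) : x = 1 := by
  have hxc : x ∈ center G := by
    rw [mem_center_iff]
    exact hx
  rcases (inferInstance : (center G).Normal).eq_bot_or_eq_top with h0 | h0
  · rw [h0, mem_bot] at hxc
    exact hxc
  · exfalso
    apply s360_not_comm h
    refine ⟨⟨fun a b => ?_⟩⟩
    have : a ∈ center G := by rw [h0]; trivial
    exact (mem_center_iff.mp this b).symm

/-- A normal subgroup of order 9 of a subgroup containing two Sylow 3-subgroups forces them to be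
equal. -/
theorem s360_eq_of_normal9 (h : Nat.card G = 360) (P : Sylow 3 G) (K : Subgroup G)
    (hK : Nat.card K = 9) (hPK : (P : Subgroup G) ≤ normalizer (K : Set G)) :
    (P : Subgroup G) = K := by
  have hKp : IsPGroup 3 K := IsPGroup.of_card (n := 2) (by rw [hK]; norm_num)
  have hsup : IsPGroup 3 ((P : Subgroup G) ⊔ K : Subgroup G) :=
    IsPGroup.to_sup_of_normal_right' P.2 hKp hPK
  have h1 : (P : Subgroup G) ⊔ K = P := P.is_maximal' hsup le_sup_left
  have hKP : K ≤ (P : Subgroup G) := by rw [← h1]; exact le_sup_right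
  symm
  apply Subgroup.eq_of_le_of_card_ge hKP
  rw [hK, s360_sylow3_card h P]
  norm_num

theorem s360_TI (h : Nat.card G = 360) (P Q : Sylow 3 G) (hPQ : P ≠ Q) (x : G)
    (hxP : x ∈ (P : Subgroup G)) (hxQ : x ∈ (Q : Subgroup G)) : x = 1 := by
  by_contra hx1
  have hPc := s360_sylow3_card h P
  have hQc := s360_sylow3_card h Q
  have hPcomm := Cfsg.Agent.Lib.Helper7.comm_of_card_prime_sq (p := 3) (P : Subgroup G) hPc
  have hQcomm := Cfsg.Agent.Lib.Helper7.comm_of_card_prime_sq (p := 3) (Q : Subgroup G) hQc
  set C := centralizer ({x} : Set G) with hC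
  have hmemC : ∀ g : G, g ∈ C ↔ g * x = x * g := by
    intro g
    rw [hC, mem_centralizer_iff]
    constructor
    · intro hg; exact (hg x rfl).symm
    · intro hg y hy; rw [Set.mem_singleton_iff.mp hy]; exact hg.symm
  have hPC : (P : Subgroup G) ≤ C := fun g hg => (hmemC g).mpr (hPcomm g hg x hxP)
  have hQC : (Q : Subgroup G) ≤ C := fun g hg => (hmemC g).mpr (hQcomm g hg x hxQ)
  have hCtop : C ≠ ⊤ := by
    intro htop
    apply hx1
    apply s360_center h
    intro g
    exact (hmemC g).mp (by rw [htop]; trivial)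
  have hidx := s360_index h C hCtop
  have h9 : 9 ∣ Nat.card C := by
    have := Subgroup.card_dvd_of_le hPC
    rwa [hPc] at this
  obtain ⟨m, hm⟩ := h9
  have hidxmul : C.index * Nat.card C = 360 := by rw [← h]; exact C.index_mul_card
  -- Sylow 3-subgroups of C
  set P' : Sylow 3 C := P.subtype hPC with hP'
  set Q' : Sylow 3 C := Q.subtype hQC with hQ'
  have hP'Q' : P' ≠ Q' := fun hh => hPQ (Sylow.subtype_injective hh)
  have hP'card : Nat.card (P' : Subgroup C) = 9 := by
    rw [hP', Sylow.coe_subtype]
    rw [Nat.card_congr (Subgroup.subgroupOfEquivOfLe hPC).toEquiv, hPc]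
    norm_num
  have hn1 : Nat.card (Sylow 3 C) ≠ 1 := by
    intro h1
    have hsub : Subsingleton (Sylow 3 C) := (Nat.card_eq_one_iff_unique.mp h1).1
    exact hP'Q' (Subsingleton.elim _ _)
  have hnmod : Nat.card (Sylow 3 C) % 3 = 1 := by
    have := card_sylow_modEq_one 3 C
    unfold Nat.ModEq at this
    rw [this]
  have hndvd : Nat.card (Sylow 3 C) ∣ m := by
    have h1 := Sylow.card_dvd_index P'
    have h2 : (P' : Subgroup C).index * 9 = 9 * m := by
      have := (P' : Subgroup C).index_mul_card
      rwa [hP'card, hm] at this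
    have h3 : (P' : Subgroup C).index = m := by omega
    rwa [h3] at h1
  have hm4 : m = 4 := by
    rw [hm] at hidxmul
    have hmle : m ≤ 7 := by nlinarith
    have hmpos : 0 < m := by
      rcases Nat.eq_zero_or_pos m with h0 | h0
      · rw [h0] at hidxmul; omega
      · exact h0
    have hm40 : m ∣ 40 := by
      refine ⟨C.index, ?_⟩
      nlinarith
    have hnle := Nat.le_of_dvd hmpos hndvd
    interval_cases m
    all_goals first
      | rfl
      | (exfalso; revert hm40; decide)
      | (exfalso
         have hnpos : 0 < Nat.card (Sylow 3 C) := Nat.card_pos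
         generalize Nat.card (Sylow 3 C) = n at *
         interval_cases n <;> omega)
  have hCcard : Nat.card C = 36 := by rw [hm, hm4]
  -- the central element
  have hxC : x ∈ C := (hmemC x).mpr rfl
  have hord : 3 ∣ orderOf (⟨x, hxC⟩ : C) := by
    rw [Subgroup.orderOf_mk]
    have hdvd : orderOf x ∣ 3 ^ 2 := by
      rw [← hPc]
      exact Subgroup.orderOf_dvd_natCard _ hxP
    obtain ⟨k, -, hk⟩ := (Nat.dvd_prime_pow Nat.prime_three).mp hdvd
    rcases Nat.eq_zero_or_pos k with h0 | h0
    · exfalso
      rw [h0, pow_zero, orderOf_eq_one_iff] at hk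
      exact hx1 hk
    · rw [hk]
      exact dvd_pow_self 3 h0.ne'
  have hcen : ∀ g : C, g * ⟨x, hxC⟩ = ⟨x, hxC⟩ * g := by
    intro g
    apply Subtype.ext
    exact (hmemC g).mp g.2
  rcases s360_l36 hCcard ⟨x, hxC⟩ hord hcen with ⟨T, hTn, hTc⟩ | ⟨K, hKn, hKc⟩
  · -- normal subgroup of order 4
    set T' := T.map C.subtype with hT'
    have hT'c : Nat.card T' = 4 := by
      rw [hT', Subgroup.card_map_of_injective C.subtype_injective, hTc]
    have hCN : C ≤ normalizer (T' : Set G) := by
      have h1 := le_normalizer_map (H := T) C.subtype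
      rw [normalizer_eq_top_iff.mpr hTn, ← MonoidHom.range_eq_map, range_subtype] at h1
      exact h1
    have hT'p : IsPGroup 2 T' := IsPGroup.of_card (n := 2) (by rw [hT'c]; norm_num)
    obtain ⟨S, hTS⟩ := hT'p.exists_le_sylow
    have hSc := s360_sylow2_card h S
    have hSN : (S : Subgroup G) ≤ normalizer (T' : Set G) := by
      rw [← normal_subgroupOf_iff_le_normalizer hTS]
      apply normal_of_index_eq_two
      have h1 := Subgroup.relIndex_mul_relIndex (H := ⊥) (K := T') (L := (S : Subgroup G)) bot_le hTS
      rw [relIndex_bot_left, relIndex_bot_left, hT'c, hSc] at h1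
      change T'.relIndex S = 2
      omega
    set N := normalizer (T' : Set G) with hN
    have hNtop : N ≠ ⊤ := by
      intro htop
      have hnorm : T'.Normal := normalizer_eq_top_iff.mp htop
      rcases hnorm.eq_bot_or_eq_top with h0 | h0
      · rw [h0, Subgroup.card_bot] at hT'c; omega
      · rw [h0, Subgroup.card_top, h] at hT'c; omega
    have hNidx := s360_index h N hNtop
    have h36 : 36 ∣ Nat.card N := by
      rw [← hCcard]; exact Subgroup.card_dvd_of_le hCN
    have h8 : 8 ∣ Nat.card N := by
      have := Subgroup.card_dvd_of_le hSN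
      rwa [hSc] at this
    have h72 : 72 ∣ Nat.card N := by
      have := Nat.lcm_dvd h36 h8
      norm_num at this
      exact this
    have hNmul : N.index * Nat.card N = 360 := by rw [← h]; exact N.index_mul_card
    obtain ⟨k, hk⟩ := h72
    rw [hk] at hNmul
    have hkpos : 0 < k := by
      rcases Nat.eq_zero_or_pos k with h0 | h0
      · rw [h0] at hNmul; omega
      · exact h0
    nlinarith
  · -- normal subgroup of order 9
    set K' := K.map C.subtype with hK'
    have hK'c : Nat.card K' = 9 := by
      rw [hK', Subgroup.card_map_of_injective C.subtype_injective, hKc]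
    have hCN : C ≤ normalizer (K' : Set G) := by
      have h1 := le_normalizer_map (H := K) C.subtype
      rw [normalizer_eq_top_iff.mpr hKn, ← MonoidHom.range_eq_map, range_subtype] at h1
      exact h1
    have h1 := s360_eq_of_normal9 h P K' hK'c (hPC.trans hCN)
    have h2 := s360_eq_of_normal9 h Q K' hK'c (hQC.trans hCN)
    exact hPQ (Sylow.ext (h1.trans h2.symm))

end

end Cfsg.Agent.Lib.Helper4
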