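import Mathlib
import Cfsg.Agent.Lib.Helper4.S360b
import Cfsg.Agent.Lib.Helper4.PslV4

set_option autoImplicit false
set_option linter.style.haveILetI false
set_option linter.unusedSectionVars false

namespace Cfsg.Agent.Lib.Helper4

open Subgroup

universe u v

section

variable {G : Type u} [Group G] [Finite G] [IsSimpleGroup G]

theorem s360_card_normalizer_mul (P : Sylow 3 G) :
    Nat.card (Sylow 3 G) * Nat.card (normalizer ((P : Subgroup G) : Set G)) = Nat.card G :=
  Cfsg.Agent.Lib.Helper7.card_sylow_mul_card_normalizer P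

theorem s360_nsyl (h : Nat.card G = 360) : Nat.card (Sylow 3 G) = 10 := by
  obtain ⟨P⟩ : Nonempty (Sylow 3 G) := inferInstance
  have hPc := s360_sylow3_card h P
  have hPidx : (P : Subgroup G).index = 40 :=
    (Cfsg.Agent.Lib.Helper7.sylow_card_index_of_pow (p := 3) (k := 2) (m := 40)
      (by rw [h]; norm_num) (by decide) P).2
  have hdvd : Nat.card (Sylow 3 G) ∣ 40 := hPidx ▸ Sylow.card_dvd_index P
  have hmod : Nat.card (Sylow 3 G) % 3 = 1 := by
    have := card_sylow_modEq_one 3 G
    unfold Nat.ModEq at this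
    rw [this]
  have hmul := s360_card_normalizer_mul P
  rw [h] at hmul
  have hne1 : Nat.card (Sylow 3 G) ≠ 1 :=
    Cfsg.Agent.Lib.Helper7.card_sylow_ne_one P (by rw [hPc]; norm_num) (by rw [hPc, h]; norm_num)
  have hne4 : Nat.card (Sylow 3 G) ≠ 4 := by
    intro h4
    have hidx : (normalizer ((P : Subgroup G) : Set G)).index = 4 := by
      rw [← h4]; exact (Sylow.card_eq_index_normalizer P).symm
    have htop : normalizer ((P : Subgroup G) : Set G) ≠ ⊤ := by
      intro ht
      rw [ht, index_top] at hidx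
      omega
    have := s360_index h _ htop
    omega
  have hne40 : Nat.card (Sylow 3 G) ≠ 40 := by
    intro h40
    rw [h40] at hmul
    have hN9 : Nat.card (normalizer ((P : Subgroup G) : Set G)) = 9 := by omega
    have hNP : (P : Subgroup G) = normalizer ((P : Subgroup G) : Set G) := by
      apply Subgroup.eq_of_le_of_card_ge le_normalizer
      rw [hN9, hPc]
      norm_num
    have hcomm := Cfsg.Agent.Lib.Helper7.comm_of_card_prime_sq (p := 3) (P : Subgroup G) hPc
    apply Cfsg.Agent.Lib.Helper7.not_normalizer_le_centralizer (s360_not_comm h) P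
      (by rw [hPc]; norm_num) hcomm
    rw [← hNP]
    intro a ha
    rw [mem_centralizer_iff]
    intro b hb
    exact hcomm b hb a ha
  have hle : Nat.card (Sylow 3 G) ≤ 40 := Nat.le_of_dvd (by norm_num) hdvd
  have hpos : 0 < Nat.card (Sylow 3 G) := Nat.card_pos
  generalize Nat.card (Sylow 3 G) = n at *
  interval_cases n <;> first | rfl | omega

theorem s360_regular (h : Nat.card G = 360) (P : Sylow 3 G) (g : G) (hg : g ∈ (P : Subgroup G))
    (Q : Sylow 3 G) (hQ : Q ≠ P) (hgQ : g • Q = Q) : g = 1 := by
  apply s360_TI h P Q hQ.symm g hg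
  have hgN : g ∈ normalizer ((Q : Subgroup G) : Set G) := Sylow.smul_eq_iff_mem_normalizer.mp hgQ
  have hzp : IsPGroup 3 (zpowers g) := P.2.to_le (zpowers_le.mpr hg)
  have hsup : IsPGroup 3 (zpowers g ⊔ (Q : Subgroup G) : Subgroup G) :=
    IsPGroup.to_sup_of_normal_right' hzp Q.2 (zpowers_le.mpr hgN)
  have h1 : zpowers g ⊔ (Q : Subgroup G) = Q := Q.is_maximal' hsup le_sup_right
  rw [← h1]
  exact le_sup_left (a := zpowers g) (mem_zpowers g)

theorem s360_faithful (h : Nat.card G = 360) (g : G) (hg : ∀ R : Sylow 3 G, g • R = R) : g = 1 := by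
  have hker : g ∈ (MulAction.toPermHom G (Sylow 3 G)).ker := by
    rw [MonoidHom.mem_ker]
    ext1 R
    exact hg R
  rcases (MonoidHom.normal_ker (MulAction.toPermHom G (Sylow 3 G))).eq_bot_or_eq_top with h1 | h1
  · rw [h1, mem_bot] at hker
    exact hker
  · exfalso
    haveI : Nontrivial (Sylow 3 G) := by
      rw [← Finite.one_lt_card_iff_nontrivial, s360_nsyl h]
      norm_num
    obtain ⟨P⟩ : Nonempty (Sylow 3 G) := inferInstance
    obtain ⟨P₀, hP₀⟩ := exists_ne P
    obtain ⟨g₁, hg₁⟩ := MulAction.exists_smul_eq G P P₀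
    have : g₁ ∈ (MulAction.toPermHom G (Sylow 3 G)).ker := by rw [h1]; trivial
    rw [MonoidHom.mem_ker] at this
    have h2 := congrArg (fun σ : Equiv.Perm (Sylow 3 G) => σ P) this
    simp only [MulAction.toPermHom_apply, MulAction.toPerm_apply, Equiv.Perm.one_apply] at h2
    exact hP₀ (hg₁.symm.trans h2)

theorem s360_hyp (h : Nat.card G = 360) (P : Sylow 3 G) {V : Type v} [AddGroup V] [Finite V]
    (hV : Nat.card V = 9) (φ : Multiplicative V ≃* (P : Subgroup G)) : PlvHyp P φ 4 where
  card := by rw [h, hV]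
  nsyl := by rw [s360_nsyl h, hV]
  faithful := s360_faithful h
  regular := s360_regular h P
  even := by rw [h]; norm_num

theorem s360_not_cyclic (h : Nat.card G = 360) (P : Sylow 3 G) : ¬ IsCyclic (P : Subgroup G) := by
  intro hcyc
  have hPc := s360_sylow3_card h P
  have hcomm := Cfsg.Agent.Lib.Helper7.comm_of_card_prime_sq (p := 3) (P : Subgroup G) hPc
  have hV : Nat.card (Additive (P : Subgroup G)) = 9 := by
    rw [show Nat.card (Additive (P : Subgroup G)) = Nat.card (P : Subgroup G) from rfl, hPc]
    norm_num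
  have hyp := s360_hyp h P hV (MulEquiv.multiplicativeAdditive (P : Subgroup G))
  have hCP : centralizer ((P : Subgroup G) : Set G) = P := by
    apply le_antisymm
    · intro c hc
      apply plv_centralizer_le hyp
      · intro v w
        exact congrArg Additive.ofMul
          (Subtype.ext (hcomm _ (Additive.toMul v).2 _ (Additive.toMul w).2))
      · intro g hg
        exact (mem_centralizer_iff.mp hc g hg).symm
    · intro a ha
      rw [mem_centralizer_iff]
      intro b hb
      exact hcomm b hb a ha
  have h1 := Cfsg.Agent.Lib.Helper7.card_centralizer_mul_relIndex (P : Subgroup G)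
  have h2 := Cfsg.Agent.Lib.Helper7.relIndex_centralizer_normalizer_dvd (P : Subgroup G)
  have h3 := s360_card_normalizer_mul P
  rw [s360_nsyl h, h] at h3
  rw [hCP, hPc] at h1
  have h4 : (centralizer ((P : Subgroup G) : Set G)).relIndex
      (normalizer ((P : Subgroup G) : Set G)) = 4 := by
    rw [hCP]
    omega
  rw [h4, IsCyclic.card_mulAut, hPc] at h2
  revert h2
  decide

end

end Cfsg.Agent.Lib.Helper4
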