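import Mathlib
import Cfsg.Agent.Lib.Helper4.A6Dec

set_option autoImplicit false
set_option linter.style.haveILetI false
set_option linter.unusedSectionVars false

namespace Cfsg.Agent.Lib.Helper4

open Subgroup

theorem zmod3_pow_add {M : Type*} [Monoid M] (x : M) (hx : x ^ 3 = 1) (a b : ZMod 3) :
    x ^ (a + b).val = x ^ a.val * x ^ b.val := by
  rw [← pow_add, ZMod.val_add, ← pow_eq_pow_mod _ hx]

theorem card_v9 : Nat.card V9 = 9 := by
  rw [Nat.card_prod, Nat.card_zmod]

/-- A non-cyclic group of order 9 is isomorphic to `(ZMod 3)²`. -/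
theorem exists_v9_equiv {H : Type*} [Group H] [Finite H] (hH : Nat.card H = 9)
    (hnc : ¬ IsCyclic H) : Nonempty (Multiplicative V9 ≃* H) := by
  haveI : Fact (Nat.Prime 3) := ⟨Nat.prime_three⟩
  have hcommI : IsMulCommutative H :=
    IsPGroup.isMulCommutative_of_card_eq_prime_sq (p := 3) (by rw [hH]; norm_num)
  have hcomm : ∀ a b : H, a * b = b * a := fun a b => hcommI.is_comm.comm a b
  have hpow : ∀ x : H, x ^ 3 = 1 := by
    intro x
    have hdvd : orderOf x ∣ 3 ^ 2 := by
      have := orderOf_dvd_natCard x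
      rwa [hH] at this
    obtain ⟨k, hk, hk'⟩ := (Nat.dvd_prime_pow Nat.prime_three).mp hdvd
    have hk2 : k ≠ 2 := by
      intro h2
      apply hnc
      apply isCyclic_of_orderOf_eq_card x
      rw [hk', h2, hH]
      norm_num
    have hk1 : k ≤ 1 := by omega
    apply orderOf_dvd_iff_pow_eq_one.mp
    rw [hk']
    exact pow_dvd_pow 3 hk1
  haveI : Nontrivial H := by
    rw [← Finite.one_lt_card_iff_nontrivial, hH]
    norm_num
  obtain ⟨x₁, hx₁⟩ := exists_ne (1 : H)
  have hord₁ : orderOf x₁ = 3 := orderOf_eq_prime (hpow x₁) hx₁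
  have hne_top : zpowers x₁ ≠ ⊤ := by
    intro htop
    have := Nat.card_zpowers x₁
    rw [htop, Subgroup.card_top, hH, hord₁] at this
    omega
  obtain ⟨x₂, hx₂⟩ : ∃ x₂ : H, x₂ ∉ zpowers x₁ := by
    by_contra hcon
    apply hne_top
    rw [eq_top_iff]
    intro g _
    by_contra hg
    exact hcon ⟨g, hg⟩
  set f : Multiplicative V9 →* H := MonoidHom.mk'
    (fun v => x₁ ^ (Multiplicative.toAdd v).1.val * x₂ ^ (Multiplicative.toAdd v).2.val) (by
      intro v w
      simp only [toAdd_mul, Prod.fst_add, Prod.snd_add]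
      rw [zmod3_pow_add x₁ (hpow x₁), zmod3_pow_add x₂ (hpow x₂)]
      rw [mul_assoc, mul_assoc]
      congr 1
      rw [← mul_assoc, ← mul_assoc, hcomm (x₁ ^ _) (x₂ ^ _)]) with hf
  have hfapp : ∀ v : Multiplicative V9,
      f v = x₁ ^ (Multiplicative.toAdd v).1.val * x₂ ^ (Multiplicative.toAdd v).2.val :=
    fun v => rfl
  have hinj : Function.Injective f := by
    rw [injective_iff_map_eq_one]
    intro v hv
    rw [hfapp] at hv
    set a := (Multiplicative.toAdd v).1 with ha
    set b := (Multiplicative.toAdd v).2 with hb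
    have hx₂pow : x₂ ^ b.val ∈ zpowers x₁ := by
      have : x₂ ^ b.val = (x₁ ^ a.val)⁻¹ := eq_inv_of_mul_eq_one_right hv
      rw [this]
      exact inv_mem (pow_mem (mem_zpowers x₁) _)
    have hb0 : b = 0 := by
      have hlt : b.val < 3 := ZMod.val_lt b
      rw [← ZMod.val_eq_zero]
      by_contra hne
      have h12 : b.val = 1 ∨ b.val = 2 := by omega
      rcases h12 with h1 | h2
      · rw [h1, pow_one] at hx₂pow
        exact hx₂ hx₂pow
      · rw [h2] at hx₂pow
        have : x₂ = (x₂ ^ 2) ^ 2 := by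
          rw [← pow_mul]
          have : x₂ ^ (2 * 2) = x₂ ^ 3 * x₂ := by rw [← pow_succ]
          rw [this, hpow x₂, one_mul]
        apply hx₂
        rw [this]
        exact pow_mem hx₂pow 2
    have ha0 : a = 0 := by
      rw [hb0, ZMod.val_zero, pow_zero, mul_one] at hv
      have hlt : a.val < 3 := ZMod.val_lt a
      rw [← ZMod.val_eq_zero]
      have hdvd := orderOf_dvd_of_pow_eq_one hv
      rw [hord₁] at hdvd
      rcases Nat.eq_zero_or_pos a.val with h0 | h0
      · exact h0
      · have := Nat.le_of_dvd h0 hdvd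
        omega
    have : Multiplicative.toAdd v = 0 := Prod.ext ha0 hb0
    exact Multiplicative.toAdd.injective this
  have hbij : Function.Bijective f := by
    rw [Nat.bijective_iff_injective_and_card]
    refine ⟨hinj, ?_⟩
    rw [hH]
    exact card_v9
  exact ⟨MulEquiv.ofBijective f hbij⟩

end Cfsg.Agent.Lib.Helper4
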