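import Mathlib
import Cfsg.Agent.Lib.Helper4.S360c
import Cfsg.Agent.Lib.Helper4.S360d
import Cfsg.Agent.Lib.Helper4.A6Model

set_option autoImplicit false
set_option linter.style.haveILetI false
set_option linter.unusedSectionVars false

namespace Cfsg.Agent.Lib.Helper4

open Subgroup

universe u v

/-- Every simple group of order 360 is isomorphic to the model group `a6C`. -/
theorem s360_iso_model {G : Type u} [Group G] [Finite G] [IsSimpleGroup G]
    (h : Nat.card G = 360) : Nonempty (G ≃* a6C) := by
  obtain ⟨P⟩ : Nonempty (Sylow 3 G) := inferInstance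
  have hnc := s360_not_cyclic h P
  have hPc := s360_sylow3_card h P
  obtain ⟨φ⟩ := exists_v9_equiv (H := (P : Subgroup G)) (by rw [hPc]; norm_num) hnc
  have hyp := s360_hyp h P card_v9 φ
  obtain ⟨τ, hττ, hτn, ⟨S, hS, hrefl, hSd⟩, ⟨e⟩⟩ := plv_main2 hyp inferInstance
  obtain ⟨e'⟩ := a6_model τ hττ hτn S hS hrefl hSd
  exact ⟨e.trans e'⟩

/-- Any two simple groups of order 360 are isomorphic. -/
theorem s360_mulEquiv {G : Type u} {G' : Type v} [Group G] [Finite G] [IsSimpleGroup G]
    [Group G'] [Finite G'] [IsSimpleGroup G'] (h : Nat.card G = 360) (h' : Nat.card G' = 360) :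
    Nonempty (G ≃* G') := by
  obtain ⟨e⟩ := s360_iso_model h
  obtain ⟨e'⟩ := s360_iso_model h'
  exact ⟨e.trans e'.symm⟩

theorem s360_card_alt6 : Nat.card (alternatingGroup (Fin 6)) = 360 := by
  rw [nat_card_alternatingGroup, Nat.card_fin]
  rfl

/-- A simple group of order 360 is isomorphic to `A₆`. -/
theorem s360_iso_alt6 {G : Type u} [Group G] [Finite G] [IsSimpleGroup G]
    (h : Nat.card G = 360) : Nonempty (G ≃* alternatingGroup (Fin 6)) := by
  haveI : IsSimpleGroup (alternatingGroup (Fin 6)) := alternatingGroup.isSimpleGroup (by simp)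
  exact s360_mulEquiv h s360_card_alt6

end Cfsg.Agent.Lib.Helper4
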