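import Mathlib
import Cfsg.Prelude.Def_ClassificationK
import Cfsg.Agent.Lib.Helper9.FStar

set_option autoImplicit false

namespace Cfsg.Agent.Lib.Helper4

open Subgroup

universe u

/-- A cyclic group has at most one element of order two. -/
theorem eq_of_sq_eq_one_of_isCyclic {A : Type u} [Group A] [Finite A] [IsCyclic A] {x y : A}
    (hx : x ^ 2 = 1) (hy : y ^ 2 = 1) (hx1 : x ≠ 1) (hy1 : y ≠ 1) : x = y := by
  classical
  haveI : Fintype A := Fintype.ofFinite A
  by_contra hne
  have h1 := IsCyclic.card_pow_eq_one_le (α := A) (n := 2) (by norm_num)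
  have h2 : ({1, x, y} : Finset A) ⊆ Finset.univ.filter (fun a : A => a ^ 2 = 1) := by
    intro a ha
    simp only [Finset.mem_insert, Finset.mem_singleton] at ha
    simp only [Finset.mem_filter, Finset.mem_univ, true_and]
    rcases ha with rfl | rfl | rfl
    · exact one_pow 2
    · exact hx
    · exact hy
  have h3 : ({1, x, y} : Finset A).card = 3 := by
    rw [Finset.card_insert_of_notMem, Finset.card_insert_of_notMem, Finset.card_singleton]
    · simpa using hne
    · simp only [Finset.mem_insert, Finset.mem_singleton, not_or]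
      exact ⟨fun h => hx1 h.symm, fun h => hy1 h.symm⟩
  have := Finset.card_le_card h2
  omega

/-- Let `Q` be a normal self-centralizing subgroup of `C = C_G(z)` of symplectic type, `z` an
involution. A characteristic abelian subgroup `B` of `Q` is conjugated by any `g ∈ G` to itself or to a
subgroup meeting it trivially. -/
theorem conj_eq_or_inf_eq_bot_of_symplectic {G : Type u} [Group G] [Finite G] (z : G)
    (hz : orderOf z = 2) (C : Subgroup G) (hC : C = centralizer ({z} : Set G))
    (Q : Subgroup C) [hQn : Q.Normal]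
    (hcent : centralizer (Q : Set C) ≤ Q)
    (hQ : Cfsg.IsOfSymplecticType Q) (B : Subgroup Q) (hBc : B.Characteristic)
    (hBa : IsMulCommutative B) (g : G) :
    ((B.map Q.subtype).map C.subtype).map (MulAut.conj g).toMonoidHom =
        (B.map Q.subtype).map C.subtype ∨
      ((B.map Q.subtype).map C.subtype).map (MulAut.conj g).toMonoidHom ⊓
        (B.map Q.subtype).map C.subtype = ⊥ := by
  classical
  set Bh : Subgroup G := (B.map Q.subtype).map C.subtype with hBh
  have hmem : ∀ x : G, x ∈ Bh ↔ ∃ q : Q, q ∈ B ∧ ((q : C) : G) = x := by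
    intro x
    constructor
    · rintro ⟨c, ⟨q, hq, rfl⟩, rfl⟩
      exact ⟨q, hq, rfl⟩
    · rintro ⟨q, hq, rfl⟩
      exact ⟨(q : C), ⟨q, hq, rfl⟩, rfl⟩
  -- `z` as an element of `C`, of `Q`
  have hzC : z ∈ C := by
    rw [hC, Subgroup.mem_centralizer_iff]
    intro y hy
    rw [Set.mem_singleton_iff] at hy
    rw [hy]
  have hzcen : (⟨z, hzC⟩ : C) ∈ centralizer (Q : Set C) := by
    rw [Subgroup.mem_centralizer_iff]
    intro y _
    apply Subtype.ext
    have hy : (y : G) ∈ centralizer ({z} : Set G) := by rw [← hC]; exact y.2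
    rw [Subgroup.mem_centralizer_iff] at hy
    exact (hy z rfl).symm
  have hzQ : (⟨z, hzC⟩ : C) ∈ Q := hcent hzcen
  set zq : Q := ⟨⟨z, hzC⟩, hzQ⟩ with hzq
  have hzq2 : zq ^ 2 = 1 := by
    apply Subtype.ext; apply Subtype.ext
    show z ^ 2 = 1
    rw [← hz]; exact pow_orderOf_eq_one z
  have hzq1 : zq ≠ 1 := by
    intro h
    have : z = 1 := congrArg (fun q : Q => ((q : C) : G)) h
    rw [this, orderOf_one] at hz
    omega
  have hzqcen : zq ∈ center Q := by
    rw [Subgroup.mem_center_iff]
    intro q
    apply Subtype.ext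
    have := (Subgroup.mem_centralizer_iff.mp hzcen) (q : C) q.2
    exact this
  -- the centre of `Q` is cyclic
  haveI hZc : IsCyclic (center Q) := hQ.2 (center Q) inferInstance inferInstance
  haveI hBcyc : IsCyclic B := hQ.2 B hBc hBa
  haveI : B.Normal := inferInstance
  -- the only involution of `B` is `zq`
  have hinv : ∀ b : Q, b ∈ B → b ^ 2 = 1 → b ≠ 1 → b = zq := by
    intro b hb hb2 hb1
    have hbcen : b ∈ center Q := by
      rw [Subgroup.mem_center_iff]
      intro q
      have h1 : q * b * q⁻¹ ∈ B := (inferInstance : B.Normal).conj_mem b hb q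
      have h2 : (⟨q * b * q⁻¹, h1⟩ : B) = ⟨b, hb⟩ := by
        apply eq_of_sq_eq_one_of_isCyclic
        · apply Subtype.ext
          show (q * b * q⁻¹) ^ 2 = 1
          rw [conj_pow, hb2, mul_one, mul_inv_cancel]
        · apply Subtype.ext; exact hb2
        · intro h
          have : q * b * q⁻¹ = 1 := congrArg Subtype.val h
          apply hb1
          rw [conj_eq_one_iff] at this
          exact this
        · intro h
          exact hb1 (congrArg Subtype.val h)
      have h3 : q * b * q⁻¹ = b := congrArg Subtype.val h2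
      calc q * b = q * b * q⁻¹ * q := by group
        _ = b * q := by rw [h3]
    have h4 : (⟨b, hbcen⟩ : center Q) = ⟨zq, hzqcen⟩ := by
      apply eq_of_sq_eq_one_of_isCyclic
      · apply Subtype.ext; exact hb2
      · apply Subtype.ext; exact hzq2
      · intro h; exact hb1 (congrArg Subtype.val h)
      · intro h; exact hzq1 (congrArg Subtype.val h)
    exact congrArg Subtype.val h4
  have hinvG : ∀ w : G, w ∈ Bh → orderOf w = 2 → w = z := by
    intro w hw hw2
    obtain ⟨q, hq, rfl⟩ := (hmem w).mp hw
    have h1 : q ^ 2 = 1 := by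
      apply Subtype.ext; apply Subtype.ext
      show ((q : C) : G) ^ 2 = 1
      rw [← hw2]; exact pow_orderOf_eq_one _
    have h2 : q ≠ 1 := by
      intro h
      rw [h] at hw2
      simp at hw2
    rw [hinv q hq h1 h2]
  -- elements of `C` normalize `Bh`
  have hnorm : ∀ c : G, c ∈ C → Bh.map (MulAut.conj c).toMonoidHom ≤ Bh := by
    intro c hc
    rintro _ ⟨w, hw, rfl⟩
    obtain ⟨q, hq, rfl⟩ := (hmem w).mp hw
    have h1 := (Subgroup.characteristic_iff_map_eq.mp hBc) (MulAut.conjNormal (⟨c, hc⟩ : C))
    have h2 : (MulAut.conjNormal (⟨c, hc⟩ : C)) q ∈ B := by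
      rw [← h1]
      exact Subgroup.mem_map_of_mem _ hq
    rw [hmem]
    refine ⟨_, h2, ?_⟩
    rw [MulAut.conjNormal_apply]
    rfl
  by_cases hbot : Bh.map (MulAut.conj g).toMonoidHom ⊓ Bh = ⊥
  · right; exact hbot
  left
  -- an involution in the intersection
  have hP : IsPGroup 2 (Bh.map (MulAut.conj g).toMonoidHom ⊓ Bh : Subgroup G) := by
    have hPB : IsPGroup 2 Bh := by
      have h1 : IsPGroup 2 B := hQ.1.to_subgroup B
      have h2 : IsPGroup 2 (B.map Q.subtype) := h1.map _
      exact h2.map _
    exact hPB.to_le inf_le_right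
  haveI : Fact (Nat.Prime 2) := ⟨Nat.prime_two⟩
  have hnt : Nontrivial (Bh.map (MulAut.conj g).toMonoidHom ⊓ Bh : Subgroup G) :=
    (Subgroup.nontrivial_iff_ne_bot _).mpr hbot
  obtain ⟨w, hw⟩ : ∃ w : (Bh.map (MulAut.conj g).toMonoidHom ⊓ Bh : Subgroup G), orderOf w = 2 := by
    have hdvd : 2 ∣ Nat.card (Bh.map (MulAut.conj g).toMonoidHom ⊓ Bh : Subgroup G) := by
      obtain ⟨n, hn⟩ := hP.exists_card_eq
      rw [hn]
      have : n ≠ 0 := by
        intro h0
        rw [h0, pow_zero] at hn
        have := (Nat.card_eq_one_iff_unique.mp hn).1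
        exact not_subsingleton _ this
      exact dvd_pow_self 2 this
    exact exists_prime_orderOf_dvd_card' 2 hdvd
  have hw2 : orderOf (w : G) = 2 := by rw [Subgroup.orderOf_coe]; exact hw
  obtain ⟨hwg, hwB⟩ := Subgroup.mem_inf.mp w.2
  have e1 : (w : G) = z := hinvG _ hwB hw2
  obtain ⟨w', hw', hww'⟩ := hwg
  have hw'2 : orderOf w' = 2 := by
    rw [← hw2, ← hww']
    exact (orderOf_injective (MulAut.conj g).toMonoidHom (MulAut.conj g).injective w').symm
  have e2 : w' = z := hinvG _ hw' hw'2
  have hgC : g ∈ C := by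
    rw [hC, Subgroup.mem_centralizer_iff]
    intro y hy
    rw [Set.mem_singleton_iff] at hy
    rw [hy]
    have : g * z * g⁻¹ = z := by
      rw [e2, e1] at hww'
      exact hww'
    calc z * g = g * z * g⁻¹ * g := by rw [this]
      _ = g * z := by group
  apply Subgroup.eq_of_le_of_card_ge (hnorm g hgC)
  rw [Subgroup.card_map_of_injective (f := (MulAut.conj g).toMonoidHom) (MulAut.conj g).injective]

end Cfsg.Agent.Lib.Helper4
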