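import Mathlib
import Cfsg.Prelude.Def_Transfer
import Cfsg.Prelude.Def_SolvableStructure
import Cfsg.Prelude.Def_Local
import Cfsg.Prelude.Def_CaseTheorems
import Cfsg.Agent.Lib.Helper21.SchDefs
import Cfsg.Agent.Lib.Helper21.SchPDefs
import Cfsg.Agent.S0625
import Cfsg.Agent.Lib.Helper12.HallHigman
import Cfsg.Agent.Lib.Helper26.TateNormA

/-! S4394 leaf G4 (helper4): a class-two Sylow `p`-subgroup (`p ≥ 5`) of a `p`-solvable group with `O_{p'} = 1`
lies in `O_p`. -/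

set_option autoImplicit false
universe u v
open Cfsg
open Cfsg.Agent.Lib.Helper21.Sch
open Cfsg.Agent.Lib.Helper21.SchP

namespace Cfsg.Agent.Lib.Helper4.SchPG4

open scoped commutatorElement

/-- the kernel of the action on `O_p / Φ(O_p)` is a `p`-group -/
theorem isPGroup_sectionKernel {H : Type*} [Group H] [Finite H] (p : ℕ) [Fact p.Prime]
    (hsol : Cfsg.IsPSolvable p H) (hO : Cfsg.pPrimeCore p H = ⊥) :
    IsPGroup p ↥(Cfsg.sectionKernel (Cfsg.pCore p H)
      ((frattini ↥(Cfsg.pCore p H)).map (Cfsg.pCore p H).subtype)) := by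
  have hRp : IsPGroup p ↥(Cfsg.pCore p H) := Cfsg.Agent.Lib.Helper12.pCore_isPGroup' p
  rintro ⟨g, hg⟩
  have hg' : ∀ y ∈ (Cfsg.pCore p H).map (QuotientGroup.mk'
      ((frattini ↥(Cfsg.pCore p H)).map (Cfsg.pCore p H).subtype)),
      y * QuotientGroup.mk' _ g = QuotientGroup.mk' _ g * y := by
    intro y hy
    exact Subgroup.mem_centralizer_iff.mp hg y hy
  have htriv : ∀ v : ↥(Cfsg.pCore p H),
      v⁻¹ * (MulAut.conjNormal (H := Cfsg.pCore p H) g) v ∈ frattini ↥(Cfsg.pCore p H) := by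
    intro v
    have h1 := hg' _ (Subgroup.mem_map_of_mem _ v.2)
    have h2 : ((v : H) * g)⁻¹ * (g * (v : H)) ∈
        (frattini ↥(Cfsg.pCore p H)).map (Cfsg.pCore p H).subtype := by
      rw [← QuotientGroup.eq]
      exact h1
    have h3 := (inferInstance : ((frattini ↥(Cfsg.pCore p H)).map
      (Cfsg.pCore p H).subtype).Normal).conj_mem _ h2 g
    obtain ⟨w, hw, hwe⟩ := h3
    have hwv : w = v⁻¹ * (MulAut.conjNormal (H := Cfsg.pCore p H) g) v := by
      apply Subtype.ext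
      rw [Subgroup.subtype_apply] at hwe
      rw [hwe, Subgroup.coe_mul, Subgroup.coe_inv, MulAut.conjNormal_apply]
      group
    rw [← hwv]
    exact hw
  obtain ⟨k, hk⟩ := Cfsg.Agent.Lib.Helper26.exists_pow_eq_one_of_frattini hRp _ htriv
  have hcent : g ^ p ^ k ∈ Subgroup.centralizer ((Cfsg.pCore p H : Subgroup H) : Set H) := by
    rw [Subgroup.mem_centralizer_iff]
    intro r hr
    have h1 : (MulAut.conjNormal (H := Cfsg.pCore p H) (g ^ p ^ k)) ⟨r, hr⟩ = ⟨r, hr⟩ := by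
      rw [map_pow, hk]
      rfl
    have h2 : g ^ p ^ k * r * (g ^ p ^ k)⁻¹ = r := congrArg Subtype.val h1
    calc r * g ^ p ^ k = (g ^ p ^ k * r * (g ^ p ^ k)⁻¹) * g ^ p ^ k := by rw [h2]
      _ = g ^ p ^ k * r := by group
  have hmem : g ^ p ^ k ∈ Cfsg.pCore p H :=
    Cfsg.Agent.Lib.Helper12.centralizer_pCore_le_pCore p hsol hO hcent
  obtain ⟨j, hj⟩ := hRp ⟨_, hmem⟩
  refine ⟨k + j, ?_⟩
  apply Subtype.ext
  have hj' : (g ^ p ^ k) ^ p ^ j = 1 := congrArg Subtype.val hj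
  rw [Subgroup.coe_pow, Subgroup.coe_one, pow_add, pow_mul]
  exact hj'

theorem le_pCore_of_classTwo {H : Type*} [Group H] [Finite H] (p : ℕ) [Fact p.Prime] (hp : 5 ≤ p)
    (hsol : Cfsg.IsPSolvable p H) (hO : Cfsg.pPrimeCore p H = ⊥) (S : Sylow p H)
    (hS : ClassTwo ↥(S : Subgroup H)) :
    (S : Subgroup H) ≤ Cfsg.pCore p H := by
  have hRp : IsPGroup p ↥(Cfsg.pCore p H) := Cfsg.Agent.Lib.Helper12.pCore_isPGroup' p
  have hRS : Cfsg.pCore p H ≤ (S : Subgroup H) :=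
    Cfsg.Agent.Lib.Helper24.normal_pgroup_le_sylow _ hRp S
  have hstab := (Cfsg.Agent.S0625.result hp hsol).2.1
  intro x hx
  have hquad : ⁅⁅Cfsg.pCore p H, Subgroup.zpowers x⁆, Subgroup.zpowers x⁆ ≤
      (frattini ↥(Cfsg.pCore p H)).map (Cfsg.pCore p H).subtype := by
    have hzS : Subgroup.zpowers x ≤ (S : Subgroup H) := (Subgroup.zpowers_le).mpr hx
    have h0 : ⁅⁅Cfsg.pCore p H, Subgroup.zpowers x⁆, Subgroup.zpowers x⁆ = ⊥ := by
      rw [Subgroup.commutator_eq_bot_iff_le_centralizer, Subgroup.commutator_le]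
      intro r hr b hb
      rw [Subgroup.mem_centralizer_iff]
      intro h hh
      have hz := hS ⟨r, hRS hr⟩ ⟨b, hzS hb⟩
      have hc := (Subgroup.mem_center_iff.mp hz) ⟨h, hzS hh⟩
      have hc' := congrArg Subtype.val hc
      simp only [Subgroup.coe_mul, Subgroup.coe_inv] at hc'
      rw [commutatorElement_def]
      exact hc'
    rw [h0]
    exact bot_le
  obtain ⟨D, hDn, hCD, ⟨k, hk⟩, hxD⟩ := hstab x hquad
  have hCp := isPGroup_sectionKernel p hsol hO
  have hDp : IsPGroup p ↥D := by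
    obtain ⟨a, ha⟩ := IsPGroup.iff_card.mp hCp
    have hcard : Nat.card ↥D = p ^ (a + k) := by
      rw [← Subgroup.relIndex_bot_left (H := D),
        ← Subgroup.relIndex_mul_relIndex ⊥ _ D bot_le hCD, Subgroup.relIndex_bot_left, ha, hk, pow_add]
    exact IsPGroup.of_card hcard
  have hDR : D ≤ Cfsg.pCore p H := le_sSup ⟨hDn, hDp⟩
  exact hDR hxD

end Cfsg.Agent.Lib.Helper4.SchPG4
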