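import Mathlib
import Cfsg.Prelude.Def_Transfer
import Cfsg.Prelude.Def_SolvableStructure
import Cfsg.Prelude.Def_Local
import Cfsg.Prelude.Def_CaseTheorems
import Cfsg.Agent.Lib.Helper21.SchDefs
import Cfsg.Agent.Lib.Helper21.SchPDefs
import Cfsg.Agent.Lib.Helper4.Schmidt6
import Cfsg.Agent.Lib.Helper29.MinNonPNilpotent

/-! S4394 leaf N1 (helper4): order data of a minimal non-nilpotent group with a normal Sylow `p`-subgroup. -/

set_option autoImplicit false
universe u v
open Cfsg
open Cfsg.Agent.Lib.Helper21.Sch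
open Cfsg.Agent.Lib.Helper21.SchP

namespace Cfsg.Agent.Lib.Helper4.SchPN1

theorem card_sup_mul_card_inf' {X : Type*} [Group X] (A B : Subgroup X) [B.Normal] :
    Nat.card ↥(A ⊔ B) * Nat.card ↥(A ⊓ B) = Nat.card A * Nat.card B := by
  have h1 : Nat.card ↥(A ⊔ B) = Nat.card B * B.relIndex A := by
    rw [← Subgroup.relIndex_bot_left (H := A ⊔ B),
      ← Subgroup.relIndex_mul_relIndex ⊥ B (A ⊔ B) bot_le le_sup_right, Subgroup.relIndex_bot_left,
      Subgroup.relIndex_sup_right]
  have h2 : Nat.card A = Nat.card ↥(A ⊓ B) * B.relIndex A := by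
    rw [← Subgroup.relIndex_bot_left (H := A),
      ← Subgroup.relIndex_mul_relIndex ⊥ (A ⊓ B) A bot_le inf_le_left, Subgroup.relIndex_bot_left,
      Subgroup.inf_relIndex_left]
  rw [h1, h2]
  ring

/-- a normal Sylow subgroup is the only one -/
theorem sylow_eq_of_normal {X : Type*} [Group X] [Finite X] {p : ℕ} [Fact p.Prime] (P L : Sylow p X)
    (hPn : (P : Subgroup X).Normal) : L = P := by
  obtain ⟨g, hg⟩ := MulAction.exists_smul_eq X P L
  rw [← hg]
  haveI := hPn
  exact Sylow.smul_eq_of_normal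

theorem exists_order_data {X : Type u} [Group X] [Finite X] (p : ℕ) [Fact p.Prime]
    (hX : Cfsg.IsMinimalNonNilpotent X) (P : Sylow p X) (hPn : (P : Subgroup X).Normal)
    (hP1 : (P : Subgroup X) ≠ ⊥) :
    ∃ q r t : ℕ, q.Prime ∧ p ≠ q ∧ Nat.card X = p ^ t * q ^ r ∧ ¬ Cfsg.HasNormalPComplement p X ∧
      ∀ H : Subgroup X, H ≠ ⊤ → Cfsg.HasNormalPComplement p ↥H := by
  have hp : p.Prime := Fact.out
  obtain ⟨a, b, ha, hb, hab, P', Q', -, hQn, hsup, hPnn⟩ :=
    Cfsg.Agent.Lib.Helper4.schmidt_structure' hX.1 hX.2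
  haveI := Fact.mk ha
  haveI := Fact.mk hb
  haveI := hQn
  -- `|X| = |P'| * |Q'|`
  have hdisj : (P' : Subgroup X) ⊓ (Q' : Subgroup X) = ⊥ :=
    disjoint_iff.mp (IsPGroup.disjoint_of_ne a b hab _ _ P'.2 Q'.2)
  have hcard : Nat.card X = a ^ (Nat.card X).factorization a * b ^ (Nat.card X).factorization b := by
    have h := card_sup_mul_card_inf' (P' : Subgroup X) (Q' : Subgroup X)
    rw [hsup, hdisj, Subgroup.card_bot, mul_one, Subgroup.card_top, Sylow.card_eq_multiplicity,
      Sylow.card_eq_multiplicity] at h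
    exact h
  -- `p ∣ |X|`
  have hpdvd : p ∣ Nat.card X := by
    have h1 : Nat.card (P : Subgroup X) ≠ 1 := fun h => hP1 (Subgroup.card_eq_one.mp h)
    obtain ⟨k, hk⟩ := IsPGroup.iff_card.mp P.2
    have hk0 : k ≠ 0 := by
      rintro rfl
      exact h1 (by rw [hk, pow_zero])
    have : p ∣ Nat.card (P : Subgroup X) := by
      rw [hk]
      exact dvd_pow_self p hk0
    exact this.trans (Subgroup.card_subgroup_dvd_card _)
  -- `p = b`
  have hpb : p = b := by
    rw [hcard] at hpdvd
    rcases (Nat.Prime.dvd_mul hp).mp hpdvd with h | h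
    · exfalso
      have hpa : p = a := (Nat.prime_dvd_prime_iff_eq hp ha).mp (hp.dvd_of_dvd_pow h)
      subst hpa
      apply hPnn
      rw [sylow_eq_of_normal P P' hPn]
      exact hPn
    · exact (Nat.prime_dvd_prime_iff_eq hp hb).mp (hp.dvd_of_dvd_pow h)
  subst hpb
  refine ⟨a, (Nat.card X).factorization a, (Nat.card X).factorization p, ha, hab.symm, ?_, ?_, ?_⟩
  · rw [mul_comm]
    exact hcard
  · -- no normal `p`-complement
    rintro ⟨P₁, N, hNn, hcomp⟩
    apply hX.1
    refine ((Group.isNilpotent_of_finite_tfae (G := X)).out 0 3).mpr ?_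
    intro ℓ hℓ L
    haveI := hℓ
    -- orders
    have hidx : N.index = Nat.card (P₁ : Subgroup X) := hcomp.symm.index_eq_card
    have hNcard : Nat.card N * p ^ (Nat.card X).factorization p = Nat.card X := by
      rw [← Sylow.card_eq_multiplicity P₁, ← hidx]
      exact N.card_mul_index
    have hNa : Nat.card N = a ^ (Nat.card X).factorization a := by
      have hpos : 0 < p ^ (Nat.card X).factorization p := pow_pos hp.pos _
      apply Nat.eq_of_mul_eq_mul_right hpos
      rw [hNcard]
      exact hcard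
    by_cases hℓp : ℓ = p
    · subst hℓp
      rw [sylow_eq_of_normal P L hPn]
      exact hPn
    · by_cases hℓa : ℓ = a
      · subst hℓa
        -- `L ≤ N`
        have hLN : (L : Subgroup X) ≤ N := by
          intro x hx
          rw [← QuotientGroup.eq_one_iff]
          have h1 : orderOf ((x : X) : X ⧸ N) ∣ Nat.card (X ⧸ N) := orderOf_dvd_natCard _
          have h2 : orderOf ((x : X) : X ⧸ N) ∣ orderOf x :=
            orderOf_dvd_of_pow_eq_one (by
              rw [← QuotientGroup.mk_pow, pow_orderOf_eq_one]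
              rfl)
          obtain ⟨k, hk⟩ := (IsPGroup.iff_orderOf.mp L.2) ⟨x, hx⟩
          have hk' : orderOf x = ℓ ^ k := by
            rw [← hk]
            exact (Subgroup.orderOf_mk x hx).symm
          have h3 : Nat.card (X ⧸ N) = p ^ (Nat.card X).factorization p := by
            rw [← Subgroup.index_eq_card, hidx, Sylow.card_eq_multiplicity]
          rw [h3] at h1
          rw [hk'] at h2
          have hcop : Nat.Coprime (p ^ (Nat.card X).factorization p) (ℓ ^ k) :=
            Nat.Coprime.pow _ _ ((Nat.coprime_primes hp ha).mpr hab.symm)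
          have := Nat.eq_one_of_dvd_coprimes hcop h1 h2
          exact orderOf_eq_one_iff.mp this
        have hLeq : (L : Subgroup X) = N :=
          Subgroup.eq_of_le_of_card_ge hLN (by rw [hNa, Sylow.card_eq_multiplicity])
        rw [hLeq]
        exact hNn
      · -- `ℓ ∤ |X|`
        have hℓ' : ℓ.Prime := hℓ.out
        have hnd : ¬ ℓ ∣ Nat.card X := by
          intro h
          rw [hcard] at h
          rcases (Nat.Prime.dvd_mul hℓ').mp h with h | h
          · exact hℓa ((Nat.prime_dvd_prime_iff_eq hℓ' ha).mp (hℓ'.dvd_of_dvd_pow h))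
          · exact hℓp ((Nat.prime_dvd_prime_iff_eq hℓ' hp).mp (hℓ'.dvd_of_dvd_pow h))
        have hL1 : Nat.card (L : Subgroup X) = 1 := by
          rw [Sylow.card_eq_multiplicity, Nat.factorization_eq_zero_of_not_dvd hnd, pow_zero]
        rw [Subgroup.card_eq_one.mp hL1]
        infer_instance
  · intro H hH
    have hnil : Group.IsNilpotent H := hX.2 H hH
    exact Cfsg.Agent.Lib.Helper29.frobCond_iff.mp (Cfsg.Agent.Lib.Helper29.frobCond_of_isNilpotent hnil)

end Cfsg.Agent.Lib.Helper4.SchPN1
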