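import Mathlib
import Cfsg.Agent.Lib.Helper1.Basic
import Cfsg.Agent.Lib.Helper1.Transport
import Cfsg.Agent.Lib.Helper1.Coprime
import Cfsg.Agent.Lib.Helper29.Wielandt

set_option autoImplicit false
open Pointwise

namespace Cfsg.Agent.H4KW
open Cfsg.Agent.Lib.Helper1
universe u
variable {G : Type u} [Group G]

theorem nilpotent_of_le {K A : Subgroup G} (h : K ≤ A) (hA : Group.IsNilpotent A) :
    Group.IsNilpotent K := by
  haveI := hA
  exact Group.nilpotent_of_mulEquiv (Subgroup.subgroupOfEquivOfLe h)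

theorem smul_eq_of_mem_normalizer {H : Subgroup G} {g : G}
    (hg : g ∈ Subgroup.normalizer (H : Set G)) : MulAut.conj g • H = H :=
  Subgroup.mem_normalizer_iff_map_conj_eq.mp hg

theorem mem_normalizer_of_smul_eq {H : Subgroup G} {g : G}
    (hg : MulAut.conj g • H = H) : g ∈ Subgroup.normalizer (H : Set G) :=
  Subgroup.mem_normalizer_iff_map_conj_eq.mpr hg

theorem conj_mem_of_mem_normalizer {H : Subgroup G} {g x : G}
    (hg : g ∈ Subgroup.normalizer (H : Set G)) (hx : x ∈ H) : g * x * g⁻¹ ∈ H :=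
  (Subgroup.mem_normalizer_iff.mp hg x).mp hx

theorem conj_mem_of_mem_normalizer' {H : Subgroup G} {g x : G}
    (hg : g ∈ Subgroup.normalizer (H : Set G)) (hx : x ∈ H) : g⁻¹ * x * g ∈ H := by
  have := conj_mem_of_mem_normalizer ((Subgroup.normalizer (H : Set G)).inv_mem hg) hx
  simpa using this

theorem smul_le_iff {H K : Subgroup G} (g : G) :
    MulAut.conj g • H ≤ K ↔ H ≤ MulAut.conj g⁻¹ • K := by
  constructor
  · intro h x hx
    rw [mem_conj_smul_iff]
    apply h
    rw [mem_conj_smul_iff]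
    simpa [mul_assoc] using hx
  · intro h x hx
    rw [mem_conj_smul_iff] at hx
    have := h hx
    rw [mem_conj_smul_iff] at this
    simpa [mul_assoc] using this

theorem le_smul_iff {H K : Subgroup G} (g : G) :
    H ≤ MulAut.conj g • K ↔ MulAut.conj g⁻¹ • H ≤ K := by
  rw [smul_le_iff, inv_inv]

theorem isPGroup_conj_smul {p : ℕ} {U : Subgroup G} (hU : IsPGroup p U) (g : G) :
    IsPGroup p (MulAut.conj g • U : Subgroup G) :=
  hU.of_equiv (Subgroup.equivSMul (MulAut.conj g) U)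

theorem conj_smul_smul_inv (g : G) (H : Subgroup G) :
    MulAut.conj g • MulAut.conj g⁻¹ • H = H := by
  rw [← mul_smul, ← map_mul, mul_inv_cancel, map_one, one_smul]

theorem conj_inv_smul_smul (g : G) (H : Subgroup G) :
    MulAut.conj g⁻¹ • MulAut.conj g • H = H := by
  rw [← mul_smul, ← map_mul, inv_mul_cancel, map_one, one_smul]

/-- the largest `p`-subgroup of a (nilpotent) subgroup -/
def syl (A : Subgroup G) (p : ℕ) : Subgroup G := sSup {U : Subgroup G | U ≤ A ∧ IsPGroup p U}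

theorem syl_le (A : Subgroup G) (p : ℕ) : syl A p ≤ A := sSup_le (fun _ hU => hU.1)

theorem le_syl {A U : Subgroup G} {p : ℕ} (hU : U ≤ A) (hp : IsPGroup p U) : U ≤ syl A p :=
  le_sSup ⟨hU, hp⟩

theorem conj_smul_syl (A : Subgroup G) (p : ℕ) (g : G) :
    MulAut.conj g • syl A p = syl (MulAut.conj g • A) p := by
  apply le_antisymm
  · rw [smul_le_iff]
    apply sSup_le
    rintro U ⟨hUA, hUp⟩
    rw [← smul_le_iff]
    exact le_syl (Subgroup.pointwise_smul_le_pointwise_smul_iff.mpr hUA) (isPGroup_conj_smul hUp g)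
  · apply sSup_le
    rintro U ⟨hUA, hUp⟩
    have h1 : MulAut.conj g⁻¹ • U ≤ syl A p := by
      apply le_syl _ (isPGroup_conj_smul hUp _)
      rw [smul_le_iff, inv_inv]
      exact hUA
    rw [smul_le_iff, inv_inv] at h1
    exact h1

theorem normalizer_le_normalizer_syl (A : Subgroup G) (p : ℕ) :
    Subgroup.normalizer (A : Set G) ≤ Subgroup.normalizer (syl A p : Set G) := by
  intro g hg
  apply mem_normalizer_of_smul_eq
  rw [conj_smul_syl, smul_eq_of_mem_normalizer hg]

theorem le_normalizer_syl (A : Subgroup G) (p : ℕ) :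
    A ≤ Subgroup.normalizer (syl A p : Set G) :=
  Subgroup.le_normalizer.trans (normalizer_le_normalizer_syl A p)

theorem syl_eq_map_sylow [Finite G] {A : Subgroup G} (hA : Group.IsNilpotent A) (p : ℕ)
    [Fact p.Prime] (P : Sylow p A) : syl A p = (P : Subgroup A).map A.subtype := by
  have hn : (P : Subgroup A).Normal := by
    have := (Group.isNilpotent_of_finite_tfae (G := A)).out 0 3
    exact (this.mp hA) p inferInstance P
  haveI := Sylow.unique_of_normal P hn
  apply le_antisymm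
  · apply sSup_le
    rintro U ⟨hUA, hUp⟩
    obtain ⟨Q, hQ⟩ := (hUp.comap_subtype (K := A)).exists_le_sylow
    have hQP : Q = P := Subsingleton.elim _ _
    intro x hx
    refine ⟨⟨x, hUA hx⟩, ?_, rfl⟩
    rw [← hQP]
    exact hQ (by rw [Subgroup.mem_comap]; exact hx)
  · exact le_syl (Subgroup.map_subtype_le _) (P.2.map _)

theorem isPGroup_syl [Finite G] {A : Subgroup G} (hA : Group.IsNilpotent A) {p : ℕ}
    (hp : p.Prime) : IsPGroup p (syl A p) := by
  haveI := Fact.mk hp
  obtain ⟨P⟩ : Nonempty (Sylow p A) := inferInstance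
  rw [syl_eq_map_sylow hA p P]
  exact P.2.map _

theorem card_syl [Finite G] {A : Subgroup G} (hA : Group.IsNilpotent A) {p : ℕ}
    (hp : p.Prime) : Nat.card (syl A p) = p ^ (Nat.card A).factorization p := by
  haveI := Fact.mk hp
  obtain ⟨P⟩ : Nonempty (Sylow p A) := inferInstance
  rw [syl_eq_map_sylow hA p P, Subgroup.card_map_of_injective A.subtype_injective]
  exact P.card_eq_multiplicity

theorem syl_ne_bot [Finite G] {A : Subgroup G} (hA : Group.IsNilpotent A) {p : ℕ}
    (hp : p.Prime) (hd : p ∣ Nat.card A) : syl A p ≠ ⊥ := by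
  intro h
  have h1 := card_syl hA hp
  rw [h, Subgroup.card_bot] at h1
  have h2 : 0 < (Nat.card A).factorization p :=
    hp.factorization_pos_of_dvd Nat.card_pos.ne' hd
  have : 1 < p ^ (Nat.card A).factorization p := Nat.one_lt_pow h2.ne' hp.one_lt
  omega

theorem syl_commute [Finite G] {A : Subgroup G} (hA : Group.IsNilpotent A) {p r : ℕ}
    (hp : p.Prime) (hr : r.Prime) (hne : p ≠ r) {x y : G} (hx : x ∈ syl A p)
    (hy : y ∈ syl A r) : x * y = y * x := by
  haveI := Fact.mk hp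
  haveI := Fact.mk hr
  have hd : Disjoint (syl A p) (syl A r) :=
    IsPGroup.disjoint_of_ne p r hne _ _ (isPGroup_syl hA hp) (isPGroup_syl hA hr)
  have h1 : x * y * x⁻¹ * y⁻¹ ∈ syl A p := by
    have := conj_mem_of_mem_normalizer (le_normalizer_syl A p (syl_le A r hy))
      ((syl A p).inv_mem hx)
    have h2 := (syl A p).mul_mem hx this
    simpa [mul_assoc] using h2
  have h2 : x * y * x⁻¹ * y⁻¹ ∈ syl A r := by
    have := conj_mem_of_mem_normalizer (le_normalizer_syl A r (syl_le A p hx)) hy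
    exact (syl A r).mul_mem this ((syl A r).inv_mem hy)
  have h3 := Subgroup.disjoint_def.mp hd h1 h2
  calc x * y = (x * y * x⁻¹ * y⁻¹) * (y * x) := by group
    _ = y * x := by rw [h3, one_mul]

theorem le_of_forall_prime_pow_dvd [Finite G] (K H : Subgroup G)
    (h : ∀ p : ℕ, p.Prime → p ^ (Nat.card K).factorization p ∣ Nat.card (K ⊓ H : Subgroup G)) :
    K ≤ H := by
  have h1 : Nat.card K ∣ Nat.card (K ⊓ H : Subgroup G) := by
    rw [← Nat.factorization_prime_le_iff_dvd Nat.card_pos.ne' Nat.card_pos.ne']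
    intro p hp
    exact (hp.pow_dvd_iff_le_factorization Nat.card_pos.ne').mp (h p hp)
  have h2 : K ⊓ H = K :=
    Subgroup.eq_of_le_of_card_ge inf_le_left (Nat.le_of_dvd Nat.card_pos h1)
  rw [← h2]
  exact inf_le_right

theorem le_of_forall_syl_le [Finite G] {A : Subgroup G} (hA : Group.IsNilpotent A)
    (H : Subgroup G) (h : ∀ p : ℕ, p.Prime → syl A p ≤ H) : A ≤ H := by
  apply le_of_forall_prime_pow_dvd
  intro p hp
  rw [← card_syl hA hp]
  exact Subgroup.card_dvd_of_le (le_inf (syl_le A p) (h p hp))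


theorem le_of_forall_isPGroup_le [Finite G] (K H : Subgroup G)
    (h : ∀ p : ℕ, p.Prime → ∀ U : Subgroup G, U ≤ K → IsPGroup p U → U ≤ H) : K ≤ H := by
  apply le_of_forall_prime_pow_dvd
  intro p hp
  haveI := Fact.mk hp
  obtain ⟨P⟩ : Nonempty (Sylow p K) := inferInstance
  have h1 : (P : Subgroup K).map K.subtype ≤ K ⊓ H :=
    le_inf (Subgroup.map_subtype_le _) (h p hp _ (Subgroup.map_subtype_le _) (P.2.map _))
  have h2 : Nat.card ((P : Subgroup K).map K.subtype) = p ^ (Nat.card K).factorization p := by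
    rw [Subgroup.card_map_of_injective K.subtype_injective]
    exact P.card_eq_multiplicity
  rw [← h2]
  exact Subgroup.card_dvd_of_le h1

theorem le_of_forall_prime_pow_mem [Finite G] (K H : Subgroup G)
    (h : ∀ p : ℕ, p.Prime → ∀ x ∈ K, ∀ k : ℕ, x ^ (p ^ k) = 1 → x ∈ H) : K ≤ H := by
  apply le_of_forall_isPGroup_le
  intro p hp U hUK hU x hx
  obtain ⟨k, hk⟩ := hU ⟨x, hx⟩
  exact h p hp x (hUK hx) k (by simpa using congrArg Subtype.val hk)

theorem exists_le_conj_of_card [Finite G] {p : ℕ} (hp : p.Prime) {P U : Subgroup G}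
    (hP : Nat.card P = p ^ (Nat.card G).factorization p) (hU : IsPGroup p U) :
    ∃ g : G, U ≤ MulAut.conj g • P := by
  haveI := Fact.mk hp
  obtain ⟨Q, hQ⟩ := hU.exists_le_sylow
  obtain ⟨g, hg⟩ := MulAction.exists_smul_eq G (Sylow.ofCard P hP) Q
  refine ⟨g, ?_⟩
  rw [← hg, Sylow.coe_subgroup_smul, Sylow.coe_ofCard] at hQ
  exact hQ

theorem exists_conj_eq_of_card [Finite G] {p : ℕ} (hp : p.Prime) {P Q : Subgroup G}
    (hP : Nat.card P = p ^ (Nat.card G).factorization p)
    (hQ : Nat.card Q = p ^ (Nat.card G).factorization p) :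
    ∃ g : G, MulAut.conj g • P = Q := by
  obtain ⟨g, hg⟩ := exists_le_conj_of_card hp hP (IsPGroup.of_card hQ)
  refine ⟨g, (Subgroup.eq_of_le_of_card_ge hg ?_).symm⟩
  rw [card_conj_smul, hP, hQ]

/-- `p`-subgroups of a group `N` with normal Sylow `P` lie in `P` -/
theorem le_of_normal_sylow [Finite G] {p : ℕ} (hp : p.Prime) {P N U : Subgroup G}
    (hP : Nat.card P = p ^ (Nat.card G).factorization p) (hPN : P ≤ N)
    (hN : N ≤ Subgroup.normalizer (P : Set G)) (hU : IsPGroup p U) (hUN : U ≤ N) : U ≤ P := by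
  haveI := Fact.mk hp
  obtain ⟨n, hn, h⟩ := Cfsg.Agent.Lib.Helper29.exists_conj_mem_sylow_of_le N (Sylow.ofCard P hP)
    (by rw [Sylow.coe_ofCard]; exact hPN) U hU hUN
  intro a ha
  have h1 := h a ha
  rw [Sylow.coe_ofCard] at h1
  have := conj_mem_of_mem_normalizer (hN hn) h1
  simpa [mul_assoc] using this

theorem coe_eq_mul_of_card [Finite G] {P Q H : Subgroup G} (hP : P ≤ H) (hQ : Q ≤ H)
    (hcop : (Nat.card P).Coprime (Nat.card Q)) (hcard : Nat.card P * Nat.card Q = Nat.card H) :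
    (H : Set G) = (P : Set G) * (Q : Set G) := by
  have hc : (P.subgroupOf H).IsComplement' (Q.subgroupOf H) := by
    apply Subgroup.isComplement'_of_coprime
    · rw [card_subgroupOf_of_le hP, card_subgroupOf_of_le hQ, hcard]
    · rw [card_subgroupOf_of_le hP, card_subgroupOf_of_le hQ]; exact hcop
  ext x
  constructor
  · intro hx
    obtain ⟨n, hn, k, hk, hnk⟩ := IsComplement'.exists_mul_eq hc ⟨x, hx⟩
    exact ⟨n, hn, k, hk, congrArg Subtype.val hnk⟩
  · rintro ⟨a, ha, b, hb, rfl⟩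
    exact H.mul_mem (hP ha) (hQ hb)

theorem card_le_of_coe_eq_mul [Finite G] {P Q S : Subgroup G}
    (h : (S : Set G) = (P : Set G) * (Q : Set G)) : Nat.card S ≤ Nat.card P * Nat.card Q := by
  rw [← Nat.card_prod]
  let f : P × Q → S := fun x => ⟨x.1 * x.2, by
    rw [← SetLike.mem_coe, h]; exact Set.mul_mem_mul x.1.2 x.2.2⟩
  apply Nat.card_le_card_of_surjective f
  rintro ⟨s, hs⟩
  rw [← SetLike.mem_coe, h] at hs
  obtain ⟨a, ha, b, hb, rfl⟩ := hs
  exact ⟨(⟨a, ha⟩, ⟨b, hb⟩), rfl⟩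

/-- if `P * Q` is a subgroup then so is `conj g • P * conj g • Q` -/
theorem exists_coe_eq_mul_conj {P Q S : Subgroup G}
    (h : (S : Set G) = (P : Set G) * (Q : Set G)) (g : G) :
    ((MulAut.conj g • S : Subgroup G) : Set G) =
      ((MulAut.conj g • P : Subgroup G) : Set G) * ((MulAut.conj g • Q : Subgroup G) : Set G) := by
  ext x
  rw [SetLike.mem_coe, mem_conj_smul_iff, ← SetLike.mem_coe, h]
  constructor
  · rintro ⟨a, ha, b, hb, hab⟩
    refine ⟨g * a * g⁻¹, ?_, g * b * g⁻¹, ?_, ?_⟩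
    · rw [SetLike.mem_coe, mem_conj_smul_iff]; simpa [mul_assoc] using ha
    · rw [SetLike.mem_coe, mem_conj_smul_iff]; simpa [mul_assoc] using hb
    · have : g * a * g⁻¹ * (g * b * g⁻¹) = g * (a * b) * g⁻¹ := by group
      have hab' : a * b = g⁻¹ * x * g := hab
      show g * a * g⁻¹ * (g * b * g⁻¹) = x
      rw [this, hab']; group
  · rintro ⟨a, ha, b, hb, rfl⟩
    rw [SetLike.mem_coe, mem_conj_smul_iff] at ha hb
    exact ⟨_, ha, _, hb, by group⟩

end Cfsg.Agent.H4KW
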