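import Mathlib
import Cfsg.Agent.Lib.Helper1.Basic
import Cfsg.Agent.Lib.Helper1.Hall
import Cfsg.Agent.Lib.Helper1.Transport
import Cfsg.Agent.Lib.Helper4.HallSystemQuot

set_option autoImplicit false
open Pointwise

namespace Cfsg.Agent.Lib.Helper4
open Cfsg.Agent.Lib.Helper1
universe u

/-- Kegel's hypothesis: `A` times every conjugate of `B` is a proper subgroup -/
def KegelHyp {G : Type u} [Group G] (A B : Subgroup G) : Prop :=
  ∀ x : G, ∃ S : Subgroup G, S ≠ ⊤ ∧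
    (S : Set G) = (A : Set G) * ((MulAut.conj x • B : Subgroup G) : Set G)

theorem kegelHyp_conj_right {G : Type u} [Group G] (A B : Subgroup G) (h : KegelHyp A B) (x : G) :
    KegelHyp A (MulAut.conj x • B) := by
  intro y
  obtain ⟨S, hS, hSe⟩ := h (y * x)
  refine ⟨S, hS, ?_⟩
  rw [hSe, map_mul, mul_smul]

/-- enlarging `A` to the join of its `B`-conjugates preserves Kegel's hypothesis -/
theorem kegelHyp_enlarge {G : Type u} [Group G] (A B : Subgroup G) (h : KegelHyp A B) :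
    KegelHyp (⨆ b : B, MulAut.conj (b : G) • A) B := by
  set W := ⨆ b : B, MulAut.conj (b : G) • A with hW
  obtain ⟨S₀, hS₀, hS₀e⟩ := h 1
  have hAS₀ : A ≤ S₀ := by
    intro a ha
    have : a ∈ (S₀ : Set G) := by
      rw [hS₀e]; exact ⟨a, ha, 1, one_mem _, mul_one a⟩
    exact this
  have hBS₀ : B ≤ S₀ := by
    intro b hb
    have : b ∈ (S₀ : Set G) := by
      rw [hS₀e]
      refine ⟨1, one_mem _, b, ?_, one_mul b⟩
      show b ∈ MulAut.conj (1 : G) • B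
      rw [mem_conj_smul_iff]; simpa using hb
    exact this
  have hWS₀ : W ≤ S₀ := by
    apply iSup_le
    intro b w hw
    rw [mem_conj_smul_iff] at hw
    have h1 : (b : G) ∈ S₀ := hBS₀ b.2
    have h2 := S₀.mul_mem (S₀.mul_mem h1 (hAS₀ hw)) (S₀.inv_mem h1)
    have : (b : G) * ((b : G)⁻¹ * w * b) * (b : G)⁻¹ = w := by group
    rwa [this] at h2
  intro y
  set Z := MulAut.conj y • B with hZ
  have key : ∀ w ∈ W, ∀ z ∈ Z, ∃ w' ∈ W, ∃ z' ∈ Z, z * w = w' * z' := by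
    intro w hw
    refine Subgroup.iSup_induction (fun b : B => MulAut.conj (b : G) • A)
      (C := fun w => ∀ z ∈ Z, ∃ w' ∈ W, ∃ z' ∈ Z, z * w = w' * z') hw ?_ ?_ ?_
    · intro b w hw z hz
      rw [mem_conj_smul_iff] at hw
      obtain ⟨S₁, _, hS₁e⟩ := h ((b : G)⁻¹ * y)
      have hz1 : (b : G)⁻¹ * z * b ∈ MulAut.conj ((b : G)⁻¹ * y) • B := by
        rw [mem_conj_smul_iff]
        rw [hZ, mem_conj_smul_iff] at hz
        have : ((b : G)⁻¹ * y)⁻¹ * ((b : G)⁻¹ * z * b) * ((b : G)⁻¹ * y) = y⁻¹ * z * y := by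
          group
        rw [this]; exact hz
      have h1 : (b : G)⁻¹ * z * b ∈ (S₁ : Set G) := by
        rw [hS₁e]; exact ⟨1, one_mem _, _, hz1, one_mul _⟩
      have h2 : (b : G)⁻¹ * w * b ∈ (S₁ : Set G) := by
        rw [hS₁e]; exact ⟨_, hw, 1, one_mem _, mul_one _⟩
      have h3 : ((b : G)⁻¹ * z * b) * ((b : G)⁻¹ * w * b) ∈ (S₁ : Set G) := S₁.mul_mem h1 h2
      rw [hS₁e] at h3
      obtain ⟨a', ha', z₁, hz₁, he⟩ := h3
      refine ⟨(b : G) * a' * (b : G)⁻¹, ?_, (b : G) * z₁ * (b : G)⁻¹, ?_, ?_⟩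
      · apply (le_iSup (fun b : B => MulAut.conj (b : G) • A) b)
        rw [mem_conj_smul_iff]
        have : (b : G)⁻¹ * ((b : G) * a' * (b : G)⁻¹) * b = a' := by group
        rw [this]; exact ha'
      · rw [hZ, mem_conj_smul_iff]
        have hz₁' : z₁ ∈ MulAut.conj ((b : G)⁻¹ * y) • B := hz₁
        rw [mem_conj_smul_iff] at hz₁'
        have : y⁻¹ * ((b : G) * z₁ * (b : G)⁻¹) * y
            = ((b : G)⁻¹ * y)⁻¹ * z₁ * ((b : G)⁻¹ * y) := by group
        rw [this]; exact hz₁'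
      · have e1 : z * w = (b : G) * (((b : G)⁻¹ * z * b) * ((b : G)⁻¹ * w * b)) * (b : G)⁻¹ := by
          group
        have he' : a' * z₁ = ((b : G)⁻¹ * z * b) * ((b : G)⁻¹ * w * b) := he
        rw [e1, ← he']
        group
    · intro z hz
      exact ⟨1, one_mem _, z, hz, by simp⟩
    · intro u v hu hv z hz
      obtain ⟨u', hu', z', hz', e1⟩ := hu z hz
      obtain ⟨v', hv', z'', hz'', e2⟩ := hv z' hz'
      refine ⟨u' * v', W.mul_mem hu' hv', z'', hz'', ?_⟩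
      rw [← mul_assoc, e1, mul_assoc, e2, mul_assoc]
  let S' : Subgroup G :=
    { carrier := (W : Set G) * (Z : Set G)
      one_mem' := ⟨1, one_mem _, 1, one_mem _, one_mul 1⟩
      mul_mem' := by
        rintro _ _ ⟨w, hw, z, hz, rfl⟩ ⟨w', hw', z', hz', rfl⟩
        obtain ⟨w'', hw'', z'', hz'', e⟩ := key w' hw' z hz
        refine ⟨w * w'', W.mul_mem hw hw'', z'' * z', Z.mul_mem hz'' hz', ?_⟩
        show w * w'' * (z'' * z') = w * z * (w' * z')
        calc w * w'' * (z'' * z') = w * (w'' * z'') * z' := by group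
          _ = w * (z * w') * z' := by rw [e]
          _ = w * z * (w' * z') := by group
      inv_mem' := by
        rintro _ ⟨w, hw, z, hz, rfl⟩
        obtain ⟨w'', hw'', z'', hz'', e⟩ := key w⁻¹ (W.inv_mem hw) z⁻¹ (Z.inv_mem hz)
        refine ⟨w'', hw'', z'', hz'', ?_⟩
        show w'' * z'' = (w * z)⁻¹
        rw [← e, mul_inv_rev] }
  refine ⟨S', ?_, rfl⟩
  intro htop
  apply hS₀
  have hyinv : y⁻¹ ∈ S' := by rw [htop]; exact Subgroup.mem_top _
  obtain ⟨w, hw, z, hz, e⟩ := hyinv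
  have hz' : y⁻¹ * z * y ∈ B := by
    have : z ∈ MulAut.conj y • B := hz
    rwa [mem_conj_smul_iff] at this
  -- y⁻¹ = w z  ⟹  y = (y⁻¹ z y)⁻¹ w⁻¹ ... show y ∈ S₀
  have hy : y ∈ S₀ := by
    have e' : w * z = y⁻¹ := e
    have h1 : y = w⁻¹ * (y⁻¹ * z * y)⁻¹ := by
      have : z = w⁻¹ * y⁻¹ := by rw [← e']; group
      rw [this]; group
    rw [h1]
    exact S₀.mul_mem (S₀.inv_mem (hWS₀ hw)) (S₀.inv_mem (hBS₀ hz'))
  have hZS₀ : Z ≤ S₀ := by
    intro z hz
    rw [hZ, mem_conj_smul_iff] at hz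
    have h2 := S₀.mul_mem (S₀.mul_mem hy (hBS₀ hz)) (S₀.inv_mem hy)
    have : y * (y⁻¹ * z * y) * y⁻¹ = z := by group
    rwa [this] at h2
  apply top_le_iff.mp
  intro g _
  have hg : g ∈ S' := by rw [htop]; exact Subgroup.mem_top _
  obtain ⟨w₁, hw₁, z₁, hz₁, rfl⟩ := hg
  exact S₀.mul_mem (hWS₀ hw₁) (hZS₀ hz₁)

end Cfsg.Agent.Lib.Helper4
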