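import Mathlib
import Cfsg.Agent.Lib.Helper4.Kegel1

set_option autoImplicit false
open Pointwise

namespace Cfsg.Agent.Lib.Helper4
open Cfsg.Agent.Lib.Helper1
universe u

theorem kegel_aux {G : Type u} [Group G] [Finite G] : ∀ (n : ℕ) (A B : Subgroup G),
    Nat.card G - Nat.card A = n → KegelHyp A B →
    ∃ N : Subgroup G, N.Normal ∧ N ≠ ⊤ ∧ (A ≤ N ∨ B ≤ N) := by
  intro n
  induction n using Nat.strong_induction_on with
  | _ n ih =>
  intro A B hn hk
  obtain ⟨S₀, hS₀, hS₀e⟩ := hk 1
  have hAS₀ : A ≤ S₀ := by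
    intro a ha
    have : a ∈ (S₀ : Set G) := by
      rw [hS₀e]; exact ⟨a, ha, 1, one_mem _, mul_one a⟩
    exact this
  have hAtop : A ≠ ⊤ := by
    intro h; apply hS₀; rw [h] at hAS₀; exact top_le_iff.mp hAS₀
  by_cases hcase : ∀ x : G, MulAut.conj x • B ≤ Subgroup.normalizer (A : Set G)
  · by_cases hN : Subgroup.normalClosure (B : Set G) = ⊤
    · have h1 : Subgroup.normalClosure (B : Set G) ≤ Subgroup.normalizer (A : Set G) := by
        rw [Subgroup.normalClosure]
        apply (Subgroup.closure_le _).mpr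
        intro g hg
        rw [Group.mem_conjugatesOfSet_iff] at hg
        obtain ⟨b, hb, hconj⟩ := hg
        rw [isConj_iff] at hconj
        obtain ⟨c, hc⟩ := hconj
        apply hcase c
        rw [mem_conj_smul_iff, ← hc]
        have : c⁻¹ * (c * b * c⁻¹) * c = b := by group
        rw [this]; exact hb
      rw [hN] at h1
      have hAn : A.Normal := Subgroup.normalizer_eq_top_iff.mp (top_le_iff.mp h1)
      exact ⟨A, hAn, hAtop, Or.inl le_rfl⟩
    · exact ⟨Subgroup.normalClosure (B : Set G), Subgroup.normalClosure_normal, hN,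
        Or.inr Subgroup.le_normalClosure⟩
  · push Not at hcase
    obtain ⟨x, hx⟩ := hcase
    set B' := MulAut.conj x • B with hB'
    have hk' : KegelHyp A B' := kegelHyp_conj_right A B hk x
    obtain ⟨b, hbB', hbA⟩ := SetLike.not_le_iff_exists.mp hx
    set W := ⨆ b : B', MulAut.conj (b : G) • A with hW
    have hkW : KegelHyp W B' := kegelHyp_enlarge A B' hk'
    have hAW : A ≤ W := by
      have h1 : MulAut.conj ((1 : B') : G) • A ≤ W :=
        le_iSup (fun b : B' => MulAut.conj (b : G) • A) 1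
      intro a ha
      apply h1
      rw [mem_conj_smul_iff]; simpa using ha
    have hbW : MulAut.conj b • A ≤ W :=
      le_iSup (fun b : B' => MulAut.conj (b : G) • A) ⟨b, hbB'⟩
    have hlt : Nat.card A < Nat.card W := by
      by_contra hle
      push Not at hle
      have hAW' : A = W := Subgroup.eq_of_le_of_card_ge hAW hle
      apply hbA
      rw [mem_normalizer_iff_conj_smul]
      rw [← hAW'] at hbW
      exact Subgroup.eq_of_le_of_card_ge hbW (by rw [card_conj_smul])
    have hWG : Nat.card W ≤ Nat.card G := Subgroup.card_le_card_group W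
    obtain ⟨N, hNn, hNtop, hN⟩ := ih (Nat.card G - Nat.card W) (by omega) W B' rfl hkW
    refine ⟨N, hNn, hNtop, ?_⟩
    rcases hN with hN | hN
    · exact Or.inl (hAW.trans hN)
    · right
      intro b hb
      have h1 : x * b * x⁻¹ ∈ B' := by
        rw [hB', mem_conj_smul_iff]
        have : x⁻¹ * (x * b * x⁻¹) * x = b := by group
        rw [this]; exact hb
      have h2 := hNn.conj_mem _ (hN h1) x⁻¹
      have : x⁻¹ * (x * b * x⁻¹) * x⁻¹⁻¹ = b := by group
      rwa [this] at h2

/-- Kegel's lemma -/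
theorem kegel_lemma {G : Type u} [Group G] [Finite G] (A B : Subgroup G)
    (h : ∀ x : G, ∃ S : Subgroup G, S ≠ ⊤ ∧
      (S : Set G) = (A : Set G) * ((MulAut.conj x • B : Subgroup G) : Set G)) :
    ∃ N : Subgroup G, N.Normal ∧ N ≠ ⊤ ∧ (A ≤ N ∨ B ≤ N) :=
  kegel_aux _ A B rfl h

end Cfsg.Agent.Lib.Helper4
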