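import Mathlib
import Cfsg.Agent.Lib.Helper4.KW1
import Cfsg.Agent.Lib.Lead.CharBurnside
import Cfsg.Agent.Lib.Helper1.Hall
import Cfsg.Agent.Lib.Helper4.Kegel2

set_option autoImplicit false
open Pointwise

namespace Cfsg.Agent.H4KW
open Cfsg.Agent.Lib.Helper1
universe u
variable {G : Type u} [Group G]

structure KW (A B : Subgroup G) : Prop where
  nilA : Group.IsNilpotent A
  nilB : Group.IsNilpotent B
  cop : (Nat.card A).Coprime (Nat.card B)
  fac : ∀ g : G, ∃ a ∈ A, ∃ b ∈ B, g = a * b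

variable {A B : Subgroup G}

theorem KW.symm (h : KW A B) : KW B A :=
  ⟨h.nilB, h.nilA, h.cop.symm, fun g => by
    obtain ⟨a, ha, b, hb, hab⟩ := h.fac g⁻¹
    exact ⟨b⁻¹, B.inv_mem hb, a⁻¹, A.inv_mem ha, by rw [← mul_inv_rev, ← hab, inv_inv]⟩⟩

theorem nilpotent_conj_smul {A : Subgroup G} (hA : Group.IsNilpotent A) (x : G) :
    Group.IsNilpotent (MulAut.conj x • A : Subgroup G) := by
  haveI := hA
  exact Group.nilpotent_of_mulEquiv (Subgroup.equivSMul (MulAut.conj x) A)

theorem KW.conj (h : KW A B) (x : G) : KW (MulAut.conj x • A) (MulAut.conj x • B) := by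
  refine ⟨nilpotent_conj_smul h.nilA x, nilpotent_conj_smul h.nilB x, ?_, ?_⟩
  · rw [card_conj_smul, card_conj_smul]; exact h.cop
  · intro g
    obtain ⟨a, ha, b, hb, hab⟩ := h.fac (x⁻¹ * g * x)
    refine ⟨x * a * x⁻¹, ?_, x * b * x⁻¹, ?_, ?_⟩
    · rw [mem_conj_smul_iff]; simpa [mul_assoc] using ha
    · rw [mem_conj_smul_iff]; simpa [mul_assoc] using hb
    · have : x * a * x⁻¹ * (x * b * x⁻¹) = x * (a * b) * x⁻¹ := by group
      rw [this, ← hab]; group

theorem KW.inf_eq_bot (h : KW A B) : A ⊓ B = ⊥ :=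
  (Subgroup.disjoint_of_coprime_natCard h.cop).eq_bot

theorem KW.card [Finite G] (h : KW A B) : Nat.card G = Nat.card A * Nat.card B := by
  apply le_antisymm
  · rw [← Nat.card_prod]
    apply Nat.card_le_card_of_surjective (fun x : A × B => (x.1 : G) * x.2)
    intro g
    obtain ⟨a, ha, b, hb, hab⟩ := h.fac g
    exact ⟨(⟨a, ha⟩, ⟨b, hb⟩), hab.symm⟩
  · apply Nat.le_of_dvd Nat.card_pos
    exact h.cop.mul_dvd_of_dvd_of_dvd (Subgroup.card_subgroup_dvd_card A)
      (Subgroup.card_subgroup_dvd_card B)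

theorem KW.index_A [Finite G] (h : KW A B) : A.index = Nat.card B := by
  have h1 := A.card_mul_index
  rw [h.card] at h1
  exact Nat.eq_of_mul_eq_mul_left Nat.card_pos h1

theorem KW.hall_A [Finite G] (h : KW A B) : (Nat.card A).Coprime A.index := by
  rw [h.index_A]; exact h.cop

/-- the `A`-Sylows are Sylow subgroups of `G` -/
theorem KW.card_syl [Finite G] (h : KW A B) {p : ℕ} (hp : p.Prime) (hpB : ¬ p ∣ Nat.card B) :
    Nat.card (syl A p) = p ^ (Nat.card G).factorization p := by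
  rw [H4KW.card_syl h.nilA hp, h.card, Nat.factorization_mul Nat.card_pos.ne' Nat.card_pos.ne']
  simp [Nat.factorization_eq_zero_of_not_dvd hpB]

theorem KW.not_dvd_B (h : KW A B) {p : ℕ} (hp : p.Prime) (hpA : p ∣ Nat.card A) :
    ¬ p ∣ Nat.card B := by
  intro hpB
  have := Nat.dvd_gcd hpA hpB
  rw [h.cop.gcd_eq_one] at this
  exact hp.one_lt.ne' (Nat.dvd_one.mp this)

theorem KW.card_syl' [Finite G] (h : KW A B) {p : ℕ} (hp : p.Prime) (hpA : p ∣ Nat.card A) :
    Nat.card (syl A p) = p ^ (Nat.card G).factorization p :=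
  h.card_syl hp (h.not_dvd_B hp hpA)

theorem pow_card_eq_one_of_mem [Finite G] {A : Subgroup G} {a : G} (ha : a ∈ A) :
    a ^ Nat.card A = 1 := by
  have := Subgroup.orderOf_dvd_natCard A ha
  exact orderOf_dvd_iff_pow_eq_one.mp this

/-- pair conjugacy -/
theorem KW.pair_conj (h : KW A B) {P Q : Subgroup G}
    (hP : A ≤ Subgroup.normalizer (P : Set G)) (hQ : B ≤ Subgroup.normalizer (Q : Set G))
    (x y : G) : ∃ g : G, MulAut.conj g • P = MulAut.conj x • P ∧
      MulAut.conj g • Q = MulAut.conj y • Q := by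
  obtain ⟨a, ha, b, hb, hab⟩ := h.fac (x⁻¹ * y)
  refine ⟨x * a, ?_, ?_⟩
  · rw [map_mul, mul_smul, smul_eq_of_mem_normalizer (hP ha)]
  · have : x * a = y * b⁻¹ := by
      have : y = x * (a * b) := by rw [← hab]; group
      rw [this]; group
    rw [this, map_mul, mul_smul, smul_eq_of_mem_normalizer (hQ (B.inv_mem hb))]

/-- a subgroup is factorized -/
def Factd (A B K : Subgroup G) : Prop := ∀ a ∈ A, ∀ b ∈ B, a * b ∈ K → a ∈ K

theorem Factd.right {A B K : Subgroup G} (h : Factd A B K) {a b : G} (ha : a ∈ A) (hb : b ∈ B)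
    (hab : a * b ∈ K) : b ∈ K := by
  have := K.mul_mem (K.inv_mem (h a ha b hb hab)) hab
  simpa using this

theorem Factd.symm {A B K : Subgroup G} (h : Factd A B K) : Factd B A K := by
  intro b hb a ha hba
  have h1 : a⁻¹ * b⁻¹ ∈ K := by
    have := K.inv_mem hba
    simpa using this
  have := h.right (A.inv_mem ha) (B.inv_mem hb) h1
  simpa using K.inv_mem this

structure MinCE (G : Type u) [Group G] (A B : Subgroup G) : Prop where
  kw : KW A B
  ih : ∀ (H : Type u) [Group H] [Finite H], Nat.card H < Nat.card G →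
    ∀ A' B' : Subgroup H, KW A' B' → Group.IsSolvable H
  ns : ¬ Group.IsSolvable G

theorem MinCE.symm (h : MinCE G A B) : MinCE G B A := ⟨h.kw.symm, h.ih, h.ns⟩

theorem MinCE.conj (h : MinCE G A B) (x : G) :
    MinCE G (MulAut.conj x • A) (MulAut.conj x • B) := ⟨h.kw.conj x, h.ih, h.ns⟩

theorem card_lt_of_ne_top [Finite G] {K : Subgroup G} (hK : K ≠ ⊤) : Nat.card K < Nat.card G := by
  by_contra hlt
  exact hK (Subgroup.eq_top_of_le_card K (not_lt.mp hlt))

theorem MinCE.solvable_of_fac [Finite G] (h : MinCE G A B) (K A₁ B₁ : Subgroup G) (hK : K ≠ ⊤)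
    (hA₁ : A₁ ≤ A ⊓ K) (hB₁ : B₁ ≤ B ⊓ K) (hfac : ∀ k ∈ K, ∃ a ∈ A₁, ∃ b ∈ B₁, k = a * b) :
    Group.IsSolvable K := by
  have hA₁K : A₁ ≤ K := hA₁.trans inf_le_right
  have hB₁K : B₁ ≤ K := hB₁.trans inf_le_right
  refine h.ih K (card_lt_of_ne_top hK) (A₁.subgroupOf K) (B₁.subgroupOf K) ⟨?_, ?_, ?_, ?_⟩
  · haveI := nilpotent_of_le (hA₁.trans inf_le_left) h.kw.nilA
    exact Group.nilpotent_of_mulEquiv (Subgroup.subgroupOfEquivOfLe hA₁K).symm
  · haveI := nilpotent_of_le (hB₁.trans inf_le_left) h.kw.nilB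
    exact Group.nilpotent_of_mulEquiv (Subgroup.subgroupOfEquivOfLe hB₁K).symm
  · rw [card_subgroupOf_of_le hA₁K, card_subgroupOf_of_le hB₁K]
    exact (h.kw.cop.coprime_dvd_left (Subgroup.card_dvd_of_le (hA₁.trans inf_le_left))).coprime_dvd_right
      (Subgroup.card_dvd_of_le (hB₁.trans inf_le_left))
  · rintro ⟨k, hk⟩
    obtain ⟨a, ha, b, hb, hab⟩ := hfac k hk
    exact ⟨⟨a, hA₁K ha⟩, ha, ⟨b, hB₁K hb⟩, hb, Subtype.ext hab⟩

theorem MinCE.solvable_of_factd [Finite G] (h : MinCE G A B) {K : Subgroup G} (hK : K ≠ ⊤)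
    (hf : Factd A B K) : Group.IsSolvable K := by
  apply h.solvable_of_fac K (A ⊓ K) (B ⊓ K) hK le_rfl le_rfl
  intro k hk
  obtain ⟨a, ha, b, hb, hab⟩ := h.kw.fac k
  rw [hab] at hk
  exact ⟨a, ⟨ha, hf a ha b hb hk⟩, b, ⟨hb, hf.right ha hb hk⟩, hab⟩


/-- normal subgroups are factorized -/
theorem KW.factd_of_normal [Finite G] (h : KW A B) (K : Subgroup G) [K.Normal] : Factd A B K := by
  intro a ha b hb hab
  rw [← QuotientGroup.eq_one_iff]
  have h1 : (a : G ⧸ K) ^ Nat.card A = 1 := by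
    rw [← QuotientGroup.mk_pow, pow_card_eq_one_of_mem ha, QuotientGroup.mk_one]
  have h2 : (a : G ⧸ K) ^ Nat.card B = 1 := by
    have hab' : (a : G ⧸ K) * (b : G ⧸ K) = 1 := by
      rw [← QuotientGroup.mk_mul]; exact (QuotientGroup.eq_one_iff _).mpr hab
    have e : (a : G ⧸ K) = ((b⁻¹ : G) : G ⧸ K) := by
      rw [QuotientGroup.mk_inv]; exact eq_inv_of_mul_eq_one_left hab'
    rw [e, ← QuotientGroup.mk_pow, pow_card_eq_one_of_mem (B.inv_mem hb), QuotientGroup.mk_one]
  have h3 := (pow_gcd_eq_one (a := (a : G ⧸ K))).mpr ⟨h1, h2⟩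
  rw [h.cop.gcd_eq_one, pow_one] at h3
  exact h3

theorem KW.map_mk [Finite G] (h : KW A B) (K : Subgroup G) [K.Normal] :
    KW (A.map (QuotientGroup.mk' K)) (B.map (QuotientGroup.mk' K)) := by
  refine ⟨?_, ?_, ?_, ?_⟩
  · haveI := h.nilA
    exact Group.nilpotent_of_surjective ((QuotientGroup.mk' K).subgroupMap A)
      ((QuotientGroup.mk' K).subgroupMap_surjective A)
  · haveI := h.nilB
    exact Group.nilpotent_of_surjective ((QuotientGroup.mk' K).subgroupMap B)
      ((QuotientGroup.mk' K).subgroupMap_surjective B)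
  · exact (h.cop.coprime_dvd_left (Subgroup.card_map_dvd A _)).coprime_dvd_right
      (Subgroup.card_map_dvd B _)
  · intro g
    obtain ⟨g₀, rfl⟩ := QuotientGroup.mk_surjective g
    obtain ⟨a, ha, b, hb, hab⟩ := h.fac g₀
    exact ⟨_, ⟨a, ha, rfl⟩, _, ⟨b, hb, rfl⟩, by rw [hab]; rfl⟩

theorem MinCE.nontrivial (h : MinCE G A B) : Nontrivial G := by
  by_contra hn
  rw [not_nontrivial_iff_subsingleton] at hn
  exact h.ns inferInstance

theorem MinCE.simple [Finite G] (h : MinCE G A B) : IsSimpleGroup G := by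
  haveI := h.nontrivial
  refine ⟨fun K hK => ?_⟩
  by_contra hne
  push Not at hne
  obtain ⟨hbot, htop⟩ := hne
  haveI := hK
  haveI : Group.IsSolvable K := h.solvable_of_factd htop (h.kw.factd_of_normal K)
  haveI : Group.IsSolvable (G ⧸ K) := by
    refine h.ih (G ⧸ K) ?_ _ _ (h.kw.map_mk K)
    rw [← Subgroup.index_eq_card, ← K.card_mul_index]
    have h1 : 1 < Nat.card K := by
      rw [Subgroup.one_lt_card_iff_ne_bot]; exact hbot
    have h2 : 0 < K.index := Nat.pos_of_ne_zero Subgroup.index_ne_zero_of_finite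
    nlinarith
  apply h.ns
  exact Group.isSolvable_of_ker_le_range K.subtype (QuotientGroup.mk' K) (by
    rw [QuotientGroup.ker_mk', Subgroup.range_subtype])

theorem MinCE.normal_eq_bot [Finite G] (h : MinCE G A B) {K : Subgroup G}
    (hn : ∀ g : G, g ∈ Subgroup.normalizer (K : Set G)) (hK : K ≠ ⊤) : K = ⊥ := by
  haveI := h.simple
  have : K.Normal := by
    rw [← Subgroup.normalizer_eq_top_iff]
    exact eq_top_iff.mpr fun g _ => hn g
  exact (this.eq_bot_or_eq_top).resolve_right hK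

theorem MinCE.normalizer_ne_top [Finite G] (h : MinCE G A B) {K : Subgroup G}
    (hK : K ≠ ⊤) (hK' : K ≠ ⊥) : Subgroup.normalizer (K : Set G) ≠ ⊤ := by
  intro htop
  apply hK'
  apply h.normal_eq_bot _ hK
  intro g; rw [htop]; trivial

theorem MinCE.center_eq_bot [Finite G] (h : MinCE G A B) : Subgroup.center G = ⊥ := by
  haveI := h.simple
  rcases (inferInstance : (Subgroup.center G).Normal).eq_bot_or_eq_top with h1 | h1
  · exact h1
  · exfalso
    apply h.ns
    have hcomm : ∀ a b : G, a * b = b * a := fun a b => by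
      have : a ∈ Subgroup.center G := by rw [h1]; trivial
      exact (Subgroup.mem_center_iff.mp this b).symm
    let _ : CommGroup G := { (inferInstance : Group G) with mul_comm := hcomm }
    infer_instance

theorem MinCE.centralizer_ne_top [Finite G] (h : MinCE G A B) {x : G} (hx : x ≠ 1) :
    Subgroup.centralizer ({x} : Set G) ≠ ⊤ := by
  intro htop
  have : x ∈ Subgroup.center G := by
    rw [Subgroup.mem_center_iff]
    intro g
    have hg : g ∈ Subgroup.centralizer ({x} : Set G) := by rw [htop]; trivial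
    exact (Subgroup.mem_centralizer_iff.mp hg x rfl).symm
  rw [h.center_eq_bot, Subgroup.mem_bot] at this
  exact hx this

theorem MinCE.B_ne_bot [Finite G] (h : MinCE G A B) : B ≠ ⊥ := by
  intro hB
  apply h.ns
  have hA : A = ⊤ := by
    rw [eq_top_iff]
    intro g _
    obtain ⟨a, ha, b, hb, hab⟩ := h.kw.fac g
    rw [hB, Subgroup.mem_bot] at hb
    rw [hab, hb, mul_one]; exact ha
  haveI : Group.IsNilpotent G := by
    haveI := h.kw.nilA
    have e : A ≃* G := (MulEquiv.subgroupCongr hA).trans Subgroup.topEquiv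
    exact Group.nilpotent_of_mulEquiv e
  infer_instance

theorem MinCE.A_ne_bot [Finite G] (h : MinCE G A B) : A ≠ ⊥ := h.symm.B_ne_bot

theorem MinCE.A_ne_top [Finite G] (h : MinCE G A B) : A ≠ ⊤ := by
  intro hA
  apply h.B_ne_bot
  have := h.kw.inf_eq_bot
  rw [hA, top_inf_eq] at this
  exact this

theorem MinCE.B_ne_top [Finite G] (h : MinCE G A B) : B ≠ ⊤ := h.symm.A_ne_top

/-- `A` is not of prime power order -/
theorem MinCE.card_A_ne_prime_pow [Finite G] (h : MinCE G A B) {p k : ℕ} (hp : p.Prime) :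
    Nat.card A ≠ p ^ k := by
  intro hA
  haveI := h.simple
  haveI : Nontrivial B := (Subgroup.nontrivial_iff_ne_bot B).mpr h.B_ne_bot
  haveI := h.kw.nilB
  have hc := Group.IsNilpotent.center_ne_bot (G := B)
  obtain ⟨⟨z, hz⟩, hz1⟩ := (Subgroup.ne_bot_iff_exists_ne_one).mp hc
  have hz1' : (z : G) ≠ 1 := by
    intro h0
    apply hz1
    apply Subtype.ext
    apply Subtype.ext
    exact h0
  have hBC : B ≤ Subgroup.centralizer ({(z : G)} : Set G) := by
    intro b hb
    rw [Subgroup.mem_centralizer_iff]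
    intro y hy
    rw [Set.mem_singleton_iff] at hy
    subst hy
    have := Subgroup.mem_center_iff.mp hz ⟨b, hb⟩
    exact (congrArg Subtype.val this).symm
  have hdvd : (Subgroup.centralizer ({(z : G)} : Set G)).index ∣ p ^ k := by
    rw [← hA, ← h.kw.symm.index_A]
    exact Subgroup.index_dvd_of_le hBC
  obtain ⟨j, -, hj⟩ := (Nat.dvd_prime_pow hp).mp hdvd
  have hprime := Cfsg.Agent.CharLib.prime_card_of_class_prime_pow p j hp (z : G) hz1' hj
  apply h.ns
  haveI := Fact.mk hprime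
  haveI : IsCyclic G := isCyclic_of_prime_card rfl
  infer_instance


theorem MinCE.exists_prime_ne [Finite G] (h : MinCE G A B) (p : ℕ) :
    ∃ r : ℕ, r.Prime ∧ r ∣ Nat.card A ∧ r ≠ p := by
  by_contra hcon
  push Not at hcon
  by_cases hp : p.Prime
  · exact h.card_A_ne_prime_pow hp
      (Nat.eq_prime_pow_of_unique_prime_dvd Nat.card_pos.ne' (fun {d} hd hdA => hcon d hd hdA))
  · have h1 : Nat.card A ≠ 1 := by
      intro h1
      exact h.A_ne_bot (Subgroup.card_eq_one.mp h1)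
    obtain ⟨r, hr, hrA⟩ := Nat.exists_prime_and_dvd h1
    exact hp (hcon r hr hrA ▸ hr)

/-- Hall `{p,q}`-subgroup of a solvable subgroup containing Sylow subgroups `P`, `Q` of `G` -/
theorem exists_conj_mul_eq [Finite G] (L : Subgroup G) (hs : Group.IsSolvable L) {p q : ℕ}
    (hp : p.Prime) (hq : q.Prime) (hpq : p ≠ q) (P Q : Subgroup G)
    (hP : Nat.card P = p ^ (Nat.card G).factorization p)
    (hQ : Nat.card Q = q ^ (Nat.card G).factorization q) (hPL : P ≤ L) (hQL : Q ≤ L) :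
    ∃ g : G, ∃ H : Subgroup G, (H : Set G) = (P : Set G) * ((MulAut.conj g • Q : Subgroup G) : Set G) := by
  haveI := hs
  set a := (Nat.card G).factorization p with ha
  set b := (Nat.card G).factorization q with hb
  have hcop : (p ^ a).Coprime (q ^ b) :=
    Nat.Coprime.pow _ _ ((Nat.coprime_primes hp hq).mpr hpq)
  have hm : p ^ a * q ^ b ∣ Nat.card L := by
    apply hcop.mul_dvd_of_dvd_of_dvd
    · rw [← hP]; exact Subgroup.card_dvd_of_le hPL
    · rw [← hQ]; exact Subgroup.card_dvd_of_le hQL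
  obtain ⟨n, hn⟩ := hm
  have hLG : Nat.card L ∣ Nat.card G := Subgroup.card_subgroup_dvd_card L
  have hpn : p.Coprime n := by
    rw [hp.coprime_iff_not_dvd]
    intro hd
    have h1 : p ^ (a + 1) ∣ Nat.card G := by
      refine dvd_trans ?_ hLG
      rw [hn]
      obtain ⟨c, rfl⟩ := hd
      exact ⟨q ^ b * c, by ring⟩
    have := (hp.pow_dvd_iff_le_factorization Nat.card_pos.ne').mp h1
    omega
  have hqn : q.Coprime n := by
    rw [hq.coprime_iff_not_dvd]
    intro hd
    have h1 : q ^ (b + 1) ∣ Nat.card G := by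
      refine dvd_trans ?_ hLG
      rw [hn]
      obtain ⟨c, rfl⟩ := hd
      exact ⟨p ^ a * c, by ring⟩
    have := (hq.pow_dvd_iff_le_factorization Nat.card_pos.ne').mp h1
    omega
  have hmn : (p ^ a * q ^ b).Coprime n :=
    Nat.Coprime.mul_left (Nat.Coprime.pow_left _ hpn) (Nat.Coprime.pow_left _ hqn)
  obtain ⟨H, hH, hPH⟩ := hall_exists_ge (G := L) (p ^ a * q ^ b) n hn hmn (P.subgroupOf L) (by
    rw [card_subgroupOf_of_le hPL, hP]; exact Nat.Coprime.pow_left _ hpn)
  have hidx : H.index = n := by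
    have := H.card_mul_index
    rw [hH, hn] at this
    exact Nat.eq_of_mul_eq_mul_left (Nat.pos_of_ne_zero (by
      intro h0; rw [h0, zero_mul] at hn; exact Nat.card_pos.ne' hn)) this
  obtain ⟨g, hg⟩ := hall_dominance _ L rfl H (Q.subgroupOf L) (by rw [hH, hidx]; exact hmn) (by
    rw [card_subgroupOf_of_le hQL, hQ, hidx]; exact Nat.Coprime.pow_left _ hqn)
  refine ⟨(g : G)⁻¹, H.map L.subtype, ?_⟩
  apply coe_eq_mul_of_card
  · intro x hx
    exact ⟨⟨x, hPL hx⟩, hPH (by rw [Subgroup.mem_subgroupOf]; exact hx), rfl⟩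
  · rw [smul_le_iff, inv_inv, ← map_subtype_conj_smul]
    intro x hx
    exact ⟨⟨x, hQL hx⟩, hg (by rw [Subgroup.mem_subgroupOf]; exact hx), rfl⟩
  · rw [card_conj_smul, hP, hQ]; exact hcop
  · rw [card_conj_smul, hP, hQ, Subgroup.card_map_of_injective L.subtype_injective, hH]


theorem KW.prime_ne (h : KW A B) {p q : ℕ} (hp : p.Prime) (hpA : p ∣ Nat.card A)
    (hqB : q ∣ Nat.card B) : p ≠ q := by
  rintro rfl
  exact h.not_dvd_B hp hpA hqB

/-- if `P * Q` is a subgroup for normalized `P`, `Q`, so are all `P * Q^x` -/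
theorem KW.mul_conj_of_mul (h : KW A B) {P Q S : Subgroup G}
    (hP : A ≤ Subgroup.normalizer (P : Set G)) (hQ : B ≤ Subgroup.normalizer (Q : Set G))
    (x y : G)
    (hS : (S : Set G) = (P : Set G) * ((MulAut.conj x • Q : Subgroup G) : Set G)) :
    ∃ S' : Subgroup G, Nat.card S' = Nat.card S ∧
      (S' : Set G) = (P : Set G) * ((MulAut.conj y • Q : Subgroup G) : Set G) := by
  obtain ⟨g₁, hg₁P, hg₁Q⟩ := h.pair_conj hP hQ 1 x
  obtain ⟨g₂, hg₂P, hg₂Q⟩ := h.pair_conj hP hQ 1 y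
  rw [map_one, one_smul] at hg₁P hg₂P
  refine ⟨MulAut.conj (g₂ * g₁⁻¹) • S, card_conj_smul _ _, ?_⟩
  rw [exists_coe_eq_mul_conj hS (g₂ * g₁⁻¹)]
  have e1 : MulAut.conj (g₂ * g₁⁻¹) • P = P := by
    conv_lhs => rw [← hg₁P]
    rw [map_mul, mul_smul, conj_inv_smul_smul, hg₂P]
  have e2 : MulAut.conj (g₂ * g₁⁻¹) • MulAut.conj x • Q = MulAut.conj y • Q := by
    rw [← hg₁Q, map_mul, mul_smul, conj_inv_smul_smul, hg₂Q]
  rw [e1, e2]

theorem MinCE.card_syl_lt [Finite G] (h : MinCE G A B) {p : ℕ} (hp : p.Prime) :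
    Nat.card (syl A p) < Nat.card A := by
  apply lt_of_le_of_ne (Nat.le_of_dvd Nat.card_pos (Subgroup.card_dvd_of_le (syl_le A p)))
  rw [H4KW.card_syl h.kw.nilA hp]
  exact (h.card_A_ne_prime_pow hp).symm

/-- **F2**: an `A`-Sylow and a `B`-Sylow generate `G` -/
theorem MinCE.F2 [Finite G] (h : MinCE G A B) {p q : ℕ} (hp : p.Prime) (hq : q.Prime)
    (hpA : p ∣ Nat.card A) (hqB : q ∣ Nat.card B) : syl A p ⊔ syl B q = ⊤ := by
  by_contra hJ
  have hPne : syl A p ≠ ⊥ := syl_ne_bot h.kw.nilA hp hpA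
  have hQne : syl B q ≠ ⊥ := syl_ne_bot h.kw.nilB hq hqB
  have hJbot : syl A p ⊔ syl B q ≠ ⊥ := by
    intro h0
    apply hPne
    rw [eq_bot_iff, ← h0]; exact le_sup_left
  have hL := h.normalizer_ne_top hJ hJbot
  have hPn := le_normalizer_syl A p
  have hQn := le_normalizer_syl B q
  have hf : Factd A B (Subgroup.normalizer ((syl A p ⊔ syl B q : Subgroup G) : Set G)) := by
    intro a ha b hb hab
    have h1 := smul_eq_of_mem_normalizer hab
    rw [map_mul, mul_smul] at h1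
    have h2 : MulAut.conj b • (syl A p ⊔ syl B q) = MulAut.conj a⁻¹ • (syl A p ⊔ syl B q) := by
      conv_rhs => rw [← h1]
      rw [conj_inv_smul_smul]
    have h3 : syl A p ⊔ syl B q ≤ MulAut.conj a⁻¹ • (syl A p ⊔ syl B q) := by
      apply sup_le
      · rw [← smul_le_iff, smul_eq_of_mem_normalizer (hPn ha)]
        exact le_sup_left
      · rw [← h2, le_smul_iff, smul_eq_of_mem_normalizer (hQn (B.inv_mem hb))]
        exact le_sup_right
    have h4 := Subgroup.eq_of_le_of_card_ge h3 (card_conj_smul _ _).le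
    have := mem_normalizer_of_smul_eq h4.symm
    simpa using (Subgroup.normalizer _).inv_mem this
  have hsol := h.solvable_of_factd hL hf
  have hpq := h.kw.prime_ne hp hpA hqB
  obtain ⟨g, H, hH⟩ := exists_conj_mul_eq _ hsol hp hq hpq (syl A p) (syl B q)
    (h.kw.card_syl' hp hpA) (h.kw.symm.card_syl' hq hqB)
    (le_sup_left.trans Subgroup.le_normalizer) (le_sup_right.trans Subgroup.le_normalizer)
  have hk : ∀ x : G, ∃ S : Subgroup G, S ≠ ⊤ ∧
      (S : Set G) = (syl A p : Set G) * ((MulAut.conj x • syl B q : Subgroup G) : Set G) := by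
    intro x
    obtain ⟨S', hS'c, hS'⟩ := h.kw.mul_conj_of_mul hPn hQn g x hH
    refine ⟨S', ?_, hS'⟩
    intro htop
    have h1 := card_le_of_coe_eq_mul hS'
    rw [htop, Subgroup.card_top, h.kw.card, card_conj_smul] at h1
    have h2 := h.card_syl_lt hp
    have h3 : Nat.card (syl B q) ≤ Nat.card B :=
      Nat.le_of_dvd Nat.card_pos (Subgroup.card_dvd_of_le (syl_le B q))
    have h4 : 0 < Nat.card (syl B q) := Nat.card_pos
    nlinarith
  obtain ⟨N, hN, hNtop, hPQ⟩ := Cfsg.Agent.Lib.Helper4.kegel_lemma _ _ hk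
  have hNbot : N = ⊥ := by
    haveI := h.simple
    exact hN.eq_bot_or_eq_top.resolve_right hNtop
  rcases hPQ with h1 | h1
  · apply hPne; rw [eq_bot_iff, ← hNbot]; exact h1
  · apply hQne; rw [eq_bot_iff, ← hNbot]; exact h1

/-- **F6**: no nontrivial `q`-subgroup (`q ∣ |B|`) is normalized by a Sylow `p`-subgroup of `G`
(`p ∣ |A|`). -/
theorem MinCE.F6 [Finite G] (h : MinCE G A B) {p q : ℕ} (hp : p.Prime) (hq : q.Prime)
    (hpA : p ∣ Nat.card A) (hqB : q ∣ Nat.card B) (P₁ V : Subgroup G)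
    (hP₁ : Nat.card P₁ = p ^ (Nat.card G).factorization p) (hV : IsPGroup q V)
    (hn : P₁ ≤ Subgroup.normalizer (V : Set G)) : V = ⊥ := by
  obtain ⟨x, hx⟩ := exists_conj_eq_of_card hp (h.kw.card_syl' hp hpA) hP₁
  obtain ⟨y, hy⟩ := exists_le_conj_of_card hq (h.kw.symm.card_syl' hq hqB) hV
  obtain ⟨g, hgP, hgQ⟩ := h.kw.pair_conj (le_normalizer_syl A p) (le_normalizer_syl B q) x y
  rw [← hgQ] at hy
  rw [← hgP] at hx
  -- V' = conj g⁻¹ • V ≤ Q, normalized by P
  have hV'Q : MulAut.conj g⁻¹ • V ≤ syl B q := by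
    rw [smul_le_iff, inv_inv]; exact hy
  have hV'n : syl A p ≤ Subgroup.normalizer ((MulAut.conj g⁻¹ • V : Subgroup G) : Set G) := by
    rw [← conj_smul_normalizer, ← smul_le_iff, hx]
    exact hn
  obtain ⟨q', hq', hq'B, hne⟩ := h.symm.exists_prime_ne q
  have hcent : syl B q' ≤ Subgroup.normalizer ((MulAut.conj g⁻¹ • V : Subgroup G) : Set G) := by
    intro z hz
    apply mem_normalizer_of_forall_conj_mem
    intro v hv
    have : z * v = v * z := syl_commute h.kw.nilB hq' hq hne hz (hV'Q hv)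
    rw [this, mul_assoc, mul_inv_cancel, mul_one]
    exact hv
  have htop := h.F2 hp hq' hpA hq'B
  have hall : ∀ z : G, z ∈ Subgroup.normalizer ((MulAut.conj g⁻¹ • V : Subgroup G) : Set G) := by
    intro z
    have : z ∈ syl A p ⊔ syl B q' := by rw [htop]; trivial
    exact (sup_le hV'n hcent) this
  have hV'top : MulAut.conj g⁻¹ • V ≠ ⊤ := by
    intro htop'
    rw [htop'] at hV'Q
    have : syl B q = ⊤ := top_le_iff.mp hV'Q
    apply h.B_ne_top
    exact top_le_iff.mp (this ▸ syl_le B q)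
  have := h.normal_eq_bot hall hV'top
  rw [eq_bot_iff, smul_le_iff, inv_inv] at this
  rw [eq_bot_iff]
  refine this.trans ?_
  simp

end Cfsg.Agent.H4KW
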