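import Mathlib
import Cfsg.Agent.Lib.Helper4.KW2
import Cfsg.Agent.Lib.Helper17.BGFitA

set_option autoImplicit false
open Pointwise

namespace Cfsg.Agent.H4KW
open Cfsg.Agent.Lib.Helper1
open Cfsg.Agent.Lib.Helper17.BGU (le_normalizer_pCoreOf mem_pCoreOf_of_mem_fittingOf inf_centralizer_fittingOf_le le_centralizer_fittingOf_of_forall)
open Cfsg.Agent.Lib.Helper17.PrimeAct (pCoreOf_le pCoreOf_isPGroup fittingOf_eq_iSup)
universe u
variable {G : Type u} [Group G]

theorem eq_one_of_pow_eq_one_of_coprime {x : G} {m n : ℕ} (hm : x ^ m = 1) (hn : x ^ n = 1)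
    (h : m.Coprime n) : x = 1 := by
  have h3 := (pow_gcd_eq_one (a := x)).mpr ⟨hm, hn⟩
  rw [h.gcd_eq_one, pow_one] at h3
  exact h3

/-- Sylow's theorem inside a subgroup, by orders -/
theorem exists_le_conj_of_card_in [Finite G] {p : ℕ} (hp : p.Prime) {H T U : Subgroup G}
    (hTH : T ≤ H) (hT : Nat.card T = p ^ (Nat.card H).factorization p) (hUH : U ≤ H)
    (hU : IsPGroup p U) : ∃ g ∈ H, U ≤ MulAut.conj g • T := by
  obtain ⟨g, hg⟩ := exists_le_conj_of_card (G := H) hp (P := T.subgroupOf H) (U := U.subgroupOf H)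
    (by rw [card_subgroupOf_of_le hTH, hT]) hU.comap_subtype
  refine ⟨g, g.2, ?_⟩
  intro x hx
  have h1 : (⟨x, hUH hx⟩ : H) ∈ U.subgroupOf H := by rw [Subgroup.mem_subgroupOf]; exact hx
  have h2 := hg h1
  rw [mem_conj_smul_iff, Subgroup.mem_subgroupOf] at h2
  rw [mem_conj_smul_iff]
  exact h2

theorem conj_mem_centralizer {K : Subgroup G} {h x : G}
    (hh : h ∈ Subgroup.normalizer (K : Set G)) (hx : x ∈ Subgroup.centralizer (K : Set G)) :
    h * x * h⁻¹ ∈ Subgroup.centralizer (K : Set G) := by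
  rw [Subgroup.mem_centralizer_iff] at hx ⊢
  intro z hz
  have h1 := hx _ (conj_mem_of_mem_normalizer' hh hz)
  calc z * (h * x * h⁻¹) = h * (h⁻¹ * z * h * x) * h⁻¹ := by group
    _ = h * (x * (h⁻¹ * z * h)) * h⁻¹ := by rw [h1]
    _ = h * x * h⁻¹ * z := by group

/-- the subgroup of `H` centralizing all `O_s(H)`, `s ≠ p` -/
def ysub (H : Subgroup G) (p : ℕ) : Subgroup G :=
  H ⊓ ⨅ s : {s : ℕ // s.Prime ∧ s ≠ p},
    Subgroup.centralizer ((Cfsg.pCoreOf s.1 H : Subgroup G) : Set G)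

theorem mem_ysub {H : Subgroup G} {p : ℕ} {y : G} : y ∈ ysub H p ↔
    y ∈ H ∧ ∀ s : ℕ, s.Prime → s ≠ p → y ∈ Subgroup.centralizer ((Cfsg.pCoreOf s H : Subgroup G) : Set G) := by
  unfold ysub
  rw [Subgroup.mem_inf, Subgroup.mem_iInf]
  constructor
  · rintro ⟨h1, h2⟩
    exact ⟨h1, fun s hs hsp => h2 ⟨s, hs, hsp⟩⟩
  · rintro ⟨h1, h2⟩
    exact ⟨h1, fun s => h2 s.1 s.2.1 s.2.2⟩

theorem ysub_le (H : Subgroup G) (p : ℕ) : ysub H p ≤ H := inf_le_left

theorem le_normalizer_ysub [Finite G] (H : Subgroup G) (p : ℕ) :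
    H ≤ Subgroup.normalizer ((ysub H p : Subgroup G) : Set G) := by
  intro h hh
  apply mem_normalizer_of_forall_conj_mem
  intro y hy
  rw [mem_ysub] at hy ⊢
  refine ⟨H.mul_mem (H.mul_mem hh hy.1) (H.inv_mem hh), ?_⟩
  intro s hs hsp
  haveI := Fact.mk hs
  exact conj_mem_centralizer (le_normalizer_pCoreOf s H hh) (hy.2 s hs hsp)


variable {A B : Subgroup G}

theorem KW.dvd_A_or_dvd_B [Finite G] (h : KW A B) {s : ℕ} (hs : s.Prime) {K : Subgroup G}
    (hK : s ∣ Nat.card K) : s ∣ Nat.card A ∨ s ∣ Nat.card B := by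
  have h1 : s ∣ Nat.card G := hK.trans (Subgroup.card_subgroup_dvd_card K)
  rw [h.card] at h1
  exact (Nat.Prime.dvd_mul hs).mp h1

/-- **Lemma N** -/
theorem MinCE.lemmaN [Finite G] (h : MinCE G A B) (H : Subgroup G) (hsol : Group.IsSolvable H)
    (hHall : ∀ s : ℕ, s.Prime → s ∣ Nat.card A →
      (Nat.card (A ⊓ H : Subgroup G)).factorization s = (Nat.card H).factorization s)
    {p r : ℕ} (hp : p.Prime) (hr : r.Prime)
    (hpr : p ≠ r) (hrA : r ∣ Nat.card A) (hRH : syl A r ≤ H) :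
    H ≤ Subgroup.normalizer ((syl A p ⊓ H : Subgroup G) : Set G) := by
  have hDnil : Group.IsNilpotent (A ⊓ H : Subgroup G) := nilpotent_of_le inf_le_left h.kw.nilA
  -- N1
  have N1 : ∀ s : ℕ, s.Prime → s ∣ Nat.card B → Cfsg.pCoreOf s H = ⊥ := by
    intro s hs hsB
    haveI := Fact.mk hs
    exact h.F6 hr hs hrA hsB (syl A r) _ (h.kw.card_syl' hr hrA) (pCoreOf_isPGroup s H)
      (hRH.trans (le_normalizer_pCoreOf s H))
  -- N2: Sylow subgroups of H inside A
  have N2 : ∀ s : ℕ, s.Prime → s ∣ Nat.card A → ∀ U : Subgroup G, U ≤ H → IsPGroup s U →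
      ∃ g ∈ H, U ≤ MulAut.conj g • syl (A ⊓ H) s := by
    intro s hs hsA U hUH hU
    apply exists_le_conj_of_card_in hs ((syl_le _ s).trans inf_le_right) _ hUH hU
    rw [H4KW.card_syl hDnil hs, hHall s hs hsA]
  have hTA : ∀ s : ℕ, s.Prime → syl (A ⊓ H) s ≤ syl A s := by
    intro s hs
    exact le_syl ((syl_le _ s).trans inf_le_left) (isPGroup_syl hDnil hs)
  -- N3
  have N3 : ∀ s : ℕ, s.Prime → Cfsg.pCoreOf s H ≤ syl A s := by
    intro s hs
    haveI := Fact.mk hs
    by_cases hsA : s ∣ Nat.card A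
    · obtain ⟨g, hg, hle⟩ := N2 s hs hsA _ (pCoreOf_le s H) (pCoreOf_isPGroup s H)
      rw [le_smul_iff, smul_eq_of_mem_normalizer (le_normalizer_pCoreOf s H (H.inv_mem hg))] at hle
      exact hle.trans (hTA s hs)
    · have : Cfsg.pCoreOf s H = ⊥ := by
        by_contra hne
        have h1 : s ∣ Nat.card (Cfsg.pCoreOf s H) := by
          rcases (pCoreOf_isPGroup s H).card_eq_or_dvd with h1 | h1
          · exact absurd (Subgroup.card_eq_one.mp h1) hne
          · exact h1
        rcases h.kw.dvd_A_or_dvd_B hs h1 with h2 | h2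
        · exact hsA h2
        · exact hne (N1 s hs h2)
      rw [this]; exact bot_le
  -- N4
  have N4 : Cfsg.fittingOf H ≤ A := by
    rw [fittingOf_eq_iSup]
    apply iSup_le
    intro s
    exact (N3 s s.2).trans (syl_le A s)
  have hYn := le_normalizer_ysub H p
  -- commutators of Y with C_H(O_p(H)) lie in Z(F)
  have N5 : ∀ y ∈ ysub H p, ∀ x ∈ H,
      x ∈ Subgroup.centralizer ((Cfsg.pCoreOf p H : Subgroup G) : Set G) →
      x * y * x⁻¹ * y⁻¹ ∈ Cfsg.fittingOf H := by
    intro y hy x hxH hxC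
    apply inf_centralizer_fittingOf_le hsol
    have hyH := ysub_le H p hy
    refine ⟨H.mul_mem (H.mul_mem (H.mul_mem hxH hyH) (H.inv_mem hxH)) (H.inv_mem hyH), ?_⟩
    have hcY : x * y * x⁻¹ * y⁻¹ ∈ ysub H p :=
      (ysub H p).mul_mem (conj_mem_of_mem_normalizer (hYn hxH) hy) ((ysub H p).inv_mem hy)
    have hcC : x * y * x⁻¹ * y⁻¹ ∈
        Subgroup.centralizer ((Cfsg.pCoreOf p H : Subgroup G) : Set G) := by
      haveI := Fact.mk hp
      have h1 := conj_mem_centralizer (le_normalizer_pCoreOf p H hyH)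
        ((Subgroup.centralizer _).inv_mem hxC)
      have h2 := (Subgroup.centralizer _).mul_mem hxC h1
      have e : x * (y * x⁻¹ * y⁻¹) = x * y * x⁻¹ * y⁻¹ := by group
      rwa [e] at h2
    have := le_centralizer_fittingOf_of_forall (H := H)
      (X := Subgroup.zpowers (x * y * x⁻¹ * y⁻¹)) (by
        intro s hs
        rw [Subgroup.zpowers_le]
        by_cases hsp : s = p
        · rw [hsp]; exact hcC
        · exact (mem_ysub.mp hcY).2 s hs hsp)
    exact this (Subgroup.mem_zpowers _)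
  have hRC : ∀ x ∈ syl A r,
      x ∈ Subgroup.centralizer ((Cfsg.pCoreOf p H : Subgroup G) : Set G) := by
    intro x hx
    rw [Subgroup.mem_centralizer_iff]
    intro z hz
    exact syl_commute h.kw.nilA hp hr hpr (N3 p hp hz) hx
  -- N6: R centralizes the q-elements of Y
  have N6 : ∀ q : ℕ, q.Prime → q ∣ Nat.card B → ∀ u ∈ ysub H p, ∀ k : ℕ, u ^ (q ^ k) = 1 →
      ∀ x ∈ syl A r, x * u = u * x := by
    intro q hq hqB u hu k huk x hx
    have hqr : r ≠ q := h.kw.prime_ne hr hrA hqB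
    have hcF : ∀ x ∈ syl A r, x * u * x⁻¹ * u⁻¹ ∈ Cfsg.fittingOf H :=
      fun x hx => N5 u hu x (hRH hx) (hRC x hx)
    have hconj : MulAut.conj u • syl A r ≤ syl A r := by
      apply le_syl _ (isPGroup_conj_smul (isPGroup_syl h.kw.nilA hr) u)
      intro w hw
      rw [mem_conj_smul_iff] at hw
      have h1 := hcF _ ((syl A r).inv_mem hw)
      have h2 := A.mul_mem (syl_le A r hw) (N4 h1)
      have e : u⁻¹ * w * u * ((u⁻¹ * w * u)⁻¹ * u * (u⁻¹ * w * u)⁻¹⁻¹ * u⁻¹) = w := by group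
      rwa [e] at h2
    have hcR : x * u * x⁻¹ * u⁻¹ ∈ syl A r := by
      have h1 : u * x⁻¹ * u⁻¹ ∈ MulAut.conj u • syl A r := by
        rw [mem_conj_smul_iff]
        have e : u⁻¹ * (u * x⁻¹ * u⁻¹) * u = x⁻¹ := by group
        rw [e]; exact (syl A r).inv_mem hx
      have h2 := (syl A r).mul_mem hx (hconj h1)
      have e : x * (u * x⁻¹ * u⁻¹) = x * u * x⁻¹ * u⁻¹ := by group
      rwa [e] at h2
    obtain ⟨j, hj⟩ := (isPGroup_syl h.kw.nilA hr) ⟨_, hcR⟩
    have hj' : (x * u * x⁻¹ * u⁻¹) ^ (r ^ j) = 1 := by simpa using congrArg Subtype.val hj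
    haveI := Fact.mk hr
    have hcO : x * u * x⁻¹ * u⁻¹ ∈ Cfsg.pCoreOf r H :=
      mem_pCoreOf_of_mem_fittingOf (hcF x hx) hj'
    have hcomm : Commute (x * u * x⁻¹ * u⁻¹) u := by
      have := (mem_ysub.mp hu).2 r hr hpr.symm
      rw [Subgroup.mem_centralizer_iff] at this
      exact this _ hcO
    have h1 : (x * u * x⁻¹) ^ (q ^ k) = 1 := by
      rw [conj_pow, huk, mul_one, mul_inv_cancel]
    have e : x * u * x⁻¹ = (x * u * x⁻¹ * u⁻¹) * u := by group
    rw [e, hcomm.mul_pow, huk, mul_one] at h1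
    have h2 := eq_one_of_pow_eq_one_of_coprime hj' h1
      (Nat.Coprime.pow _ _ ((Nat.coprime_primes hr hq).mpr hqr))
    calc x * u = (x * u * x⁻¹ * u⁻¹) * (u * x) := by group
      _ = u * x := by rw [h2, one_mul]
  -- N7: Y is a π-group
  have N7 : ∀ q : ℕ, q.Prime → q ∣ Nat.card B → ¬ q ∣ Nat.card (ysub H p) := by
    intro q hq hqB hqY
    haveI := Fact.mk hq
    obtain ⟨U₀⟩ : Nonempty (Sylow q (ysub H p)) := inferInstance
    have hUY : (U₀ : Subgroup (ysub H p)).map (ysub H p).subtype ≤ ysub H p :=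
      Subgroup.map_subtype_le _
    have hUq : IsPGroup q ((U₀ : Subgroup (ysub H p)).map (ysub H p).subtype) := U₀.2.map _
    have hUn : syl A r ≤ Subgroup.normalizer
        (((U₀ : Subgroup (ysub H p)).map (ysub H p).subtype : Subgroup G) : Set G) := by
      intro x hx
      apply Cfsg.Agent.Lib.Helper1.mem_normalizer_of_forall_conj_mem
      intro u hu
      obtain ⟨k, hk⟩ := hUq ⟨u, hu⟩
      have hk' : u ^ (q ^ k) = 1 := by simpa using congrArg Subtype.val hk
      rw [N6 q hq hqB u (hUY hu) k hk' x hx, mul_assoc, mul_inv_cancel, mul_one]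
      exact hu
    have hbot := h.F6 hr hq hrA hqB (syl A r) _ (h.kw.card_syl' hr hrA) hUq hUn
    have hcard : Nat.card ((U₀ : Subgroup (ysub H p)).map (ysub H p).subtype) =
        q ^ (Nat.card (ysub H p)).factorization q := by
      rw [Subgroup.card_map_of_injective (ysub H p).subtype_injective]
      exact U₀.card_eq_multiplicity
    rw [hbot, Subgroup.card_bot] at hcard
    have h2 : 0 < (Nat.card (ysub H p)).factorization q :=
      hq.factorization_pos_of_dvd Nat.card_pos.ne' hqY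
    have : 1 < q ^ (Nat.card (ysub H p)).factorization q := Nat.one_lt_pow h2.ne' hq.one_lt
    omega
  -- N8: Y ≤ A
  have N8 : ysub H p ≤ A ⊓ H := by
    apply le_of_forall_prime_pow_dvd
    intro s hs
    by_cases hsY : s ∣ Nat.card (ysub H p)
    · have hsA : s ∣ Nat.card A := by
        rcases h.kw.dvd_A_or_dvd_B hs hsY with h1 | h1
        · exact h1
        · exact absurd hsY (N7 s hs h1)
      haveI := Fact.mk hs
      obtain ⟨U₀⟩ : Nonempty (Sylow s (ysub H p)) := inferInstance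
      have hUY : (U₀ : Subgroup (ysub H p)).map (ysub H p).subtype ≤ ysub H p :=
        Subgroup.map_subtype_le _
      have hUs : IsPGroup s ((U₀ : Subgroup (ysub H p)).map (ysub H p).subtype) := U₀.2.map _
      have hcard : Nat.card ((U₀ : Subgroup (ysub H p)).map (ysub H p).subtype) =
          s ^ (Nat.card (ysub H p)).factorization s := by
        rw [Subgroup.card_map_of_injective (ysub H p).subtype_injective]
        exact U₀.card_eq_multiplicity
      obtain ⟨g, hg, hle⟩ := N2 s hs hsA _ (hUY.trans (ysub_le H p)) hUs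
      rw [le_smul_iff] at hle
      have hle2 : MulAut.conj g⁻¹ • (U₀ : Subgroup (ysub H p)).map (ysub H p).subtype ≤
          ysub H p := by
        rw [smul_le_iff, inv_inv, smul_eq_of_mem_normalizer (hYn hg)]
        exact hUY
      rw [← hcard, ← card_conj_smul _ g⁻¹]
      exact Subgroup.card_dvd_of_le (le_inf hle2 (hle.trans (syl_le _ s)))
    · rw [Nat.factorization_eq_zero_of_not_dvd hsY, pow_zero]
      exact one_dvd _
  -- N9
  intro g hg
  apply Cfsg.Agent.Lib.Helper1.mem_normalizer_of_forall_conj_mem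
  intro x hx
  have hxY : x ∈ ysub H p := by
    rw [mem_ysub]
    refine ⟨hx.2, ?_⟩
    intro s hs hsp
    rw [Subgroup.mem_centralizer_iff]
    intro z hz
    exact syl_commute h.kw.nilA hs hp hsp (N3 s hs hz) hx.1
  refine ⟨?_, H.mul_mem (H.mul_mem hg hx.2) (H.inv_mem hg)⟩
  have h1 : MulAut.conj g • (syl A p ⊓ H) ≤ syl A p := by
    apply le_syl
    · intro w hw
      rw [mem_conj_smul_iff] at hw
      have hw' : g⁻¹ * w * g ∈ ysub H p := by
        rw [mem_ysub]
        refine ⟨hw.2, ?_⟩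
        intro s hs hsp
        rw [Subgroup.mem_centralizer_iff]
        intro z hz
        exact syl_commute h.kw.nilA hs hp hsp (N3 s hs hz) hw.1
      have h2 := conj_mem_of_mem_normalizer (hYn hg) hw'
      have e : g * (g⁻¹ * w * g) * g⁻¹ = w := by group
      rw [e] at h2
      exact (N8 h2).1
    · exact isPGroup_conj_smul ((isPGroup_syl h.kw.nilA hp).to_le inf_le_left) g
  apply h1
  rw [mem_conj_smul_iff]
  have e : g⁻¹ * (g * x * g⁻¹) * g = x := by group
  rw [e]; exact hx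

end Cfsg.Agent.H4KW
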