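import Mathlib
import Cfsg.Agent.Lib.Helper4.KW3

set_option autoImplicit false
open Pointwise

namespace Cfsg.Agent.H4KW
open Cfsg.Agent.Lib.Helper1
universe u
variable {G : Type u} [Group G] {A B : Subgroup G}

theorem exists_prime_order_pow [Finite G] {x : G} (hx : x ≠ 1) :
    ∃ p : ℕ, p.Prime ∧ ∃ m : ℕ, x ^ m ≠ 1 ∧ (x ^ m) ^ p = 1 := by
  have h1 : orderOf x ≠ 1 := by rwa [Ne, orderOf_eq_one_iff]
  have h0 : orderOf x ≠ 0 := (orderOf_pos x).ne'
  have hp := Nat.minFac_prime h1
  have hd := Nat.minFac_dvd (orderOf x)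
  have ho := orderOf_pow_orderOf_div h0 hd
  refine ⟨_, hp, orderOf x / (orderOf x).minFac, ?_, ?_⟩
  · intro h2
    rw [h2, orderOf_one] at ho
    exact hp.one_lt.ne ho
  · have := pow_orderOf_eq_one (x ^ (orderOf x / (orderOf x).minFac))
    rwa [ho] at this

theorem mem_syl_of_pow_eq_one [Finite G] {A : Subgroup G} {p : ℕ} (hp : p.Prime) {a : G}
    (ha : a ∈ A) {k : ℕ} (hk : a ^ (p ^ k) = 1) : a ∈ syl A p := by
  have h1 : Subgroup.zpowers a ≤ syl A p := by
    apply le_syl
    · rw [Subgroup.zpowers_le]; exact ha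
    · obtain ⟨j, -, hj⟩ := (Nat.dvd_prime_pow hp).mp (orderOf_dvd_of_pow_eq_one hk)
      haveI := Fact.mk hp
      exact IsPGroup.of_card (n := j) (by rw [Nat.card_zpowers, hj])
  exact h1 (Subgroup.mem_zpowers a)

theorem KW.of_factd (h : KW A B) {K : Subgroup G} (hf : Factd A B K) :
    KW ((A ⊓ K).subgroupOf K) ((B ⊓ K).subgroupOf K) := by
  refine ⟨?_, ?_, ?_, ?_⟩
  · haveI := nilpotent_of_le (inf_le_left : A ⊓ K ≤ A) h.nilA
    exact Group.nilpotent_of_mulEquiv (Subgroup.subgroupOfEquivOfLe (inf_le_right : A ⊓ K ≤ K)).symm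
  · haveI := nilpotent_of_le (inf_le_left : B ⊓ K ≤ B) h.nilB
    exact Group.nilpotent_of_mulEquiv (Subgroup.subgroupOfEquivOfLe (inf_le_right : B ⊓ K ≤ K)).symm
  · rw [card_subgroupOf_of_le inf_le_right, card_subgroupOf_of_le inf_le_right]
    exact (h.cop.coprime_dvd_left (Subgroup.card_dvd_of_le inf_le_left)).coprime_dvd_right
      (Subgroup.card_dvd_of_le inf_le_left)
  · rintro ⟨k, hk⟩
    obtain ⟨a, ha, b, hb, hab⟩ := h.fac k
    rw [hab] at hk
    have haK := hf a ha b hb hk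
    have hbK := hf.right ha hb hk
    exact ⟨⟨a, haK⟩, ⟨ha, haK⟩, ⟨b, hbK⟩, ⟨hb, hbK⟩, Subtype.ext hab⟩

theorem KW.card_of_factd [Finite G] (h : KW A B) {K : Subgroup G} (hf : Factd A B K) :
    Nat.card K = Nat.card (A ⊓ K : Subgroup G) * Nat.card (B ⊓ K : Subgroup G) := by
  have := (h.of_factd hf).card
  rw [card_subgroupOf_of_le inf_le_right, card_subgroupOf_of_le inf_le_right] at this
  exact this

/-- the Hall condition for factorized subgroups -/
theorem KW.hall_of_factd [Finite G] (h : KW A B) {K : Subgroup G} (hf : Factd A B K) (s : ℕ)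
    (hs : s.Prime) (hsA : s ∣ Nat.card A) :
    (Nat.card (A ⊓ K : Subgroup G)).factorization s = (Nat.card K).factorization s := by
  have : ¬ s ∣ Nat.card (B ⊓ K : Subgroup G) := fun hd =>
    h.not_dvd_B hs hsA (hd.trans (Subgroup.card_dvd_of_le inf_le_left))
  rw [h.card_of_factd hf, Nat.factorization_mul Nat.card_pos.ne' Nat.card_pos.ne',
    Finsupp.add_apply, Nat.factorization_eq_zero_of_not_dvd this, add_zero]

theorem factd_of_le {K : Subgroup G} (hAK : A ≤ K) : Factd A B K := fun _ ha _ _ _ => hAK ha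

/-- **C9**: proper overgroups of `A` normalize `A` -/
theorem MinCE.le_normalizer_of_le [Finite G] (h : MinCE G A B) {H : Subgroup G} (hAH : A ≤ H)
    (hH : H ≠ ⊤) : H ≤ Subgroup.normalizer (A : Set G) := by
  have hf : Factd A B H := factd_of_le hAH
  have hsol := h.solvable_of_factd hH hf
  have hsyl : ∀ p : ℕ, p.Prime → H ≤ Subgroup.normalizer (syl A p : Set G) := by
    intro p hp
    obtain ⟨r, hr, hrA, hrp⟩ := h.exists_prime_ne p
    have := h.lemmaN H hsol (h.kw.hall_of_factd hf) hp hr hrp.symm hrA ((syl_le A r).trans hAH)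
    rwa [inf_eq_left.mpr ((syl_le A p).trans hAH)] at this
  intro g hg
  apply mem_normalizer_of_smul_eq
  symm
  apply Subgroup.eq_of_le_of_card_ge _ (card_conj_smul A g).le
  apply le_of_forall_syl_le h.kw.nilA
  intro p hp
  rw [← smul_eq_of_mem_normalizer (hsyl p hp hg)]
  exact Subgroup.pointwise_smul_le_pointwise_smul_iff.mpr (syl_le A p)

theorem MinCE.normalizer_A_ne_top [Finite G] (h : MinCE G A B) :
    Subgroup.normalizer (A : Set G) ≠ ⊤ := h.normalizer_ne_top h.A_ne_top h.A_ne_bot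

theorem MinCE.syl_ne_top [Finite G] (h : MinCE G A B) (p : ℕ) : syl A p ≠ ⊤ := by
  intro h1
  apply h.A_ne_top
  exact top_le_iff.mp (h1 ▸ syl_le A p)

theorem MinCE.normalizer_syl_le [Finite G] (h : MinCE G A B) {p : ℕ} (hp : p.Prime)
    (hpA : p ∣ Nat.card A) :
    Subgroup.normalizer (syl A p : Set G) ≤ Subgroup.normalizer (A : Set G) :=
  h.le_normalizer_of_le (le_normalizer_syl A p)
    (h.normalizer_ne_top (h.syl_ne_top p) (syl_ne_bot h.kw.nilA hp hpA))

/-- **Lemma W** -/
theorem MinCE.lemmaW [Finite G] (h : MinCE G A B) {k w : G} (hw1 : w ≠ 1) (hwA : w ∈ A)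
    (hwc : w ∈ Subgroup.centralizer ((MulAut.conj k • A : Subgroup G) : Set G)) :
    k ∈ Subgroup.normalizer (A : Set G) := by
  obtain ⟨p, hp, m, hm1, hmp⟩ := exists_prime_order_pow hw1
  have hmA : w ^ m ∈ A := A.pow_mem hwA m
  have hmP : w ^ m ∈ syl A p := mem_syl_of_pow_eq_one hp hmA (k := 1) (by rwa [pow_one])
  have hpA : p ∣ Nat.card A := by
    have h1 : orderOf (w ^ m) = p := by
      rcases (Nat.dvd_prime hp).mp (orderOf_dvd_of_pow_eq_one hmp) with h1 | h1
      · exact absurd (orderOf_eq_one_iff.mp h1) hm1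
      · exact h1
    rw [← h1]; exact Subgroup.orderOf_dvd_natCard A hmA
  obtain ⟨r, hr, hrA, hrp⟩ := h.exists_prime_ne p
  have hmc : w ^ m ∈ Subgroup.centralizer ((MulAut.conj k • A : Subgroup G) : Set G) :=
    (Subgroup.centralizer _).pow_mem hwc m
  have hC := h.centralizer_ne_top hm1
  have hA'C : MulAut.conj k • A ≤ Subgroup.centralizer ({w ^ m} : Set G) := by
    intro y hy
    rw [Subgroup.mem_centralizer_iff]
    intro z hz
    rw [Set.mem_singleton_iff] at hz
    subst hz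
    exact ((Subgroup.mem_centralizer_iff.mp hmc) y hy).symm
  have hRC : syl A r ≤ Subgroup.centralizer ({w ^ m} : Set G) := by
    intro y hy
    rw [Subgroup.mem_centralizer_iff]
    intro z hz
    rw [Set.mem_singleton_iff] at hz
    subst hz
    exact syl_commute h.kw.nilA hp hr hrp.symm hmP hy
  have hCN := (h.conj k).le_normalizer_of_le hA'C hC
  have hR' : Nat.card (syl (MulAut.conj k • A) r) = r ^ (Nat.card G).factorization r := by
    rw [← conj_smul_syl, card_conj_smul]; exact h.kw.card_syl' hr hrA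
  have hle : syl A r ≤ syl (MulAut.conj k • A) r :=
    le_of_normal_sylow hr hR' ((syl_le _ r).trans Subgroup.le_normalizer)
      (normalizer_le_normalizer_syl _ r)
      (isPGroup_syl h.kw.nilA hr) (hRC.trans hCN)
  have heq : syl A r = MulAut.conj k • syl A r := by
    rw [conj_smul_syl]
    exact Subgroup.eq_of_le_of_card_ge hle (by rw [hR', h.kw.card_syl' hr hrA])
  exact h.normalizer_syl_le hr hrA (mem_normalizer_of_smul_eq heq.symm)


/-- **C11 (1)**: centralizers of elements of `N_B(A)` are factorized -/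
theorem MinCE.factd_centralizer (h : MinCE G A B) {x : G} (hxB : x ∈ B)
    (hxN : x ∈ Subgroup.normalizer (A : Set G)) :
    Factd A B (Subgroup.centralizer ({x} : Set G)) := by
  intro a ha b hb hab
  have e : x * (a * b) = a * b * x := (Subgroup.mem_centralizer_iff.mp hab) x rfl
  have e2 : a⁻¹ * x * a = b * x * b⁻¹ := by
    calc a⁻¹ * x * a = a⁻¹ * (x * (a * b)) * b⁻¹ := by group
      _ = a⁻¹ * (a * b * x) * b⁻¹ := by rw [e]
      _ = b * x * b⁻¹ := by group
  have hcA : x⁻¹ * (a⁻¹ * x * a) ∈ A := by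
    have := A.mul_mem (conj_mem_of_mem_normalizer' hxN (A.inv_mem ha)) ha
    have e3 : x⁻¹ * a⁻¹ * x * a = x⁻¹ * (a⁻¹ * x * a) := by group
    rwa [e3] at this
  have hcB : x⁻¹ * (a⁻¹ * x * a) ∈ B := by
    rw [e2]
    exact B.mul_mem (B.inv_mem hxB) (B.mul_mem (B.mul_mem hb hxB) (B.inv_mem hb))
  have hc1 : x⁻¹ * (a⁻¹ * x * a) = 1 := by
    have : x⁻¹ * (a⁻¹ * x * a) ∈ A ⊓ B := ⟨hcA, hcB⟩
    rw [h.kw.inf_eq_bot, Subgroup.mem_bot] at this
    exact this
  rw [Subgroup.mem_centralizer_iff]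
  intro y hy
  rw [Set.mem_singleton_iff] at hy
  subst hy
  calc y * a = a * (y * (y⁻¹ * (a⁻¹ * y * a))) := by group
    _ = a * y := by rw [hc1, mul_one]

theorem mem_centralizer_singleton_iff {x g : G} :
    g ∈ Subgroup.centralizer ({x} : Set G) ↔ x * g = g * x := by
  rw [Subgroup.mem_centralizer_iff]
  constructor
  · intro h; exact h x rfl
  · intro h y hy
    rw [Set.mem_singleton_iff] at hy
    subst hy; exact h

/-- **C11 (2)** -/
theorem MinCE.mem_normalizer_B_of_commute [Finite G] (h : MinCE G A B) {x : G} (hxB : x ∈ B)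
    (hxN : x ∈ Subgroup.normalizer (A : Set G)) (hx1 : x ≠ 1) {a : G}
    (hax : x * a = a * x) : a ∈ Subgroup.normalizer (B : Set G) := by
  obtain ⟨q, hq, m, hm1, hmq⟩ := exists_prime_order_pow hx1
  have hmB : x ^ m ∈ B := B.pow_mem hxB m
  have hmN : x ^ m ∈ Subgroup.normalizer (A : Set G) := (Subgroup.normalizer _).pow_mem hxN m
  have hma : x ^ m * a = a * x ^ m := (Commute.pow_left (show Commute x a from hax) m).eq
  have hmQ : x ^ m ∈ syl B q := mem_syl_of_pow_eq_one hq hmB (k := 1) (by rwa [pow_one])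
  have hqB : q ∣ Nat.card B := by
    have h1 : orderOf (x ^ m) = q := by
      rcases (Nat.dvd_prime hq).mp (orderOf_dvd_of_pow_eq_one hmq) with h1 | h1
      · exact absurd (orderOf_eq_one_iff.mp h1) hm1
      · exact h1
    rw [← h1]; exact Subgroup.orderOf_dvd_natCard B hmB
  have hC := h.centralizer_ne_top hm1
  have hf := h.factd_centralizer hmB hmN
  have hsol := h.solvable_of_factd hC hf
  obtain ⟨q', hq', hq'B, hne⟩ := h.symm.exists_prime_ne q
  have hQ'C : syl B q' ≤ Subgroup.centralizer ({x ^ m} : Set G) := by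
    intro y hy
    rw [mem_centralizer_singleton_iff]
    exact syl_commute h.kw.nilB hq hq' hne.symm hmQ hy
  have hN := h.symm.lemmaN _ hsol (h.kw.symm.hall_of_factd hf.symm) hq hq' hne.symm hq'B hQ'C
  -- a central element of Q
  have hQp := isPGroup_syl h.kw.nilB hq
  haveI : Nontrivial (syl B q) := ⟨⟨⟨x ^ m, hmQ⟩, 1, fun h0 => hm1 (congrArg Subtype.val h0)⟩⟩
  haveI := Fact.mk hq
  have hcen := hQp.center_nontrivial
  obtain ⟨⟨⟨z, hzQ⟩, hzc⟩, hz1⟩ := exists_ne (1 : Subgroup.center (syl B q))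
  have hz1' : z ≠ 1 := by
    intro h0
    apply hz1
    apply Subtype.ext
    apply Subtype.ext
    exact h0
  have hzcomm : ∀ y ∈ syl B q, y * z = z * y := by
    intro y hy
    have := Subgroup.mem_center_iff.mp hzc ⟨y, hy⟩
    exact congrArg Subtype.val this
  have hzC : z ∈ Subgroup.centralizer ({x ^ m} : Set G) := by
    rw [mem_centralizer_singleton_iff]
    exact hzcomm _ hmQ
  have haC : a ∈ Subgroup.centralizer ({x ^ m} : Set G) := by
    rw [mem_centralizer_singleton_iff]; exact hma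
  have hw := conj_mem_of_mem_normalizer (hN haC) (⟨hzQ, hzC⟩ : z ∈ syl B q ⊓ _)
  have hwB : a * z * a⁻¹ ∈ B := syl_le B q hw.1
  have hw1 : a * z * a⁻¹ ≠ 1 := by
    intro h0
    apply hz1'
    calc z = a⁻¹ * (a * z * a⁻¹) * a := by group
      _ = 1 := by rw [h0]; group
  have hzB : B ≤ Subgroup.centralizer ({z} : Set G) := by
    apply le_of_forall_syl_le h.kw.nilB
    intro s hs y hy
    rw [mem_centralizer_singleton_iff]
    by_cases hsq : s = q
    · subst hsq; exact (hzcomm y hy).symm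
    · exact syl_commute h.kw.nilB hq hs (Ne.symm hsq) hzQ hy
  have hwc : a * z * a⁻¹ ∈ Subgroup.centralizer ((MulAut.conj a • B : Subgroup G) : Set G) := by
    rw [Subgroup.mem_centralizer_iff]
    intro y hy
    rw [SetLike.mem_coe, mem_conj_smul_iff] at hy
    have := mem_centralizer_singleton_iff.mp (hzB hy)
    calc y * (a * z * a⁻¹) = a * ((a⁻¹ * y * a) * z) * a⁻¹ := by group
      _ = a * (z * (a⁻¹ * y * a)) * a⁻¹ := by rw [this]
      _ = a * z * a⁻¹ * y := by group
  exact h.symm.lemmaW hw1 hwB hwc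

end Cfsg.Agent.H4KW
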