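import Mathlib
import Cfsg.Agent.Lib.Helper4.KW4
import Cfsg.Agent.Lib.Helper9.CoprimeSylow
import Cfsg.Agent.Lib.Helper29.Wielandt

set_option autoImplicit false
open Pointwise

namespace Cfsg.Agent.H4KW
open Cfsg.Agent.Lib.Helper1
universe u
variable {G : Type u} [Group G] {A B : Subgroup G}

/-- a nontrivial element of `A` normalizing `B` has its centralizer inside `N_G(A)` -/
theorem MinCE.centralizer_le_of_mem_normalizer_B [Finite G] (h : MinCE G A B) {a : G}
    (haA : a ∈ A) (haN : a ∈ Subgroup.normalizer (B : Set G)) (ha1 : a ≠ 1) :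
    Subgroup.centralizer ({a} : Set G) ≤ Subgroup.normalizer (A : Set G) := by
  intro g hg
  exact h.symm.mem_normalizer_B_of_commute haA haN ha1 (mem_centralizer_singleton_iff.mp hg)

/-- case (i) -/
theorem MinCE.centralizer_le_case_one [Finite G] (h : MinCE G A B) {a : G} (haA : a ∈ A)
    (ha1 : a ≠ 1) {s : ℕ} (hs : s.Prime) (hsB : s ∣ Nat.card B)
    (hsK : s ∣ Nat.card (Subgroup.centralizer ({a} : Set G) ⊓ Subgroup.normalizer (A : Set G) :
      Subgroup G)) :
    Subgroup.centralizer ({a} : Set G) ≤ Subgroup.normalizer (A : Set G) := by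
  haveI := Fact.mk hs
  obtain ⟨⟨d, hdK⟩, hd⟩ := exists_prime_orderOf_dvd_card' s hsK
  have hd' : orderOf d = s := by
    rw [← hd]; exact (Subgroup.orderOf_mk d hdK).symm
  have hds : d ^ s = 1 := by rw [← hd']; exact pow_orderOf_eq_one d
  have hd1 : d ≠ 1 := by
    intro h0; rw [h0, orderOf_one] at hd'; exact hs.one_lt.ne hd'
  -- N is factorized
  have hf : Factd A B (Subgroup.normalizer (A : Set G)) := factd_of_le Subgroup.le_normalizer
  have hsA : ¬ s ∣ Nat.card A := h.kw.symm.not_dvd_B hs hsB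
  have hB₀nil : Group.IsNilpotent (B ⊓ Subgroup.normalizer (A : Set G) : Subgroup G) :=
    nilpotent_of_le inf_le_left h.kw.nilB
  have hT : Nat.card (syl (B ⊓ Subgroup.normalizer (A : Set G)) s) =
      s ^ (Nat.card (Subgroup.normalizer (A : Set G))).factorization s := by
    rw [H4KW.card_syl hB₀nil hs, h.kw.symm.hall_of_factd hf.symm s hs hsB]
  have hdp : IsPGroup s (Subgroup.zpowers d) :=
    IsPGroup.of_card (n := 1) (by rw [Nat.card_zpowers, hd', pow_one])
  obtain ⟨n, hn, hle⟩ := exists_le_conj_of_card_in hs ((syl_le _ s).trans inf_le_right) hT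
    (U := Subgroup.zpowers d) (by rw [Subgroup.zpowers_le]; exact hdK.2) hdp
  have hd'' : n⁻¹ * d * n ∈ B ⊓ Subgroup.normalizer (A : Set G) := by
    have := hle (Subgroup.mem_zpowers d)
    rw [mem_conj_smul_iff] at this
    exact syl_le _ s this
  have ha' : n⁻¹ * a * n ∈ A := conj_mem_of_mem_normalizer' hn haA
  have ha'1 : n⁻¹ * a * n ≠ 1 := by
    intro h0
    apply ha1
    calc a = n * (n⁻¹ * a * n) * n⁻¹ := by group
      _ = 1 := by rw [h0]; group
  have hd''1 : n⁻¹ * d * n ≠ 1 := by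
    intro h0
    apply hd1
    calc d = n * (n⁻¹ * d * n) * n⁻¹ := by group
      _ = 1 := by rw [h0]; group
  have hcomm : n⁻¹ * d * n * (n⁻¹ * a * n) = n⁻¹ * a * n * (n⁻¹ * d * n) := by
    have := mem_centralizer_singleton_iff.mp hdK.1
    calc n⁻¹ * d * n * (n⁻¹ * a * n) = n⁻¹ * (d * a) * n := by group
      _ = n⁻¹ * (a * d) * n := by rw [this]
      _ = n⁻¹ * a * n * (n⁻¹ * d * n) := by group
  have ha'N : n⁻¹ * a * n ∈ Subgroup.normalizer (B : Set G) :=
    h.mem_normalizer_B_of_commute hd''.1 hd''.2 hd''1 hcomm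
  have hC' := h.centralizer_le_of_mem_normalizer_B ha' ha'N ha'1
  intro g hg
  have h1 : n⁻¹ * g * n ∈ Subgroup.centralizer ({n⁻¹ * a * n} : Set G) := by
    rw [mem_centralizer_singleton_iff]
    have := mem_centralizer_singleton_iff.mp hg
    calc n⁻¹ * a * n * (n⁻¹ * g * n) = n⁻¹ * (a * g) * n := by group
      _ = n⁻¹ * (g * a) * n := by rw [this]
      _ = n⁻¹ * g * n * (n⁻¹ * a * n) := by group
  have h2 := hC' h1
  have h3 := (Subgroup.normalizer (A : Set G)).mul_mem
    ((Subgroup.normalizer (A : Set G)).mul_mem hn h2) ((Subgroup.normalizer (A : Set G)).inv_mem hn)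
  have e : n * (n⁻¹ * g * n) * n⁻¹ = g := by group
  rwa [e] at h3

/-- (ii-a): π-subgroups of `N_G(A)` lie in `A` -/
theorem MinCE.le_A_of_pi [Finite G] (h : MinCE G A B) {K : Subgroup G}
    (hKN : K ≤ Subgroup.normalizer (A : Set G))
    (hK : ∀ s : ℕ, s.Prime → s ∣ Nat.card B → ¬ s ∣ Nat.card K) : K ≤ A := by
  apply le_of_forall_isPGroup_le
  intro s hs U hUK hU
  by_cases hUbot : U = ⊥
  · rw [hUbot]; exact bot_le
  haveI := Fact.mk hs
  have h1 : s ∣ Nat.card U := by
    rcases hU.card_eq_or_dvd with h1 | h1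
    · exact absurd (Subgroup.card_eq_one.mp h1) hUbot
    · exact h1
  have h2 : s ∣ Nat.card K := h1.trans (Subgroup.card_dvd_of_le hUK)
  have hsA : s ∣ Nat.card A := by
    rcases h.kw.dvd_A_or_dvd_B hs h2 with h3 | h3
    · exact h3
    · exact absurd h2 (hK s hs h3)
  exact (le_of_normal_sylow hs (h.kw.card_syl' hs hsA) ((syl_le A s).trans Subgroup.le_normalizer)
    (normalizer_le_normalizer_syl A s) hU (hUK.trans hKN)).trans (syl_le A s)

/-- FIN -/
theorem MinCE.not_dvd_card_of_npc [Finite G] (h : MinCE G A B) {r : ℕ} [hr : Fact r.Prime]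
    (hrA : r ∣ Nat.card A) (C : Subgroup G)
    (hfac : (Nat.card C).factorization r = (Nat.card G).factorization r)
    (hc : Cfsg.HasNormalPComplement r C) {s : ℕ} (hs : s.Prime) (hsB : s ∣ Nat.card B) :
    ¬ s ∣ Nat.card C := by
  obtain ⟨P, K₀, hK₀n, hcomp⟩ := hc
  intro hsC
  haveI := Fact.mk hs
  have hR₁ : Nat.card ((P : Subgroup C).map C.subtype) = r ^ (Nat.card G).factorization r := by
    rw [Subgroup.card_map_of_injective C.subtype_injective, ← hfac]
    exact P.card_eq_multiplicity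
  have hn : (P : Subgroup C).map C.subtype ≤
      Subgroup.normalizer ((K₀.map C.subtype : Subgroup G) : Set G) := by
    rintro _ ⟨x, -, rfl⟩
    apply mem_normalizer_of_forall_conj_mem
    rintro _ ⟨k, hk, rfl⟩
    exact ⟨x * k * x⁻¹, hK₀n.conj_mem k hk x, by simp⟩
  have hcop : (Nat.card ((P : Subgroup C).map C.subtype)).Coprime
      (Nat.card (K₀.map C.subtype)) := by
    rw [Subgroup.card_map_of_injective C.subtype_injective,
      Subgroup.card_map_of_injective C.subtype_injective, ← hcomp.index_eq_card]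
    exact P.card_coprime_index
  have hsolv : Group.IsSolvable ((P : Subgroup C).map C.subtype) := by
    haveI : Group.IsNilpotent ((P : Subgroup C).map C.subtype) :=
      (IsPGroup.of_card hR₁).isNilpotent
    infer_instance
  obtain ⟨Q, hQ⟩ := Cfsg.Agent.Lib.Helper9.exists_invariant_sylow _ _ hn hcop (Or.inl hsolv) s
  have hbot := h.F6 hr.out hs hrA hsB _ _ hR₁ (Q.2.map _) hQ
  have hQc : Nat.card ((Q : Subgroup (K₀.map C.subtype)).map (K₀.map C.subtype).subtype) =
      s ^ (Nat.card (K₀.map C.subtype)).factorization s := by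
    rw [Subgroup.card_map_of_injective (Subgroup.subtype_injective _)]
    exact Q.card_eq_multiplicity
  rw [hbot, Subgroup.card_bot] at hQc
  have hsK : ¬ s ∣ Nat.card (K₀.map C.subtype) := by
    intro hd
    have h2 : 0 < (Nat.card (K₀.map C.subtype)).factorization s :=
      hs.factorization_pos_of_dvd Nat.card_pos.ne' hd
    have : 1 < s ^ (Nat.card (K₀.map C.subtype)).factorization s :=
      Nat.one_lt_pow h2.ne' hs.one_lt
    omega
  rw [Subgroup.card_map_of_injective C.subtype_injective] at hsK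
  have hmul := hcomp.card_mul_card
  rw [← hmul] at hsC
  rcases (Nat.Prime.dvd_mul hs).mp hsC with h1 | h1
  · exact hsK h1
  · rw [P.card_eq_multiplicity] at h1
    have := (Nat.prime_dvd_prime_iff_eq hs hr.out).mp (hs.dvd_of_dvd_pow h1)
    rw [this] at hsB
    exact h.kw.not_dvd_B hr.out hrA hsB


theorem KW.factorization_eq_of_syl_le [Finite G] (h : KW A B) {r : ℕ} (hr : r.Prime)
    (hrA : r ∣ Nat.card A) {C : Subgroup G} (hRC : syl A r ≤ C) :
    (Nat.card C).factorization r = (Nat.card G).factorization r := by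
  apply le_antisymm
  · exact (Nat.factorization_le_iff_dvd Nat.card_pos.ne' Nat.card_pos.ne').mpr
      (Subgroup.card_subgroup_dvd_card C) r
  · have h1 : r ^ (Nat.card G).factorization r ∣ Nat.card C := by
      rw [← h.card_syl' hr hrA]; exact Subgroup.card_dvd_of_le hRC
    exact (hr.pow_dvd_iff_le_factorization Nat.card_pos.ne').mp h1

/-- (ii-c): a π-subgroup containing a Sylow subgroup of `A` lies in `A` -/
theorem MinCE.le_A_of_pi_of_syl_le [Finite G] (h : MinCE G A B) {r : ℕ} (hr : r.Prime)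
    (hrA : r ∣ Nat.card A) {C : Subgroup G} (hRC : syl A r ≤ C)
    (hC : ∀ s : ℕ, s.Prime → s ∣ Nat.card B → ¬ s ∣ Nat.card C) : C ≤ A := by
  obtain ⟨x, hx⟩ := Cfsg.Agent.Lib.Helper29.exists_conj_mem_of_nilpotent_hall A h.kw.nilA
    h.kw.hall_A (Nat.card C) C rfl (by
      intro s hs hsC
      rcases h.kw.dvd_A_or_dvd_B hs hsC with h1 | h1
      · exact h1
      · exact absurd hsC (hC s hs h1))
  have hCx : C ≤ MulAut.conj x • A := by
    intro y hy
    rw [mem_conj_smul_iff]; exact hx y hy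
  have hle : syl A r ≤ MulAut.conj x • syl A r := by
    rw [conj_smul_syl]
    exact le_syl (hRC.trans hCx) (isPGroup_syl h.kw.nilA hr)
  have heq := Subgroup.eq_of_le_of_card_ge hle (card_conj_smul _ _).le
  have hxN := h.normalizer_syl_le hr hrA (mem_normalizer_of_smul_eq heq.symm)
  rw [smul_eq_of_mem_normalizer hxN] at hCx
  exact hCx

/-- X1 -/
theorem MinCE.centralizer_le_of_npc [Finite G] (h : MinCE G A B) {p r : ℕ} (hp : p.Prime)
    [hr : Fact r.Prime] (hrp : r ≠ p) (hrA : r ∣ Nat.card A) {a : G} (haA : a ∈ A) (ha1 : a ≠ 1)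
    (hap : a ^ p = 1)
    (hnpc : Subgroup.centralizer ({a} : Set G) ⊓ Subgroup.normalizer (A : Set G) ≤ A →
      Cfsg.HasNormalPComplement r (Subgroup.centralizer ({a} : Set G))) :
    Subgroup.centralizer ({a} : Set G) ≤ Subgroup.normalizer (A : Set G) := by
  by_cases hcase : ∃ s : ℕ, s.Prime ∧ s ∣ Nat.card B ∧
      s ∣ Nat.card (Subgroup.centralizer ({a} : Set G) ⊓ Subgroup.normalizer (A : Set G) :
        Subgroup G)
  · obtain ⟨s, hs, hsB, hsK⟩ := hcase
    exact h.centralizer_le_case_one haA ha1 hs hsB hsK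
  · push Not at hcase
    have hKA := h.le_A_of_pi inf_le_right hcase
    have haP : a ∈ syl A p := mem_syl_of_pow_eq_one hp haA (k := 1) (by rwa [pow_one])
    have hRC : syl A r ≤ Subgroup.centralizer ({a} : Set G) := by
      intro y hy
      rw [mem_centralizer_singleton_iff]
      exact syl_commute h.kw.nilA hp hr.out hrp.symm haP hy
    have hfac := h.kw.factorization_eq_of_syl_le hr.out hrA hRC
    have hpi := fun s hs hsB => h.not_dvd_card_of_npc hrA _ hfac (hnpc hKA) (s := s) hs hsB
    exact (h.le_A_of_pi_of_syl_le hr.out hrA hRC hpi).trans Subgroup.le_normalizer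

end Cfsg.Agent.H4KW
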