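import Mathlib
import Cfsg.Agent.Lib.Helper4.KW5
import Cfsg.Agent.Lib.Helper17.WStable4
import Cfsg.Agent.Lib.Helper12.InducedFunctor
import Cfsg.Agent.Lib.Helper8.ThNilpC
import Cfsg.Agent.Lib.Helper29.HallTransfer

set_option autoImplicit false
open Pointwise

namespace Cfsg.Agent.H4KW
open Cfsg.Agent.Lib.Helper1
open Cfsg.Agent.Lib.Helper17 (wOf wFun isCharPFunctor_wFun hasNormalPComplement_of_normalizer_wOf)
universe u
variable {G : Type u} [Group G] {A B : Subgroup G}

theorem wOf_le' (r : ℕ) (R : Subgroup G) : wOf r R ≤ R := Cfsg.Agent.Lib.Helper17.wOf_le r R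

theorem normalizer_le_normalizer_wOf [Finite G] {r : ℕ} [Fact r.Prime] {R : Subgroup G}
    (hR : IsPGroup r R) :
    Subgroup.normalizer (R : Set G) ≤ Subgroup.normalizer (wOf r R : Set G) := by
  intro g hg
  have hc := Cfsg.Agent.Lib.Helper12.isConjugacyFunctor_induced (wFun r) (isCharPFunctor_wFun r) G
    R hR
  have h1 := hc.2.2 g
  have hg' : R.map (MulAut.conj g).toMonoidHom = R := Subgroup.mem_normalizer_iff_map_conj_eq.mp hg
  rw [hg'] at h1
  rw [Subgroup.mem_normalizer_iff_map_conj_eq]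
  exact h1.symm

theorem wOf_ne_bot [Finite G] {r : ℕ} [Fact r.Prime] {R : Subgroup G}
    (hR : IsPGroup r R) (hne : R ≠ ⊥) : wOf r R ≠ ⊥ :=
  (Cfsg.Agent.Lib.Helper12.isConjugacyFunctor_induced (wFun r) (isCharPFunctor_wFun r) G
    R hR).2.1 hne

theorem wOf_subgroupOf_map [Finite G] {r : ℕ} [Fact r.Prime] {R C : Subgroup G} (hRC : R ≤ C)
    (hR : IsPGroup r R) : (wOf r (R.subgroupOf C)).map C.subtype = wOf r R := by
  have h := (isCharPFunctor_wFun r).2 ↥(R.subgroupOf C) ↥R hR.comap_subtype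
    (Subgroup.subgroupOfEquivOfLe hRC)
  unfold wFun at h
  have e : C.subtype.comp (R.subgroupOf C).subtype =
      R.subtype.comp (Subgroup.subgroupOfEquivOfLe hRC).toMonoidHom := by
    ext x; rfl
  calc (wOf r (R.subgroupOf C)).map C.subtype
      = (Cfsg.stableNormalClosure r ↥(R.subgroupOf C)).map
          (C.subtype.comp (R.subgroupOf C).subtype) := Subgroup.map_map _ _ _
    _ = (Cfsg.stableNormalClosure r ↥(R.subgroupOf C)).map
          (R.subtype.comp (Subgroup.subgroupOfEquivOfLe hRC).toMonoidHom) := by rw [e]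
    _ = ((Cfsg.stableNormalClosure r ↥(R.subgroupOf C)).map
          (Subgroup.subgroupOfEquivOfLe hRC).toMonoidHom).map R.subtype :=
        (Subgroup.map_map _ _ _).symm
    _ = wOf r R := congrArg (Subgroup.map R.subtype) h


/-- X2: Thompson's normal `r`-complement theorem applies (odd `r`) -/
theorem MinCE.npc_odd [Finite G] (h : MinCE G A B) {p r : ℕ} (hp : p.Prime) [hr : Fact r.Prime]
    (hr2 : r ≠ 2) (hrp : r ≠ p) (hrA : r ∣ Nat.card A) {a : G} (haA : a ∈ A)
    (hap : a ^ p = 1)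
    (hKA : Subgroup.centralizer ({a} : Set G) ⊓ Subgroup.normalizer (A : Set G) ≤ A) :
    Cfsg.HasNormalPComplement r (Subgroup.centralizer ({a} : Set G)) := by
  have haP : a ∈ syl A p := mem_syl_of_pow_eq_one hp haA (k := 1) (by rwa [pow_one])
  have hRC : syl A r ≤ Subgroup.centralizer ({a} : Set G) := by
    intro y hy
    rw [mem_centralizer_singleton_iff]
    exact syl_commute h.kw.nilA hp hr.out hrp.symm haP hy
  have hfac := h.kw.factorization_eq_of_syl_le hr.out hrA hRC
  have hRp : IsPGroup r (syl A r) := isPGroup_syl h.kw.nilA hr.out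
  have hRne : syl A r ≠ ⊥ := syl_ne_bot h.kw.nilA hr.out hrA
  have hcardS : Nat.card ((syl A r).subgroupOf (Subgroup.centralizer ({a} : Set G))) =
      r ^ (Nat.card (Subgroup.centralizer ({a} : Set G))).factorization r := by
    rw [card_subgroupOf_of_le hRC, hfac, h.kw.card_syl' hr.out hrA]
  apply hasNormalPComplement_of_normalizer_wOf hr2 (Sylow.ofCard _ hcardS)
  apply Cfsg.Agent.Lib.Helper8.ThNilp.hasNormalPComplement_of_isNilpotent r
  rw [Sylow.coe_ofCard]
  have hWtop : wOf r (syl A r) ≠ ⊤ := by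
    intro h0
    exact h.syl_ne_top r (top_le_iff.mp (h0 ▸ wOf_le' r (syl A r)))
  have hWN : Subgroup.normalizer (wOf r (syl A r) : Set G) ≤ Subgroup.normalizer (A : Set G) :=
    h.le_normalizer_of_le ((le_normalizer_syl A r).trans (normalizer_le_normalizer_wOf hRp))
      (h.normalizer_ne_top hWtop (wOf_ne_bot hRp hRne))
  have hM : (Subgroup.normalizer ((wOf r ((syl A r).subgroupOf
      (Subgroup.centralizer ({a} : Set G))) : Subgroup _) : Set _)).map
      (Subgroup.centralizer ({a} : Set G)).subtype ≤ A := by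
    rintro _ ⟨m, hm, rfl⟩
    apply hKA
    refine ⟨m.2, hWN ?_⟩
    rw [← wOf_subgroupOf_map hRC hRp]
    apply mem_normalizer_of_forall_conj_mem
    rintro _ ⟨w, hw, rfl⟩
    exact ⟨m * w * m⁻¹, conj_mem_of_mem_normalizer hm hw, by simp⟩
  haveI := nilpotent_of_le hM h.kw.nilA
  exact Group.nilpotent_of_mulEquiv
    (Subgroup.equivMapOfInjective _ _ (Subgroup.subtype_injective _)).symm

theorem MinCE.centralizer_le_of_odd [Finite G] (h : MinCE G A B) {p r : ℕ} (hp : p.Prime)
    (hr : r.Prime) (hr2 : r ≠ 2) (hrp : r ≠ p) (hrA : r ∣ Nat.card A) {a : G} (haA : a ∈ A)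
    (ha1 : a ≠ 1) (hap : a ^ p = 1) :
    Subgroup.centralizer ({a} : Set G) ≤ Subgroup.normalizer (A : Set G) := by
  haveI := Fact.mk hr
  exact h.centralizer_le_of_npc hp hrp hrA haA ha1 hap
    (fun hKA => h.npc_odd hp hr2 hrp hrA haA hap hKA)

/-- the TI argument -/
theorem MinCE.mem_normalizer_of_TI [Finite G] (h : MinCE G A B) {p₁ r : ℕ} (hp₁ : p₁.Prime)
    (hr : r.Prime) (hne : p₁ ≠ r) (hrA : r ∣ Nat.card A) {a g : G}
    (haC : Subgroup.centralizer ({a} : Set G) ≤ Subgroup.normalizer (A : Set G))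
    (hag : g⁻¹ * a * g ∈ syl A p₁) : g ∈ Subgroup.normalizer (A : Set G) := by
  have h1 : MulAut.conj g • syl A r ≤ Subgroup.centralizer ({a} : Set G) := by
    intro y hy
    rw [mem_conj_smul_iff] at hy
    have := syl_commute h.kw.nilA hp₁ hr hne hag hy
    rw [mem_centralizer_singleton_iff]
    calc a * y = g * ((g⁻¹ * a * g) * (g⁻¹ * y * g)) * g⁻¹ := by group
      _ = g * ((g⁻¹ * y * g) * (g⁻¹ * a * g)) * g⁻¹ := by rw [this]
      _ = y * a := by group
  have h2 : MulAut.conj g • syl A r ≤ syl A r :=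
    le_of_normal_sylow hr (h.kw.card_syl' hr hrA) ((syl_le A r).trans Subgroup.le_normalizer)
      (normalizer_le_normalizer_syl A r) (isPGroup_conj_smul (isPGroup_syl h.kw.nilA hr) g)
      (h1.trans haC)
  have heq := Subgroup.eq_of_le_of_card_ge h2 (card_conj_smul _ _).ge
  exact h.normalizer_syl_le hr hrA (mem_normalizer_of_smul_eq heq)

/-- product of two commuting subgroups -/
def mulSub (T C : Subgroup G) (hcomm : ∀ t ∈ T, ∀ c ∈ C, t * c = c * t) : Subgroup G where
  carrier := {g | ∃ t ∈ T, ∃ c ∈ C, g = t * c}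
  one_mem' := ⟨1, T.one_mem, 1, C.one_mem, by simp⟩
  mul_mem' := by
    rintro _ _ ⟨t, ht, c, hc, rfl⟩ ⟨t', ht', c', hc', rfl⟩
    refine ⟨t * t', T.mul_mem ht ht', c * c', C.mul_mem hc hc', ?_⟩
    calc t * c * (t' * c') = t * (c * t') * c' := by group
      _ = t * (t' * c) * c' := by rw [hcomm t' ht' c hc]
      _ = t * t' * (c * c') := by group
  inv_mem' := by
    rintro _ ⟨t, ht, c, hc, rfl⟩
    refine ⟨t⁻¹, T.inv_mem ht, c⁻¹, C.inv_mem hc, ?_⟩
    rw [mul_inv_rev, hcomm t⁻¹ (T.inv_mem ht) c⁻¹ (C.inv_mem hc)]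

theorem exists_mul_centralizer [Finite G] {A : Subgroup G} (hA : Group.IsNilpotent A) {r : ℕ}
    (hr : r.Prime) {g : G} (hg : g ∈ A) :
    ∃ t ∈ syl A r, ∃ c : G, (∀ y ∈ syl A r, c * y = y * c) ∧ g = t * c := by
  have hcomm : ∀ t ∈ syl A r, ∀ c ∈ Subgroup.centralizer (syl A r : Set G), t * c = c * t :=
    fun t ht c hc => (Subgroup.mem_centralizer_iff.mp hc) t ht
  have hle : A ≤ mulSub (syl A r) (Subgroup.centralizer (syl A r : Set G)) hcomm := by
    apply le_of_forall_syl_le hA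
    intro s hs y hy
    by_cases hsr : s = r
    · subst hsr
      exact ⟨y, hy, 1, Subgroup.one_mem _, by simp⟩
    · refine ⟨1, Subgroup.one_mem _, y, ?_, by simp⟩
      rw [Subgroup.mem_centralizer_iff]
      intro z hz
      exact syl_commute hA hr hs (Ne.symm hsr) hz hy
  obtain ⟨t, ht, c, hc, hgc⟩ := hle hg
  exact ⟨t, ht, c, fun y hy => ((Subgroup.mem_centralizer_iff.mp hc) y hy).symm, hgc⟩

theorem exists_pow_order_p [Finite G] {p : ℕ} (hp : p.Prime) {P : Subgroup G}
    (hP : IsPGroup p P) {x : G} (hx : x ∈ P) (hx1 : x ≠ 1) :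
    ∃ m : ℕ, x ^ m ≠ 1 ∧ (x ^ m) ^ p = 1 := by
  obtain ⟨p', hp', m, hm1, hmp⟩ := exists_prime_order_pow hx1
  refine ⟨m, hm1, ?_⟩
  obtain ⟨k, hk⟩ := hP ⟨x ^ m, P.pow_mem hx m⟩
  have hk' : (x ^ m) ^ (p ^ k) = 1 := by simpa using congrArg Subtype.val hk
  by_cases hpp : p' = p
  · rw [← hpp]; exact hmp
  · exfalso
    apply hm1
    exact eq_one_of_pow_eq_one_of_coprime (m := p' ^ 1) (by rwa [pow_one]) hk'
      (Nat.Coprime.pow _ _ ((Nat.coprime_primes hp' hp).mpr hpp))


/-- X3: normal 2-complement by control of fusion -/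
theorem MinCE.npc_two [Finite G] (h : MinCE G A B) {p : ℕ} (hp : p.Prime) (hp2 : p ≠ 2)
    (hpA : p ∣ Nat.card A) (h2A : 2 ∣ Nat.card A) {a : G} (haA : a ∈ A) (hap : a ^ p = 1)
    (hgood : ∀ t ∈ A, t ≠ 1 → t ^ 2 = 1 →
      Subgroup.centralizer ({t} : Set G) ≤ Subgroup.normalizer (A : Set G))
    (hKA : Subgroup.centralizer ({a} : Set G) ⊓ Subgroup.normalizer (A : Set G) ≤ A) :
    Cfsg.HasNormalPComplement 2 (Subgroup.centralizer ({a} : Set G)) := by
  haveI : Fact (Nat.Prime 2) := ⟨Nat.prime_two⟩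
  have haP : a ∈ syl A p := mem_syl_of_pow_eq_one hp haA (k := 1) (by rwa [pow_one])
  have hTC : syl A 2 ≤ Subgroup.centralizer ({a} : Set G) := by
    intro y hy
    rw [mem_centralizer_singleton_iff]
    exact syl_commute h.kw.nilA hp Nat.prime_two hp2 haP hy
  have hfac := h.kw.factorization_eq_of_syl_le Nat.prime_two h2A hTC
  have hTp : IsPGroup 2 (syl A 2) := isPGroup_syl h.kw.nilA Nat.prime_two
  have hcardS : Nat.card ((syl A 2).subgroupOf (Subgroup.centralizer ({a} : Set G))) =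
      2 ^ (Nat.card (Subgroup.centralizer ({a} : Set G))).factorization 2 := by
    rw [card_subgroupOf_of_le hTC, hfac, h.kw.card_syl' Nat.prime_two h2A]
  have hnil : Group.IsNilpotent ((syl A 2).subgroupOf (Subgroup.centralizer ({a} : Set G))) :=
    (hTp.comap_subtype).isNilpotent
  have hHall : (Nat.card ((syl A 2).subgroupOf (Subgroup.centralizer ({a} : Set G)))).Coprime
      ((syl A 2).subgroupOf (Subgroup.centralizer ({a} : Set G))).index := by
    have := (Sylow.ofCard _ hcardS).card_coprime_index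
    rwa [Sylow.coe_ofCard] at this
  obtain ⟨N₀, hN₀, hcomp⟩ := Cfsg.Agent.Lib.Helper29.exists_normal_complement_of_control_fusion
    ((syl A 2).subgroupOf (Subgroup.centralizer ({a} : Set G))) hnil hHall (by
      intro x hx g hg
      rw [Subgroup.mem_subgroupOf] at hx hg
      by_cases hx1 : x = 1
      · exact ⟨1, Subgroup.one_mem _, by rw [hx1]; simp⟩
      have hx1' : (x : G) ≠ 1 := fun h0 => hx1 (Subtype.ext h0)
      obtain ⟨m, hm1, hm2⟩ := exists_pow_order_p Nat.prime_two hTp hx hx1'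
      have htA : (x : G) ^ m ∈ A := A.pow_mem (syl_le A 2 hx) m
      have hC := hgood _ htA hm1 hm2
      have hgt : (g : G)⁻¹ * (x : G) ^ m * g ∈ syl A 2 := by
        have h1 := (syl A 2).pow_mem hg m
        have e : ((g⁻¹ * x * g : Subgroup.centralizer ({a} : Set G)) : G) ^ m =
            (g : G)⁻¹ * (x : G) ^ m * g := by
          push_cast
          simpa using conj_pow (a := (g : G)⁻¹) (b := (x : G)) (i := m)
        rwa [e] at h1
      have hgN := h.mem_normalizer_of_TI Nat.prime_two hp hp2.symm hpA hC hgt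
      have hgA : (g : G) ∈ A := hKA ⟨g.2, hgN⟩
      obtain ⟨t, ht, c, hc, hgc⟩ := exists_mul_centralizer h.kw.nilA Nat.prime_two hgA
      refine ⟨⟨t, hTC ht⟩, by rw [Subgroup.mem_subgroupOf]; exact ht, ?_⟩
      apply Subtype.ext
      push_cast
      have h1 : t⁻¹ * (x : G) * t ∈ syl A 2 :=
        (syl A 2).mul_mem ((syl A 2).mul_mem ((syl A 2).inv_mem ht) hx) ht
      have h2 := hc _ h1
      rw [hgc]
      calc t⁻¹ * (x : G) * t = c⁻¹ * (c * (t⁻¹ * (x : G) * t)) := by group
        _ = c⁻¹ * ((t⁻¹ * (x : G) * t) * c) := by rw [h2]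
        _ = (t * c)⁻¹ * (x : G) * (t * c) := by group)
  exact ⟨Sylow.ofCard _ hcardS, N₀, hN₀, by rw [Sylow.coe_ofCard]; exact hcomp⟩

/-- **C12**: centralizers of prime order elements of `A` lie in `N_G(A)` -/
theorem MinCE.centralizer_le [Finite G] (h : MinCE G A B) {p : ℕ} (hp : p.Prime) {a : G}
    (haA : a ∈ A) (ha1 : a ≠ 1) (hap : a ^ p = 1) :
    Subgroup.centralizer ({a} : Set G) ≤ Subgroup.normalizer (A : Set G) := by
  have hpA : p ∣ Nat.card A := by
    have h1 : orderOf a = p := by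
      rcases (Nat.dvd_prime hp).mp (orderOf_dvd_of_pow_eq_one hap) with h1 | h1
      · exact absurd (orderOf_eq_one_iff.mp h1) ha1
      · exact h1
    rw [← h1]; exact Subgroup.orderOf_dvd_natCard A haA
  by_cases hodd : ∃ r : ℕ, r.Prime ∧ r ≠ 2 ∧ r ≠ p ∧ r ∣ Nat.card A
  · obtain ⟨r, hr, hr2, hrp, hrA⟩ := hodd
    exact h.centralizer_le_of_odd hp hr hr2 hrp hrA haA ha1 hap
  · push Not at hodd
    obtain ⟨r, hr, hrA, hrp⟩ := h.exists_prime_ne p
    have hr2 : r = 2 := by
      by_contra hr2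
      exact hodd r hr hr2 hrp hrA
    subst hr2
    have hp2 : p ≠ 2 := hrp.symm
    have hgood : ∀ t ∈ A, t ≠ 1 → t ^ 2 = 1 →
        Subgroup.centralizer ({t} : Set G) ≤ Subgroup.normalizer (A : Set G) :=
      fun t htA ht1 ht2 => h.centralizer_le_of_odd Nat.prime_two hp hp2 hp2 hpA htA ht1 ht2
    haveI : Fact (Nat.Prime 2) := ⟨Nat.prime_two⟩
    exact h.centralizer_le_of_npc hp hrp hrA haA ha1 hap
      (fun hKA => h.npc_two hp hp2 hpA hrA haA hap hgood hKA)

/-- **C13**: `A` is a TI-subgroup -/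
theorem MinCE.TI [Finite G] (h : MinCE G A B) {g : G}
    (hne : A ⊓ MulAut.conj g • A ≠ ⊥) : g ∈ Subgroup.normalizer (A : Set G) := by
  obtain ⟨x, hx1⟩ := (Subgroup.ne_bot_iff_exists_ne_one).mp hne
  have hx1' : (x : G) ≠ 1 := fun h0 => hx1 (Subtype.ext h0)
  obtain ⟨p, hp, m, hm1, hmp⟩ := exists_prime_order_pow hx1'
  have hx' := Subgroup.mem_inf.mp ((A ⊓ MulAut.conj g • A).pow_mem x.2 m)
  have haA : (x : G) ^ m ∈ A := hx'.1
  have hag : g⁻¹ * (x : G) ^ m * g ∈ A := by
    have := hx'.2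
    rwa [mem_conj_smul_iff] at this
  have hagp : g⁻¹ * (x : G) ^ m * g ∈ syl A p := by
    apply mem_syl_of_pow_eq_one hp hag (k := 1)
    have : (g⁻¹ * (x : G) ^ m * g) ^ p = g⁻¹ * ((x : G) ^ m) ^ p * g := by
      have := conj_pow (a := g⁻¹) (b := (x : G) ^ m) (i := p)
      simpa using this
    rw [pow_one, this, hmp]; group
  obtain ⟨r, hr, hrA, hrp⟩ := h.exists_prime_ne p
  exact h.mem_normalizer_of_TI hp hr hrp.symm hrA (h.centralizer_le hp haA hm1 hmp) hagp

/-- **C14**: the count -/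
theorem MinCE.card_lt [Finite G] (h : MinCE G A B) : Nat.card A < Nat.card B := by
  have hN := h.normalizer_A_ne_top
  obtain ⟨g, hg⟩ : ∃ g : G, g ∉ Subgroup.normalizer (A : Set G) := by
    by_contra hcon
    push Not at hcon
    exact hN (eq_top_iff.mpr fun g _ => hcon g)
  have hTI : A ⊓ MulAut.conj g • A = ⊥ := by
    by_contra hne
    exact hg (h.TI hne)
  let f : (A × A) ⊕ A → G := Sum.elim (fun x => (x.1 : G) * g * x.2) (fun z => (z : G))
  have hf : Function.Injective f := by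
    rintro (⟨x, y⟩ | z) (⟨x', y'⟩ | z') hxy
    · have hxy' : (x : G) * g * y = x' * g * y' := hxy
      have h1 : (x' : G)⁻¹ * x ∈ A ⊓ MulAut.conj g • A := by
        refine Subgroup.mem_inf.mpr ⟨A.mul_mem (A.inv_mem x'.2) x.2, ?_⟩
        rw [mem_conj_smul_iff]
        have e : g⁻¹ * ((x' : G)⁻¹ * x) * g = y' * (y : G)⁻¹ := by
          calc g⁻¹ * ((x' : G)⁻¹ * x) * g = g⁻¹ * (x' : G)⁻¹ * ((x : G) * g * y) * (y : G)⁻¹ := by
                group
            _ = g⁻¹ * (x' : G)⁻¹ * ((x' : G) * g * y') * (y : G)⁻¹ := by rw [hxy']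
            _ = y' * (y : G)⁻¹ := by group
        rw [e]; exact A.mul_mem y'.2 (A.inv_mem y.2)
      rw [hTI, Subgroup.mem_bot] at h1
      have hxx : x = x' := by
        apply Subtype.ext
        calc (x : G) = x' * ((x' : G)⁻¹ * x) := by group
          _ = x' := by rw [h1, mul_one]
      subst hxx
      have hyy : y = y' := by
        apply Subtype.ext
        exact mul_left_cancel hxy'
      rw [hyy]
    · exfalso
      have hxy' : (x : G) * g * y = z' := hxy
      apply hg
      apply Subgroup.le_normalizer (H := A)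
      have e : g = (x : G)⁻¹ * ((x : G) * g * y) * (y : G)⁻¹ := by group
      rw [e, hxy']
      exact A.mul_mem (A.mul_mem (A.inv_mem x.2) z'.2) (A.inv_mem y.2)
    · exfalso
      have hxy' : (z : G) = x' * g * y' := hxy
      apply hg
      apply Subgroup.le_normalizer (H := A)
      have e : g = (x' : G)⁻¹ * ((x' : G) * g * y') * (y' : G)⁻¹ := by group
      rw [e, ← hxy']
      exact A.mul_mem (A.mul_mem (A.inv_mem x'.2) z.2) (A.inv_mem y'.2)
    · have hxy' : (z : G) = z' := hxy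
      rw [Subtype.ext hxy']
  have hcard := Nat.card_le_card_of_injective f hf
  rw [Nat.card_sum, Nat.card_prod, h.kw.card] at hcard
  have hpos : 0 < Nat.card A := Nat.card_pos
  nlinarith

theorem MinCE.false [Finite G] (h : MinCE G A B) : False := by
  have h1 := h.card_lt
  have h2 := h.symm.card_lt
  omega

/-- **Wielandt's theorem**: a finite product of two nilpotent subgroups of coprime orders is
solvable. -/
theorem kw_solvable_aux : ∀ (n : ℕ) (G : Type u) [Group G] [Finite G], Nat.card G = n →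
    ∀ A B : Subgroup G, KW A B → Group.IsSolvable G := by
  intro n
  induction n using Nat.strong_induction_on with
  | _ n ih =>
  intro G _ _ hcard A B hkw
  by_contra hns
  exact MinCE.false (A := A) (B := B) ⟨hkw, fun H _ _ hlt A' B' hkw' =>
    ih (Nat.card H) (hcard ▸ hlt) H rfl A' B' hkw', hns⟩

theorem kw_solvable {G : Type u} [Group G] [Finite G] {A B : Subgroup G} (h : KW A B) :
    Group.IsSolvable G := kw_solvable_aux _ G rfl A B h

end Cfsg.Agent.H4KW
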