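import Mathlib
import Cfsg.Agent.Lib.Helper4.KW6

set_option autoImplicit false
open Pointwise

namespace Cfsg.Agent.H4KW
open Cfsg.Agent.Lib.Helper1
universe u
variable {G : Type u} [Group G] {A B : Subgroup G}

theorem syl_eq_bot_of_not_dvd [Finite G] {A : Subgroup G} (hA : Group.IsNilpotent A) {p : ℕ}
    (hp : p.Prime) (hd : ¬ p ∣ Nat.card A) : syl A p = ⊥ := by
  apply Subgroup.card_eq_one.mp
  rw [card_syl hA hp, Nat.factorization_eq_zero_of_not_dvd hd, pow_zero]

theorem KW.exists_mul_syl [Finite G] (h : KW A B) {p q : ℕ} (hp : p.Prime) (hq : q.Prime) :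
    ∃ S : Subgroup G, (S : Set G) = (syl A p : Set G) * (syl B q : Set G) := by
  by_cases hpA : p ∣ Nat.card A
  · by_cases hqB : q ∣ Nat.card B
    · haveI := kw_solvable h
      obtain ⟨g, H, hH⟩ := exists_conj_mul_eq (⊤ : Subgroup G) inferInstance hp hq
        (h.prime_ne hp hpA hqB) (syl A p) (syl B q) (h.card_syl' hp hpA)
        (h.symm.card_syl' hq hqB) le_top le_top
      obtain ⟨S', -, hS'⟩ := h.mul_conj_of_mul (le_normalizer_syl A p) (le_normalizer_syl B q)
        g 1 hH
      rw [map_one, one_smul] at hS'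
      exact ⟨S', hS'⟩
    · refine ⟨syl A p, ?_⟩
      rw [syl_eq_bot_of_not_dvd h.nilB hq hqB]
      ext x
      constructor
      · intro hx; exact ⟨x, hx, 1, rfl, mul_one x⟩
      · rintro ⟨a, ha, b, hb, rfl⟩
        rw [SetLike.mem_coe, Subgroup.mem_bot] at hb
        show a * b ∈ syl A p
        rw [hb, mul_one]; exact ha
  · refine ⟨syl B q, ?_⟩
    rw [syl_eq_bot_of_not_dvd h.nilA hp hpA]
    ext x
    constructor
    · intro hx; exact ⟨1, rfl, x, hx, one_mul x⟩
    · rintro ⟨a, ha, b, hb, rfl⟩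
      rw [SetLike.mem_coe, Subgroup.mem_bot] at ha
      show a * b ∈ syl B q
      rw [ha, one_mul]; exact hb

end Cfsg.Agent.H4KW
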