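import Mathlib
import Cfsg.Agent.Lib.Helper4.KW7
import Cfsg.Agent.Lib.Helper4.Factorization
import Cfsg.Agent.Lib.Helper4.Basic
import Cfsg.Agent.Lib.Helper17.Card

set_option autoImplicit false
open Pointwise

namespace Cfsg.Agent.H4KW
open Cfsg.Agent.Lib.Helper1
universe u
variable {G : Type u} [Group G] {A B : Subgroup G}

structure KWG (A B : Subgroup G) : Prop where
  nilA : Group.IsNilpotent A
  nilB : Group.IsNilpotent B
  fac : ∀ g : G, ∃ a ∈ A, ∃ b ∈ B, g = a * b

theorem KWG.symm (h : KWG A B) : KWG B A :=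
  ⟨h.nilB, h.nilA, fun g => by
    obtain ⟨a, ha, b, hb, hab⟩ := h.fac g⁻¹
    exact ⟨b⁻¹, B.inv_mem hb, a⁻¹, A.inv_mem ha, by rw [← mul_inv_rev, ← hab, inv_inv]⟩⟩

theorem KWG.pair_conj (h : KWG A B) {P Q : Subgroup G}
    (hP : A ≤ Subgroup.normalizer (P : Set G)) (hQ : B ≤ Subgroup.normalizer (Q : Set G))
    (x y : G) : ∃ g : G, MulAut.conj g • P = MulAut.conj x • P ∧
      MulAut.conj g • Q = MulAut.conj y • Q := by
  obtain ⟨a, ha, b, hb, hab⟩ := h.fac (x⁻¹ * y)
  refine ⟨x * a, ?_, ?_⟩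
  · rw [map_mul, mul_smul, smul_eq_of_mem_normalizer (hP ha)]
  · have : x * a = y * b⁻¹ := by
      have : y = x * (a * b) := by rw [← hab]; group
      rw [this]; group
    rw [this, map_mul, mul_smul, smul_eq_of_mem_normalizer (hQ (B.inv_mem hb))]

theorem KWG.map_mk (h : KWG A B) (K : Subgroup G) [K.Normal] :
    KWG (A.map (QuotientGroup.mk' K)) (B.map (QuotientGroup.mk' K)) := by
  refine ⟨?_, ?_, ?_⟩
  · haveI := h.nilA
    exact Group.nilpotent_of_surjective ((QuotientGroup.mk' K).subgroupMap A)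
      ((QuotientGroup.mk' K).subgroupMap_surjective A)
  · haveI := h.nilB
    exact Group.nilpotent_of_surjective ((QuotientGroup.mk' K).subgroupMap B)
      ((QuotientGroup.mk' K).subgroupMap_surjective B)
  · intro g
    obtain ⟨g₀, rfl⟩ := QuotientGroup.mk_surjective g
    obtain ⟨a, ha, b, hb, hab⟩ := h.fac g₀
    exact ⟨_, ⟨a, ha, rfl⟩, _, ⟨b, hb, rfl⟩, by rw [hab]; rfl⟩

structure MinG (G : Type u) [Group G] (A B : Subgroup G) : Prop where
  kw : KWG A B
  ih : ∀ (H : Type u) [Group H] [Finite H], Nat.card H < Nat.card G →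
    ∀ A' B' : Subgroup H, KWG A' B' → Group.IsSolvable H
  ns : ¬ Group.IsSolvable G

theorem MinG.symm (h : MinG G A B) : MinG G B A := ⟨h.kw.symm, h.ih, h.ns⟩

theorem MinG.solvable_quot [Finite G] (h : MinG G A B) (K : Subgroup G) [K.Normal]
    (hK : K ≠ ⊥) : Group.IsSolvable (G ⧸ K) := by
  refine h.ih (G ⧸ K) ?_ _ _ (h.kw.map_mk K)
  rw [← Subgroup.index_eq_card, ← K.card_mul_index]
  have h1 : 1 < Nat.card K := by
    rw [Subgroup.one_lt_card_iff_ne_bot]; exact hK
  have h2 : 0 < K.index := Nat.pos_of_ne_zero Subgroup.index_ne_zero_of_finite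
  nlinarith

theorem MinG.not_solvable_normal [Finite G] (h : MinG G A B) (K : Subgroup G) [K.Normal]
    (hK : K ≠ ⊥) : ¬ Group.IsSolvable K := by
  intro hs
  haveI := hs
  haveI := h.solvable_quot K hK
  apply h.ns
  exact Group.isSolvable_of_ker_le_range K.subtype (QuotientGroup.mk' K) (by
    rw [QuotientGroup.ker_mk', Subgroup.range_subtype])

theorem MinG.solvable_of_fac [Finite G] (h : MinG G A B) (X A₁ B₁ : Subgroup G) (hX : X ≠ ⊤)
    (hA₁ : A₁ ≤ A) (hA₁X : A₁ ≤ X) (hB₁ : B₁ ≤ B) (hB₁X : B₁ ≤ X)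
    (hfac : ∀ k ∈ X, ∃ a ∈ A₁, ∃ b ∈ B₁, k = a * b) : Group.IsSolvable X := by
  refine h.ih X (card_lt_of_ne_top hX) (A₁.subgroupOf X) (B₁.subgroupOf X) ⟨?_, ?_, ?_⟩
  · haveI := nilpotent_of_le hA₁ h.kw.nilA
    exact Group.nilpotent_of_mulEquiv (Subgroup.subgroupOfEquivOfLe hA₁X).symm
  · haveI := nilpotent_of_le hB₁ h.kw.nilB
    exact Group.nilpotent_of_mulEquiv (Subgroup.subgroupOfEquivOfLe hB₁X).symm
  · rintro ⟨k, hk⟩
    obtain ⟨a, ha, b, hb, hab⟩ := hfac k hk
    exact ⟨⟨a, hA₁X ha⟩, ha, ⟨b, hB₁X hb⟩, hb, Subtype.ext hab⟩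

/-- the factorizer argument: `G = AK` for every proper nontrivial normal `K` -/
theorem MinG.sup_eq_top [Finite G] (h : MinG G A B) (K : Subgroup G) [K.Normal]
    (hK : K ≠ ⊥) : A ⊔ K = ⊤ := by
  by_contra hne
  have hX : (A ⊔ K) ⊓ (B ⊔ K) ≠ ⊤ := by
    intro h0
    apply hne
    rw [eq_top_iff, ← h0]; exact inf_le_left
  have hsol := h.solvable_of_fac _ (A ⊓ (B ⊔ K)) (B ⊓ (A ⊔ K)) hX inf_le_left
    (le_inf (inf_le_left.trans le_sup_left) inf_le_right) inf_le_left
    (le_inf inf_le_right (inf_le_left.trans le_sup_left)) (by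
      intro x hx
      obtain ⟨a, ha, b, hb, hab⟩ := h.kw.fac x
      refine ⟨a, ⟨ha, ?_⟩, b, ⟨hb, ?_⟩, hab⟩
      · have : a = x * b⁻¹ := by rw [hab]; group
        rw [this]
        exact (B ⊔ K).mul_mem hx.2 ((B ⊔ K).inv_mem (le_sup_left (a := B) hb))
      · have : b = a⁻¹ * x := by rw [hab]; group
        rw [this]
        exact (A ⊔ K).mul_mem ((A ⊔ K).inv_mem (le_sup_left (a := A) ha)) hx.1)
  apply h.not_solvable_normal K hK
  haveI := hsol
  have hKX : K ≤ (A ⊔ K) ⊓ (B ⊔ K) := le_inf le_sup_right le_sup_right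
  exact Group.isSolvable_of_isSolvable_injective (f := Subgroup.inclusion hKX)
    (Subgroup.inclusion_injective hKX)

theorem MinG.exists_mul [Finite G] (h : MinG G A B) (K : Subgroup G) [K.Normal]
    (hK : K ≠ ⊥) (g : G) : ∃ a ∈ A, ∃ k ∈ K, g = a * k := by
  have h1 : g ∈ ((A ⊔ K : Subgroup G) : Set G) := by rw [h.sup_eq_top K hK]; trivial
  rw [Subgroup.mul_normal] at h1
  obtain ⟨a, ha, k, hk, hak⟩ := h1
  exact ⟨a, ha, k, hk, hak.symm⟩

theorem MinG.exists_mul' [Finite G] (h : MinG G A B) (K : Subgroup G) [K.Normal]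
    (hK : K ≠ ⊥) (g : G) : ∃ k ∈ K, ∃ a ∈ A, g = k * a := by
  have h1 : g ∈ ((K ⊔ A : Subgroup G) : Set G) := by rw [sup_comm, h.sup_eq_top K hK]; trivial
  rw [Subgroup.normal_mul] at h1
  obtain ⟨k, hk, a, ha, hak⟩ := h1
  exact ⟨k, hk, a, ha, hak.symm⟩

theorem MinG.exists_common_prime [Finite G] (h : MinG G A B) :
    ∃ p : ℕ, p.Prime ∧ p ∣ Nat.card A ∧ p ∣ Nat.card B := by
  by_contra hcon
  push Not at hcon
  apply h.ns
  exact kw_solvable ⟨h.kw.nilA, h.kw.nilB, Nat.coprime_of_dvd hcon, h.kw.fac⟩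


/-- the product of the Sylow `p`-subgroups of `A` and `B` is a (Sylow) `p`-subgroup -/
theorem KWG.syl_mul [Finite G] (h : KWG A B) {p : ℕ} (hp : p.Prime) :
    IsPGroup p (syl A p ⊔ syl B p : Subgroup G) ∧
      ((syl A p ⊔ syl B p : Subgroup G) : Set G) = (syl A p : Set G) * (syl B p : Set G) := by
  haveI := Fact.mk hp
  -- a Sylow subgroup containing both
  obtain ⟨P₀, hP₀⟩ := (isPGroup_syl h.nilA hp).exists_le_sylow
  obtain ⟨g, hg⟩ := exists_le_conj_of_card hp P₀.card_eq_multiplicity (isPGroup_syl h.nilB hp)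
  obtain ⟨b, hb, a, ha, hba⟩ := h.symm.fac g
  have h1 : syl A p ≤ MulAut.conj a • (P₀ : Subgroup G) := by
    rw [← smul_eq_of_mem_normalizer (le_normalizer_syl A p ha)]
    exact Subgroup.pointwise_smul_le_pointwise_smul_iff.mpr hP₀
  have h2 : syl B p ≤ MulAut.conj a • (P₀ : Subgroup G) := by
    rw [hba, map_mul, mul_smul, le_smul_iff,
      smul_eq_of_mem_normalizer (le_normalizer_syl B p (B.inv_mem hb))] at hg
    exact hg
  have hJ : syl A p ⊔ syl B p ≤ MulAut.conj a • (P₀ : Subgroup G) := sup_le h1 h2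
  have hS₁ : Nat.card (MulAut.conj a • (P₀ : Subgroup G) : Subgroup G) =
      p ^ (Nat.card G).factorization p := by
    rw [card_conj_smul]; exact P₀.card_eq_multiplicity
  have hJp : IsPGroup p (syl A p ⊔ syl B p : Subgroup G) :=
    (IsPGroup.of_card hS₁).to_le hJ
  refine ⟨hJp, ?_⟩
  apply Cfsg.Agent.Lib.Helper17.coe_sup_eq_mul_of_card_mul_card_eq
  apply le_antisymm (Cfsg.Agent.Lib.Helper17.card_mul_card_le_card_sup_mul_card_inf _ _)
  -- the count
  have hcount := Cfsg.Agent.Lib.Helper4.card_mul_card_inf_of_forall_mul A B h.fac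
  have hfact : (Nat.card G).factorization p + (Nat.card (A ⊓ B : Subgroup G)).factorization p =
      (Nat.card A).factorization p + (Nat.card B).factorization p := by
    have := congrArg (fun n => n.factorization p) hcount
    beta_reduce at this
    rw [Nat.factorization_mul Nat.card_pos.ne' Nat.card_pos.ne',
      Nat.factorization_mul Nat.card_pos.ne' Nat.card_pos.ne'] at this
    exact this
  obtain ⟨i, hi⟩ := IsPGroup.iff_card.mp hJp
  have hIp : IsPGroup p (syl A p ⊓ syl B p : Subgroup G) :=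
    (isPGroup_syl h.nilA hp).to_le inf_le_left
  obtain ⟨j, hj⟩ := IsPGroup.iff_card.mp hIp
  have hi' : i ≤ (Nat.card G).factorization p := by
    have := Subgroup.card_dvd_of_le hJ
    rw [hi, hS₁] at this
    exact (Nat.pow_dvd_pow_iff_le_right hp.one_lt).mp this
  have hj' : j ≤ (Nat.card (A ⊓ B : Subgroup G)).factorization p := by
    have : Nat.card (syl A p ⊓ syl B p : Subgroup G) ∣ Nat.card (A ⊓ B : Subgroup G) :=
      Subgroup.card_dvd_of_le (inf_le_inf (syl_le A p) (syl_le B p))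
    rw [hj] at this
    exact (hp.pow_dvd_iff_le_factorization Nat.card_pos.ne').mp this
  rw [hi, hj, card_syl h.nilA hp, card_syl h.nilB hp, ← pow_add, ← pow_add]
  apply Nat.pow_le_pow_right hp.pos
  omega

theorem KWG.mul_conj [Finite G] (h : KWG A B) {p : ℕ} (hp : p.Prime) (g : G) :
    ∃ S : Subgroup G, IsPGroup p S ∧
      (S : Set G) = (syl A p : Set G) * ((MulAut.conj g • syl B p : Subgroup G) : Set G) := by
  obtain ⟨hJp, hJ⟩ := h.syl_mul hp
  obtain ⟨g₂, hg₂P, hg₂Q⟩ := h.pair_conj (le_normalizer_syl A p) (le_normalizer_syl B p) 1 g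
  rw [map_one, one_smul] at hg₂P
  refine ⟨MulAut.conj g₂ • (syl A p ⊔ syl B p), isPGroup_conj_smul hJp g₂, ?_⟩
  rw [exists_coe_eq_mul_conj hJ g₂, hg₂P, hg₂Q]

/-- Kegel's lemma inside a subgroup -/
theorem kegel_relative [Finite G] (N₁ P Q : Subgroup G) (hP : P ≤ N₁) (hQ : Q ≤ N₁)
    (h : ∀ x ∈ N₁, ∃ S : Subgroup G, S ≤ N₁ ∧ S ≠ N₁ ∧
      (S : Set G) = (P : Set G) * ((MulAut.conj x • Q : Subgroup G) : Set G)) :
    ∃ M : Subgroup G, M ≤ N₁ ∧ N₁ ≤ Subgroup.normalizer (M : Set G) ∧ M ≠ N₁ ∧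
      (P ≤ M ∨ Q ≤ M) := by
  obtain ⟨M', hM'n, hM'top, hPQ⟩ := Cfsg.Agent.Lib.Helper4.kegel_lemma (G := N₁)
    (P.subgroupOf N₁) (Q.subgroupOf N₁) (by
      intro x
      obtain ⟨S, hSN, hSne, hS⟩ := h x x.2
      refine ⟨S.subgroupOf N₁, ?_, ?_⟩
      · intro htop
        rw [Subgroup.subgroupOf_eq_top] at htop
        exact hSne (le_antisymm hSN htop)
      · ext y
        constructor
        · intro hy
          have hy' : (y : G) ∈ (S : Set G) := hy
          rw [hS] at hy'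
          obtain ⟨a, ha, b, hb, hab⟩ := hy'
          have hb' : x.1⁻¹ * b * x.1 ∈ Q := by
            rw [SetLike.mem_coe, mem_conj_smul_iff] at hb; exact hb
          have hbN : b ∈ N₁ := by
            have := N₁.mul_mem (N₁.mul_mem x.2 (hQ hb')) (N₁.inv_mem x.2)
            have e : x.1 * (x.1⁻¹ * b * x.1) * x.1⁻¹ = b := by group
            rwa [e] at this
          refine ⟨⟨a, hP ha⟩, ?_, ⟨b, hbN⟩, ?_, Subtype.ext hab⟩
          · rw [SetLike.mem_coe, Subgroup.mem_subgroupOf]; exact ha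
          · rw [SetLike.mem_coe, mem_conj_smul_iff, Subgroup.mem_subgroupOf]
            exact hb'
        · rintro ⟨a, ha, b, hb, rfl⟩
          rw [SetLike.mem_coe, Subgroup.mem_subgroupOf] at ha
          rw [SetLike.mem_coe, mem_conj_smul_iff, Subgroup.mem_subgroupOf] at hb
          show ((a * b : N₁) : G) ∈ S
          rw [← SetLike.mem_coe, hS]
          refine ⟨a, ha, b, ?_, rfl⟩
          rw [SetLike.mem_coe, mem_conj_smul_iff]
          exact hb)
  refine ⟨M'.map N₁.subtype, Subgroup.map_subtype_le _, ?_, ?_, ?_⟩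
  · intro n hn
    apply mem_normalizer_of_forall_conj_mem
    rintro _ ⟨m, hm, rfl⟩
    exact ⟨⟨n, hn⟩ * m * ⟨n, hn⟩⁻¹, hM'n.conj_mem m hm ⟨n, hn⟩, by simp⟩
  · intro heq
    apply hM'top
    rw [eq_top_iff]
    intro y _
    have : (y : G) ∈ M'.map N₁.subtype := by rw [heq]; exact y.2
    obtain ⟨m, hm, hmy⟩ := this
    have : m = y := Subtype.ext hmy
    rwa [← this]
  · rcases hPQ with h1 | h1
    · left
      intro a ha
      exact ⟨⟨a, hP ha⟩, h1 (by rw [Subgroup.mem_subgroupOf]; exact ha), rfl⟩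
    · right
      intro a ha
      exact ⟨⟨a, hQ ha⟩, h1 (by rw [Subgroup.mem_subgroupOf]; exact ha), rfl⟩


theorem normalClosure_le_of_forall_conj_le {S M : Subgroup G}
    (h : ∀ g : G, MulAut.conj g • S ≤ M) : Subgroup.normalClosure (S : Set G) ≤ M := by
  unfold Subgroup.normalClosure
  rw [Subgroup.closure_le]
  intro y hy
  rw [Group.mem_conjugatesOfSet_iff] at hy
  obtain ⟨a, ha, hay⟩ := hy
  rw [isConj_iff] at hay
  obtain ⟨c, rfl⟩ := hay
  apply h c
  rw [mem_conj_smul_iff]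
  have e : c⁻¹ * (c * a * c⁻¹) * c = a := by group
  rw [e]; exact ha

/-- a normal subgroup containing the Sylow `p`-subgroup of `A` contains all `p`-subgroups -/
theorem MinG.isPGroup_le [Finite G] (h : MinG G A B) (K : Subgroup G) [K.Normal]
    (hK : K ≠ ⊥) {p : ℕ} (hp : p.Prime) (hAK : syl A p ≤ K) {U : Subgroup G}
    (hU : IsPGroup p U) : U ≤ K := by
  have hidx : K.index = K.relIndex A :=
    Cfsg.Agent.Lib.Helper4.index_eq_relIndex_of_forall_mul A K (h.exists_mul K hK)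
  have hdvd : K.relIndex A ∣ (syl A p).relIndex A := Subgroup.relIndex_dvd_of_le_left A hAK
  have hrel : (syl A p).relIndex A = Nat.card A / p ^ (Nat.card A).factorization p := by
    have := Cfsg.Agent.Lib.Helper4.card_mul_relIndex (syl_le A p)
    rw [card_syl h.kw.nilA hp] at this
    exact (Nat.div_eq_of_eq_mul_right (pow_pos hp.pos _) this.symm).symm
  have hnd : ¬ p ∣ K.index := by
    rw [hidx]
    intro hd
    have := hd.trans hdvd
    rw [hrel] at this
    exact Nat.not_dvd_ordCompl hp Nat.card_pos.ne' this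
  intro u hu
  obtain ⟨k, hk⟩ := hU ⟨u, hu⟩
  have hk' : u ^ (p ^ k) = 1 := by simpa using congrArg Subtype.val hk
  rw [← QuotientGroup.eq_one_iff]
  have h1 : (u : G ⧸ K) ^ (p ^ k) = 1 := by
    rw [← QuotientGroup.mk_pow, hk', QuotientGroup.mk_one]
  have h2 : (u : G ⧸ K) ^ K.index = 1 := by
    rw [Subgroup.index_eq_card]
    exact pow_card_eq_one'
  exact eq_one_of_pow_eq_one_of_coprime h1 h2
    (Nat.Coprime.pow_left _ ((Nat.Prime.coprime_iff_not_dvd hp).mpr hnd))

theorem MinG.not_isPGroup [Finite G] (h : MinG G A B) (K : Subgroup G) [K.Normal]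
    (hK : K ≠ ⊥) {p : ℕ} (hp : p.Prime) : ¬ IsPGroup p K := by
  intro hKp
  apply h.not_solvable_normal K hK
  haveI := Fact.mk hp
  haveI := hKp.isNilpotent
  infer_instance

theorem MinG.false_of_le [Finite G] (h : MinG G A B) {p : ℕ} (hp : p.Prime)
    (hpA : p ∣ Nat.card A) (hpB : p ∣ Nat.card B) : False := by
  have hAne : syl A p ≠ ⊥ := syl_ne_bot h.kw.nilA hp hpA
  have hBne : syl B p ≠ ⊥ := syl_ne_bot h.kw.nilB hp hpB
  haveI hN₁n : (Subgroup.normalClosure (syl A p : Set G)).Normal := Subgroup.normalClosure_normal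
  have hAN₁ : syl A p ≤ Subgroup.normalClosure (syl A p : Set G) := Subgroup.le_normalClosure
  have hN₁bot : Subgroup.normalClosure (syl A p : Set G) ≠ ⊥ := by
    intro h0; apply hAne; rw [eq_bot_iff, ← h0]; exact hAN₁
  have hBN₁ : syl B p ≤ Subgroup.normalClosure (syl A p : Set G) :=
    h.isPGroup_le _ hN₁bot hp hAN₁ (isPGroup_syl h.kw.nilB hp)
  have hN₁p := h.not_isPGroup _ hN₁bot hp
  obtain ⟨M, hMN₁, hMn, hMne, hPQ⟩ := kegel_relative
    (Subgroup.normalClosure (syl A p : Set G)) (syl A p) (syl B p) hAN₁ hBN₁ (by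
      intro x hx
      obtain ⟨S, hSp, hS⟩ := h.kw.mul_conj hp x
      have hSN₁ : S ≤ Subgroup.normalClosure (syl A p : Set G) := by
        intro s hs
        rw [← SetLike.mem_coe, hS] at hs
        obtain ⟨a, ha, b, hb, rfl⟩ := hs
        rw [SetLike.mem_coe, mem_conj_smul_iff] at hb
        have hb' := hN₁n.conj_mem _ (hBN₁ hb) x
        have e : x * (x⁻¹ * b * x) * x⁻¹ = b := by group
        rw [e] at hb'
        exact Subgroup.mul_mem _ (hAN₁ ha) hb'
      refine ⟨S, hSN₁, ?_, hS⟩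
      intro h0
      exact hN₁p (h0 ▸ hSp))
  rcases hPQ with h1 | h1
  · apply hMne
    apply le_antisymm hMN₁
    apply normalClosure_le_of_forall_conj_le
    intro g
    obtain ⟨n, hn, a, ha, hg⟩ := h.exists_mul' _ hN₁bot g
    rw [hg, map_mul, mul_smul, smul_eq_of_mem_normalizer (le_normalizer_syl A p ha),
      ← smul_eq_of_mem_normalizer (hMn hn)]
    exact Subgroup.pointwise_smul_le_pointwise_smul_iff.mpr h1
  · haveI hN₂n : (Subgroup.normalClosure (syl B p : Set G)).Normal :=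
      Subgroup.normalClosure_normal
    have hN₂M : Subgroup.normalClosure (syl B p : Set G) ≤ M := by
      apply normalClosure_le_of_forall_conj_le
      intro g
      obtain ⟨n, hn, b, hb, hg⟩ := h.symm.exists_mul' _ hN₁bot g
      rw [hg, map_mul, mul_smul, smul_eq_of_mem_normalizer (le_normalizer_syl B p hb),
        ← smul_eq_of_mem_normalizer (hMn hn)]
      exact Subgroup.pointwise_smul_le_pointwise_smul_iff.mpr h1
    have hBN₂ : syl B p ≤ Subgroup.normalClosure (syl B p : Set G) := Subgroup.le_normalClosure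
    have hN₂bot : Subgroup.normalClosure (syl B p : Set G) ≠ ⊥ := by
      intro h0; apply hBne; rw [eq_bot_iff, ← h0]; exact hBN₂
    have hAN₂ : syl A p ≤ Subgroup.normalClosure (syl B p : Set G) :=
      h.symm.isPGroup_le _ hN₂bot hp hBN₂ (isPGroup_syl h.kw.nilA hp)
    apply hMne
    apply le_antisymm hMN₁
    exact (Subgroup.normalClosure_le_normal hAN₂).trans hN₂M

theorem MinG.false [Finite G] (h : MinG G A B) : False := by
  obtain ⟨p, hp, hpA, hpB⟩ := h.exists_common_prime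
  exact h.false_of_le hp hpA hpB

/-- **Kegel–Wielandt** -/
theorem kwg_solvable_aux : ∀ (n : ℕ) (G : Type u) [Group G] [Finite G], Nat.card G = n →
    ∀ A B : Subgroup G, KWG A B → Group.IsSolvable G := by
  intro n
  induction n using Nat.strong_induction_on with
  | _ n ih =>
  intro G _ _ hcard A B hkw
  by_contra hns
  exact MinG.false (A := A) (B := B) ⟨hkw, fun H _ _ hlt A' B' hkw' =>
    ih (Nat.card H) (hcard ▸ hlt) H rfl A' B' hkw', hns⟩

theorem kwg_solvable {G : Type u} [Group G] [Finite G] {A B : Subgroup G} (h : KWG A B) :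
    Group.IsSolvable G := kwg_solvable_aux _ G rfl A B h

end Cfsg.Agent.H4KW
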