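import Mathlib
import Cfsg.Prelude.Def_Blocks
import Cfsg.Prelude.Def_CharExt
import Cfsg.Agent.Lib.Helper6.Clifford
import Cfsg.Agent.Lib.Helper17.AlpDadeMain

/-!
# S4892 leaf (E2) (helper4): extension over a section of index prime to `p`, ambient form

`N ⊴ X`, `Q ∈ Syl_p(N)`, `X = N C_X(Q)`, `θ ∈ B₀(N)`, `N ≤ R ≤ X` with `p ∤ |R : N|`:
`θ` extends to `R`.  This is S4551's L6 (helper17 `AlpDade.exists_extension_mem_principal`)
applied to the group `R` with the normal subgroup `N.subgroupOf R`.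
-/

set_option autoImplicit false

namespace Cfsg.Agent.Lib.Helper4.PRat

open Cfsg Cfsg.Agent.Lib.Helper6 Cfsg.Agent.Lib.Helper24

universe u

theorem exists_extension_of_pprime_section {X : Type u} [Group X] [Finite X] (p : ℕ)
    [Fact p.Prime] (M : Ideal AlgInt) (hM : IsPModular p M) (N : Subgroup X) [N.Normal]
    (Q : Sylow p N)
    (hcov : N ⊔ Subgroup.centralizer (((Q : Subgroup N).map N.subtype : Subgroup X) : Set X) = ⊤)
    (θ : IrrCharacter N) (hθ : θ ∈ principalBlock M N) (R : Subgroup X) (hNR : N ≤ R)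
    (hidx : ¬ p ∣ N.relIndex R) :
    ∃ η : R → ℂ, IsIrrCharacter R η ∧ ∀ x : N, η ⟨x, hNR x.2⟩ = (θ : N → ℂ) x := by
  classical
  have hp : p.Prime := Fact.out
  -- the image of `Q` in `R`
  have hι : Function.Injective (Subgroup.inclusion hNR) := Subgroup.inclusion_injective hNR
  have hcardQ₁ : Nat.card ((Q : Subgroup N).map (Subgroup.inclusion hNR)) =
      Nat.card (Q : Subgroup N) := Subgroup.card_map_of_injective hι
  have hcardN' : Nat.card (N.subgroupOf R) = Nat.card N :=
    Nat.card_congr (Subgroup.subgroupOfEquivOfLe hNR).toEquiv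
  have hRcard : Nat.card N * N.relIndex R = Nat.card R := by
    rw [← hcardN']
    exact Subgroup.card_mul_index (N.subgroupOf R)
  have hfac : (Nat.card R).factorization p = (Nat.card N).factorization p := by
    rw [← hRcard, Nat.factorization_mul Nat.card_pos.ne' (fun h => hidx (by rw [h]; exact dvd_zero p))]
    simp [Nat.factorization_eq_zero_of_not_dvd hidx]
  have hcard : Nat.card ((Q : Subgroup N).map (Subgroup.inclusion hNR)) =
      p ^ (Nat.card R).factorization p := by
    rw [hcardQ₁, hfac]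
    exact Q.card_eq_multiplicity
  have hidx' : ¬ p ∣ (N.subgroupOf R).index := hidx
  have hsup' : (N.subgroupOf R) ⊔ Subgroup.centralizer
      (((Sylow.ofCard _ hcard : Sylow p R) : Subgroup R) : Set R) = ⊤ := by
    rw [eq_top_iff]
    rintro ⟨x, hx⟩ -
    have hg : x ∈ N ⊔ Subgroup.centralizer
        (((Q : Subgroup N).map N.subtype : Subgroup X) : Set X) := by
      rw [hcov]; exact Subgroup.mem_top x
    obtain ⟨n, hn, c, hc, hnc⟩ := Subgroup.mem_sup_of_normal_left.1 hg
    have hnR : n ∈ R := hNR hn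
    have hcR : c ∈ R := by
      have : c = n⁻¹ * x := by rw [← hnc]; group
      rw [this]
      exact R.mul_mem (R.inv_mem hnR) hx
    have hx' : (⟨x, hx⟩ : R) = ⟨n, hnR⟩ * ⟨c, hcR⟩ := Subtype.ext hnc.symm
    rw [hx']
    apply Subgroup.mul_mem_sup
    · rw [Subgroup.mem_subgroupOf]; exact hn
    · rw [Subgroup.mem_centralizer_iff]
      intro y hy
      have hy1 : y ∈ (Q : Subgroup N).map (Subgroup.inclusion hNR) := by
        have : y ∈ ((Sylow.ofCard _ hcard : Sylow p R) : Subgroup R) := hy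
        rwa [Sylow.coe_ofCard] at this
      obtain ⟨q, hq, rfl⟩ := Subgroup.mem_map.1 hy1
      have hq' : ((q : N) : X) ∈ ((Q : Subgroup N).map N.subtype : Subgroup X) :=
        Subgroup.mem_map.2 ⟨q, hq, rfl⟩
      apply Subtype.ext
      exact Subgroup.mem_centralizer_iff.1 hc _ hq'
  have hθ' : irrCompIso (Subgroup.subgroupOfEquivOfLe hNR) θ ∈
      principalBlock M (N.subgroupOf R) := by
    have h1 : SameBlock M (fun _ : N => (1 : ℂ)) (θ : N → ℂ) := hθ
    exact sameBlock_compIso M (Subgroup.subgroupOfEquivOfLe hNR) h1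
  obtain ⟨χ, -, hχ⟩ := Cfsg.Agent.Lib.Helper17.AlpDade.exists_extension_mem_principal p M hM
    (N.subgroupOf R) hidx' (Sylow.ofCard _ hcard) hsup'
    (irrCompIso (Subgroup.subgroupOfEquivOfLe hNR) θ) hθ'
  refine ⟨(χ : R → ℂ), χ.2, fun x => ?_⟩
  have := hχ ⟨⟨x, hNR x.2⟩, by rw [Subgroup.mem_subgroupOf]; exact x.2⟩
  rw [irrCompIso_apply] at this
  exact this
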