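import Mathlib

set_option autoImplicit false
open Classical

namespace Cfsg.Agent.Lib.Helper4.Mob

variable {α : Type*} [PartialOrder α] [Finite α]

/-- the recursion functional -/
noncomputable def cF (s : Finset α) (x : α) (ih : (y : α) → y > x → ℤ) : ℤ :=
  if x ∈ s then 1 - ∑ y ∈ (s.filter (fun y => x < y)).attach, ih y.1 (by
      have := y.2; simp only [Finset.mem_filter] at this; exact this.2) else 0

/-- the Möbius-type weight of a finite sub-poset `s`: the unique function supported on `s`
with `∑_{y ∈ s, x ≤ y} c y = 1` for all `x ∈ s`. -/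
noncomputable def cfun (s : Finset α) : α → ℤ :=
  (wellFounded_gt (α := α)).fix (cF s)

theorem cfun_def (s : Finset α) (x : α) :
    cfun s x = if x ∈ s then 1 - ∑ y ∈ s.filter (fun y => x < y), cfun s y else 0 := by
  unfold cfun
  rw [WellFounded.fix_eq]
  unfold cF
  by_cases hx : x ∈ s
  · simp only [hx, if_true]
    congr 1
    exact Finset.sum_attach (s.filter (fun y => x < y))
      (fun y => (wellFounded_gt (α := α)).fix (cF s) y)
  · simp [hx]

theorem cfun_of_not_mem (s : Finset α) {x : α} (hx : x ∉ s) : cfun s x = 0 := by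
  rw [cfun_def]; simp [hx]

theorem cfun_of_mem (s : Finset α) {x : α} (hx : x ∈ s) :
    cfun s x = 1 - ∑ y ∈ s.filter (fun y => x < y), cfun s y := by
  rw [cfun_def]; simp [hx]

theorem sum_ge (s : Finset α) {x : α} (hx : x ∈ s) :
    ∑ y ∈ s.filter (fun y => x ≤ y), cfun s y = 1 := by
  have h1 : s.filter (fun y => x ≤ y) = insert x (s.filter (fun y => x < y)) := by
    ext y
    simp only [Finset.mem_filter, Finset.mem_insert]
    constructor
    · rintro ⟨hy, hxy⟩
      rcases eq_or_lt_of_le hxy with h | h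
      · left; exact h.symm
      · right; exact ⟨hy, h⟩
    · rintro (h | ⟨hy, h⟩)
      · subst h; exact ⟨hx, le_rfl⟩
      · exact ⟨hy, h.le⟩
  rw [h1, Finset.sum_insert (by simp), cfun_of_mem s hx]
  ring

theorem cfun_unique (s : Finset α) (f : α → ℤ)
    (hf : ∀ x ∈ s, ∑ y ∈ s.filter (fun y => x ≤ y), f y = 1) :
    ∀ x ∈ s, f x = cfun s x := by
  intro x
  induction x using (wellFounded_gt (α := α)).induction with
  | _ x ih =>
    intro hx
    have h1 : s.filter (fun y => x ≤ y) = insert x (s.filter (fun y => x < y)) := by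
      ext y
      simp only [Finset.mem_filter, Finset.mem_insert]
      constructor
      · rintro ⟨hy, hxy⟩
        rcases eq_or_lt_of_le hxy with h | h
        · left; exact h.symm
        · right; exact ⟨hy, h⟩
      · rintro (h | ⟨hy, h⟩)
        · subst h; exact ⟨hx, le_rfl⟩
        · exact ⟨hy, h.le⟩
    have h2 := hf x hx
    rw [h1, Finset.sum_insert (by simp)] at h2
    rw [cfun_of_mem s hx]
    have h3 : ∑ y ∈ s.filter (fun y => x < y), f y = ∑ y ∈ s.filter (fun y => x < y), cfun s y := by
      apply Finset.sum_congr rfl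
      intro y hy
      simp only [Finset.mem_filter] at hy
      exact ih y hy.2 hy.1
    rw [← h3]
    linarith

/-- restriction to an upper subset -/
theorem cfun_upper (s t : Finset α) (hts : t ⊆ s)
    (hup : ∀ x ∈ t, ∀ y ∈ s, x ≤ y → y ∈ t) :
    ∀ x ∈ t, cfun s x = cfun t x := by
  apply cfun_unique
  intro x hx
  have : t.filter (fun y => x ≤ y) = s.filter (fun y => x ≤ y) := by
    ext y
    simp only [Finset.mem_filter]
    constructor
    · rintro ⟨hy, h⟩; exact ⟨hts hy, h⟩
    · rintro ⟨hy, h⟩; exact ⟨hup x hx y hy h, h⟩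
  rw [this]
  exact sum_ge s (hts hx)

/-- the "Euler characteristic" -/
noncomputable def tot (s : Finset α) : ℤ := ∑ y ∈ s, cfun s y

theorem tot_empty : tot (∅ : Finset α) = 0 := by simp [tot]

theorem tot_of_least (s : Finset α) {m : α} (hm : m ∈ s) (hle : ∀ y ∈ s, m ≤ y) : tot s = 1 := by
  have := sum_ge s hm
  rw [Finset.filter_true_of_mem hle] at this
  exact this

theorem cfun_eq_one_sub_tot (s : Finset α) {x : α} (hx : x ∈ s) :
    cfun s x = 1 - tot (s.filter (fun y => x < y)) := by
  rw [cfun_of_mem s hx, tot]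
  congr 1
  apply Finset.sum_congr rfl
  intro y hy
  apply cfun_upper s _ (Finset.filter_subset _ _) _ y hy
  intro a ha b hb hab
  simp only [Finset.mem_filter] at ha ⊢
  exact ⟨hb, lt_of_lt_of_le ha.2 hab⟩

/-- sum over an upper subset is its tot -/
theorem sum_upper (s t : Finset α) (hts : t ⊆ s)
    (hup : ∀ x ∈ t, ∀ y ∈ s, x ≤ y → y ∈ t) :
    ∑ y ∈ t, cfun s y = tot t := by
  rw [tot]
  exact Finset.sum_congr rfl (cfun_upper s t hts hup)

/-- invariance of `tot` under a retraction/isomorphism -/
theorem tot_eq_of_retract {β : Type*} [PartialOrder β] [Finite β]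
    (s : Finset α) (t : Finset β) (r : α → β) (i : β → α)
    (his : ∀ b ∈ t, i b ∈ s) (hrs : ∀ x ∈ s, r x ∈ t)
    (hr : ∀ x ∈ s, ∀ y ∈ s, x ≤ y → r x ≤ r y)
    (hi : ∀ b ∈ t, ∀ b' ∈ t, b ≤ b' → i b ≤ i b')
    (hir : ∀ x ∈ s, i (r x) ≤ x) (hri : ∀ b ∈ t, r (i b) = b) :
    tot s = tot t := by
  -- pushforward
  set c'' : β → ℤ := fun b => ∑ x ∈ s.filter (fun x => r x = b), cfun s x with hc''
  have key : ∀ b ∈ t, c'' b = cfun t b := by
    apply cfun_unique
    intro b hb
    have h1 : ∑ b' ∈ t.filter (fun b' => b ≤ b'), c'' b'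
        = ∑ x ∈ s.filter (fun x => i b ≤ x), cfun s x := by
      simp only [hc'']
      rw [Finset.sum_comm' (t' := s.filter (fun x => i b ≤ x)) (s' := fun x => {r x})]
      · apply Finset.sum_congr rfl
        intro x _
        simp
      · intro b' x
        simp only [Finset.mem_filter, Finset.mem_singleton]
        constructor
        · rintro ⟨⟨hb', hbb'⟩, hx, rfl⟩
          refine ⟨rfl, hx, ?_⟩
          exact (hi b hb _ hb' hbb').trans (hir x hx)
        · rintro ⟨rfl, hx, hbx⟩
          refine ⟨⟨hrs x hx, ?_⟩, hx, rfl⟩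
          have := hr _ (his b hb) x hx hbx
          rwa [hri b hb] at this
    rw [h1]
    exact sum_ge s (his b hb)
  rw [tot, tot, ← Finset.sum_congr rfl key]
  simp only [hc'']
  rw [Finset.sum_fiberwise_of_maps_to hrs]

end Cfsg.Agent.Lib.Helper4.Mob
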