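import Mathlib
import Cfsg.Agent.Lib.Helper4.Mob
import Cfsg.Agent.Lib.Helper9.Radical

set_option autoImplicit false
open Classical

namespace Cfsg.Agent.Lib.Helper4.Casolo
open Cfsg.Agent.Lib.Helper4.Mob

variable {G : Type*} [Group G] [Finite G] (p : ℕ) [Fact p.Prime]

/-- `g`-invariant `p`-subgroups -/
noncomputable def Ag (g : G) : Finset (Subgroup G) :=
  (Set.toFinite {T : Subgroup G | IsPGroup p T ∧ g ∈ Subgroup.normalizer (T : Set G)}).toFinset

theorem mem_Ag {g : G} {T : Subgroup G} :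
    T ∈ Ag p g ↔ IsPGroup p T ∧ g ∈ Subgroup.normalizer (T : Set G) := by
  unfold Ag
  rw [Set.Finite.mem_toFinset]
  rfl

theorem subn_iff {H : Subgroup G} (hH : IsPGroup p H) (g : G) :
    ((H).subgroupOf (H ⊔ Subgroup.zpowers g)).IsSubnormal ↔ ∃ T ∈ Ag p g, H ≤ T := by
  rw [Cfsg.Agent.Lib.Helper9.isSubnormal_subgroupOf_iff_le_pCoreOf hH le_sup_left]
  constructor
  · intro h
    refine ⟨Cfsg.pCoreOf p (H ⊔ Subgroup.zpowers g), ?_, h⟩
    rw [mem_Ag]
    exact ⟨Cfsg.Agent.Lib.Helper16.pCoreOf_isPGroup _,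
      Cfsg.Agent.Lib.Helper16.le_normalizer_pCoreOf _ (le_sup_right (a := H) (Subgroup.mem_zpowers g))⟩
  · rintro ⟨T, hT, hHT⟩
    rw [mem_Ag] at hT
    have hK : H ⊔ Subgroup.zpowers g ≤ Subgroup.normalizer (T : Set G) :=
      sup_le (hHT.trans Subgroup.le_normalizer) ((Subgroup.zpowers_le).mpr hT.2)
    have h1 : T ⊓ (H ⊔ Subgroup.zpowers g) ≤ Cfsg.pCoreOf p (H ⊔ Subgroup.zpowers g) := by
      apply Cfsg.Agent.Lib.Helper16.le_pCoreOf inf_le_right _ (hT.1.to_le inf_le_left)
      intro k hk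
      have hkT := hK hk
      rw [Subgroup.mem_normalizer_iff] at hkT ⊢
      intro h
      rw [Subgroup.mem_inf, Subgroup.mem_inf, hkT h]
      constructor
      · rintro ⟨h1, h2⟩
        exact ⟨h1, Subgroup.mul_mem _ (Subgroup.mul_mem _ hk h2) (Subgroup.inv_mem _ hk)⟩
      · rintro ⟨h1, h2⟩
        refine ⟨h1, ?_⟩
        have : h = k⁻¹ * (k * h * k⁻¹) * k := by group
        rw [this]
        exact Subgroup.mul_mem _ (Subgroup.mul_mem _ (Subgroup.inv_mem _ hk) h2) hk
    exact (le_inf hHT le_sup_left).trans h1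

/-- the indicator of the subnormalizer as a Möbius sum -/
theorem indicator_eq {H : Subgroup G} (g : G) :
    (if ∃ T ∈ Ag p g, H ≤ T then (1 : ℤ) else 0)
      = ∑ T ∈ (Ag p g).filter (fun T => H ≤ T), cfun (Ag p g) T := by
  have hup : ∀ x ∈ (Ag p g).filter (fun T => H ≤ T), ∀ y ∈ Ag p g, x ≤ y →
      y ∈ (Ag p g).filter (fun T => H ≤ T) := by
    intro x hx y hy hxy
    rw [Finset.mem_filter] at hx ⊢
    exact ⟨hy, hx.2.trans hxy⟩
  rw [sum_upper _ _ (Finset.filter_subset _ _) hup]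
  by_cases h : ∃ T ∈ Ag p g, H ≤ T
  · rw [if_pos h]
    obtain ⟨T0, hT0, hHT0⟩ := h
    symm
    have hm : sInf (↑((Ag p g).filter (fun T => H ≤ T)) : Set (Subgroup G)) ∈ (Ag p g).filter (fun T => H ≤ T) := by
      rw [Finset.mem_filter, mem_Ag]
      refine ⟨⟨?_, ?_⟩, ?_⟩
      · rw [mem_Ag] at hT0
        apply hT0.1.to_le
        apply sInf_le
        rw [Finset.mem_coe, Finset.mem_filter, mem_Ag]
        exact ⟨hT0, hHT0⟩
      · rw [Subgroup.mem_normalizer_iff]
        intro h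
        rw [Subgroup.mem_sInf, Subgroup.mem_sInf]
        apply forall_congr'
        intro T
        apply forall_congr'
        intro hT
        rw [Finset.mem_coe, Finset.mem_filter, mem_Ag] at hT
        exact Subgroup.mem_normalizer_iff.mp hT.1.2 h
      · apply le_sInf
        intro T hT
        rw [Finset.mem_coe, Finset.mem_filter] at hT
        exact hT.2
    exact tot_of_least _ hm (fun y hy => sInf_le (by exact_mod_cast hy))
  · rw [if_neg h]
    have : (Ag p g).filter (fun T => H ≤ T) = ∅ := by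
      rw [Finset.filter_eq_empty_iff]
      intro T hT hHT
      exact h ⟨T, hT, hHT⟩
    rw [this, tot_empty]

end Cfsg.Agent.Lib.Helper4.Casolo
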