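import Mathlib
import Cfsg.Agent.Lib.Helper4.Casolo1
import Cfsg.Agent.Lib.Helper16.StronglyEmbedded

set_option autoImplicit false
open Classical

namespace Cfsg.Agent.Lib.Helper4.Casolo
open Cfsg.Agent.Lib.Helper4.Mob

variable {G : Type*} [Group G] [Finite G] (p : ℕ) [Fact p.Prime]

/-- quotient `N_G(T)/T` -/
abbrev NQ (T : Subgroup G) : Type _ :=
  ↥(Subgroup.normalizer (T : Set G)) ⧸ T.subgroupOf (Subgroup.normalizer (T : Set G))

instance (T : Subgroup G) : (T.subgroupOf (Subgroup.normalizer (T : Set G))).Normal :=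
  Subgroup.normal_in_normalizer

/-- retraction map -/
noncomputable def rmap (T : Subgroup G) (T' : Subgroup G) : Subgroup (NQ T) :=
  (T'.subgroupOf (Subgroup.normalizer (T : Set G))).map
    (QuotientGroup.mk' (T.subgroupOf (Subgroup.normalizer (T : Set G))))

/-- inflation map -/
noncomputable def imap (T : Subgroup G) (B : Subgroup (NQ T)) : Subgroup G :=
  (B.comap (QuotientGroup.mk' (T.subgroupOf (Subgroup.normalizer (T : Set G))))).map
    (Subgroup.normalizer (T : Set G)).subtype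

theorem mem_imap {T : Subgroup G} {B : Subgroup (NQ T)} {x : G} :
    x ∈ imap T B ↔ ∃ hx : x ∈ Subgroup.normalizer (T : Set G),
      (QuotientGroup.mk ⟨x, hx⟩ : NQ T) ∈ B := by
  unfold imap
  constructor
  · rintro ⟨n, hn, rfl⟩
    exact ⟨n.2, hn⟩
  · rintro ⟨hx, h⟩
    exact ⟨⟨x, hx⟩, h, rfl⟩

theorem mem_rmap {T T' : Subgroup G} {q : NQ T} :
    q ∈ rmap T T' ↔ ∃ x, ∃ hx : x ∈ Subgroup.normalizer (T : Set G), x ∈ T' ∧
      (QuotientGroup.mk ⟨x, hx⟩ : NQ T) = q := by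
  unfold rmap
  constructor
  · rintro ⟨n, hn, rfl⟩
    exact ⟨n.1, n.2, hn, rfl⟩
  · rintro ⟨x, hx, hxT', rfl⟩
    exact ⟨⟨x, hx⟩, hxT', rfl⟩

theorem mk_eq_one_iff {T : Subgroup G} {x : G} (hx : x ∈ Subgroup.normalizer (T : Set G)) :
    (QuotientGroup.mk ⟨x, hx⟩ : NQ T) = 1 ↔ x ∈ T := by
  rw [QuotientGroup.eq_one_iff, Subgroup.mem_subgroupOf]

theorem rmap_imap (T : Subgroup G) (B : Subgroup (NQ T)) : rmap T (imap T B) = B := by
  unfold rmap imap
  have h1 : ((B.comap (QuotientGroup.mk' (T.subgroupOf (Subgroup.normalizer (T : Set G))))).map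
      (Subgroup.normalizer (T : Set G)).subtype).subgroupOf (Subgroup.normalizer (T : Set G))
      = B.comap (QuotientGroup.mk' (T.subgroupOf (Subgroup.normalizer (T : Set G)))) :=
    Subgroup.comap_map_eq_self_of_injective (Subgroup.subtype_injective _) _
  rw [h1]
  exact Subgroup.map_comap_eq_self_of_surjective (QuotientGroup.mk'_surjective _) B

theorem le_imap (T : Subgroup G) (B : Subgroup (NQ T)) : T ≤ imap T B := by
  intro t ht
  rw [mem_imap]
  refine ⟨Subgroup.le_normalizer ht, ?_⟩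
  rw [(mk_eq_one_iff _).mpr ht]
  exact B.one_mem

theorem imap_rmap_le {T T' : Subgroup G} (h : T ≤ T') : imap T (rmap T T') ≤ T' := by
  intro x hx
  rw [mem_imap] at hx
  obtain ⟨hxN, hx⟩ := hx
  rw [mem_rmap] at hx
  obtain ⟨y, hyN, hyT', hy⟩ := hx
  have h1 : (QuotientGroup.mk (⟨y, hyN⟩⁻¹ * ⟨x, hxN⟩) : NQ T) = 1 := by
    rw [QuotientGroup.mk_mul, QuotientGroup.mk_inv, hy]; simp
  have h2 : y⁻¹ * x ∈ T := by
    have := (mk_eq_one_iff (T := T) (x := y⁻¹ * x) (Subgroup.mul_mem _ (Subgroup.inv_mem _ hyN) hxN)).mp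
      (by rw [← h1]; rfl)
    exact this
  have : x = y * (y⁻¹ * x) := by group
  rw [this]
  exact T'.mul_mem hyT' (h h2)

theorem isPGroup_imap {T : Subgroup G} (hT : IsPGroup p T) {B : Subgroup (NQ T)}
    (hB : IsPGroup p B) : IsPGroup p (imap T B) := by
  unfold imap
  apply IsPGroup.map
  apply hB.comap_of_ker_isPGroup
  rw [QuotientGroup.ker_mk']
  exact hT.comap_subtype

theorem isPGroup_rmap {T T' : Subgroup G} (hT' : IsPGroup p T') : IsPGroup p (rmap T T') := by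
  unfold rmap
  apply IsPGroup.map
  exact hT'.comap_subtype

theorem normalizer_imap {T : Subgroup G} {g : G} (hg : g ∈ Subgroup.normalizer (T : Set G))
    {B : Subgroup (NQ T)}
    (hB : (QuotientGroup.mk ⟨g, hg⟩ : NQ T) ∈ Subgroup.normalizer (B : Set (NQ T))) :
    g ∈ Subgroup.normalizer (imap T B : Set G) := by
  apply Cfsg.Agent.Lib.Helper16.mem_normalizer_of_map_conj_le
  rintro _ ⟨x, hx, rfl⟩
  rw [SetLike.mem_coe, mem_imap] at hx
  obtain ⟨hxN, hx⟩ := hx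
  rw [mem_imap]
  have hN : g * x * g⁻¹ ∈ Subgroup.normalizer (T : Set G) :=
    Subgroup.mul_mem _ (Subgroup.mul_mem _ hg hxN) (Subgroup.inv_mem _ hg)
  refine ⟨hN, ?_⟩
  have := (Subgroup.mem_normalizer_iff.mp hB _).mp hx
  exact this

theorem normalizer_rmap {T T' : Subgroup G} {g : G} (hg : g ∈ Subgroup.normalizer (T : Set G))
    (hg' : g ∈ Subgroup.normalizer (T' : Set G)) :
    (QuotientGroup.mk ⟨g, hg⟩ : NQ T) ∈ Subgroup.normalizer (rmap T T' : Set (NQ T)) := by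
  apply Cfsg.Agent.Lib.Helper16.mem_normalizer_of_map_conj_le
  rintro _ ⟨q, hq, rfl⟩
  rw [SetLike.mem_coe, mem_rmap] at hq
  obtain ⟨x, hxN, hxT', rfl⟩ := hq
  rw [mem_rmap]
  have hN : g * x * g⁻¹ ∈ Subgroup.normalizer (T : Set G) :=
    Subgroup.mul_mem _ (Subgroup.mul_mem _ hg hxN) (Subgroup.inv_mem _ hg)
  refine ⟨g * x * g⁻¹, hN, (Subgroup.mem_normalizer_iff.mp hg' _).mp hxT', ?_⟩
  rfl

end Cfsg.Agent.Lib.Helper4.Casolo

namespace Cfsg.Agent.Lib.Helper4.Casolo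
open Cfsg.Agent.Lib.Helper4.Mob

variable {G : Type*} [Group G] [Finite G] (p : ℕ) [Fact p.Prime]

theorem bot_mem_Ag (g : G) : (⊥ : Subgroup G) ∈ Ag p g := by
  rw [mem_Ag]
  refine ⟨IsPGroup.of_bot, ?_⟩
  rw [Subgroup.mem_normalizer_iff]
  intro h
  rw [Subgroup.mem_bot, Subgroup.mem_bot]
  constructor
  · rintro rfl; simp
  · intro h1
    have : h = g⁻¹ * (g * h * g⁻¹) * g := by group
    rw [this, h1]; simp

/-- localisation of the Möbius weight to `N_G(T)/T` -/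
theorem cfun_local {T : Subgroup G} {g : G} (hTp : IsPGroup p T)
    (hg : g ∈ Subgroup.normalizer (T : Set G)) :
    cfun (Ag p g) T = cfun (Ag p (QuotientGroup.mk ⟨g, hg⟩ : NQ T)) ⊥ := by
  have hT : T ∈ Ag p g := (mem_Ag p).mpr ⟨hTp, hg⟩
  rw [cfun_eq_one_sub_tot _ hT, cfun_eq_one_sub_tot _ (bot_mem_Ag p _)]
  congr 1
  apply tot_eq_of_retract _ _ (rmap T) (imap T)
  · -- his
    intro B hB
    rw [Finset.mem_filter, mem_Ag] at hB ⊢
    obtain ⟨⟨hBp, hBn⟩, hBbot⟩ := hB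
    refine ⟨⟨isPGroup_imap p hTp hBp, normalizer_imap hg hBn⟩, ?_⟩
    refine lt_of_le_of_ne (le_imap T B) ?_
    intro heq
    apply hBbot.ne'
    rw [Subgroup.eq_bot_iff_forall]
    intro b hbB
    obtain ⟨n, rfl⟩ := QuotientGroup.mk_surjective b
    have h1 : (n : G) ∈ imap T B := by
      rw [mem_imap]; exact ⟨n.2, hbB⟩
    rw [← heq] at h1
    exact (mk_eq_one_iff n.2).mpr h1
  · -- hrs
    intro T' hT'
    rw [Finset.mem_filter, mem_Ag] at hT' ⊢
    obtain ⟨⟨hT'p, hT'n⟩, hlt⟩ := hT'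
    refine ⟨⟨isPGroup_rmap p hT'p, normalizer_rmap hg hT'n⟩, ?_⟩
    rw [bot_lt_iff_ne_bot]
    intro hbot
    obtain ⟨x, hxT', hxN, hxT⟩ :=
      Cfsg.Agent.Lib.Helper16.exists_mem_normalizer_not_mem hT'p hlt.le hlt.ne
    have : (QuotientGroup.mk ⟨x, hxN⟩ : NQ T) ∈ rmap T T' := by
      rw [mem_rmap]; exact ⟨x, hxN, hxT', rfl⟩
    rw [hbot, Subgroup.mem_bot, mk_eq_one_iff] at this
    exact hxT this
  · -- hr
    intro x _ y _ hxy
    unfold rmap
    exact Subgroup.map_mono (Subgroup.comap_mono hxy)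
  · -- hi
    intro b _ b' _ hbb'
    unfold imap
    exact Subgroup.map_mono (Subgroup.comap_mono hbb')
  · -- hir
    intro T' hT'
    rw [Finset.mem_filter] at hT'
    exact imap_rmap_le hT'.2.le
  · -- hri
    intro B _
    exact rmap_imap T B

end Cfsg.Agent.Lib.Helper4.Casolo
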