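import Mathlib
import Cfsg.Agent.Lib.Helper4.Casolo2

set_option autoImplicit false
open Classical

namespace Cfsg.Agent.Lib.Helper4.Casolo
open Cfsg.Agent.Lib.Helper4.Mob

/-- summing a function of the coset over the group -/
theorem sum_comp_mk {N : Type*} [Group N] [Fintype N] (K : Subgroup N)
    [Fintype (N ⧸ K)] (F : N ⧸ K → ℤ) :
    ∑ n : N, F (QuotientGroup.mk n) = (Nat.card K : ℤ) * ∑ q : N ⧸ K, F q := by
  rw [← Finset.sum_fiberwise (s := Finset.univ) (g := fun n : N => (QuotientGroup.mk n : N ⧸ K))]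
  rw [Finset.mul_sum]
  apply Finset.sum_congr rfl
  intro q _
  have h1 : ∑ i ∈ Finset.univ.filter (fun n : N => (QuotientGroup.mk n : N ⧸ K) = q),
      F (QuotientGroup.mk i) = ∑ i ∈ Finset.univ.filter (fun n : N => (QuotientGroup.mk n : N ⧸ K) = q),
      F q := by
    apply Finset.sum_congr rfl
    intro i hi
    rw [Finset.mem_filter] at hi
    rw [hi.2]
  rw [h1, Finset.sum_const, nsmul_eq_mul]
  congr 1
  have h2 : (Finset.univ.filter (fun n : N => (QuotientGroup.mk n : N ⧸ K) = q)).card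
      = Nat.card ((QuotientGroup.mk : N → N ⧸ K) ⁻¹' {q}) := by
    rw [Nat.card_eq_fintype_card, Fintype.card_subtype]
    congr 1
    ext n
    simp
  rw [h2, Nat.card_congr (QuotientGroup.preimageMkEquivSubgroupProdSet K {q}), Nat.card_prod]
  simp

variable {G : Type*} [Group G] [Finite G] (p : ℕ) [Fact p.Prime]

/-- `w(L) = ∑_l c_l(⊥)` -/
noncomputable def wsum (L : Type*) [Group L] [Finite L] : ℤ :=
  ∑ᶠ l : L, cfun (Ag p l) ⊥

/-- `W(T) = ∑_g c_g(T)` -/
noncomputable def Wsum (T : Subgroup G) : ℤ :=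
  ∑ᶠ g : G, cfun (Ag p g) T

theorem Wsum_bot : Wsum p (⊥ : Subgroup G) = wsum p G := rfl

theorem Wsum_local {T : Subgroup G} (hTp : IsPGroup p T) :
    Wsum p T = (Nat.card T : ℤ) * wsum p (NQ T) := by
  haveI : Fintype G := Fintype.ofFinite G
  haveI : Fintype (NQ T) := Fintype.ofFinite _
  unfold Wsum wsum
  rw [finsum_eq_sum_of_fintype, finsum_eq_sum_of_fintype]
  have h1 : ∑ g : G, cfun (Ag p g) T
      = ∑ n : ↥(Subgroup.normalizer (T : Set G)), cfun (Ag p (n : G)) T := by
    rw [← Finset.sum_subtype (Finset.univ.filter (fun g : G => g ∈ Subgroup.normalizer (T : Set G)))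
      (by intro x; simp) (fun g => cfun (Ag p g) T)]
    rw [Finset.sum_filter_of_ne]
    intro g _ hne
    by_contra hg
    apply hne
    apply cfun_of_not_mem
    rw [mem_Ag]
    exact fun h => hg h.2
  rw [h1]
  have h2 : ∀ n : ↥(Subgroup.normalizer (T : Set G)), cfun (Ag p (n : G)) T
      = cfun (Ag p (QuotientGroup.mk n : NQ T)) ⊥ := by
    intro n
    exact cfun_local p hTp n.2
  rw [Finset.sum_congr rfl (fun n _ => h2 n)]
  rw [sum_comp_mk (T.subgroupOf (Subgroup.normalizer (T : Set G)))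
    (fun q : NQ T => cfun (Ag p q) ⊥)]
  congr 2
  exact Nat.card_congr (Subgroup.subgroupOfEquivOfLe Subgroup.le_normalizer).toEquiv

end Cfsg.Agent.Lib.Helper4.Casolo
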