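import Mathlib
import Cfsg.Agent.Lib.Helper4.Casolo3

set_option autoImplicit false
open Classical

namespace Cfsg.Agent.Lib.Helper4.Casolo
open Cfsg.Agent.Lib.Helper4.Mob

universe u
variable {G : Type u} [Group G] [Finite G] (p : ℕ) [Fact p.Prime]

/-- all `p`-subgroups -/
noncomputable def PS (G : Type u) [Group G] [Finite G] (p : ℕ) : Finset (Subgroup G) :=
  (Set.toFinite {T : Subgroup G | IsPGroup p T}).toFinset

theorem mem_PS {T : Subgroup G} : T ∈ PS G p ↔ IsPGroup p T := by
  unfold PS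
  rw [Set.Finite.mem_toFinset]
  rfl

theorem Ag_subset_PS (g : G) : Ag p g ⊆ PS G p := by
  intro T hT
  rw [mem_Ag] at hT
  rw [mem_PS]
  exact hT.1

/-- the count of the subnormalizer as a sum of `W` -/
theorem card_subn_eq {H : Subgroup G} (hH : IsPGroup p H) :
    (Nat.card {g : G // ((H).subgroupOf (H ⊔ Subgroup.zpowers g)).IsSubnormal} : ℤ)
      = ∑ T ∈ (PS G p).filter (fun T => H ≤ T), Wsum p T := by
  haveI : Fintype G := Fintype.ofFinite G
  rw [Nat.card_eq_fintype_card, Fintype.card_subtype]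
  rw [Finset.card_filter]
  push_cast
  have h1 : ∀ g : G, (if ((H).subgroupOf (H ⊔ Subgroup.zpowers g)).IsSubnormal then (1 : ℤ) else 0)
      = ∑ T ∈ (PS G p).filter (fun T => H ≤ T), cfun (Ag p g) T := by
    intro g
    rw [if_congr (subn_iff p hH g) rfl rfl, indicator_eq p g]
    apply Finset.sum_subset
    · intro T hT
      rw [Finset.mem_filter] at hT ⊢
      exact ⟨Ag_subset_PS p g hT.1, hT.2⟩
    · intro T hT hT'
      apply cfun_of_not_mem
      intro h
      apply hT'
      rw [Finset.mem_filter] at hT ⊢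
      exact ⟨h, hT.2⟩
  rw [Finset.sum_congr rfl (fun g _ => h1 g), Finset.sum_comm]
  apply Finset.sum_congr rfl
  intro T _
  unfold Wsum
  rw [finsum_eq_sum_of_fintype]

/-- `T` is (the carrier of) a Sylow `p`-subgroup -/
def isSyl (T : Subgroup G) : Prop := ∃ Q : Sylow p G, (Q : Subgroup G) = T

theorem card_mul_card_NQ (T : Subgroup G) :
    Nat.card T * Nat.card (NQ T) = Nat.card (Subgroup.normalizer (T : Set G)) := by
  rw [Subgroup.card_eq_card_quotient_mul_card_subgroup
    (T.subgroupOf (Subgroup.normalizer (T : Set G))), mul_comm]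
  congr 1
  exact (Nat.card_congr (Subgroup.subgroupOfEquivOfLe Subgroup.le_normalizer).toEquiv).symm

theorem dvd_card_NQ_iff {T : Subgroup G} (hT : IsPGroup p T) :
    p ∣ Nat.card (NQ T) ↔ ¬ isSyl p T := by
  constructor
  · rintro hdvd ⟨Q, rfl⟩
    have h1 : Nat.card (NQ (Q : Subgroup G)) ∣ (Q : Subgroup G).index := by
      have h2 := Subgroup.relIndex_mul_index (Subgroup.le_normalizer (H := (Q : Subgroup G)))
      rw [← h2]
      exact Dvd.intro _ rfl
    exact Q.not_dvd_index (hdvd.trans h1)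
  · intro hns
    obtain ⟨Q, hQ⟩ := hT.exists_le_sylow
    have hne : T ≠ (Q : Subgroup G) := fun h => hns ⟨Q, h.symm⟩
    obtain ⟨x, hxQ, hxN, hxT⟩ :=
      Cfsg.Agent.Lib.Helper16.exists_mem_normalizer_not_mem Q.isPGroup' hQ hne
    -- the image of x is a nontrivial p-element
    set q : NQ T := QuotientGroup.mk ⟨x, hxN⟩ with hq
    have hq1 : q ≠ 1 := by
      intro h
      exact hxT ((mk_eq_one_iff hxN).mp h)
    obtain ⟨k, hk⟩ := (IsPGroup.iff_orderOf.mp Q.isPGroup') ⟨x, hxQ⟩
    have hxk : x ^ p ^ k = 1 := by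
      have := pow_orderOf_eq_one (⟨x, hxQ⟩ : (Q : Subgroup G))
      rw [hk] at this
      exact congrArg Subtype.val this
    have hqk : q ^ p ^ k = 1 := by
      rw [hq, ← QuotientGroup.mk_pow]
      have : (⟨x, hxN⟩ : ↥(Subgroup.normalizer (T : Set G))) ^ p ^ k = 1 := by
        apply Subtype.ext
        simpa using hxk
      rw [this]
      rfl
    obtain ⟨j, hj, hjo⟩ := (Nat.dvd_prime_pow (Fact.out : p.Prime)).mp (orderOf_dvd_of_pow_eq_one hqk)
    have hj0 : j ≠ 0 := by
      rintro rfl
      rw [pow_zero, orderOf_eq_one_iff] at hjo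
      exact hq1 hjo
    have : p ∣ orderOf q := by
      rw [hjo]; exact dvd_pow_self p hj0
    exact this.trans (orderOf_dvd_natCard q)

/-- evaluation of `W(T)` given the value of `w(N(T)/T)` -/
theorem Wsum_eval_of {T : Subgroup G} (hT : IsPGroup p T)
    (hw : wsum p (NQ T) = if p ∣ Nat.card (NQ T) then 0 else (Nat.card (NQ T) : ℤ)) :
    Wsum p T = if isSyl p T then (Nat.card (Subgroup.normalizer (T : Set G)) : ℤ) else 0 := by
  rw [Wsum_local p hT, hw]
  by_cases h : isSyl p T
  · rw [if_pos h, if_neg (fun hd => (dvd_card_NQ_iff p hT).mp hd h)]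
    rw [← card_mul_card_NQ T]
    push_cast
    ring
  · rw [if_neg h, if_pos ((dvd_card_NQ_iff p hT).mpr h)]
    ring

/-- sum of normalizer orders over Sylow subgroups containing `H` -/
theorem sum_syl_eq (H : Subgroup G) (P : Sylow p G) :
    ∑ T ∈ (PS G p).filter (fun T => H ≤ T),
      (if isSyl p T then (Nat.card (Subgroup.normalizer (T : Set G)) : ℤ) else 0)
    = (Nat.card {Q : Sylow p G // H ≤ (Q : Subgroup G)} : ℤ)
        * Nat.card (Subgroup.normalizer ((P : Subgroup G) : Set G)) := by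
  haveI : Fintype (Sylow p G) := Fintype.ofFinite _
  rw [← Finset.sum_filter]
  have hcard : ∀ Q : Sylow p G, Nat.card (Subgroup.normalizer ((Q : Subgroup G) : Set G))
      = Nat.card (Subgroup.normalizer ((P : Subgroup G) : Set G)) := by
    intro Q
    have h1 := Subgroup.card_mul_index (Subgroup.normalizer ((Q : Subgroup G) : Set G))
    have h2 := Subgroup.card_mul_index (Subgroup.normalizer ((P : Subgroup G) : Set G))
    have e1 : (Subgroup.normalizer ((Q : Subgroup G) : Set G)).index = Nat.card (Sylow p G) :=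
      Q.card_eq_index_normalizer.symm
    have e2 : (Subgroup.normalizer ((P : Subgroup G) : Set G)).index = Nat.card (Sylow p G) :=
      P.card_eq_index_normalizer.symm
    rw [e1] at h1
    rw [e2] at h2
    have hpos : 0 < Nat.card (Sylow p G) := Nat.card_pos
    exact Nat.eq_of_mul_eq_mul_right hpos (h1.trans h2.symm)
  have h3 : ∑ T ∈ ((PS G p).filter (fun T => H ≤ T)).filter (fun T => isSyl p T),
      (Nat.card (Subgroup.normalizer (T : Set G)) : ℤ)
      = ∑ Q ∈ (Finset.univ.filter (fun Q : Sylow p G => H ≤ (Q : Subgroup G))),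
        (Nat.card (Subgroup.normalizer ((Q : Subgroup G) : Set G)) : ℤ) := by
    symm
    apply Finset.sum_bij (fun (Q : Sylow p G) _ => (Q : Subgroup G))
    · intro Q hQ
      rw [Finset.mem_filter] at hQ
      rw [Finset.mem_filter, Finset.mem_filter, mem_PS]
      exact ⟨⟨Q.isPGroup', hQ.2⟩, ⟨Q, rfl⟩⟩
    · intro Q _ Q' _ h
      exact Sylow.ext h
    · intro T hT
      rw [Finset.mem_filter, Finset.mem_filter] at hT
      obtain ⟨⟨_, hHT⟩, ⟨Q, rfl⟩⟩ := hT
      exact ⟨Q, by rw [Finset.mem_filter]; exact ⟨Finset.mem_univ _, hHT⟩, rfl⟩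
    · intro Q _
      rfl
  rw [h3, Finset.sum_congr rfl (fun Q _ => by rw [hcard Q]), Finset.sum_const, nsmul_eq_mul]
  congr 1
  rw [Nat.card_eq_fintype_card, Fintype.card_subtype]

end Cfsg.Agent.Lib.Helper4.Casolo
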