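import Mathlib
import Cfsg.Agent.Lib.Helper4.Casolo4

set_option autoImplicit false
open Classical

namespace Cfsg.Agent.Lib.Helper4.Casolo
open Cfsg.Agent.Lib.Helper4.Mob

universe u
variable {G : Type u} [Group G] [Finite G] (p : ℕ) [Fact p.Prime]

theorem isSyl_bot_iff : isSyl p (⊥ : Subgroup G) ↔ ¬ p ∣ Nat.card G := by
  constructor
  · rintro ⟨Q, hQ⟩ hdvd
    have h1 := Q.not_dvd_index
    rw [hQ, Subgroup.index_bot] at h1
    exact h1 hdvd
  · intro hnd
    obtain ⟨Q⟩ : Nonempty (Sylow p G) := inferInstance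
    refine ⟨Q, ?_⟩
    have h1 := Q.card_eq_multiplicity
    rw [Nat.factorization_eq_zero_of_not_dvd hnd, pow_zero] at h1
    exact (Subgroup.card_eq_one).mp h1

theorem sum_syl_all (P : Sylow p G) :
    ∑ T ∈ PS G p,
      (if isSyl p T then (Nat.card (Subgroup.normalizer (T : Set G)) : ℤ) else 0)
    = (Nat.card G : ℤ) := by
  have h := sum_syl_eq p (⊥ : Subgroup G) P
  rw [Finset.filter_true_of_mem (fun T _ => bot_le)] at h
  rw [h]
  have h1 : Nat.card {Q : Sylow p G // (⊥ : Subgroup G) ≤ (Q : Subgroup G)} = Nat.card (Sylow p G) :=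
    Nat.card_congr (Equiv.subtypeUnivEquiv (fun Q => bot_le))
  have e : Nat.card (Sylow p G) = (Subgroup.normalizer ((P : Subgroup G) : Set G)).index :=
    P.card_eq_index_normalizer
  rw [h1, e]
  have h2 := Subgroup.card_mul_index (Subgroup.normalizer ((P : Subgroup G) : Set G))
  rw [← h2]
  push_cast
  ring

theorem wsum_eq : ∀ n : ℕ, ∀ (L : Type u) [Group L] [Finite L], Nat.card L = n →
    wsum p L = if p ∣ n then 0 else (n : ℤ) := by
  intro n
  induction n using Nat.strong_induction_on with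
  | _ n ih =>
    intro L _ _ hL
    obtain ⟨P⟩ : Nonempty (Sylow p L) := inferInstance
    have h1 := card_subn_eq p (H := (⊥ : Subgroup L)) IsPGroup.of_bot
    have h2 : Nat.card {g : L // ((⊥ : Subgroup L).subgroupOf (⊥ ⊔ Subgroup.zpowers g)).IsSubnormal}
        = Nat.card L := by
      apply Nat.card_congr
      exact Equiv.subtypeUnivEquiv (fun g => by
        rw [Subgroup.bot_subgroupOf]; exact Subgroup.IsSubnormal.bot)
    rw [h2, Finset.filter_true_of_mem (fun T _ => bot_le)] at h1
    have hbot : (⊥ : Subgroup L) ∈ PS L p := (mem_PS p).mpr IsPGroup.of_bot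
    have h3 : ∀ T ∈ (PS L p).erase ⊥, Wsum p T
        = if isSyl p T then (Nat.card (Subgroup.normalizer (T : Set L)) : ℤ) else 0 := by
      intro T hT
      rw [Finset.mem_erase] at hT
      obtain ⟨hne, hT⟩ := hT
      apply Wsum_eval_of p ((mem_PS p).mp hT)
      apply ih (Nat.card (NQ T)) _ (NQ T) rfl
      have e1 := card_mul_card_NQ T
      have e2 : 2 ≤ Nat.card T := by
        have := (Subgroup.one_lt_card_iff_ne_bot (H := T)).mpr hne
        omega
      have e3 : Nat.card (Subgroup.normalizer (T : Set L)) ≤ Nat.card L :=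
        Subgroup.card_le_card_group _
      have e4 : 0 < Nat.card (NQ T) := Nat.card_pos
      rw [hL] at e3
      nlinarith
    rw [← Finset.add_sum_erase _ _ hbot, Wsum_bot, Finset.sum_congr rfl h3] at h1
    have h4 := sum_syl_all p P
    rw [← Finset.add_sum_erase _ _ hbot] at h4
    have h5 : Nat.card (Subgroup.normalizer ((⊥ : Subgroup L) : Set L)) = Nat.card L := by
      rw [Subgroup.normalizer_eq_top_iff.mpr inferInstance, Subgroup.card_top]
    rw [h5] at h4
    have h6 : wsum p L = if isSyl p (⊥ : Subgroup L) then (Nat.card L : ℤ) else 0 := by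
      linarith
    rw [h6, hL]
    by_cases hd : p ∣ n
    · rw [if_pos hd, if_neg]
      rw [isSyl_bot_iff, hL]
      exact fun h => h hd
    · rw [if_neg hd, if_pos]
      rw [isSyl_bot_iff, hL]
      exact hd

theorem Wsum_eval {T : Subgroup G} (hT : IsPGroup p T) :
    Wsum p T = if isSyl p T then (Nat.card (Subgroup.normalizer (T : Set G)) : ℤ) else 0 :=
  Wsum_eval_of p hT (wsum_eq p _ (NQ T) rfl)

/-- **Casolo's theorem**: the subnormalizer of a `p`-subgroup `H` has
`λ_G(H) · |N_G(P)|` elements. -/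
theorem casolo {H : Subgroup G} (hH : IsPGroup p H) (P : Sylow p G) :
    Nat.card {g : G // ((H).subgroupOf (H ⊔ Subgroup.zpowers g)).IsSubnormal}
      = Nat.card {Q : Sylow p G // H ≤ (Q : Subgroup G)}
        * Nat.card (Subgroup.normalizer ((P : Subgroup G) : Set G)) := by
  have h1 := card_subn_eq p hH
  rw [Finset.sum_congr rfl (fun T hT => Wsum_eval p ((mem_PS p).mp (Finset.mem_filter.mp hT).1)),
    sum_syl_eq p H P] at h1
  exact_mod_cast h1

end Cfsg.Agent.Lib.Helper4.Casolo
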