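import Mathlib
import Cfsg.Agent.Lib.Helper4.Casolo5

set_option autoImplicit false
open Classical
open scoped Pointwise

namespace Cfsg.Agent.Lib.Helper4.Casolo

universe u
variable {G : Type u} [Group G] [Finite G] (p : ℕ) [Fact p.Prime]

theorem card_eq_mul_of_fibers {X Y : Type*} [Finite X] [Finite Y] (f : X → Y) (m : ℕ)
    (h : ∀ y, Nat.card {x // f x = y} = m) : Nat.card X = Nat.card Y * m := by
  haveI : Fintype Y := Fintype.ofFinite Y
  rw [← Nat.card_congr (Equiv.sigmaFiberEquiv f), Nat.card_sigma]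
  simp only [h, Finset.sum_const, Finset.card_univ, smul_eq_mul, Nat.card_eq_fintype_card]

theorem map_conj_mul (H : Subgroup G) (a b : G) :
    H.map (MulAut.conj (a * b)).toMonoidHom
      = (H.map (MulAut.conj b).toMonoidHom).map (MulAut.conj a).toMonoidHom := by
  rw [Subgroup.map_map]
  congr 1
  ext x
  simp [mul_assoc]

theorem map_conj_eq_iff (H : Subgroup G) (a b : G) :
    H.map (MulAut.conj a).toMonoidHom = H.map (MulAut.conj b).toMonoidHom
      ↔ b⁻¹ * a ∈ Subgroup.normalizer (H : Set G) := by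
  rw [Subgroup.mem_normalizer_iff_map_conj_eq]
  have h1 : H.map (MulAut.conj (b⁻¹ * a))
      = (H.map (MulAut.conj a).toMonoidHom).map (MulAut.conj b⁻¹).toMonoidHom :=
    map_conj_mul H b⁻¹ a
  constructor
  · intro h
    show H.map (MulAut.conj (b⁻¹ * a)).toMonoidHom = H
    rw [map_conj_mul, h, ← map_conj_mul]
    simp
    exact Subgroup.map_id H
  · intro h
    have h2 : H.map (MulAut.conj (b⁻¹ * a)).toMonoidHom = H := h
    have : a = b * (b⁻¹ * a) := by group
    rw [this, map_conj_mul, h2]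

/-- the set `X = {x : xHx⁻¹ ≤ P}` counted via conjugates of `H` in `P` -/
theorem card_X_a (H : Subgroup G) (P : Subgroup G) :
    Nat.card {x : G // H.map (MulAut.conj x).toMonoidHom ≤ P}
      = Nat.card {K : Subgroup G // K ≤ P ∧ ∃ g : G, K = H.map (MulAut.conj g).toMonoidHom}
        * Nat.card (Subgroup.normalizer (H : Set G)) := by
  apply card_eq_mul_of_fibers
    (fun x : {x : G // H.map (MulAut.conj x).toMonoidHom ≤ P} =>
      (⟨H.map (MulAut.conj x.1).toMonoidHom, x.2, x.1, rfl⟩ :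
        {K : Subgroup G // K ≤ P ∧ ∃ g : G, K = H.map (MulAut.conj g).toMonoidHom}))
  rintro ⟨K, hKP, g0, rfl⟩
  apply Nat.card_congr
  refine ⟨fun x => ⟨g0⁻¹ * x.1.1, ?_⟩, fun n => ⟨⟨g0 * n.1, ?_⟩, ?_⟩, ?_, ?_⟩
  · have := x.2
    rw [Subtype.mk.injEq] at this
    exact (map_conj_eq_iff H _ _).mp this
  · have : H.map (MulAut.conj (g0 * n.1)).toMonoidHom = H.map (MulAut.conj g0).toMonoidHom := by
      rw [map_conj_eq_iff]
      have : g0⁻¹ * (g0 * n.1) = n.1 := by group
      rw [this]; exact n.2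
    rw [this]; exact hKP
  · rw [Subtype.mk.injEq]
    show H.map (MulAut.conj (g0 * n.1)).toMonoidHom = H.map (MulAut.conj g0).toMonoidHom
    rw [map_conj_eq_iff]
    have : g0⁻¹ * (g0 * n.1) = n.1 := by group
    rw [this]; exact n.2
  · intro x
    apply Subtype.ext; apply Subtype.ext
    show g0 * (g0⁻¹ * x.1.1) = x.1.1
    group
  · intro n
    apply Subtype.ext
    show g0⁻¹ * (g0 * n.1) = n.1
    group

theorem le_inv_smul_iff (H : Subgroup G) (P : Sylow p G) (x : G) :
    H ≤ ((x⁻¹ • P : Sylow p G) : Subgroup G) ↔ H.map (MulAut.conj x).toMonoidHom ≤ P := by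
  rw [Sylow.coe_subgroup_smul]
  constructor
  · rintro h _ ⟨y, hy, rfl⟩
    have := h hy
    rw [Subgroup.mem_pointwise_smul_iff_inv_smul_mem] at this
    simpa using this
  · intro h y hy
    rw [Subgroup.mem_pointwise_smul_iff_inv_smul_mem]
    have := h ⟨y, hy, rfl⟩
    simpa using this

theorem card_X_b (H : Subgroup G) (P : Sylow p G) :
    Nat.card {x : G // H.map (MulAut.conj x).toMonoidHom ≤ P}
      = Nat.card {Q : Sylow p G // H ≤ (Q : Subgroup G)}
        * Nat.card (Subgroup.normalizer ((P : Subgroup G) : Set G)) := by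
  apply card_eq_mul_of_fibers
    (fun x : {x : G // H.map (MulAut.conj x).toMonoidHom ≤ P} =>
      (⟨x.1⁻¹ • P, (le_inv_smul_iff p H P x.1).mpr x.2⟩ :
        {Q : Sylow p G // H ≤ (Q : Subgroup G)}))
  rintro ⟨Q, hQ⟩
  obtain ⟨g1, rfl⟩ := MulAction.exists_smul_eq G P Q
  apply Nat.card_congr
  have key : ∀ x : G, x⁻¹ • P = g1 • P ↔ x * g1 ∈ Subgroup.normalizer ((P : Subgroup G) : Set G) := by
    intro x
    have e : (x * g1) • P = P ↔ x * g1 ∈ Subgroup.normalizer ((P : Subgroup G) : Set G) :=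
      Sylow.smul_eq_iff_mem_normalizer
    rw [← e, mul_smul]
    constructor
    · intro h
      rw [← h, smul_inv_smul]
    · intro h
      calc x⁻¹ • P = x⁻¹ • (x • g1 • P) := by rw [h]
        _ = g1 • P := inv_smul_smul _ _
  refine ⟨fun x => ⟨x.1.1 * g1, ?_⟩, fun n => ⟨⟨n.1 * g1⁻¹, ?_⟩, ?_⟩, ?_, ?_⟩
  · have := x.2
    rw [Subtype.mk.injEq] at this
    exact (key _).mp this
  · rw [← le_inv_smul_iff]
    have : (n.1 * g1⁻¹)⁻¹ • P = g1 • P := by
      rw [key]
      have : n.1 * g1⁻¹ * g1 = n.1 := by group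
      rw [this]; exact n.2
    rw [this]; exact hQ
  · rw [Subtype.mk.injEq]
    show (n.1 * g1⁻¹)⁻¹ • P = g1 • P
    rw [key]
    have : n.1 * g1⁻¹ * g1 = n.1 := by group
    rw [this]; exact n.2
  · intro x
    apply Subtype.ext; apply Subtype.ext
    show x.1.1 * g1 * g1⁻¹ = x.1.1
    group
  · intro n
    apply Subtype.ext
    show n.1 * g1⁻¹ * g1 = n.1
    group

end Cfsg.Agent.Lib.Helper4.Casolo
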