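import Mathlib
import Cfsg.Agent.Lib.Helper4.Casolo6
import Cfsg.Agent.Lib.Helper4.HallSystemQuot

set_option autoImplicit false
open Classical
open scoped Pointwise

namespace Cfsg.Agent.Lib.Helper4.Casolo

universe u
variable {G : Type u} [Group G] [Finite G] (p : ℕ) [Fact p.Prime]

/-- conjugate subgroup `xHx⁻¹` -/
abbrev cj (x : G) (H : Subgroup G) : Subgroup G := H.map (MulAut.conj x).toMonoidHom

theorem mem_cj {x y : G} {H : Subgroup G} : y ∈ cj x H ↔ x⁻¹ * y * x ∈ H := by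
  constructor
  · rintro ⟨h, hh, rfl⟩
    have : x⁻¹ * (MulAut.conj x).toMonoidHom h * x = h := by
      simp [MulAut.conj_apply]; group
    rw [this]; exact hh
  · intro h
    refine ⟨x⁻¹ * y * x, h, ?_⟩
    simp [MulAut.conj_apply]; group

theorem conj_mem_cj {x h : G} {H : Subgroup G} (hh : h ∈ H) : x * h * x⁻¹ ∈ cj x H :=
  ⟨h, hh, by simp [MulAut.conj_apply]⟩

theorem cj_mul (a b : G) (H : Subgroup G) : cj (a * b) H = cj a (cj b H) := map_conj_mul H a b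

theorem cj_mono (x : G) {H K : Subgroup G} (h : H ≤ K) : cj x H ≤ cj x K := Subgroup.map_mono h

theorem cj_of_mem {x : G} {H : Subgroup G} (hx : x ∈ H) : cj x H = H := by
  ext y
  rw [mem_cj]
  constructor
  · intro h
    have : y = x * (x⁻¹ * y * x) * x⁻¹ := by group
    rw [this]
    exact H.mul_mem (H.mul_mem hx h) (H.inv_mem hx)
  · intro h
    exact H.mul_mem (H.mul_mem (H.inv_mem hx) h) hx

theorem cj_normal (x : G) (M : Subgroup G) [hM : M.Normal] : cj x M = M := by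
  ext y
  rw [mem_cj]
  constructor
  · intro h
    have : y = x * (x⁻¹ * y * x) * x⁻¹ := by group
    rw [this]
    exact hM.conj_mem _ h x
  · intro h
    have := hM.conj_mem _ h x⁻¹
    simpa using this

theorem cj_sup (x : G) (A B : Subgroup G) : cj x (A ⊔ B) = cj x A ⊔ cj x B := Subgroup.map_sup _ _ _

/-- conjugation invariance of the commutator count -/
theorem card_comm_cj (H M1 M2 : Subgroup G) [hM1 : M1.Normal] [hM2 : M2.Normal] (g : G) :
    Nat.card {u : G // u ∈ M2 ∧ ∀ h ∈ cj g H, h * u * h⁻¹ * u⁻¹ ∈ M1}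
      = Nat.card {u : G // u ∈ M2 ∧ ∀ h ∈ H, h * u * h⁻¹ * u⁻¹ ∈ M1} := by
  apply Nat.card_congr
  refine ⟨fun u => ⟨g⁻¹ * u.1 * g, ?_, ?_⟩, fun u => ⟨g * u.1 * g⁻¹, ?_, ?_⟩, ?_, ?_⟩
  · have := hM2.conj_mem _ u.2.1 g⁻¹
    simpa using this
  · intro h hh
    have h1 := u.2.2 (g * h * g⁻¹) (conj_mem_cj hh)
    have h2 := hM1.conj_mem _ h1 g⁻¹
    have e : g⁻¹ * (g * h * g⁻¹ * u.1 * (g * h * g⁻¹)⁻¹ * u.1⁻¹) * g⁻¹⁻¹
        = h * (g⁻¹ * u.1 * g) * h⁻¹ * (g⁻¹ * u.1 * g)⁻¹ := by group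
    rw [← e]; exact h2
  · exact hM2.conj_mem _ u.2.1 g
  · intro h hh
    rw [mem_cj] at hh
    have h1 := u.2.2 _ hh
    have h2 := hM1.conj_mem _ h1 g
    have e : g * (g⁻¹ * h * g * u.1 * (g⁻¹ * h * g)⁻¹ * u.1⁻¹) * g⁻¹
        = h * (g * u.1 * g⁻¹) * h⁻¹ * (g * u.1 * g⁻¹)⁻¹ := by group
    rw [← e]; exact h2
  · intro u
    apply Subtype.ext
    show g * (g⁻¹ * u.1 * g) * g⁻¹ = u.1
    group
  · intro u
    apply Subtype.ext
    show g⁻¹ * (g * u.1 * g⁻¹) * g = u.1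
    group

/-- a `p`-subgroup of `P ⊔ M` is conjugate into `P` by an element of `M` -/
theorem exists_cj_le (P : Sylow p G) (M : Subgroup G) [hM : M.Normal] {H' : Subgroup G}
    (hH' : IsPGroup p H') (hle : H' ≤ (P : Subgroup G) ⊔ M) :
    ∃ u0 ∈ M, cj u0 H' ≤ (P : Subgroup G) := by
  set B := (P : Subgroup G) ⊔ M with hB
  -- Sylow of B
  let PB : Sylow p B := P.subtype (le_sup_left)
  obtain ⟨Q, hQ⟩ := (hH'.comap_subtype (K := B)).exists_le_sylow
  obtain ⟨b, hb⟩ := MulAction.exists_smul_eq B Q PB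
  -- b H' b⁻¹ ≤ P
  have h1 : cj (b : G) H' ≤ (P : Subgroup G) := by
    rintro _ ⟨h, hh, rfl⟩
    have hhB : h ∈ B := hle hh
    have h2 : (⟨h, hhB⟩ : B) ∈ (Q : Subgroup B) := hQ (by
      rw [Subgroup.mem_comap]; exact hh)
    have h3 : b * ⟨h, hhB⟩ * b⁻¹ ∈ ((b • Q : Sylow p B) : Subgroup B) := by
      rw [Sylow.coe_subgroup_smul, Subgroup.mem_pointwise_smul_iff_inv_smul_mem]
      simpa [MulAut.smul_def, MulAut.conj_apply, mul_assoc] using h2
    rw [hb] at h3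
    have h4 : ((b * ⟨h, hhB⟩ * b⁻¹ : B) : G) ∈ (P : Subgroup G) := by
      have := h3
      rw [show ((PB : Sylow p B) : Subgroup B) = (P : Subgroup G).subgroupOf B from rfl,
        Subgroup.mem_subgroupOf] at this
      exact this
    simpa [MulAut.conj_apply] using h4
  -- decompose b = y * u0
  have hbB : (b : G) ∈ (P : Subgroup G) ⊔ M := b.2
  rw [Subgroup.mem_sup_of_normal_right] at hbB
  obtain ⟨y, hy, u0, hu0, hyu⟩ := hbB
  refine ⟨u0, hu0, ?_⟩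
  rw [← hyu, cj_mul] at h1
  have h5 := cj_mono y⁻¹ h1
  rw [← cj_mul, inv_mul_cancel] at h5
  have h6 : cj (1 : G) (cj u0 H') = cj u0 H' := by
    ext z; rw [mem_cj]; simp
  rw [h6, cj_of_mem (P.inv_mem hy)] at h5
  exact h5

/-- in a `p'`-layer, `(P ⊔ M1) ⊓ M2 ≤ M1` -/
theorem inf_le_of_coprime (P : Sylow p G) (M1 M2 : Subgroup G) [hM1 : M1.Normal]
    (h12 : M1 ≤ M2) (hcop : (M1.relIndex M2).Coprime p) :
    ((P : Subgroup G) ⊔ M1) ⊓ M2 ≤ M1 := by
  intro z hz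
  rw [Subgroup.mem_inf] at hz
  obtain ⟨hz1, hz2⟩ := hz
  rw [Subgroup.mem_sup_of_normal_right] at hz1
  obtain ⟨y, hy, m, hm, rfl⟩ := hz1
  have hyM2 : y ∈ M2 := by
    have : y = y * m * m⁻¹ := by group
    rw [this]
    exact M2.mul_mem hz2 (M2.inv_mem (h12 hm))
  suffices hyM1 : y ∈ M1 from M1.mul_mem hyM1 hm
  -- y is a p-element of M2
  obtain ⟨k, hk⟩ := P.isPGroup' ⟨y, hy⟩
  have hk' : y ^ p ^ k = 1 := congrArg Subtype.val hk
  haveI : (M1.subgroupOf M2).Normal := hM1.subgroupOf M2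
  set q : ↥M2 ⧸ M1.subgroupOf M2 := QuotientGroup.mk ⟨y, hyM2⟩ with hq
  have h1 : q ^ p ^ k = 1 := by
    rw [hq, ← QuotientGroup.mk_pow]
    have : (⟨y, hyM2⟩ : ↥M2) ^ p ^ k = 1 := Subtype.ext (by simpa using hk')
    rw [this]; rfl
  have h2 : q ^ (M1.relIndex M2) = 1 := by
    have : M1.relIndex M2 = Nat.card (↥M2 ⧸ M1.subgroupOf M2) := by
      rw [Subgroup.relIndex, Subgroup.index_eq_card]
    rw [this]
    exact pow_card_eq_one'
  have h3 := (pow_gcd_eq_one (a := q)).mpr ⟨h1, h2⟩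
  have h4 : Nat.gcd (p ^ k) (M1.relIndex M2) = 1 :=
    Nat.Coprime.pow_left k hcop.symm
  rw [h4, pow_one, hq, QuotientGroup.eq_one_iff, Subgroup.mem_subgroupOf] at h3
  exact h3

/-- in a `p`-layer, `P ⊔ M1 = P ⊔ M2` -/
theorem sup_eq_of_pow (P : Sylow p G) (M1 M2 : Subgroup G) [hM1 : M1.Normal] [hM2 : M2.Normal]
    (h12 : M1 ≤ M2) {m : ℕ} (hpow : M1.relIndex M2 = p ^ m) :
    (P : Subgroup G) ⊔ M1 = (P : Subgroup G) ⊔ M2 := by
  apply le_antisymm (sup_le_sup_left h12 _)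
  apply sup_le le_sup_left
  set D := ((P : Subgroup G) ⊓ M2) ⊔ M1 with hD
  have hDle : D ≤ (P : Subgroup G) ⊔ M1 := sup_le_sup_right inf_le_left _
  refine le_trans ?_ hDle
  rw [← Subgroup.relIndex_eq_one]
  have h1 : D.relIndex M2 ∣ p ^ m := by
    rw [← hpow]
    exact Subgroup.relIndex_dvd_of_le_left M2 le_sup_right
  have h2 : D.relIndex M2 ∣ (P : Subgroup G).index := by
    have h3 : D.relIndex M2 ∣ ((P : Subgroup G) ⊓ M2).relIndex M2 :=
      Subgroup.relIndex_dvd_of_le_left M2 le_sup_left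
    rw [Subgroup.inf_relIndex_right] at h3
    exact h3.trans (relIndex_dvd_index_of_normal_right (P : Subgroup G) M2)
  obtain ⟨j, _, hj⟩ := (Nat.dvd_prime_pow (Fact.out : p.Prime)).mp h1
  rw [hj] at h2 ⊢
  rcases Nat.eq_zero_or_pos j with rfl | hjpos
  · simp
  · exfalso
    exact P.not_dvd_index ((dvd_pow_self p hjpos.ne').trans h2)

end Cfsg.Agent.Lib.Helper4.Casolo
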