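import Mathlib
import Cfsg.Agent.Lib.Helper4.Casolo7

set_option autoImplicit false
open Classical
open scoped Pointwise

namespace Cfsg.Agent.Lib.Helper4.Casolo

universe u
variable {G : Type u} [Group G] [Finite G] (p : ℕ) [Fact p.Prime]

theorem cj_le_iff (P : Sylow p G) (M1 M2 : Subgroup G) [hM1 : M1.Normal] [hM2 : M2.Normal]
    (h12 : M1 ≤ M2) (hcop : (M1.relIndex M2).Coprime p) {H2 : Subgroup G}
    (hH2 : H2 ≤ (P : Subgroup G)) {u : G} (hu : u ∈ M2) :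
    cj u H2 ≤ (P : Subgroup G) ⊔ M1 ↔ ∀ h ∈ H2, h * u * h⁻¹ * u⁻¹ ∈ M1 := by
  constructor
  · intro hle h hh
    have h1 : u * h * u⁻¹ ∈ (P : Subgroup G) ⊔ M1 := hle (conj_mem_cj hh)
    have h2 : u * h * u⁻¹ * h⁻¹ ∈ ((P : Subgroup G) ⊔ M1) ⊓ M2 := by
      rw [Subgroup.mem_inf]
      constructor
      · exact Subgroup.mul_mem _ h1 (Subgroup.inv_mem _ (le_sup_left (a := (P : Subgroup G)) (hH2 hh)))
      · have : u * h * u⁻¹ * h⁻¹ = u * (h * u⁻¹ * h⁻¹) := by group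
        rw [this]
        exact M2.mul_mem hu (hM2.conj_mem _ (M2.inv_mem hu) h)
    have h3 := inf_le_of_coprime p P M1 M2 h12 hcop h2
    have : h * u * h⁻¹ * u⁻¹ = (u * h * u⁻¹ * h⁻¹)⁻¹ := by group
    rw [this]
    exact M1.inv_mem h3
  · intro hall y hy
    rw [mem_cj] at hy
    have hc := hall _ hy
    have e : y = (u⁻¹ * y * u * u * (u⁻¹ * y * u)⁻¹ * u⁻¹)⁻¹ * (u⁻¹ * y * u) := by group
    rw [e]
    exact Subgroup.mul_mem _ (le_sup_right (a := (P : Subgroup G)) (M1.inv_mem hc))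
      (le_sup_left (a := (P : Subgroup G)) (hH2 hy))

theorem card_fiber (P : Sylow p G) {H : Subgroup G} (hH : IsPGroup p H) (M1 M2 : Subgroup G)
    [hM1 : M1.Normal] [hM2 : M2.Normal]
    (h12 : M1 ≤ M2) (hcop : (M1.relIndex M2).Coprime p) (x : G)
    (hx : cj x H ≤ (P : Subgroup G) ⊔ M2) :
    Nat.card {u : G // u ∈ M2 ∧ cj (u * x) H ≤ (P : Subgroup G) ⊔ M1}
      = Nat.card {u : G // u ∈ M2 ∧ ∀ h ∈ H, h * u * h⁻¹ * u⁻¹ ∈ M1} := by
  obtain ⟨u0, hu0, hle⟩ := exists_cj_le p P M2 (hH.map _) hx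
  rw [← cj_mul] at hle
  rw [← card_comm_cj H M1 M2 (u0 * x)]
  have key : ∀ u' : G, u' ∈ M2 →
      (cj (u' * u0 * x) H ≤ (P : Subgroup G) ⊔ M1 ↔
        ∀ h ∈ cj (u0 * x) H, h * u' * h⁻¹ * u'⁻¹ ∈ M1) := by
    intro u' hu'
    rw [mul_assoc, cj_mul]
    exact cj_le_iff p P M1 M2 h12 hcop hle hu'
  apply Nat.card_congr
  refine ⟨fun u => ⟨u.1 * u0⁻¹, M2.mul_mem u.2.1 (M2.inv_mem hu0), ?_⟩,
    fun u' => ⟨u'.1 * u0, M2.mul_mem u'.2.1 hu0, ?_⟩, ?_, ?_⟩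
  · rw [← key _ (M2.mul_mem u.2.1 (M2.inv_mem hu0))]
    have : u.1 * u0⁻¹ * u0 * x = u.1 * x := by group
    rw [this]
    exact u.2.2
  · exact (key _ u'.2.1).mpr u'.2.2
  · intro u
    apply Subtype.ext
    show u.1 * u0⁻¹ * u0 = u.1
    group
  · intro u'
    apply Subtype.ext
    show u'.1 * u0 * u0⁻¹ = u'.1
    group

/-- the counting step for a `p'`-layer -/
theorem card_step_coprime (P : Sylow p G) {H : Subgroup G} (hH : IsPGroup p H)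
    (M1 M2 : Subgroup G) [hM1 : M1.Normal] [hM2 : M2.Normal]
    (h12 : M1 ≤ M2) (hcop : (M1.relIndex M2).Coprime p) :
    Nat.card {x : G // cj x H ≤ (P : Subgroup G) ⊔ M2}
        * Nat.card {u : G // u ∈ M2 ∧ ∀ h ∈ H, h * u * h⁻¹ * u⁻¹ ∈ M1}
      = Nat.card {x : G // cj x H ≤ (P : Subgroup G) ⊔ M1} * Nat.card M2 := by
  -- the type of pairs
  set Z := {z : G × G // cj z.1 H ≤ (P : Subgroup G) ⊔ M2 ∧ z.2 ∈ M2 ∧
    cj (z.2 * z.1) H ≤ (P : Subgroup G) ⊔ M1} with hZ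
  have hclosed : ∀ (x u : G), u ∈ M2 → cj x H ≤ (P : Subgroup G) ⊔ M2 →
      cj (u * x) H ≤ (P : Subgroup G) ⊔ M2 := by
    intro x u hu hx
    rw [cj_mul]
    have h1 := cj_mono u hx
    have h2 : cj u ((P : Subgroup G) ⊔ M2) = (P : Subgroup G) ⊔ M2 :=
      cj_of_mem (le_sup_right (a := (P : Subgroup G)) hu)
    rw [h2] at h1
    exact h1
  have h1 : Nat.card Z = Nat.card {x : G // cj x H ≤ (P : Subgroup G) ⊔ M2}
        * Nat.card {u : G // u ∈ M2 ∧ ∀ h ∈ H, h * u * h⁻¹ * u⁻¹ ∈ M1} := by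
    apply card_eq_mul_of_fibers
      (fun z : Z => (⟨z.1.1, z.2.1⟩ : {x : G // cj x H ≤ (P : Subgroup G) ⊔ M2}))
    rintro ⟨x, hx⟩
    rw [← card_fiber p P hH M1 M2 h12 hcop x hx]
    apply Nat.card_congr
    refine ⟨fun z => ⟨z.1.1.2, ?_, ?_⟩, fun u => ⟨⟨(x, u.1), hx, u.2.1, u.2.2⟩, rfl⟩, ?_, ?_⟩
    · exact z.1.2.2.1
    · have h := z.1.2.2.2
      have e : z.1.1.1 = x := congrArg Subtype.val z.2
      rw [e] at h
      exact h
    · rintro ⟨⟨⟨x', u'⟩, h1, h2, h3⟩, h4⟩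
      have e : x' = x := congrArg Subtype.val h4
      subst e
      rfl
    · intro u
      rfl
  have h2 : Nat.card Z = Nat.card {x : G // cj x H ≤ (P : Subgroup G) ⊔ M1} * Nat.card M2 := by
    apply card_eq_mul_of_fibers
      (fun z : Z => (⟨z.1.2 * z.1.1, z.2.2.2⟩ : {x : G // cj x H ≤ (P : Subgroup G) ⊔ M1}))
    rintro ⟨y, hy⟩
    apply Nat.card_congr
    have hyM2 : cj y H ≤ (P : Subgroup G) ⊔ M2 := hy.trans (sup_le_sup_left h12 _)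
    refine ⟨fun z => ⟨z.1.1.2, z.1.2.2.1⟩, fun u => ⟨⟨(u.1⁻¹ * y, u.1), ?_, u.2, ?_⟩, ?_⟩, ?_, ?_⟩
    · exact hclosed y u.1⁻¹ (M2.inv_mem u.2) hyM2
    · show cj (u.1 * (u.1⁻¹ * y)) H ≤ _
      rw [mul_inv_cancel_left]
      exact hy
    · apply Subtype.ext
      show u.1 * (u.1⁻¹ * y) = y
      rw [mul_inv_cancel_left]
    · rintro ⟨⟨⟨x', u'⟩, h1, h2, h3⟩, h4⟩
      have e : u' * x' = y := congrArg Subtype.val h4
      apply Subtype.ext; apply Subtype.ext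
      show (u'⁻¹ * y, u') = (x', u')
      rw [← e, inv_mul_cancel_left]
    · intro u
      rfl
  rw [← h1, h2]

end Cfsg.Agent.Lib.Helper4.Casolo
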