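import Mathlib
import Cfsg.Agent.Lib.Helper4.Casolo8
import Cfsg.Agent.Lib.Helper4.Basic

set_option autoImplicit false
open scoped Pointwise

namespace Cfsg.Agent.Lib.Helper4.Casolo

universe u
variable {G : Type u} [Group G] [Finite G] (p : ℕ) [Fact p.Prime]

/-- the commutator count `c(A,B) = #{u ∈ B : [H,u] ⊆ A}` -/
noncomputable def cAB (H A B : Subgroup G) : ℕ :=
  Nat.card {u : G // u ∈ B ∧ ∀ h ∈ H, h * u * h⁻¹ * u⁻¹ ∈ A}

/-- `Y(K) = #{x : xHx⁻¹ ≤ P K}` -/
noncomputable def Ycard (P H K : Subgroup G) : ℕ :=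
  Nat.card {x : G // cj x H ≤ P ⊔ K}

theorem card_dvd_cAB (H A B : Subgroup G) [hA : A.Normal] (hAB : A ≤ B) :
    Nat.card A ∣ cAB H A B := by
  unfold cAB
  set C : Set G := {u : G | u ∈ B ∧ ∀ h ∈ H, h * u * h⁻¹ * u⁻¹ ∈ A} with hC
  have h1 : (C * (A : Set G)) = C := by
    ext z
    constructor
    · rintro ⟨u, hu, m, hm, rfl⟩
      refine ⟨B.mul_mem hu.1 (hAB hm), ?_⟩
      intro h hh
      have e : h * (u * m) * h⁻¹ * (u * m)⁻¹
          = (h * u * h⁻¹ * u⁻¹) * (u * (h * m * h⁻¹ * m⁻¹) * u⁻¹) := by group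
      show h * (u * m) * h⁻¹ * (u * m)⁻¹ ∈ A
      rw [e]
      apply A.mul_mem (hu.2 h hh)
      apply hA.conj_mem
      exact A.mul_mem (hA.conj_mem _ hm h) (A.inv_mem hm)
    · intro hz
      exact ⟨z, hz, 1, A.one_mem, mul_one z⟩
  have h2 := Subgroup.card_mul_eq_card_subgroup_mul_card_quotient A C
  rw [h1] at h2
  exact Dvd.intro _ h2.symm

theorem Ycard_step (P : Sylow p G) {H : Subgroup G} (hH : IsPGroup p H) (M1 M2 : Subgroup G) [hM1 : M1.Normal] [hM2 : M2.Normal] (h12 : M1 ≤ M2)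
    (hfac : (∃ m : ℕ, M1.relIndex M2 = p ^ m) ∨ (M1.relIndex M2).Coprime p) :
    Ycard (P : Subgroup G) H M1 * (if (M1.relIndex M2).Coprime p then Nat.card M2 else 1)
      = Ycard (P : Subgroup G) H M2 * (if (M1.relIndex M2).Coprime p then cAB H M1 M2 else 1) := by
  by_cases hcop : (M1.relIndex M2).Coprime p
  · rw [if_pos hcop, if_pos hcop]
    exact (card_step_coprime p P hH M1 M2 h12 hcop).symm
  · rw [if_neg hcop, if_neg hcop, mul_one, mul_one]
    obtain ⟨m, hm⟩ := hfac.resolve_right hcop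
    unfold Ycard
    rw [sup_eq_of_pow p P M1 M2 h12 hm]

end Cfsg.Agent.Lib.Helper4.Casolo

namespace Cfsg.Agent.Lib.Helper4.Casolo

universe u
variable {G : Type u} [Group G] [Finite G] (p : ℕ) [Fact p.Prime]

open Finset in
theorem chain_count (P : Sylow p G) {H : Subgroup G} (hH : IsPGroup p H) (S : ℕ → Subgroup G)
    (hN : ∀ k, (S k).Normal) (hmono : ∀ k, S k ≤ S (k + 1)) (n : ℕ)
    (hfac : ∀ k < n, (∃ m : ℕ, (S k).relIndex (S (k + 1)) = p ^ m) ∨
      ((S k).relIndex (S (k + 1))).Coprime p) :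
    Ycard (P : Subgroup G) H (S 0) * ∏ k ∈ range n,
        (if ((S k).relIndex (S (k + 1))).Coprime p then Nat.card (S (k + 1)) else 1)
      = Ycard (P : Subgroup G) H (S n) * ∏ k ∈ range n,
        (if ((S k).relIndex (S (k + 1))).Coprime p then cAB H (S k) (S (k + 1)) else 1) := by
  induction n with
  | zero => simp
  | succ n ih =>
    rw [prod_range_succ, prod_range_succ, ← mul_assoc, ih (fun k hk => hfac k (by omega))]
    haveI := hN n
    haveI := hN (n + 1)
    have hs := Ycard_step p P hH (S n) (S (n + 1)) (hmono n) (hfac n (by omega))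
    calc Ycard (P : Subgroup G) H (S n) * (∏ k ∈ range n,
          (if ((S k).relIndex (S (k + 1))).Coprime p then cAB H (S k) (S (k + 1)) else 1))
          * (if ((S n).relIndex (S (n + 1))).Coprime p then Nat.card (S (n + 1)) else 1)
        = (Ycard (P : Subgroup G) H (S n)
          * (if ((S n).relIndex (S (n + 1))).Coprime p then Nat.card (S (n + 1)) else 1))
          * (∏ k ∈ range n,
          (if ((S k).relIndex (S (k + 1))).Coprime p then cAB H (S k) (S (k + 1)) else 1)) := by ring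
      _ = _ := by rw [hs]; ring

open Finset in
theorem chain_card (S : ℕ → Subgroup G) (hmono : ∀ k, S k ≤ S (k + 1)) (n : ℕ) :
    Nat.card (S n) = Nat.card (S 0) * ∏ k ∈ range n, (S k).relIndex (S (k + 1)) := by
  induction n with
  | zero => simp
  | succ n ih =>
    rw [prod_range_succ, ← mul_assoc, ← ih]
    exact (Cfsg.Agent.Lib.Helper4.card_mul_relIndex (hmono n)).symm

open Finset in
/-- the final arithmetic -/
theorem chain_formula (P : Sylow p G) {H : Subgroup G} (hH : IsPGroup p H) (S : ℕ → Subgroup G)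
    (hN : ∀ k, (S k).Normal) (hmono : ∀ k, S k ≤ S (k + 1)) (n : ℕ)
    (hfac : ∀ k < n, (∃ m : ℕ, (S k).relIndex (S (k + 1)) = p ^ m) ∨
      ((S k).relIndex (S (k + 1))).Coprime p)
    (h0 : S 0 = ⊥) (hn : S n = ⊤) :
    Nat.card {x : G // cj x H ≤ (P : Subgroup G)}
      = Nat.card (P : Subgroup G) * ∏ k ∈ range n,
        (if ((S k).relIndex (S (k + 1))).Coprime p then
          cAB H (S k) (S (k + 1)) / Nat.card (S k) else 1) := by
  have hcount := chain_count p P hH S hN hmono n hfac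
  have hcard := chain_card S hmono n
  rw [h0, hn, Subgroup.card_top, Subgroup.card_bot, one_mul] at hcard
  have hY0 : Ycard (P : Subgroup G) H (S 0) = Nat.card {x : G // cj x H ≤ (P : Subgroup G)} := by
    unfold Ycard; rw [h0, sup_bot_eq]
  have hYn : Ycard (P : Subgroup G) H (S n) = Nat.card G := by
    unfold Ycard; rw [hn]
    exact Nat.card_congr (Equiv.subtypeUnivEquiv (fun x => le_trans le_top le_sup_right))
  rw [hY0, hYn] at hcount
  -- notation
  obtain ⟨r, hr⟩ : ∃ r : ℕ → ℕ, r = fun k => (S k).relIndex (S (k + 1)) := ⟨_, rfl⟩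
  have hrk : ∀ k, (S k).relIndex (S (k + 1)) = r k := fun k => by rw [hr]
  simp only [hrk] at hcount hcard hfac ⊢
  obtain ⟨U, hU⟩ : ∃ U : ℕ, U = ∏ k ∈ range n, (if (r k).Coprime p then 1 else r k) := ⟨_, rfl⟩
  obtain ⟨V, hV⟩ : ∃ V : ℕ, V = ∏ k ∈ range n, (if (r k).Coprime p then r k else 1) := ⟨_, rfl⟩
  obtain ⟨W, hW⟩ : ∃ W : ℕ, W = ∏ k ∈ range n,
    (if (r k).Coprime p then Nat.card (S k) else 1) := ⟨_, rfl⟩
  obtain ⟨D, hD⟩ : ∃ D : ℕ, D = ∏ k ∈ range n,
    (if (r k).Coprime p then cAB H (S k) (S (k + 1)) / Nat.card (S k) else 1) := ⟨_, rfl⟩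
  rw [← hD]
  have hUV : Nat.card G = U * V := by
    rw [hcard, hU, hV, ← prod_mul_distrib]
    apply prod_congr rfl
    intro k _
    by_cases h : (r k).Coprime p
    · rw [if_pos h, if_pos h, one_mul]
    · rw [if_neg h, if_neg h, mul_one]
  have hA : ∏ k ∈ range n, (if (r k).Coprime p then Nat.card (S (k + 1)) else 1) = W * V := by
    rw [hW, hV, ← prod_mul_distrib]
    apply prod_congr rfl
    intro k _
    by_cases h : (r k).Coprime p
    · rw [if_pos h, if_pos h, if_pos h, ← hrk]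
      exact (Cfsg.Agent.Lib.Helper4.card_mul_relIndex (hmono k)).symm
    · rw [if_neg h, if_neg h, if_neg h, mul_one]
  have hC : ∏ k ∈ range n, (if (r k).Coprime p then cAB H (S k) (S (k + 1)) else 1) = D * W := by
    rw [hD, hW, ← prod_mul_distrib]
    apply prod_congr rfl
    intro k _
    by_cases h : (r k).Coprime p
    · rw [if_pos h, if_pos h, if_pos h]
      haveI := hN k
      exact (Nat.div_mul_cancel (card_dvd_cAB H (S k) (S (k + 1)) (hmono k))).symm
    · rw [if_neg h, if_neg h, if_neg h, mul_one]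
  -- U = |P|
  have hUpow : ∃ b : ℕ, U = p ^ b := by
    rw [hU]
    apply prod_induction _ (fun x => ∃ b : ℕ, x = p ^ b)
    · rintro a b ⟨i, rfl⟩ ⟨j, rfl⟩
      exact ⟨i + j, (pow_add p i j).symm⟩
    · exact ⟨0, by simp⟩
    · intro k hk
      by_cases h : (r k).Coprime p
      · exact ⟨0, by rw [if_pos h, pow_zero]⟩
      · obtain ⟨m, hm⟩ := (hfac k (mem_range.mp hk)).resolve_right h
        exact ⟨m, by rw [if_neg h, hm]⟩
  have hVcop : V.Coprime p := by
    rw [hV]
    apply Nat.Coprime.prod_left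
    intro k _
    by_cases h : (r k).Coprime p
    · rw [if_pos h]; exact h
    · rw [if_neg h]; exact Nat.coprime_one_left p
  have hUP : U = Nat.card (P : Subgroup G) := by
    obtain ⟨b, hb⟩ := hUpow
    obtain ⟨a, ha⟩ := IsPGroup.iff_card.mp P.isPGroup'
    have hidx := (P : Subgroup G).card_mul_index
    have hicop : (P : Subgroup G).index.Coprime p :=
      (Nat.Coprime.symm ((Nat.Prime.coprime_iff_not_dvd (Fact.out : p.Prime)).mpr P.not_dvd_index))
    rw [hb, ha]
    rw [hUV, hb, ha] at hidx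
    apply Nat.dvd_antisymm
    · have h1 : p ^ b ∣ p ^ a * (P : Subgroup G).index := Dvd.intro _ hidx.symm
      exact (Nat.Coprime.dvd_of_dvd_mul_right (Nat.Coprime.pow_left b hicop.symm) h1)
    · have h1 : p ^ a ∣ p ^ b * V := Dvd.intro _ hidx
      exact (Nat.Coprime.dvd_of_dvd_mul_right (Nat.Coprime.pow_left a hVcop.symm) h1)
  rw [hA, hC, hUV] at hcount
  have hWpos : 0 < W := by
    rw [hW]
    apply prod_pos
    intro k _
    by_cases h : (r k).Coprime p
    · rw [if_pos h]; exact Nat.card_pos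
    · rw [if_neg h]; exact Nat.one_pos
  have hVpos : 0 < V := by
    rcases Nat.eq_zero_or_pos V with h | h
    · rw [h, mul_zero] at hUV
      exact absurd hUV Nat.card_pos.ne'
    · exact h
  rw [← hUP]
  have : Nat.card {x : G // cj x H ≤ (P : Subgroup G)} * (W * V) = (U * D) * (W * V) := by
    rw [hcount]; ring
  exact Nat.eq_of_mul_eq_mul_right (Nat.mul_pos hWpos hVpos) this

end Cfsg.Agent.Lib.Helper4.Casolo
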