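import Mathlib
import Cfsg.Agent.Lib.Helper8.TW.Defs
import Cfsg.Agent.Lib.Helper6.TWQMain
import Cfsg.Agent.Lib.Helper23.TWUQDefs
import Cfsg.Agent.Lib.Helper8.TWUQPg

/-!
# S5672 (C7 unitary), block (Q'), leaf QU7 `cm_of_fcp` (helper4)

(CM): an admissible root group of `G` and an `X`-conjugate, by `g ∉ G`, of an admissible root group do not commute.
`cm_of_pg` is the statement with (PG) = QU6 as a hypothesis.
-/

set_option autoImplicit false
set_option linter.unusedSectionVars false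
set_option linter.unusedVariables false

namespace Cfsg.Agent.Lib.Helper4.TWUQLeaf
open Matrix Cfsg.Geo Cfsg.Agent.Lib.Helper18.AschA89 Cfsg.Agent.Lib.Helper20.AschLeaf Cfsg.Agent.Lib.Helper8.TW
open Cfsg.Agent.Lib.Helper23.TWUQ

variable {F : Type*} [Field F] {t m : ℕ}

/-- a root element has order dividing the characteristic -/
theorem elt_pow_char {p : ℕ} [CharP F p] (r : RD t m F) (c : F) : r.elt c ^ p = 1 := by
  have h : ∀ k : ℕ, r.elt c ^ k = r.elt ((k : F) * c) := by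
    intro k
    induction k with
    | zero => rw [pow_zero, Nat.cast_zero, zero_mul, RD.elt_zero]
    | succ k ih => rw [pow_succ, ih, RD.elt_mul, Nat.cast_succ, add_mul, one_mul]
  rw [h, CharP.cast_eq_zero, zero_mul, RD.elt_zero]

/-- a subgroup generated by pairwise commuting elements of order dividing `p` is a `p`-group -/
theorem isPGroup_closure_of_comm {G : Type*} [Group G] {p : ℕ} (k : Set G)
    (hcomm : ∀ x ∈ k, ∀ y ∈ k, x * y = y * x) (hpow : ∀ x ∈ k, x ^ p = 1) :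
    IsPGroup p (Subgroup.closure k) := by
  have hle : Subgroup.closure k ≤ Subgroup.centralizer k := by
    rw [Subgroup.closure_le]
    intro x hx
    rw [SetLike.mem_coe, Subgroup.mem_centralizer_iff]
    intro y hy
    exact hcomm y hy x hx
  have hle2 := Subgroup.closure_le_centralizer_centralizer k
  have hc : ∀ x ∈ Subgroup.closure k, ∀ y ∈ Subgroup.closure k, x * y = y * x := by
    intro x hx y hy
    have h1 := hle2 hx
    rw [Subgroup.mem_centralizer_iff] at h1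
    exact (h1 y (hle hy)).symm
  have hall : ∀ x ∈ Subgroup.closure k, x ^ p = 1 := by
    intro x hx
    induction hx using Subgroup.closure_induction with
    | mem x hx => exact hpow x hx
    | one => exact one_pow _
    | mul x y hx hy ihx ihy =>
      have hxy : Commute x y := hc x hx y hy
      rw [hxy.mul_pow, ihx, ihy, one_mul]
    | inv x hx ih => rw [inv_pow, ih, inv_one]
  intro x
  refine ⟨1, ?_⟩
  rw [pow_one]
  ext
  rw [Subgroup.coe_pow, hall x.1 x.2, Subgroup.coe_one]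

/-- (CM) from (PG) -/
theorem cm_of_pg [Fintype F] {p : ℕ} [Fact p.Prime] [CharP F p] {R : RD t m F → Prop} {S : Set F}
    {X : Subgroup (GL (Idx t m) F)} (hFC : FCp R S X)
    (hPG : ∀ (P : Subgroup (GL (Idx t m) F)), IsPGroup p P → P ≤ X → ∀ (r : RD t m F), R r →
      (∀ c ∈ S, r.elt c ∈ P) → P ≤ Gstd t m F)
    (hTX : ∀ r, R r → ∀ c ∈ S, r.elt c ∈ X)
    (r₁ r₂ : RD t m F) (hr₁ : R r₁) (hr₂ : R r₂) (g : GL (Idx t m) F) (hgX : g ∈ X) (hgG : g ∉ Gstd t m F)
    (hcomm : ∀ c ∈ S, ∀ d ∈ S, r₁.elt c * (g * r₂.elt d * g⁻¹) = (g * r₂.elt d * g⁻¹) * r₁.elt c) : False := by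
  obtain ⟨k, hk⟩ : ∃ k : Set (GL (Idx t m) F),
      k = {x | ∃ c ∈ S, x = r₁.elt c} ∪ {x | ∃ d ∈ S, x = g * r₂.elt d * g⁻¹} := ⟨_, rfl⟩
  have hk1 : ∀ c ∈ S, r₁.elt c ∈ k := by
    intro c hc
    rw [hk]
    exact Or.inl ⟨c, hc, rfl⟩
  have hk2 : ∀ d ∈ S, g * r₂.elt d * g⁻¹ ∈ k := by
    intro d hd
    rw [hk]
    exact Or.inr ⟨d, hd, rfl⟩
  have hkcomm : ∀ x ∈ k, ∀ y ∈ k, x * y = y * x := by
    intro x hx y hy
    rw [hk] at hx hy
    rcases hx with ⟨c, hc, rfl⟩ | ⟨d, hd, rfl⟩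
    · rcases hy with ⟨c', hc', rfl⟩ | ⟨d', hd', rfl⟩
      · rw [RD.elt_mul, RD.elt_mul, add_comm]
      · exact hcomm c hc d' hd'
    · rcases hy with ⟨c', hc', rfl⟩ | ⟨d', hd', rfl⟩
      · exact (hcomm c' hc' d hd).symm
      · have e : ∀ a b : F, g * r₂.elt a * g⁻¹ * (g * r₂.elt b * g⁻¹) = g * r₂.elt (a + b) * g⁻¹ := by
          intro a b
          rw [← RD.elt_mul]
          group
        rw [e, e, add_comm]
  have hkpow : ∀ x ∈ k, x ^ p = 1 := by
    intro x hx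
    rw [hk] at hx
    rcases hx with ⟨c, hc, rfl⟩ | ⟨d, hd, rfl⟩
    · exact elt_pow_char r₁ c
    · rw [conj_pow, elt_pow_char r₂ d, mul_one, mul_inv_cancel]
  have hP : IsPGroup p (Subgroup.closure k) := isPGroup_closure_of_comm k hkcomm hkpow
  have hPX : Subgroup.closure k ≤ X := by
    rw [Subgroup.closure_le]
    intro x hx
    rw [hk] at hx
    rcases hx with ⟨c, hc, rfl⟩ | ⟨d, hd, rfl⟩
    · exact hTX r₁ hr₁ c hc
    · exact X.mul_mem (X.mul_mem hgX (hTX r₂ hr₂ d hd)) (X.inv_mem hgX)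
  have hPG' : Subgroup.closure k ≤ Gstd t m F :=
    hPG _ hP hPX r₁ hr₁ (fun c hc => Subgroup.subset_closure (hk1 c hc))
  have hginv : g⁻¹ ∈ Gstd t m F := by
    refine hFC r₂ hr₂ g⁻¹ (X.inv_mem hgX) (fun d hd => ?_)
    rw [inv_inv]
    exact hPG' (Subgroup.subset_closure (hk2 d hd))
  apply hgG
  have := (Gstd t m F).inv_mem hginv
  rwa [inv_inv] at this

/-- (QU7) (CM): an admissible root group of `G` and an `X`-conjugate, by `g ∉ G`, of an admissible root group do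
not commute. -/
theorem cm_of_fcp [Fintype F] {p : ℕ} [Fact p.Prime] [CharP F p] {R : RD t m F → Prop} {S : Set F}
    {X : Subgroup (GL (Idx t m) F)} (hFC : FCp R S X) (hTX : ∀ r, R r → ∀ c ∈ S, r.elt c ∈ X)
    (r₁ r₂ : RD t m F) (hr₁ : R r₁) (hr₂ : R r₂) (g : GL (Idx t m) F) (hgX : g ∈ X) (hgG : g ∉ Gstd t m F)
    (hcomm : ∀ c ∈ S, ∀ d ∈ S, r₁.elt c * (g * r₂.elt d * g⁻¹) = (g * r₂.elt d * g⁻¹) * r₁.elt c) : False :=
  cm_of_pg hFC (fun P hP hPX r hr hT => Cfsg.Agent.Lib.Helper8.TWUQLeaf.pg_of_fcp hFC P hP hPX r hr hT)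
    hTX r₁ r₂ hr₁ hr₂ g hgX hgG hcomm

end Cfsg.Agent.Lib.Helper4.TWUQLeaf
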