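import Cfsg.Agent.Lib.Helper26.OOMinDefs
import Cfsg.Agent.Lib.Helper26.OOMinStageDefs
import Cfsg.Agent.Lib.Helper13.SLMinWt
import Cfsg.Agent.Lib.Helper15.SLTrans

/-!
# S2344 leaf QZ1 (planner helper26): `card_pow_sub_one_le_finrank_wt_zero`

On `M₀ = wt 0 = C_M(Z)` the map `c ↦ ρ (sho c)` is a representation of `F^n`, normalised by
`levi (SL_n)`, which is transitive on the `q^n - 1` non-trivial characters.
-/

set_option autoImplicit false
set_option linter.unusedSectionVars false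
set_option linter.unusedVariables false

namespace Cfsg.Agent.Lib.Helper4.OOMin

open Matrix Module Cfsg.Agent.Lib.Helper27.OPMin Cfsg.Agent.Lib.Helper16.SLMin
  Cfsg.Agent.Lib.Helper26.OOMin Cfsg.Agent.Lib.Helper13.SLMinWt
  Cfsg.Agent.Lib.Helper15.OrbitBound

section QZ

variable {F : Type*} [Field F] [Fintype F] [DecidableEq F] {n : ℕ} {H : Type*} [Group H]
  {M : Type*} [AddCommGroup M] [Module ℂ M] [FiniteDimensional ℂ M]
  (D : SiegelB F n H) (ρ : Representation ℂ H M)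

/-- a vector of `M₀` is fixed by the whole centre `rad` -/
theorem qz_rad_fix {m : M} (hm : m ∈ wt ρ D.toSiegel.radv 0) (R : Matrix (Fin n) (Fin n) F) :
    ρ (D.rad R) m = m := by
  have h := hm (ofM R)
  rw [zero_dotProduct, AddChar.map_zero_eq_one, one_smul] at h
  exact h

theorem qz_mem_of_rad_fix {m : M} (hm : ∀ R : Matrix (Fin n) (Fin n) F, ρ (D.rad R) m = m) :
    m ∈ wt ρ D.toSiegel.radv 0 := by
  intro r
  rw [zero_dotProduct, AddChar.map_zero_eq_one, one_smul]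
  exact hm (toM r)

/-- `M₀` is stable under `sho c` -/
theorem qz_sho_mem (c : Fin n → F) {m : M} (hm : m ∈ wt ρ D.toSiegel.radv 0) :
    ρ (D.sho c) m ∈ wt ρ D.toSiegel.radv 0 := by
  apply qz_mem_of_rad_fix
  intro R
  have h1 : ρ (D.rad R) (ρ (D.sho c) m) = (ρ (D.rad R) * ρ (D.sho c)) m := rfl
  rw [h1, ← map_mul, D.rad_sho, map_mul]
  show ρ (D.sho c) (ρ (D.rad R) m) = _
  rw [qz_rad_fix D ρ hm]

/-- `M₀` is stable under `levi g` -/
theorem qz_levi_mem (g : SpecialLinearGroup (Fin n) F) {m : M}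
    (hm : m ∈ wt ρ D.toSiegel.radv 0) :
    ρ (D.levi g) m ∈ wt ρ D.toSiegel.radv 0 := by
  apply qz_mem_of_rad_fix
  intro R
  have h2 := D.levi_rad g⁻¹ R
  have h3 : D.rad R * D.levi g =
      D.levi g * D.rad ((g⁻¹ : SpecialLinearGroup (Fin n) F).1 * R *
        ((g⁻¹ : SpecialLinearGroup (Fin n) F).1)ᵀ) := by
    rw [← h2, map_inv]
    group
  have h1 : ρ (D.rad R) (ρ (D.levi g) m) = (ρ (D.rad R) * ρ (D.levi g)) m := rfl
  rw [h1, ← map_mul, h3, map_mul]
  show ρ (D.levi g) (ρ (D.rad _) m) = _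
  rw [qz_rad_fix D ρ hm]

/-- the action of `F^n = Q/Z` on `M₀` -/
noncomputable def qzX (c : Fin n → F) : Module.End ℂ ↥(wt ρ D.toSiegel.radv 0) :=
  (ρ (D.sho c)).restrict (fun m hm => qz_sho_mem D ρ c hm)

/-- the action of `levi g` on `M₀` -/
noncomputable def qzG (g : SpecialLinearGroup (Fin n) F) :
    Module.End ℂ ↥(wt ρ D.toSiegel.radv 0) :=
  (ρ (D.levi g)).restrict (fun m hm => qz_levi_mem D ρ g hm)

theorem qzX_add (v w : Fin n → F) : qzX D ρ (v + w) = qzX D ρ v * qzX D ρ w := by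
  apply LinearMap.ext
  intro m
  apply Subtype.ext
  show ρ (D.sho (v + w)) m.1 = ρ (D.sho v) (ρ (D.sho w) m.1)
  have h1 : ρ (D.sho v) (ρ (D.sho w) m.1) = (ρ (D.sho v) * ρ (D.sho w)) m.1 := rfl
  rw [h1, ← map_mul, D.sho_mul, map_mul]
  show _ = ρ (D.sho (v + w)) (ρ (D.rad _) m.1)
  rw [qz_rad_fix D ρ m.2]

theorem qzX_zero : qzX D ρ 0 = 1 := by
  apply LinearMap.ext
  intro m
  apply Subtype.ext
  show ρ (D.sho 0) m.1 = m.1
  rw [D.sho_zero, map_one]
  rfl

theorem qzG_mul (g h : SpecialLinearGroup (Fin n) F) :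
    qzG D ρ (g * h) = qzG D ρ g * qzG D ρ h := by
  apply LinearMap.ext
  intro m
  apply Subtype.ext
  show ρ (D.levi (g * h)) m.1 = ρ (D.levi g) (ρ (D.levi h) m.1)
  rw [map_mul, map_mul]
  rfl

theorem qzG_one : qzG D ρ 1 = 1 := by
  apply LinearMap.ext
  intro m
  apply Subtype.ext
  show ρ (D.levi 1) m.1 = m.1
  rw [map_one, map_one]
  rfl

theorem qzG_isUnit (g : SpecialLinearGroup (Fin n) F) : IsUnit (qzG D ρ g) := by
  refine ⟨⟨qzG D ρ g, qzG D ρ g⁻¹, ?_, ?_⟩, rfl⟩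
  · rw [← qzG_mul, mul_inv_cancel, qzG_one]
  · rw [← qzG_mul, inv_mul_cancel, qzG_one]

theorem qzG_conj (g : SpecialLinearGroup (Fin n) F) (v : Fin n → F) :
    qzG D ρ g * qzX D ρ v = qzX D ρ (g.1 *ᵥ v) * qzG D ρ g := by
  apply LinearMap.ext
  intro m
  apply Subtype.ext
  show ρ (D.levi g) (ρ (D.sho v) m.1) = ρ (D.sho (g.1 *ᵥ v)) (ρ (D.levi g) m.1)
  have h1 : ρ (D.levi g) (ρ (D.sho v) m.1) = (ρ (D.levi g) * ρ (D.sho v)) m.1 := rfl
  have h2 : ρ (D.sho (g.1 *ᵥ v)) (ρ (D.levi g) m.1) =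
      (ρ (D.sho (g.1 *ᵥ v)) * ρ (D.levi g)) m.1 := rfl
  rw [h1, h2, ← map_mul, ← map_mul]
  congr 2
  rw [← D.levi_sho g v]
  group

/-- QZ1: on `M₀` the map `c ↦ ρ (sho c)` is a representation of `F^n` (`sho_mul`), normalised by
`levi (SL_n)` (`levi_sho`), which is transitive on the `q^n - 1` non-trivial characters. -/
theorem card_pow_sub_one_le_finrank_wt_zero (hn : 2 ≤ n) (c₀ : Fin n → F) (m₀ : M)
    (hm₀ : m₀ ∈ wt ρ D.toSiegel.radv 0) (hne : ρ (D.sho c₀) m₀ ≠ m₀) :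
    Fintype.card F ^ n - 1 ≤ finrank ℂ ↥(wt ρ D.toSiegel.radv 0) := by
  classical
  obtain ⟨k, rfl⟩ : ∃ k, n = k + 2 := ⟨n - 2, by omega⟩
  set x := qzX D ρ with hx
  have hxa : ∀ v w, x (v + w) = x v * x w := qzX_add D ρ
  have hx0 : x 0 = 1 := qzX_zero D ρ
  have hψ := eps_prim F
  -- all non-zero characters have the same multiplicity
  have hconj : ∀ u u' : Fin (k + 2) → F, u ≠ 0 → u' ≠ 0 →
      mult (eps F) x u = mult (eps F) x u' := by
    intro u u' hu hu'
    obtain ⟨a, ha⟩ := Cfsg.Agent.Lib.Helper15.SLTrans.exists_mulVec_eq hu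
    obtain ⟨b, hb⟩ := Cfsg.Agent.Lib.Helper15.SLTrans.exists_mulVec_eq hu'
    -- h u' = u
    set h : SpecialLinearGroup (Fin (k + 2)) F := a * b⁻¹ with hh
    have hhu : h.1 *ᵥ u' = u := by
      rw [hh, Cfsg.Agent.Lib.Helper15.SLTrans.mulVec_mul, ← hb,
        Cfsg.Agent.Lib.Helper15.SLTrans.inv_mulVec, ha]
    set g : SpecialLinearGroup (Fin (k + 2)) F := SpecialLinearGroup.transpose h with hg
    have hgc : g.1 = (h.1)ᵀ := rfl
    refine mult_conj (eps F) x (qzG_isUnit D ρ g)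
      (N := (SpecialLinearGroup.toLin' g).toEquiv) ?_ ?_
    · intro v
      have h1 : (SpecialLinearGroup.toLin' g).toEquiv v = g.1 *ᵥ v := by
        show SpecialLinearGroup.toLin' g v = _
        rw [SpecialLinearGroup.toLin'_apply, Matrix.toLin'_apply]
      rw [h1]
      exact qzG_conj D ρ g v
    · intro v
      have h1 : (SpecialLinearGroup.toLin' g).toEquiv v = g.1 *ᵥ v := by
        show SpecialLinearGroup.toLin' g v = _
        rw [SpecialLinearGroup.toLin'_apply, Matrix.toLin'_apply]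
      rw [h1, dotProduct_mulVec, hgc, vecMul_transpose, hhu]
  -- some non-zero character occurs
  have hex : ∃ u : Fin (k + 2) → F, u ≠ 0 ∧ 0 < mult (eps F) x u := by
    by_contra hcon
    push Not at hcon
    have hPr : ∀ u : Fin (k + 2) → F, u ≠ 0 → Pr (eps F) x u = 0 := by
      intro u hu
      by_contra h0
      have := (mult_pos_iff (eps F) x hψ hxa u).mpr h0
      have := hcon u hu
      omega
    have hsum := sum_Pr (eps F) x hψ hx0
    rw [← Finset.add_sum_erase _ _ (Finset.mem_univ (0 : Fin (k + 2) → F)),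
      Finset.sum_eq_zero (fun u hu => hPr u (Finset.ne_of_mem_erase hu)), add_zero] at hsum
    have hmem : (⟨m₀, hm₀⟩ : ↥(wt ρ D.toSiegel.radv 0)) ∈ LinearMap.range (Pr (eps F) x 0) := by
      rw [hsum]
      exact ⟨_, rfl⟩
    rw [mem_range_Pr_zero_iff (eps F) x hψ hxa] at hmem
    exact hne (congrArg Subtype.val (hmem c₀))
  obtain ⟨u₁, hu₁, hpos⟩ := hex
  have hall : ∀ u : Fin (k + 2) → F, u ≠ 0 → 1 ≤ mult (eps F) x u := by
    intro u hu
    rw [hconj u u₁ hu hu₁]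
    exact hpos
  have hsum := sum_mult (eps F) x hψ hxa hx0
  rw [← hsum]
  calc Fintype.card F ^ (k + 2) - 1
      = ((Finset.univ : Finset (Fin (k + 2) → F)).erase 0).card := by
        rw [Finset.card_erase_of_mem (Finset.mem_univ _), Finset.card_univ, Fintype.card_fun,
          Fintype.card_fin]
    _ = ∑ u ∈ (Finset.univ : Finset (Fin (k + 2) → F)).erase 0, 1 := by
        rw [Finset.sum_const, smul_eq_mul, mul_one]
    _ ≤ ∑ u ∈ (Finset.univ : Finset (Fin (k + 2) → F)).erase 0, mult (eps F) x u :=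
        Finset.sum_le_sum (fun u hu => hall u (Finset.ne_of_mem_erase hu))
    _ ≤ ∑ u : Fin (k + 2) → F, mult (eps F) x u :=
        Finset.sum_le_sum_of_subset (Finset.erase_subset _ _)

end QZ

end Cfsg.Agent.Lib.Helper4.OOMin
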