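import Cfsg.Agent.Lib.Helper26.OOMinDefs
import Cfsg.Agent.Lib.Helper26.OOMinStageDefs

/-!
# S2344 leaf XA1 (planner helper26): `xm_fix`

`ρ (ns a) v` is again fixed by `Z = rad`, hence by `sho (t e_a)`.
-/

set_option autoImplicit false
set_option linter.unusedSectionVars false
set_option linter.unusedVariables false

namespace Cfsg.Agent.Lib.Helper4.OOMin

open Matrix Module Cfsg.Agent.Lib.Helper27.OPMin Cfsg.Agent.Lib.Helper16.SLMin
  Cfsg.Agent.Lib.Helper26.OOMin

section XA

variable {F : Type*} [Field F] [Fintype F] [DecidableEq F] {n : ℕ} {H : Type*} [Group H]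
  {M : Type*} [AddCommGroup M] [Module ℂ M] [FiniteDimensional ℂ M]
  (D : SiegelB F n H) (ρ : Representation ℂ H M)

theorem xa_rho_mul (g h : H) (m : M) : ρ (g * h) m = ρ g (ρ h m) := by
  rw [map_mul]
  rfl

theorem xa_rho_inv_apply (g : H) (m : M) : ρ g⁻¹ (ρ g m) = m := by
  rw [← xa_rho_mul, inv_mul_cancel, map_one]
  rfl

theorem xa_fix_inv {g : H} {m : M} (h : ρ g m = m) : ρ g⁻¹ m = m := by
  conv_lhs => rw [← h]
  exact xa_rho_inv_apply ρ g m

/-- XA1: `ρ (ns a) v` is again fixed by `Z` (`ns_rad_comm`, `ns_levi_transvection`, `rad_transpose`,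
`rad_of_symm`, `Matrix.matrix_eq_sum_single`), hence by `sho (t e_a)` (`hQ0`). -/
theorem xm_fix (a : Fin n)
    (hQ0 : ∀ c : Fin n → F, ∀ m ∈ wt ρ D.toSiegel.radv 0, ρ (D.sho c) m = m)
    (v : M) (hv : v ∈ wt ρ D.toSiegel.radv 0)
    (hlv : ∀ (i : Fin n) (hia : i ≠ a) (t : F),
      ρ (D.levi (SpecialLinearGroup.transvection hia t)) v = v) (t : F) :
    ρ (D.xm a t) v = v := by
  classical
  -- `v` is fixed by the whole of `rad`
  have hvR : ∀ R : Matrix (Fin n) (Fin n) F, ρ (D.rad R) v = v := by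
    intro R
    have h := hv (ofM R)
    rw [zero_dotProduct, AddChar.map_zero_eq_one, one_smul] at h
    exact h
  set v' := ρ (D.ns a) v with hv'
  -- the single-entry matrices
  have hs1 : ∀ (i j : Fin n), i ≠ a → j ≠ a → ∀ r : F,
      ρ (D.rad (Matrix.single i j r)) v' = v' := by
    intro i j hi hj r
    have hc := D.ns_rad_comm a (Matrix.single i j r) (by
      intro i' j' hne
      rw [Matrix.single_apply] at hne
      split_ifs at hne with h
      · exact ⟨h.1 ▸ hi, h.2 ▸ hj⟩
      · exact absurd rfl hne)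
    rw [hv', ← xa_rho_mul, ← hc, xa_rho_mul, hvR]
  have hs2 : ∀ (i : Fin n), i ≠ a → ∀ r : F, ρ (D.rad (Matrix.single i a r)) v' = v' := by
    intro i hi r
    have hc := D.ns_levi_transvection a i hi (-r)
    rw [neg_neg] at hc
    rw [← hc, hv', xa_rho_mul, xa_rho_mul, xa_rho_inv_apply, hlv i hi (-r)]
  have hs3 : ∀ (j : Fin n), j ≠ a → ∀ r : F, ρ (D.rad (Matrix.single a j r)) v' = v' := by
    intro j hj r
    have h1 : Matrix.single a j r = (Matrix.single j a r)ᵀ := by
      rw [Matrix.transpose_single]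
    rw [h1, D.toSiegel.rad_transpose]
    exact xa_fix_inv ρ (hs2 j hj r)
  have hs4 : ∀ r : F, ρ (D.rad (Matrix.single a a r)) v' = v' := by
    intro r
    rw [D.rad_of_symm _ (Matrix.transpose_single a a r), map_one]
    rfl
  have hs : ∀ (i j : Fin n) (r : F), ρ (D.rad (Matrix.single i j r)) v' = v' := by
    intro i j r
    by_cases hi : i = a
    · by_cases hj : j = a
      · rw [hi, hj]
        exact hs4 r
      · rw [hi]
        exact hs3 j hj r
    · by_cases hj : j = a
      · rw [hj]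
        exact hs2 i hi r
      · exact hs1 i j hi hj r
  -- hence `v'` is fixed by the whole of `rad`
  have hv'R : ∀ R : Matrix (Fin n) (Fin n) F, ρ (D.rad R) v' = v' := by
    intro R
    rw [Matrix.matrix_eq_sum_single R]
    refine Finset.sum_induction _ (fun S => ρ (D.rad S) v' = v') ?_ ?_ ?_
    · intro S T hS hT
      show ρ (D.rad (S + T)) v' = v'
      rw [D.rad_add, xa_rho_mul, hT, hS]
    · show ρ (D.rad 0) v' = v'
      rw [D.toSiegel.rad_zero, map_one]
      rfl
    · intro i _
      refine Finset.sum_induction _ (fun S => ρ (D.rad S) v' = v') ?_ ?_ ?_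
      · intro S T hS hT
        show ρ (D.rad (S + T)) v' = v'
        rw [D.rad_add, xa_rho_mul, hT, hS]
      · show ρ (D.rad 0) v' = v'
        rw [D.toSiegel.rad_zero, map_one]
        rfl
      · intro j _
        exact hs i j (R i j)
  have hv'0 : v' ∈ wt ρ D.toSiegel.radv 0 := by
    intro r
    rw [zero_dotProduct, AddChar.map_zero_eq_one, one_smul]
    exact hv'R (toM r)
  have h2 := hQ0 (Pi.single a t) v' hv'0
  show ρ ((D.ns a)⁻¹ * D.sho (Pi.single a t) * D.ns a) v = v
  rw [xa_rho_mul, xa_rho_mul, ← hv', h2, hv', xa_rho_inv_apply]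

end XA

end Cfsg.Agent.Lib.Helper4.OOMin
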