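import Mathlib
import Cfsg.Prelude.Def_Blocks
import Cfsg.Agent.Lib.Helper4.RealExtDefs
import Cfsg.Agent.Lib.Helper6.FirstMain
import Cfsg.Agent.Lib.Helper6.Clifford
import Cfsg.Agent.Lib.Helper6.CliffordCorr
import Cfsg.Agent.S0954
import Cfsg.Agent.S0161

/-!
# S4580 leaf (E2), abstract core (helper4): in a finite group `L` with a normal `2`-complement `K`
on which `L` acts by inner automorphisms of `K`, a `2`-block `b` whose complex conjugate is its
image under an automorphism `c` of `L` (stabilising `K`, with an odd power acting on `K` like an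
element of `L`) is the principal block.
-/

set_option autoImplicit false

namespace Cfsg.Agent.Lib.Helper4.RealExt

open Cfsg Cfsg.Agent.CharLib Cfsg.Agent.Lib.Helper6
open scoped ComplexConjugate

universe u

section inner
variable {K : Type u} [Group K] [Fintype K]

theorem classInner_conj_conj (f g : K → ℂ) :
    classInner (fun x => conj (f x)) (fun x => conj (g x)) = conj (classInner f g) := by
  unfold classInner
  rw [map_mul, map_inv₀, map_natCast, map_sum]
  congr 1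
  apply Finset.sum_congr rfl
  intro x _
  rw [map_mul]

theorem classInner_comp_equiv (e : K ≃ K) (f g : K → ℂ) :
    classInner (f ∘ e) (g ∘ e) = classInner f g := by
  unfold classInner
  congr 1
  exact Fintype.sum_equiv e _ _ (fun x => rfl)

end inner

variable {L : Type u} [Group L] [Fintype L]

/-- If `L` acts on the normal subgroup `K` by inner automorphisms of `K`, an irreducible character
of `L` has a unique irreducible constituent on `K`. -/
theorem constituent_unique (K : Subgroup L) [K.Normal] [Fintype K]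
    (hinner : ∀ l : L, ∃ u ∈ K, ∀ x ∈ K, l * x * l⁻¹ = u * x * u⁻¹)
    {ξ : L → ℂ} (hξ : IsIrrCharacter L ξ) {φ ψ : K → ℂ} (hφ : IsIrrCharacter K φ)
    (hψ : IsIrrCharacter K ψ) (h1 : classInner (resFun K ξ) φ ≠ 0)
    (h2 : classInner (resFun K ξ) ψ ≠ 0) : ψ = φ := by
  obtain ⟨g, hg⟩ := exists_conjFun_eq_of_constituent K hξ hφ hψ h1 h2
  rw [← hg]
  funext x
  rw [conjFun_apply]
  obtain ⟨u, hu, hux⟩ := hinner g
  have hcf : IsClassFunction K φ := IsCharacter.isClassFunction (IsIrrCharacter.isCharacter hφ)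
  have := hcf x ⟨u, hu⟩
  rw [← this]
  congr 1
  apply Subtype.ext
  exact hux x x.2

/-- The abstract local step. -/
theorem eq_principal_core (M : Ideal AlgInt) (hM : IsPModular 2 M)
    (K : Subgroup L) [K.Normal] [Fintype K] (hKodd : Odd (Nat.card K))
    (hKidx : ∃ k : ℕ, K.index = 2 ^ k)
    (hinner : ∀ l : L, ∃ u ∈ K, ∀ x ∈ K, l * x * l⁻¹ = u * x * u⁻¹)
    (c : MulAut L) (hcK : ∀ x, x ∈ K ↔ c x ∈ K)
    (m : ℕ) (hm : Odd m) (l₀ : L) (hcm : ∀ x ∈ K, (c ^ m) x = l₀ * x * l₀⁻¹)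
    (b : Set (IrrCharacter L)) (hb : IsPBlock M b)
    (h : ∀ θ ∈ b, ∃ θ' ∈ cbar '' b, ∀ x : L, (θ' : L → ℂ) x = (θ : L → ℂ) (c x)) :
    b = principalBlock M L := by
  classical
  haveI : Fact (Nat.Prime 2) := ⟨Nat.prime_two⟩
  haveI hprime : M.IsPrime := hM.2.1.isPrime
  have hN2 : ¬ 2 ∣ Nat.card K := by
    rw [← even_iff_two_dvd, Nat.not_even_iff_odd]; exact hKodd
  obtain ⟨ξ₀, rfl⟩ := hb
  have hξ₀ : ξ₀ ∈ blockOf M (ξ₀ : L → ℂ) := mem_blockOf_self ξ₀
  -- a constituent `φ` of `ξ₀` on `K`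
  have hchar : IsCharacter K (resFun K (ξ₀ : L → ℂ)) :=
    isCharacter_resFun K (IsIrrCharacter.isCharacter ξ₀.2)
  have hne : resFun K (ξ₀ : L → ℂ) ≠ 0 := by
    intro h0
    have h1 := congrFun h0 1
    rw [resFun_apply] at h1
    obtain ⟨a, hapos, ha⟩ := IsIrrCharacter.apply_one_pos ξ₀.2
    have h2 : (ξ₀ : L → ℂ) 1 = 0 := by simpa using h1
    rw [ha] at h2
    have : (a : ℂ) ≠ 0 := by exact_mod_cast hapos.ne'
    exact this h2
  obtain ⟨φ, hφirr, hφne⟩ := IsCharacter.exists_constituent hchar hne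
  have hφcf : IsClassFunction K φ := IsCharacter.isClassFunction (IsIrrCharacter.isCharacter hφirr)
  -- the restriction of `c` to `K`
  let cK : K ≃* K :=
    { toFun := fun x => ⟨c x, (hcK x).1 x.2⟩
      invFun := fun y => ⟨c.symm (y : L),
        (hcK (c.symm (y : L))).2 (by rw [MulEquiv.apply_symm_apply]; exact y.2)⟩
      left_inv := fun x => Subtype.ext (MulEquiv.symm_apply_apply c (x : L))
      right_inv := fun y => Subtype.ext (MulEquiv.apply_symm_apply c (y : L))
      map_mul' := fun x y => Subtype.ext (map_mul c (x : L) (y : L)) }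
  -- `θ'`
  obtain ⟨θ', hθ'mem, hθ'⟩ := h ξ₀ hξ₀
  have hsame : SameBlock M (ξ₀ : L → ℂ) ((cbar θ' : IrrCharacter L) : L → ℂ) :=
    mem_cbar_image.1 hθ'mem
  obtain ⟨ψ, hψ1, hψ2⟩ := (Cfsg.Agent.S0954.result 2 M hM K hN2 hKidx ξ₀ (cbar θ')).1 hsame
  have hψφ : (ψ : K → ℂ) = φ :=
    constituent_unique K hinner ξ₀.2 hφirr ψ.2 hφne hψ1
  rw [hψφ] at hψ2
  -- `φ' = conj ∘ φ ∘ cK⁻¹` is a constituent of `ξ₀`
  set φ' : K → ℂ := fun y => conj (φ (cK.symm y)) with hφ'
  have hφ'irr : IsIrrCharacter K φ' :=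
    IsIrrCharacter.conj' (isIrrCharacter_comp_mulEquiv' cK.symm hφirr)
  have hφ'ne : classInner (resFun K (ξ₀ : L → ℂ)) φ' ≠ 0 := by
    intro h0
    apply hψ2
    have e1 : (fun n : K => ((cbar θ' : IrrCharacter L) : L → ℂ) n) =
        fun n : K => conj ((resFun K (ξ₀ : L → ℂ) ∘ cK) n) := by
      funext n
      rw [cbar_apply, hθ']
      rfl
    have e2 : φ = fun n : K => conj ((φ' ∘ cK) n) := by
      funext n
      simp [hφ']
    rw [e1]
    conv_lhs => rw [e2]
    have e3 : classInner ((resFun K (ξ₀ : L → ℂ)) ∘ cK) (φ' ∘ cK) =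
        classInner (resFun K (ξ₀ : L → ℂ)) φ' := classInner_comp_equiv cK.toEquiv _ _
    rw [classInner_conj_conj, e3, h0, map_zero]
  have hφ'φ : φ' = φ := constituent_unique K hinner ξ₀.2 hφirr hφ'irr hφne hφ'ne
  -- (*) `φ (cK x) = conj (φ x)`
  have hstar : ∀ x : K, φ (cK x) = conj (φ x) := by
    intro x
    have := congrFun hφ'φ (cK x)
    simp only [hφ', MulEquiv.symm_apply_apply] at this
    rw [← this]
  -- total version
  let F : L → ℂ := fun x => if hx : x ∈ K then φ ⟨x, hx⟩ else 0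
  have hF : ∀ x (hx : x ∈ K), F x = φ ⟨x, hx⟩ := fun x hx => dif_pos hx
  have hFc : ∀ x ∈ K, F (c x) = conj (F x) := by
    intro x hx
    rw [hF x hx, hF (c x) ((hcK x).1 hx)]
    exact hstar ⟨x, hx⟩
  have hpow : ∀ j : ℕ, ∀ x ∈ K, (c ^ j) x ∈ K ∧
      F ((c ^ j) x) = if Even j then F x else conj (F x) := by
    intro j
    induction j with
    | zero =>
      intro x hx
      simp [hx]
    | succ j ih =>
      intro x hx
      obtain ⟨h1, h2⟩ := ih x hx
      have e : (c ^ (j + 1)) x = c ((c ^ j) x) := by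
        rw [pow_succ']; rfl
      rw [e]
      refine ⟨(hcK _).1 h1, ?_⟩
      rw [hFc _ h1, h2]
      by_cases hj : Even j
      · have : ¬ Even (j + 1) := by
          rw [Nat.even_add_one]; exact not_not.2 hj
        rw [if_pos hj, if_neg this]
      · have : Even (j + 1) := by
          rw [Nat.even_add_one]; exact hj
        rw [if_neg hj, if_pos this, Complex.conj_conj]
  -- `φ` is real
  have hreal : ∀ x : K, ((φ x)).im = 0 := by
    intro x
    obtain ⟨-, h2⟩ := hpow m x x.2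
    have hmo : ¬ Even m := Nat.not_even_iff_odd.2 hm
    rw [if_neg hmo, hcm x x.2] at h2
    obtain ⟨u, hu, hux⟩ := hinner l₀
    rw [hux x x.2, hF x x.2, hF _ (K.mul_mem (K.mul_mem hu x.2) (K.inv_mem hu))] at h2
    have h3 := hφcf x ⟨u, hu⟩
    have h4 : φ ⟨u * x * u⁻¹, K.mul_mem (K.mul_mem hu x.2) (K.inv_mem hu)⟩ = φ x := by
      rw [← h3]; rfl
    rw [h4] at h2
    have h5 : conj (φ x) = φ x := h2.symm
    exact Complex.conj_eq_iff_im.1 h5
  have hφ1 : φ = fun _ => 1 :=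
    Cfsg.Agent.S0161.result hKodd ⟨φ, hφirr⟩ hreal
  -- the trivial character lies over `φ`
  let τ : IrrCharacter L := ⟨(1 : L → ℂ), isIrrCharacter_one⟩
  have hτ : classInner (fun n : K => (τ : L → ℂ) n) φ ≠ 0 := by
    have h1 : (fun n : K => (τ : L → ℂ) n) = φ := by rw [hφ1]; rfl
    rw [h1, classInner_irr hφirr hφirr, if_pos rfl]
    exact one_ne_zero
  have hsame2 : SameBlock M (ξ₀ : L → ℂ) (τ : L → ℂ) :=
    (Cfsg.Agent.S0954.result 2 M hM K hN2 hKidx ξ₀ τ).2 ⟨⟨φ, hφirr⟩, hφne, hτ⟩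
  exact isPBlock_eq_of_mem ⟨ξ₀, rfl⟩ ⟨τ, rfl⟩ hsame2 (mem_blockOf_self τ)

end Cfsg.Agent.Lib.Helper4.RealExt
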