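import Mathlib
import Cfsg.Agent.Lib.Helper4.A10a
import Cfsg.Agent.Lib.Helper4.A10Data

set_option autoImplicit false

namespace Cfsg.Agent.Lib.Helper4.A10

/-- the `i`-th code pair. -/
def L (i : ℕ) : ℕ × ℕ := Ldata.getD i (0, 0)

/-- index of `L i * gen j`. -/
def nxt (i j : ℕ) : ℕ := if j = 0 then (Ndata.getD i (0, 0)).1 else (Ndata.getD i (0, 0)).2

/-- index of the `k`-th power of `L i`. -/
def P (i k : ℕ) : ℕ := (Pdata.getD i []).getD k 0

/-- height of the power chain of `L i`. -/
def Hh (i : ℕ) : ℕ := (Pdata.getD i []).length - 1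

/-- check a product of code pairs. -/
def chkPair (x y z : ℕ × ℕ) : Bool := chk 7 4 x.1 y.1 z.1 && chk 3 12 x.2 y.2 z.2

/-- final condition on the power chain of `L i`. -/
def fin (i : ℕ) : Bool :=
  i == 0 || (P i 0 == 0 && P i 1 == i &&
    ((P i (Hh i) == 62 && decide (1 ≤ Hh i) && decide (Hh i ≤ 6)) ||
     (P i (Hh i) == 0 && Hh i == 3 && chkSum 7 4 [(L i).1, (L (P i 2)).1] 1) ||
     (P i (Hh i) == 0 && Hh i == 5 &&
        chkSum 7 4 [(L i).1, (L (P i 2)).1, (L (P i 3)).1, (L (P i 4)).1] 1)))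

set_option maxRecDepth 100000 in
theorem tableT : allTo (fun i => chkPair (L i) (L 1) (L (nxt i 0)) &&
    chkPair (L i) (L 2) (L (nxt i 1))) 240 = true := by decide +kernel

set_option maxRecDepth 100000 in
theorem tableF : allTo fin 240 = true := by decide +kernel

set_option maxRecDepth 100000 in
theorem tableN : allTo (fun i => decide (nxt i 0 < 240) && decide (nxt i 1 < 240)) 240 = true := by
  decide +kernel

theorem tableO : (chkOne 7 4 (L 0).1 && chkOne 3 12 (L 0).2) = true := by decide +kernel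

theorem tableZ : (chkSum 7 4 [(L 62).1] 1 && chkSum 3 12 [(L 62).2] 1) = true := by decide +kernel

end Cfsg.Agent.Lib.Helper4.A10
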