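import Mathlib
import Cfsg.Agent.Lib.Helper4.A10b

set_option autoImplicit false

namespace Cfsg.Agent.Lib.Helper4.A10

set_option maxRecDepth 100000 in
theorem tableP : allTo (fun i => allTo (fun k => k == 0 ||
    chkPair (L (P i k)) (L i) (L (P i (k + 1)))) (Hh i)) 240 = true := by decide +kernel

end Cfsg.Agent.Lib.Helper4.A10
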