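import Mathlib
import Cfsg.Agent.Lib.Helper4.A10b2

set_option autoImplicit false

namespace Cfsg.Agent.Lib.Helper4.A10

/-- `4 × 4` matrices mod `7`. -/
abbrev M7 := Matrix (Fin 4) (Fin 4) (ZMod 7)
/-- `12 × 12` matrices mod `3`. -/
abbrev M3 := Matrix (Fin 12) (Fin 12) (ZMod 3)
/-- the product ring. -/
abbrev RR := M7 × M3

/-- the `i`-th element of the list, in the ring. -/
def el (i : ℕ) : RR := (dec 7 4 (L i).1, dec 3 12 (L i).2)

theorem el_mul {i j k : ℕ} (h : chkPair (L i) (L j) (L k) = true) : el i * el j = el k := by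
  rw [chkPair, Bool.and_eq_true] at h
  exact Prod.ext (dec_mul h.1) (dec_mul h.2)

theorem el_zero : el 0 = 1 := by
  have h := tableO
  rw [Bool.and_eq_true] at h
  exact Prod.ext (dec_one h.1) (dec_one h.2)

theorem el_z : el 62 = -1 := by
  have h := tableZ
  rw [Bool.and_eq_true] at h
  have h1 := dec_sum h.1
  have h2 := dec_sum h.2
  simp only [List.map_cons, List.map_nil, List.sum_cons, List.sum_nil, add_zero,
    Nat.cast_one] at h1 h2
  exact Prod.ext (eq_neg_of_add_eq_zero_left h1) (eq_neg_of_add_eq_zero_left h2)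

theorem el_nxt {i : ℕ} (hi : i < 240) :
    el i * el 1 = el (nxt i 0) ∧ el i * el 2 = el (nxt i 1) := by
  have h := (allTo_iff _ _).mp tableT i hi
  rw [Bool.and_eq_true] at h
  exact ⟨el_mul h.1, el_mul h.2⟩

theorem nxt_lt {i : ℕ} (hi : i < 240) : nxt i 0 < 240 ∧ nxt i 1 < 240 := by
  have h := (allTo_iff _ _).mp tableN i hi
  rw [Bool.and_eq_true, decide_eq_true_iff, decide_eq_true_iff] at h
  exact h

theorem fin_spec {i : ℕ} (hi : i < 240) (h0 : i ≠ 0) : P i 0 = 0 ∧ P i 1 = i ∧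
    ((P i (Hh i) = 62 ∧ 1 ≤ Hh i ∧ Hh i ≤ 6) ∨
     (P i (Hh i) = 0 ∧ Hh i = 3 ∧ chkSum 7 4 [(L i).1, (L (P i 2)).1] 1 = true) ∨
     (P i (Hh i) = 0 ∧ Hh i = 5 ∧
        chkSum 7 4 [(L i).1, (L (P i 2)).1, (L (P i 3)).1, (L (P i 4)).1] 1 = true)) := by
  have h := (allTo_iff _ _).mp tableF i hi
  simp only [fin, Bool.or_eq_true, Bool.and_eq_true, beq_iff_eq, decide_eq_true_iff] at h
  rcases h with h | h
  · exact absurd h h0
  · refine ⟨h.1.1, h.1.2, ?_⟩
    tauto

theorem el_pow {i : ℕ} (hi : i < 240) (k : ℕ) (hk : k ≤ Hh i) : el (P i k) = el i ^ k := by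
  by_cases h0 : i = 0
  · subst h0
    have h1 : Hh 0 = 0 := by decide
    have h2 : P 0 0 = 0 := by decide
    rw [h1] at hk
    have : k = 0 := by omega
    subst this
    rw [h2, el_zero, pow_zero]
  · obtain ⟨hP0, hP1, -⟩ := fin_spec hi h0
    induction k with
    | zero => rw [hP0, el_zero, pow_zero]
    | succ k ih =>
      by_cases hk0 : k = 0
      · subst hk0
        rw [hP1, zero_add, pow_one]
      · have h1 := (allTo_iff _ _).mp ((allTo_iff _ _).mp tableP i hi) k (by omega)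
        rw [Bool.or_eq_true, beq_iff_eq] at h1
        rcases h1 with h1 | h1
        · exact absurd h1 hk0
        · rw [← el_mul h1, ih (by omega), pow_succ]

/-- geometric sums. -/
def gs {A : Type*} [Semiring A] (x : A) (r : ℕ) : A := ∑ j ∈ Finset.range r, x ^ j

theorem gs_add {A : Type*} [Semiring A] (x : A) (a b : ℕ) :
    gs x (a + b) = gs x a + x ^ a * gs x b := by
  rw [gs, gs, gs, Finset.sum_range_add, Finset.mul_sum]
  congr 1
  apply Finset.sum_congr rfl
  intro j _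
  rw [pow_add]

theorem gs_mul_of_pow_eq_one {A : Type*} [Semiring A] (x : A) (a q : ℕ) (h : x ^ a = 1) :
    gs x (a * q) = q • gs x a := by
  induction q with
  | zero => simp [gs]
  | succ q ih =>
    rw [Nat.mul_succ, gs_add, ih, pow_mul, h, one_pow, one_mul, succ_nsmul]

theorem gs_of_neg_one {A : Type*} [Ring A] (x : A) (h : ℕ) (hx : x ^ h = -1) :
    x ^ (2 * h) = 1 ∧ gs x (2 * h) = 0 := by
  constructor
  · rw [mul_comm, pow_mul, hx]; simp
  · rw [two_mul, gs_add, hx]; simp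

theorem gs_succ {A : Type*} [Semiring A] (x : A) (r : ℕ) : gs x (r + 1) = 1 + x * gs x r := by
  rw [add_comm r 1, gs_add]
  simp [gs]

theorem three_M3 (B : M3) : 3 • B = 0 := by
  ext i j
  rw [Matrix.smul_apply, Matrix.zero_apply]
  have : (3 : ZMod 3) = 0 := by decide
  rw [nsmul_eq_mul]
  simp [this]

theorem certE {i h : ℕ} (hi : i < 240) (hh : h ≤ Hh i) (hP : P i h = 62) :
    el i ^ (2 * h) = 1 ∧ gs (el i) (2 * h) = 0 := by
  apply gs_of_neg_one
  rw [← el_pow hi h hh, hP, el_z]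

theorem certO3 {i : ℕ} (hi : i < 240) (h3 : 3 ≤ Hh i) (hP : P i 3 = 0)
    (hs : chkSum 7 4 [(L i).1, (L (P i 2)).1] 1 = true) :
    el i ^ 3 = 1 ∧ (gs (el i) 3).1 = 0 ∧ el i ^ 9 = 1 ∧ gs (el i) 9 = 0 := by
  have h1 : el i ^ 3 = 1 := by rw [← el_pow hi 3 h3, hP, el_zero]
  have h2 : (gs (el i) 3).1 = 0 := by
    have h4 := dec_sum hs
    have h5 : dec 7 4 (L (P i 2)).1 = (el i).1 ^ 2 := by
      have := el_pow hi 2 (by omega)
      rw [← Prod.pow_fst, ← this]; rfl
    simp only [List.map_cons, List.map_nil, List.sum_cons, List.sum_nil, add_zero,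
      Nat.cast_one] at h4
    rw [h5] at h4
    have h6 : dec 7 4 (L i).1 = (el i).1 := rfl
    rw [h6] at h4
    simp only [gs, Finset.sum_range_succ, Finset.range_zero, Finset.sum_empty, zero_add, pow_zero,
      pow_one, Prod.fst_add, Prod.fst_one, Prod.pow_fst]
    rw [← h4]; abel
  refine ⟨h1, h2, ?_, ?_⟩
  · rw [show 9 = 3 * 3 from rfl, pow_mul, h1, one_pow]
  · rw [show 9 = 3 * 3 from rfl, gs_mul_of_pow_eq_one _ _ _ h1]
    apply Prod.ext
    · rw [Prod.smul_fst, h2, smul_zero]; rfl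
    · rw [Prod.smul_snd, three_M3]; rfl

theorem certO5 {i : ℕ} (hi : i < 240) (h5 : 5 ≤ Hh i) (hP : P i 5 = 0)
    (hs : chkSum 7 4 [(L i).1, (L (P i 2)).1, (L (P i 3)).1, (L (P i 4)).1] 1 = true) :
    el i ^ 5 = 1 ∧ (gs (el i) 5).1 = 0 ∧ el i ^ 15 = 1 ∧ gs (el i) 15 = 0 := by
  have h1 : el i ^ 5 = 1 := by rw [← el_pow hi 5 h5, hP, el_zero]
  have h2 : (gs (el i) 5).1 = 0 := by
    have h4 := dec_sum hs
    have hp : ∀ k, k ≤ Hh i → dec 7 4 (L (P i k)).1 = (el i).1 ^ k := by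
      intro k hk
      have := el_pow hi k hk
      rw [← Prod.pow_fst, ← this]; rfl
    simp only [List.map_cons, List.map_nil, List.sum_cons, List.sum_nil, add_zero,
      Nat.cast_one] at h4
    rw [hp 2 (by omega), hp 3 (by omega), hp 4 (by omega)] at h4
    have h6 : dec 7 4 (L i).1 = (el i).1 := rfl
    rw [h6] at h4
    simp only [gs, Finset.sum_range_succ, Finset.range_zero, Finset.sum_empty, zero_add, pow_zero,
      pow_one, Prod.fst_add, Prod.fst_one, Prod.pow_fst]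
    rw [← h4]; abel
  refine ⟨h1, h2, ?_, ?_⟩
  · rw [show 15 = 5 * 3 from rfl, pow_mul, h1, one_pow]
  · rw [show 15 = 5 * 3 from rfl, gs_mul_of_pow_eq_one _ _ _ h1]
    apply Prod.ext
    · rw [Prod.smul_fst, h2, smul_zero]; rfl
    · rw [Prod.smul_snd, three_M3]; rfl

theorem gs_one_21 : gs (1 : RR) 21 = 0 := by
  have h : gs (1 : RR) 21 = (21 : ℕ) • (1 : RR) := by simp [gs]
  rw [h]
  apply Prod.ext
  · rw [Prod.smul_fst]
    ext i j
    have : (21 : ZMod 7) = 0 := by decide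
    simp [Matrix.smul_apply, Matrix.one_apply, this]
  · rw [Prod.smul_snd]
    ext i j
    have : (21 : ZMod 3) = 0 := by decide
    simp [Matrix.smul_apply, Matrix.one_apply, this]

/-- the admissible exponents. -/
def Rs : List ℕ := [2, 4, 6, 8, 9, 10, 12, 15, 21]

theorem el_cert {i : ℕ} (hi : i < 240) : ∃ r ∈ Rs, el i ^ r = 1 ∧ gs (el i) r = 0 := by
  by_cases h0 : i = 0
  · subst h0
    refine ⟨21, by simp [Rs], ?_, ?_⟩
    · rw [el_zero, one_pow]
    · rw [el_zero, gs_one_21]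
  · obtain ⟨-, -, h | h | h⟩ := fin_spec hi h0
    · obtain ⟨hP, h1, h6⟩ := h
      refine ⟨2 * Hh i, ?_, certE hi le_rfl hP⟩
      generalize Hh i = h at h1 h6
      interval_cases h <;> simp [Rs]
    · obtain ⟨hP, h3, hs⟩ := h
      rw [h3] at hP
      obtain ⟨-, -, h9, h9'⟩ := certO3 hi (by omega) hP hs
      exact ⟨9, by simp [Rs], h9, h9'⟩
    · obtain ⟨hP, h5, hs⟩ := h
      rw [h5] at hP
      obtain ⟨-, -, h9, h9'⟩ := certO5 hi (by omega) hP hs
      exact ⟨15, by simp [Rs], h9, h9'⟩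

end Cfsg.Agent.Lib.Helper4.A10
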