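import Mathlib
import Cfsg.Agent.Lib.Helper4.A10c

set_option autoImplicit false

namespace Cfsg.Agent.Lib.Helper4.A10

theorem el1_pow : el 1 ^ 12 = 1 :=
  (certE (i := 1) (h := 6) (by norm_num) (by decide) (by decide)).1

theorem el2_pow : el 2 ^ 10 = 1 :=
  (certE (i := 2) (h := 5) (by norm_num) (by decide) (by decide)).1

/-- first generator, of order `12`. -/
def ga : RRˣ := Units.ofPowEqOne (el 1) 12 el1_pow (by norm_num)

/-- second generator, of order `10`. -/
def gb : RRˣ := Units.ofPowEqOne (el 2) 10 el2_pow (by norm_num)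

theorem ga_val : (ga : RR) = el 1 := rfl
theorem gb_val : (gb : RR) = el 2 := rfl

theorem ga_pow : ga ^ 12 = 1 := Units.ext (by rw [Units.val_pow_eq_pow_val, ga_val, el1_pow]; rfl)
theorem gb_pow : gb ^ 10 = 1 := Units.ext (by rw [Units.val_pow_eq_pow_val, gb_val, el2_pow]; rfl)

/-- the complement `2.S₅⁻`. -/
def XX : Subgroup RRˣ := Subgroup.closure {ga, gb}

/-- being in the list. -/
def InL (x : RRˣ) : Prop := ∃ i < 240, (x : RR) = el i

theorem inL_mul_a {x : RRˣ} (h : InL x) : InL (x * ga) := by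
  obtain ⟨i, hi, hx⟩ := h
  exact ⟨nxt i 0, (nxt_lt hi).1, by rw [Units.val_mul, hx, ga_val, (el_nxt hi).1]⟩

theorem inL_mul_b {x : RRˣ} (h : InL x) : InL (x * gb) := by
  obtain ⟨i, hi, hx⟩ := h
  exact ⟨nxt i 1, (nxt_lt hi).2, by rw [Units.val_mul, hx, gb_val, (el_nxt hi).2]⟩

theorem inL_mul_pow {g : RRˣ} (hg : ∀ x, InL x → InL (x * g)) (n : ℕ) :
    ∀ x, InL x → InL (x * g ^ n) := by
  induction n with
  | zero => intro x hx; simpa using hx
  | succ n ih =>
    intro x hx
    rw [pow_succ, ← mul_assoc]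
    exact hg _ (ih x hx)

theorem mem_XX_inL {x : RRˣ} (hx : x ∈ XX) : InL x := by
  induction hx using Subgroup.closure_induction_right with
  | one => exact ⟨0, by norm_num, by rw [Units.val_one, el_zero]⟩
  | mul_right x hx y hy ih =>
    rcases hy with rfl | rfl
    · exact inL_mul_a ih
    · exact inL_mul_b ih
  | mul_inv_cancel x hx y hy ih =>
    rcases hy with rfl | rfl
    · have : (ga)⁻¹ = ga ^ 11 := inv_eq_of_mul_eq_one_right (by rw [← pow_succ', ga_pow])
      rw [this]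
      exact inL_mul_pow (fun x => inL_mul_a) 11 x ih
    · have : (gb)⁻¹ = gb ^ 9 := inv_eq_of_mul_eq_one_right (by rw [← pow_succ', gb_pow])
      rw [this]
      exact inL_mul_pow (fun x => inL_mul_b) 9 x ih

theorem XX_cert {x : RRˣ} (hx : x ∈ XX) : ∃ r ∈ Rs, (x : RR) ^ r = 1 ∧ gs (x : RR) r = 0 := by
  obtain ⟨i, hi, h⟩ := mem_XX_inL hx
  rw [h]
  exact el_cert hi

theorem ga_mem : ga ∈ XX := Subgroup.subset_closure (by simp)
theorem gb_mem : gb ∈ XX := Subgroup.subset_closure (by simp)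

end Cfsg.Agent.Lib.Helper4.A10
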