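import Mathlib

namespace Cfsg.Agent.Lib.Helper4.OT

/-- number of solutions of `g ^ d = 1`. -/
noncomputable def cd (G : Type*) [Monoid G] (d : ℕ) : ℕ := Nat.card {g : G // g ^ d = 1}

theorem cd_prod (G H : Type*) [Monoid G] [Monoid H] (d : ℕ) :
    cd (G × H) d = cd G d * cd H d := by
  unfold cd
  rw [← Nat.card_prod]
  apply Nat.card_congr
  exact
    { toFun := fun x => (⟨x.1.1, by have := x.2; simpa [Prod.ext_iff] using (Prod.ext_iff.mp this).1⟩,
                         ⟨x.1.2, by have := x.2; simpa [Prod.ext_iff] using (Prod.ext_iff.mp this).2⟩)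
      invFun := fun y => ⟨(y.1.1, y.2.1), by simp [Prod.ext_iff, y.1.2, y.2.2]⟩
      left_inv := fun x => by simp
      right_inv := fun y => by simp }

theorem cd_pi (ι : Type*) [Fintype ι] (G : Type*) [Monoid G] (d : ℕ) :
    cd (ι → G) d = cd G d ^ Fintype.card ι := by
  unfold cd
  rw [← Nat.card_eq_fintype_card (α := ι), ← Nat.card_fun]
  apply Nat.card_congr
  exact
    { toFun := fun x i => ⟨x.1 i, by have := congrFun x.2 i; simpa using this⟩
      invFun := fun y => ⟨fun i => (y i).1, by ext i; simpa using (y i).2⟩
      left_inv := fun x => by simp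
      right_inv := fun y => by simp }

theorem cd_congr {G H : Type*} [Monoid G] [Monoid H] (e : G ≃* H) (d : ℕ) : cd G d = cd H d := by
  unfold cd
  apply Nat.card_congr
  exact
    { toFun := fun x => ⟨e x.1, by rw [← map_pow, x.2, map_one]⟩
      invFun := fun y => ⟨e.symm y.1, by rw [← map_pow, y.2, map_one]⟩
      left_inv := fun x => by simp
      right_inv := fun y => by simp }

theorem cd_gcd {G : Type*} [Monoid G] (E : ℕ) (hE : ∀ g : G, g ^ E = 1) (d : ℕ) :
    cd G d = cd G (Nat.gcd d E) := by
  unfold cd
  apply Nat.card_congr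
  refine Equiv.subtypeEquivRight (fun g => ?_)
  constructor
  · intro h
    exact pow_gcd_eq_one.mpr ⟨h, hE g⟩
  · intro h
    obtain ⟨k, hk⟩ := Nat.gcd_dvd_left d E
    rw [hk, pow_mul, h, one_pow]

/-- order statistics are determined by the `cd`'s. -/
theorem card_orderOf_eq {G H : Type*} [Group G] [Finite G] [Group H] [Finite H]
    (h : ∀ d, cd G d = cd H d) (n : ℕ) :
    Nat.card {g : G // orderOf g = n} = Nat.card {x : H // orderOf x = n} := by
  classical
  haveI := Fintype.ofFinite G
  haveI := Fintype.ofFinite H
  induction n using Nat.strong_induction_on with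
  | _ n ih =>
    rcases Nat.eq_zero_or_pos n with rfl | hn
    · have h1 : IsEmpty {g : G // orderOf g = 0} := ⟨fun x => (orderOf_pos x.1).ne' x.2⟩
      have h2 : IsEmpty {g : H // orderOf g = 0} := ⟨fun x => (orderOf_pos x.1).ne' x.2⟩
      rw [Nat.card_of_isEmpty, Nat.card_of_isEmpty]
    · have eG := sum_card_orderOf_eq_card_pow_eq_one (G := G) hn.ne'
      have eH := sum_card_orderOf_eq_card_pow_eq_one (G := H) hn.ne'
      have hc := h n
      unfold cd at hc
      rw [Nat.card_eq_fintype_card, Nat.card_eq_fintype_card, Fintype.card_subtype,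
        Fintype.card_subtype] at hc
      rw [← hc, ← eG] at eH
      rw [← Nat.cons_self_properDivisors hn.ne', Finset.sum_cons, Finset.sum_cons] at eH
      have hrest : ∑ m ∈ n.properDivisors, (Finset.univ.filter (fun x : H => orderOf x = m)).card
          = ∑ m ∈ n.properDivisors, (Finset.univ.filter (fun x : G => orderOf x = m)).card := by
        apply Finset.sum_congr rfl
        intro m hm
        have := ih m (Nat.mem_properDivisors.mp hm).2
        rw [Nat.card_eq_fintype_card, Nat.card_eq_fintype_card, Fintype.card_subtype,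
          Fintype.card_subtype] at this
        exact this.symm
      rw [hrest] at eH
      rw [Nat.card_eq_fintype_card, Nat.card_eq_fintype_card, Fintype.card_subtype,
        Fintype.card_subtype]
      omega

theorem cd_eq_filter (G : Type*) [Monoid G] [Fintype G] [DecidableEq G] (d : ℕ) :
    cd G d = (Finset.univ.filter (fun g : G => g ^ d = 1)).card := by
  unfold cd
  rw [Nat.card_eq_fintype_card, Fintype.card_subtype]

theorem exp_of_cd (G : Type*) [Monoid G] [Fintype G] [DecidableEq G] (E : ℕ)
    (h : cd G E = Fintype.card G) (g : G) : g ^ E = 1 := by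
  rw [cd_eq_filter] at h
  have h2 : Finset.univ.filter (fun g : G => g ^ E = 1) = Finset.univ :=
    Finset.eq_univ_of_card _ h
  have := Finset.mem_univ g
  rw [← h2, Finset.mem_filter] at this
  exact this.2

end Cfsg.Agent.Lib.Helper4.OT
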