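import Mathlib
import Cfsg.Agent.Lib.Helper4.OT1

namespace Cfsg.Agent.Lib.Helper4.OT

open SemidirectProduct

section general

variable {N T : Type*} [Group N] [Group T] (φ : T →* MulAut N)

/-- left component of `(n,t)^d`. -/
def Lp (t : T) (n : N) : ℕ → N
  | 0 => 1
  | d + 1 => n * φ t (Lp t n d)

theorem sd_pow (x : N ⋊[φ] T) (d : ℕ) :
    (x ^ d).right = x.right ^ d ∧ (x ^ d).left = Lp φ x.right x.left d := by
  induction d with
  | zero => simp [Lp]
  | succ d ih =>
    rw [pow_succ']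
    refine ⟨by rw [mul_right, ih.1, pow_succ'], ?_⟩
    rw [mul_left, ih.2, Lp]

theorem sd_pow_eq_one_iff (x : N ⋊[φ] T) (d : ℕ) :
    x ^ d = 1 ↔ x.right ^ d = 1 ∧ Lp φ x.right x.left d = 1 := by
  rw [SemidirectProduct.ext_iff, (sd_pow φ x d).1, (sd_pow φ x d).2, one_left, one_right]
  tauto

theorem cd_sd [Fintype T] [Finite N] [DecidableEq T] (d : ℕ) :
    cd (N ⋊[φ] T) d =
      ∑ t : T, if t ^ d = 1 then Nat.card {n : N // Lp φ t n d = 1} else 0 := by
  classical
  unfold cd
  have e : {x : N ⋊[φ] T // x ^ d = 1} ≃ Σ t : {t : T // t ^ d = 1}, {n : N // Lp φ t.1 n d = 1} :=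
    { toFun := fun x => ⟨⟨x.1.right, ((sd_pow_eq_one_iff φ x.1 d).mp x.2).1⟩,
        ⟨x.1.left, ((sd_pow_eq_one_iff φ x.1 d).mp x.2).2⟩⟩
      invFun := fun y => ⟨⟨y.2.1, y.1.1⟩, (sd_pow_eq_one_iff φ _ d).mpr ⟨y.1.2, y.2.2⟩⟩
      left_inv := fun x => by simp
      right_inv := fun y => by simp }
  rw [Nat.card_congr e, Nat.card_sigma]
  rw [← Finset.sum_filter]
  rw [Finset.sum_subtype (Finset.univ.filter (fun t : T => t ^ d = 1)) (p := fun t => t ^ d = 1)
    (by simp)]

theorem sd_solvable [Group.IsSolvable N] [Group.IsSolvable T] : Group.IsSolvable (N ⋊[φ] T) :=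
  Group.isSolvable_of_ker_le_range (inl : N →* N ⋊[φ] T) rightHom (by rw [range_inl_eq_ker_rightHom])

instance sd_finite [Finite N] [Finite T] : Finite (N ⋊[φ] T) :=
  Finite.of_injective (fun x : N ⋊[φ] T => (x.left, x.right))
    (fun _ _ h => SemidirectProduct.ext (Prod.ext_iff.mp h).1 (Prod.ext_iff.mp h).2)

instance sd_fintype [Fintype N] [Fintype T] : Fintype (N ⋊[φ] T) :=
  Fintype.ofEquiv (N × T)
    ⟨fun p => ⟨p.1, p.2⟩, fun x => (x.left, x.right), fun _ => rfl, fun _ => rfl⟩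

theorem cd_sd' [Fintype T] [Fintype N] [DecidableEq T] [DecidableEq N] (d : ℕ) :
    cd (N ⋊[φ] T) d =
      ∑ t : T, if t ^ d = 1 then (Finset.univ.filter (fun n : N => Lp φ t n d = 1)).card else 0 := by
  rw [cd_sd]
  apply Finset.sum_congr rfl
  intro t _
  split_ifs
  · rw [Nat.card_eq_fintype_card, Fintype.card_subtype]
  · rfl

theorem natCard_sd [Finite N] [Finite T] : Nat.card (N ⋊[φ] T) = Nat.card N * Nat.card T := by
  rw [← Nat.card_prod]
  exact Nat.card_congr
    ⟨fun x => (x.left, x.right), fun p => ⟨p.1, p.2⟩, fun _ => rfl, fun _ => rfl⟩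

end general

theorem exp_of_cd' (G : Type*) [Monoid G] [Finite G] (E : ℕ) (h : cd G E = Nat.card G) (g : G) :
    g ^ E = 1 := by
  classical
  haveI := Fintype.ofFinite G
  exact exp_of_cd G E (by rw [h, Nat.card_eq_fintype_card]) g

theorem exp_prod {A B : Type*} [Monoid A] [Monoid B] (E : ℕ) (hA : ∀ a : A, a ^ E = 1)
    (hB : ∀ b : B, b ^ E = 1) (x : A × B) : x ^ E = 1 := by
  ext
  · simp [hA]
  · simp [hB]

theorem exp_pi {ι A : Type*} [Monoid A] (E : ℕ) (hA : ∀ a : A, a ^ E = 1) (x : ι → A) :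
    x ^ E = 1 := by
  funext i
  simp [hA]

/-- build `T →* MulAut N` from an explicit action function. -/
def mkPhi {T N : Type*} [Group T] [Group N] (act : T → N → N)
    (h1 : ∀ t a b, act t (a * b) = act t a * act t b)
    (h2 : ∀ t u a, act (t * u) a = act t (act u a))
    (h3 : ∀ a, act 1 a = a) : T →* MulAut N where
  toFun t :=
    { toFun := act t
      invFun := act t⁻¹
      left_inv := fun a => by rw [← h2, inv_mul_cancel, h3]
      right_inv := fun a => by rw [← h2, mul_inv_cancel, h3]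
      map_mul' := h1 t }
  map_one' := by ext a; exact h3 a
  map_mul' t u := by ext a; exact h2 t u a

section sign

variable {T : Type*} [Group T] {k : ℕ} (m : Fin k → ℕ) (χ : Fin k → T →* ℤˣ)

/-- the sign action of `T` on `∏ ZMod (m i)`. -/
def sphi : T →* MulAut (Multiplicative (∀ i : Fin k, ZMod (m i))) :=
  (MulAutMultiplicative (∀ i : Fin k, ZMod (m i))).symm.toMonoidHom.comp
    ((DistribMulAction.toAddAut (∀ _ : Fin k, ℤˣ) (∀ i : Fin k, ZMod (m i))).comp (MonoidHom.pi χ))

theorem sphi_apply (t : T) (a : Multiplicative (∀ i : Fin k, ZMod (m i))) (i : Fin k) :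
    Multiplicative.toAdd (sphi m χ t a) i = ((χ i t : ℤˣ) : ℤ) • (Multiplicative.toAdd a i) := by
  rfl

/-- The sign-type group `(∏ ZMod (m i)) ⋊ T`. -/
abbrev SG := Multiplicative (∀ i : Fin k, ZMod (m i)) ⋊[sphi m χ] T

theorem Lp_sphi (t : T) (a : Multiplicative (∀ i : Fin k, ZMod (m i))) (d : ℕ) (i : Fin k) :
    Multiplicative.toAdd (Lp (sphi m χ) t a d) i =
      (∑ j ∈ Finset.range d, ((χ i t : ℤˣ) : ℤ) ^ j) • (Multiplicative.toAdd a i) := by
  induction d with
  | zero => simp [Lp]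
  | succ d ih =>
    rw [Lp, toAdd_mul, Pi.add_apply, sphi_apply, ih, Finset.sum_range_succ', add_smul, pow_zero,
      one_smul, smul_smul, Finset.mul_sum, add_comm]
    congr 2
    apply Finset.sum_congr rfl
    intro j _
    rw [pow_succ']

theorem geom_unit (u : ℤˣ) (d : ℕ) (hd : u ^ d = 1) :
    ∑ j ∈ Finset.range d, (u : ℤ) ^ j = if u = 1 then (d : ℤ) else 0 := by
  split_ifs with h
  · subst h; simp
  · have h1 : (∑ j ∈ Finset.range d, (u : ℤ) ^ j) * ((u : ℤ) - 1) = (u : ℤ) ^ d - 1 := geom_sum_mul _ _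
    have h2 : ((u : ℤ)) ^ d = 1 := by
      rw [← Units.val_pow_eq_pow_val, hd]; rfl
    rw [h2, sub_self] at h1
    rcases mul_eq_zero.mp h1 with h3 | h3
    · exact h3
    · exfalso
      apply h
      apply Units.ext
      simpa using sub_eq_zero.mp h3

theorem card_zsmul_zmod (n : ℕ) [NeZero n] (d : ℕ) :
    Nat.card {x : ZMod n // ((d : ℕ) : ℤ) • x = 0} = Nat.gcd n d := by
  have h := IsAddCyclic.card_nsmulAddMonoidHom_ker (ZMod n) d
  rw [Nat.card_zmod] at h
  rw [← h]
  apply Nat.card_congr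
  refine Equiv.subtypeEquivRight (fun x => ?_)
  rw [AddMonoidHom.mem_ker, nsmulAddMonoidHom_apply, natCast_zsmul]

theorem card_Lp_sphi [∀ i, NeZero (m i)] (t : T) (d : ℕ) (ht : t ^ d = 1) :
    Nat.card {a : Multiplicative (∀ i : Fin k, ZMod (m i)) // Lp (sphi m χ) t a d = 1} =
      ∏ i : Fin k, if χ i t = 1 then Nat.gcd (m i) d else m i := by
  classical
  have e : {a : Multiplicative (∀ i : Fin k, ZMod (m i)) // Lp (sphi m χ) t a d = 1} ≃
      ∀ i : Fin k, {x : ZMod (m i) // (if χ i t = 1 then ((d : ℕ) : ℤ) else 0) • x = 0} :=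
    { toFun := fun a i => ⟨Multiplicative.toAdd a.1 i, by
        have h := Lp_sphi m χ t a.1 d i
        rw [a.2, geom_unit _ _ (by rw [← map_pow, ht, map_one])] at h
        exact h.symm⟩
      invFun := fun b => ⟨Multiplicative.ofAdd (fun i => (b i).1), by
        apply Multiplicative.toAdd.injective
        funext i
        rw [Lp_sphi, geom_unit _ _ (by rw [← map_pow, ht, map_one])]
        exact (b i).2⟩
      left_inv := fun a => by simp
      right_inv := fun b => by simp }
  rw [Nat.card_congr e, Nat.card_pi]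
  apply Finset.prod_congr rfl
  intro i _
  split_ifs with h
  · exact card_zsmul_zmod (m i) d
  · simp

instance SG_solvable [Group.IsSolvable T] : Group.IsSolvable (SG m χ) := sd_solvable _

theorem natCard_SG [Finite T] [∀ i, NeZero (m i)] :
    Nat.card (SG m χ) = (∏ i : Fin k, m i) * Nat.card T := by
  rw [natCard_sd]
  congr 1
  rw [Nat.card_congr Multiplicative.toAdd, Nat.card_pi]
  simp

theorem cd_SG [Fintype T] [DecidableEq T] [∀ i, NeZero (m i)] (d : ℕ) :
    cd (SG m χ) d =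
      ∑ t : T, if t ^ d = 1 then ∏ i : Fin k, (if χ i t = 1 then Nat.gcd (m i) d else m i) else 0 := by
  rw [cd_sd]
  apply Finset.sum_congr rfl
  intro t _
  split_ifs with h
  · exact card_Lp_sphi m χ t d h
  · rfl

end sign

end Cfsg.Agent.Lib.Helper4.OT
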