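import Mathlib
import Cfsg.Agent.Lib.Helper4.A10d
import Cfsg.Agent.Lib.Helper4.OT2

set_option autoImplicit false

namespace Cfsg.Agent.Lib.Helper4.A10

open Cfsg.Agent.Lib.Helper4.OT

/-- the module `(𝔽₇⁴)ᵏ × 𝔽₃¹²`. -/
def Mk (k : ℕ) : Type := (Fin k → Fin 4 → ZMod 7) × (Fin 12 → ZMod 3)

instance (k : ℕ) : AddCommGroup (Mk k) :=
  inferInstanceAs (AddCommGroup ((Fin k → Fin 4 → ZMod 7) × (Fin 12 → ZMod 3)))

instance (k : ℕ) : Finite (Mk k) :=
  inferInstanceAs (Finite ((Fin k → Fin 4 → ZMod 7) × (Fin 12 → ZMod 3)))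

instance (k : ℕ) : SMul RR (Mk k) :=
  ⟨fun r m => ((fun j => r.1.mulVec (m.1 j), r.2.mulVec m.2) :
    (Fin k → Fin 4 → ZMod 7) × (Fin 12 → ZMod 3))⟩

theorem Mk.ext' {k : ℕ} {m n : Mk k} (h1 : ∀ j, m.1 j = n.1 j) (h2 : m.2 = n.2) : m = n :=
  Prod.ext (funext h1) h2

instance (k : ℕ) : Module RR (Mk k) where
  one_smul m := Mk.ext'
    (fun j => by
      show (1 : M7).mulVec (m.1 j) = m.1 j
      exact Matrix.one_mulVec _)
    (by
      show (1 : M3).mulVec m.2 = m.2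
      exact Matrix.one_mulVec _)
  mul_smul r s m := Mk.ext'
    (fun j => by
      show (r.1 * s.1).mulVec (m.1 j) = r.1.mulVec (s.1.mulVec (m.1 j))
      exact (Matrix.mulVec_mulVec _ _ _).symm)
    (by
      show (r.2 * s.2).mulVec m.2 = r.2.mulVec (s.2.mulVec m.2)
      exact (Matrix.mulVec_mulVec _ _ _).symm)
  smul_zero r := Mk.ext'
    (fun j => by
      show r.1.mulVec (0 : Fin 4 → ZMod 7) = 0
      exact Matrix.mulVec_zero _)
    (by
      show r.2.mulVec (0 : Fin 12 → ZMod 3) = 0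
      exact Matrix.mulVec_zero _)
  smul_add r m n := Mk.ext'
    (fun j => by
      show r.1.mulVec (m.1 j + n.1 j) = r.1.mulVec (m.1 j) + r.1.mulVec (n.1 j)
      exact Matrix.mulVec_add _ _ _)
    (by
      show r.2.mulVec (m.2 + n.2) = r.2.mulVec m.2 + r.2.mulVec n.2
      exact Matrix.mulVec_add _ _ _)
  add_smul r s m := Mk.ext'
    (fun j => by
      show (r.1 + s.1).mulVec (m.1 j) = r.1.mulVec (m.1 j) + s.1.mulVec (m.1 j)
      exact Matrix.add_mulVec _ _ _)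
    (by
      show (r.2 + s.2).mulVec m.2 = r.2.mulVec m.2 + s.2.mulVec m.2
      exact Matrix.add_mulVec _ _ _)
  zero_smul m := Mk.ext'
    (fun j => by
      show (0 : M7).mulVec (m.1 j) = 0
      exact Matrix.zero_mulVec _)
    (by
      show (0 : M3).mulVec m.2 = 0
      exact Matrix.zero_mulVec _)

theorem smul_fst {k : ℕ} (r : RR) (m : Mk k) (j : Fin k) : (r • m).1 j = r.1.mulVec (m.1 j) := rfl
theorem smul_snd {k : ℕ} (r : RR) (m : Mk k) : (r • m).2 = r.2.mulVec m.2 := rfl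

/-- the action. -/
def phi (k : ℕ) : XX →* MulAut (Multiplicative (Mk k)) :=
  ((MulAutMultiplicative (Mk k)).symm.toMonoidHom.comp
    (DistribMulAction.toAddAut RRˣ (Mk k))).comp XX.subtype

theorem phi_apply {k : ℕ} (x : XX) (n : Multiplicative (Mk k)) :
    Multiplicative.toAdd (phi k x n) = ((x : RRˣ) : RR) • Multiplicative.toAdd n := rfl

theorem Lp_phi {k : ℕ} (x : XX) (n : Multiplicative (Mk k)) (d : ℕ) :
    Multiplicative.toAdd (Lp (phi k) x n d) = gs ((x : RRˣ) : RR) d • Multiplicative.toAdd n := by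
  induction d with
  | zero => simp [Lp, gs]
  | succ d ih =>
    rw [Lp, toAdd_mul, phi_apply, ih, gs_succ, add_smul, one_smul, mul_smul]

/-- the groups with the spectrum of `A₁₀`. -/
abbrev HH (k : ℕ) := Multiplicative (Mk k) ⋊[phi k] XX

theorem HH_pow_eq_one_iff {k : ℕ} (h : HH k) (r : ℕ) :
    h ^ r = 1 ↔ ((h.right : RRˣ) : RR) ^ r = 1 ∧
      gs ((h.right : RRˣ) : RR) r • Multiplicative.toAdd h.left = 0 := by
  rw [sd_pow_eq_one_iff]
  constructor
  · rintro ⟨h1, h2⟩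
    refine ⟨?_, ?_⟩
    · have := congrArg (fun y : XX => ((y : RRˣ) : RR)) h1
      simpa using this
    · rw [← Lp_phi, h2]; rfl
  · rintro ⟨h1, h2⟩
    refine ⟨?_, ?_⟩
    · apply Subtype.ext
      apply Units.ext
      simpa using h1
    · apply Multiplicative.toAdd.injective
      rw [Lp_phi, h2]; rfl

theorem HH_cert {k : ℕ} (h : HH k) : ∃ r ∈ Rs, h ^ r = 1 := by
  obtain ⟨r, hr, h1, h2⟩ := XX_cert h.right.2
  exact ⟨r, hr, (HH_pow_eq_one_iff h r).mpr ⟨h1, by rw [h2, zero_smul]⟩⟩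

/-- the spectrum. -/
def Spec : Finset ℕ := {1, 2, 3, 4, 5, 6, 7, 8, 9, 10, 12, 15, 21}

theorem orderOf_mem_Spec {k : ℕ} (h : HH k) : orderOf h ∈ Spec := by
  obtain ⟨r, hr, h1⟩ := HH_cert h
  have h2 : orderOf h ∣ r := orderOf_dvd_of_pow_eq_one h1
  have h3 : ∀ r ∈ Rs, ∀ d ∈ Nat.divisors r, d ∈ Spec := by decide
  exact h3 r hr _ (Nat.mem_divisors.mpr ⟨h2, by
    rintro rfl
    simp [Rs] at hr⟩)

end Cfsg.Agent.Lib.Helper4.A10
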