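import Mathlib
import Cfsg.Agent.Lib.Helper4.A10e

set_option autoImplicit false

namespace Cfsg.Agent.Lib.Helper4.A10

open Cfsg.Agent.Lib.Helper4.OT SemidirectProduct

theorem order_eq_of {G : Type*} [Monoid G] {g : G} {n : ℕ} (ms : List ℕ) (hn : 0 < n)
    (h1 : g ^ n = 1) (h2 : ∀ m ∈ ms, g ^ m ≠ 1)
    (h3 : ∀ d ∈ n.divisors, d = n ∨ ∃ m ∈ ms, d ∣ m) : orderOf g = n := by
  have hd : orderOf g ∈ n.divisors :=
    Nat.mem_divisors.mpr ⟨orderOf_dvd_of_pow_eq_one h1, hn.ne'⟩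
  rcases h3 _ hd with h | ⟨m, hm, hdm⟩
  · exact h
  · exact absurd (orderOf_dvd_iff_pow_eq_one.mp hdm) (h2 m hm)

theorem exists_orderOf_eq_of_dvd {G : Type*} [Monoid G] {g : G} {n d : ℕ} (hn : 0 < n)
    (h : orderOf g = n) (hd : d ∣ n) : ∃ g' : G, orderOf g' = d := by
  obtain ⟨e, rfl⟩ := hd
  have hd0 : 0 < d := Nat.pos_of_ne_zero (by rintro rfl; simp at hn)
  have he0 : 0 < e := Nat.pos_of_ne_zero (by rintro rfl; simp at hn)
  refine ⟨g ^ e, ?_⟩
  rw [orderOf_pow_of_dvd he0.ne' (by rw [h]; exact dvd_mul_left e d), h,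
    Nat.mul_div_cancel _ he0]

theorem neg_one_ne_one : (-1 : RR) ≠ 1 := by
  intro h
  have h1 := congrArg (fun r : RR => r.1 0 0) h
  simp only [Prod.fst_neg, Prod.fst_one, Matrix.neg_apply, Matrix.one_apply_eq] at h1
  revert h1
  decide

set_option maxRecDepth 100000 in
theorem el15_ne : el 15 ≠ 1 := by
  intro h
  have h1 : dec 7 4 (L 15).1 = 1 := congrArg Prod.fst h
  revert h1
  decide +kernel

set_option maxRecDepth 100000 in
theorem el6_ne : el 6 ≠ 1 := by
  intro h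
  have h1 : dec 7 4 (L 6).1 = 1 := congrArg Prod.fst h
  revert h1
  decide +kernel

set_option maxRecDepth 100000 in
theorem el113_ne : el 113 ≠ 1 := by
  intro h
  have h1 : dec 7 4 (L 113).1 = 1 := congrArg Prod.fst h
  revert h1
  decide +kernel

theorem el4_eq : el 1 * el 2 = el 4 := by
  have h := (el_nxt (i := 1) (by norm_num)).2
  have h1 : nxt 1 1 = 4 := by decide
  rw [h, h1]

theorem order_el4 : orderOf (el 4) = 8 := by
  have h1 := (certE (i := 4) (h := 4) (by norm_num) (by decide) (by decide)).1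
  refine order_eq_of [4] (by norm_num) h1 ?_ (by decide)
  intro m hm
  simp only [List.mem_singleton] at hm
  subst hm
  have h2 := el_pow (i := 4) (by norm_num) 4 (by decide)
  have h3 : P 4 4 = 62 := by decide
  rw [← h2, h3, el_z]
  exact neg_one_ne_one

theorem order_el1 : orderOf (el 1) = 12 := by
  refine order_eq_of [6, 4] (by norm_num) el1_pow ?_ (by decide)
  intro m hm
  simp only [List.mem_cons, List.not_mem_nil, or_false] at hm
  rcases hm with rfl | rfl
  · have h2 := el_pow (i := 1) (by norm_num) 6 (by decide)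
    have h3 : P 1 6 = 62 := by decide
    rw [← h2, h3, el_z]
    exact neg_one_ne_one
  · have h2 := el_pow (i := 1) (by norm_num) 4 (by decide)
    have h3 : P 1 4 = 15 := by decide
    rw [← h2, h3]
    exact el15_ne

theorem order_el2 : orderOf (el 2) = 10 := by
  refine order_eq_of [5, 2] (by norm_num) el2_pow ?_ (by decide)
  intro m hm
  simp only [List.mem_cons, List.not_mem_nil, or_false] at hm
  rcases hm with rfl | rfl
  · have h2 := el_pow (i := 2) (by norm_num) 5 (by decide)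
    have h3 : P 2 5 = 62 := by decide
    rw [← h2, h3, el_z]
    exact neg_one_ne_one
  · have h2 := el_pow (i := 2) (by norm_num) 2 (by decide)
    have h3 : P 2 2 = 6 := by decide
    rw [← h2, h3]
    exact el6_ne

theorem order_inr {k : ℕ} (x : XX) : orderOf (inr x : HH k) = orderOf ((x : RRˣ) : RR) := by
  rw [orderOf_injective (inr : XX →* HH k) inr_injective, ← Subgroup.orderOf_coe, orderOf_units]

theorem exists_order_8 (k : ℕ) : ∃ g : HH k, orderOf g = 8 := by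
  refine ⟨inr ⟨ga * gb, mul_mem ga_mem gb_mem⟩, ?_⟩
  rw [order_inr]
  show orderOf (el 1 * el 2) = 8
  rw [el4_eq, order_el4]

theorem exists_order_12 (k : ℕ) : ∃ g : HH k, orderOf g = 12 := by
  refine ⟨inr ⟨ga, ga_mem⟩, ?_⟩
  rw [order_inr]
  exact order_el1

theorem exists_order_10 (k : ℕ) : ∃ g : HH k, orderOf g = 10 := by
  refine ⟨inr ⟨gb, gb_mem⟩, ?_⟩
  rw [order_inr]
  exact order_el2

/-- a vector in the `3`-part. -/
def m9 (k : ℕ) : Mk k := ((0 : Fin k → Fin 4 → ZMod 7), (Pi.single 0 1 : Fin 12 → ZMod 3))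

theorem smul_m9 {k : ℕ} (r : RR) : (r • m9 k).2 0 = r.2 0 0 := by
  rw [smul_snd]
  show (r.2.mulVec (Pi.single 0 1)) 0 = r.2 0 0
  rw [Matrix.mulVec_single_one]
  rfl

theorem cert15 : el 15 ^ 3 = 1 ∧ (gs (el 15) 3).1 = 0 ∧ el 15 ^ 9 = 1 ∧ gs (el 15) 9 = 0 :=
  certO3 (i := 15) (by norm_num) (by decide) (by decide) (by decide +kernel)

theorem cert6 : el 6 ^ 5 = 1 ∧ (gs (el 6) 5).1 = 0 ∧ el 6 ^ 15 = 1 ∧ gs (el 6) 15 = 0 :=
  certO5 (i := 6) (by norm_num) (by decide) (by decide) (by decide +kernel)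

set_option maxRecDepth 100000 in
theorem gs15 : (gs (el 15) 3).2 0 0 ≠ 0 := by
  have h2 := el_pow (i := 15) (by norm_num) 2 (by decide)
  have h3 : P 15 2 = 132 := by decide
  rw [h3] at h2
  simp only [gs, Finset.sum_range_succ, Finset.range_zero, Finset.sum_empty, zero_add, pow_zero,
    pow_one, ← h2]
  show (1 : M3) 0 0 + dec 3 12 (L 15).2 0 0 + dec 3 12 (L 132).2 0 0 ≠ 0
  rw [dec_apply, dec_apply, Matrix.one_apply_eq]
  decide +kernel

set_option maxRecDepth 100000 in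
theorem gs6 : (gs (el 6) 5).2 0 0 ≠ 0 := by
  have h2 := el_pow (i := 6) (by norm_num) 2 (by decide)
  have h3 := el_pow (i := 6) (by norm_num) 3 (by decide)
  have h4 := el_pow (i := 6) (by norm_num) 4 (by decide)
  have e2 : P 6 2 = 30 := by decide
  have e3 : P 6 3 = 113 := by decide
  have e4 : P 6 4 = 225 := by decide
  rw [e2] at h2
  rw [e3] at h3
  rw [e4] at h4
  simp only [gs, Finset.sum_range_succ, Finset.range_zero, Finset.sum_empty, zero_add, pow_zero,
    pow_one, ← h2, ← h3, ← h4]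
  show (1 : M3) 0 0 + dec 3 12 (L 6).2 0 0 + dec 3 12 (L 30).2 0 0 + dec 3 12 (L 113).2 0 0 +
    dec 3 12 (L 225).2 0 0 ≠ 0
  rw [dec_apply, dec_apply, dec_apply, dec_apply, Matrix.one_apply_eq]
  decide +kernel

theorem exists_order_9 (k : ℕ) : ∃ g : HH k, orderOf g = 9 := by
  have hx : ((ga ^ 4 : RRˣ) : RR) = el 15 := by
    rw [Units.val_pow_eq_pow_val, ga_val, ← el_pow (i := 1) (by norm_num) 4 (by decide)]
    have h3 : P 1 4 = 15 := by decide
    rw [h3]
  refine ⟨⟨Multiplicative.ofAdd (m9 k), ⟨ga ^ 4, pow_mem ga_mem 4⟩⟩, ?_⟩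
  refine order_eq_of [3] (by norm_num) ?_ ?_ (by decide)
  · rw [HH_pow_eq_one_iff]
    show ((ga ^ 4 : RRˣ) : RR) ^ 9 = 1 ∧ gs ((ga ^ 4 : RRˣ) : RR) 9 • m9 k = 0
    rw [hx, cert15.2.2.2, zero_smul]
    exact ⟨cert15.2.2.1, rfl⟩
  · intro m hm
    simp only [List.mem_singleton] at hm
    subst hm
    rw [Ne, HH_pow_eq_one_iff]
    rintro ⟨-, h2⟩
    have h3 : gs ((ga ^ 4 : RRˣ) : RR) 3 • m9 k = 0 := h2
    rw [hx] at h3
    have h4 := congrArg (fun m : Mk k => m.2 0) h3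
    simp only [smul_m9] at h4
    exact gs15 h4

theorem exists_order_15 (k : ℕ) : ∃ g : HH k, orderOf g = 15 := by
  have hx : ((gb ^ 2 : RRˣ) : RR) = el 6 := by
    rw [Units.val_pow_eq_pow_val, gb_val, ← el_pow (i := 2) (by norm_num) 2 (by decide)]
    have h3 : P 2 2 = 6 := by decide
    rw [h3]
  refine ⟨⟨Multiplicative.ofAdd (m9 k), ⟨gb ^ 2, pow_mem gb_mem 2⟩⟩, ?_⟩
  refine order_eq_of [5, 3] (by norm_num) ?_ ?_ (by decide)
  · rw [HH_pow_eq_one_iff]
    show ((gb ^ 2 : RRˣ) : RR) ^ 15 = 1 ∧ gs ((gb ^ 2 : RRˣ) : RR) 15 • m9 k = 0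
    rw [hx, cert6.2.2.2, zero_smul]
    exact ⟨cert6.2.2.1, rfl⟩
  · intro m hm
    simp only [List.mem_cons, List.not_mem_nil, or_false] at hm
    rcases hm with rfl | rfl
    · rw [Ne, HH_pow_eq_one_iff]
      rintro ⟨-, h2⟩
      have h3 : gs ((gb ^ 2 : RRˣ) : RR) 5 • m9 k = 0 := h2
      rw [hx] at h3
      have h4 := congrArg (fun m : Mk k => m.2 0) h3
      simp only [smul_m9] at h4
      exact gs6 h4
    · rw [Ne, HH_pow_eq_one_iff]
      rintro ⟨h1, -⟩
      have h3 : ((gb ^ 2 : RRˣ) : RR) ^ 3 = 1 := h1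
      rw [hx, ← el_pow (i := 6) (by norm_num) 3 (by decide)] at h3
      have e3 : P 6 3 = 113 := by decide
      rw [e3] at h3
      exact el113_ne h3

end Cfsg.Agent.Lib.Helper4.A10
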