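import Mathlib
import Cfsg.Agent.Lib.Helper4.A10f

set_option autoImplicit false

namespace Cfsg.Agent.Lib.Helper4.A10

open Cfsg.Agent.Lib.Helper4.OT SemidirectProduct

/-- a vector of additive order `21`. -/
def m21 (k : ℕ) : Mk (k + 1) :=
  ((fun _ => Pi.single 0 1 : Fin (k + 1) → Fin 4 → ZMod 7), (Pi.single 0 1 : Fin 12 → ZMod 3))

theorem nsmul_m21_fst (k n : ℕ) : (n • m21 k).1 0 0 = (n : ZMod 7) := by
  show (n • (fun _ => Pi.single 0 1 : Fin (k + 1) → Fin 4 → ZMod 7)) 0 0 = (n : ZMod 7)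
  simp

theorem nsmul_m21_snd (k n : ℕ) : (n • m21 k).2 0 = (n : ZMod 3) := by
  show (n • (Pi.single 0 1 : Fin 12 → ZMod 3)) 0 = (n : ZMod 3)
  simp

theorem nsmul_21 (k : ℕ) : 21 • m21 k = 0 := by
  apply Mk.ext'
  · intro j
    show (21 • (fun _ => Pi.single 0 1 : Fin (k + 1) → Fin 4 → ZMod 7)) j = 0
    funext i
    have : (21 : ZMod 7) = 0 := by decide
    simp [this]
  · show 21 • (Pi.single 0 1 : Fin 12 → ZMod 3) = 0
    funext i
    have : (21 : ZMod 3) = 0 := by decide
    simp [this]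

theorem exists_order_21 (k : ℕ) : ∃ g : HH (k + 1), orderOf g = 21 := by
  refine ⟨inl (Multiplicative.ofAdd (m21 k)), ?_⟩
  rw [orderOf_injective (inl : Multiplicative (Mk (k + 1)) →* HH (k + 1)) inl_injective]
  refine order_eq_of [7, 3] (by norm_num) ?_ ?_ (by decide)
  · rw [← ofAdd_nsmul, nsmul_21]; rfl
  · intro m hm
    simp only [List.mem_cons, List.not_mem_nil, or_false] at hm
    rcases hm with rfl | rfl
    · rw [← ofAdd_nsmul]
      intro h
      have h1 : 7 • m21 k = 0 := Multiplicative.ofAdd.injective h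
      have h2 := nsmul_m21_snd k 7
      rw [h1] at h2
      revert h2
      show (0 : ZMod 3) = ((7 : ℕ) : ZMod 3) → False
      decide
    · rw [← ofAdd_nsmul]
      intro h
      have h1 : 3 • m21 k = 0 := Multiplicative.ofAdd.injective h
      have h2 := nsmul_m21_fst k 3
      rw [h1] at h2
      revert h2
      show (0 : ZMod 7) = ((3 : ℕ) : ZMod 7) → False
      decide

theorem range_orderOf (k : ℕ) :
    Set.range (orderOf : HH (k + 1) → ℕ) = {1, 2, 3, 4, 5, 6, 7, 8, 9, 10, 12, 15, 21} := by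
  apply Set.eq_of_subset_of_subset
  · rintro d ⟨g, rfl⟩
    have h := orderOf_mem_Spec g
    simp only [Spec, Finset.mem_insert, Finset.mem_singleton] at h
    simpa using h
  · intro d hd
    have hd' : d ∈ Spec := by
      simp only [Spec, Finset.mem_insert, Finset.mem_singleton]
      simpa using hd
    have h1 : ∀ d ∈ Spec, ∃ n ∈ [8, 9, 10, 12, 15, 21], d ∣ n := by decide
    obtain ⟨n, hn, hdn⟩ := h1 d hd'
    have h2 : ∃ g : HH (k + 1), orderOf g = n := by
      simp only [List.mem_cons, List.not_mem_nil, or_false] at hn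
      rcases hn with rfl | rfl | rfl | rfl | rfl | rfl
      · exact exists_order_8 _
      · exact exists_order_9 _
      · exact exists_order_10 _
      · exact exists_order_12 _
      · exact exists_order_15 _
      · exact exists_order_21 _
    obtain ⟨g, hg⟩ := h2
    have hn0 : 0 < n := by
      simp only [List.mem_cons, List.not_mem_nil, or_false] at hn
      rcases hn with rfl | rfl | rfl | rfl | rfl | rfl <;> norm_num
    obtain ⟨g', hg'⟩ := exists_orderOf_eq_of_dvd hn0 hg hdn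
    exact ⟨g', hg'⟩

theorem card_Mk (k : ℕ) : Nat.card (Mk k) = (7 ^ 4) ^ k * 3 ^ 12 := by
  show Nat.card ((Fin k → Fin 4 → ZMod 7) × (Fin 12 → ZMod 3)) = _
  rw [Nat.card_prod, Nat.card_pi, Nat.card_pi, Nat.card_pi]
  simp

instance (k : ℕ) : Finite (HH k) := sd_finite _

theorem card_HH_gt (k : ℕ) : k < Nat.card (HH k) := by
  rw [natCard_sd]
  have h1 : Nat.card (Multiplicative (Mk k)) = (7 ^ 4) ^ k * 3 ^ 12 := by
    rw [Nat.card_congr Multiplicative.toAdd.symm.symm]
    exact card_Mk k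
  have h2 : 0 < Nat.card XX := Nat.card_pos
  have h3 : k < (7 ^ 4) ^ k := Nat.lt_pow_self (by norm_num)
  rw [h1]
  calc k < (7 ^ 4) ^ k := h3
    _ ≤ (7 ^ 4) ^ k * 3 ^ 12 * Nat.card XX := by
      rw [mul_assoc]
      exact Nat.le_mul_of_pos_right _ (Nat.mul_pos (by norm_num) h2)

theorem main (N : ℕ) : ∃ (H : Type) (_ : Group H) (_ : Fintype H), N < Fintype.card H ∧
    Set.range (orderOf : H → ℕ) = {1, 2, 3, 4, 5, 6, 7, 8, 9, 10, 12, 15, 21} := by
  classical
  refine ⟨HH (N + 1), inferInstance, Fintype.ofFinite _, ?_, range_orderOf N⟩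
  rw [Fintype.card_eq_nat_card]
  exact lt_trans (Nat.lt_succ_self N) (card_HH_gt (N + 1))

end Cfsg.Agent.Lib.Helper4.A10
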