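import Mathlib
import Cfsg.Agent.Lib.Helper17.Basic

set_option autoImplicit false
set_option linter.style.haveILetI false

namespace Cfsg.Agent.Lib.Helper4

open Equiv Equiv.Perm

/-- The alternating group of degree four. -/
abbrev AltFour := alternatingGroup (Fin 4)

/-- `(x, y)` lies in the four-element set generated by `(v₁, w₁)` and `(v₂, w₂)`. -/
def a4InS (v₁ w₁ v₂ w₂ x y : AltFour) : Prop :=
  (x = 1 ∧ y = 1) ∨ (x = v₁ ∧ y = w₁) ∨ (x = v₂ ∧ y = w₂) ∨ (x = v₁ * v₂ ∧ y = w₁ * w₂)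

instance (v₁ w₁ v₂ w₂ x y : AltFour) : Decidable (a4InS v₁ w₁ v₂ w₂ x y) := by
  unfold a4InS; infer_instance

set_option maxRecDepth 1000000 in
set_option synthInstance.maxSize 2000 in
set_option synthInstance.maxHeartbeats 400000 in
theorem a4_K : ∀ a : AltFour, (a ^ 3 = 1 ∧ a ≠ 1) → ∀ b : AltFour, (b ^ 3 = 1 ∧ b ≠ 1) →
    ∀ v₁ : AltFour, (v₁ ^ 2 = 1 ∧ v₁ ≠ 1) → ∀ w₁ : AltFour, (w₁ ^ 2 = 1 ∧ w₁ ≠ 1) →
    ∀ v₂ : AltFour, (v₂ ^ 2 = 1 ∧ v₂ ≠ 1 ∧ v₂ ≠ v₁) →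
    ∀ w₂ : AltFour, (w₂ ^ 2 = 1 ∧ w₂ ≠ 1 ∧ w₂ ≠ w₁) →
    (a4InS v₁ w₁ v₂ w₂ (a * v₁ * a⁻¹) (b * w₁ * b⁻¹) ∧
      a4InS v₁ w₁ v₂ w₂ (a * v₂ * a⁻¹) (b * w₂ * b⁻¹)) ∨
    (a4InS v₁ w₁ v₂ w₂ (a * v₁ * a⁻¹) (b⁻¹ * w₁ * b) ∧
      a4InS v₁ w₁ v₂ w₂ (a * v₂ * a⁻¹) (b⁻¹ * w₂ * b)) := by
  decide

theorem a4_sq_or_cube : ∀ x : AltFour, x ^ 2 = 1 ∨ x ^ 3 = 1 := by decide

theorem a4_sq_of_pow_two_pow (x : AltFour) (k : ℕ) (h : x ^ 2 ^ k = 1) : x ^ 2 = 1 := by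
  rcases a4_sq_or_cube x with h2 | h3
  · exact h2
  · have h1 : orderOf x ∣ Nat.gcd 3 (2 ^ k) :=
      Nat.dvd_gcd (orderOf_dvd_of_pow_eq_one h3) (orderOf_dvd_of_pow_eq_one h)
    have hc : Nat.Coprime 3 (2 ^ k) := Nat.Coprime.pow_right k (by norm_num)
    rw [hc] at h1
    have : x = 1 := orderOf_eq_one_iff.mp (Nat.dvd_one.mp h1)
    rw [this, one_pow]

theorem a4_cube_of_pow_three_pow (x : AltFour) (k : ℕ) (h : x ^ 3 ^ k = 1) : x ^ 3 = 1 := by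
  rcases a4_sq_or_cube x with h2 | h3
  · have h1 : orderOf x ∣ Nat.gcd 2 (3 ^ k) :=
      Nat.dvd_gcd (orderOf_dvd_of_pow_eq_one h2) (orderOf_dvd_of_pow_eq_one h)
    have hc : Nat.Coprime 2 (3 ^ k) := Nat.Coprime.pow_right k (by norm_num)
    rw [hc] at h1
    have : x = 1 := orderOf_eq_one_iff.mp (Nat.dvd_one.mp h1)
    rw [this, one_pow]
  · exact h3

/-- A Sylow `3`-subgroup of `A₄ × A₄` contains an element `(a, 1)` with `a` of order three. -/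
theorem exists_fst_mem_sylow_three (Q : Sylow 3 (AltFour × AltFour)) :
    ∃ a : AltFour, a ^ 3 = 1 ∧ a ≠ 1 ∧ ((a, 1) : AltFour × AltFour) ∈ (Q : Subgroup _) := by
  haveI : Fact (Nat.Prime 3) := ⟨Nat.prime_three⟩
  let c : AltFour := ⟨swap 0 1 * swap 1 2, mem_alternatingGroup.2 (by decide)⟩
  have hc3 : c ^ 3 = 1 := by decide
  have hc1 : c ≠ 1 := by decide
  have hzp : IsPGroup 3 (Subgroup.zpowers ((c, 1) : AltFour × AltFour)) := by
    apply IsPGroup.of_card (n := 1)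
    rw [Nat.card_zpowers, pow_one]
    apply orderOf_eq_prime
    · rw [Prod.pow_mk, hc3, one_pow]; rfl
    · intro h
      exact hc1 (congrArg Prod.fst h)
  obtain ⟨Q', hQ'⟩ := hzp.exists_le_sylow
  obtain ⟨g, hg⟩ := MulAction.exists_smul_eq (AltFour × AltFour) Q' Q
  refine ⟨g.1 * c * g.1⁻¹, ?_, ?_, ?_⟩
  · rw [conj_pow, hc3, mul_one, mul_inv_cancel]
  · intro h
    apply hc1
    have := congrArg (fun x => g.1⁻¹ * x * g.1) h
    simpa [mul_assoc] using this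
  · have h1 : ((c, 1) : AltFour × AltFour) ∈ (Q' : Subgroup _) := hQ' (Subgroup.mem_zpowers _)
    have h2 := Subgroup.smul_mem_pointwise_smul _ (MulAut.conj g) _ h1
    rw [← Sylow.coe_subgroup_smul, hg, MulAut.smul_def, MulAut.conj_apply] at h2
    have h3 : g * ((c, 1) : AltFour × AltFour) * g⁻¹ = (g.1 * c * g.1⁻¹, 1) := by
      ext <;> simp
    rwa [h3] at h2


/-- A Sylow `3`-subgroup of `A₄ × A₄` contains an element `(1, b)` with `b` of order three. -/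
theorem exists_snd_mem_sylow_three (Q : Sylow 3 (AltFour × AltFour)) :
    ∃ b : AltFour, b ^ 3 = 1 ∧ b ≠ 1 ∧ ((1, b) : AltFour × AltFour) ∈ (Q : Subgroup _) := by
  haveI : Fact (Nat.Prime 3) := ⟨Nat.prime_three⟩
  let c : AltFour := ⟨swap 0 1 * swap 1 2, mem_alternatingGroup.2 (by decide)⟩
  have hc3 : c ^ 3 = 1 := by decide
  have hc1 : c ≠ 1 := by decide
  have hzp : IsPGroup 3 (Subgroup.zpowers ((1, c) : AltFour × AltFour)) := by
    apply IsPGroup.of_card (n := 1)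
    rw [Nat.card_zpowers, pow_one]
    apply orderOf_eq_prime
    · rw [Prod.pow_mk, hc3, one_pow]; rfl
    · intro h
      exact hc1 (congrArg Prod.snd h)
  obtain ⟨Q', hQ'⟩ := hzp.exists_le_sylow
  obtain ⟨g, hg⟩ := MulAction.exists_smul_eq (AltFour × AltFour) Q' Q
  refine ⟨g.2 * c * g.2⁻¹, ?_, ?_, ?_⟩
  · rw [conj_pow, hc3, mul_one, mul_inv_cancel]
  · intro h
    apply hc1
    have := congrArg (fun x => g.2⁻¹ * x * g.2) h
    simpa [mul_assoc] using this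
  · have h1 : ((1, c) : AltFour × AltFour) ∈ (Q' : Subgroup _) := hQ' (Subgroup.mem_zpowers _)
    have h2 := Subgroup.smul_mem_pointwise_smul _ (MulAut.conj g) _ h1
    rw [← Sylow.coe_subgroup_smul, hg, MulAut.smul_def, MulAut.conj_apply] at h2
    have h3 : g * ((1, c) : AltFour × AltFour) * g⁻¹ = (1, g.2 * c * g.2⁻¹) := by
      ext <;> simp
    rwa [h3] at h2

/-- Main statement about subgroups of order four of the Sylow `2`-subgroup of `A₄ × A₄`. -/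
theorem a4_prod_main (X : Sylow 2 (AltFour × AltFour)) (Q : Sylow 3 (AltFour × AltFour))
    (B : Subgroup (AltFour × AltFour)) (hBX : B ≤ (X : Subgroup _)) (hB4 : Nat.card ↥B = 4) :
    B ⊓ ((X : Subgroup _) ⊓ Subgroup.prod ⊤ ⊥) ≠ ⊥ ∨
      B ⊓ ((X : Subgroup _) ⊓ Subgroup.prod ⊥ ⊤) ≠ ⊥ ∨
      ∃ R : Subgroup (AltFour × AltFour), R ≤ (Q : Subgroup _) ∧ Nat.card ↥R = 3 ∧
        R ≠ (Q : Subgroup _) ⊓ Subgroup.prod ⊤ ⊥ ∧ R ≠ (Q : Subgroup _) ⊓ Subgroup.prod ⊥ ⊤ ∧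
        R ≤ Subgroup.normalizer (B : Set _) := by
  by_contra hcon
  push Not at hcon
  obtain ⟨h₁, h₂, h₃⟩ := hcon
  have hsq : ∀ g ∈ B, g.1 ^ 2 = 1 ∧ g.2 ^ 2 = 1 := by
    intro g hg
    obtain ⟨k, hk⟩ := X.isPGroup' ⟨g, hBX hg⟩
    have hk' : g ^ 2 ^ k = 1 := by
      have := congrArg Subtype.val hk
      simpa using this
    constructor
    · apply a4_sq_of_pow_two_pow g.1 k
      rw [← Prod.pow_fst, hk']; rfl
    · apply a4_sq_of_pow_two_pow g.2 k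
      rw [← Prod.pow_snd, hk']; rfl
  have hB1 : ∀ g ∈ B, g.2 = 1 → g = 1 := by
    intro g hg h2
    have hm : g ∈ B ⊓ ((X : Subgroup _) ⊓ Subgroup.prod ⊤ ⊥) :=
      ⟨hg, hBX hg, Subgroup.mem_prod.mpr ⟨Subgroup.mem_top _, Subgroup.mem_bot.mpr h2⟩⟩
    rw [h₁] at hm
    exact Subgroup.mem_bot.mp hm
  have hB2 : ∀ g ∈ B, g.1 = 1 → g = 1 := by
    intro g hg h2
    have hm : g ∈ B ⊓ ((X : Subgroup _) ⊓ Subgroup.prod ⊥ ⊤) :=
      ⟨hg, hBX hg, Subgroup.mem_prod.mpr ⟨Subgroup.mem_bot.mpr h2, Subgroup.mem_top _⟩⟩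
    rw [h₂] at hm
    exact Subgroup.mem_bot.mp hm
  -- two distinct non-identity elements of `B`
  obtain ⟨g₁, g₂, hg₁, hg₂, hg₁1, hg₂1, hne⟩ : ∃ g₁ g₂ : AltFour × AltFour,
      g₁ ∈ B ∧ g₂ ∈ B ∧ g₁ ≠ 1 ∧ g₂ ≠ 1 ∧ g₁ ≠ g₂ := by
    haveI : Fintype B := Fintype.ofFinite B
    have h2lt : 2 < Fintype.card B := by
      rw [← Nat.card_eq_fintype_card, hB4]; norm_num
    obtain ⟨x, y, z, hxy, hxz, hyz⟩ := Fintype.two_lt_card_iff.mp h2lt
    have hv : ∀ u v : B, u ≠ v → (u : AltFour × AltFour) ≠ v := fun u v h h' => h (Subtype.ext h')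
    by_cases hx : (x : AltFour × AltFour) = 1
    · refine ⟨y, z, y.2, z.2, ?_, ?_, hv _ _ hyz⟩
      · intro h; exact hv _ _ hxy (hx.trans h.symm)
      · intro h; exact hv _ _ hxz (hx.trans h.symm)
    · by_cases hy : (y : AltFour × AltFour) = 1
      · refine ⟨x, z, x.2, z.2, hx, ?_, hv _ _ hxz⟩
        intro h; exact hv _ _ hyz (hy.trans h.symm)
      · exact ⟨x, y, x.2, y.2, hx, hy, hv _ _ hxy⟩
  have hg₁sq : g₁ * g₁ = 1 := by
    obtain ⟨h1, h2⟩ := hsq g₁ hg₁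
    ext
    · rw [Prod.fst_mul, ← sq, h1]; rfl
    · rw [Prod.snd_mul, ← sq, h2]; rfl
  -- the elements of `B`
  have hBel : ∀ g ∈ B, g = 1 ∨ g = g₁ ∨ g = g₂ ∨ g = g₁ * g₂ := by
    have h12 : g₁ * g₂ ≠ 1 := by
      intro h
      apply hne
      have : g₂ = g₁⁻¹ := (inv_eq_of_mul_eq_one_right h).symm
      rw [this]
      exact (inv_eq_of_mul_eq_one_right hg₁sq).symm
    have h12a : g₁ * g₂ ≠ g₁ := by
      intro h; exact hg₂1 (mul_eq_left.mp h)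
    have h12b : g₁ * g₂ ≠ g₂ := by
      intro h; exact hg₁1 (mul_eq_right.mp h)
    let s : Finset (AltFour × AltFour) := {1, g₁, g₂, g₁ * g₂}
    have hscard : s.card = 4 := by
      rw [Finset.card_insert_of_notMem, Finset.card_insert_of_notMem,
        Finset.card_insert_of_notMem, Finset.card_singleton]
      · simp only [Finset.mem_singleton]; exact fun h => h12b h.symm
      · simp only [Finset.mem_insert, Finset.mem_singleton, not_or]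
        exact ⟨hne, fun h => h12a h.symm⟩
      · simp only [Finset.mem_insert, Finset.mem_singleton, not_or]
        exact ⟨fun h => hg₁1 h.symm, fun h => hg₂1 h.symm, fun h => h12 h.symm⟩
    have hsub : (↑s : Set (AltFour × AltFour)) ⊆ (B : Set _) := by
      intro g hg
      simp only [s, Finset.coe_insert, Finset.coe_singleton, Set.mem_insert_iff,
        Set.mem_singleton_iff] at hg
      rcases hg with rfl | rfl | rfl | rfl
      · exact B.one_mem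
      · exact hg₁
      · exact hg₂
      · exact B.mul_mem hg₁ hg₂
    have heq : (↑s : Set (AltFour × AltFour)) = (B : Set _) := by
      apply Set.eq_of_subset_of_ncard_le hsub _ (Set.toFinite _)
      have hBn : (B : Set (AltFour × AltFour)).ncard = s.card := by
        rw [hscard, ← _root_.Nat.card_coe_set_eq]; exact hB4
      rw [Set.ncard_coe_finset, hBn]
    intro g hg
    have : g ∈ (↑s : Set (AltFour × AltFour)) := by rw [heq]; exact hg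
    simpa [s] using this
  -- the finishing step
  have fin : ∀ r : AltFour × AltFour, r ∈ (Q : Subgroup _) → r ^ 3 = 1 → r.1 ≠ 1 → r.2 ≠ 1 →
      r * g₁ * r⁻¹ ∈ B → r * g₂ * r⁻¹ ∈ B → False := by
    intro r hrQ hr3 hr1 hr2 hc1 hc2
    have hrne : r ≠ 1 := fun h => hr1 (congrArg Prod.fst h)
    refine h₃ (Subgroup.zpowers r) ((Subgroup.zpowers_le).mpr hrQ) ?_ ?_ ?_ ?_
    · rw [Nat.card_zpowers]
      exact orderOf_eq_prime hr3 hrne
    · intro h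
      have : r ∈ (Q : Subgroup _) ⊓ Subgroup.prod ⊤ ⊥ := by
        rw [← h]; exact Subgroup.mem_zpowers r
      exact hr2 (Subgroup.mem_bot.mp (Subgroup.mem_prod.mp this.2).2)
    · intro h
      have : r ∈ (Q : Subgroup _) ⊓ Subgroup.prod ⊥ ⊤ := by
        rw [← h]; exact Subgroup.mem_zpowers r
      exact hr1 (Subgroup.mem_bot.mp (Subgroup.mem_prod.mp this.2).1)
    · rw [Subgroup.zpowers_le]
      apply Cfsg.Agent.Lib.Helper17.mem_normalizer_of_forall_conj_mem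
      intro g hg
      rcases hBel g hg with rfl | rfl | rfl | rfl
      · simp
      · exact hc1
      · exact hc2
      · have : r * (g₁ * g₂) * r⁻¹ = (r * g₁ * r⁻¹) * (r * g₂ * r⁻¹) := by group
        rw [this]
        exact B.mul_mem hc1 hc2
  -- elements of `Q`
  obtain ⟨a, ha3, ha1, haQ⟩ := exists_fst_mem_sylow_three Q
  obtain ⟨b, hb3, hb1, hbQ⟩ := exists_snd_mem_sylow_three Q
  have hmemS : ∀ x y : AltFour, a4InS g₁.1 g₁.2 g₂.1 g₂.2 x y → ((x, y) : AltFour × AltFour) ∈ B := by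
    intro x y h
    rcases h with ⟨rfl, rfl⟩ | ⟨rfl, rfl⟩ | ⟨rfl, rfl⟩ | ⟨rfl, rfl⟩
    · exact B.one_mem
    · exact hg₁
    · exact hg₂
    · exact B.mul_mem hg₁ hg₂
  have hv₁ : g₁.1 ≠ 1 := fun h => hg₁1 (hB2 g₁ hg₁ h)
  have hw₁ : g₁.2 ≠ 1 := fun h => hg₁1 (hB1 g₁ hg₁ h)
  have hv₂ : g₂.1 ≠ 1 := fun h => hg₂1 (hB2 g₂ hg₂ h)
  have hw₂ : g₂.2 ≠ 1 := fun h => hg₂1 (hB1 g₂ hg₂ h)
  have hvne : g₂.1 ≠ g₁.1 := by
    intro h
    have hm : g₁ * g₂⁻¹ ∈ B := B.mul_mem hg₁ (B.inv_mem hg₂)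
    have : g₁ * g₂⁻¹ = 1 := hB2 _ hm (by rw [Prod.fst_mul, Prod.fst_inv, h, mul_inv_cancel])
    exact hne (mul_inv_eq_one.mp this)
  have hwne : g₂.2 ≠ g₁.2 := by
    intro h
    have hm : g₁ * g₂⁻¹ ∈ B := B.mul_mem hg₁ (B.inv_mem hg₂)
    have : g₁ * g₂⁻¹ = 1 := hB1 _ hm (by rw [Prod.snd_mul, Prod.snd_inv, h, mul_inv_cancel])
    exact hne (mul_inv_eq_one.mp this)
  rcases a4_K a ⟨ha3, ha1⟩ b ⟨hb3, hb1⟩ g₁.1 ⟨(hsq g₁ hg₁).1, hv₁⟩ g₁.2 ⟨(hsq g₁ hg₁).2, hw₁⟩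
    g₂.1 ⟨(hsq g₂ hg₂).1, hv₂, hvne⟩ g₂.2 ⟨(hsq g₂ hg₂).2, hw₂, hwne⟩ with ⟨k1, k2⟩ | ⟨k1, k2⟩
  · refine fin (a, b) ?_ ?_ ha1 hb1 ?_ ?_
    · have : ((a, b) : AltFour × AltFour) = (a, 1) * (1, b) := by ext <;> simp
      rw [this]; exact Subgroup.mul_mem _ haQ hbQ
    · rw [Prod.pow_mk, ha3, hb3]; rfl
    · have : ((a, b) : AltFour × AltFour) * g₁ * (a, b)⁻¹ = (a * g₁.1 * a⁻¹, b * g₁.2 * b⁻¹) := by
        ext <;> simp
      rw [this]; exact hmemS _ _ k1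
    · have : ((a, b) : AltFour × AltFour) * g₂ * (a, b)⁻¹ = (a * g₂.1 * a⁻¹, b * g₂.2 * b⁻¹) := by
        ext <;> simp
      rw [this]; exact hmemS _ _ k2
  · refine fin (a, b⁻¹) ?_ ?_ ha1 (inv_ne_one.mpr hb1) ?_ ?_
    · have : ((a, b⁻¹) : AltFour × AltFour) = (a, 1) * (1, b)⁻¹ := by ext <;> simp
      rw [this]; exact Subgroup.mul_mem _ haQ (Subgroup.inv_mem _ hbQ)
    · rw [Prod.pow_mk, ha3, inv_pow, hb3, inv_one]; rfl
    · have : ((a, b⁻¹) : AltFour × AltFour) * g₁ * (a, b⁻¹)⁻¹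
          = (a * g₁.1 * a⁻¹, b⁻¹ * g₁.2 * b) := by
        ext <;> simp
      rw [this]; exact hmemS _ _ k1
    · have : ((a, b⁻¹) : AltFour × AltFour) * g₂ * (a, b⁻¹)⁻¹
          = (a * g₂.1 * a⁻¹, b⁻¹ * g₂.2 * b) := by
        ext <;> simp
      rw [this]; exact hmemS _ _ k2

end Cfsg.Agent.Lib.Helper4
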