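import Mathlib
import Cfsg.Agent.Lib.Helper5.APNC
import Cfsg.Agent.Lib.Helper12.APSYL
import Cfsg.Agent.Lib.Helper22.APWITT

/-!
# AP-COMM (S3614, market AP): commutators of the normalizer of `⟨z⟩` realise commutators on tuples
of fixed points (= AP-SYL + AP-WITT + AP-NC).
-/

set_option autoImplicit false

namespace Cfsg.Agent.Lib.Helper4.APCOMM

open Equiv MulAction
open Cfsg.Agent.Lib.Helper5.APNC Cfsg.Agent.Lib.Helper12.APSYL Cfsg.Agent.Lib.Helper22.APWITT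

variable {Ω : Type*} [Fintype Ω] [DecidableEq Ω]

theorem APCOMM (H : Subgroup (Perm Ω)) (r : ℕ) (hr : r.Prime) (t : ℕ)
    (ht : IsMultiplyPretransitive ↥H Ω t) {z : Perm Ω} (hz : z ∈ H) (hzr : orderOf z = r)
    (hmax : ∀ g ∈ H, orderOf g = r → z.support.card ≤ g.support.card)
    (h1 : Fintype.card Ω < z.support.card + t + r)
    (h2 : Fintype.card Ω < t + r ^ 2)
    (x : Fin t ↪ Ω) (hx : ∀ i, z (x i) = x i) (σ τ : Perm (Fin t)) :
    ∃ c ∈ H, Commute c z ∧ Perm.sign c = 1 ∧ ∀ i, c (x i) = x ((σ * τ * σ⁻¹ * τ⁻¹) i) := by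
  set S := Subgroup.zpowers z with hS
  have hzS : z ∈ S := Subgroup.mem_zpowers z
  have hSH : S ≤ H := by rw [hS, Subgroup.zpowers_le]; exact hz
  have hSp : IsPGroup r ↥S := by
    haveI : Fact r.Prime := ⟨hr⟩
    apply IsPGroup.of_card (n := 1)
    rw [pow_one, hS, Nat.card_zpowers, hzr]
  have hSmax : ∀ y : Fin t ↪ Ω, (∀ s ∈ S, ∀ i, s (y i) = y i) →
      ∀ Q : Subgroup (Perm Ω), Q ≤ H → IsPGroup r ↥Q → S ≤ Q →
        (∀ q ∈ Q, ∀ i, q (y i) = y i) → Q = S := by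
    intro y hy Q hQH hQp hSQ hQy
    have hzy : ∀ i, z (y i) = y i := fun i => hy z hzS i
    have hFc : (Finset.univ.map y).card = t := by simp
    refine APSYL H r hr hz hzr hmax (Finset.univ.map y) ?_ (by rw [hFc]; exact h1)
      (by rw [hFc]; exact h2) Q hQH hQp (hSQ hzS) ?_
    · intro a ha
      obtain ⟨i, -, rfl⟩ := Finset.mem_map.1 ha
      exact hzy i
    · intro q hq a ha
      obtain ⟨i, -, rfl⟩ := Finset.mem_map.1 ha
      exact hQy q hq i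
  have hfixS : ∀ y : Fin t ↪ Ω, (∀ i, z (y i) = y i) → ∀ s ∈ S, ∀ i, s (y i) = y i := by
    intro y hy s hs i
    obtain ⟨k, rfl⟩ := Subgroup.mem_zpowers_iff.1 hs
    exact Perm.zpow_apply_eq_self_of_apply_eq_self (hy i) k
  have key : ∀ ρ : Perm (Fin t), ∃ n ∈ H, n ∈ Subgroup.normalizer (S : Set (Perm Ω)) ∧
      ∀ i, n (x i) = x (ρ i) := by
    intro ρ
    have := APWITT H r hr t ht S hSH hSp hSmax x (ρ.toEmbedding.trans x) (hfixS x hx)
      (hfixS _ (fun i => hx (ρ i)))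
    simpa using this
  obtain ⟨n₁, hn₁H, hn₁N, hn₁⟩ := key σ
  obtain ⟨n₂, hn₂H, hn₂N, hn₂⟩ := key τ
  refine ⟨n₁ * n₂ * n₁⁻¹ * n₂⁻¹, ?_, APNC hn₁N hn₂N, ?_, ?_⟩
  · exact H.mul_mem (H.mul_mem (H.mul_mem hn₁H hn₂H) (H.inv_mem hn₁H)) (H.inv_mem hn₂H)
  · rw [map_mul, map_mul, map_mul, map_inv, map_inv]
    rw [mul_right_comm (Perm.sign n₁) (Perm.sign n₂), mul_inv_cancel, one_mul, mul_inv_cancel]
  · intro i
    have hinv₁ : ∀ j, n₁⁻¹ (x j) = x (σ⁻¹ j) := by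
      intro j
      rw [Perm.inv_eq_iff_eq, hn₁]
      simp
    have hinv₂ : ∀ j, n₂⁻¹ (x j) = x (τ⁻¹ j) := by
      intro j
      rw [Perm.inv_eq_iff_eq, hn₂]
      simp
    simp only [Perm.mul_apply, hinv₂, hinv₁, hn₂, hn₁]

end Cfsg.Agent.Lib.Helper4.APCOMM
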