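import Mathlib
import Cfsg.Agent.Lib.Helper4.APCOMM
import Cfsg.Agent.Lib.Helper20.APC1
import Cfsg.Agent.Lib.Helper5.APC2Of
import Cfsg.Agent.Lib.Helper10.APC3Of
import Cfsg.Agent.Lib.Helper15.APCT
import Cfsg.Agent.Lib.Helper29.APCL3

/-!
# AP-C1, AP-C2, AP-C3 (S3614, market AP): wiring of the parametrized case leaves
`Helper20.APC1.APC1Of`, `Helper5.APC2Of.APC2Of`, `Helper10.APC3Of.APC3Of` with AP-COMM, AP-CL3, AP-CT.
-/

set_option autoImplicit false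

namespace Cfsg.Agent.Lib.Helper4.APCases

open Equiv MulAction

variable {Ω : Type*} [Fintype Ω] [DecidableEq Ω]

theorem APC1 (H : Subgroup (Perm Ω)) (h5 : IsMultiplyPretransitive ↥H Ω 5)
    (r : ℕ) (hr : r.Prime) (hr5 : 5 ≤ r) (hΩ : Fintype.card Ω = 2 * r + 3)
    {z : Perm Ω} (hz : z ∈ H) (hzr : orderOf z = r)
    (hmax : ∀ g ∈ H, orderOf g = r → z.support.card ≤ g.support.card)
    (hk : z.support.card = 2 * r) : alternatingGroup Ω ≤ H := by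
  refine Cfsg.Agent.Lib.Helper20.APC1.APC1Of H h5 r hr hr5 hΩ hzr hk ?_
  intro x hx σ τ
  exact Cfsg.Agent.Lib.Helper4.APCOMM.APCOMM H r hr 3
    (MulAction.isMultiplyPretransitive_of_le (n := 5) (by norm_num)
      (by rw [Nat.card_eq_fintype_card, hΩ]; omega))
    hz hzr hmax (by rw [hΩ, hk]; omega) (by rw [hΩ]; nlinarith) x hx σ τ

theorem APC2 (H : Subgroup (Perm Ω)) (h5 : IsMultiplyPretransitive ↥H Ω 5)
    (r : ℕ) (hr : r.Prime) (hr5 : 5 ≤ r) (hΩ : Fintype.card Ω = 3 * r + 4)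
    {z : Perm Ω} (hz : z ∈ H) (hzr : orderOf z = r)
    (hmax : ∀ g ∈ H, orderOf g = r → z.support.card ≤ g.support.card)
    (hk : z.support.card = 2 * r) : alternatingGroup Ω ≤ H := by
  refine Cfsg.Agent.Lib.Helper5.APC2Of.APC2Of H h5 r hr hr5 hΩ hz hzr hk ?_ ?_
  · intro x hx σ τ
    exact Cfsg.Agent.Lib.Helper4.APCOMM.APCOMM H r hr 5 h5 hz hzr hmax (by rw [hΩ, hk]; omega)
      (by rw [hΩ]; nlinarith) x hx σ τ
  · intro t ht htΩ u hu hu1 hs
    exact Cfsg.Agent.Lib.Helper15.APCT.APCT H t ht htΩ hu hu1 hs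

theorem APC3 (H : Subgroup (Perm Ω)) (h5 : IsMultiplyPretransitive ↥H Ω 5)
    (r : ℕ) (hr : r.Prime) (hr5 : 5 ≤ r) (hΩ : Fintype.card Ω = 3 * r + 4)
    {z : Perm Ω} (hz : z ∈ H) (hzr : orderOf z = r)
    (hmax : ∀ g ∈ H, orderOf g = r → z.support.card ≤ g.support.card)
    (hk : z.support.card = 3 * r) : alternatingGroup Ω ≤ H := by
  refine Cfsg.Agent.Lib.Helper10.APC3Of.APC3Of H h5 r hr hr5 hΩ hz hzr hk ?_ ?_ ?_
  · intro x hx σ τ
    exact Cfsg.Agent.Lib.Helper4.APCOMM.APCOMM H r hr 4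
      (MulAction.isMultiplyPretransitive_of_le (n := 5) (by norm_num)
        (by rw [Nat.card_eq_fintype_card, hΩ]; omega))
      hz hzr hmax (by rw [hΩ, hk]; omega) (by rw [hΩ]; nlinarith) x hx σ τ
  · intro w hc hsign hwF
    exact Cfsg.Agent.Lib.Helper29.APCL3.APCL3 r hr (by omega) hzr hk hΩ hc hsign hwF
  · intro t ht htΩ u hu hu1 hs
    exact Cfsg.Agent.Lib.Helper15.APCT.APCT H t ht htΩ hu hu1 hs

end Cfsg.Agent.Lib.Helper4.APCases
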