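import Mathlib
import Cfsg.Agent.S0713
import Cfsg.Agent.S3613
import Cfsg.Agent.Lib.Helper17.APORD
import Cfsg.Agent.Lib.Helper29.APEND
import Cfsg.Agent.Lib.Helper17.APBR
import Cfsg.Agent.Lib.Helper4.APCases

/-!
# S3614 assembly (market AP, planner helper4)

`thmT`: a 5-transitive permutation group of degree `2r+3` or `3r+4` (`r ≥ 5` prime) contains the
alternating group.  `main`: the frozen S3614 shape, over `Cfsg.Agent.S3613.result` (5-transitivity).
-/

set_option autoImplicit false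

namespace Cfsg.Agent.Lib.Helper4.APAsm

open Equiv MulAction

/-- **Theorem T**: a 5-transitive group of degree `2r+3` or `3r+4` contains the alternating group. -/
theorem thmT {Ω : Type*} [Fintype Ω] [DecidableEq Ω] (H : Subgroup (Perm Ω))
    (h5 : IsMultiplyPretransitive ↥H Ω 5) (r : ℕ) (hr : r.Prime) (hr5 : 5 ≤ r)
    (hcard : Fintype.card Ω = 2 * r + 3 ∨ Fintype.card Ω = 3 * r + 4) :
    alternatingGroup Ω ≤ H := by
  classical
  obtain ⟨z₀, hz₀, hz₀r⟩ := Cfsg.Agent.Lib.Helper17.APORD.APORD H h5 r hr hcard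
  have hex : ∃ m, ∃ z ∈ H, orderOf z = r ∧ z.support.card = m := ⟨_, z₀, hz₀, hz₀r, rfl⟩
  obtain ⟨z, hz, hzr, hzm⟩ := Nat.find_spec hex
  have hmax : ∀ g ∈ H, orderOf g = r → z.support.card ≤ g.support.card := by
    intro g hg hgr
    rw [hzm]
    exact Nat.find_min' hex ⟨g, hg, hgr, rfl⟩
  have hz' : (orderOf z).Prime := hzr ▸ hr
  obtain ⟨k, hk⟩ : ∃ k, z.support.card = (k + 1) * r := by
    obtain ⟨n, hn⟩ := Perm.cycleType_prime_order hz'
    refine ⟨n, ?_⟩
    rw [← Perm.sum_cycleType, hn, Multiset.sum_replicate, hzr, smul_eq_mul]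
  have hle : z.support.card ≤ Fintype.card Ω := Finset.card_le_univ _
  have hΩ9 : 13 ≤ Fintype.card Ω := by rcases hcard with h | h <;> omega
  have h2 : IsMultiplyPretransitive ↥H Ω 2 :=
    isMultiplyPretransitive_of_le (n := 5) (by norm_num)
      (by rw [Nat.card_eq_fintype_card]; omega)
  have hprim : IsPreprimitive ↥H Ω := isPreprimitive_of_is_two_pretransitive h2
  have hcyc : z.support.card = r → alternatingGroup Ω ≤ H := by
    intro hs
    have hc : z.IsCycle := Perm.isCycle_of_prime_order hz' (by rw [hs, hzr]; omega)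
    exact Cfsg.Agent.S0713.result H hprim hr (by omega) (by rcases hcard with h | h <;> omega) hc hs hz
  rcases hcard with hΩ | hΩ
  · have hk2 : k = 0 ∨ k = 1 := by
      have : (k + 1) * r ≤ 2 * r + 3 := by rw [← hk, ← hΩ]; exact hle
      by_contra hcon
      have hk2 : 2 ≤ k := by omega
      nlinarith
    rcases hk2 with rfl | rfl
    · exact hcyc (by rw [hk]; ring)
    · exact Cfsg.Agent.Lib.Helper4.APCases.APC1 H h5 r hr hr5 hΩ hz hzr hmax (by rw [hk])
  · have hk3 : k = 0 ∨ k = 1 ∨ k = 2 := by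
      have : (k + 1) * r ≤ 3 * r + 4 := by rw [← hk, ← hΩ]; exact hle
      by_contra hcon
      have hk2 : 3 ≤ k := by omega
      nlinarith
    rcases hk3 with rfl | rfl | rfl
    · exact hcyc (by rw [hk]; ring)
    · exact Cfsg.Agent.Lib.Helper4.APCases.APC2 H h5 r hr hr5 hΩ hz hzr hmax (by rw [hk])
    · exact Cfsg.Agent.Lib.Helper4.APCases.APC3 H h5 r hr hr5 hΩ hz hzr hmax (by rw [hk])

/-- **S3614**. -/
theorem main {G Ω : Type*} [Group G] [Finite G] [MulAction G Ω] [FaithfulSMul G Ω] [Finite Ω]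
    (p : ℕ) (hp : p.Prime) (hΩ : Nat.card Ω = p) (htrans : MulAction.IsPretransitive G Ω)
    (hins : ¬ Group.IsSolvable G) (P : Sylow p G)
    (hN : 2 * Nat.card ↥(Subgroup.normalizer ((P : Subgroup G) : Set G)) = p * (p - 1))
    (q r : ℕ) (hq : q.Prime) (hr : r.Prime)
    (hcases : (p = q + 2 ∧ p = 2 * r + 3 ∧ 9 < p) ∨ (p = q + 2 ∧ p = 3 * r + 4 ∧ 13 < p)) :
    Nonempty (G ≃* alternatingGroup (Fin p)) := by
  classical
  haveI : Fintype Ω := Fintype.ofFinite Ω
  have hΩ' : Fintype.card Ω = p := by rw [← Nat.card_eq_fintype_card, hΩ]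
  have hpq : p = q + 2 := by rcases hcases with h | h <;> exact h.1
  have hr4 : r ≠ 4 := by rintro rfl; exact absurd hr (by decide)
  have hr5 : 5 ≤ r := by rcases hcases with h | h <;> omega
  have hq5 : 5 < q := by rcases hcases with h | h <;> omega
  have h5 : IsMultiplyPretransitive G Ω 5 :=
    Cfsg.Agent.S3613.result p hp hΩ htrans hins P hN q hq hq5 hpq
  have hcard : Fintype.card Ω = 2 * r + 3 ∨ Fintype.card Ω = 3 * r + 4 := by
    rw [hΩ']
    rcases hcases with h | h
    · exact Or.inl h.2.1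
    · exact Or.inr h.2.1
  have hAlt := thmT _ (Cfsg.Agent.Lib.Helper17.APBR.APBR 5 h5) r hr hr5 hcard
  exact Cfsg.Agent.Lib.Helper29.APEND.APEND p hp (by omega) hΩ' P hN hAlt

end Cfsg.Agent.Lib.Helper4.APAsm
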