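import Mathlib
import Cfsg.Prelude.Def_LocalStructure

set_option autoImplicit false
set_option linter.style.haveILetI false

namespace Cfsg.Agent.Lib.Helper4

open Subgroup Equiv Equiv.Perm

/-- `p`-closedness transports along isomorphisms. -/
theorem isPClosed_of_mulEquiv {K H : Type*} [Group K] [Group H] {p : ℕ} (e : K ≃* H)
    (h : Cfsg.IsPClosed p H) : Cfsg.IsPClosed p K := by
  intro Q
  have hle : (Q : Subgroup K) ≤ (e.symm.toMonoidHom).range := by
    intro x _
    exact ⟨e x, by simp⟩
  have hn : ((Q : Subgroup K).comap e.symm.toMonoidHom).Normal :=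
    h (Q.comapOfInjective e.symm.toMonoidHom e.symm.injective hle)
  have h2 : (Q : Subgroup K) = ((Q : Subgroup K).comap e.symm.toMonoidHom).comap e.toMonoidHom := by
    ext x
    simp
  rw [h2]
  exact hn.comap _

/-- A finite simple group whose order is divisible by `p` and by another prime is not
`p`-closed. -/
theorem not_isPClosed_of_isSimpleGroup {K : Type*} [Group K] [Finite K] [IsSimpleGroup K] {p : ℕ}
    [Fact p.Prime] (hp : p ∣ Nat.card K) (q : ℕ) (hq : q.Prime) (hqp : q ≠ p)
    (hqK : q ∣ Nat.card K) : ¬ Cfsg.IsPClosed p K := by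
  intro h
  obtain ⟨Q⟩ : Nonempty (Sylow p K) := inferInstance
  haveI := h Q
  rcases (h Q).eq_bot_or_eq_top with hb | ht
  · exact Q.ne_bot_of_dvd_card hp hb
  · have hpg : IsPGroup p K := by
      have := Q.isPGroup'
      rw [ht] at this
      exact this.of_equiv Subgroup.topEquiv
    obtain ⟨k, hk⟩ := IsPGroup.iff_card.mp hpg
    rw [hk] at hqK
    have := (Nat.prime_dvd_prime_iff_eq hq (Fact.out : p.Prime)).mp (hq.dvd_of_dvd_pow hqK)
    exact hqp this

/-- In a `p`-closed finite group, the product of two `p`-elements is a `p`-element. -/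
theorem exists_orderOf_mul_eq_pow_of_isPClosed {K : Type*} [Group K] [Finite K] {p : ℕ}
    [Fact p.Prime] (h : Cfsg.IsPClosed p K) (x y : K) (i j : ℕ) (hx : x ^ p ^ i = 1)
    (hy : y ^ p ^ j = 1) : ∃ k, orderOf (x * y) = p ^ k := by
  obtain ⟨Q⟩ : Nonempty (Sylow p K) := inferInstance
  haveI := h Q
  haveI : Unique (Sylow p K) := Sylow.unique_of_normal Q (h Q)
  have key : ∀ (z : K) (i : ℕ), z ^ p ^ i = 1 → z ∈ (Q : Subgroup K) := by
    intro z i hz
    obtain ⟨k, -, hk⟩ := (Nat.dvd_prime_pow (Fact.out : p.Prime)).mp (orderOf_dvd_of_pow_eq_one hz)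
    have hzp : IsPGroup p (zpowers z) := by
      apply IsPGroup.of_card (n := k)
      rw [Nat.card_zpowers, hk]
    obtain ⟨Q', hQ'⟩ := hzp.exists_le_sylow
    rw [Subsingleton.elim Q' Q] at hQ'
    exact hQ' (mem_zpowers z)
  have hxy : x * y ∈ (Q : Subgroup K) := (Q : Subgroup K).mul_mem (key x i hx) (key y j hy)
  obtain ⟨k, hk⟩ := (IsPGroup.iff_orderOf.mp Q.isPGroup') ⟨x * y, hxy⟩
  rw [Subgroup.orderOf_mk] at hk
  exact ⟨k, hk⟩

/-- `A₄` is not `3`-closed. -/
theorem not_isPClosed_three_alt_four : ¬ Cfsg.IsPClosed 3 (alternatingGroup (Fin 4)) := by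
  intro h
  haveI : Fact (Nat.Prime 3) := ⟨Nat.prime_three⟩
  let a : alternatingGroup (Fin 4) := ⟨swap 0 1 * swap 1 2, mem_alternatingGroup.2 (by decide)⟩
  let b : alternatingGroup (Fin 4) := ⟨swap 1 2 * swap 2 3, mem_alternatingGroup.2 (by decide)⟩
  have ha : a ^ 3 ^ 1 = 1 := by decide
  have hb : b ^ 3 ^ 1 = 1 := by decide
  obtain ⟨k, hk⟩ := exists_orderOf_mul_eq_pow_of_isPClosed h a b 1 1 ha hb
  have hab : orderOf (a * b) = 2 := by
    apply orderOf_eq_prime
    · decide
    · decide
  rw [hab] at hk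
  have : 3 ∣ 2 ∨ k = 0 := by
    rcases Nat.eq_zero_or_pos k with h0 | h0
    · right; exact h0
    · left; rw [hk]; exact dvd_pow_self 3 h0.ne'
  rcases this with h3 | h0
  · omega
  · rw [h0] at hk; omega

/-- For `m ≥ 4` and an odd prime `p ≤ m`, the alternating group `A_m` is not `p`-closed. -/
theorem not_isPClosed_alternatingGroup (m p : ℕ) [Fact p.Prime] (hm : 4 ≤ m) (hp2 : p ≠ 2)
    (hpm : p ≤ m) : ¬ Cfsg.IsPClosed p (alternatingGroup (Fin m)) := by
  have hp : p.Prime := Fact.out
  rcases Nat.lt_or_ge m 5 with h5 | h5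
  · have hm4 : m = 4 := by omega
    subst hm4
    have hp3 : p = 3 := by
      have h1 : p ≠ 4 := by
        intro h4; rw [h4] at hp; exact absurd hp (by decide)
      have h2 := hp.two_le
      interval_cases p
      · exact absurd rfl hp2
      · rfl
      · exact absurd rfl h1
    subst hp3
    exact not_isPClosed_three_alt_four
  · haveI : Nontrivial (Fin m) := Fin.nontrivial_iff_two_le.mpr (by omega)
    haveI : IsSimpleGroup (alternatingGroup (Fin m)) :=
      alternatingGroup.isSimpleGroup (by rw [Nat.card_eq_fintype_card, Fintype.card_fin]; exact h5)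
    have hcard : 2 * Nat.card (alternatingGroup (Fin m)) = m.factorial := by
      rw [two_mul_nat_card_alternatingGroup, Nat.card_perm, Nat.card_eq_fintype_card,
        Fintype.card_fin]
    have hpd : p ∣ Nat.card (alternatingGroup (Fin m)) := by
      have h1 : p ∣ 2 * Nat.card (alternatingGroup (Fin m)) := by
        rw [hcard]; exact hp.dvd_factorial.mpr hpm
      rcases hp.dvd_mul.mp h1 with h2 | h2
      · exact absurd ((Nat.prime_dvd_prime_iff_eq hp Nat.prime_two).mp h2) hp2
      · exact h2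
    have h2d : 2 ∣ Nat.card (alternatingGroup (Fin m)) := by
      have h4 : 4 ∣ m.factorial := Nat.dvd_factorial (by norm_num) hm
      rw [← hcard] at h4
      omega
    exact not_isPClosed_of_isSimpleGroup hpd 2 Nat.prime_two (Ne.symm hp2) h2d

end Cfsg.Agent.Lib.Helper4
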