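import Mathlib

set_option autoImplicit false

namespace Cfsg.Agent.Lib.Helper4

universe u

section AutP

variable {L : Type u} [AddCommGroup L]

/-- the `j`-th preimage of `pL` -/
def autK (p : ℕ) (N : AddMonoid.End L) (j : ℕ) : AddSubgroup L :=
  AddSubgroup.comap (N ^ j : L →+ L) (AddMonoidHom.range (nsmulAddMonoidHom p : L →+ L))

theorem mem_autK (p : ℕ) (N : AddMonoid.End L) (j : ℕ) (v : L) :
    v ∈ autK p N j ↔ ∃ w : L, p • w = (N ^ j) v := Iff.rfl

theorem end_mul_apply (A B : AddMonoid.End L) (v : L) : (A * B) v = A (B v) := rfl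

theorem mem_autK_succ (p : ℕ) (N : AddMonoid.End L) (j : ℕ) (v : L) :
    v ∈ autK p N (j + 1) ↔ N v ∈ autK p N j := by
  rw [mem_autK, mem_autK, pow_succ, end_mul_apply]

theorem autK_le_succ (p : ℕ) (N : AddMonoid.End L) (j : ℕ) : autK p N j ≤ autK p N (j + 1) := by
  intro v hv
  rw [mem_autK] at hv ⊢
  obtain ⟨w, hw⟩ := hv
  refine ⟨N w, ?_⟩
  rw [pow_succ', end_mul_apply, ← hw, map_nsmul]

theorem autK_stable (p : ℕ) (N : AddMonoid.End L) (j : ℕ) (h : autK p N (j + 1) = autK p N j) :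
    ∀ m, autK p N (j + m) = autK p N j := by
  intro m
  induction m with
  | zero => rfl
  | succ m ih =>
    ext v
    rw [← add_assoc, mem_autK_succ, ih, ← mem_autK_succ, h]

theorem autK_zero (p : ℕ) (N : AddMonoid.End L) :
    autK p N 0 = AddMonoidHom.range (nsmulAddMonoidHom p : L →+ L) := by
  ext v
  rw [mem_autK, pow_zero]
  rfl

/-- The chain argument: if `|L| = p⁴`, `|pL| = p²` and `N^p(L) ⊆ pL`, then `N²(L) ⊆ pL`. -/
theorem autK_two_eq_top [Finite L] {p : ℕ} (hp : p.Prime) (hL : Nat.card L = p ^ 4)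
    (hpL : Nat.card (AddMonoidHom.range (nsmulAddMonoidHom p : L →+ L)) = p ^ 2)
    (N : AddMonoid.End L) (hN : autK p N p = ⊤) : autK p N 2 = ⊤ := by
  by_contra h2
  have hexp : ∀ H : AddSubgroup L, ∃ e, e ≤ 4 ∧ Nat.card H = p ^ e := by
    intro H
    have := AddSubgroup.card_addSubgroup_dvd_card H
    rw [hL] at this
    exact (Nat.dvd_prime_pow hp).mp this
  have hlt : ∀ H K : AddSubgroup L, H ≤ K → H ≠ K → Nat.card H < Nat.card K := by
    intro H K hle hne
    refine lt_of_le_of_ne (AddSubgroup.card_le_of_le hle) ?_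
    intro h
    exact hne (AddSubgroup.eq_of_le_of_card_ge hle h.ge)
  have h01 : autK p N 0 ≠ autK p N 1 := by
    intro h
    have := autK_stable p N 0 h.symm p
    rw [zero_add, hN] at this
    have h3 : Nat.card (autK p N 0) = p ^ 2 := by rw [autK_zero]; exact hpL
    rw [← this, AddSubgroup.card_top, hL] at h3
    have : p ^ 2 < p ^ 4 := Nat.pow_lt_pow_right hp.one_lt (by norm_num)
    omega
  have h12 : autK p N 1 ≠ autK p N 2 := by
    intro h
    have := autK_stable p N 1 h.symm (p - 1)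
    have e : 1 + (p - 1) = p := by have := hp.pos; omega
    rw [e, hN] at this
    exact h2 (h ▸ this.symm)
  have c0 : Nat.card (autK p N 0) = p ^ 2 := by rw [autK_zero]; exact hpL
  have l1 := hlt _ _ (autK_le_succ p N 0) h01
  have l2 := hlt _ _ (autK_le_succ p N 1) h12
  have l3 := hlt _ _ (le_top : autK p N 2 ≤ ⊤) h2
  rw [AddSubgroup.card_top, hL] at l3
  obtain ⟨e1, -, he1⟩ := hexp (autK p N 1)
  obtain ⟨e2, -, he2⟩ := hexp (autK p N 2)
  rw [c0, he1] at l1
  rw [he1, he2] at l2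
  rw [he2] at l3
  have i1 := (Nat.pow_lt_pow_iff_right hp.one_lt).mp l1
  have i2 := (Nat.pow_lt_pow_iff_right hp.one_lt).mp l2
  have i3 := (Nat.pow_lt_pow_iff_right hp.one_lt).mp l3
  omega

end AutP

end Cfsg.Agent.Lib.Helper4
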