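import Mathlib
import Cfsg.Agent.Lib.Helper4.AutChain

set_option autoImplicit false

namespace Cfsg.Agent.Lib.Helper4

universe u

section AutP

variable {L : Type u} [AddCommGroup L]

theorem end_sum_apply {ι : Type*} (s : Finset ι) (F : ι → AddMonoid.End L) (v : L) :
    (∑ i ∈ s, F i) v = ∑ i ∈ s, F i v := by
  classical
  induction s using Finset.induction_on with
  | empty => simp
  | insert a s ha ih =>
    rw [Finset.sum_insert ha, Finset.sum_insert ha, ← ih]
    rfl

theorem end_pow_mul_natCast_apply (N : AddMonoid.End L) (m c : ℕ) (v : L) :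
    (N ^ m * (c : AddMonoid.End L)) v = c • (N ^ m) v := by
  rw [end_mul_apply, AddMonoid.End.natCast_apply, map_nsmul]

/-- the binomial expansion of `f^p = 1`, evaluated at `v`. -/
theorem end_binomial_apply (f : AddMonoid.End L) (p : ℕ) (hf : f ^ p = 1) (v : L) :
    ∑ m ∈ Finset.range (p + 1), (p.choose m) • ((f - 1) ^ m) v = v := by
  have h1 : ((f - 1) + 1) ^ p = ∑ m ∈ Finset.range (p + 1),
      (f - 1) ^ m * 1 ^ (p - m) * ((p.choose m : ℕ) : AddMonoid.End L) :=
    (Commute.one_right (f - 1)).add_pow p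
  rw [sub_add_cancel, hf] at h1
  have h2 : (1 : AddMonoid.End L) v = (∑ m ∈ Finset.range (p + 1),
      (f - 1) ^ m * 1 ^ (p - m) * ((p.choose m : ℕ) : AddMonoid.End L)) v := by rw [← h1]
  rw [end_sum_apply] at h2
  have h3 : (1 : AddMonoid.End L) v = v := rfl
  rw [h3] at h2
  conv_rhs => rw [h2]
  apply Finset.sum_congr rfl
  intro m _
  rw [one_pow, mul_one, end_pow_mul_natCast_apply]

/-- An additive automorphism of order `p > 3` of a group like `(ℤ/p²)²` fixes the `p`-torsion. -/
theorem end_fixes_torsion [Finite L] {p : ℕ} (hp : p.Prime) (hp3 : 3 < p)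
    (hL : Nat.card L = p ^ 4) (H1 : ∀ v : L, (p ^ 2) • v = 0)
    (H2 : ∀ v : L, p • v = 0 → ∃ w : L, p • w = v) (f : AddMonoid.End L) (hf : f ^ p = 1) :
    ∀ v : L, p • v = 0 → f v = v := by
  set N : AddMonoid.End L := f - 1 with hN
  have hbin := end_binomial_apply f p hf
  rw [← hN] at hbin
  -- `|pL| = p²`
  have hker : (nsmulAddMonoidHom p : L →+ L).ker = (nsmulAddMonoidHom p : L →+ L).range := by
    ext v
    rw [AddMonoidHom.mem_ker, AddMonoidHom.mem_range, nsmulAddMonoidHom_apply]
    constructor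
    · intro h
      obtain ⟨w, hw⟩ := H2 v h
      exact ⟨w, hw⟩
    · rintro ⟨w, rfl⟩
      rw [nsmulAddMonoidHom_apply, ← mul_nsmul, ← pow_two]
      exact H1 w
  have hpL : Nat.card (AddMonoidHom.range (nsmulAddMonoidHom p : L →+ L)) = p ^ 2 := by
    have h1 := AddSubgroup.card_mul_index (nsmulAddMonoidHom p : L →+ L).ker
    rw [AddSubgroup.index_ker, hker, hL] at h1
    have h2 : p ^ 4 = p ^ 2 * p ^ 2 := by ring
    rw [h2] at h1
    exact Nat.mul_self_inj.mp h1
  -- divisibility of binomial coefficients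
  have hchoose : ∀ m, 0 < m → m < p → ∃ c, p.choose m = p * c := by
    intro m h0 hm
    exact hp.dvd_choose_self h0.ne' hm
  -- `N^p (L) ⊆ pL`
  have hKp : autK p N p = ⊤ := by
    rw [eq_top_iff]
    intro v _
    rw [mem_autK]
    have h1 := hbin v
    rw [Finset.sum_range_succ, Nat.choose_self, one_nsmul] at h1
    have h3 : ∑ m ∈ Finset.range p, (if m = 0 then v else 0) = v := by
      rw [Finset.sum_ite_eq' (Finset.range p) 0 (fun _ => v)]
      simp [hp.pos]
    have h2 : ∑ m ∈ Finset.range p, (p.choose m) • (N ^ m) v =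
        v + p • ∑ m ∈ Finset.range p, (p.choose m / p) • (N ^ m) v := by
      calc ∑ m ∈ Finset.range p, (p.choose m) • (N ^ m) v
          = ∑ m ∈ Finset.range p, ((if m = 0 then v else 0) +
              p • ((p.choose m / p) • (N ^ m) v)) := by
            apply Finset.sum_congr rfl
            intro m hm
            rw [Finset.mem_range] at hm
            by_cases hm0 : m = 0
            · subst hm0
              simp [Nat.div_eq_of_lt hp.one_lt]
            · obtain ⟨c, hc⟩ := hchoose m (Nat.pos_of_ne_zero hm0) hm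
              rw [if_neg hm0, zero_add, hc, Nat.mul_div_cancel_left c hp.pos, mul_nsmul']
        _ = v + p • ∑ m ∈ Finset.range p, (p.choose m / p) • (N ^ m) v := by
            rw [Finset.sum_add_distrib, h3, Finset.smul_sum]
    rw [h2] at h1
    refine ⟨-(∑ m ∈ Finset.range p, (p.choose m / p) • (N ^ m) v), ?_⟩
    rw [smul_neg]
    have : p • ∑ m ∈ Finset.range p, (p.choose m / p) • (N ^ m) v + (N ^ p) v = 0 := by
      have h4 : v + (p • ∑ m ∈ Finset.range p, (p.choose m / p) • (N ^ m) v + (N ^ p) v) = v + 0 := by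
        rw [← add_assoc, add_zero]; exact h1
      exact add_left_cancel h4
    exact neg_eq_of_add_eq_zero_right this
  have hK2 := autK_two_eq_top hp hL hpL N hKp
  have hsq : ∀ v : L, ∃ w : L, p • w = (N ^ 2) v := by
    intro v
    have : v ∈ autK p N 2 := by rw [hK2]; trivial
    exact (mem_autK p N 2 v).mp this
  -- `N⁴ = 0`
  have h4 : ∀ v : L, (N ^ 4) v = 0 := by
    intro v
    obtain ⟨w, hw⟩ := hsq v
    obtain ⟨w', hw'⟩ := hsq w
    have : (N ^ 4) v = (N ^ 2) ((N ^ 2) v) := by
      rw [show 4 = 2 + 2 from rfl, pow_add, end_mul_apply]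
    rw [this, ← hw, map_nsmul, ← hw', ← mul_nsmul, ← pow_two]
    exact H1 w'
  have hge4 : ∀ m, 4 ≤ m → ∀ v : L, (N ^ m) v = 0 := by
    intro m hm v
    have : m = (m - 4) + 4 := by omega
    rw [this, pow_add, end_mul_apply, h4, map_zero]
  -- `p • N v = 0`
  have hpN : ∀ v : L, p • N v = 0 := by
    intro v
    have h1 := hbin v
    have h2 : ∑ m ∈ Finset.range 2, (p.choose m) • (N ^ m) v =
        ∑ m ∈ Finset.range (p + 1), (p.choose m) • (N ^ m) v := by
      apply Finset.sum_subset
      · intro m hm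
        rw [Finset.mem_range] at hm ⊢
        omega
      · intro m hm hm2
        rw [Finset.mem_range] at hm hm2
        by_cases hm4 : 4 ≤ m
        · rw [hge4 m hm4, smul_zero]
        · have hmp : m < p := by omega
          obtain ⟨c, hc⟩ := hchoose m (by omega) hmp
          obtain ⟨w, hw⟩ := hsq v
          have e : (N ^ m) v = p • (N ^ (m - 2)) w := by
            have : m = (m - 2) + 2 := by omega
            conv_lhs => rw [this, pow_add, end_mul_apply, ← hw, map_nsmul]
          rw [e, hc, ← mul_nsmul, show p * (p * c) = c * p ^ 2 by ring, mul_nsmul', H1, smul_zero]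
    rw [h1, Finset.sum_range_succ, Finset.sum_range_one, Nat.choose_zero_right, one_nsmul,
      pow_zero, Nat.choose_one_right, pow_one] at h2
    have h3 : v + p • N v = v + 0 := by rw [add_zero]; exact h2
    exact add_left_cancel h3
  intro v hv
  obtain ⟨w, rfl⟩ := H2 v hv
  have h5 : N (p • w) = 0 := by rw [map_nsmul]; exact hpN w
  have h6 : f = N + 1 := by rw [hN, sub_add_cancel]
  rw [h6]
  show N (p • w) + (1 : AddMonoid.End L) (p • w) = p • w
  rw [h5, zero_add]
  rfl

end AutP

end Cfsg.Agent.Lib.Helper4
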