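import Mathlib
import Cfsg.Agent.Lib.Helper4.AutTorsion

set_option autoImplicit false

namespace Cfsg.Agent.Lib.Helper4

theorem pow_eq_one_of_orderOf_eq' {G : Type*} [Monoid G] (g : G) (n : ℕ) (h : orderOf g = n) :
    g ^ n = 1 := by
  subst h; exact pow_orderOf_eq_one g

theorem zmod_sq_torsion {p : ℕ} (hp : p.Prime) (c : ZMod (p ^ 2)) (h : p • c = 0) :
    ∃ d : ZMod (p ^ 2), p • d = c := by
  haveI : NeZero (p ^ 2) := ⟨pow_ne_zero 2 hp.ne_zero⟩
  have h1 : ((c.val : ℕ) : ZMod (p ^ 2)) = c := ZMod.natCast_zmod_val c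
  rw [← h1, nsmul_eq_mul, ← Nat.cast_mul, ZMod.natCast_eq_zero_iff] at h
  have h2 : p ∣ c.val := by
    have h' : p * p ∣ p * c.val := dvd_trans (by rw [pow_two]) h
    exact Nat.dvd_of_mul_dvd_mul_left hp.pos h'
  obtain ⟨d, hd⟩ := h2
  refine ⟨(d : ZMod (p ^ 2)), ?_⟩
  rw [← h1, hd, nsmul_eq_mul, Nat.cast_mul]

theorem zmod_sq_nsmul {p : ℕ} (c : ZMod (p ^ 2)) : (p ^ 2) • c = 0 := by
  rw [nsmul_eq_mul, ZMod.natCast_self, zero_mul]

/-- An automorphism of order `p > 3` of `C_{p²} × C_{p²}` fixes every element of order `p`. -/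
theorem mulAut_fixes_of_orderOf {p : ℕ} (hp : p.Prime) (hp3 : 3 < p)
    (a : MulAut (Multiplicative (ZMod (p ^ 2) × ZMod (p ^ 2)))) (ha : orderOf a = p)
    (x : Multiplicative (ZMod (p ^ 2) × ZMod (p ^ 2))) (hx : orderOf x = p) : a x = x := by
  haveI : NeZero (p ^ 2) := ⟨pow_ne_zero 2 hp.ne_zero⟩
  let f : AddMonoid.End (ZMod (p ^ 2) × ZMod (p ^ 2)) :=
    AddMonoidHom.mk' (fun v => Multiplicative.toAdd (a (Multiplicative.ofAdd v))) (by
      intro u v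
      rw [ofAdd_add, map_mul, toAdd_mul])
  have hfk : ∀ (k : ℕ) (v : ZMod (p ^ 2) × ZMod (p ^ 2)),
      (f ^ k) v = Multiplicative.toAdd ((a ^ k) (Multiplicative.ofAdd v)) := by
    intro k
    induction k with
    | zero => intro v; rfl
    | succ k ih =>
      intro v
      rw [pow_succ f k, end_mul_apply, ih, pow_succ a k]
      rfl
  have hf : f ^ p = 1 := by
    have hap : a ^ p = 1 := pow_eq_one_of_orderOf_eq' a p ha
    ext v : 1
    rw [hfk, hap]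
    rfl
  have hL : Nat.card (ZMod (p ^ 2) × ZMod (p ^ 2)) = p ^ 4 := by
    rw [Nat.card_prod, Nat.card_zmod]
    ring
  have H1 : ∀ v : ZMod (p ^ 2) × ZMod (p ^ 2), (p ^ 2) • v = 0 := by
    rintro ⟨u, v⟩
    rw [Prod.smul_mk, zmod_sq_nsmul, zmod_sq_nsmul]
    rfl
  have H2 : ∀ v : ZMod (p ^ 2) × ZMod (p ^ 2), p • v = 0 → ∃ w, p • w = v := by
    rintro ⟨u, v⟩ h
    rw [Prod.smul_mk, Prod.mk_eq_zero] at h
    obtain ⟨d, hd⟩ := zmod_sq_torsion hp u h.1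
    obtain ⟨e, he⟩ := zmod_sq_torsion hp v h.2
    exact ⟨(d, e), by rw [Prod.smul_mk, hd, he]⟩
  have hx' : p • Multiplicative.toAdd x = 0 := by
    have hxp : x ^ p = 1 := pow_eq_one_of_orderOf_eq' x p hx
    rw [← toAdd_pow, hxp]
    rfl
  have := end_fixes_torsion hp hp3 hL H1 H2 f hf (Multiplicative.toAdd x) hx'
  exact this

end Cfsg.Agent.Lib.Helper4
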