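/-
helper4: leaf BQ-KLEIN of the S4501 market (notes/S4501_leaves.lean): the principal 2-block data of a simple group of
order `4 g₀` (`g₀` odd) with lead's Klein-four order formula cleared of denominators.
-/
import Mathlib
import Cfsg.Prelude.Def_BlockRank
import Cfsg.Agent.Lib.Helper6.BRHDefs
import Cfsg.Agent.Lib.Helper6.Knoerr
import Cfsg.Agent.Lib.Helper24.BRCDefs
import Cfsg.Agent.Lib.Helper12.BTSETUP
import Cfsg.Agent.Lib.Helper5.BRWLIN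
import Cfsg.Agent.Lib.Lead.KleinOrder3
import Cfsg.Agent.S0948
import Cfsg.Agent.S0992

set_option autoImplicit false

namespace Cfsg.Agent.Lib.Helper4.BQKLEIN

open Cfsg Cfsg.Agent.Lib.Helper8.DOM Cfsg.Agent.Lib.Helper27.DO Cfsg.Agent.CharLib
open Cfsg.Agent.Lib.Helper6.BRH Cfsg.Agent.Lib.Helper24.BRC
open scoped ComplexConjugate

universe u

variable {G : Type u} [Group G] [Finite G]

/-- BQ-KLEIN -/
theorem klein_data [IsSimpleGroup G] (hna : ∃ x y : G, x * y ≠ y * x) (g₀ : ℕ) (hg₀ : Odd g₀) (hG : Nat.card G = 4 * g₀) :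
    ∃ (ζ₂ ζ₃ ζ₄ : IrrCharacter G) (ε : ℤ) (k k' : ℕ), (ε = 1 ∨ ε = -1) ∧
      ζ₂ ≠ trivIrr G ∧ ζ₃ ≠ trivIrr G ∧ ζ₄ ≠ trivIrr G ∧
      (4 : ℤ) ∣ (charDegree (ζ₂ : G → ℂ) : ℤ) - 1 ∧ (4 : ℤ) ∣ (charDegree (ζ₃ : G → ℂ) : ℤ) - ε ∧
      (4 : ℤ) ∣ (charDegree (ζ₄ : G → ℂ) : ℤ) + 1 ∧
      1 + (charDegree (ζ₂ : G → ℂ) : ℤ) + ε * (charDegree (ζ₃ : G → ℂ) : ℤ) - (charDegree (ζ₄ : G → ℂ) : ℤ) = 0 ∧
      3 ∣ g₀ ∧ k ∣ g₀ ∧
      (g₀ : ℤ) * (((charDegree (ζ₂ : G → ℂ) : ℤ) + 1) * ((charDegree (ζ₃ : G → ℂ) : ℤ) + ε) *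
          ((charDegree (ζ₄ : G → ℂ) : ℤ) - 1)) * (k' : ℤ) ^ 2 =
        8 * ((charDegree (ζ₂ : G → ℂ) : ℤ) * (charDegree (ζ₃ : G → ℂ) : ℤ) * (charDegree (ζ₄ : G → ℂ) : ℤ)) * (k : ℤ) ^ 3 := by
  classical
  haveI : Fact (Nat.Prime 2) := ⟨Nat.prime_two⟩
  have hnm : ¬ IsMulCommutative G := by
    intro h
    obtain ⟨x, y, hxy⟩ := hna
    exact hxy (h.is_comm.comm x y)
  have hg₀pos : 0 < g₀ := hg₀.pos
  -- no normal 2-complement
  have hnc : ¬ ∃ N : Subgroup G, N.Normal ∧ Nat.card N = g₀ := by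
    rintro ⟨N, hN, hNc⟩
    rcases hN.eq_bot_or_eq_top with rfl | rfl
    · rw [Subgroup.card_bot] at hNc
      have h4 : Nat.card G = 2 ^ 2 := by rw [hG, ← hNc]; norm_num
      obtain ⟨x, y, hxy⟩ := hna
      haveI := IsPGroup.isMulCommutative_of_card_eq_prime_sq h4
      exact hxy ((IsMulCommutative.is_comm (M := G)).comm x y)
    · rw [Subgroup.card_top, hG] at hNc
      omega
  let T : Sylow 2 G := default
  have hT : IsKleinFour (T : Subgroup G) := ko_isKleinFour g₀ hg₀ hG hnc T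
  have hT4 : Nat.card (T : Subgroup G) = 4 := ko_card_sylow g₀ hg₀ hG T
  have hone : ∀ s t : G, orderOf s = 2 → orderOf t = 2 → IsConj s t :=
    fun s t hs ht => ko_invol_conj g₀ hg₀ hG hnc T s t hs ht
  obtain ⟨M, hM⟩ := Cfsg.Agent.Lib.Helper6.exists_isPModular 2
  obtain ⟨ζ₂, ζ₃, ζ₄, ε, hε, h21, h31, h23, h24, h34, hB, hval, h4a, h4b, h4c, hy⟩ :=
    Cfsg.Agent.S0948.result M hM T hT hone
  obtain ⟨J, -, hJT, -, hJ1, -, -, -⟩ := Cfsg.Agent.Lib.Helper2.klein_exists_gens T hT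
  have hJ2 : orderOf J = 2 := Cfsg.Agent.Lib.Helper2.klein_orderOf T hT hJT hJ1
  obtain ⟨hv2, hv3, hv4⟩ := hval J hJ2
  have h41 : (ζ₄ : G → ℂ) ≠ (fun _ => 1) := by
    intro h
    rw [h] at hv4
    norm_num at hv4
  have htriv : ∀ ζ : IrrCharacter G, (ζ : G → ℂ) ≠ (fun _ => 1) → ζ ≠ trivIrr G := by
    intro ζ h h'
    apply h
    rw [h']
    rfl
  -- degrees
  have hperf : commutator G = ⊤ := Cfsg.Agent.Lib.Helper12.BTSETUP.commutator_eq_top hnm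
  have hdeg2 : ∀ ζ : IrrCharacter G, ζ ≠ trivIrr G → 2 ≤ charDegree (ζ : G → ℂ) := by
    intro ζ hζ
    have h1 : charDegree (ζ : G → ℂ) ≠ 1 := fun h =>
      hζ (Cfsg.Agent.Lib.Helper5.BRWLIN.eq_triv_of_degree_one hperf ζ h)
    have h0 : 0 < charDegree (ζ : G → ℂ) := Cfsg.Agent.Lib.Helper6.BRH.charDegree_pos ζ
    omega
  have hd2 := hdeg2 ζ₂ (htriv ζ₂ h21)
  have hd3 := hdeg2 ζ₃ (htriv ζ₃ h31)
  have hd4 := hdeg2 ζ₄ (htriv ζ₄ h41)
  -- the relation at 1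
  have hrel : 1 + (charDegree (ζ₂ : G → ℂ) : ℤ) + ε * (charDegree (ζ₃ : G → ℂ) : ℤ) -
      (charDegree (ζ₄ : G → ℂ) : ℤ) = 0 := by
    have h := hy 1 (by rw [orderOf_one]; exact odd_one)
    rw [apply_one_eq ζ₂, apply_one_eq ζ₃, apply_one_eq ζ₄] at h
    exact_mod_cast h
  -- the order formula
  have hform := klein_order_formula M hM g₀ hg₀ hG hnc T J hJT hJ2 ζ₂ ζ₃ ζ₄ 1 ε (-1) hB
    ⟨h21, h31, h41, h23, h24, h34⟩ ⟨Or.inl rfl, hε, Or.inr rfl⟩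
    ⟨by rw [hv2]; norm_num, by rw [hv3], by rw [hv4]; norm_num⟩
  -- the centralizers
  have hcomm := Cfsg.Agent.Lib.Helper2.klein_comm T hT
  have hTJ : (T : Subgroup G) ≤ Subgroup.centralizer ({J} : Set G) := by
    intro x hx
    rw [Subgroup.mem_centralizer_iff]
    intro y hy
    rw [Set.mem_singleton_iff] at hy
    subst hy
    exact hcomm y hJT x hx
  have hTT : (T : Subgroup G) ≤ Subgroup.centralizer ((T : Subgroup G) : Set G) := by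
    intro x hx
    rw [Subgroup.mem_centralizer_iff]
    intro y hy
    exact hcomm y hy x hx
  have hCTJ : Subgroup.centralizer ((T : Subgroup G) : Set G) ≤ Subgroup.centralizer ({J} : Set G) :=
    Subgroup.centralizer_le (by
      intro y hy
      rw [Set.mem_singleton_iff] at hy
      subst hy
      exact hJT)
  obtain ⟨k, hk⟩ : 4 ∣ Nat.card (Subgroup.centralizer ({J} : Set G)) := by
    rw [← hT4]; exact Subgroup.card_dvd_of_le hTJ
  obtain ⟨k', hk'⟩ : 4 ∣ Nat.card (Subgroup.centralizer ((T : Subgroup G) : Set G)) := by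
    rw [← hT4]; exact Subgroup.card_dvd_of_le hTT
  have hkg : k ∣ g₀ := by
    have h1 : Nat.card (Subgroup.centralizer ({J} : Set G)) ∣ Nat.card G :=
      Subgroup.card_subgroup_dvd_card _
    rw [hk, hG] at h1
    exact (Nat.mul_dvd_mul_iff_left (by norm_num : 0 < 4)).mp h1
  -- 3 ∣ g₀
  have h3g : 3 ∣ g₀ := by
    have heven : Even (Nat.card G) := by rw [hG]; exact ⟨2 * g₀, by ring⟩
    have h8 : ¬ 8 ∣ Nat.card G := by
      rw [hG]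
      rintro ⟨c, hc⟩
      obtain ⟨m, hm⟩ := hg₀
      omega
    obtain ⟨-, hrel3⟩ := Cfsg.Agent.S0992.result hnm heven h8 T
    have h1 : 3 ∣ Nat.card (Subgroup.normalizer ((T : Subgroup G) : Set G)) := by
      rw [← hrel3]; exact Subgroup.relIndex_dvd_card _ _
    have h2 : 3 ∣ Nat.card G := dvd_trans h1 (Subgroup.card_subgroup_dvd_card _)
    rw [hG] at h2
    exact (Nat.Coprime.dvd_of_dvd_mul_left (by norm_num : Nat.Coprime 3 4) h2)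
  refine ⟨ζ₂, ζ₃, ζ₄, ε, k, k', hε, htriv ζ₂ h21, htriv ζ₃ h31, htriv ζ₄ h41, h4a, h4b, h4c, hrel, h3g,
    hkg, ?_⟩
  -- clear denominators
  have hk'pos : 0 < k' := by
    rcases Nat.eq_zero_or_pos k' with rfl | h
    · rw [mul_zero] at hk'
      exact absurd hk' (Nat.card_pos).ne'
    · exact h
  rw [hG, hk, hk'] at hform
  have hA : ((charDegree (ζ₂ : G → ℂ) : ℚ) + ((1 : ℤ) : ℚ)) ≠ 0 := by
    have : (0 : ℚ) ≤ (charDegree (ζ₂ : G → ℂ) : ℚ) := by positivity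
    push_cast; linarith
  have hB' : ((charDegree (ζ₃ : G → ℂ) : ℚ) + (ε : ℚ)) ≠ 0 := by
    have h2 : (2 : ℚ) ≤ (charDegree (ζ₃ : G → ℂ) : ℚ) := by exact_mod_cast hd3
    rcases hε with rfl | rfl
    · push_cast; linarith
    · push_cast; linarith
  have hC : ((charDegree (ζ₄ : G → ℂ) : ℚ) + ((-1 : ℤ) : ℚ)) ≠ 0 := by
    have h2 : (2 : ℚ) ≤ (charDegree (ζ₄ : G → ℂ) : ℚ) := by exact_mod_cast hd4
    push_cast; linarith
  have hk'Q : ((4 * k' : ℕ) : ℚ) ≠ 0 := by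
    have : 0 < 4 * k' := by omega
    exact_mod_cast this.ne'
  have key : (g₀ : ℚ) * (((charDegree (ζ₂ : G → ℂ) : ℚ) + 1) * ((charDegree (ζ₃ : G → ℂ) : ℚ) + (ε : ℚ)) *
      ((charDegree (ζ₄ : G → ℂ) : ℚ) - 1)) * (k' : ℚ) ^ 2 =
      8 * ((charDegree (ζ₂ : G → ℂ) : ℚ) * (charDegree (ζ₃ : G → ℂ) : ℚ) * (charDegree (ζ₄ : G → ℂ) : ℚ)) *
        (k : ℚ) ^ 3 := by
    have hk'0 : (k' : ℚ) ≠ 0 := by exact_mod_cast hk'pos.ne'
    push_cast at hform hA hB' hC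
    have hC' : (charDegree (ζ₄ : G → ℂ) : ℚ) - 1 ≠ 0 := by
      intro h; apply hC; linarith
    field_simp at hform
    linear_combination hform
  exact_mod_cast key

end Cfsg.Agent.Lib.Helper4.BQKLEIN
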