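/-
helper4: S4501 (simple groups of order 4 p^a q^b / 3 p^a q^b, a ≤ 2), ASSEMBLY over the BQ leaves
(notes/S4501_leaves.lean).
-/
import Mathlib
import Cfsg.Agent.Lib.Helper2.BQBURN
import Cfsg.Agent.Lib.Helper8.BQVANISH
import Cfsg.Agent.Lib.Helper14.BQPRIMEDEG
import Cfsg.Agent.Lib.Helper24.BQB3
import Cfsg.Agent.Lib.Helper4.BQKLEIN
import Cfsg.Agent.Lib.Helper15.BQSYL5
import Cfsg.Agent.Lib.Helper8.BQISO
import Cfsg.Agent.Lib.Helper8.BQCARD7
import Cfsg.Agent.Lib.Helper8.BQORD997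
import Cfsg.Agent.Lib.Helper17.BQCONSEC
import Cfsg.Agent.Lib.Helper20.BQPAT36
import Cfsg.Agent.Lib.Helper17.BQKILL36
import Cfsg.Agent.Lib.Helper17.BQPAT20
import Cfsg.Agent.Lib.Helper17.BQKILL20
import Cfsg.Agent.Lib.Helper15.BQPATP2
import Cfsg.Agent.Lib.Helper15.BQKILLP2
import Cfsg.Agent.S0997
import Cfsg.Agent.S0998

set_option autoImplicit false

namespace Cfsg.Agent.Lib.Helper4.BQAsm

open Cfsg Cfsg.Agent.Lib.Helper8.DOM Cfsg.Agent.Lib.Helper27.DO Cfsg.Agent.CharLib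
open Cfsg.Agent.Lib.Helper6.BRH Cfsg.Agent.Lib.Helper24.BRC
open Cfsg.Agent.Lib.Helper2.BQBURN Cfsg.Agent.Lib.Helper8.BQVANISH Cfsg.Agent.Lib.Helper14.BQPRIMEDEG
open Cfsg.Agent.Lib.Helper24.BQB3 Cfsg.Agent.Lib.Helper4.BQKLEIN Cfsg.Agent.Lib.Helper15.BQSYL5
open Cfsg.Agent.Lib.Helper8.BQISO Cfsg.Agent.Lib.Helper8.BQCARD7 Cfsg.Agent.Lib.Helper8.BQORD997
open Cfsg.Agent.Lib.Helper17.BQCONSEC Cfsg.Agent.Lib.Helper20.BQPAT36 Cfsg.Agent.Lib.Helper17.BQKILL36
open Cfsg.Agent.Lib.Helper17.BQPAT20 Cfsg.Agent.Lib.Helper17.BQKILL20 Cfsg.Agent.Lib.Helper15.BQPATP2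
open Cfsg.Agent.Lib.Helper15.BQKILLP2

universe u

variable {G : Type u} [Group G] [Finite G]

/-- the order of a Sylow subgroup from a factorization of the group order -/
theorem card_sylow_of_card (r : ℕ) [Fact r.Prime] (R : Sylow r G) (m e : ℕ)
    (hG : Nat.card G = m * r ^ e) (hm : ¬ r ∣ m) : Nat.card (R : Subgroup G) = r ^ e := by
  have hr : r.Prime := Fact.out
  have hm0 : m ≠ 0 := by
    rintro rfl
    exact hm (dvd_zero r)
  have hre : r ^ e ≠ 0 := pow_ne_zero _ hr.ne_zero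
  rw [R.card_eq_multiplicity, hG, Nat.factorization_mul hm0 hre, Finsupp.add_apply,
    Nat.factorization_eq_zero_of_not_dvd hm, zero_add, hr.factorization_pow]
  simp

theorem not_isCyclic (hna : ∃ x y : G, x * y ≠ y * x) : ¬ IsCyclic G := by
  intro h
  obtain ⟨x, y, hxy⟩ := hna
  letI := IsCyclic.commGroup (α := G)
  exact hxy (mul_comm x y)

theorem not_isMulCommutative (hna : ∃ x y : G, x * y ≠ y * x) : ¬ IsMulCommutative G := by
  intro h
  obtain ⟨x, y, hxy⟩ := hna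
  exact hxy (h.is_comm.comm x y)

/-- a non-trivial irreducible character of a non-abelian simple group has degree at least 2 -/
theorem two_le_degree [IsSimpleGroup G] (hna : ∃ x y : G, x * y ≠ y * x) (χ : IrrCharacter G)
    (hχ : χ ≠ trivIrr G) : 2 ≤ charDegree (χ : G → ℂ) := by
  have hperf : commutator G = ⊤ :=
    Cfsg.Agent.Lib.Helper12.BTSETUP.commutator_eq_top (not_isMulCommutative hna)
  have h1 : charDegree (χ : G → ℂ) ≠ 1 := fun h =>
    hχ (Cfsg.Agent.Lib.Helper5.BRWLIN.eq_triv_of_degree_one hperf χ h)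
  have h0 : 0 < charDegree (χ : G → ℂ) := Cfsg.Agent.Lib.Helper6.BRH.charDegree_pos χ
  omega

/-- a Sylow subgroup of order `r` or `r²` is abelian; (V) -/
theorem pow_eq_of_degree [IsSimpleGroup G] (hna : ∃ x y : G, x * y ≠ y * x) (r : ℕ) [Fact r.Prime] (m e : ℕ)
    (he : e ≤ 2) (hG : Nat.card G = m * r ^ e) (hm : ¬ r ∣ m)
    (χ : IrrCharacter G) (hχ : χ ≠ trivIrr G) (i : ℕ) (hdeg : charDegree (χ : G → ℂ) = r ^ i) :
    r ^ i = r ^ e := by
  have hr : r.Prime := Fact.out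
  let R : Sylow r G := default
  have hR : Nat.card (R : Subgroup G) = r ^ e := card_sylow_of_card r R m e hG hm
  have hab : ∀ x ∈ (R : Subgroup G), ∀ y ∈ (R : Subgroup G), x * y = y * x := by
    intro x hx y hy
    have hcomm : ∀ a b : (R : Subgroup G), a * b = b * a := by
      interval_cases e
      · intro a b
        have h1 : Nat.card (R : Subgroup G) = 1 := by simpa using hR
        have hsub : Subsingleton (R : Subgroup G) := (Nat.card_eq_one_iff_unique.mp h1).1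
        rw [Subsingleton.elim a b]
      · have h1 : Nat.card (R : Subgroup G) = r := by simpa using hR
        haveI : IsCyclic (R : Subgroup G) := isCyclic_of_prime_card h1
        letI := IsCyclic.commGroup (α := (R : Subgroup G))
        exact fun a b => mul_comm a b
      · haveI := IsPGroup.isMulCommutative_of_card_eq_prime_sq hR
        exact fun a b => (IsMulCommutative.is_comm (M := (R : Subgroup G))).comm a b
    exact congrArg Subtype.val (hcomm ⟨x, hx⟩ ⟨y, hy⟩)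
  rw [degree_eq_sylow_card hna r R hab χ hχ i hdeg, hR]

/-- **PART 2** -/
theorem part2 [IsSimpleGroup G] (hna : ∃ x y : G, x * y ≠ y * x) (p q a b : ℕ) (hp : p.Prime) (hq : q.Prime)
    (hpq : p ≠ q) (ha : a ≤ 2) (hG : Nat.card G = 3 * p ^ a * q ^ b) :
    Nonempty (G ≃* alternatingGroup (Fin 5)) ∨
      Nonempty (G ≃* Matrix.ProjectiveSpecialLinearGroup (Fin 2) (ZMod 7)) := by
  have h3 : Nat.Prime 3 := Nat.prime_three
  have hp3 : p ≠ 3 := by
    rintro rfl
    exact not_two_primes hna 3 q (a + 1) b h3 hq (by rw [hG]; ring)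
  have hq3 : q ≠ 3 := by
    rintro rfl
    exact not_two_primes hna p 3 a (b + 1) hp h3 (by rw [hG]; ring)
  have ha0 : a ≠ 0 := by
    rintro rfl
    exact not_two_primes hna 3 q 1 b h3 hq (by rw [hG]; ring)
  have hcases : a = 1 ∨ a = 2 := by omega
  rcases hcases with rfl | rfl
  · -- a = 1 : S0998
    have hG' : Nat.card G = p * 3 * q ^ b := by rw [hG]; ring
    exact iso_of_psl (Cfsg.Agent.S0998.result (not_isCyclic hna) p q 3 b hp hq h3 hpq hp3 hq3 hG')
  · -- a = 2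
    left
    haveI : Fact (Nat.Prime 3) := ⟨h3⟩
    haveI : Fact p.Prime := ⟨hp⟩
    have h3p : ¬ 3 ∣ p := fun h => hp3 ((Nat.prime_dvd_prime_iff_eq h3 hp).mp h).symm
    have h3q : ¬ 3 ∣ q := fun h => hq3 ((Nat.prime_dvd_prime_iff_eq h3 hq).mp h).symm
    have h3m : ¬ 3 ∣ p ^ 2 * q ^ b := by
      intro h
      rcases (Nat.Prime.dvd_mul h3).mp h with h | h
      · exact h3p (h3.dvd_of_dvd_pow h)
      · exact h3q (h3.dvd_of_dvd_pow h)
    let P3 : Sylow 3 G := default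
    have hP3 : Nat.card (P3 : Subgroup G) = 3 := by
      have := card_sylow_of_card 3 P3 (p ^ 2 * q ^ b) 1 (by rw [hG]; ring) h3m
      simpa using this
    have hSyl : ¬ 3 ∣ (P3 : Subgroup G).index := P3.not_dvd_index
    obtain ⟨χ, χ', hχ, hχ', hdeg, h3χ, h3χ'⟩ := consecutive_degrees hna (P3 : Subgroup G) hP3 hSyl
    have hd2 := two_le_degree hna χ hχ
    have hdvd : ∀ ψ : IrrCharacter G, ¬ 3 ∣ charDegree (ψ : G → ℂ) →
        charDegree (ψ : G → ℂ) ∣ p ^ 2 * q ^ b := by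
      intro ψ h3ψ
      have h1 := Cfsg.Agent.Lib.Helper24.irr_charDegree_dvd_card ψ
      rw [hG, mul_assoc] at h1
      have hcop : (charDegree (ψ : G → ℂ)).Coprime 3 :=
        (Nat.Coprime.symm ((Nat.Prime.coprime_iff_not_dvd h3).mpr h3ψ))
      exact hcop.dvd_of_dvd_mul_left h1
    have hV : ∀ i : ℕ, (charDegree (χ : G → ℂ) = p ^ i ∨ charDegree (χ : G → ℂ) + 1 = p ^ i) →
        p ^ i = p ^ 2 := by
      intro i hi
      have hpm : ¬ p ∣ 3 * q ^ b := by
        intro h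
        rcases (Nat.Prime.dvd_mul hp).mp h with h | h
        · exact hp3 ((Nat.prime_dvd_prime_iff_eq hp h3).mp h)
        · exact hpq ((Nat.prime_dvd_prime_iff_eq hp hq).mp (hp.dvd_of_dvd_pow h))
      have hG2 : Nat.card G = (3 * q ^ b) * p ^ 2 := by rw [hG]; ring
      rcases hi with hi | hi
      · exact pow_eq_of_degree hna p (3 * q ^ b) 2 le_rfl hG2 hpm χ hχ i hi
      · exact pow_eq_of_degree hna p (3 * q ^ b) 2 le_rfl hG2 hpm χ' hχ' i (by rw [hdeg]; exact hi)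
    obtain ⟨rfl, rfl⟩ := consec_arith p q b (charDegree (χ : G → ℂ)) hp hq hpq hp3 hq3 hd2
      (hdvd χ h3χ) (by rw [← hdeg]; exact hdvd χ' h3χ') hV
    have h60 : Nat.card G = 60 := card_eq_sixty hna b (by rw [hG]; ring)
    exact Cfsg.Agent.S0494.result h60

/-- **PART 1** -/
theorem part1 [IsSimpleGroup G] (hna : ∃ x y : G, x * y ≠ y * x) (p q a b : ℕ) (hp : p.Prime) (hq : q.Prime)
    (hpq : p ≠ q) (ha : a ≤ 2) (hG : Nat.card G = 4 * p ^ a * q ^ b) :
    Nonempty (G ≃* alternatingGroup (Fin 5)) := by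
  have h2 : Nat.Prime 2 := Nat.prime_two
  have h3 : Nat.Prime 3 := Nat.prime_three
  have hp2 : p ≠ 2 := by
    rintro rfl
    exact not_two_primes hna 2 q (a + 2) b h2 hq (by rw [hG]; ring)
  have hq2 : q ≠ 2 := by
    rintro rfl
    exact not_two_primes hna p 2 a (b + 2) hp h2 (by rw [hG]; ring)
  have ha0 : a ≠ 0 := by
    rintro rfl
    exact not_two_primes hna 2 q 2 b h2 hq (by rw [hG]; ring)
  have hpodd : Odd p := hp.odd_of_ne_two hp2
  have hqodd : Odd q := hq.odd_of_ne_two hq2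
  have hg₀ : Odd (p ^ a * q ^ b) := (hpodd.pow).mul (hqodd.pow)
  have hG' : Nat.card G = 4 * (p ^ a * q ^ b) := by rw [hG]; ring
  obtain ⟨ζ₂, ζ₃, ζ₄, ε, k, k', hε, hζ₂, hζ₃, hζ₄, hm2, hm3, hm4, hrel, h3g, hk, hform⟩ :=
    klein_data hna (p ^ a * q ^ b) hg₀ hG'
  -- the degrees
  have hdeg : ∀ ψ : IrrCharacter G, ψ ≠ trivIrr G → Odd (charDegree (ψ : G → ℂ)) →
      1 < charDegree (ψ : G → ℂ) ∧ charDegree (ψ : G → ℂ) ∣ p ^ a * q ^ b := by
    intro ψ hψ hodd
    refine ⟨two_le_degree hna ψ hψ, ?_⟩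
    have h1 := Cfsg.Agent.Lib.Helper24.irr_charDegree_dvd_card ψ
    rw [hG'] at h1
    have hcop : (charDegree (ψ : G → ℂ)).Coprime 4 := by
      have : (charDegree (ψ : G → ℂ)).Coprime (2 ^ 2) := (Nat.Coprime.pow_right 2 hodd.coprime_two_right)
      simpa using this
    exact hcop.dvd_of_dvd_mul_left h1
  have hodd2 : Odd (charDegree (ζ₂ : G → ℂ)) := by
    obtain ⟨c, hc⟩ := hm2
    have : (charDegree (ζ₂ : G → ℂ) : ℤ) = 2 * (2 * c) + 1 := by linarith
    exact (Int.odd_coe_nat _).mp ⟨2 * c, this⟩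
  have hodd3 : Odd (charDegree (ζ₃ : G → ℂ)) := by
    obtain ⟨c, hc⟩ := hm3
    rcases hε with rfl | rfl
    · have : (charDegree (ζ₃ : G → ℂ) : ℤ) = 2 * (2 * c) + 1 := by linarith
      exact (Int.odd_coe_nat _).mp ⟨2 * c, this⟩
    · have : (charDegree (ζ₃ : G → ℂ) : ℤ) = 2 * (2 * c - 1) + 1 := by linarith
      exact (Int.odd_coe_nat _).mp ⟨2 * c - 1, this⟩
  have hodd4 : Odd (charDegree (ζ₄ : G → ℂ)) := by
    obtain ⟨c, hc⟩ := hm4
    have : (charDegree (ζ₄ : G → ℂ) : ℤ) = 2 * (2 * c - 1) + 1 := by linarith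
    exact (Int.odd_coe_nat _).mp ⟨2 * c - 1, this⟩
  obtain ⟨h2', hd2⟩ := hdeg ζ₂ hζ₂ hodd2
  obtain ⟨h3', hd3⟩ := hdeg ζ₃ hζ₃ hodd3
  obtain ⟨h4', hd4⟩ := hdeg ζ₄ hζ₄ hodd4
  -- 3 ∈ {p, q}
  have h3pq : p = 3 ∨ q = 3 := by
    rcases (Nat.Prime.dvd_mul h3).mp h3g with h | h
    · exact Or.inl ((Nat.prime_dvd_prime_iff_eq h3 hp).mp (h3.dvd_of_dvd_pow h)).symm
    · exact Or.inr ((Nat.prime_dvd_prime_iff_eq h3 hq).mp (h3.dvd_of_dvd_pow h)).symm
  have hcases : a = 1 ∨ a = 2 := by omega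
  rcases h3pq with rfl | rfl
  · -- p = 3
    have hq5 : 5 ≤ q := by
      have := hq.two_le
      by_contra hlt
      have : q = 2 ∨ q = 3 ∨ q = 4 := by omega
      rcases this with rfl | rfl | rfl
      · exact hq2 rfl
      · exact hpq rfl
      · norm_num at hq
    rcases hcases with rfl | rfl
    · -- a = 1 : PART 2 with (2, q, 2, b)
      rcases part2 hna 2 q 2 b h2 hq (fun h => hq2 h.symm) le_rfl (by rw [hG]; ring) with h | ⟨⟨e⟩⟩
      · exact h
      · exfalso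
        have hc : Nat.card G = 168 := by
          rw [Nat.card_congr e.toEquiv]
          exact card_psl_seven
        rw [hG] at hc
        have h14 : q ^ b = 14 := by omega
        have h7 : q ∣ 14 := by
          rcases Nat.eq_zero_or_pos b with rfl | hb
          · simp at h14
          · rw [← h14]; exact dvd_pow_self q hb.ne'
        have hq7 : q = 7 := by
          have : q ∣ 2 * 7 := h7
          rcases (Nat.Prime.dvd_mul hq).mp this with h | h
          · exact absurd ((Nat.prime_dvd_prime_iff_eq hq h2).mp h) hq2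
          · exact (Nat.prime_dvd_prime_iff_eq hq (by norm_num)).mp h
        subst hq7
        rcases b with _ | _ | b
        · norm_num at h14
        · norm_num at h14
        · have : 49 ∣ 7 ^ (b + 1 + 1) := ⟨7 ^ b, by ring⟩
          rw [h14] at this
          norm_num at this
    · -- a = 2 : g₀ = 9 q^b
      exfalso
      haveI : Fact (Nat.Prime 3) := ⟨h3⟩
      have h9 : (3 : ℕ) ^ 2 * q ^ b = 9 * q ^ b := by norm_num
      rw [h9] at hd2 hd3 hd4 hk hform
      have hm : ¬ 3 ∣ 4 * q ^ b := by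
        intro h
        rcases (Nat.Prime.dvd_mul h3).mp h with h | h
        · norm_num at h
        · exact hpq ((Nat.prime_dvd_prime_iff_eq h3 hq).mp (h3.dvd_of_dvd_pow h))
      have hG2 : Nat.card G = (4 * q ^ b) * 3 ^ 2 := by rw [hG]; ring
      have hV : ∀ i : ℕ, (charDegree (ζ₂ : G → ℂ) = 3 ^ i ∨ charDegree (ζ₃ : G → ℂ) = 3 ^ i ∨
          charDegree (ζ₄ : G → ℂ) = 3 ^ i) → 3 ^ i = 9 := by
        intro i hi
        have h9' : (3 : ℕ) ^ 2 = 9 := by norm_num
        rw [← h9']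
        rcases hi with hi | hi | hi
        · exact pow_eq_of_degree hna 3 (4 * q ^ b) 2 le_rfl hG2 hm ζ₂ hζ₂ i hi
        · exact pow_eq_of_degree hna 3 (4 * q ^ b) 2 le_rfl hG2 hm ζ₃ hζ₃ i hi
        · exact pow_eq_of_degree hna 3 (4 * q ^ b) 2 le_rfl hG2 hm ζ₄ hζ₄ i hi
      have hpat := pattern_36 q b _ _ _ ε hq hq5 hε h2' h3' h4' hd2 hd3 hd4 hV hm2 hm3 hm4 hrel
      exact kill_36 q b _ _ _ k k' ε hpat hk hform
  · -- q = 3
    have hp3 : p ≠ 3 := hpq
    have hp5 : 5 ≤ p := by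
      have := hp.two_le
      by_contra hlt
      have : p = 2 ∨ p = 3 ∨ p = 4 := by omega
      rcases this with rfl | rfl | rfl
      · exact hp2 rfl
      · exact hp3 rfl
      · norm_num at hp
    rcases hcases with rfl | rfl
    · -- a = 1
      rw [pow_one] at hd2 hd3 hd4 hk hform
      by_cases hp7 : 7 ≤ p
      · exfalso
        have hG'' : Nat.card G = p * 3 ^ b * 4 := by rw [hG]; ring
        have h4 : 4 < p - 1 := by omega
        have hres := Cfsg.Agent.S0997.result (not_isCyclic hna) p 3 b 4 hp h3 hp3 hG'' h4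
        exact false_of_s0997 p b hp hp7 (by rw [hG]; ring) hres
      · have hp5' : p = 5 := by
          have : p = 5 ∨ p = 6 := by omega
          rcases this with rfl | rfl
          · rfl
          · norm_num at hp
        subst hp5'
        rcases pattern_20 b _ _ _ ε hε h2' h3' h4' hd2 hd3 hd4 hm2 hm3 hm4 hrel with
          ⟨-, -, hd3', -⟩ | hpat
        · haveI : Fact (Nat.Prime 3) := ⟨h3⟩
          let R : Sylow 3 G := default
          have hR1 := card_sylow_of_prime_degree hna 3 R ζ₃ hd3'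
          have hR2 := card_sylow_of_card 3 R 20 b (by rw [hG]; ring) (by norm_num)
          have hb : b = 1 := by
            have : (3 : ℕ) ^ b = 3 ^ 1 := by rw [← hR2, hR1]; norm_num
            exact Nat.pow_right_injective (show 2 ≤ 3 by norm_num) this
          subst hb
          exact Cfsg.Agent.S0494.result (by rw [hG]; norm_num)
        · exact absurd (kill_20 b _ _ _ k k' ε hpat hk hform) id
    · -- a = 2
      exfalso
      haveI : Fact p.Prime := ⟨hp⟩
      have hm : ¬ p ∣ 4 * 3 ^ b := by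
        intro h
        rcases (Nat.Prime.dvd_mul hp).mp h with h | h
        · have : p ∣ 2 ^ 2 := by simpa using h
          exact hp2 ((Nat.prime_dvd_prime_iff_eq hp h2).mp (hp.dvd_of_dvd_pow this))
        · exact hp3 ((Nat.prime_dvd_prime_iff_eq hp h3).mp (hp.dvd_of_dvd_pow h))
      have hG2 : Nat.card G = (4 * 3 ^ b) * p ^ 2 := by rw [hG]; ring
      have hV : ∀ i : ℕ, (charDegree (ζ₂ : G → ℂ) = p ^ i ∨ charDegree (ζ₃ : G → ℂ) = p ^ i ∨
          charDegree (ζ₄ : G → ℂ) = p ^ i) → p ^ i = p ^ 2 := by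
        intro i hi
        rcases hi with hi | hi | hi
        · exact pow_eq_of_degree hna p (4 * 3 ^ b) 2 le_rfl hG2 hm ζ₂ hζ₂ i hi
        · exact pow_eq_of_degree hna p (4 * 3 ^ b) 2 le_rfl hG2 hm ζ₃ hζ₃ i hi
        · exact pow_eq_of_degree hna p (4 * 3 ^ b) 2 le_rfl hG2 hm ζ₄ hζ₄ i hi
      have hpat := pattern_p2 p b _ _ _ ε hp hp5 hε h2' h3' h4' hd2 hd3 hd4 hV hm2 hm3 hm4 hrel
      exact kill_p2 p b _ _ _ k k' ε hp hp5 hpat hk hform

/-- **S4501** -/
theorem s4501 [IsSimpleGroup G] (hna : ∃ x y : G, x * y ≠ y * x) (p q a b : ℕ) (hp : p.Prime) (hq : q.Prime)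
    (hpq : p ≠ q) (ha : a ≤ 2) :
    (Nat.card G = 4 * p ^ a * q ^ b → Nonempty (G ≃* alternatingGroup (Fin 5))) ∧
      (Nat.card G = 3 * p ^ a * q ^ b → Nonempty (G ≃* alternatingGroup (Fin 5)) ∨
        Nonempty (G ≃* Matrix.ProjectiveSpecialLinearGroup (Fin 2) (ZMod 7))) :=
  ⟨part1 hna p q a b hp hq hpq ha, part2 hna p q a b hp hq hpq ha⟩

end Cfsg.Agent.Lib.Helper4.BQAsm
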