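/-
helper4: leaf BRC-INVGE of the Brauer-Reynolds core market (helper24, notes/S0999_leaves.lean).
-/
import Mathlib
import Cfsg.Prelude.Def_BlockRank
import Cfsg.Prelude.Def_Perm
import Cfsg.Agent.Lib.Helper24.BRCDefs

set_option autoImplicit false

namespace Cfsg.Agent.Lib.Helper4.BRCINVGE

open Cfsg Cfsg.Agent.Lib.Helper8.DOM Cfsg.Agent.Lib.Helper27.DO Cfsg.Agent.CharLib
open Cfsg.Agent.Lib.Helper6.BRH Cfsg.Agent.Lib.Helper24.BRC
open scoped ComplexConjugate

universe u

variable {G : Type u} [Group G] [Finite G] {p : ℕ} [Fact p.Prime]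

omit [Finite G] in
/-- two elements with `a⁻¹ b ∈ C(y)` conjugate `y` to the same element -/
theorem conj_eq_iff (y a b : G) :
    a * y * a⁻¹ = b * y * b⁻¹ ↔ a⁻¹ * b ∈ Subgroup.centralizer ({y} : Set G) := by
  rw [Subgroup.mem_centralizer_iff]
  constructor
  · intro h z hz
    rw [Set.mem_singleton_iff] at hz
    subst hz
    have : z * (a⁻¹ * b) = a⁻¹ * (a * z * a⁻¹) * b := by group
    rw [this, h]; group
  · intro h
    have h1 := h y (Set.mem_singleton y)
    have : b * y * b⁻¹ = a * ((a⁻¹ * b) * y) * b⁻¹ := by group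
    rw [this, ← h1]; group

/-- the map `g C(y) ↦ g y g⁻¹` into the involutions -/
noncomputable def conjMap (y : G) (hy : orderOf y = 2) :
    G ⧸ Subgroup.centralizer ({y} : Set G) → {g : G // orderOf g = 2} :=
  fun q => Quotient.liftOn' q
    (fun g => (⟨g * y * g⁻¹, by
      have : g * y * g⁻¹ = MulAut.conj g y := by simp [MulAut.conj_apply]
      rw [this, MulEquiv.orderOf_eq]; exact hy⟩ : {g : G // orderOf g = 2}))
    (by
      intro a b hab
      rw [QuotientGroup.leftRel_apply] at hab
      apply Subtype.ext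
      exact (conj_eq_iff y a b).mpr hab)

theorem conjMap_injective (y : G) (hy : orderOf y = 2) : Function.Injective (conjMap y hy) := by
  intro q q'
  induction q using Quotient.inductionOn' with | _ a => ?_
  induction q' using Quotient.inductionOn' with | _ b => ?_
  intro h
  have h1 : a * y * a⁻¹ = b * y * b⁻¹ := congrArg Subtype.val h
  exact Quotient.sound' ((QuotientGroup.leftRel_apply).mpr ((conj_eq_iff y a b).mp h1))

/-- **BRC-INVGE** (a).  The class of an involution consists of involutions. -/
theorem card_le_invol_mul (y : G) (hy : orderOf y = 2) :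
    Nat.card G ≤ Nat.card {g : G // orderOf g = 2} * Nat.card (Subgroup.centralizer ({y} : Set G)) := by
  have h1 : Nat.card (G ⧸ Subgroup.centralizer ({y} : Set G)) ≤ Nat.card {g : G // orderOf g = 2} :=
    Nat.card_le_card_of_injective _ (conjMap_injective y hy)
  rw [Subgroup.card_eq_card_quotient_mul_card_subgroup (Subgroup.centralizer ({y} : Set G))]
  exact Nat.mul_le_mul_right _ h1

/-- **BRC-INVGE** (b).  Equality: all involutions are conjugate. -/
theorem isConj_of_card_eq (y : G) (hy : orderOf y = 2)
    (h : Nat.card G = Nat.card {g : G // orderOf g = 2} * Nat.card (Subgroup.centralizer ({y} : Set G))) :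
    ∀ g : G, orderOf g = 2 → IsConj y g := by
  intro g hg
  have hCpos : 0 < Nat.card (Subgroup.centralizer ({y} : Set G)) := Nat.card_pos
  rw [Subgroup.card_eq_card_quotient_mul_card_subgroup (Subgroup.centralizer ({y} : Set G))] at h
  have h1 : Nat.card (G ⧸ Subgroup.centralizer ({y} : Set G)) = Nat.card {g : G // orderOf g = 2} :=
    Nat.eq_of_mul_eq_mul_right hCpos h
  have hbij : Function.Bijective (conjMap y hy) :=
    (Nat.bijective_iff_injective_and_card _).mpr ⟨conjMap_injective y hy, h1⟩
  obtain ⟨q, hq⟩ := hbij.2 ⟨g, hg⟩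
  induction q using Quotient.inductionOn' with | _ a => ?_
  have h2 : a * y * a⁻¹ = g := congrArg Subtype.val hq
  exact isConj_iff.mpr ⟨a, h2⟩

end Cfsg.Agent.Lib.Helper4.BRCINVGE
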