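/-
helper4: leaf BRP-PERF of the S4504 market (helper13, msg 8060 item 5).

`P ≤ G` of prime order `p`, `G = ⟨P^G⟩`, `|N_G(P) : C_G(P)| ≥ 2`  ⟹  `G' = G`.

Proof: if `G' ≠ G` then `P ⊄ G'` (else `⟨P^G⟩ ≤ G'`), so `P ∩ G' = 1` (`|P|` prime); for
`n ∈ N_G(P)`, `x ∈ P` the commutator `[n, x]` lies in `P ∩ G' = 1`, so `N_G(P) ≤ C_G(P)`,
against `hf2`.  (The Sylow hypothesis `hSyl` is not needed.)
-/
import Mathlib
import Cfsg.Agent.Lib.Helper27.DODefs

set_option autoImplicit false

namespace Cfsg.Agent.Lib.Helper4.BRPPERF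

open Cfsg Cfsg.Agent.Lib.Helper8.DOM Cfsg.Agent.Lib.Helper27.DO
open scoped commutatorElement

universe u

theorem commutator_eq_top_of_normalClosure {p : ℕ} [Fact p.Prime] {G : Type u} [Group G] [Finite G]
    (P : Subgroup G) (hP : Nat.card P = p) (hSyl : ¬ p ∣ P.index)
    (hcl : Subgroup.normalClosure (P : Set G) = ⊤) (hf2 : 2 ≤ (Cz P).relIndex (Nz P)) :
    commutator G = ⊤ := by
  by_contra hne
  -- `P ⊄ G'`
  have hPn : ¬ P ≤ commutator G := by
    intro hle
    apply hne
    have h1 : Subgroup.normalClosure (P : Set G) ≤ commutator G :=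
      Subgroup.normalClosure_le_normal hle
    rw [hcl] at h1
    exact top_le_iff.mp h1
  -- `P ∩ G' = 1`
  have hprime : Fact (Nat.card P).Prime := ⟨by rw [hP]; exact Fact.out⟩
  have hbot : (commutator G).subgroupOf P = ⊥ := by
    rcases Subgroup.eq_bot_or_eq_top_of_prime_card ((commutator G).subgroupOf P) with h | h
    · exact h
    · exact absurd (Subgroup.subgroupOf_eq_top.mp h) hPn
  -- `N ≤ C`
  have hNC : Nz P ≤ Cz P := by
    intro n hn
    rw [Subgroup.mem_centralizer_iff]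
    intro x hx
    have hx' : x ∈ P := hx
    have h1 : n * x * n⁻¹ ∈ P := (Subgroup.mem_normalizer_iff.mp hn x).mp hx'
    have h2 : ⁅n, x⁆ ∈ P := by
      rw [commutatorElement_def]
      exact P.mul_mem h1 (P.inv_mem hx')
    have h3 : ⁅n, x⁆ ∈ commutator G := by
      rw [commutator_def]
      exact Subgroup.commutator_mem_commutator (Subgroup.mem_top n) (Subgroup.mem_top x)
    have h4 : (⟨⁅n, x⁆, h2⟩ : P) ∈ (commutator G).subgroupOf P := by
      rw [Subgroup.mem_subgroupOf]
      exact h3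
    rw [hbot, Subgroup.mem_bot] at h4
    have h5 : ⁅n, x⁆ = 1 := by
      have := congrArg (Subtype.val) h4
      simpa using this
    exact (commutatorElement_eq_one_iff_mul_comm.mp h5).symm
  have h1 : (Cz P).relIndex (Nz P) = 1 := Subgroup.relIndex_eq_one.mpr hNC
  omega

end Cfsg.Agent.Lib.Helper4.BRPPERF
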