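import Mathlib
import Cfsg.Prelude.Def_CaseTheorems
import Cfsg.Agent.S0514
import Cfsg.Agent.S0107
import Cfsg.Agent.Lib.Helper1.Fitting
import Cfsg.Agent.Lib.Helper12.Cores
import Cfsg.Agent.Lib.Helper12.Residual
import Cfsg.Agent.Lib.Helper2.IndexTwo
import Cfsg.Agent.Lib.Helper2.KleinSylow
import Cfsg.Agent.Lib.Helper4.Klein1

/-! S0508 glue (helper4), part A: from the hypotheses of S0508 (dihedral Sylow 2-subgroup, the core `O` of
the centralizer of a central involution) to the hypotheses of the abstract Brauer–Suzuki–Wall theorem S3282. -/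

set_option autoImplicit false
set_option linter.unusedSectionVars false
set_option linter.style.haveILetI false
set_option linter.unusedVariables false

namespace Cfsg.Agent.Lib.Helper4.BSWGlue

universe u

open scoped Pointwise

/-! ### dihedral groups: cyclic subgroups of index two -/

/-- in a cyclic subgroup, two non-identity elements of square one are equal -/
theorem eq_of_sq_of_isCyclic {X : Type*} [Group X] [Finite X] (A : Subgroup X) (hA : IsCyclic A)
    {x y : X} (hx : x ∈ A) (hy : y ∈ A) (hx2 : x * x = 1) (hy2 : y * y = 1) (hx1 : x ≠ 1)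
    (hy1 : y ≠ 1) : x = y := by
  classical
  by_contra hne
  haveI : Fintype A := Fintype.ofFinite _
  have h1 := IsCyclic.card_pow_eq_one_le (α := A) (n := 2) (by norm_num)
  have h2 : ({1, ⟨x, hx⟩, ⟨y, hy⟩} : Finset A) ⊆ Finset.univ.filter (fun a : A => a ^ 2 = 1) := by
    intro a ha
    simp only [Finset.mem_insert, Finset.mem_singleton] at ha
    simp only [Finset.mem_filter, Finset.mem_univ, true_and]
    rcases ha with rfl | rfl | rfl
    · simp
    · exact Subtype.ext (by simpa [pow_two] using hx2)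
    · exact Subtype.ext (by simpa [pow_two] using hy2)
  have h3 : ({1, ⟨x, hx⟩, ⟨y, hy⟩} : Finset A).card = 3 := by
    rw [Finset.card_eq_three]
    refine ⟨1, ⟨x, hx⟩, ⟨y, hy⟩, ?_, ?_, ?_, rfl⟩
    · intro e; exact hx1 (congrArg Subtype.val e).symm
    · intro e; exact hy1 (congrArg Subtype.val e).symm
    · intro e; exact hne (congrArg Subtype.val e)
  have h4 := Finset.card_le_card h2
  omega

theorem dihedral_two_all : ∀ x a : DihedralGroup 2, x * x = 1 ∧ x * a * x⁻¹ = a⁻¹ := by
  decide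

/-- elements outside a cyclic subgroup of index two of a dihedral group are involutions inverting it -/
theorem dihedral_inverts (n : ℕ) (hn : 2 ≤ n) (A : Subgroup (DihedralGroup n)) (hA : IsCyclic A)
    (hidx : A.index = 2) :
    ∀ x : DihedralGroup n, x ∉ A → x * x = 1 ∧ ∀ a ∈ A, x * a * x⁻¹ = a⁻¹ := by
  haveI : NeZero n := ⟨by omega⟩
  rcases Nat.lt_or_ge n 3 with h3 | h3
  · obtain rfl : n = 2 := by omega
    intro x _
    exact ⟨(dihedral_two_all x 1).1, fun a _ => (dihedral_two_all x a).2⟩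
  · have hcard : Nat.card A = n := by
      have h1 := A.card_mul_index
      rw [hidx, DihedralGroup.nat_card] at h1
      omega
    obtain ⟨g, hg⟩ := hA.exists_generator
    have hord : orderOf g = n := by
      rw [orderOf_eq_card_of_forall_mem_zpowers hg, hcard]
    have hord' : orderOf (g : DihedralGroup n) = n := by
      rw [Subgroup.orderOf_coe, hord]
    -- the generator is a rotation
    obtain ⟨i, hi⟩ : ∃ i, (g : DihedralGroup n) = DihedralGroup.r i := by
      cases hgv : (g : DihedralGroup n) with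
      | r i => exact ⟨i, rfl⟩
      | sr i =>
        exfalso
        rw [hgv, DihedralGroup.orderOf_sr] at hord'
        omega
    have hArot : ∀ a ∈ A, ∃ j, a = DihedralGroup.r j := by
      intro a ha
      obtain ⟨k, hk⟩ := Subgroup.mem_zpowers_iff.mp (hg ⟨a, ha⟩)
      have h1 := congrArg Subtype.val hk
      rw [Subgroup.coe_zpow, hi, DihedralGroup.r_zpow] at h1
      exact ⟨_, h1.symm⟩
    have hAall : ∀ j, DihedralGroup.r j ∈ A := by
      have hsub : (A : Set (DihedralGroup n)) ⊆ Set.range (DihedralGroup.r : ZMod n → _) := by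
        intro a ha
        obtain ⟨j, hj⟩ := hArot a ha
        exact ⟨j, hj.symm⟩
      have hinj : Function.Injective (DihedralGroup.r : ZMod n → DihedralGroup n) := by
        intro a b e
        exact DihedralGroup.r.inj e
      have hle : (Set.range (DihedralGroup.r : ZMod n → DihedralGroup n)).ncard ≤
          (A : Set (DihedralGroup n)).ncard := by
        rw [Set.ncard_range_of_injective hinj, Nat.card_zmod]
        have : (A : Set (DihedralGroup n)).ncard = Nat.card A := rfl
        rw [this, hcard]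
      have heq := Set.eq_of_subset_of_ncard_le hsub hle (Set.toFinite _)
      intro j
      have : DihedralGroup.r j ∈ (A : Set (DihedralGroup n)) := by
        rw [heq]
        exact ⟨j, rfl⟩
      exact this
    intro x hx
    cases x with
    | r j => exact absurd (hAall j) hx
    | sr j =>
      refine ⟨DihedralGroup.sr_mul_self j, ?_⟩
      intro a ha
      obtain ⟨k, rfl⟩ := hArot a ha
      rw [DihedralGroup.inv_sr, DihedralGroup.sr_mul_r, DihedralGroup.sr_mul_sr, DihedralGroup.inv_r]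
      congr 1
      ring

/-- a central involution of a dihedral group lies in a cyclic subgroup of index two -/
theorem dihedral_exists_cyclic (n : ℕ) (hn : 2 ≤ n) (z : DihedralGroup n) (hz : orderOf z = 2)
    (hzc : ∀ g : DihedralGroup n, g * z = z * g) :
    ∃ A : Subgroup (DihedralGroup n), IsCyclic A ∧ A.index = 2 ∧ z ∈ A := by
  haveI : NeZero n := ⟨by omega⟩
  rcases Nat.lt_or_ge n 3 with h3 | h3
  · obtain rfl : n = 2 := by omega
    refine ⟨Subgroup.zpowers z, inferInstance, ?_, Subgroup.mem_zpowers z⟩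
    have h1 := (Subgroup.zpowers z).card_mul_index
    rw [Nat.card_zpowers, hz, DihedralGroup.nat_card] at h1
    omega
  · refine ⟨Subgroup.zpowers (DihedralGroup.r 1), inferInstance, ?_, ?_⟩
    · have h1 := (Subgroup.zpowers (DihedralGroup.r (1 : ZMod n))).card_mul_index
      rw [Nat.card_zpowers, DihedralGroup.orderOf_r_one, DihedralGroup.nat_card] at h1
      have hpos : 0 < n := by omega
      have : n * (Subgroup.zpowers (DihedralGroup.r (1 : ZMod n))).index = n * 2 := by
        rw [h1]; ring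
      exact Nat.eq_of_mul_eq_mul_left hpos this
    · cases z with
      | r i =>
        rw [Subgroup.mem_zpowers_iff]
        refine ⟨(i.val : ℤ), ?_⟩
        rw [DihedralGroup.r_one_zpow]
        congr 1
        simp
      | sr i =>
        exfalso
        have h1 := hzc (DihedralGroup.r 1)
        rw [DihedralGroup.r_mul_sr, DihedralGroup.sr_mul_r] at h1
        have h2 : i - 1 = i + 1 := DihedralGroup.sr.inj h1
        have h4 : (2 : ZMod n) = 0 := by
          have : (i + 1) - (i - 1) = 0 := by rw [h2]; ring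
          have h5 : (i + 1) - (i - 1) = (2 : ZMod n) := by ring
          rw [← h5, this]
        have h6 : ((2 : ℕ) : ZMod n) = 0 := by exact_mod_cast h4
        rw [ZMod.natCast_eq_zero_iff] at h6
        have := Nat.le_of_dvd (by norm_num) h6
        omega

/-- transfer of `dihedral_inverts` along an isomorphism -/
theorem dihedral_inverts' {D : Type*} [Group D] (n : ℕ) (hn : 2 ≤ n) (e : D ≃* DihedralGroup n)
    (A : Subgroup D) (hA : IsCyclic A) (hidx : A.index = 2) :
    ∀ x : D, x ∉ A → x * x = 1 ∧ ∀ a ∈ A, x * a * x⁻¹ = a⁻¹ := by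
  set A' : Subgroup (DihedralGroup n) := A.map (e : D →* DihedralGroup n) with hA'
  have hA'c : IsCyclic A' := by
    exact isCyclic_of_surjective _ (MonoidHom.subgroupMap_surjective (e : D →* DihedralGroup n) A)
  have hidx' : A'.index = 2 := by rw [hA', Subgroup.index_map_equiv, hidx]
  intro x hx
  have hx' : e x ∉ A' := by
    rintro ⟨y, hy, hyx⟩
    have : y = x := e.injective hyx
    exact hx (this ▸ hy)
  obtain ⟨h1, h2⟩ := dihedral_inverts n hn A' hA'c hidx' (e x) hx'
  refine ⟨?_, ?_⟩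
  · apply e.injective
    rw [map_mul, map_one, h1]
  · intro a ha
    apply e.injective
    rw [map_mul, map_mul, map_inv, map_inv]
    exact h2 (e a) ⟨a, ha, rfl⟩

/-- transfer of `dihedral_exists_cyclic` along an isomorphism -/
theorem dihedral_exists_cyclic' {D : Type*} [Group D] (n : ℕ) (hn : 2 ≤ n)
    (e : D ≃* DihedralGroup n) (z : D) (hz : orderOf z = 2) (hzc : ∀ g : D, g * z = z * g) :
    ∃ A : Subgroup D, IsCyclic A ∧ A.index = 2 ∧ z ∈ A := by
  have hz' : orderOf (e z) = 2 := by rw [MulEquiv.orderOf_eq, hz]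
  have hzc' : ∀ g : DihedralGroup n, g * e z = e z * g := by
    intro g
    obtain ⟨g', rfl⟩ := e.surjective g
    rw [← map_mul, ← map_mul, hzc g']
  obtain ⟨A', hA'c, hA'i, hzA'⟩ := dihedral_exists_cyclic n hn (e z) hz' hzc'
  refine ⟨A'.map (e.symm : DihedralGroup n →* D), ?_, ?_, ?_⟩
  · exact isCyclic_of_surjective _
      (MonoidHom.subgroupMap_surjective (e.symm : DihedralGroup n →* D) A')
  · rw [Subgroup.index_map_equiv, hA'i]
  · exact ⟨e z, hzA', by simp⟩

/-! ### the setup and the hypotheses of S3282 -/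

section setup

variable {G : Type u} [Group G] [Finite G]

/-- the data extracted from the hypotheses of S0508 -/
structure Setup (t : G) (S O S₀ : Subgroup G) : Prop where
  ht : orderOf t = 2
  hSC : S ≤ Subgroup.centralizer ({t} : Set G)
  hOC : O ≤ Subgroup.centralizer ({t} : Set G)
  hOn : Subgroup.centralizer ({t} : Set G) ≤ Subgroup.normalizer (O : Set G)
  hOS : O ⊔ S = Subgroup.centralizer ({t} : Set G)
  hOodd : Odd (Nat.card O)
  hS2 : IsPGroup 2 S
  hall : ∀ y ∈ Subgroup.centralizer ({t} : Set G), Odd (orderOf y) → y ∈ O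
  hS₀ : S₀ ≤ S
  hcyc : IsCyclic S₀
  hidx : S₀.relIndex S = 2
  htS₀ : t ∈ S₀
  hcent : S₀ ≤ Subgroup.centralizer (O : Set G)
  hinvO : ∀ s ∈ S, s ∉ S₀ → ∀ y ∈ O, s * y * s⁻¹ = y⁻¹
  hinvS : ∀ s ∈ S, s ∉ S₀ → s * s = 1 ∧ ∀ a ∈ S₀, s * a * s⁻¹ = a⁻¹
  hc : ∀ Y : Subgroup G, Y ≤ O → Y ≠ ⊥ →
    Subgroup.normalizer (Y : Set G) ≤ Subgroup.centralizer ({t} : Set G)

namespace Setup

variable {t : G} {S O S₀ : Subgroup G} (h : Setup t S O S₀)
include h

theorem exists_s : ∃ s ∈ S, s ∉ S₀ := by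
  by_contra hcon
  push Not at hcon
  have h1 : S ≤ S₀ := hcon
  have h2 := Subgroup.relIndex_eq_one.mpr h1
  rw [h.hidx] at h2
  omega

theorem O_comm {y z : G} (hy : y ∈ O) (hz : z ∈ O) : y * z = z * y := by
  obtain ⟨s, hs, hs0⟩ := h.exists_s
  have h1 := h.hinvO s hs hs0 y hy
  have h2 := h.hinvO s hs hs0 z hz
  have h3 := h.hinvO s hs hs0 (y * z) (O.mul_mem hy hz)
  have h4 : y⁻¹ * z⁻¹ = z⁻¹ * y⁻¹ := by
    calc y⁻¹ * z⁻¹ = (s * y * s⁻¹) * (s * z * s⁻¹) := by rw [h1, h2]
      _ = s * (y * z) * s⁻¹ := by group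
      _ = (y * z)⁻¹ := h3
      _ = z⁻¹ * y⁻¹ := by group
  calc y * z = (z⁻¹ * y⁻¹)⁻¹ := by group
    _ = (y⁻¹ * z⁻¹)⁻¹ := by rw [h4]
    _ = z * y := by group

theorem S₀_comm {y z : G} (hy : y ∈ S₀) (hz : z ∈ S₀) : y * z = z * y := by
  haveI := h.hcyc
  have := isMulCommutative_iff.mp (IsCyclic.isMulCommutative (α := S₀)) ⟨y, hy⟩ ⟨z, hz⟩
  exact congrArg Subtype.val this

theorem OS₀_comm {o z : G} (ho : o ∈ O) (hz : z ∈ S₀) : o * z = z * o :=
  Subgroup.mem_centralizer_iff.mp (h.hcent hz) o ho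

theorem S₀_le_C : S₀ ≤ Subgroup.centralizer ({t} : Set G) := h.hS₀.trans h.hSC

theorem K_le_C : O ⊔ S₀ ≤ Subgroup.centralizer ({t} : Set G) := sup_le h.hOC h.S₀_le_C

theorem mem_K {x : G} (hx : x ∈ O ⊔ S₀) : ∃ o ∈ O, ∃ z ∈ S₀, x = o * z := by
  have h1 : x ∈ ((O ⊔ S₀ : Subgroup G) : Set G) := hx
  rw [Subgroup.coe_mul_of_right_le_normalizer_left O S₀ (h.S₀_le_C.trans h.hOn)] at h1
  obtain ⟨o, ho, z, hz, e⟩ := Set.mem_mul.mp h1
  exact ⟨o, ho, z, hz, e.symm⟩

theorem K_comm {x y : G} (hx : x ∈ O ⊔ S₀) (hy : y ∈ O ⊔ S₀) : x * y = y * x := by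
  obtain ⟨o, ho, z, hz, rfl⟩ := h.mem_K hx
  obtain ⟨o', ho', z', hz', rfl⟩ := h.mem_K hy
  have e1 := h.OS₀_comm ho' hz
  have e2 := h.OS₀_comm ho hz'
  have e3 := h.O_comm ho ho'
  have e4 := h.S₀_comm hz hz'
  calc o * z * (o' * z') = o * (z * o') * z' := by group
    _ = o * (o' * z) * z' := by rw [e1]
    _ = (o * o') * (z * z') := by group
    _ = (o' * o) * (z' * z) := by rw [e3, e4]
    _ = o' * (o * z') * z := by group
    _ = o' * (z' * o) * z := by rw [e2]
    _ = o' * z' * (o * z) := by group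

theorem s_inverts {s : G} (hs : s ∈ S) (hs0 : s ∉ S₀) {x : G} (hx : x ∈ O ⊔ S₀) :
    s * x * s⁻¹ = x⁻¹ := by
  obtain ⟨o, ho, z, hz, rfl⟩ := h.mem_K hx
  have h1 := h.hinvO s hs hs0 o ho
  have h2 := (h.hinvS s hs hs0).2 z hz
  have e1 := h.OS₀_comm ho hz
  calc s * (o * z) * s⁻¹ = (s * o * s⁻¹) * (s * z * s⁻¹) := by group
    _ = o⁻¹ * z⁻¹ := by rw [h1, h2]
    _ = (z * o)⁻¹ := by group
    _ = (o * z)⁻¹ := by rw [e1]

theorem t_ne_one : t ≠ 1 := by
  intro e
  have := h.ht
  rw [e, orderOf_one] at this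
  omega

theorem t_sq : t * t = 1 := by
  have := pow_orderOf_eq_one t
  rw [h.ht, pow_two] at this
  exact this

/-- `O ∩ S = 1` -/
theorem eq_one_of_mem_O_of_mem_S {y : G} (hyO : y ∈ O) (hyS : y ∈ S) : y = 1 := by
  obtain ⟨k, hk⟩ := h.hS2 ⟨y, hyS⟩
  have hk' : y ^ 2 ^ k = 1 := by
    have := congrArg Subtype.val hk
    simpa using this
  have h1 : orderOf y ∣ 2 ^ k := orderOf_dvd_of_pow_eq_one hk'
  have h2 : orderOf y ∣ Nat.card O := by
    have := orderOf_dvd_natCard (⟨y, hyO⟩ : O)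
    rwa [Subgroup.orderOf_mk] at this
  have h3 : Nat.Coprime (Nat.card O) (2 ^ k) := (Nat.Coprime.pow_right k h.hOodd.coprime_two_right)
  have h4 : orderOf y ∣ 1 := by
    rw [← h3.gcd_eq_one]
    exact Nat.dvd_gcd h2 h1
  exact orderOf_eq_one_iff.mp (Nat.dvd_one.mp h4)

/-- elements of `O` of square one are trivial -/
theorem eq_one_of_mem_O_of_sq {o : G} (ho : o ∈ O) (h2 : o * o = 1) : o = 1 := by
  have h1 : orderOf o ∣ 2 := orderOf_dvd_of_pow_eq_one (by rw [pow_two]; exact h2)
  have h3 : orderOf o ∣ Nat.card O := by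
    have := orderOf_dvd_natCard (⟨o, ho⟩ : O)
    rwa [Subgroup.orderOf_mk] at this
  have h4 : orderOf o ∣ 1 := by
    rw [← h.hOodd.coprime_two_right.gcd_eq_one]
    exact Nat.dvd_gcd h3 h1
  exact orderOf_eq_one_iff.mp (Nat.dvd_one.mp h4)

/-- the only involution of `K` is `t` -/
theorem eq_one_or_eq_t {x : G} (hx : x ∈ O ⊔ S₀) (hx2 : x * x = 1) : x = 1 ∨ x = t := by
  obtain ⟨o, ho, z, hz, rfl⟩ := h.mem_K hx
  have e1 := h.OS₀_comm ho hz
  have h1 : (o * o) * (z * z) = 1 := by
    calc (o * o) * (z * z) = o * (o * z) * z := by group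
      _ = o * (z * o) * z := by rw [e1]
      _ = (o * z) * (o * z) := by group
      _ = 1 := hx2
  have h2 : o * o = (z * z)⁻¹ := eq_inv_of_mul_eq_one_left h1
  have h3 : o * o = 1 := by
    apply h.eq_one_of_mem_O_of_mem_S (O.mul_mem ho ho)
    rw [h2]
    exact S.inv_mem (S.mul_mem (h.hS₀ hz) (h.hS₀ hz))
  have ho1 : o = 1 := h.eq_one_of_mem_O_of_sq ho h3
  rw [ho1, one_mul] at hx2 ⊢
  by_cases hz1 : z = 1
  · left; exact hz1
  · right
    exact eq_of_sq_of_isCyclic S₀ h.hcyc hz h.htS₀ hx2 h.t_sq hz1 h.t_ne_one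

theorem t_mem_K : t ∈ O ⊔ S₀ := (le_sup_right : S₀ ≤ O ⊔ S₀) h.htS₀

theorem inf_centralizer {s : G} (hs : s ∈ S) (hs0 : s ∉ S₀) :
    (O ⊔ S₀) ⊓ Subgroup.centralizer ({s} : Set G) = Subgroup.zpowers t := by
  apply le_antisymm
  · rintro x ⟨hxK, hxs⟩
    have h1 := h.s_inverts hs hs0 hxK
    have h2 : x * s = s * x := (Subgroup.mem_centralizer_singleton_iff.mp hxs)
    have h3 : x * x = 1 := by
      have : x = x⁻¹ := by
        calc x = x * s * s⁻¹ := by group
          _ = s * x * s⁻¹ := by rw [h2]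
          _ = x⁻¹ := h1
      calc x * x = x * x⁻¹ := by rw [← this]
        _ = 1 := mul_inv_cancel x
    rcases h.eq_one_or_eq_t hxK h3 with e | e
    · rw [e]; exact Subgroup.one_mem _
    · rw [e]; exact Subgroup.mem_zpowers t
  · rw [Subgroup.zpowers_le]
    refine ⟨h.t_mem_K, ?_⟩
    have h5 : t ∈ Subgroup.centralizer ({s} : Set G) := by
      rw [Subgroup.mem_centralizer_singleton_iff]
      have := h.hSC hs
      rw [Subgroup.mem_centralizer_singleton_iff] at this
      exact this.symm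
    exact h5

theorem s_not_mem {s : G} (hs : s ∈ S) (hs0 : s ∉ S₀) : s ∉ O ⊔ S₀ := by
  intro hsK
  have h1 : s ∈ (O ⊔ S₀) ⊓ Subgroup.centralizer ({s} : Set G) :=
    ⟨hsK, Subgroup.mem_centralizer_singleton_iff.mpr rfl⟩
  rw [h.inf_centralizer hs hs0] at h1
  exact hs0 ((Subgroup.zpowers_le.mpr h.htS₀) h1)

theorem orderOf_s {s : G} (hs : s ∈ S) (hs0 : s ∉ S₀) : orderOf s = 2 := by
  have h1 := (h.hinvS s hs hs0).1
  have h2 : s ≠ 1 := by
    intro e
    apply hs0
    rw [e]
    exact S₀.one_mem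
  exact orderOf_eq_prime (by rw [pow_two]; exact h1) h2

theorem S₀_sup_s {s : G} (hs : s ∈ S) (hs0 : s ∉ S₀) : S₀ ⊔ Subgroup.zpowers s = S := by
  apply le_antisymm (sup_le h.hS₀ (Subgroup.zpowers_le.mpr hs))
  intro x hx
  by_cases hx0 : x ∈ S₀
  · exact (le_sup_left : S₀ ≤ _) hx0
  · have hidx : (S₀.subgroupOf S).index = 2 := h.hidx
    have h1 := Subgroup.mul_mem_iff_of_index_two hidx (a := (⟨x, hx⟩ : S)) (b := ⟨s, hs⟩)
    have h2 : (⟨x, hx⟩ : S) * ⟨s, hs⟩ ∈ S₀.subgroupOf S := by
      rw [h1]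
      simp only [Subgroup.mem_subgroupOf]
      exact ⟨fun e => absurd e hx0, fun e => absurd e hs0⟩
    have h3 : x * s ∈ S₀ := by simpa [Subgroup.mem_subgroupOf] using h2
    have : x = (x * s) * s⁻¹ := by group
    rw [this]
    exact Subgroup.mul_mem _ ((le_sup_left : S₀ ≤ _) h3)
      (Subgroup.inv_mem _ ((le_sup_right : Subgroup.zpowers s ≤ _) (Subgroup.mem_zpowers s)))

theorem K_sup_s {s : G} (hs : s ∈ S) (hs0 : s ∉ S₀) :
    (O ⊔ S₀) ⊔ Subgroup.zpowers s = Subgroup.centralizer ({t} : Set G) := by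
  rw [sup_assoc, h.S₀_sup_s hs hs0, h.hOS]

theorem odd_orderOf_of_mem_O {o : G} (ho : o ∈ O) : Odd (orderOf o) := by
  have h3 : orderOf o ∣ Nat.card O := by
    have := orderOf_dvd_natCard (⟨o, ho⟩ : O)
    rwa [Subgroup.orderOf_mk] at this
  exact h.hOodd.of_dvd_nat h3

omit h in
theorem conj_eq_of_comm {c x : G} (hcx : c * x = x * c) (i : ℤ) : c * x ^ i * c⁻¹ = x ^ i := by
  have h1 : Commute c (x ^ i) := (Commute.zpow_right hcx i)
  calc c * x ^ i * c⁻¹ = x ^ i * c * c⁻¹ := by rw [h1.eq]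
    _ = x ^ i := by group

theorem TI {g : G} (hg : g ∉ Subgroup.centralizer ({t} : Set G)) :
    (O ⊔ S₀) ⊓ (O ⊔ S₀).map (MulAut.conj g).toMonoidHom = ⊥ := by
  rw [eq_bot_iff]
  rintro x ⟨hxK, hxg⟩
  rw [Subgroup.mem_bot]
  by_contra hx1
  obtain ⟨k, hkK, hkx⟩ := hxg
  have hkx' : g * k * g⁻¹ = x := by simpa using hkx
  have hpos : 0 < orderOf x := orderOf_pos x
  by_cases heven : 2 ∣ orderOf x
  · obtain ⟨m, hm⟩ := heven
    have hm0 : 0 < m := by omega
    have hy2 : x ^ m * x ^ m = 1 := by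
      rw [← pow_add, ← two_mul, ← hm, pow_orderOf_eq_one]
    have hy1 : x ^ m ≠ 1 := pow_ne_one_of_lt_orderOf (by omega) (by omega)
    have hyK : x ^ m ∈ O ⊔ S₀ := Subgroup.pow_mem _ hxK m
    have hy'K : k ^ m ∈ O ⊔ S₀ := Subgroup.pow_mem _ hkK m
    have hconj : g * k ^ m * g⁻¹ = x ^ m := by
      rw [← hkx', conj_pow]
    have hy'2 : k ^ m * k ^ m = 1 := by
      have : g * (k ^ m * k ^ m) * g⁻¹ = 1 := by
        calc g * (k ^ m * k ^ m) * g⁻¹ = (g * k ^ m * g⁻¹) * (g * k ^ m * g⁻¹) := by group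
          _ = 1 := by rw [hconj, hy2]
      calc k ^ m * k ^ m = g⁻¹ * (g * (k ^ m * k ^ m) * g⁻¹) * g := by group
        _ = 1 := by rw [this]; group
    have hy'1 : k ^ m ≠ 1 := by
      intro e
      apply hy1
      rw [← hconj, e]
      group
    have e1 : x ^ m = t := (h.eq_one_or_eq_t hyK hy2).resolve_left hy1
    have e2 : k ^ m = t := (h.eq_one_or_eq_t hy'K hy'2).resolve_left hy'1
    apply hg
    rw [Subgroup.mem_centralizer_singleton_iff]
    rw [e1, e2] at hconj
    calc g * t = g * t * g⁻¹ * g := by group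
      _ = t * g := by rw [hconj]
  · have hodd : Odd (orderOf x) := Nat.odd_iff.mpr (by omega)
    have hxO : x ∈ O := h.hall x (h.K_le_C hxK) hodd
    have hkord : orderOf k = orderOf x := by
      rw [← hkx']
      have := (MulAut.conj g).orderOf_eq k
      simpa using this.symm
    have hkO : k ∈ O := h.hall k (h.K_le_C hkK) (hkord ▸ hodd)
    have hY : Subgroup.zpowers x ≤ O := Subgroup.zpowers_le.mpr hxO
    have hYne : Subgroup.zpowers x ≠ ⊥ := by
      intro e
      exact hx1 (Subgroup.zpowers_eq_bot.mp e)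
    have hNY := h.hc _ hY hYne
    have hOne : O ≠ ⊥ := by
      intro e
      rw [e] at hxO
      exact hx1 (Subgroup.mem_bot.mp hxO)
    have hgN : g ∈ Subgroup.normalizer (O : Set G) := by
      apply Subgroup.mem_normalizer_fintype
      intro o ho
      have hcomm : (g * o * g⁻¹) * x = x * (g * o * g⁻¹) := by
        have e3 := h.O_comm ho hkO
        rw [← hkx']
        calc g * o * g⁻¹ * (g * k * g⁻¹) = g * (o * k) * g⁻¹ := by group
          _ = g * (k * o) * g⁻¹ := by rw [e3]
          _ = g * k * g⁻¹ * (g * o * g⁻¹) := by group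
      have hmemN : g * o * g⁻¹ ∈ Subgroup.normalizer ((Subgroup.zpowers x : Subgroup G) : Set G) := by
        apply Subgroup.mem_normalizer_fintype
        intro n hn
        obtain ⟨i, rfl⟩ := Subgroup.mem_zpowers_iff.mp hn
        rw [conj_eq_of_comm hcomm i]
        exact hn
      have hmemC := hNY hmemN
      have hord : orderOf (g * o * g⁻¹) = orderOf o := by
        have := (MulAut.conj g).orderOf_eq o
        simpa using this
      exact h.hall _ hmemC (hord ▸ h.odd_orderOf_of_mem_O ho)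
    exact hg (h.hc O le_rfl hOne hgN)

end Setup

end setup

/-! ### building the setup from the hypotheses of S0508 -/

section build

variable {G : Type u} [Group G] [Finite G]

/-- the structure of the centralizer of the involution, from S0514 -/
theorem centralizer_struct (S : Sylow 2 G) (n : ℕ) (hn : 2 ≤ n)
    (hS : Nonempty ((S : Subgroup G) ≃* DihedralGroup n)) (t : G) (ht : orderOf t = 2)
    (htZ : ∀ s ∈ (S : Subgroup G), s * t = t * s) (O : Subgroup G)
    (hO : O = (Cfsg.oddCore (Subgroup.centralizer ({t} : Set G))).map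
      (Subgroup.centralizer ({t} : Set G)).subtype) :
    (S : Subgroup G) ≤ Subgroup.centralizer ({t} : Set G) ∧
    O ≤ Subgroup.centralizer ({t} : Set G) ∧
    Subgroup.centralizer ({t} : Set G) ≤ Subgroup.normalizer (O : Set G) ∧
    O ⊔ S = Subgroup.centralizer ({t} : Set G) ∧ Odd (Nat.card O) ∧
    (∀ y ∈ Subgroup.centralizer ({t} : Set G), Odd (orderOf y) → y ∈ O) := by
  haveI : Fact (Nat.Prime 2) := ⟨Nat.prime_two⟩
  set C := Subgroup.centralizer ({t} : Set G) with hC
  set Oc : Subgroup ↥C := Cfsg.oddCore ↥C with hOc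
  have hSC : (S : Subgroup G) ≤ C := by
    intro s hs
    rw [hC, Subgroup.mem_centralizer_singleton_iff]
    exact htZ s hs
  haveI hOcn : Oc.Normal := Cfsg.Agent.Lib.Helper1.pPrimeCore_normal 2 ↥C
  have hOcop : (Nat.card Oc).Coprime 2 := Cfsg.Agent.Lib.Helper12.pPrimeCore_coprime 2
  obtain ⟨N, hNn, hNodd, k, hk⟩ := Cfsg.Agent.S0514.result S n hn hS t ht
  have hN_le : N ≤ Oc :=
    Cfsg.Agent.Lib.Helper12.le_pPrimeCore 2 N hNn hNodd.coprime_two_right
  have hidx : Oc.index ∣ 2 ^ k := hk ▸ Subgroup.index_dvd_of_le hN_le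
  obtain ⟨j, -, hj⟩ := (Nat.dvd_prime_pow Nat.prime_two).mp hidx
  -- odd-order elements lie in the core
  have hall' : ∀ y : ↥C, Odd (orderOf y) → y ∈ Oc := by
    intro y hy
    set yb : ↥C ⧸ Oc := QuotientGroup.mk y with hyb
    have h1 : orderOf yb ∣ orderOf y := by
      apply orderOf_dvd_of_pow_eq_one
      rw [hyb, ← QuotientGroup.mk_pow, pow_orderOf_eq_one]
      rfl
    have h2 : orderOf yb ∣ 2 ^ j := by
      rw [← hj, Subgroup.index_eq_card]
      exact orderOf_dvd_natCard yb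
    have h3 : Nat.Coprime (orderOf y) (2 ^ j) := Nat.Coprime.pow_right j hy.coprime_two_right
    have h4 : orderOf yb ∣ 1 := by
      rw [← h3.gcd_eq_one]
      exact Nat.dvd_gcd h1 h2
    have h5 : yb = 1 := orderOf_eq_one_iff.mp (Nat.dvd_one.mp h4)
    exact (QuotientGroup.eq_one_iff y).mp h5
  -- `Oc ⊔ S' = ⊤`
  set S' : Sylow 2 ↥C := S.subtype hSC with hS'
  have hS'idx : ¬ 2 ∣ (S' : Subgroup ↥C).index := S'.not_dvd_index
  have hsup : Oc ⊔ (S' : Subgroup ↥C) = ⊤ := by
    have h1 : (Oc ⊔ (S' : Subgroup ↥C)).index ∣ Oc.index := Subgroup.index_dvd_of_le le_sup_left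
    have h2 : (Oc ⊔ (S' : Subgroup ↥C)).index ∣ (S' : Subgroup ↥C).index :=
      Subgroup.index_dvd_of_le le_sup_right
    rw [hj] at h1
    obtain ⟨i, -, hi⟩ := (Nat.dvd_prime_pow Nat.prime_two).mp h1
    rcases Nat.eq_zero_or_pos i with hi0 | hi0
    · rw [hi0, pow_zero] at hi
      exact Subgroup.index_eq_one.mp hi
    · exfalso
      apply hS'idx
      refine dvd_trans ?_ h2
      rw [hi]
      exact dvd_pow_self 2 (by omega)
  have hOC : O ≤ C := by
    rw [hO]
    exact Subgroup.map_subtype_le _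
  have hmemO : ∀ y : ↥C, y ∈ Oc → (y : G) ∈ O := by
    intro y hy
    rw [hO]
    exact Subgroup.mem_map_of_mem _ hy
  refine ⟨hSC, hOC, ?_, ?_, ?_, ?_⟩
  · intro c hc
    apply Subgroup.mem_normalizer_fintype
    intro y hy
    rw [SetLike.mem_coe, hO] at hy
    obtain ⟨y', hy', rfl⟩ := hy
    have h1 : (⟨c, hc⟩ : ↥C) * y' * (⟨c, hc⟩ : ↥C)⁻¹ ∈ Oc := hOcn.conj_mem y' hy' _
    exact hmemO _ h1
  · have h1 : (Oc ⊔ (S' : Subgroup ↥C)).map C.subtype = C := by
      rw [hsup, ← MonoidHom.range_eq_map, Subgroup.range_subtype]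
    rw [Subgroup.map_sup] at h1
    have h2 : ((S' : Subgroup ↥C)).map C.subtype = S := by
      rw [hS', Sylow.coe_subtype]
      exact Subgroup.map_subgroupOf_eq_of_le hSC
    rw [h2, ← hO] at h1
    exact h1
  · have h1 : Nat.card O = Nat.card Oc := by
      rw [hO]
      exact Subgroup.card_map_of_injective (Subgroup.subtype_injective _)
    rw [h1]
    exact Nat.Coprime.odd_of_right hOcop
  · intro y hy hodd
    have h1 : orderOf (⟨y, hy⟩ : ↥C) = orderOf y := Subgroup.orderOf_mk _ _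
    exact hmemO ⟨y, hy⟩ (hall' ⟨y, hy⟩ (h1 ▸ hodd))

/-- elements of `S` outside a cyclic subgroup of index two are involutions inverting it -/
theorem inverts_of_cyclic (S : Subgroup G) (n : ℕ) (hn : 2 ≤ n)
    (hS : Nonempty (S ≃* DihedralGroup n)) (S₀ : Subgroup G) (hle : S₀ ≤ S) (hcyc : IsCyclic S₀)
    (hidx : S₀.relIndex S = 2) :
    ∀ s ∈ S, s ∉ S₀ → s * s = 1 ∧ ∀ a ∈ S₀, s * a * s⁻¹ = a⁻¹ := by
  obtain ⟨e⟩ := hS
  have hcyc' : IsCyclic (S₀.subgroupOf S) :=
    isCyclic_of_surjective _ (Subgroup.subgroupOfEquivOfLe hle).symm.surjective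
  intro s hs hs0
  have hs0' : (⟨s, hs⟩ : S) ∉ S₀.subgroupOf S := by
    rw [Subgroup.mem_subgroupOf]
    exact hs0
  obtain ⟨h1, h2⟩ := dihedral_inverts' n hn e (S₀.subgroupOf S) hcyc' hidx ⟨s, hs⟩ hs0'
  refine ⟨?_, ?_⟩
  · have := congrArg Subtype.val h1
    simpa using this
  · intro a ha
    have := congrArg Subtype.val (h2 ⟨a, hle ha⟩ (Subgroup.mem_subgroupOf.mpr ha))
    simpa using this

/-- the setup exists under the hypotheses of S0508 -/
theorem exists_setup (S : Sylow 2 G) (n : ℕ)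
    (hn : 2 ≤ n) (hS : Nonempty ((S : Subgroup G) ≃* DihedralGroup n)) (t : G) (ht : orderOf t = 2)
    (htS : t ∈ (S : Subgroup G))
    (htZ : ∀ s ∈ (S : Subgroup G), s * t = t * s) (O : Subgroup G)
    (hO : O = (Cfsg.oddCore (Subgroup.centralizer ({t} : Set G))).map
      (Subgroup.centralizer ({t} : Set G)).subtype)
    (ha : O ≠ ⊥ → IsCyclic ((S : Subgroup G) ⊓ Subgroup.centralizer (O : Set G) : Subgroup G) ∧
      ((S : Subgroup G) ⊓ Subgroup.centralizer (O : Set G)).relIndex (S : Subgroup G) = 2)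
    (hb : ∀ s ∈ (S : Subgroup G), s ∉ Subgroup.centralizer (O : Set G) →
      ∀ y ∈ O, s * y * s⁻¹ = y⁻¹)
    (hc : ∀ Y : Subgroup G, Y ≤ O → Y ≠ ⊥ →
      Subgroup.normalizer (Y : Set G) ≤ Subgroup.centralizer ({t} : Set G)) :
    ∃ S₀ : Subgroup G, Setup t (S : Subgroup G) O S₀ := by
  obtain ⟨hSC, hOC, hOn, hOS, hOodd, hall⟩ := centralizer_struct S n hn hS t ht htZ O hO
  by_cases hO1 : O = ⊥
  · -- `S₀` from the dihedral structure
    obtain ⟨e⟩ := hS
    have hz : orderOf (⟨t, htS⟩ : (S : Subgroup G)) = 2 := by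
      rw [Subgroup.orderOf_mk]; exact ht
    have hzc : ∀ g : (S : Subgroup G), g * ⟨t, htS⟩ = ⟨t, htS⟩ * g := by
      intro g
      exact Subtype.ext (htZ g.1 g.2)
    obtain ⟨A, hAc, hAi, hzA⟩ := dihedral_exists_cyclic' n hn e ⟨t, htS⟩ hz hzc
    set S₀ : Subgroup G := A.map (S : Subgroup G).subtype with hS₀
    have hle : S₀ ≤ (S : Subgroup G) := Subgroup.map_subtype_le _
    have hcyc : IsCyclic S₀ :=
      isCyclic_of_surjective _ (MonoidHom.subgroupMap_surjective (S : Subgroup G).subtype A)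
    have hsub : S₀.subgroupOf (S : Subgroup G) = A :=
      Subgroup.comap_map_eq_self_of_injective (Subgroup.subtype_injective _) A
    have hidx : S₀.relIndex (S : Subgroup G) = 2 := by
      rw [Subgroup.relIndex, hsub, hAi]
    refine ⟨S₀, ?_⟩
    exact
      { ht := ht
        hSC := hSC
        hOC := hOC
        hOn := hOn
        hOS := hOS
        hOodd := hOodd
        hS2 := S.2
        hall := hall
        hS₀ := hle
        hcyc := hcyc
        hidx := hidx
        htS₀ := ⟨⟨t, htS⟩, hzA, rfl⟩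
        hcent := by
          intro z _
          rw [Subgroup.mem_centralizer_iff]
          intro o ho
          rw [SetLike.mem_coe, hO1, Subgroup.mem_bot] at ho
          rw [ho, one_mul, mul_one]
        hinvO := by
          intro s _ _ y hy
          rw [hO1, Subgroup.mem_bot] at hy
          rw [hy]
          group
        hinvS := inverts_of_cyclic (S : Subgroup G) n hn ⟨e⟩ S₀ hle hcyc hidx
        hc := hc }
  · obtain ⟨hcyc, hidx⟩ := ha hO1
    refine ⟨(S : Subgroup G) ⊓ Subgroup.centralizer (O : Set G), ?_⟩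
    exact
      { ht := ht
        hSC := hSC
        hOC := hOC
        hOn := hOn
        hOS := hOS
        hOodd := hOodd
        hS2 := S.2
        hall := hall
        hS₀ := inf_le_left
        hcyc := hcyc
        hidx := hidx
        htS₀ := by
          have h5 : t ∈ Subgroup.centralizer (O : Set G) := by
            rw [Subgroup.mem_centralizer_iff]
            intro o ho
            have := hOC ho
            rw [Subgroup.mem_centralizer_singleton_iff] at this
            exact this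
          exact ⟨htS, h5⟩
        hcent := inf_le_right
        hinvO := by
          intro s hs hs0 y hy
          apply hb s hs _ y hy
          intro hsc
          exact hs0 ⟨hs, hsc⟩
        hinvS := inverts_of_cyclic (S : Subgroup G) n hn hS _ inf_le_left hcyc hidx
        hc := hc }

/-! ### all involutions are conjugate -/

theorem no_index_two [IsSimpleGroup G] (h4 : 4 ∣ Nat.card G) (K : Subgroup G) : K.index ≠ 2 := by
  intro hK
  have hKn : K.Normal := Subgroup.normal_of_index_eq_two hK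
  rcases hKn.eq_bot_or_eq_top with e | e
  · rw [e, Subgroup.index_bot] at hK
    rw [hK] at h4
    omega
  · rw [e, Subgroup.index_top] at hK
    omega

theorem pResidual_eq_top [IsSimpleGroup G] (h4 : 4 ∣ Nat.card G) : Cfsg.pResidual 2 G = ⊤ := by
  haveI : Fact (Nat.Prime 2) := ⟨Nat.prime_two⟩
  have hn := Cfsg.Agent.Lib.Helper12.pResidual_normal' 2 G
  rcases hn.eq_bot_or_eq_top with e | e
  · exfalso
    obtain ⟨a, ha⟩ := Cfsg.Agent.Lib.Helper12.pResidual_index_eq_pow 2 G
    rw [e, Subgroup.index_bot] at ha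
    rcases Nat.eq_zero_or_pos a with h0 | h0
    · rw [h0, pow_zero] at ha
      rw [ha] at h4
      omega
    · obtain ⟨k, rfl⟩ : ∃ k, a = k + 1 := ⟨a - 1, by omega⟩
      obtain ⟨K, hK⟩ := Cfsg.Agent.Lib.Helper2.exists_index_two_of_card_pow k ha
      exact no_index_two h4 K hK
  · exact e

theorem invol_conj [IsSimpleGroup G] (S : Sylow 2 G) (n : ℕ) (hn : 2 ≤ n)
    (hS : Nonempty ((S : Subgroup G) ≃* DihedralGroup n)) :
    ∀ x y : G, orderOf x = 2 → orderOf y = 2 → IsConj x y := by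
  haveI : Fact (Nat.Prime 2) := ⟨Nat.prime_two⟩
  obtain ⟨e⟩ := hS
  have hcardS : Nat.card (S : Subgroup G) = 2 * n := by
    rw [Nat.card_congr e.toEquiv, DihedralGroup.nat_card]
  obtain ⟨a, ha⟩ := IsPGroup.iff_card.mp S.2
  have ha2 : 2 ≤ a := by
    by_contra hlt
    have : a = 0 ∨ a = 1 := by omega
    rcases this with rfl | rfl
    · rw [pow_zero] at ha; omega
    · rw [pow_one] at ha; omega
  obtain ⟨m, rfl⟩ : ∃ m, a = m + 1 := ⟨a - 1, by omega⟩
  have hnm : n = 2 ^ m := by
    rw [ha, pow_succ] at hcardS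
    omega
  have h4 : 4 ∣ Nat.card G := by
    have h1 : Nat.card (S : Subgroup G) ∣ Nat.card G := Subgroup.card_subgroup_dvd_card _
    refine dvd_trans ?_ h1
    rw [ha]
    have : (4 : ℕ) = 2 ^ 2 := by norm_num
    rw [this]
    exact pow_dvd_pow 2 ha2
  intro x y hx hy
  rcases Nat.lt_or_ge m 2 with hm | hm
  · -- Klein four
    obtain rfl : m = 1 := by omega
    obtain rfl : n = 2 := by rw [hnm]; norm_num
    have hK : IsKleinFour (S : Subgroup G) := by
      apply Cfsg.Agent.Lib.Helper4.isKleinFour_of_card_of_sq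
      · rw [hcardS]
      · intro z
        apply e.injective
        rw [map_mul, map_one]
        exact IsKleinFour.mul_self (e z)
    rcases Cfsg.Agent.Lib.Helper2.klein_one_or_three S hK with h1 | h3
    · have hsub := (Nat.card_eq_one_iff_unique.mp h1).1
      have := hsub.elim
        (⟨ConjClasses.mk x, x, hx, rfl⟩ :
          {C : ConjClasses G // ∃ t : G, orderOf t = 2 ∧ ConjClasses.mk t = C})
        ⟨ConjClasses.mk y, y, hy, rfl⟩
      exact ConjClasses.mk_eq_mk_iff_isConj.mp (congrArg Subtype.val this)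
    · exfalso
      obtain ⟨N, hNn, hNc⟩ := (Cfsg.Agent.Lib.Helper2.klein_three_iff S hK).mp h3
      have hcc := hNc.card_mul_card
      rw [hcardS] at hcc
      rcases hNn.eq_bot_or_eq_top with e1 | e1
      · rw [e1, Subgroup.card_bot] at hcc
        have hG4 : Nat.card G = 2 ^ (1 + 1) := by omega
        obtain ⟨K, hK2⟩ := Cfsg.Agent.Lib.Helper2.exists_index_two_of_card_pow 1 hG4
        exact no_index_two h4 K hK2
      · rw [e1, Subgroup.card_top] at hcc
        have hpos : 0 < Nat.card G := Nat.card_pos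
        omega
  · subst hnm
    obtain ⟨g, hg⟩ := Cfsg.Agent.S0107.result S m hm ⟨e⟩ (pResidual_eq_top h4) x y hx hy
    exact isConj_iff.mpr ⟨g, hg⟩

end build

end Cfsg.Agent.Lib.Helper4.BSWGlue
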