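import Mathlib
import Cfsg.Prelude.Def_LieExceptional
import Cfsg.Agent.S0731

/-! S0508 glue (helper4), part B: from the conclusion of S3282 (`Q`, `D`) to `PSL₂` through the Zassenhaus
recognition S0731. -/

set_option autoImplicit false
set_option linter.unusedSectionVars false
set_option linter.style.haveILetI false

namespace Cfsg.Agent.Lib.Helper4.BSWGlue

universe u

open scoped Pointwise

variable {G : Type u} [Group G]

/-- `|A ⊔ B| · |A ⊓ B| = |A| · |B|` when `A` normalizes `B` -/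
theorem card_sup_mul_card_inf_of_le_normalizer (A B : Subgroup G)
    (hAB : A ≤ Subgroup.normalizer (B : Set G)) :
    Nat.card ↥(A ⊔ B) * Nat.card ↥(A ⊓ B) = Nat.card A * Nat.card B := by
  set N := Subgroup.normalizer (B : Set G) with hN
  have hBN : B ≤ N := Subgroup.le_normalizer
  have hsupN : A ⊔ B ≤ N := sup_le hAB hBN
  haveI : (B.subgroupOf N).Normal := Subgroup.normal_in_normalizer
  have h1 : Nat.card ↥(A.subgroupOf N ⊔ B.subgroupOf N) = Nat.card ↥(B.subgroupOf N) *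
      (B.subgroupOf N).relIndex (A.subgroupOf N) := by
    rw [← Subgroup.relIndex_bot_left (H := A.subgroupOf N ⊔ B.subgroupOf N),
      ← Subgroup.relIndex_mul_relIndex ⊥ (B.subgroupOf N) _ bot_le le_sup_right,
      Subgroup.relIndex_bot_left, Subgroup.relIndex_sup_right]
  have h2 : Nat.card ↥(A.subgroupOf N) = Nat.card ↥(A.subgroupOf N ⊓ B.subgroupOf N) *
      (B.subgroupOf N).relIndex (A.subgroupOf N) := by
    rw [← Subgroup.relIndex_bot_left (H := A.subgroupOf N),
      ← Subgroup.relIndex_mul_relIndex ⊥ (A.subgroupOf N ⊓ B.subgroupOf N) _ bot_le inf_le_left,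
      Subgroup.relIndex_bot_left, Subgroup.inf_relIndex_left]
  have e1 : Nat.card ↥(A.subgroupOf N ⊔ B.subgroupOf N) = Nat.card ↥(A ⊔ B) := by
    rw [← Subgroup.subgroupOf_sup hAB hBN]
    exact Nat.card_congr (Subgroup.subgroupOfEquivOfLe hsupN).toEquiv
  have e2 : Nat.card ↥(A.subgroupOf N ⊓ B.subgroupOf N) = Nat.card ↥(A ⊓ B) := by
    have : A.subgroupOf N ⊓ B.subgroupOf N = (A ⊓ B).subgroupOf N := by
      ext x
      simp [Subgroup.mem_subgroupOf]
    rw [this]
    exact Nat.card_congr (Subgroup.subgroupOfEquivOfLe (le_trans inf_le_left hAB)).toEquiv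
  have e3 : Nat.card ↥(A.subgroupOf N) = Nat.card A :=
    Nat.card_congr (Subgroup.subgroupOfEquivOfLe hAB).toEquiv
  have e4 : Nat.card ↥(B.subgroupOf N) = Nat.card B :=
    Nat.card_congr (Subgroup.subgroupOfEquivOfLe hBN).toEquiv
  rw [← e1, ← e2, ← e3, ← e4, h1, h2]
  ring

/-- the conclusion of S3282 for given `Q`, `D` -/
structure QDData (Q D : Subgroup G) : Prop where
  hcard : 2 * Nat.card G = Nat.card ↥Q * (Nat.card ↥Q + 1) * (Nat.card ↥Q - 1)
  hcc : ∀ x ∈ Q, x ≠ 1 → Subgroup.centralizer ({x} : Set G) = Q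
  hDab : IsMulCommutative ↥D
  hDcard : 2 * Nat.card ↥D + 1 = Nat.card ↥Q
  hQD : Q ⊓ D = ⊥
  hN : Subgroup.normalizer (Q : Set G) = Q ⊔ D
  hloc : ∀ X : Subgroup G, X ≤ D → X ≠ ⊥ →
      Subgroup.normalizer (X : Set G) = Subgroup.normalizer (D : Set G) ∧
      ∃ u : G, orderOf u = 2 ∧ u ∉ D ∧ (∀ d ∈ D, u * d * u⁻¹ = d⁻¹) ∧
        Subgroup.normalizer (D : Set G) = D ⊔ Subgroup.zpowers u

namespace QDData

variable [Finite G] {Q D : Subgroup G} (h : QDData Q D)
include h

theorem D_le : D ≤ Subgroup.normalizer (Q : Set G) := h.hN ▸ le_sup_right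

theorem Q_le : Q ≤ Subgroup.normalizer (Q : Set G) := Subgroup.le_normalizer

theorem three_le : 3 ≤ Nat.card Q := by
  have := h.hDcard
  have hpos : 0 < Nat.card D := Nat.card_pos
  omega

theorem card_normalizer : Nat.card ↥(Subgroup.normalizer (Q : Set G)) = Nat.card Q * Nat.card D := by
  have h1 := card_sup_mul_card_inf_of_le_normalizer D Q h.D_le
  rw [inf_comm, h.hQD, Subgroup.card_bot, mul_one, sup_comm, ← h.hN] at h1
  rw [h1, mul_comm]

theorem card_eq : Nat.card G = (Nat.card Q + 1) * Nat.card ↥(Subgroup.normalizer (Q : Set G)) := by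
  rw [h.card_normalizer]
  have h1 := h.hcard
  have h2 := h.hDcard
  have hq : Nat.card Q - 1 = 2 * Nat.card D := by omega
  rw [hq] at h1
  have : 2 * Nat.card G = 2 * ((Nat.card Q + 1) * (Nat.card Q * Nat.card D)) := by
    rw [h1]
    ring
  exact Nat.eq_of_mul_eq_mul_left (by norm_num) this

theorem index_normalizer : (Subgroup.normalizer (Q : Set G)).index = Nat.card Q + 1 := by
  have h1 := (Subgroup.normalizer (Q : Set G)).card_mul_index
  rw [h.card_eq] at h1
  have hpos : 0 < Nat.card ↥(Subgroup.normalizer (Q : Set G)) := Nat.card_pos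
  rw [mul_comm] at h1
  exact Nat.eq_of_mul_eq_mul_right hpos h1

theorem comm_of_mem {x y : G} (hx : x ∈ Q) (hy : y ∈ Q) : x * y = y * x := by
  by_cases hx1 : x = 1
  · rw [hx1, one_mul, mul_one]
  · have := h.hcc x hx hx1
    have hy' : y ∈ Subgroup.centralizer ({x} : Set G) := this ▸ hy
    exact Subgroup.mem_centralizer_iff.mp hy' x rfl

theorem coprime_card : Nat.Coprime (Nat.card Q) (Nat.card D) := by
  rw [← h.hDcard]
  simp

/-- elements of `N(Q)` of order dividing `|Q|` lie in `Q` -/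
theorem mem_Q_of_pow {y : G} (hy : y ∈ Subgroup.normalizer (Q : Set G)) (hpow : y ^ Nat.card Q = 1) :
    y ∈ Q := by
  set N := Subgroup.normalizer (Q : Set G) with hN
  haveI : (Q.subgroupOf N).Normal := Subgroup.normal_in_normalizer
  set yb : ↥N ⧸ Q.subgroupOf N := QuotientGroup.mk (⟨y, hy⟩ : ↥N) with hyb
  have h1 : yb ^ Nat.card Q = 1 := by
    rw [hyb, ← QuotientGroup.mk_pow]
    have : (⟨y, hy⟩ : ↥N) ^ Nat.card Q = 1 := Subtype.ext (by rw [Subgroup.coe_pow]; exact hpow)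
    rw [this]
    rfl
  have hidx : Nat.card (↥N ⧸ Q.subgroupOf N) = Nat.card D := by
    have h2 := (Q.subgroupOf N).card_mul_index
    rw [Nat.card_congr (Subgroup.subgroupOfEquivOfLe h.Q_le).toEquiv, h.card_normalizer] at h2
    have hpos : 0 < Nat.card Q := Nat.card_pos
    rw [Subgroup.index_eq_card] at h2
    exact Nat.eq_of_mul_eq_mul_left hpos h2
  have h2 : yb ^ Nat.card D = 1 := by
    rw [← hidx]
    exact pow_card_eq_one'
  have h3 : orderOf yb ∣ Nat.gcd (Nat.card Q) (Nat.card D) :=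
    Nat.dvd_gcd (orderOf_dvd_of_pow_eq_one h1) (orderOf_dvd_of_pow_eq_one h2)
  rw [h.coprime_card.gcd_eq_one, Nat.dvd_one, orderOf_eq_one_iff] at h3
  have h4 : (⟨y, hy⟩ : ↥N) ∈ Q.subgroupOf N := (QuotientGroup.eq_one_iff _).mp h3
  exact Subgroup.mem_subgroupOf.mp h4

theorem pow_card_of_mem {x : G} (hx : x ∈ Q) : x ^ Nat.card Q = 1 := by
  have : (⟨x, hx⟩ : ↥Q) ^ Nat.card Q = 1 := pow_card_eq_one'
  exact congrArg Subtype.val this

/-- `Q ∩ g N(Q) g⁻¹ = 1` for `g ∉ N(Q)` -/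
theorem eq_one_of_conj_mem {g x : G} (hg : g ∉ Subgroup.normalizer (Q : Set G)) (hx : x ∈ Q)
    (hgx : g⁻¹ * x * g ∈ Subgroup.normalizer (Q : Set G)) : x = 1 := by
  by_contra hx1
  have hy : g⁻¹ * x * g ∈ Q := by
    apply h.mem_Q_of_pow hgx
    have hc := conj_pow (a := g⁻¹) (b := x) (i := Nat.card Q)
    rw [inv_inv] at hc
    rw [hc, h.pow_card_of_mem hx]
    group
  have hy1 : g⁻¹ * x * g ≠ 1 := by
    intro e
    apply hx1
    have : x = g * (g⁻¹ * x * g) * g⁻¹ := by group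
    rw [this, e]
    group
  have hCx := h.hcc x hx hx1
  have hCy := h.hcc _ hy hy1
  apply hg
  rw [Subgroup.mem_normalizer_iff]
  intro z
  constructor
  · intro hz
    have e : z * (g⁻¹ * x * g) = g⁻¹ * x * g * z := by
      rw [← hCy] at hz
      exact Subgroup.mem_centralizer_singleton_iff.mp hz
    rw [← hCx, Subgroup.mem_centralizer_singleton_iff]
    calc g * z * g⁻¹ * x = g * (z * (g⁻¹ * x * g)) * g⁻¹ := by group
      _ = g * ((g⁻¹ * x * g) * z) * g⁻¹ := by rw [e]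
      _ = x * (g * z * g⁻¹) := by group
  · intro hz
    have e : g * z * g⁻¹ * x = x * (g * z * g⁻¹) := by
      rw [← hCx] at hz
      exact Subgroup.mem_centralizer_singleton_iff.mp hz
    rw [← hCy, Subgroup.mem_centralizer_singleton_iff]
    calc z * (g⁻¹ * x * g) = g⁻¹ * ((g * z * g⁻¹) * x) * g := by group
      _ = g⁻¹ * (x * (g * z * g⁻¹)) * g := by rw [e]
      _ = g⁻¹ * x * g * z := by group

/-! ### the action on the cosets of `N(Q)` -/

local notation "NQ" => Subgroup.normalizer (Q : Set G)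

omit h in
theorem smul_mk_eq_mk_iff {H : Subgroup G} (g a b : G) :
    g • (QuotientGroup.mk a : G ⧸ H) = QuotientGroup.mk b ↔ b⁻¹ * g * a ∈ H := by
  rw [MulAction.Quotient.smul_mk, QuotientGroup.eq, smul_eq_mul]
  constructor
  · intro e
    have : b⁻¹ * g * a = ((g * a)⁻¹ * b)⁻¹ := by group
    rw [this]
    exact H.inv_mem e
  · intro e
    have : (g * a)⁻¹ * b = (b⁻¹ * g * a)⁻¹ := by group
    rw [this]
    exact H.inv_mem e

omit h in
theorem smul_mk_one_eq {H : Subgroup G} {g : G} (hg : g ∈ H) :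
    g • (QuotientGroup.mk 1 : G ⧸ H) = QuotientGroup.mk 1 := by
  rw [smul_mk_eq_mk_iff]
  simpa using hg

omit h in
theorem mk_ne_one_iff {H : Subgroup G} (g : G) :
    (QuotientGroup.mk g : G ⧸ H) ≠ QuotientGroup.mk 1 ↔ g ∉ H := by
  rw [not_iff_not, QuotientGroup.eq]
  constructor
  · intro e
    have : g = (g⁻¹ * 1)⁻¹ := by group
    rw [this]
    exact H.inv_mem e
  · intro e
    have : g⁻¹ * 1 = g⁻¹ := by group
    rw [this]
    exact H.inv_mem e

theorem card_points : Nat.card (G ⧸ NQ) = Nat.card Q + 1 := by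
  rw [← Subgroup.index_eq_card, h.index_normalizer]

theorem Q_smul_ne {x : G} (hx : x ∈ Q) {c : G ⧸ NQ} (hc : c ≠ QuotientGroup.mk 1) :
    x • c ≠ QuotientGroup.mk 1 := by
  intro e
  apply hc
  have h1 := congrArg (fun y => x⁻¹ • y) e
  simp only [inv_smul_smul] at h1
  rw [h1]
  exact smul_mk_one_eq ((NQ).inv_mem (h.Q_le hx))

theorem Q_smul_inj {x x' : G} (hx : x ∈ Q) (hx' : x' ∈ Q) {c : G ⧸ NQ}
    (hc : c ≠ QuotientGroup.mk 1) (e : x • c = x' • c) : x = x' := by
  induction c using QuotientGroup.induction_on with | _ g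
  have hg : g ∉ NQ := (mk_ne_one_iff g).mp hc
  have h1 : (x'⁻¹ * x) • (QuotientGroup.mk g : G ⧸ NQ) = QuotientGroup.mk g := by
    rw [mul_smul, e, inv_smul_smul]
  rw [smul_mk_eq_mk_iff] at h1
  have h2 := h.eq_one_of_conj_mem hg (Q.mul_mem (Q.inv_mem hx') hx) h1
  calc x = x' * (x'⁻¹ * x) := by group
    _ = x' := by rw [h2, mul_one]

theorem exists_Q_smul {a b : G ⧸ NQ} (ha : a ≠ QuotientGroup.mk 1) (hb : b ≠ QuotientGroup.mk 1) :
    ∃ x ∈ Q, x • a = b := by
  classical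
  let f : ↥Q → G ⧸ NQ := fun x => (x : G) • a
  have hf : Function.Injective f := by
    intro x x' e
    exact Subtype.ext (h.Q_smul_inj x.2 x'.2 ha e)
  have hsub : Set.range f ⊆ ({QuotientGroup.mk 1} : Set (G ⧸ NQ))ᶜ := by
    rintro _ ⟨x, rfl⟩
    exact h.Q_smul_ne x.2 ha
  have hcard : (({QuotientGroup.mk 1} : Set (G ⧸ NQ))ᶜ).ncard ≤ (Set.range f).ncard := by
    rw [Set.ncard_range_of_injective hf, Set.ncard_compl, Set.ncard_singleton, h.card_points]
    simp
  have heq := Set.eq_of_subset_of_ncard_le hsub hcard (Set.toFinite _)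
  have hb' : b ∈ Set.range f := by
    rw [heq]
    exact hb
  obtain ⟨x, hx⟩ := hb'
  exact ⟨x, x.2, hx⟩

theorem existsUnique_Q_smul (y z : G ⧸ NQ) (hy : y ≠ QuotientGroup.mk 1)
    (hz : z ≠ QuotientGroup.mk 1) : ∃! u : ↥Q, (u : G) • y = z := by
  obtain ⟨x, hx, hxy⟩ := h.exists_Q_smul hy hz
  refine ⟨⟨x, hx⟩, hxy, ?_⟩
  intro x' hx'
  exact Subtype.ext (h.Q_smul_inj x'.2 hx hy (hx'.trans hxy.symm))

theorem two_transitive {a b c d : G ⧸ NQ} (hab : a ≠ b) (hcd : c ≠ d) :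
    ∃ g : G, g • a = c ∧ g • b = d := by
  induction a using QuotientGroup.induction_on with | _ x
  induction c using QuotientGroup.induction_on with | _ y
  have hb' : x⁻¹ • b ≠ (QuotientGroup.mk 1 : G ⧸ NQ) := by
    intro e
    apply hab
    have := congrArg (fun z => x • z) e
    simp only [smul_inv_smul] at this
    rw [this, MulAction.Quotient.smul_mk, smul_eq_mul, mul_one]
  have hd' : y⁻¹ • d ≠ (QuotientGroup.mk 1 : G ⧸ NQ) := by
    intro e
    apply hcd
    have := congrArg (fun z => y • z) e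
    simp only [smul_inv_smul] at this
    rw [this, MulAction.Quotient.smul_mk, smul_eq_mul, mul_one]
  obtain ⟨m, hm, hmb⟩ := h.exists_Q_smul hb' hd'
  have hmN : m ∈ NQ := h.Q_le hm
  refine ⟨y * m * x⁻¹, ?_, ?_⟩
  · rw [smul_mk_eq_mk_iff]
    have e : y⁻¹ * (y * m * x⁻¹) * x = m := by group
    rw [e]
    exact hmN
  · have e1 : b = x • (x⁻¹ • b) := by rw [smul_inv_smul]
    have e2 : d = y • (y⁻¹ • d) := by rw [smul_inv_smul]
    rw [e2, ← hmb, e1, ← mul_smul, ← mul_smul, ← mul_smul, ← mul_smul]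
    congr 1
    group

/-- a three-point stabilizer is trivial (base point `mk 1`) -/
theorem three_fix_aux {g : G} {b c : G ⧸ NQ} (hb : b ≠ QuotientGroup.mk 1)
    (hc : c ≠ QuotientGroup.mk 1) (hbc : b ≠ c)
    (hg1 : g • (QuotientGroup.mk 1 : G ⧸ NQ) = QuotientGroup.mk 1) (hgb : g • b = b)
    (hgc : g • c = c) : g = 1 := by
  have hgN : g ∈ NQ := by
    rw [smul_mk_eq_mk_iff] at hg1
    simpa using hg1
  obtain ⟨m, hm, hmb⟩ := h.exists_Q_smul hb hc
  have hm1 : m ≠ 1 := by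
    intro e
    apply hbc
    rw [← hmb, e, one_smul]
  have hgm : g * m * g⁻¹ ∈ Q := (Subgroup.mem_normalizer_iff.mp hgN m).mp hm
  have h2 : (g * m * g⁻¹) • b = c := by
    have hgb' : g⁻¹ • b = b := by
      conv_lhs => rw [← hgb]
      rw [inv_smul_smul]
    rw [mul_smul, mul_smul, hgb', hmb, hgc]
  have h3 : g * m * g⁻¹ = m := h.Q_smul_inj hgm hm hb (h2.trans hmb.symm)
  have hgQ : g ∈ Q := by
    rw [← h.hcc m hm hm1, Subgroup.mem_centralizer_singleton_iff]
    calc g * m = g * m * g⁻¹ * g := by group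
      _ = m * g := by rw [h3]
  have h4 : g • b = (1 : G) • b := by rw [one_smul, hgb]
  exact h.Q_smul_inj hgQ Q.one_mem hb h4

theorem three_fix {g : G} {a b c : G ⧸ NQ} (hab : a ≠ b) (hac : a ≠ c) (hbc : b ≠ c)
    (hga : g • a = a) (hgb : g • b = b) (hgc : g • c = c) : g = 1 := by
  induction a using QuotientGroup.induction_on with | _ x
  have hb' : x⁻¹ • b ≠ (QuotientGroup.mk 1 : G ⧸ NQ) := by
    intro e
    apply hab
    have := congrArg (fun z => x • z) e
    simp only [smul_inv_smul] at this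
    rw [this, MulAction.Quotient.smul_mk, smul_eq_mul, mul_one]
  have hc' : x⁻¹ • c ≠ (QuotientGroup.mk 1 : G ⧸ NQ) := by
    intro e
    apply hac
    have := congrArg (fun z => x • z) e
    simp only [smul_inv_smul] at this
    rw [this, MulAction.Quotient.smul_mk, smul_eq_mul, mul_one]
  have hbc' : x⁻¹ • b ≠ x⁻¹ • c := fun e => hbc (smul_left_cancel _ e)
  have h1 : (x⁻¹ * g * x) • (QuotientGroup.mk 1 : G ⧸ NQ) = QuotientGroup.mk 1 := by
    rw [smul_mk_eq_mk_iff]
    rw [smul_mk_eq_mk_iff] at hga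
    simpa [mul_assoc] using hga
  have h2 : (x⁻¹ * g * x) • (x⁻¹ • b) = x⁻¹ • b := by
    rw [← mul_smul]
    have : x⁻¹ * g * x * x⁻¹ = x⁻¹ * g := by group
    rw [this, mul_smul, hgb]
  have h3 : (x⁻¹ * g * x) • (x⁻¹ • c) = x⁻¹ • c := by
    rw [← mul_smul]
    have : x⁻¹ * g * x * x⁻¹ = x⁻¹ * g := by group
    rw [this, mul_smul, hgc]
  have h4 := h.three_fix_aux hb' hc' hbc' h1 h2 h3
  calc g = x * (x⁻¹ * g * x) * x⁻¹ := by group
    _ = 1 := by rw [h4]; group

/-! ### `D ≠ ⊥` and a two-point stabilizer -/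

theorem Q_ne_bot : Q ≠ ⊥ := by
  intro e
  have := h.three_le
  rw [e, Subgroup.card_bot] at this
  omega

theorem exists_Q_ne_one : ∃ x ∈ Q, x ≠ 1 := by
  obtain ⟨⟨x, hx⟩, hx1⟩ := (Subgroup.ne_bot_iff_exists_ne_one).mp h.Q_ne_bot
  exact ⟨x, hx, fun e => hx1 (Subtype.ext e)⟩

theorem normalizer_ne_top : NQ ≠ ⊤ := by
  intro e
  have := h.index_normalizer
  rw [e, Subgroup.index_top] at this
  have := h.three_le
  omega

theorem D_ne_bot [IsSimpleGroup G] : D ≠ ⊥ := by
  intro hD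
  have hq : Nat.card Q = 3 := by
    have := h.hDcard
    rw [hD, Subgroup.card_bot] at this
    omega
  have hG : Nat.card G = 12 := by
    have := h.hcard
    rw [hq] at this
    omega
  haveI : Fact (Nat.Prime 3) := ⟨by norm_num⟩
  have hNQ : NQ = Q := by rw [h.hN, hD, sup_bot_eq]
  -- `Q` is a Sylow 3-subgroup
  have hQp : IsPGroup 3 Q := IsPGroup.of_card (n := 1) (by rw [hq]; norm_num)
  have hidx : ¬ 3 ∣ Q.index := by
    have h1 := Q.card_mul_index
    rw [hq, hG] at h1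
    have : Q.index = 4 := by omega
    rw [this]
    norm_num
  let P : Sylow 3 G := hQp.toSylow hidx
  have hPQ : (P : Subgroup G) = Q := rfl
  have hP : Subgroup.normalizer ((P : Subgroup G) : Set G) ≤ Subgroup.centralizer (P : Set G) := by
    rw [hPQ]
    intro g hg
    have hgQ : g ∈ Q := by
      have : g ∈ NQ := hg
      rw [hNQ] at this
      exact this
    rw [Subgroup.mem_centralizer_iff]
    intro x hx
    exact h.comm_of_mem hx hgQ
  have hcompl := MonoidHom.ker_transferSylow_isComplement' P hP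
  have hcardK := hcompl.card_mul_card
  have hPc : Nat.card ↥(P : Subgroup G) = 3 := hq
  rw [hPc, hG] at hcardK
  have hK4 : Nat.card (MonoidHom.transferSylow P hP).ker = 4 := by omega
  rcases (MonoidHom.normal_ker (MonoidHom.transferSylow P hP)).eq_bot_or_eq_top with e | e
  · rw [e, Subgroup.card_bot] at hK4
    omega
  · rw [e, Subgroup.card_top, hG] at hK4
    omega

/-- the involution `u` normalizing `D` is not in `N(Q)` -/
theorem u_not_mem [IsSimpleGroup G] {u : G} (huD : u ∉ D)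
    (hDu : Subgroup.normalizer (D : Set G) = D ⊔ Subgroup.zpowers u) : u ∉ NQ := by
  intro huN
  have huND : u ∈ Subgroup.normalizer (D : Set G) := by
    rw [hDu]
    exact (le_sup_right : Subgroup.zpowers u ≤ _) (Subgroup.mem_zpowers u)
  -- decompose `u = a * d`
  have hmem : u ∈ Q ⊔ D := h.hN ▸ huN
  have hDN : D ≤ NQ := h.D_le
  obtain ⟨a, ha, d, hd, rfl⟩ : ∃ a ∈ Q, ∃ d ∈ D, a * d = u := by
    have h1 : u ∈ ((Q ⊔ D : Subgroup G) : Set G) := hmem
    rw [Subgroup.coe_mul_of_right_le_normalizer_left Q D hDN] at h1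
    exact Set.mem_mul.mp h1
  -- `a` normalizes `D`
  have haND : a ∈ Subgroup.normalizer (D : Set G) := by
    have : a = a * d * d⁻¹ := by group
    rw [this]
    exact (Subgroup.normalizer (D : Set G)).mul_mem huND
      ((Subgroup.normalizer (D : Set G)).inv_mem (Subgroup.le_normalizer hd))
  -- `a` centralizes `D`
  have hcomm : ∀ d' ∈ D, a * d' = d' * a := by
    intro d' hd'
    have h1 : a * d' * a⁻¹ * d'⁻¹ ∈ D :=
      D.mul_mem ((Subgroup.mem_normalizer_iff.mp haND d').mp hd') (D.inv_mem hd')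
    have h2 : a * d' * a⁻¹ * d'⁻¹ ∈ Q := by
      have : a * d' * a⁻¹ * d'⁻¹ = a * (d' * a⁻¹ * d'⁻¹) := by group
      rw [this]
      exact Q.mul_mem ha ((Subgroup.mem_normalizer_iff.mp (hDN hd') a⁻¹).mp (Q.inv_mem ha))
    have h3 : a * d' * a⁻¹ * d'⁻¹ ∈ Q ⊓ D := ⟨h2, h1⟩
    rw [h.hQD, Subgroup.mem_bot] at h3
    calc a * d' = a * d' * a⁻¹ * d'⁻¹ * (d' * a) := by group
      _ = d' * a := by rw [h3, one_mul]
  by_cases ha1 : a = 1
  · apply huD
    rw [ha1, one_mul]
    exact hd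
  · apply h.D_ne_bot
    rw [eq_bot_iff]
    intro d' hd'
    have h1 : d' ∈ Q := by
      rw [← h.hcc a ha ha1, Subgroup.mem_centralizer_singleton_iff]
      exact (hcomm d' hd').symm
    have h3 : d' ∈ Q ⊓ D := ⟨h1, hd'⟩
    rw [h.hQD] at h3
    exact h3

/-! ### the Zassenhaus property and the recognition -/

theorem isZassenhaus [IsSimpleGroup G] : Cfsg.IsZassenhausGroup G (G ⧸ NQ) := by
  obtain ⟨x0, hx0, hx01⟩ := h.exists_Q_ne_one
  obtain ⟨u, hu2, huD, hinv, hDu⟩ := (h.hloc D le_rfl h.D_ne_bot).2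
  have huN := h.u_not_mem huD hDu
  have h01 : (QuotientGroup.mk u : G ⧸ NQ) ≠ QuotientGroup.mk 1 := (mk_ne_one_iff u).mpr huN
  have h02 : x0 • (QuotientGroup.mk u : G ⧸ NQ) ≠ QuotientGroup.mk 1 := h.Q_smul_ne hx0 h01
  have h12 : x0 • (QuotientGroup.mk u : G ⧸ NQ) ≠ QuotientGroup.mk u := by
    intro e
    apply hx01
    have e' : x0 • (QuotientGroup.mk u : G ⧸ NQ) = (1 : G) • QuotientGroup.mk u := by
      rw [one_smul, e]
    exact h.Q_smul_inj hx0 Q.one_mem h01 e'
  refine ⟨⟨?_⟩, ?_, ?_, ?_, ?_⟩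
  · intro g₁ g₂ hg
    have hfix : ∀ a : G ⧸ NQ, (g₂⁻¹ * g₁) • a = a := by
      intro a
      rw [mul_smul, hg a, inv_smul_smul]
    have := h.three_fix h01.symm h02.symm h12.symm (hfix _) (hfix _) (hfix _)
    exact (inv_mul_eq_one.mp this).symm
  · rw [MulAction.is_two_pretransitive_iff]
    intro a b c d hab hcd
    exact h.two_transitive hab hcd
  · intro g a b c hab hbc hac ha hb hc
    exact h.three_fix hab hac hbc ha hb hc
  · obtain ⟨⟨d0, hd0⟩, hd01'⟩ := (Subgroup.ne_bot_iff_exists_ne_one).mp h.D_ne_bot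
    have hd01 : d0 ≠ 1 := fun e => hd01' (Subtype.ext e)
    refine ⟨d0, hd01, QuotientGroup.mk 1, QuotientGroup.mk u, h01.symm, ?_, ?_⟩
    · exact smul_mk_one_eq (h.D_le hd0)
    · rw [smul_mk_eq_mk_iff]
      have e1 := hinv d0⁻¹ (D.inv_mem hd0)
      rw [inv_inv] at e1
      have e2 : u⁻¹ * d0 * u = d0⁻¹ := by
        calc u⁻¹ * d0 * u = u⁻¹ * (u * d0⁻¹ * u⁻¹) * u := by rw [e1]
          _ = d0⁻¹ := by group
      rw [e2]
      exact h.D_le (D.inv_mem hd0)
  · intro K hK htr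
    rcases hK.eq_bot_or_eq_top with hKb | hKt
    · exfalso
      subst hKb
      obtain ⟨k, hk⟩ := htr.exists_smul_eq (QuotientGroup.mk 1 : G ⧸ NQ) (QuotientGroup.mk u)
      have hk1 : (k : G) = 1 := Subgroup.mem_bot.mp k.2
      rw [Subgroup.smul_def, hk1, one_smul] at hk
      exact h01 hk.symm
    · subst hKt
      refine ⟨QuotientGroup.mk 1, ?_⟩
      intro hstab
      have hmem : (⟨x0, Subgroup.mem_top x0⟩ : (⊤ : Subgroup G)) ∈
          (⊥ : Subgroup (⊤ : Subgroup G)) := by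
        rw [← hstab, MulAction.mem_stabilizer_iff]
        exact smul_mk_one_eq (h.Q_le hx0)
      exact hx01 (congrArg Subtype.val (Subgroup.mem_bot.mp hmem))

/-- a sharply triply transitive group on `q + 1` points has order `(q+1) q (q-1)` -/
theorem not_sharply_three :
    ¬ (MulAction.IsMultiplyPretransitive G (G ⧸ NQ) 3 ∧
      ∀ t : Fin 3 ↪ (G ⧸ NQ), MulAction.stabilizer G t = ⊥) := by
  classical
  rintro ⟨htr, hst⟩
  haveI : Fintype (G ⧸ NQ) := Fintype.ofFinite _
  have hcardΩ : Fintype.card (G ⧸ NQ) = Nat.card Q + 1 := by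
    rw [← Nat.card_eq_fintype_card, h.card_points]
  have h3 : 3 ≤ Fintype.card (G ⧸ NQ) := by
    have := h.three_le
    omega
  -- an embedding `Fin 3 ↪ Ω`
  obtain ⟨t₀⟩ : Nonempty (Fin 3 ↪ (G ⧸ NQ)) :=
    Function.Embedding.nonempty_of_card_le (by simpa using h3)
  let f : G → (Fin 3 ↪ (G ⧸ NQ)) := fun g => g • t₀
  have hf : Function.Bijective f := by
    constructor
    · intro g g' e
      have h1 : (g'⁻¹ * g) • t₀ = t₀ := by
        have : g • t₀ = g' • t₀ := e
        rw [mul_smul, this, inv_smul_smul]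
      have h2 : g'⁻¹ * g ∈ MulAction.stabilizer G t₀ := h1
      rw [hst t₀, Subgroup.mem_bot] at h2
      calc g = g' * (g'⁻¹ * g) := by group
        _ = g' := by rw [h2, mul_one]
    · intro t
      exact htr.exists_smul_eq t₀ t
  have hc : Nat.card G = Nat.card (Fin 3 ↪ (G ⧸ NQ)) := Nat.card_congr (Equiv.ofBijective f hf)
  have hc2 : Nat.card (Fin 3 ↪ (G ⧸ NQ)) = (Nat.card Q + 1).descFactorial 3 := by
    rw [Nat.card_eq_fintype_card, Fintype.card_embedding_eq, Fintype.card_fin, hcardΩ]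
  rw [hc2] at hc
  have hq := h.three_le
  obtain ⟨m, hm⟩ : ∃ m, Nat.card Q = m + 3 := ⟨Nat.card Q - 3, by omega⟩
  have h2 := h.hcard
  rw [hc, hm] at h2
  have e1 : (m + 3 + 1).descFactorial 3 = (m + 4) * (m + 3) * (m + 2) := by
    simp [Nat.descFactorial]
    ring
  have e2 : m + 3 - 1 = m + 2 := by omega
  rw [e1, e2] at h2
  have hpos : 0 < (m + 4) * (m + 3) * (m + 2) := by positivity
  have : (m + 3) * (m + 3 + 1) * (m + 2) = (m + 4) * (m + 3) * (m + 2) := by ring
  omega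

theorem exists_psl [IsSimpleGroup G] :
    ∃ (F : Type) (_ : Field F) (_ : Fintype F), Odd (Fintype.card F) ∧
      Nonempty (G ≃* Matrix.ProjectiveSpecialLinearGroup (Fin 2) F) := by
  have hZ := h.isZassenhaus
  have hstab : MulAction.stabilizer G (QuotientGroup.mk 1 : G ⧸ NQ) = NQ :=
    MulAction.stabilizer_quotient _
  have hFle : Q ≤ MulAction.stabilizer G (QuotientGroup.mk 1 : G ⧸ NQ) := by
    rw [hstab]
    exact h.Q_le
  have hFn : (Q.subgroupOf (MulAction.stabilizer G (QuotientGroup.mk 1 : G ⧸ NQ))).Normal := by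
    rw [hstab]
    exact Subgroup.normal_in_normalizer
  have hFab : IsMulCommutative Q := ⟨⟨fun a b => Subtype.ext (h.comm_of_mem a.2 b.2)⟩⟩
  have hreg : ∀ y z : G ⧸ NQ, y ≠ QuotientGroup.mk 1 → z ≠ QuotientGroup.mk 1 →
      ∃! u : Q, (u : G) • y = z := fun y z hy hz => h.existsUnique_Q_smul y z hy hz
  rcases Cfsg.Agent.S0731.result hZ (QuotientGroup.mk 1) Q hFle hFn hFab hreg with h3 | h3
  · exact absurd h3 h.not_sharply_three
  · obtain ⟨K, iK, iF, hchar, hiso⟩ := h3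
    refine ⟨K, iK, iF, ?_, hiso⟩
    rw [Nat.odd_iff]
    exact FiniteField.odd_card_of_char_ne_two hchar

end QDData

end Cfsg.Agent.Lib.Helper4.BSWGlue
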