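import Mathlib
import Cfsg.Agent.Lib.Helper4.BSWGlueA
import Cfsg.Agent.Lib.Helper4.BSWGlueB

/-! S0508 glue (helper4): the Brauer–Suzuki–Wall theorem for dihedral Sylow 2-subgroups (S0508) from its
abstract form (S3282, taken as a hypothesis) and the Zassenhaus recognition S0731. -/

set_option autoImplicit false
set_option linter.unusedSectionVars false
set_option linter.style.haveILetI false
set_option linter.unusedVariables false

namespace Cfsg.Agent.Lib.Helper4.BSWGlue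

universe u

/-- S0508 from the statement of S3282 for the same group -/
theorem result_of {G : Type u} [Group G] [Finite G] [IsSimpleGroup G]
    (hBSW : ∀ (t : G) (ht : orderOf t = 2)
      (K : Subgroup G) (hKab : IsMulCommutative ↥K)
      (hKH : K ≤ Subgroup.centralizer ({t} : Set G)) (htK : t ∈ K)
      (s : G) (hs : orderOf s = 2) (hsH : s ∈ Subgroup.centralizer ({t} : Set G)) (hsK : s ∉ K)
      (hH : K ⊔ Subgroup.zpowers s = Subgroup.centralizer ({t} : Set G))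
      (hCK : K ⊓ Subgroup.centralizer ({s} : Set G) = Subgroup.zpowers t)
      (hinv : ∀ x ∈ K, s * x * s⁻¹ = x⁻¹)
      (hTI : ∀ g : G, g ∉ Subgroup.centralizer ({t} : Set G) →
        K ⊓ K.map (MulAut.conj g).toMonoidHom = ⊥)
      (hconj : ∀ x y : G, orderOf x = 2 → orderOf y = 2 → IsConj x y),
      ∃ Q D : Subgroup G,
        2 * Nat.card G = Nat.card ↥Q * (Nat.card ↥Q + 1) * (Nat.card ↥Q - 1) ∧
        (∀ x ∈ Q, x ≠ 1 → Subgroup.centralizer ({x} : Set G) = Q) ∧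
        IsMulCommutative ↥D ∧ 2 * Nat.card ↥D + 1 = Nat.card ↥Q ∧ Q ⊓ D = ⊥ ∧
        Subgroup.normalizer (Q : Set G) = Q ⊔ D ∧
        ∀ X : Subgroup G, X ≤ D → X ≠ ⊥ →
          Subgroup.normalizer (X : Set G) = Subgroup.normalizer (D : Set G) ∧
          ∃ u : G, orderOf u = 2 ∧ u ∉ D ∧ (∀ d ∈ D, u * d * u⁻¹ = d⁻¹) ∧
            Subgroup.normalizer (D : Set G) = D ⊔ Subgroup.zpowers u)
    (S : Sylow 2 G) (n : ℕ)
    (hn : 2 ≤ n) (hS : Nonempty ((S : Subgroup G) ≃* DihedralGroup n)) (t : G) (ht : orderOf t = 2)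
    (htS : t ∈ (S : Subgroup G))
    (htZ : ∀ s ∈ (S : Subgroup G), s * t = t * s) (O : Subgroup G)
    (hO : O = (Cfsg.oddCore (Subgroup.centralizer ({t} : Set G))).map
      (Subgroup.centralizer ({t} : Set G)).subtype)
    (ha : O ≠ ⊥ → IsCyclic ((S : Subgroup G) ⊓ Subgroup.centralizer (O : Set G) : Subgroup G) ∧
      ((S : Subgroup G) ⊓ Subgroup.centralizer (O : Set G)).relIndex (S : Subgroup G) = 2)
    (hb : ∀ s ∈ (S : Subgroup G), s ∉ Subgroup.centralizer (O : Set G) →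
      ∀ y ∈ O, s * y * s⁻¹ = y⁻¹)
    (hc : ∀ Y : Subgroup G, Y ≤ O → Y ≠ ⊥ →
      Subgroup.normalizer (Y : Set G) ≤ Subgroup.centralizer ({t} : Set G)) :
    ∃ (F : Type) (_ : Field F) (_ : Fintype F), Odd (Fintype.card F) ∧
      Nonempty (G ≃* Matrix.ProjectiveSpecialLinearGroup (Fin 2) F) := by
  obtain ⟨S₀, hset⟩ := exists_setup S n hn hS t ht htS htZ O hO ha hb hc
  obtain ⟨s, hs, hs0⟩ := hset.exists_s
  have hKab : IsMulCommutative ↥(O ⊔ S₀) :=
    ⟨⟨fun a b => Subtype.ext (hset.K_comm a.2 b.2)⟩⟩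
  obtain ⟨Q, D, h1, h2, h3, h4, h5, h6, h7⟩ :=
    hBSW t ht (O ⊔ S₀) hKab hset.K_le_C hset.t_mem_K s (hset.orderOf_s hs hs0) (hset.hSC hs)
      (hset.s_not_mem hs hs0) (hset.K_sup_s hs hs0) (hset.inf_centralizer hs hs0)
      (fun x hx => hset.s_inverts hs hs0 hx) (fun g hg => hset.TI hg)
      (invol_conj S n hn hS)
  have hQD : QDData Q D :=
    { hcard := h1, hcc := h2, hDab := h3, hDcard := h4, hQD := h5, hN := h6, hloc := h7 }
  exact hQD.exists_psl

end Cfsg.Agent.Lib.Helper4.BSWGlue
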