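/-
helper4: leaf BT-FAITH (twin) of the S0997 (Brauer-Tuan) market (helper19, notes/S0997_leaves.lean):
the exact name over helper29's by-product `BTEPSPOS.faithful_of_simple'`.
-/
import Mathlib
import Cfsg.Prelude.Def_BlockRank
import Cfsg.Agent.Lib.Helper24.BRCDefs
import Cfsg.Agent.Lib.Helper29.BTEPSPOS

set_option autoImplicit false

namespace Cfsg.Agent.Lib.Helper4.BTFAITH

open Cfsg Cfsg.Agent.Lib.Helper8.DOM Cfsg.Agent.Lib.Helper27.DO Cfsg.Agent.CharLib
open Cfsg.Agent.Lib.Helper6.BRH Cfsg.Agent.Lib.Helper24.BRC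
open scoped ComplexConjugate

universe u

variable {G : Type u} [Group G] [Finite G] {p : ℕ} [Fact p.Prime]

/-- BT-FAITH.  A non-trivial irreducible character of a simple group is faithful. -/
theorem faithful_of_simple [IsSimpleGroup G] (χ : IrrCharacter G) (hχ : χ ≠ trivIrr G) :
    ∀ g : G, (χ : G → ℂ) g = (χ : G → ℂ) 1 → g = 1 :=
  Cfsg.Agent.Lib.Helper29.BTEPSPOS.faithful_of_simple' χ hχ

end Cfsg.Agent.Lib.Helper4.BTFAITH
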