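/-
helper4: leaf BT-GEN (twin) of the S0997 (Brauer-Tuan) market (helper19, notes/S0997_leaves.lean).
-/
import Mathlib
import Cfsg.Prelude.Def_BlockRank
import Cfsg.Agent.Lib.Helper24.BRCDefs
import Cfsg.Agent.Lib.Helper4.BTFIX

set_option autoImplicit false

namespace Cfsg.Agent.Lib.Helper4.BTGEN

open Cfsg Cfsg.Agent.Lib.Helper8.DOM Cfsg.Agent.Lib.Helper27.DO Cfsg.Agent.CharLib
open Cfsg.Agent.Lib.Helper6.BRH Cfsg.Agent.Lib.Helper24.BRC
open Cfsg.Agent.Lib.Helper4.BTFIX
open scoped ComplexConjugate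

universe u

variable {G : Type u} [Group G] [Finite G] {p : ℕ} [Fact p.Prime]

/-- BT-GEN.  `P = ⟨x⟩`, `C_G(x) = C_G(P) = P`. -/
theorem exists_gen (P : Subgroup G) (hP : Nat.card P = p) (hC : Cz P = P) :
    ∃ x : G, x ∈ P ∧ x ≠ 1 ∧ orderOf x = p ∧ Subgroup.centralizer ({x} : Set G) = Subgroup.zpowers x := by
  have hpp : p.Prime := Fact.out
  haveI : Finite P := Nat.finite_of_card_ne_zero (by rw [hP]; exact hpp.pos.ne')
  haveI : Nontrivial P := Finite.one_lt_card_iff_nontrivial.mp (by rw [hP]; exact hpp.one_lt)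
  obtain ⟨⟨x, hx⟩, hx1'⟩ := exists_ne (1 : P)
  have hx1 : x ≠ 1 := fun h => hx1' (Subtype.ext h)
  have hzP : Subgroup.zpowers x = P := by
    apply le_antisymm ((Subgroup.zpowers_le).mpr hx)
    intro u hu
    obtain ⟨k, rfl⟩ := exists_zpow P hP hx hx1 hu
    exact Subgroup.zpow_mem_zpowers x k
  refine ⟨x, hx, hx1, ?_, ?_⟩
  · have hdvd : orderOf x ∣ p := orderOf_dvd_of_pow_eq_one (pow_eq_one P hP hx)
    rcases (Nat.dvd_prime hpp).mp hdvd with h | h
    · exact absurd (orderOf_eq_one_iff.mp h) hx1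
    · exact h
  · have hcent : Subgroup.centralizer ({x} : Set G) = Cz P := by
      ext g
      constructor
      · intro hg
        have hgx : x * g = g * x := (Subgroup.mem_centralizer_iff.mp hg) x (Set.mem_singleton x)
        refine Subgroup.mem_centralizer_iff.mpr fun h hh => ?_
        obtain ⟨k, rfl⟩ := exists_zpow P hP hx hx1 (show h ∈ P from hh)
        have hc : Commute x g := hgx
        exact (hc.zpow_left k).eq
      · intro hg
        refine Subgroup.mem_centralizer_iff.mpr fun h hh => ?_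
        rw [Set.mem_singleton_iff] at hh
        subst hh
        exact (Subgroup.mem_centralizer_iff.mp hg) h hx
    rw [hcent, hC, hzP]

end Cfsg.Agent.Lib.Helper4.BTGEN
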