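/-
helper4: leaf BT-ZCENT of the S0997 (Brauer-Tuan) market (helper19, notes/S0997_leaves.lean).
-/
import Mathlib
import Cfsg.Prelude.Def_BlockRank
import Cfsg.Agent.Lib.Helper24.BRCDefs

set_option autoImplicit false

namespace Cfsg.Agent.Lib.Helper4.BTZCENT

open Cfsg Cfsg.Agent.Lib.Helper8.DOM Cfsg.Agent.Lib.Helper27.DO Cfsg.Agent.CharLib
open Cfsg.Agent.Lib.Helper6.BRH Cfsg.Agent.Lib.Helper24.BRC
open scoped ComplexConjugate

universe u

variable {G : Type u} [Group G] [Finite G] {p : ℕ} [Fact p.Prime]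

/-- BT-ZCENT.  A 2-central involution. -/
theorem exists_two_central (h2 : 2 ∣ Nat.card G) :
    ∃ z : G, orderOf z = 2 ∧ ¬ 2 ∣ (Subgroup.centralizer ({z} : Set G)).index := by
  haveI : Fact (Nat.Prime 2) := ⟨Nat.prime_two⟩
  obtain ⟨S⟩ : Nonempty (Sylow 2 G) := inferInstance
  have hSne : (S : Subgroup G) ≠ ⊥ := S.ne_bot_of_dvd_card h2
  haveI hSnt : Nontrivial (S : Subgroup G) := (Subgroup.nontrivial_iff_ne_bot _).mpr hSne
  have hpg : IsPGroup 2 (S : Subgroup G) := S.isPGroup'
  haveI hZnt : Nontrivial (Subgroup.center (S : Subgroup G)) := hpg.center_nontrivial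
  obtain ⟨k, hk⟩ := IsPGroup.iff_card.mp (hpg.to_subgroup (Subgroup.center (S : Subgroup G)))
  have hk0 : k ≠ 0 := by
    intro h0
    rw [h0, pow_zero] at hk
    have : 1 < Nat.card (Subgroup.center (S : Subgroup G)) := Finite.one_lt_card
    omega
  obtain ⟨z, hz⟩ := exists_prime_orderOf_dvd_card' (G := Subgroup.center (S : Subgroup G)) 2
    (by rw [hk]; exact dvd_pow_self 2 hk0)
  refine ⟨((z : (S : Subgroup G)) : G), ?_, ?_⟩
  · rw [Subgroup.orderOf_coe, Subgroup.orderOf_coe, hz]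
  · have hle : (S : Subgroup G) ≤ Subgroup.centralizer ({((z : (S : Subgroup G)) : G)} : Set G) := by
      intro s hs
      rw [Subgroup.mem_centralizer_iff]
      intro y hy
      rw [Set.mem_singleton_iff] at hy
      subst hy
      have h1 := Subgroup.mem_center_iff.mp z.2 ⟨s, hs⟩
      have h2' := congrArg (Subtype.val) h1
      simpa using h2'.symm
    intro hd
    exact S.not_dvd_index (dvd_trans hd (Subgroup.index_dvd_of_le hle))

end Cfsg.Agent.Lib.Helper4.BTZCENT
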