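import Mathlib

/-!
# Reduction of positive definite binary quadratic forms over `ℤ` (helper4, for S4539)

`C = !![a, b; b, c]` positive definite (`0 < a`, `0 < a * c - b ^ 2`).  There is `S` with `det S = 1`
or `-1` (we give `S ∈ GL₂(ℤ)` as an integer matrix with `S.det * S.det = 1`) such that
`Sᵀ * C * S = !![a', b'; b', c']` with `0 ≤ 2 b' ≤ a' ≤ c'`.
Inequalities used for Brauer's `k(B)`-conjecture with `l(b) ≤ 2`:
`2 ≤ a' → a' + c' - b' ≤ a' c' - b'^2`, and `a' = 1 → b' = 0`.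
-/

set_option autoImplicit false

namespace Cfsg.Agent.Lib.Helper4.BinForm

open Matrix

/-- the form `(a, b, c)` is equivalent to `(a', b', c')` under `GL₂(ℤ)` -/
def Equiv2 (a b c a' b' c' : ℤ) : Prop :=
  ∃ S : Matrix (Fin 2) (Fin 2) ℤ, S.det * S.det = 1 ∧
    Sᵀ * !![a, b; b, c] * S = !![a', b'; b', c']

theorem Equiv2.refl (a b c : ℤ) : Equiv2 a b c a b c :=
  ⟨1, by simp, by simp⟩

theorem Equiv2.trans {a b c a' b' c' a'' b'' c'' : ℤ} (h1 : Equiv2 a b c a' b' c')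
    (h2 : Equiv2 a' b' c' a'' b'' c'') : Equiv2 a b c a'' b'' c'' := by
  obtain ⟨S, hS, hSC⟩ := h1
  obtain ⟨T, hT, hTC⟩ := h2
  refine ⟨S * T, ?_, ?_⟩
  · rw [det_mul]
    calc S.det * T.det * (S.det * T.det) = (S.det * S.det) * (T.det * T.det) := by ring
      _ = 1 := by rw [hS, hT, one_mul]
  · rw [transpose_mul]
    calc Tᵀ * Sᵀ * !![a, b; b, c] * (S * T) = Tᵀ * (Sᵀ * !![a, b; b, c] * S) * T := by
          simp only [Matrix.mul_assoc]
      _ = !![a'', b''; b'', c''] := by rw [hSC, hTC]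

/-- the determinant is an invariant -/
theorem Equiv2.det_eq {a b c a' b' c' : ℤ} (h : Equiv2 a b c a' b' c') :
    a' * c' - b' ^ 2 = a * c - b ^ 2 := by
  obtain ⟨S, hS, hSC⟩ := h
  have h1 := congrArg Matrix.det hSC
  rw [det_mul, det_mul, det_transpose, det_fin_two_of, det_fin_two_of] at h1
  have h2 : S.det * (a * c - b * b) * S.det = (S.det * S.det) * (a * c - b * b) := by ring
  rw [h2, hS, one_mul] at h1
  linarith [h1, sq b, sq b']

/-- swap the two variables: `(a, b, c) ~ (c, b, a)` -/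
theorem equiv2_swap (a b c : ℤ) : Equiv2 a b c c b a := by
  refine ⟨!![0, 1; 1, 0], ?_, ?_⟩
  · rw [det_fin_two_of]; norm_num
  · ext i j
    fin_cases i <;> fin_cases j <;> simp [Matrix.mul_apply, Fin.sum_univ_two]

/-- change the sign of the second variable: `(a, b, c) ~ (a, -b, c)` -/
theorem equiv2_neg (a b c : ℤ) : Equiv2 a b c a (-b) c := by
  refine ⟨!![1, 0; 0, -1], ?_, ?_⟩
  · rw [det_fin_two_of]; norm_num
  · ext i j
    fin_cases i <;> fin_cases j <;> simp [Matrix.mul_apply, Fin.sum_univ_two]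

/-- shear `y ↦ y + t x`: `(a, b, c) ~ (a, b + t a, c + 2 t b + t² a)` -/
theorem equiv2_shear (a b c t : ℤ) : Equiv2 a b c a (b + t * a) (c + 2 * t * b + t ^ 2 * a) := by
  refine ⟨!![1, t; 0, 1], ?_, ?_⟩
  · rw [det_fin_two_of]; norm_num
  · ext i j
    fin_cases i <;> fin_cases j <;> simp [Matrix.mul_apply, Fin.sum_univ_two] <;> ring

/-- **Reduction.**  A positive definite integral binary form is `GL₂(ℤ)`-equivalent to a reduced one. -/
theorem exists_reduced (a b c : ℤ) (ha : 0 < a) (hdet : 0 < a * c - b ^ 2) :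
    ∃ a' b' c' : ℤ, Equiv2 a b c a' b' c' ∧ 0 ≤ b' ∧ 2 * b' ≤ a' ∧ a' ≤ c' ∧ 0 < a' := by
  -- strong induction on `a`
  induction' hn : a.toNat using Nat.strong_induction_on with n ih generalizing a b c
  -- first make `|2 b| ≤ a` by a shear: `b ↦ b + t a` with `t = -round (b / a)`
  obtain ⟨t, ht1, ht2⟩ : ∃ t : ℤ, -a ≤ 2 * (b + t * a) ∧ 2 * (b + t * a) ≤ a := by
    refine ⟨-((2 * b + a) / (2 * a)), ?_, ?_⟩
    · have h1 := Int.emod_add_mul_ediv (2 * b + a) (2 * a)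
      have h2 := Int.emod_nonneg (2 * b + a) (by omega : (2 * a) ≠ 0)
      have h3 := Int.emod_lt_of_pos (2 * b + a) (by omega : 0 < 2 * a)
      nlinarith
    · have h1 := Int.emod_add_mul_ediv (2 * b + a) (2 * a)
      have h2 := Int.emod_nonneg (2 * b + a) (by omega : (2 * a) ≠ 0)
      have h3 := Int.emod_lt_of_pos (2 * b + a) (by omega : 0 < 2 * a)
      nlinarith
  set b1 := b + t * a with hb1
  set c1 := c + 2 * t * b + t ^ 2 * a with hc1
  have hE1 : Equiv2 a b c a b1 c1 := equiv2_shear a b c t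
  have hdet1 : a * c1 - b1 ^ 2 = a * c - b ^ 2 := hE1.det_eq
  have hc1pos : 0 < c1 := by
    by_contra hcon
    push Not at hcon
    have : a * c1 ≤ 0 := by nlinarith
    nlinarith [sq_nonneg b1]
  by_cases hac : a ≤ c1
  · -- reduced up to the sign of `b1`
    by_cases hb : 0 ≤ b1
    · exact ⟨a, b1, c1, hE1, hb, ht2, hac, ha⟩
    · push Not at hb
      refine ⟨a, -b1, c1, hE1.trans (equiv2_neg a b1 c1), by omega, by omega, hac, ha⟩
  · -- `c1 < a`: swap and use the induction hypothesis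
    push Not at hac
    have hE2 : Equiv2 a b c c1 b1 a := hE1.trans (equiv2_swap a b1 c1)
    have hlt : c1.toNat < n := by
      rw [← hn]
      omega
    obtain ⟨a', b', c', hE3, h1, h2, h3, h4⟩ :=
      ih c1.toNat hlt c1 b1 a hc1pos (by rw [mul_comm]; rw [hdet1]; exact hdet) rfl
    exact ⟨a', b', c', hE2.trans hE3, h1, h2, h3, h4⟩

/-- for a reduced form with `2 ≤ a`: `a + c - b ≤ a c - b²` -/
theorem reduced_ineq (a b c : ℤ) (hb : 0 ≤ b) (hba : 2 * b ≤ a) (hac : a ≤ c) (ha : 2 ≤ a) :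
    a + c - b ≤ a * c - b ^ 2 := by
  nlinarith [mul_nonneg (by omega : (0:ℤ) ≤ a - 2) (by omega : (0:ℤ) ≤ c - a),
    mul_nonneg hb (by omega : (0:ℤ) ≤ a - 2 * b), mul_nonneg (by omega : (0:ℤ) ≤ a - 2) (by omega : (0:ℤ) ≤ a - 2 * b),
    mul_nonneg (by omega : (0:ℤ) ≤ a - 2) (by omega : (0:ℤ) ≤ a)]

/-- for a reduced form with `a = 1`: `b = 0` -/
theorem reduced_one (a b : ℤ) (hb : 0 ≤ b) (hba : 2 * b ≤ a) (ha : a = 1) : b = 0 := by
  omega

/-- common divisors of the coefficients are preserved -/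
theorem Equiv2.dvd {a b c a' b' c' : ℤ} (h : Equiv2 a b c a' b' c') (m : ℤ) (ha : m ∣ a)
    (hb : m ∣ b) (hc : m ∣ c) : m ∣ a' ∧ m ∣ b' ∧ m ∣ c' := by
  obtain ⟨S, -, hSC⟩ := h
  have h00 := congrFun (congrFun hSC 0) 0
  have h01 := congrFun (congrFun hSC 0) 1
  have h11 := congrFun (congrFun hSC 1) 1
  simp [Matrix.mul_apply, Fin.sum_univ_two] at h00 h01 h11
  refine ⟨?_, ?_, ?_⟩
  · rw [← h00]
    exact dvd_add (dvd_mul_of_dvd_left (dvd_add (dvd_mul_of_dvd_right ha _) (dvd_mul_of_dvd_right hb _)) _)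
      (dvd_mul_of_dvd_left (dvd_add (dvd_mul_of_dvd_right hb _) (dvd_mul_of_dvd_right hc _)) _)
  · rw [← h01]
    exact dvd_add (dvd_mul_of_dvd_left (dvd_add (dvd_mul_of_dvd_right ha _) (dvd_mul_of_dvd_right hb _)) _)
      (dvd_mul_of_dvd_left (dvd_add (dvd_mul_of_dvd_right hb _) (dvd_mul_of_dvd_right hc _)) _)
  · rw [← h11]
    exact dvd_add (dvd_mul_of_dvd_left (dvd_add (dvd_mul_of_dvd_right ha _) (dvd_mul_of_dvd_right hb _)) _)
      (dvd_mul_of_dvd_left (dvd_add (dvd_mul_of_dvd_right hb _) (dvd_mul_of_dvd_right hc _)) _)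

/-- the dichotomy for a reduced form of determinant `N`: either `a + c - b ≤ N`, or the form is
`(1, 0, N)` -/
theorem reduced_dichotomy (a b c N : ℤ) (hb : 0 ≤ b) (hba : 2 * b ≤ a) (hac : a ≤ c) (ha : 0 < a)
    (hdet : a * c - b ^ 2 = N) : a + c - b ≤ N ∨ (a = 1 ∧ b = 0 ∧ c = N) := by
  by_cases h2 : 2 ≤ a
  · left
    rw [← hdet]
    exact reduced_ineq a b c hb hba hac h2
  · right
    have ha1 : a = 1 := by omega
    have hb0 : b = 0 := by omega
    refine ⟨ha1, hb0, ?_⟩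
    rw [ha1, hb0] at hdet
    linarith

/-- **Summary for the `k(B)`-bound.**  A positive definite integral binary form whose coefficients are
all divisible by `g > 0`, of determinant `g ^ 2 * N`, is `GL₂(ℤ)`-equivalent to `(g a', g b', g c')`
with `0 ≤ 2 b' ≤ a' ≤ c'` and either `g (a' + c' - b') ≤ g N`, or `(a', b', c') = (1, 0, N)`. -/
theorem exists_reduced_scaled (a b c g N : ℤ) (hg : 0 < g) (ha : 0 < a) (hga : g ∣ a) (hgb : g ∣ b)
    (hgc : g ∣ c) (hdet : a * c - b ^ 2 = g ^ 2 * N) (hN : 0 < N) :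
    ∃ a' b' c' : ℤ, Equiv2 a b c (g * a') (g * b') (g * c') ∧ 0 ≤ b' ∧ 2 * b' ≤ a' ∧ a' ≤ c' ∧
      0 < a' ∧ a' * c' - b' ^ 2 = N ∧ (a' + c' - b' ≤ N ∨ (a' = 1 ∧ b' = 0 ∧ c' = N)) := by
  have hdetpos : 0 < a * c - b ^ 2 := by
    rw [hdet]
    positivity
  obtain ⟨a1, b1, c1, hE, h1, h2, h3, h4⟩ := exists_reduced a b c ha hdetpos
  obtain ⟨⟨a', rfl⟩, ⟨b', rfl⟩, ⟨c', rfl⟩⟩ := hE.dvd g hga hgb hgc
  have hd := hE.det_eq
  rw [hdet] at hd
  have hd' : a' * c' - b' ^ 2 = N := by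
    have : g ^ 2 * (a' * c' - b' ^ 2) = g ^ 2 * N := by
      rw [← hd]
      ring
    exact mul_left_cancel₀ (by positivity) this
  have hb' : 0 ≤ b' := by
    by_contra hcon
    push Not at hcon
    nlinarith
  have hba' : 2 * b' ≤ a' := by
    by_contra hcon
    push Not at hcon
    nlinarith
  have hac' : a' ≤ c' := by
    by_contra hcon
    push Not at hcon
    nlinarith
  have ha' : 0 < a' := by
    by_contra hcon
    push Not at hcon
    nlinarith
  exact ⟨a', b', c', hE, hb', hba', hac', ha', hd', reduced_dichotomy a' b' c' N hb' hba' hac' ha' hd'⟩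

end Cfsg.Agent.Lib.Helper4.BinForm
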