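import Mathlib
import Cfsg.Agent.Lib.Helper12.Basic

set_option autoImplicit false
set_option linter.style.haveILetI false

namespace Cfsg.Agent.Lib.Helper4

open Subgroup

/-- If `g ^ n ∈ N` with `n` coprime to the index of the normal subgroup `N`, then `g ∈ N`. -/
theorem mem_of_pow_mem_of_coprime_index {G : Type*} [Group G] [Finite G] (N : Subgroup G) [N.Normal]
    (g : G) (n : ℕ) (hn : n.Coprime N.index) (hg : g ^ n ∈ N) : g ∈ N := by
  rw [← QuotientGroup.eq_one_iff] at hg ⊢
  rw [QuotientGroup.mk_pow] at hg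
  have h1 : orderOf (g : G ⧸ N) ∣ n := orderOf_dvd_of_pow_eq_one hg
  have h2 : orderOf (g : G ⧸ N) ∣ N.index := by
    rw [Subgroup.index]; exact orderOf_dvd_natCard _
  have h3 : orderOf (g : G ⧸ N) = 1 := Nat.eq_one_of_dvd_coprimes hn h1 h2
  exact orderOf_eq_one_iff.mp h3

/-- Camina-type condition + coprimality ⇒ fixed-point-freeness. -/
theorem camina_fpf_of_coprime {G : Type*} [Group G] [Finite G] (N M : Subgroup G) [N.Normal]
    (hcam : ∀ g : G, g ∉ N → ∀ m ∈ M, ∃ x : G, x * g * x⁻¹ = g * m)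
    (hcop : N.index.Coprime (Nat.card M)) :
    ∀ x ∈ M, x ≠ 1 → Subgroup.centralizer ({x} : Set G) ≤ N := by
  intro x hxM hx1 g hg
  by_contra hgN
  have hox : orderOf x ≠ 1 := by rwa [Ne, orderOf_eq_one_iff]
  obtain ⟨q, hq, hqx⟩ := Nat.exists_prime_and_dvd hox
  haveI : Fact q.Prime := ⟨hq⟩
  have hx₁o : orderOf (x ^ (orderOf x / q)) = q :=
    orderOf_pow_orderOf_div (orderOf_pos x).ne' hqx
  have hx₁M : x ^ (orderOf x / q) ∈ M := M.pow_mem hxM _
  have hqM : q ∣ Nat.card M := by
    have : orderOf (⟨x ^ (orderOf x / q), hx₁M⟩ : M) = q := by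
      rw [Subgroup.orderOf_mk, hx₁o]
    rw [← this]; exact orderOf_dvd_natCard _
  have hqN : q.Coprime N.index := by
    rw [Nat.Prime.coprime_iff_not_dvd hq]
    intro h
    exact hq.one_lt.ne' (Nat.eq_one_of_dvd_coprimes hcop h hqM)
  -- the q'-part of g
  have hog : orderOf g ≠ 0 := (orderOf_pos g).ne'
  have hdvd : q ^ (orderOf g).factorization q ∣ orderOf g := Nat.ordProj_dvd _ _
  have hg₁o : orderOf (g ^ (q ^ (orderOf g).factorization q)) =
      orderOf g / q ^ (orderOf g).factorization q :=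
    orderOf_pow_of_dvd (pow_ne_zero _ hq.ne_zero) hdvd
  have hg₁cop : (orderOf (g ^ (q ^ (orderOf g).factorization q))).Coprime q := by
    rw [hg₁o]; exact (Nat.coprime_ordCompl hq hog).symm
  have hg₁N : g ^ (q ^ (orderOf g).factorization q) ∉ N := by
    intro h
    exact hgN (mem_of_pow_mem_of_coprime_index N g _ (Nat.Coprime.pow_left _ hqN) h)
  have hcomm : Commute g x := by
    have := mem_centralizer_singleton_iff.mp hg
    exact this
  have hcomm₁ : Commute (g ^ (q ^ (orderOf g).factorization q)) (x ^ (orderOf x / q)) :=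
    (hcomm.pow_left _).pow_right _
  have hmul := hcomm₁.orderOf_mul_eq_mul_orderOf_of_coprime (by rw [hx₁o]; exact hg₁cop)
  obtain ⟨y, hy⟩ := hcam _ hg₁N _ hx₁M
  have hconj : orderOf (g ^ (q ^ (orderOf g).factorization q) * x ^ (orderOf x / q)) =
      orderOf (g ^ (q ^ (orderOf g).factorization q)) := by
    rw [← hy]
    exact (MulAut.conj y).orderOf_eq _
  rw [hconj, hx₁o] at hmul
  have hpos : 0 < orderOf (g ^ (q ^ (orderOf g).factorization q)) := orderOf_pos _
  have : q = 1 := by
    have h := hmul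
    conv_lhs at h => rw [← Nat.mul_one (orderOf (g ^ (q ^ (orderOf g).factorization q)))]
    exact (Nat.eq_of_mul_eq_mul_left hpos h).symm
  exact hq.one_lt.ne' this

/-- Fixed-point-freeness ⇒ coprimality (no Camina condition needed). -/
theorem camina_coprime_of_fpf {G : Type*} [Group G] [Finite G] (N M : Subgroup G) [M.Normal]
    (hfpf : ∀ x ∈ M, x ≠ 1 → Subgroup.centralizer ({x} : Set G) ≤ N) :
    N.index.Coprime (Nat.card M) := by
  apply Nat.coprime_of_dvd
  intro q hq hqN hqM
  haveI : Fact q.Prime := ⟨hq⟩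
  obtain ⟨y, hy⟩ := exists_prime_orderOf_dvd_card' q hqM
  have hyo : orderOf (y : G) = q := by rw [Subgroup.orderOf_coe, hy]
  have hzp : IsPGroup q (zpowers (y : G)) := by
    apply IsPGroup.of_card (n := 1)
    rw [Nat.card_zpowers, hyo, pow_one]
  obtain ⟨Q, hQ⟩ := hzp.exists_le_sylow
  have hyQ : (y : G) ∈ (Q : Subgroup G) := hQ (mem_zpowers _)
  have hne : M.subgroupOf (Q : Subgroup G) ≠ ⊥ := by
    intro h
    have : (⟨(y : G), hyQ⟩ : (Q : Subgroup G)) ∈ M.subgroupOf (Q : Subgroup G) := by
      rw [mem_subgroupOf]; exact y.2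
    rw [h, mem_bot] at this
    have h1 : (y : G) = 1 := congrArg Subtype.val this
    rw [h1, orderOf_one] at hyo
    exact hq.one_lt.ne' hyo.symm
  obtain ⟨z, hzM, hz1, hzc⟩ :=
    Cfsg.Agent.Lib.Helper12.exists_ne_one_mem_center_of_normal Q.isPGroup'
      (M.subgroupOf (Q : Subgroup G)) hne
  have hzM' : (z : G) ∈ M := mem_subgroupOf.mp hzM
  have hz1' : (z : G) ≠ 1 := fun h => hz1 (Subtype.ext h)
  have hQN : (Q : Subgroup G) ≤ N := by
    intro g hg
    apply hfpf _ hzM' hz1'
    rw [mem_centralizer_singleton_iff]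
    have := mem_center_iff.mp hzc ⟨g, hg⟩
    exact congrArg Subtype.val this
  have h1 : N.index ∣ (Q : Subgroup G).index := index_dvd_of_le hQN
  exact Q.not_dvd_index (hqN.trans h1)

/-- A prime dividing the order of a finite group divides the index of any normal subgroup
contained in the Frattini subgroup. -/
theorem prime_dvd_index_of_le_frattini {H : Type*} [Group H] [Finite H] (T : Subgroup H) [T.Normal]
    (hT : T ≤ frattini H) (r : ℕ) (hr : r.Prime) (hrH : r ∣ Nat.card H) : r ∣ T.index := by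
  by_contra hrT
  haveI : Fact r.Prime := ⟨hr⟩
  have hcop : r.Coprime T.index := (Nat.Prime.coprime_iff_not_dvd hr).mpr hrT
  obtain ⟨R⟩ : Nonempty (Sylow r H) := inferInstance
  have hRT : (R : Subgroup H) ≤ T := by
    intro g hg
    obtain ⟨k, hk⟩ := (IsPGroup.iff_orderOf.mp R.isPGroup') ⟨g, hg⟩
    rw [Subgroup.orderOf_mk] at hk
    apply mem_of_pow_mem_of_coprime_index T g (r ^ k) (Nat.Coprime.pow_left _ hcop)
    rw [← hk, pow_orderOf_eq_one]; exact T.one_mem
  have hnorm : Subgroup.normalizer ((R : Subgroup H) : Set H) = ⊤ := by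
    have h1 := Sylow.normalizer_sup_eq_top' R hRT
    apply frattini_nongenerating
    apply top_le_iff.mp
    rw [← h1]
    exact sup_le_sup_left hT _
  haveI : (R : Subgroup H).Normal := normalizer_eq_top_iff.mp hnorm
  obtain ⟨K, hK⟩ := exists_right_complement'_of_coprime R.card_coprime_index
  have hKtop : K = ⊤ := by
    apply frattini_nongenerating
    apply top_le_iff.mp
    rw [← hK.sup_eq_top, sup_comm]
    exact sup_le_sup_left (hRT.trans hT) _
  have hRbot : (R : Subgroup H) = ⊥ := by
    have := hK.disjoint.eq_bot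
    rwa [hKtop, inf_top_eq] at this
  exact R.ne_bot_of_dvd_card hrH hRbot

/-- A normal subgroup of a finite group has a supplement whose order involves only primes dividing
the index. -/
theorem exists_supplement_primes_dvd_index {G : Type*} [Group G] [Finite G] (N : Subgroup G)
    [N.Normal] :
    ∃ H : Subgroup G, H ⊔ N = ⊤ ∧ ∀ r : ℕ, r.Prime → r ∣ Nat.card H → r ∣ N.index := by
  obtain ⟨H, hH, hmin⟩ := wellFounded_lt.has_min {H : Subgroup G | H ⊔ N = ⊤} ⟨⊤, top_sup_eq _⟩
  have hHN : H ⊔ N = ⊤ := hH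
  refine ⟨H, hH, ?_⟩
  have hfr : N.subgroupOf H ≤ frattini H := by
    unfold frattini Order.radical
    refine le_iInf₂ ?_
    intro X hX
    by_contra hle
    have hlt : X < X ⊔ N.subgroupOf H := by
      refine lt_of_le_of_ne le_sup_left ?_
      intro h
      apply hle
      rw [h]; exact le_sup_right
    have htop : X ⊔ N.subgroupOf H = ⊤ := hX.lt_iff.mp hlt
    have hmap : (X.map H.subtype) ⊔ N = ⊤ := by
      apply top_le_iff.mp
      rw [← hHN]
      apply sup_le _ le_sup_right
      have h1 : H ≤ (X ⊔ N.subgroupOf H).map H.subtype := by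
        rw [htop, ← MonoidHom.range_eq_map, Subgroup.range_subtype]
      refine h1.trans ?_
      rw [Subgroup.map_sup]
      apply sup_le le_sup_left
      refine le_trans ?_ le_sup_right
      rw [Subgroup.subgroupOf_map_subtype]
      exact inf_le_left
    have hlt' : X.map H.subtype < H := by
      have h1 : H = (⊤ : Subgroup H).map H.subtype := by
        rw [← MonoidHom.range_eq_map, Subgroup.range_subtype]
      conv_rhs => rw [h1]
      exact (map_lt_map_iff_of_injective H.subtype_injective).mpr hX.1.lt_top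
    exact hmin _ hmap hlt'
  intro r hr hrH
  have h1 := prime_dvd_index_of_le_frattini (N.subgroupOf H) hfr r hr hrH
  have h2 : (N.subgroupOf H).index = N.index := by
    change N.relIndex H = N.index
    rw [← relIndex_sup_right, hHN, relIndex_top_right]
  rwa [h2] at h1

/-- Existence of a supplement meeting `M` trivially, given coprimality. -/
theorem exists_supplement_of_coprime {G : Type*} [Group G] [Finite G] (N M : Subgroup G) [N.Normal]
    (hcop : N.index.Coprime (Nat.card M)) : ∃ H : Subgroup G, H ⊔ N = ⊤ ∧ H ⊓ M = ⊥ := by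
  obtain ⟨H, hHN, hH⟩ := exists_supplement_primes_dvd_index N
  refine ⟨H, hHN, ?_⟩
  rw [← card_eq_one]
  by_contra hne
  obtain ⟨r, hr, hrd⟩ := Nat.exists_prime_and_dvd hne
  have h1 : r ∣ N.index := hH r hr (hrd.trans (card_dvd_of_le inf_le_left))
  have h2 : r ∣ Nat.card M := hrd.trans (card_dvd_of_le inf_le_right)
  exact hr.one_lt.ne' (Nat.eq_one_of_dvd_coprimes hcop h1 h2)

end Cfsg.Agent.Lib.Helper4
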