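import Mathlib
import Cfsg.Agent.Lib.Helper4.HallSystemQuot

set_option autoImplicit false
open Pointwise
open scoped commutatorElement

namespace Cfsg.Agent.Lib.Helper4
universe u

/-- subgroup of order dividing that of a normal Hall subgroup lies in it -/
theorem le_of_card_dvd_of_normal_hall {G : Type u} [Group G] [Finite G] (M X : Subgroup G)
    [M.Normal] (hM : (Nat.card M).Coprime M.index) (hX : Nat.card X ∣ Nat.card M) : X ≤ M := by
  have h1 : Nat.card (X.map (QuotientGroup.mk' M)) ∣ Nat.card X := Subgroup.card_map_dvd X _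
  have h2 : Nat.card (X.map (QuotientGroup.mk' M)) ∣ M.index := by
    rw [Subgroup.index]
    exact Subgroup.card_subgroup_dvd_card _
  have h3 : Nat.card (X.map (QuotientGroup.mk' M)) = 1 :=
    Nat.eq_one_of_dvd_coprimes hM (h1.trans hX) h2
  have h4 : X.map (QuotientGroup.mk' M) = ⊥ := Subgroup.card_eq_one.mp h3
  rw [Subgroup.map_eq_bot_iff, QuotientGroup.ker_mk'] at h4
  exact h4

theorem focalSubgroup_mono {G : Type u} [Group G] {K K' : Subgroup G} (h : K ≤ K') :
    K.focalSubgroup ≤ K'.focalSubgroup := by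
  rw [Subgroup.focalSubgroup_def, Subgroup.focalSubgroup_def]
  apply Subgroup.closure_mono
  rintro g ⟨hg, x, hx, u, rfl⟩
  exact ⟨h hg, x, h hx, u, rfl⟩

theorem map_subtype_focalSubgroup_le {G : Type u} [Group G] (L : Subgroup G) (K : Subgroup L) :
    K.focalSubgroup.map L.subtype ≤ (K.map L.subtype).focalSubgroup := by
  rw [Subgroup.focalSubgroup_def, MonoidHom.map_closure, Subgroup.closure_le]
  rintro _ ⟨g, ⟨hg, x, hx, u, rfl⟩, rfl⟩
  apply Subgroup.subset_closure
  refine ⟨⟨_, hg, rfl⟩, (x : G), ⟨x, hx, rfl⟩, (u : G), ?_⟩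
  simp [commutatorElement_def]

theorem map_subtype_iterate_focal_le {G : Type u} [Group G] (L : Subgroup G) (n : ℕ) :
    ∀ (K : Subgroup L), ((fun K : Subgroup L => K.focalSubgroup)^[n] K).map L.subtype ≤
      (fun K : Subgroup G => K.focalSubgroup)^[n] (K.map L.subtype) := by
  induction n with
  | zero => intro K; simp
  | succ n ih =>
    intro K
    rw [Function.iterate_succ_apply, Function.iterate_succ_apply]
    refine (ih _).trans ?_
    have hmono : Monotone (fun K : Subgroup G => K.focalSubgroup) := fun _ _ h => focalSubgroup_mono h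
    exact hmono.iterate n (map_subtype_focalSubgroup_le L K)

end Cfsg.Agent.Lib.Helper4

namespace Cfsg.Agent.Lib.Helper4
open Cfsg.Agent.Lib.Helper1
universe u

theorem hall_transferFocal_eq_one_iff {G : Type u} [Group G] [Finite G] (H : Subgroup G)
    (hHall : (Nat.card H).Coprime H.index) (x : H) :
    Subgroup.transferFocal H (x : G) = 1 ↔ (x : G) ∈ H.focalSubgroup := by
  have hQ : (Nat.card (H ⧸ H.focalSubgroupOf)).Coprime H.index :=
    Nat.Coprime.coprime_dvd_left (Subgroup.card_quotient_dvd_card _) hHall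
  rw [Subgroup.transferFocal_eq_pow]
  have h1 : ((x : H ⧸ H.focalSubgroupOf) ^ H.index = 1) ↔ (x : H ⧸ H.focalSubgroupOf) = 1 := by
    constructor
    · intro h
      apply (powCoprime hQ).injective
      rw [powCoprime_apply, powCoprime_apply, h, one_pow]
    · intro h; rw [h, one_pow]
  rw [h1, QuotientGroup.eq_one_iff, Subgroup.focalSubgroupOf_def, Subgroup.mem_subgroupOf]

theorem hall_focal_ker {G : Type u} [Group G] [Finite G] (H : Subgroup G)
    (hHall : (Nat.card H).Coprime H.index) :
    (Subgroup.transferFocal H).ker ⊓ H = H.focalSubgroup := by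
  ext x
  rw [Subgroup.mem_inf, MonoidHom.mem_ker]
  constructor
  · rintro ⟨h1, h2⟩
    exact (hall_transferFocal_eq_one_iff H hHall ⟨x, h2⟩).mp h1
  · intro h
    have hx : x ∈ H := H.focalSubgroup_le h
    exact ⟨(hall_transferFocal_eq_one_iff H hHall ⟨x, hx⟩).mpr h, hx⟩

theorem hall_focal_ker_sup {G : Type u} [Group G] [Finite G] (H : Subgroup G)
    (hHall : (Nat.card H).Coprime H.index) :
    (Subgroup.transferFocal H).ker ⊔ H = ⊤ := by
  have hQ : (Nat.card (H ⧸ H.focalSubgroupOf)).Coprime H.index :=
    Nat.Coprime.coprime_dvd_left (Subgroup.card_quotient_dvd_card _) hHall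
  rw [eq_top_iff]
  intro g _
  obtain ⟨y, hy⟩ := (powCoprime hQ).surjective (Subgroup.transferFocal H g)
  obtain ⟨h, rfl⟩ := QuotientGroup.mk'_surjective _ y
  rw [powCoprime_apply] at hy
  have h1 : Subgroup.transferFocal H (h : G) = Subgroup.transferFocal H g := by
    rw [Subgroup.transferFocal_eq_pow]; exact hy
  have h2 : g * (h : G)⁻¹ ∈ (Subgroup.transferFocal H).ker := by
    rw [MonoidHom.mem_ker, map_mul, map_inv, h1, mul_inv_cancel]
  have h3 : g = (g * (h : G)⁻¹) * (h : G) := by group
  rw [h3]
  exact Subgroup.mul_mem _ (Subgroup.mem_sup_left h2) (Subgroup.mem_sup_right h.2)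

theorem exists_normal_complement_of_iterate_focal : ∀ (n : ℕ) (G : Type u) [Group G] [Finite G]
    (H : Subgroup G), (Nat.card H).Coprime H.index →
    (fun K : Subgroup G => K.focalSubgroup)^[n] H = ⊥ →
    ∃ N : Subgroup G, N.Normal ∧ Subgroup.IsComplement' N H := by
  intro n
  induction n with
  | zero =>
    intro G _ _ H _ hH
    rw [Function.iterate_zero, id] at hH
    subst hH
    exact ⟨⊤, inferInstance, Subgroup.isComplement'_top_bot⟩
  | succ n ih =>
    intro G _ _ H hHall hfoc
    rw [Function.iterate_succ_apply] at hfoc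
    set H₁ := H.focalSubgroup with hH₁
    set N₁ := (Subgroup.transferFocal H).ker with hN₁
    have hN₁n : N₁.Normal := inferInstance
    have hinf : N₁ ⊓ H = H₁ := hall_focal_ker H hHall
    have hsup : N₁ ⊔ H = ⊤ := hall_focal_ker_sup H hHall
    have hH₁N : H₁ ≤ N₁ := hinf ▸ inf_le_left
    have hH₁H : H₁ ≤ H := H.focalSubgroup_le
    set H₁' : Subgroup N₁ := H₁.subgroupOf N₁ with hH₁'
    have hmap : H₁'.map N₁.subtype = H₁ := Subgroup.map_subgroupOf_eq_of_le hH₁N
    have hcard : Nat.card H₁' = Nat.card H₁ :=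
      Nat.card_congr (Subgroup.subgroupOfEquivOfLe hH₁N).toEquiv
    have hidx : H₁'.index = H.index := by
      change H₁.relIndex N₁ = _
      rw [← hinf, Subgroup.inf_relIndex_left]
      have h1 : H ≤ Subgroup.normalizer (N₁ : Set G) := by
        rw [Subgroup.normalizer_eq_top_iff.mpr hN₁n]; exact le_top
      rw [← relIndex_sup_left_of_le_normalizer H N₁ h1, sup_comm, hsup, Subgroup.relIndex_top_right]
    have hcardH₁ : Nat.card H₁' ∣ Nat.card H := by
      rw [hcard]; exact Subgroup.card_dvd_of_le hH₁H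
    have hcop' : (Nat.card H₁').Coprime H₁'.index := by
      rw [hidx]; exact Nat.Coprime.coprime_dvd_left hcardH₁ hHall
    have hfoc' : (fun K : Subgroup N₁ => K.focalSubgroup)^[n] H₁' = ⊥ := by
      have := map_subtype_iterate_focal_le N₁ n H₁'
      rw [hmap, hfoc, le_bot_iff,
        (Subgroup.map_eq_bot_iff_of_injective _ N₁.subtype_injective)] at this
      exact this
    obtain ⟨M', hM'n, hM'c⟩ := ih N₁ H₁' hcop' hfoc'
    set M : Subgroup G := M'.map N₁.subtype with hM
    have hcM' : Nat.card M' = H.index := by rw [← hidx]; exact hM'c.index_eq_card.symm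
    have hcM : Nat.card M = H.index := by
      rw [hM, Subgroup.card_map_of_injective N₁.subtype_injective, hcM']
    have hM'hall : (Nat.card M').Coprime M'.index := by
      rw [hcM', hM'c.symm.index_eq_card]
      exact (Nat.Coprime.coprime_dvd_left hcardH₁ hHall).symm
    have hMN : M ≤ N₁ := by
      rw [hM]; exact Subgroup.map_subtype_le M'
    have hconj : ∀ g : G, MulAut.conj g • M ≤ M := by
      intro g
      have h1 : MulAut.conj g • M ≤ N₁ := by
        have := conj_smul_le_conj_smul hMN g
        rwa [Subgroup.Normal.conj_smul_eq_self g N₁] at this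
      have h2 : Nat.card ((MulAut.conj g • M).subgroupOf N₁) = Nat.card M' := by
        rw [Nat.card_congr (Subgroup.subgroupOfEquivOfLe h1).toEquiv, card_conj_smul, hcM, hcM']
      have h3 := le_of_card_dvd_of_normal_hall M' ((MulAut.conj g • M).subgroupOf N₁) hM'hall
        (dvd_of_eq h2)
      have h4 := Subgroup.map_mono (f := N₁.subtype) h3
      rwa [Subgroup.map_subgroupOf_eq_of_le h1] at h4
    refine ⟨M, ⟨fun x hx g => ?_⟩, ?_⟩
    · apply hconj g
      have := Subgroup.smul_mem_pointwise_smul x (MulAut.conj g) M hx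
      rwa [MulAut.smul_def, MulAut.conj_apply] at this
    · apply Subgroup.isComplement'_of_coprime
      · rw [hcM, mul_comm]; exact H.card_mul_index
      · rw [hcM]; exact hHall.symm

end Cfsg.Agent.Lib.Helper4
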