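import Mathlib
import Cfsg.Prelude.Def_SolvableStructure
import Cfsg.Agent.Lib.Helper4.Schmidt6
import Cfsg.Agent.Lib.Helper4.FocalIterate
import Cfsg.Agent.Lib.Helper1.Hall

set_option autoImplicit false
open Pointwise

namespace Cfsg.Agent.Lib.Helper4
open Cfsg Cfsg.Agent.Lib.Helper1
universe u

/-- existence of `p`-complements in finite solvable groups -/
theorem exists_pcomplement {G : Type u} [Group G] [Finite G] [Group.IsSolvable G] (p : ℕ)
    (hp : p.Prime) :
    ∃ Q : Subgroup G, ¬ p ∣ Nat.card Q ∧ Q.index = p ^ (Nat.card G).factorization p := by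
  set a := (Nat.card G).factorization p with ha
  have hne : Nat.card G ≠ 0 := Nat.card_pos.ne'
  have hmul : Nat.card G = (Nat.card G / p ^ a) * p ^ a :=
    (Nat.div_mul_cancel (Nat.ordProj_dvd _ _)).symm
  have hcop : (Nat.card G / p ^ a).Coprime (p ^ a) :=
    ((Nat.coprime_ordCompl hp hne).symm).pow_right a
  obtain ⟨Q, hQ⟩ := hall_exists _ G rfl _ _ hmul hcop
  refine ⟨Q, ?_, ?_⟩
  · rw [hQ]; exact Nat.not_dvd_ordCompl hp hne
  · have h1 := Q.card_mul_index
    rw [hQ] at h1
    have h2 : 0 < Nat.card G / p ^ a := Nat.div_pos (Nat.le_of_dvd Nat.card_pos (Nat.ordProj_dvd _ _))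
      (pow_pos hp.pos a)
    have h3 : (Nat.card G / p ^ a) * Q.index = (Nat.card G / p ^ a) * p ^ a := by
      rw [h1, ← hmul]
    exact Nat.eq_of_mul_eq_mul_left h2 h3

/-- a Hall subgroup of a finite nilpotent group is normal -/
theorem hall_normal_of_nilpotent {Y : Type u} [Group Y] [Finite Y] (hY : Group.IsNilpotent Y)
    (X : Subgroup Y) (hX : (Nat.card X).Coprime X.index) : X.Normal := by
  have hnc : NormalizerCondition Y := Group.normalizerCondition_of_isNilpotent
  rw [normalizerCondition_iff_only_full_group_self_normalizing] at hnc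
  set M := Subgroup.normalizer (X : Set Y) with hM
  have hXM : X ≤ M := Subgroup.le_normalizer
  have hXn : (X.subgroupOf M).Normal := Subgroup.normal_in_normalizer
  have hcardX : Nat.card (X.subgroupOf M) = Nat.card X :=
    Nat.card_congr (Subgroup.subgroupOfEquivOfLe hXM).toEquiv
  have hhall : (Nat.card (X.subgroupOf M)).Coprime (X.subgroupOf M).index := by
    rw [hcardX]
    exact Nat.Coprime.coprime_dvd_right (Subgroup.relIndex_dvd_index_of_le hXM) hX
  have hMM : Subgroup.normalizer (M : Set Y) = M := by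
    apply le_antisymm _ Subgroup.le_normalizer
    intro g hg
    rw [hM, mem_normalizer_iff_conj_smul]
    have hgM : MulAut.conj g • M = M := (mem_normalizer_iff_conj_smul M g).mp hg
    have h1 : MulAut.conj g • X ≤ M := by
      rw [← hgM]; exact conj_smul_le_conj_smul hXM g
    have h2 : Nat.card ((MulAut.conj g • X).subgroupOf M) = Nat.card (X.subgroupOf M) := by
      rw [Nat.card_congr (Subgroup.subgroupOfEquivOfLe h1).toEquiv, card_conj_smul, hcardX]
    have h3 := le_of_card_dvd_of_normal_hall (X.subgroupOf M) ((MulAut.conj g • X).subgroupOf M)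
      hhall (dvd_of_eq h2)
    have h4 := Subgroup.map_mono (f := M.subtype) h3
    rw [Subgroup.map_subgroupOf_eq_of_le h1, Subgroup.map_subgroupOf_eq_of_le hXM] at h4
    exact Subgroup.eq_of_le_of_card_ge h4 (by rw [card_conj_smul])
  have := hnc M hMM
  exact Subgroup.normalizer_eq_top_iff.mp this

/-- in a finite nilpotent group a `p`-subgroup commutes with every subgroup of order prime to `p` -/
theorem commute_of_nilpotent_pgroup_pprime {Y : Type u} [Group Y] [Finite Y]
    (hY : Group.IsNilpotent Y) {p : ℕ} [hp : Fact p.Prime] (A B : Subgroup Y) (hA : IsPGroup p A)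
    (hB : ¬ p ∣ Nat.card B) : ∀ a ∈ A, ∀ b ∈ B, a * b = b * a := by
  have hsol : Group.IsSolvable Y := inferInstance
  obtain ⟨Q, hQp, hQi⟩ := exists_pcomplement (G := Y) p hp.out
  have hQhall : (Nat.card Q).Coprime Q.index := by
    rw [hQi]
    exact ((Nat.Prime.coprime_iff_not_dvd hp.out).mpr hQp).symm.pow_right _
  have hQn : Q.Normal := hall_normal_of_nilpotent hY Q hQhall
  obtain ⟨P, hAP⟩ := hA.exists_le_sylow
  have hall := (Group.isNilpotent_of_finite_tfae (G := Y)).out 0 3 |>.mp hY
  have hPn : (P : Subgroup Y).Normal := hall p inferInstance P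
  have hBQ : B ≤ Q := by
    apply le_of_coprime_card_index
    rw [hQi]
    exact ((Nat.Prime.coprime_iff_not_dvd hp.out).mpr hB).symm.pow_right _
  have hdis : Disjoint (P : Subgroup Y) Q := by
    apply Subgroup.disjoint_of_coprime_natCard
    obtain ⟨k, hk⟩ := (IsPGroup.iff_card).mp P.2
    rw [hk]
    exact ((Nat.Prime.coprime_iff_not_dvd hp.out).mpr hQp).pow_left k
  intro a ha b hb
  exact Subgroup.commute_of_normal_of_disjoint _ _ hPn hQn hdis a b (hAP ha) (hBQ hb)

/-- `|BN : AN|` divides `|B : A|` -/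
theorem relIndex_sup_normal_dvd {G : Type u} [Group G] [Finite G] (A B N : Subgroup G)
    [hN : N.Normal] (hAB : A ≤ B) : (A ⊔ N).relIndex (B ⊔ N) ∣ A.relIndex B := by
  have hAn : A ≤ Subgroup.normalizer (N : Set G) := by
    rw [Subgroup.normalizer_eq_top_iff.mpr hN]; exact le_top
  have hBn : B ≤ Subgroup.normalizer (N : Set G) := by
    rw [Subgroup.normalizer_eq_top_iff.mpr hN]; exact le_top
  have h1 := card_sup_mul_card_inf A N hAn
  have h2 := card_sup_mul_card_inf B N hBn
  have h3 := card_mul_relIndex (sup_le_sup_right hAB N)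
  have h4 := card_mul_relIndex hAB
  have h5 := card_mul_relIndex (inf_le_inf_right N hAB)
  refine ⟨(A ⊓ N).relIndex (B ⊓ N), ?_⟩
  have hpos : 0 < Nat.card A * Nat.card N := Nat.mul_pos Nat.card_pos Nat.card_pos
  apply Nat.eq_of_mul_eq_mul_left hpos
  calc Nat.card A * Nat.card N * A.relIndex B
      = (Nat.card A * A.relIndex B) * Nat.card N := by ring
    _ = Nat.card B * Nat.card N := by rw [h4]
    _ = Nat.card (B ⊔ N : Subgroup G) * Nat.card (B ⊓ N : Subgroup G) := h2.symm
    _ = (Nat.card (A ⊔ N : Subgroup G) * (A ⊔ N).relIndex (B ⊔ N)) *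
          (Nat.card (A ⊓ N : Subgroup G) * (A ⊓ N).relIndex (B ⊓ N)) := by rw [h3, h5]
    _ = (Nat.card (A ⊔ N : Subgroup G) * Nat.card (A ⊓ N : Subgroup G)) *
          ((A ⊔ N).relIndex (B ⊔ N) * (A ⊓ N).relIndex (B ⊓ N)) := by ring
    _ = Nat.card A * Nat.card N * ((A ⊔ N).relIndex (B ⊔ N) * (A ⊓ N).relIndex (B ⊓ N)) := by
        rw [h1]

/-- Frattini argument for Hall subgroups of a solvable normal subgroup -/
theorem frattini_hall {G : Type u} [Group G] [Finite G] (A : Subgroup G) [hA : A.Normal]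
    [hAs : Group.IsSolvable A] (X : Subgroup G) (hXA : X ≤ A)
    (hX : (Nat.card X).Coprime (X.relIndex A)) :
    A ⊔ Subgroup.normalizer (X : Set G) = ⊤ := by
  rw [eq_top_iff]
  intro g _
  have h1 : MulAut.conj g • X ≤ A := by
    have := conj_smul_le_conj_smul hXA g
    rwa [Subgroup.Normal.conj_smul_eq_self g A] at this
  have hc1 : Nat.card (X.subgroupOf A) = Nat.card X :=
    Nat.card_congr (Subgroup.subgroupOfEquivOfLe hXA).toEquiv
  have hc2 : Nat.card ((MulAut.conj g • X).subgroupOf A) = Nat.card X := by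
    rw [Nat.card_congr (Subgroup.subgroupOfEquivOfLe h1).toEquiv, card_conj_smul]
  have hcA : Nat.card A = Nat.card X * X.relIndex A := (card_mul_relIndex hXA).symm
  obtain ⟨a, ha⟩ := hall_conj (G := A) (Nat.card X) (X.relIndex A) hcA hX
    ((MulAut.conj g • X).subgroupOf A) (X.subgroupOf A) hc2 hc1
  have h2 : MulAut.conj (a : G) • (MulAut.conj g • X) = X :=
    conj_eq_of_subgroupOf_conj_eq h1 hXA a ha
  rw [← mul_smul, ← map_mul] at h2
  have h3 : (a : G) * g ∈ Subgroup.normalizer (X : Set G) :=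
    (mem_normalizer_iff_conj_smul X _).mpr h2
  have h4 : g = (a : G)⁻¹ * ((a : G) * g) := by group
  rw [h4]
  exact Subgroup.mul_mem _ (Subgroup.mem_sup_left (A.inv_mem a.2)) (Subgroup.mem_sup_right h3)

end Cfsg.Agent.Lib.Helper4
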