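import Mathlib
import Cfsg.Prelude.Def_SolvableStructure
import Cfsg.Agent.Lib.Helper4.Carter1
import Cfsg.Agent.Lib.Helper1.Coprime

set_option autoImplicit false
open Pointwise

namespace Cfsg.Agent.Lib.Helper4
open Cfsg Cfsg.Agent.Lib.Helper1
universe u

theorem isNilpotent_of_mulEquiv {A B : Type*} [Group A] [Group B] (e : A ≃* B)
    (h : Group.IsNilpotent A) : Group.IsNilpotent B :=
  Group.nilpotent_of_surjective e.toMonoidHom e.surjective

theorem carter_conj {G : Type u} [Group G] (C : Subgroup G) (hC : IsCarterSubgroup C) (g : G) :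
    IsCarterSubgroup (MulAut.conj g • C) := by
  refine ⟨isNilpotent_of_mulEquiv (Subgroup.equivSMul (MulAut.conj g) C) hC.1, ?_⟩
  rw [← conj_smul_normalizer, hC.2]

theorem carter_subgroupOf {G : Type u} [Group G] (C L : Subgroup G) (hC : IsCarterSubgroup C)
    (hCL : C ≤ L) : IsCarterSubgroup (C.subgroupOf L) := by
  refine ⟨isNilpotent_of_mulEquiv (Subgroup.subgroupOfEquivOfLe hCL).symm hC.1, ?_⟩
  rw [← Subgroup.subgroupOf_normalizer_eq hCL, hC.2]

theorem carter_eq_top_of_nilpotent {G : Type u} [Group G] (hG : Group.IsNilpotent G)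
    (C : Subgroup G) (hC : IsCarterSubgroup C) : C = ⊤ := by
  have hnc : NormalizerCondition G := Group.normalizerCondition_of_isNilpotent
  rw [normalizerCondition_iff_only_full_group_self_normalizing] at hnc
  exact hnc C hC.2

/-- a Carter subgroup of a subgroup `L`, pushed to `G`, is Carter in `L` in the internal sense -/
theorem carter_map_subtype_iff {G : Type u} [Group G] (L : Subgroup G) (C : Subgroup L) :
    IsCarterSubgroup C ↔ (Group.IsNilpotent (C.map L.subtype) ∧
      Subgroup.normalizer ((C.map L.subtype : Subgroup G) : Set G) ⊓ L = C.map L.subtype) := by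
  have hle : C.map L.subtype ≤ L := Subgroup.map_subtype_le C
  have hso : (C.map L.subtype).subgroupOf L = C := by
    ext x
    rw [Subgroup.mem_subgroupOf, Subgroup.mem_map]
    constructor
    · rintro ⟨y, hy, hyx⟩
      have : y = x := Subtype.ext hyx
      rw [← this]; exact hy
    · intro hx; exact ⟨x, hx, rfl⟩
  have e : C ≃* C.map L.subtype := C.equivMapOfInjective L.subtype L.subtype_injective
  constructor
  · rintro ⟨h1, h2⟩
    refine ⟨isNilpotent_of_mulEquiv e h1, ?_⟩
    apply le_antisymm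
    · intro x hx
      have hxL : x ∈ L := hx.2
      have h3 : (⟨x, hxL⟩ : L) ∈ Subgroup.normalizer (C : Set L) := by
        rw [← hso, ← Subgroup.subgroupOf_normalizer_eq hle, Subgroup.mem_subgroupOf]
        exact hx.1
      rw [h2] at h3
      exact ⟨⟨x, hxL⟩, h3, rfl⟩
    · exact le_inf Subgroup.le_normalizer hle
  · rintro ⟨h1, h2⟩
    refine ⟨isNilpotent_of_mulEquiv e.symm h1, ?_⟩
    apply le_antisymm _ Subgroup.le_normalizer
    intro x hx
    rw [← hso, ← Subgroup.subgroupOf_normalizer_eq hle, Subgroup.mem_subgroupOf] at hx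
    have h3 : (x : G) ∈ Subgroup.normalizer ((C.map L.subtype : Subgroup G) : Set G) ⊓ L :=
      Subgroup.mem_inf.mpr ⟨hx, x.2⟩
    rw [h2] at h3
    obtain ⟨y, hy, hyx⟩ := h3
    have : y = x := Subtype.ext hyx
    rw [← this]; exact hy

/-- images of Carter subgroups in quotients, assuming conjugacy of Carter subgroups in proper
subgroups -/
theorem carter_map_of_conj {G : Type u} [Group G] [Finite G]
    (hconj : ∀ L : Subgroup G, L ≠ ⊤ → ∀ C₁ C₂ : Subgroup L, IsCarterSubgroup C₁ →
      IsCarterSubgroup C₂ → ∃ l : L, MulAut.conj l • C₁ = C₂)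
    (C : Subgroup G) (hC : IsCarterSubgroup C) (N : Subgroup G) [hN : N.Normal] :
    IsCarterSubgroup (C.map (QuotientGroup.mk' N)) := by
  have hC1 := hC.1
  refine ⟨Group.nilpotent_of_surjective ((QuotientGroup.mk' N).subgroupMap C)
    ((QuotientGroup.mk' N).subgroupMap_surjective C), ?_⟩
  apply le_antisymm _ Subgroup.le_normalizer
  intro y hy
  obtain ⟨x, rfl⟩ := QuotientGroup.mk'_surjective N y
  set L := C ⊔ N with hL
  have hmapL : L.map (QuotientGroup.mk' N) = C.map (QuotientGroup.mk' N) := by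
    rw [hL, Subgroup.map_sup]
    have : N.map (QuotientGroup.mk' N) = ⊥ := by
      rw [eq_bot_iff]
      rintro _ ⟨n, hn, rfl⟩
      rw [Subgroup.mem_bot]
      exact (QuotientGroup.eq_one_iff n).mpr hn
    rw [this, sup_bot_eq]
  -- x normalizes L
  have hxL : MulAut.conj x • L = L := by
    rw [mem_normalizer_iff_conj_smul, ← map_conj_smul] at hy
    have h2 := congrArg (Subgroup.comap (QuotientGroup.mk' N)) hy
    rw [Subgroup.comap_map_eq, Subgroup.comap_map_eq, QuotientGroup.ker_mk'] at h2
    have h3 : MulAut.conj x • L = MulAut.conj x • C ⊔ N := by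
      rw [hL, Subgroup.smul_sup, Subgroup.Normal.conj_smul_eq_self x N]
    rw [h3, h2]
  by_cases hLtop : L = ⊤
  · rw [← hmapL, hLtop]
    exact ⟨x, Subgroup.mem_top x, rfl⟩
  · have hCL : C ≤ L := le_sup_left
    have hC'L : MulAut.conj x • C ≤ L := by
      rw [← hxL]; exact conj_smul_le_conj_smul hCL x
    obtain ⟨l, hl⟩ := hconj L hLtop _ _ (carter_subgroupOf C L hC hCL)
      (carter_subgroupOf _ L (carter_conj C hC x) hC'L)
    have h2 : MulAut.conj (l : G) • C = MulAut.conj x • C :=
      conj_eq_of_subgroupOf_conj_eq hCL hC'L l hl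
    have h3 : (l : G)⁻¹ * x ∈ Subgroup.normalizer (C : Set G) := by
      rw [mem_normalizer_iff_conj_smul, map_mul, mul_smul, ← h2, map_inv, inv_smul_smul]
    rw [hC.2] at h3
    rw [← hmapL]
    refine ⟨x, ?_, rfl⟩
    have h4 : x = (l : G) * ((l : G)⁻¹ * x) := by group
    rw [h4]
    exact L.mul_mem l.2 (hCL h3)

end Cfsg.Agent.Lib.Helper4
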