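import Mathlib
import Cfsg.Prelude.Def_SolvableStructure
import Cfsg.Agent.Lib.Helper4.Carter2

set_option autoImplicit false
open Pointwise

namespace Cfsg.Agent.Lib.Helper4
open Cfsg Cfsg.Agent.Lib.Helper1
universe u

theorem isNilpotent_of_injective' {H K : Type*} [Group H] [Group K] (f : H →* K)
    (hf : Function.Injective f) (hK : Group.IsNilpotent K) : Group.IsNilpotent H := by
  apply Subgroup.isNilpotent_of_ker_le_center f
  rw [(MonoidHom.ker_eq_bot_iff f).mpr hf]
  exact bot_le

/-- Frattini argument for Hall subgroups, elementwise relative form -/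
theorem frattini_hall_elt {G : Type u} [Group G] [Finite G] (A X : Subgroup G)
    [hAs : Group.IsSolvable A] (hXA : X ≤ A)
    (hX : (Nat.card X).Coprime (X.relIndex A)) (g : G)
    (hg : g ∈ Subgroup.normalizer (A : Set G)) :
    ∃ a ∈ A, a * g ∈ Subgroup.normalizer (X : Set G) := by
  have hgA : MulAut.conj g • A = A := (mem_normalizer_iff_conj_smul A g).mp hg
  have h1 : MulAut.conj g • X ≤ A := by
    have := conj_smul_le_conj_smul hXA g
    rwa [hgA] at this
  have hc1 : Nat.card (X.subgroupOf A) = Nat.card X :=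
    Nat.card_congr (Subgroup.subgroupOfEquivOfLe hXA).toEquiv
  have hc2 : Nat.card ((MulAut.conj g • X).subgroupOf A) = Nat.card X := by
    rw [Nat.card_congr (Subgroup.subgroupOfEquivOfLe h1).toEquiv, card_conj_smul]
  have hcA : Nat.card A = Nat.card X * X.relIndex A := (card_mul_relIndex hXA).symm
  obtain ⟨a, ha⟩ := hall_conj (G := A) (Nat.card X) (X.relIndex A) hcA hX
    ((MulAut.conj g • X).subgroupOf A) (X.subgroupOf A) hc2 hc1
  have h2 : MulAut.conj (a : G) • (MulAut.conj g • X) = X :=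
    conj_eq_of_subgroupOf_conj_eq h1 hXA a ha
  rw [← mul_smul, ← map_mul] at h2
  exact ⟨a, a.2, (mem_normalizer_iff_conj_smul X _).mpr h2⟩

/-- data: a `p`-complement of a subgroup `K`, as a subgroup of `G` -/
theorem exists_pcomplement_le {G : Type u} [Group G] [Finite G] [Group.IsSolvable G] (p : ℕ)
    (hp : p.Prime) (K : Subgroup G) :
    ∃ Q : Subgroup G, Q ≤ K ∧ ¬ p ∣ Nat.card Q ∧ ∃ a : ℕ, Q.relIndex K = p ^ a := by
  obtain ⟨Q', hQ'p, hQ'i⟩ := exists_pcomplement (G := K) p hp
  refine ⟨Q'.map K.subtype, Subgroup.map_subtype_le Q', ?_, (Nat.card ↥K).factorization p, ?_⟩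
  · rw [Subgroup.card_map_of_injective K.subtype_injective]; exact hQ'p
  · rw [← hQ'i, Subgroup.relIndex]
    congr 1
    ext x
    rw [Subgroup.mem_subgroupOf, Subgroup.mem_map]
    constructor
    · rintro ⟨y, hy, hyx⟩
      have : y = x := Subtype.ext hyx
      rw [← this]; exact hy
    · intro hx; exact ⟨x, hx, rfl⟩

end Cfsg.Agent.Lib.Helper4

namespace Cfsg.Agent.Lib.Helper4
open Cfsg Cfsg.Agent.Lib.Helper1
universe u

theorem carter_exists_step {G : Type u} [Group G] [Finite G] [Group.IsSolvable G] {p : ℕ}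
    [hp : Fact p.Prime] (N : Subgroup G) [hN : N.Normal] (hNp : IsPGroup p N)
    (Hb : Subgroup (G ⧸ N)) (hHb : IsCarterSubgroup Hb) :
    ∃ C : Subgroup G, IsCarterSubgroup C := by
  set f := QuotientGroup.mk' N with hf
  have hfs : Function.Surjective f := QuotientGroup.mk'_surjective N
  set K := Hb.comap f with hK
  have hNK : N ≤ K := by
    intro x hx
    rw [hK, Subgroup.mem_comap]
    have : f x = 1 := (QuotientGroup.eq_one_iff x).mpr hx
    rw [this]; exact Subgroup.one_mem _
  have hKmap : K.map f = Hb := Subgroup.map_comap_eq_self_of_surjective hfs Hb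
  obtain ⟨Q, hQK, hQp, a, hQa⟩ := exists_pcomplement_le p hp.out K
  have hcopQ : ∀ j : ℕ, (Nat.card Q).Coprime (p ^ j) := fun j =>
    ((Nat.Prime.coprime_iff_not_dvd hp.out).mpr hQp).symm.pow_right j
  have hQN : Q ⊓ N = ⊥ := by
    apply disjoint_iff.mp
    apply Subgroup.disjoint_of_coprime_natCard
    obtain ⟨k, hk⟩ := (IsPGroup.iff_card).mp hNp
    rw [hk]; exact hcopQ k
  -- (1) K normalizes Q ⊔ N
  set Qb := Q.map f with hQb
  have hQbHb : Qb ≤ Hb := by rw [← hKmap]; exact Subgroup.map_mono hQK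
  have hcomapQb : Qb.comap f = Q ⊔ N := by
    rw [hQb, Subgroup.comap_map_eq, QuotientGroup.ker_mk']
  have hQNK : Q ⊔ N ≤ K := sup_le hQK hNK
  have hrelQN : ∃ j : ℕ, (Q ⊔ N).relIndex K = p ^ j := by
    have h1 := relIndex_sup_normal_dvd Q K N hQK
    rw [sup_eq_left.mpr hNK, hQa] at h1
    obtain ⟨j, _, hj⟩ := (Nat.dvd_prime_pow hp.out).mp h1
    exact ⟨j, hj⟩
  have hKnorm : K ≤ Subgroup.normalizer ((Q ⊔ N : Subgroup G) : Set G) := by
    have hrel : Qb.relIndex Hb = (Q ⊔ N).relIndex K := by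
      rw [← hcomapQb, Subgroup.relIndex_comap, hKmap]
    obtain ⟨j, hj⟩ := hrelQN
    have hhall : (Nat.card (Qb.subgroupOf Hb)).Coprime (Qb.subgroupOf Hb).index := by
      rw [Nat.card_congr (Subgroup.subgroupOfEquivOfLe hQbHb).toEquiv]
      change (Nat.card Qb).Coprime (Qb.relIndex Hb)
      rw [hrel, hj]
      exact Nat.Coprime.coprime_dvd_left (Subgroup.card_map_dvd Q f) (hcopQ j)
    have hn : (Qb.subgroupOf Hb).Normal := hall_normal_of_nilpotent hHb.1 _ hhall
    have h2 : Hb ≤ Subgroup.normalizer (Qb : Set (G ⧸ N)) :=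
      (Subgroup.normal_subgroupOf_iff_le_normalizer hQbHb).mp hn
    have h3 := Subgroup.comap_mono (f := f) h2
    rw [Subgroup.comap_normalizer_eq_of_surjective _ hfs, hcomapQb] at h3
    exact h3
  -- the candidate
  set C := Subgroup.normalizer (Q : Set G) ⊓ K with hC
  have hQC : Q ≤ C := le_inf Subgroup.le_normalizer hQK
  have hCK : C ≤ K := inf_le_right
  have hCnQ : C ≤ Subgroup.normalizer (Q : Set G) := inf_le_left
  -- (2) K = N C
  have hQhallQN : (Nat.card Q).Coprime (Q.relIndex (Q ⊔ N)) := by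
    have h1 : Q.relIndex (Q ⊔ N) ∣ p ^ a := by
      rw [← hQa]
      exact Dvd.intro _ (Subgroup.relIndex_mul_relIndex Q (Q ⊔ N) K le_sup_left hQNK)
    obtain ⟨j, _, hj⟩ := (Nat.dvd_prime_pow hp.out).mp h1
    rw [hj]; exact hcopQ j
  have hKNC : K ≤ N ⊔ C := by
    intro k hk
    obtain ⟨x, hx, hxk⟩ := frattini_hall_elt (Q ⊔ N) Q le_sup_left hQhallQN k (hKnorm hk)
    obtain ⟨q, hq, n, hn, rfl⟩ := Subgroup.mem_sup_of_normal_right.mp hx
    have h1 : n * k ∈ Subgroup.normalizer (Q : Set G) := by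
      have h2 : n * k = q⁻¹ * (q * n * k) := by group
      rw [h2]
      exact Subgroup.mul_mem _ (Subgroup.le_normalizer (Q.inv_mem hq)) hxk
    have h3 : n * k ∈ C := Subgroup.mem_inf.mpr ⟨h1, K.mul_mem (hNK hn) hk⟩
    have h4 : k = n⁻¹ * (n * k) := by group
    rw [h4]
    exact Subgroup.mul_mem _ (Subgroup.mem_sup_left (N.inv_mem hn)) (Subgroup.mem_sup_right h3)
  have hCmap : C.map f = Hb := by
    apply le_antisymm
    · rw [← hKmap]; exact Subgroup.map_mono hCK
    · rw [← hKmap]
      rintro _ ⟨k, hk, rfl⟩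
      obtain ⟨n, hn, c, hc, rfl⟩ := Subgroup.mem_sup_of_normal_left.mp (hKNC hk)
      refine ⟨c, hc, ?_⟩
      rw [map_mul]
      have : f n = 1 := (QuotientGroup.eq_one_iff n).mpr hn
      rw [this, one_mul]
  refine ⟨C, ?_, ?_⟩
  · -- (3) C nilpotent
    set Qc : Subgroup C := Q.subgroupOf C with hQc
    have hQcn : Qc.Normal := (Subgroup.normal_subgroupOf_iff_le_normalizer hQC).mpr hCnQ
    have hQcard : Nat.card Qc = Nat.card Q :=
      Nat.card_congr (Subgroup.subgroupOfEquivOfLe hQC).toEquiv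
    obtain ⟨j, hj⟩ : ∃ j : ℕ, Qc.index = p ^ j := by
      have h1 : Q.relIndex C ∣ p ^ a := by
        rw [← hQa]
        exact Dvd.intro _ (Subgroup.relIndex_mul_relIndex Q C K hQC hCK)
      obtain ⟨j, _, hj⟩ := (Nat.dvd_prime_pow hp.out).mp h1
      exact ⟨j, hj⟩
    -- Q is nilpotent
    have hQnil : Group.IsNilpotent Q := by
      let φQ : Q →* Hb := (f.comp Q.subtype).codRestrict Hb
        (fun q => hQbHb (Subgroup.mem_map_of_mem f q.2))
      apply isNilpotent_of_injective' φQ _ hHb.1
      rw [← MonoidHom.ker_eq_bot_iff, eq_bot_iff]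
      intro q hq
      rw [MonoidHom.mem_ker] at hq
      have h1 : f (q : G) = 1 := congrArg Subtype.val hq
      have h2 : (q : G) ∈ Q ⊓ N := Subgroup.mem_inf.mpr ⟨q.2, (QuotientGroup.eq_one_iff _).mp h1⟩
      rw [hQN, Subgroup.mem_bot] at h2
      rw [Subgroup.mem_bot]
      exact Subtype.ext h2
    have hQcnil : Group.IsNilpotent Qc :=
      isNilpotent_of_mulEquiv (Subgroup.subgroupOfEquivOfLe hQC).symm hQnil
    -- the map C → Hb
    let φ : C →* Hb := (f.comp C.subtype).codRestrict Hb
      (fun c => by rw [← hCmap]; exact Subgroup.mem_map_of_mem f c.2)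
    -- Sylow r-subgroups for r ≠ p lie in Qc
    have hRle : ∀ (r : ℕ) [Fact r.Prime], r ≠ p → ∀ R : Sylow r C, (R : Subgroup C) ≤ Qc := by
      intro r hr hrp R
      apply le_of_coprime_card_index
      obtain ⟨k, hk⟩ := (IsPGroup.iff_card).mp R.2
      rw [hk, hj]
      exact Nat.Coprime.pow _ _ ((Nat.coprime_primes hr.out hp.out).mpr hrp)
    apply (Group.isNilpotent_of_finite_tfae (G := C)).out 3 0 |>.mp
    intro r hr R
    by_cases hrp : r = p
    · subst hrp
      -- Qc centralizes R
      have hcent : Qc ≤ Subgroup.centralizer ((R : Subgroup C) : Set C) := by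
        intro q hq
        rw [Subgroup.mem_centralizer_iff]
        intro x hx
        have hcomm := commute_of_nilpotent_pgroup_pprime hHb.1 ((R : Subgroup C).map φ)
          (Qc.map φ) (R.2.map φ)
          (fun hd => hQp (by
            rw [← hQcard]; exact hd.trans (Subgroup.card_map_dvd Qc φ)))
          (φ x) (Subgroup.mem_map_of_mem φ hx) (φ q) (Subgroup.mem_map_of_mem φ hq)
        -- (x q)⁻¹ (q x) ∈ N ∩ Q
        have h1 : f (((x * q)⁻¹ * (q * x) : C) : G) = 1 := by
          have h2 : φ ((x * q)⁻¹ * (q * x)) = 1 := by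
            rw [map_mul, map_inv, map_mul, map_mul, hcomm]; group
          exact congrArg Subtype.val h2
        have h3 : (((x * q)⁻¹ * (q * x) : C) : G) ∈ N := (QuotientGroup.eq_one_iff _).mp h1
        have h4 : (((x * q)⁻¹ * (q * x) : C) : G) ∈ Q := by
          have hqQ : (q : G) ∈ Q := Subgroup.mem_subgroupOf.mp hq
          have hxn : (x : G) ∈ Subgroup.normalizer (Q : Set G) := hCnQ x.2
          have e : (((x * q)⁻¹ * (q * x) : C) : G) =
              (q : G)⁻¹ * ((x : G)⁻¹ * (q : G) * (x : G)) := by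
            simp only [Subgroup.coe_mul, Subgroup.coe_inv]; group
          rw [e]
          refine Q.mul_mem (Q.inv_mem hqQ) ?_
          have := (Subgroup.mem_normalizer_iff''.mp hxn (q : G)).mp hqQ
          exact this
        have h5 : (((x * q)⁻¹ * (q * x) : C) : G) ∈ Q ⊓ N := Subgroup.mem_inf.mpr ⟨h4, h3⟩
        rw [hQN, Subgroup.mem_bot] at h5
        have h6 : (x * q)⁻¹ * (q * x) = 1 := Subtype.ext h5
        have h7 : q * x = (x * q) * ((x * q)⁻¹ * (q * x)) := by group
        rw [h7, h6, mul_one]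
      rw [← Subgroup.normalizer_eq_top_iff]
      apply eq_top_of_forall_sylow_le
      intro s hs
      by_cases hsp : s = r
      · subst hsp
        exact ⟨R, Subgroup.le_normalizer⟩
      · let S : Sylow s C := default
        exact ⟨S, (hRle s hsp S).trans (hcent.trans (Subgroup.centralizer_le_normalizer _))⟩
    · exact sylow_normal_of_le_normal_nilpotent Qc hQcnil R (hRle r hrp R)
  · -- (4) self-normalizing
    apply le_antisymm _ Subgroup.le_normalizer
    intro x hx
    have hxC : MulAut.conj x • C = C := (mem_normalizer_iff_conj_smul C x).mp hx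
    apply Subgroup.mem_inf.mpr
    constructor
    · -- x normalizes Q
      rw [mem_normalizer_iff_conj_smul]
      set Qc : Subgroup C := Q.subgroupOf C with hQc
      have hQcn : Qc.Normal := (Subgroup.normal_subgroupOf_iff_le_normalizer hQC).mpr hCnQ
      have hQcard : Nat.card Qc = Nat.card Q :=
        Nat.card_congr (Subgroup.subgroupOfEquivOfLe hQC).toEquiv
      have hhall : (Nat.card Qc).Coprime Qc.index := by
        have h1 : Q.relIndex C ∣ p ^ a := by
          rw [← hQa]
          exact Dvd.intro _ (Subgroup.relIndex_mul_relIndex Q C K hQC hCK)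
        obtain ⟨j, _, hj⟩ := (Nat.dvd_prime_pow hp.out).mp h1
        change (Nat.card Qc).Coprime (Q.relIndex C)
        rw [hQcard, hj]; exact hcopQ j
      have h1 : MulAut.conj x • Q ≤ C := by
        rw [← hxC]; exact conj_smul_le_conj_smul hQC x
      have h2 : Nat.card ((MulAut.conj x • Q).subgroupOf C) = Nat.card Qc := by
        rw [Nat.card_congr (Subgroup.subgroupOfEquivOfLe h1).toEquiv, card_conj_smul, hQcard]
      have h3 := le_of_card_dvd_of_normal_hall Qc ((MulAut.conj x • Q).subgroupOf C) hhall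
        (dvd_of_eq h2)
      have h4 := Subgroup.map_mono (f := C.subtype) h3
      rw [Subgroup.map_subgroupOf_eq_of_le h1, Subgroup.map_subgroupOf_eq_of_le hQC] at h4
      exact Subgroup.eq_of_le_of_card_ge h4 (by rw [card_conj_smul])
    · -- x ∈ K
      have h1 : f x ∈ Subgroup.normalizer (Hb : Set (G ⧸ N)) := by
        rw [mem_normalizer_iff_conj_smul, ← hCmap, ← map_conj_smul, hxC]
      rw [hHb.2] at h1
      exact h1

end Cfsg.Agent.Lib.Helper4
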