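import Mathlib
import Cfsg.Prelude.Def_SolvableStructure
import Cfsg.Agent.Lib.Helper4.Carter3
import Cfsg.Agent.Lib.Helper1.SZConj
import Cfsg.Agent.Lib.Helper1.MinNormal

set_option autoImplicit false
open Pointwise

namespace Cfsg.Agent.Lib.Helper4
open Cfsg Cfsg.Agent.Lib.Helper1
universe u

/-- `C ⊓ N` is normal when `N` is abelian normal and `C ⊔ N = ⊤` -/
theorem inf_normal_of_sup_eq_top {G : Type u} [Group G] (C N : Subgroup G) [hN : N.Normal]
    (hNc : ∀ x ∈ N, ∀ y ∈ N, x * y = y * x) (hCN : C ⊔ N = ⊤) : (C ⊓ N).Normal := by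
  rw [← Subgroup.normalizer_eq_top_iff, eq_top_iff, ← hCN]
  apply sup_le
  · intro c hc
    rw [Subgroup.mem_normalizer_iff]
    intro x
    constructor
    · intro hx
      exact Subgroup.mem_inf.mpr ⟨C.mul_mem (C.mul_mem hc (Subgroup.mem_inf.mp hx).1) (C.inv_mem hc),
        hN.conj_mem x (Subgroup.mem_inf.mp hx).2 c⟩
    · intro hx
      have h1 := Subgroup.mem_inf.mp hx
      have e : x = c⁻¹ * (c * x * c⁻¹) * c⁻¹⁻¹ := by group
      rw [e]
      exact Subgroup.mem_inf.mpr ⟨C.mul_mem (C.mul_mem (C.inv_mem hc) h1.1) (C.inv_mem (C.inv_mem hc)),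
        hN.conj_mem _ h1.2 c⁻¹⟩
  · intro n hn
    rw [Subgroup.mem_normalizer_iff]
    intro x
    constructor
    · intro hx
      have hxN := (Subgroup.mem_inf.mp hx).2
      have e : n * x * n⁻¹ = x := by rw [hNc n hn x hxN, mul_inv_cancel_right]
      rw [e]; exact hx
    · intro hx
      have hxN : n * x * n⁻¹ ∈ N := (Subgroup.mem_inf.mp hx).2
      have hxN' : x ∈ N := by
        have e : x = n⁻¹ * (n * x * n⁻¹) * n := by group
        rw [e]
        exact N.mul_mem (N.mul_mem (N.inv_mem hn) hxN) hn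
      have e : n * x * n⁻¹ = x := by rw [hNc n hn x hxN', mul_inv_cancel_right]
      rw [e] at hx; exact hx

theorem isNilpotent_of_eq_top {G : Type u} [Group G] (C : Subgroup G) (h : C = ⊤)
    (hC : Group.IsNilpotent C) : Group.IsNilpotent G := by
  subst h
  exact isNilpotent_of_mulEquiv Subgroup.topEquiv hC

/-- conjugacy of two Carter subgroups both supplementing a minimal normal subgroup -/
theorem carter_conj_case_top {G : Type u} [Group G] [Finite G] [Group.IsSolvable G]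
    (hsub : ∀ L : Subgroup G, L ≠ ⊤ → ∀ C₁ C₂ : Subgroup L, IsCarterSubgroup C₁ →
      IsCarterSubgroup C₂ → ∃ l : L, MulAut.conj l • C₁ = C₂)
    (N : Subgroup G) (hN : IsMinNormal N) (C₁ C₂ : Subgroup G) (hC₁ : IsCarterSubgroup C₁)
    (hC₂ : IsCarterSubgroup C₂) (h₁ : C₁ ⊔ N = ⊤) (h₂ : C₂ ⊔ N = ⊤) :
    ∃ g : G, MulAut.conj g • C₁ = C₂ := by
  have hNn : N.Normal := hN.1
  have hNcomm := hN.isMulCommutative
  have hNc : ∀ x ∈ N, ∀ y ∈ N, x * y = y * x := comm_of_isMulCommutative N hNcomm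
  obtain ⟨p, hp, hNp⟩ := hN.exists_prime_isPGroup
  have : Fact p.Prime := ⟨hp⟩
  have hn₁ := inf_normal_of_sup_eq_top C₁ N hNc h₁
  have hn₂ := inf_normal_of_sup_eq_top C₂ N hNc h₂
  -- if a Carter subgroup is everything, so is the other
  have htop : ∀ D₁ D₂ : Subgroup G, IsCarterSubgroup D₁ → IsCarterSubgroup D₂ → D₁ = ⊤ →
      ∃ g : G, MulAut.conj g • D₁ = D₂ := by
    intro D₁ D₂ hD₁ hD₂ h
    have hG : Group.IsNilpotent G := isNilpotent_of_eq_top D₁ h hD₁.1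
    have h2 := carter_eq_top_of_nilpotent hG D₂ hD₂
    exact ⟨1, by rw [map_one, one_smul, h, h2]⟩
  rcases hN.2.2 _ hn₁ inf_le_right with hb₁ | hb₁
  swap
  · apply htop C₁ C₂ hC₁ hC₂
    rw [← h₁]
    exact (sup_eq_left.mpr (hb₁ ▸ inf_le_left)).symm
  rcases hN.2.2 _ hn₂ inf_le_right with hb₂ | hb₂
  swap
  · obtain ⟨g, hg⟩ := htop C₂ C₁ hC₂ hC₁ (by
      rw [← h₂]; exact (sup_eq_left.mpr (hb₂ ▸ inf_le_left)).symm)
    refine ⟨g⁻¹, ?_⟩
    rw [← hg, map_inv, inv_smul_smul]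
  -- both are complements of N
  obtain ⟨k, hk⟩ := (IsPGroup.iff_card).mp hNp
  have hidx : ∀ C : Subgroup G, C ⊔ N = ⊤ → C ⊓ N = ⊥ → C.index = p ^ k := by
    intro C hs hi
    have hCn : C ≤ Subgroup.normalizer (N : Set G) := by
      rw [Subgroup.normalizer_eq_top_iff.mpr hNn]; exact le_top
    have h1 := card_sup_mul_card_inf C N hCn
    rw [hs, hi, Subgroup.card_top, Subgroup.card_bot, mul_one, ← C.card_mul_index, hk] at h1
    exact Nat.eq_of_mul_eq_mul_left Nat.card_pos h1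
  -- p-complements
  have hQ : ∀ C : Subgroup G, C ⊔ N = ⊤ → C ⊓ N = ⊥ → ∃ Q : Subgroup G, Q ≤ C ∧
      ¬ p ∣ Nat.card Q ∧ Q.index = p ^ (Nat.card G).factorization p := by
    intro C hs hi
    obtain ⟨Q, hQC, hQp, a, hQa⟩ := exists_pcomplement_le p hp C
    refine ⟨Q, hQC, hQp, ?_⟩
    apply index_eq_pow_factorization Q p hp (a + k) _ hQp
    rw [← Subgroup.relIndex_mul_index hQC, hQa, hidx C hs hi, pow_add]
  obtain ⟨Q₁, hQ₁C, hQ₁p, hQ₁i⟩ := hQ C₁ h₁ hb₁
  obtain ⟨Q₂, hQ₂C, hQ₂p, hQ₂i⟩ := hQ C₂ h₂ hb₂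
  set m := (Nat.card G).factorization p with hm
  have hcop : ∀ Q : Subgroup G, ¬ p ∣ Nat.card Q → (Nat.card Q).Coprime (p ^ m) := fun Q h =>
    ((Nat.Prime.coprime_iff_not_dvd hp).mpr h).symm.pow_right m
  have hcard : Nat.card Q₁ = Nat.card Q₂ := by
    have e1 := Q₁.card_mul_index
    have e2 := Q₂.card_mul_index
    rw [hQ₁i] at e1
    rw [hQ₂i, ← e1] at e2
    exact (Nat.eq_of_mul_eq_mul_right (pow_pos hp.pos m) e2).symm
  have hG : Nat.card G = Nat.card Q₂ * p ^ m := by rw [← hQ₂i]; exact Q₂.card_mul_index.symm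
  obtain ⟨g, hg⟩ := hall_conj (Nat.card Q₂) (p ^ m) hG (hcop Q₂ hQ₂p) Q₁ Q₂ hcard rfl
  -- replace C₁ by its conjugate
  set C₁' := MulAut.conj g • C₁ with hC₁'
  have hC₁'c : IsCarterSubgroup C₁' := carter_conj C₁ hC₁ g
  have hQC₁' : Q₂ ≤ C₁' := by rw [← hg]; exact conj_smul_le_conj_smul hQ₁C g
  suffices h : ∃ x : G, MulAut.conj x • C₁' = C₂ by
    obtain ⟨x, hx⟩ := h
    exact ⟨x * g, by rw [map_mul, mul_smul]; exact hx⟩
  -- Q₂ is normal in both
  have hnorm : ∀ C : Subgroup G, IsCarterSubgroup C → Q₂ ≤ C →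
      C ≤ Subgroup.normalizer (Q₂ : Set G) := by
    intro C hC hQC
    apply (Subgroup.normal_subgroupOf_iff_le_normalizer hQC).mp
    apply hall_normal_of_nilpotent hC.1
    rw [Nat.card_congr (Subgroup.subgroupOfEquivOfLe hQC).toEquiv]
    change (Nat.card Q₂).Coprime (Q₂.relIndex C)
    have h1 : Q₂.relIndex C ∣ p ^ m := by
      rw [← hQ₂i]; exact Subgroup.relIndex_dvd_index_of_le hQC
    exact Nat.Coprime.coprime_dvd_right h1 (hcop Q₂ hQ₂p)
  set M := Subgroup.normalizer (Q₂ : Set G) with hM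
  have hC₁M : C₁' ≤ M := hnorm C₁' hC₁'c hQC₁'
  have hC₂M : C₂ ≤ M := hnorm C₂ hC₂ hQ₂C
  by_cases hMtop : M = ⊤
  · have hQn : Q₂.Normal := Subgroup.normalizer_eq_top_iff.mp hMtop
    have hquotp : IsPGroup p (G ⧸ Q₂) := by
      apply IsPGroup.of_card (n := m)
      rw [← Subgroup.index_eq_card, hQ₂i]
    have hqn : Group.IsNilpotent (G ⧸ Q₂) := hquotp.isNilpotent
    have key : ∀ C : Subgroup G, IsCarterSubgroup C → Q₂ ≤ C → C = ⊤ := by
      intro C hC hQC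
      have h1 := carter_map_of_conj hsub C hC Q₂
      have h2 := carter_eq_top_of_nilpotent hqn _ h1
      have h3 := congrArg (Subgroup.comap (QuotientGroup.mk' Q₂)) h2
      rw [Subgroup.comap_map_eq, QuotientGroup.ker_mk', Subgroup.comap_top,
        sup_eq_left.mpr hQC] at h3
      exact h3
    exact ⟨1, by rw [map_one, one_smul, key C₁' hC₁'c hQC₁', key C₂ hC₂ hQ₂C]⟩
  · obtain ⟨l, hl⟩ := hsub M hMtop _ _ (carter_subgroupOf C₁' M hC₁'c hC₁M)
      (carter_subgroupOf C₂ M hC₂ hC₂M)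
    exact ⟨l, conj_eq_of_subgroupOf_conj_eq hC₁M hC₂M l hl⟩

end Cfsg.Agent.Lib.Helper4
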