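import Mathlib
import Cfsg.Prelude.Def_SolvableStructure
import Cfsg.Agent.Lib.Helper4.Carter4

set_option autoImplicit false
open Pointwise

namespace Cfsg.Agent.Lib.Helper4
open Cfsg Cfsg.Agent.Lib.Helper1
universe u

/-- conjugacy step: from conjugacy in proper subgroups and in the quotient by a minimal normal
subgroup -/
theorem carter_conj_step {G : Type u} [Group G] [Finite G] [Group.IsSolvable G]
    (hsub : ∀ L : Subgroup G, L ≠ ⊤ → ∀ C₁ C₂ : Subgroup L, IsCarterSubgroup C₁ →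
      IsCarterSubgroup C₂ → ∃ l : L, MulAut.conj l • C₁ = C₂)
    (N : Subgroup G) [hNn : N.Normal] (hN : IsMinNormal N)
    (hquot : ∀ D₁ D₂ : Subgroup (G ⧸ N), IsCarterSubgroup D₁ → IsCarterSubgroup D₂ →
      ∃ y : G ⧸ N, MulAut.conj y • D₁ = D₂)
    (C₁ C₂ : Subgroup G) (hC₁ : IsCarterSubgroup C₁) (hC₂ : IsCarterSubgroup C₂) :
    ∃ g : G, MulAut.conj g • C₁ = C₂ := by
  set f := QuotientGroup.mk' N with hf
  obtain ⟨y, hy⟩ := hquot _ _ (carter_map_of_conj hsub C₁ hC₁ N) (carter_map_of_conj hsub C₂ hC₂ N)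
  obtain ⟨g, rfl⟩ := QuotientGroup.mk'_surjective N y
  set C₁' := MulAut.conj g • C₁ with hC₁'
  have hC₁'c : IsCarterSubgroup C₁' := carter_conj C₁ hC₁ g
  suffices h : ∃ x : G, MulAut.conj x • C₁' = C₂ by
    obtain ⟨x, hx⟩ := h
    exact ⟨x * g, by rw [map_mul, mul_smul]; exact hx⟩
  have hsup : C₁' ⊔ N = C₂ ⊔ N := by
    rw [← map_conj_smul] at hy
    have h2 := congrArg (Subgroup.comap f) hy
    rwa [Subgroup.comap_map_eq, Subgroup.comap_map_eq, QuotientGroup.ker_mk'] at h2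
  set L := C₂ ⊔ N with hL
  by_cases hLtop : L = ⊤
  · exact carter_conj_case_top hsub N hN C₁' C₂ hC₁'c hC₂ (hsup.trans hLtop) hLtop
  · have h1 : C₁' ≤ L := by rw [← hsup]; exact le_sup_left
    have h2 : C₂ ≤ L := le_sup_left
    obtain ⟨l, hl⟩ := hsub L hLtop _ _ (carter_subgroupOf C₁' L hC₁'c h1)
      (carter_subgroupOf C₂ L hC₂ h2)
    exact ⟨l, conj_eq_of_subgroupOf_conj_eq h1 h2 l hl⟩

theorem carter_main : ∀ (n : ℕ) (G : Type u) [Group G] [Finite G] [Group.IsSolvable G],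
    Nat.card G = n →
    (∃ C : Subgroup G, IsCarterSubgroup C) ∧
    (∀ C₁ C₂ : Subgroup G, IsCarterSubgroup C₁ → IsCarterSubgroup C₂ →
      ∃ g : G, MulAut.conj g • C₁ = C₂) := by
  intro n
  induction n using Nat.strong_induction_on with
  | _ n ih =>
    intro G _ _ _ hcard
    rcases subsingleton_or_nontrivial G with hss | hnt
    · constructor
      · refine ⟨⊤, isNilpotent_of_mulEquiv Subgroup.topEquiv.symm inferInstance, ?_⟩
        exact Subgroup.normalizer_eq_top_iff.mpr inferInstance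
      · intro C₁ C₂ _ _
        refine ⟨1, ?_⟩
        rw [map_one, one_smul]
        exact Subsingleton.elim _ _
    · obtain ⟨N, hN⟩ := exists_isMinNormal (G := G)
      have hNn : N.Normal := hN.1
      obtain ⟨p, hp, hNp⟩ := hN.exists_prime_isPGroup
      have : Fact p.Prime := ⟨hp⟩
      have hlt : Nat.card (G ⧸ N) < n := by rw [← hcard]; exact card_quotient_lt_of_ne_bot hN.2.1
      obtain ⟨⟨Hb, hHb⟩, hquot⟩ := ih _ hlt (G ⧸ N) rfl
      have hsub : ∀ L : Subgroup G, L ≠ ⊤ → ∀ C₁ C₂ : Subgroup L, IsCarterSubgroup C₁ →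
          IsCarterSubgroup C₂ → ∃ l : L, MulAut.conj l • C₁ = C₂ := by
        intro L hL
        have hltL : Nat.card L < n := by rw [← hcard]; exact card_lt_of_ne_top hL
        exact (ih _ hltL L rfl).2
      exact ⟨carter_exists_step N hNp Hb hHb, carter_conj_step hsub N hN hquot⟩

theorem carter_exists {G : Type u} [Group G] [Finite G] [Group.IsSolvable G] :
    ∃ C : Subgroup G, IsCarterSubgroup C := (carter_main _ G rfl).1

theorem carter_conjugate {G : Type u} [Group G] [Finite G] [Group.IsSolvable G]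
    (C₁ C₂ : Subgroup G) (h₁ : IsCarterSubgroup C₁) (h₂ : IsCarterSubgroup C₂) :
    ∃ g : G, MulAut.conj g • C₁ = C₂ := (carter_main _ G rfl).2 C₁ C₂ h₁ h₂

theorem carter_map {G : Type u} [Group G] [Finite G] [Group.IsSolvable G]
    (C : Subgroup G) (hC : IsCarterSubgroup C) (N : Subgroup G) [N.Normal] :
    IsCarterSubgroup (C.map (QuotientGroup.mk' N)) :=
  carter_map_of_conj (fun L _ C₁ C₂ h₁ h₂ => carter_conjugate C₁ C₂ h₁ h₂) C hC N

end Cfsg.Agent.Lib.Helper4
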