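import Mathlib
import Cfsg.Prelude.Def_SolvableStructure
import Cfsg.Agent.Lib.Helper4.Carter5
import Cfsg.Agent.Lib.Helper4.HallSystemQuot

set_option autoImplicit false
open Pointwise

namespace Cfsg.Agent.Lib.Helper4
open Cfsg Cfsg.Agent.Lib.Helper1
universe u

/-- a complement system reduces into `C`: each member meets `C` in a subgroup of `p`-power index -/
def Reduces {G : Type u} [Group G] (K : Nat.Primes → Subgroup G) (C : Subgroup G) : Prop :=
  ∀ p : Nat.Primes, ∃ k : ℕ, (K p).relIndex C = (p : ℕ) ^ k

/-- a normal `r`-subgroup lies in every subgroup of index a power of another prime -/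
theorem normal_pgroup_le_of_index_pow {G : Type u} [Group G] [Finite G] {r p : ℕ}
    (hr : r.Prime) (hp : p.Prime) (hrp : r ≠ p) (N : Subgroup G) [hN : N.Normal]
    (hNr : ∃ k : ℕ, Nat.card N = r ^ k) (T : Subgroup G) (a : ℕ) (hT : T.index = p ^ a) :
    N ≤ T := by
  have hTn : T ≤ Subgroup.normalizer (N : Set G) := by
    rw [Subgroup.normalizer_eq_top_iff.mpr hN]; exact le_top
  have h1 := relIndex_sup_left_of_le_normalizer T N hTn
  have h2 : T.relIndex (T ⊔ N) ∣ p ^ a := by
    rw [← hT]; exact Subgroup.relIndex_dvd_index_of_le le_sup_left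
  obtain ⟨k, hk⟩ := hNr
  have h3 : T.relIndex N ∣ r ^ k := by rw [← hk]; exact Subgroup.relIndex_dvd_card T N
  rw [h1] at h2
  have h4 : T.relIndex N = 1 :=
    Nat.eq_one_of_dvd_coprimes (Nat.Coprime.pow _ _ ((Nat.coprime_primes hr hp).mpr hrp)) h3 h2
  exact Subgroup.relIndex_eq_one.mp h4

theorem reduces_map {G : Type u} [Group G] [Finite G] (K : Nat.Primes → Subgroup G)
    (C N : Subgroup G) [N.Normal] (h : Reduces K C) :
    Reduces (fun p => (K p).map (QuotientGroup.mk' N)) (C.map (QuotientGroup.mk' N)) := by
  intro p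
  obtain ⟨k, hk⟩ := h p
  set f := QuotientGroup.mk' N
  set X := K p ⊓ C with hX
  have h1 : ((K p).map f).relIndex (C.map f) ∣ (X.map f).relIndex (C.map f) := by
    rw [← Subgroup.inf_relIndex_right]
    apply Subgroup.relIndex_dvd_of_le_left
    exact le_inf (Subgroup.map_mono inf_le_left) (Subgroup.map_mono inf_le_right)
  have h2 : (X.map f).relIndex (C.map f) = (X ⊔ N).relIndex C := by
    rw [← Subgroup.relIndex_comap, Subgroup.comap_map_eq, QuotientGroup.ker_mk']
  have h3 : (X ⊔ N).relIndex C ∣ X.relIndex C :=
    Subgroup.relIndex_dvd_of_le_left C le_sup_left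
  have h4 : X.relIndex C = (p : ℕ) ^ k := by rw [hX, Subgroup.inf_relIndex_right, hk]
  rw [h2] at h1
  rw [h4] at h3
  obtain ⟨j, _, hj⟩ := (Nat.dvd_prime_pow p.2).mp (h1.trans h3)
  exact ⟨j, hj⟩

/-- restriction of a complement system to a subgroup `L`, when each member meets `L` in a
subgroup of `p`-power index -/
theorem complementSystem_subgroupOf {G : Type u} [Group G] [Finite G]
    (K : Nat.Primes → Subgroup G) (hK : IsComplementSystem K) (L : Subgroup G)
    (h : ∀ p : Nat.Primes, ∃ j : ℕ, (K p).relIndex L = (p : ℕ) ^ j) :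
    IsComplementSystem (fun p => (K p).subgroupOf L) := by
  intro p
  obtain ⟨j, hj⟩ := h p
  apply index_eq_pow_factorization _ p p.2 j hj
  intro hd
  apply complementSystem_card_coprime K hK p
  have e : Nat.card ((K p).subgroupOf L) = Nat.card ↥(K p ⊓ L) := by
    rw [← Subgroup.inf_subgroupOf_right]
    exact Nat.card_congr (Subgroup.subgroupOfEquivOfLe inf_le_right).toEquiv
  rw [e] at hd
  exact hd.trans (Subgroup.card_dvd_of_le inf_le_left)

end Cfsg.Agent.Lib.Helper4

namespace Cfsg.Agent.Lib.Helper4
open Cfsg Cfsg.Agent.Lib.Helper1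
universe u

theorem systemNormalizer_le_carter_aux : ∀ (n : ℕ) (G : Type u) [Group G] [Finite G]
    [Group.IsSolvable G], Nat.card G = n → ∀ (K : Nat.Primes → Subgroup G),
    IsComplementSystem K → ∀ C : Subgroup G, IsCarterSubgroup C → Reduces K C →
    systemNormalizer K ≤ C := by
  intro n
  induction n using Nat.strong_induction_on with
  | _ n ih =>
    intro G _ _ _ hcard K hK C hC hred
    rcases subsingleton_or_nontrivial G with hss | hnt
    · intro x _
      rw [Subsingleton.elim x 1]; exact C.one_mem
    obtain ⟨N, hN⟩ := exists_isMinNormal (G := G)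
    have hNn : N.Normal := hN.1
    obtain ⟨r, hr, hNr⟩ := hN.exists_prime_isPGroup
    have : Fact r.Prime := ⟨hr⟩
    obtain ⟨kN, hkN⟩ := (IsPGroup.iff_card).mp hNr
    have hNcomm := hN.isMulCommutative
    have hNc : ∀ x ∈ N, ∀ y ∈ N, x * y = y * x := comm_of_isMulCommutative N hNcomm
    set f := QuotientGroup.mk' N with hf
    set D := systemNormalizer K with hD
    have hDK : ∀ q : Nat.Primes, D ≤ Subgroup.normalizer (K q : Set G) := fun q => iInf_le _ q
    -- quotient step
    have hlt : Nat.card (G ⧸ N) < n := by rw [← hcard]; exact card_quotient_lt_of_ne_bot hN.2.1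
    have hq := ih _ hlt (G ⧸ N) rfl (fun p => (K p).map f) (complementSystem_map K hK N)
      (C.map f) (carter_map C hC N) (reduces_map K C N hred)
    rw [systemNormalizer_map K hK N] at hq
    set L := C ⊔ N with hL
    have hDL : D ≤ L := by
      have h2 := Subgroup.comap_mono (f := f) hq
      rw [Subgroup.comap_map_eq, Subgroup.comap_map_eq, QuotientGroup.ker_mk'] at h2
      exact le_sup_left.trans h2
    have hCL : C ≤ L := le_sup_left
    have hNL : N ≤ L := le_sup_right
    by_cases hLtop : L = ⊤
    · -- G = C N
      have hn := inf_normal_of_sup_eq_top C N hNc hLtop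
      rcases hN.2.2 _ hn inf_le_right with hb | hb
      swap
      · have hNC : N ≤ C := hb ▸ inf_le_left
        have : C = ⊤ := by rw [← hLtop, hL]; exact (sup_eq_left.mpr hNC).symm
        rw [this]; exact le_top
      set q : Nat.Primes := ⟨r, hr⟩ with hq'
      obtain ⟨k', hk'⟩ := hred q
      have hCn : C ≤ Subgroup.normalizer (N : Set G) := by
        rw [Subgroup.normalizer_eq_top_iff.mpr hNn]; exact le_top
      have hCidx : C.index = r ^ kN := by
        have h1 := card_sup_mul_card_inf C N hCn
        rw [← hL, hLtop, hb, Subgroup.card_top, Subgroup.card_bot, mul_one, ← C.card_mul_index,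
          hkN] at h1
        exact Nat.eq_of_mul_eq_mul_left Nat.card_pos h1
      have hKqp : ¬ r ∣ Nat.card (K q) := complementSystem_card_coprime K hK q
      -- K q ≤ C
      have hKqC : K q ≤ C := by
        have hX : ¬ r ∣ Nat.card ↥(K q ⊓ C) := fun hd =>
          hKqp (hd.trans (Subgroup.card_dvd_of_le inf_le_left))
        have hXi : (K q ⊓ C).index = r ^ (k' + kN) := by
          rw [← Subgroup.relIndex_mul_index (inf_le_right : K q ⊓ C ≤ C),
            Subgroup.inf_relIndex_right, hk', hCidx, pow_add]
        have h1 := index_eq_pow_factorization (K q ⊓ C) r hr _ hXi hX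
        have h2 : (K q ⊓ C).index = (K q).index := by rw [h1]; exact (hK q).symm
        have h3 := (K q ⊓ C).card_mul_index
        have h4 := (K q).card_mul_index
        rw [h2, ← h4] at h3
        have h5 : Nat.card ↥(K q ⊓ C) = Nat.card (K q) :=
          Nat.eq_of_mul_eq_mul_right (Nat.pos_of_ne_zero Subgroup.index_ne_zero_of_finite) h3
        have h6 : K q ⊓ C = K q := Subgroup.eq_of_le_of_card_ge inf_le_left h5.ge
        rw [← h6]; exact inf_le_right
      -- K q is normal in C
      have hCM : C ≤ Subgroup.normalizer (K q : Set G) := by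
        apply (Subgroup.normal_subgroupOf_iff_le_normalizer hKqC).mp
        apply hall_normal_of_nilpotent hC.1
        rw [Nat.card_congr (Subgroup.subgroupOfEquivOfLe hKqC).toEquiv]
        change (Nat.card (K q)).Coprime ((K q).relIndex C)
        rw [hk']
        exact ((Nat.Prime.coprime_iff_not_dvd hr).mpr hKqp).symm.pow_right k'
      set M := Subgroup.normalizer (K q : Set G) with hM
      by_cases hMtop : M = ⊤
      · have hKn : (K q).Normal := Subgroup.normalizer_eq_top_iff.mp hMtop
        have hquotp : IsPGroup r (G ⧸ K q) := by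
          apply IsPGroup.of_card (n := (Nat.card G).factorization r)
          rw [← Subgroup.index_eq_card]; exact hK q
        have h1 := carter_map C hC (K q)
        have h2 := carter_eq_top_of_nilpotent hquotp.isNilpotent _ h1
        have h3 := congrArg (Subgroup.comap (QuotientGroup.mk' (K q))) h2
        rw [Subgroup.comap_map_eq, QuotientGroup.ker_mk', Subgroup.comap_top,
          sup_eq_left.mpr hKqC] at h3
        rw [h3]; exact le_top
      · have hMN : M ⊔ N = ⊤ := by
          rw [eq_top_iff, ← hLtop, hL]; exact sup_le_sup_right hCM N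
        have hn2 := inf_normal_of_sup_eq_top M N hNc hMN
        rcases hN.2.2 _ hn2 inf_le_right with hb2 | hb2
        · -- M = C by order
          have hMn : M ≤ Subgroup.normalizer (N : Set G) := by
            rw [Subgroup.normalizer_eq_top_iff.mpr hNn]; exact le_top
          have h1 := card_sup_mul_card_inf M N hMn
          have h2 := card_sup_mul_card_inf C N hCn
          rw [hMN, hb2, Subgroup.card_bot, mul_one] at h1
          rw [← hL, hLtop, hb, Subgroup.card_bot, mul_one, h1] at h2
          have h3 : Nat.card M = Nat.card C := Nat.eq_of_mul_eq_mul_right Nat.card_pos h2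
          have h4 : C = M := Subgroup.eq_of_le_of_card_ge hCM h3.le
          rw [h4]; exact hDK q
        · exfalso
          apply hMtop
          rw [← hMN]
          exact (sup_eq_left.mpr (hb2 ▸ inf_le_left)).symm
    · -- induction inside L
      have hltL : Nat.card L < n := by rw [← hcard]; exact card_lt_of_ne_top hLtop
      have hrelL : ∀ p : Nat.Primes, ∃ j : ℕ, (K p).relIndex L = (p : ℕ) ^ j := by
        intro p
        obtain ⟨k, hk⟩ := hred p
        have hX : (K p ⊓ C).relIndex C = (p : ℕ) ^ k := by
          rw [Subgroup.inf_relIndex_right, hk]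
        -- find Y ≤ K p ⊓ L with p-power relIndex in L
        have key : ∃ Y : Subgroup G, Y ≤ K p ∧ Y ≤ L ∧ ∃ i : ℕ, Y.relIndex L = (p : ℕ) ^ i := by
          by_cases hrp : r = (p : ℕ)
          · have h1 := Subgroup.relIndex_mul_relIndex (K p ⊓ C) C L inf_le_right hCL
            have hCn : C ≤ Subgroup.normalizer (N : Set G) := by
              rw [Subgroup.normalizer_eq_top_iff.mpr hNn]; exact le_top
            have h2 : C.relIndex L ∣ r ^ kN := by
              rw [hL, relIndex_sup_left_of_le_normalizer C N hCn, ← hkN]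
              exact Subgroup.relIndex_dvd_card C N
            obtain ⟨i, _, hi⟩ := (Nat.dvd_prime_pow hr).mp h2
            rw [hX, hi, hrp, ← pow_add] at h1
            exact ⟨K p ⊓ C, inf_le_left, inf_le_right.trans hCL, k + i, h1.symm⟩
          · have hNK : N ≤ K p :=
              normal_pgroup_le_of_index_pow hr p.2 hrp N ⟨kN, hkN⟩ (K p) _ (hK p)
            refine ⟨(K p ⊓ C) ⊔ N, sup_le inf_le_left hNK, sup_le (inf_le_right.trans hCL) hNL, ?_⟩
            have h1 := relIndex_sup_normal_dvd (K p ⊓ C) C N inf_le_right
            rw [hX, ← hL] at h1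
            obtain ⟨i, _, hi⟩ := (Nat.dvd_prime_pow p.2).mp h1
            exact ⟨i, hi⟩
        obtain ⟨Y, hYK, hYL, i, hi⟩ := key
        have h1 : (K p).relIndex L ∣ Y.relIndex L := Subgroup.relIndex_dvd_of_le_left L hYK
        rw [hi] at h1
        obtain ⟨j, _, hj⟩ := (Nat.dvd_prime_pow p.2).mp h1
        exact ⟨j, hj⟩
      have hK' := complementSystem_subgroupOf K hK L hrelL
      have hC' := carter_subgroupOf C L hC hCL
      have hred' : Reduces (fun p => (K p).subgroupOf L) (C.subgroupOf L) := by
        intro p
        obtain ⟨k, hk⟩ := hred p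
        exact ⟨k, by rw [Subgroup.relIndex_subgroupOf hCL, hk]⟩
      have hL' := ih _ hltL L rfl _ hK' _ hC' hred'
      intro x hx
      have hxL : x ∈ L := hDL hx
      have h1 : (⟨x, hxL⟩ : L) ∈ systemNormalizer (fun p => (K p).subgroupOf L) := by
        apply (Subgroup.mem_iInf).mpr
        intro p
        apply Subgroup.le_normalizer_comap L.subtype
        rw [Subgroup.mem_comap]
        exact hDK p hx
      exact Subgroup.mem_subgroupOf.mp (hL' h1)

end Cfsg.Agent.Lib.Helper4
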