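import Mathlib
import Cfsg.Prelude.Def_SolvableStructure
import Cfsg.Agent.Lib.Helper4.Carter6

set_option autoImplicit false
open Pointwise

namespace Cfsg.Agent.Lib.Helper4
open Cfsg Cfsg.Agent.Lib.Helper1
universe u

/-- every subgroup `C` of a finite solvable group admits a complement system reducing into it -/
theorem exists_reducing_system {G : Type u} [Group G] [Finite G] [Group.IsSolvable G]
    (C : Subgroup G) : ∃ K : Nat.Primes → Subgroup G, IsComplementSystem K ∧ Reduces K C := by
  have hex : ∀ p : Nat.Primes, ∃ H : Subgroup G,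
      H.index = (p : ℕ) ^ (Nat.card G).factorization p ∧ ∃ k : ℕ, H.relIndex C = (p : ℕ) ^ k := by
    intro p
    obtain ⟨Q, hQC, hQp, a, hQa⟩ := exists_pcomplement_le p p.2 C
    set e := (Nat.card G).factorization p with he
    have hne : Nat.card G ≠ 0 := Nat.card_pos.ne'
    have hmul : Nat.card G = (Nat.card G / (p : ℕ) ^ e) * (p : ℕ) ^ e :=
      (Nat.div_mul_cancel (Nat.ordProj_dvd _ _)).symm
    have hcop : (Nat.card G / (p : ℕ) ^ e).Coprime ((p : ℕ) ^ e) :=
      ((Nat.coprime_ordCompl p.2 hne).symm).pow_right e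
    have hQcop : (Nat.card Q).Coprime ((p : ℕ) ^ e) :=
      ((Nat.Prime.coprime_iff_not_dvd p.2).mpr hQp).symm.pow_right e
    obtain ⟨H, hH, hQH⟩ := hall_exists_ge _ _ hmul hcop Q hQcop
    refine ⟨H, ?_, ?_⟩
    · have h1 := H.card_mul_index
      rw [hH] at h1
      have h2 : 0 < Nat.card G / (p : ℕ) ^ e :=
        Nat.div_pos (Nat.le_of_dvd Nat.card_pos (Nat.ordProj_dvd _ _)) (pow_pos p.2.pos e)
      have h3 : (Nat.card G / (p : ℕ) ^ e) * H.index = (Nat.card G / (p : ℕ) ^ e) * (p : ℕ) ^ e := by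
        rw [h1, ← hmul]
      exact Nat.eq_of_mul_eq_mul_left h2 h3
    · have h1 : H.relIndex C ∣ Q.relIndex C := by
        rw [← Subgroup.inf_relIndex_right]
        exact Subgroup.relIndex_dvd_of_le_left C (le_inf hQH hQC)
      rw [hQa] at h1
      obtain ⟨j, _, hj⟩ := (Nat.dvd_prime_pow p.2).mp h1
      exact ⟨j, hj⟩
  choose K hK1 hK2 using hex
  exact ⟨K, hK1, hK2⟩

theorem carter_contains_systemNormalizer {G : Type u} [Group G] [Finite G] [Group.IsSolvable G]
    (C : Subgroup G) (hC : IsCarterSubgroup C) :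
    ∃ K : Nat.Primes → Subgroup G, IsComplementSystem K ∧ systemNormalizer K ≤ C := by
  obtain ⟨K, hK, hred⟩ := exists_reducing_system C
  exact ⟨K, hK, systemNormalizer_le_carter_aux _ G rfl K hK C hC hred⟩

theorem systemNormalizer_conj {G : Type u} [Group G] (K₀ K : Nat.Primes → Subgroup G) (g : G)
    (hg : ∀ p, MulAut.conj g • K₀ p = K p) :
    systemNormalizer K = MulAut.conj g • systemNormalizer K₀ := by
  ext x
  rw [mem_conj_smul_iff]
  constructor
  · intro hx
    apply (Subgroup.mem_iInf).mpr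
    intro p
    have h1 : x ∈ Subgroup.normalizer (K p : Set G) :=
      (iInf_le (fun p : Nat.Primes => Subgroup.normalizer (K p : Set G)) p) hx
    rw [← hg p, ← conj_smul_normalizer, mem_conj_smul_iff] at h1
    exact h1
  · intro hx
    apply (Subgroup.mem_iInf).mpr
    intro p
    have h1 : g⁻¹ * x * g ∈ Subgroup.normalizer (K₀ p : Set G) :=
      (iInf_le (fun p : Nat.Primes => Subgroup.normalizer (K₀ p : Set G)) p) hx
    rw [← hg p, ← conj_smul_normalizer, mem_conj_smul_iff]
    exact h1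

theorem systemNormalizer_le_some_carter {G : Type u} [Group G] [Finite G] [Group.IsSolvable G]
    (K : Nat.Primes → Subgroup G) (hK : IsComplementSystem K) :
    ∃ C : Subgroup G, IsCarterSubgroup C ∧ systemNormalizer K ≤ C := by
  obtain ⟨C₀, hC₀⟩ := carter_exists (G := G)
  obtain ⟨K₀, hK₀, hle⟩ := carter_contains_systemNormalizer C₀ hC₀
  obtain ⟨g, hg⟩ := complementSystem_conj K₀ K hK₀ hK
  refine ⟨MulAut.conj g • C₀, carter_conj C₀ hC₀ g, ?_⟩
  rw [systemNormalizer_conj K₀ K g hg]
  exact conj_smul_le_conj_smul hle g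

end Cfsg.Agent.Lib.Helper4
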