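import Mathlib
import Cfsg.Prelude.Def_SolvableStructure
import Cfsg.Agent.Lib.Helper4.Carter7

set_option autoImplicit false
open Pointwise

namespace Cfsg.Agent.Lib.Helper4
open Cfsg Cfsg.Agent.Lib.Helper1
universe u

/-- a Hall subgroup of a nilpotent normal subgroup is normal in the whole group -/
theorem hall_of_nilpotent_normal_normal {G : Type u} [Group G] [Finite G] (F : Subgroup G)
    [hFn : F.Normal] (hF : Group.IsNilpotent F) (B : Subgroup G) (hBF : B ≤ F)
    (hB : (Nat.card B).Coprime (B.relIndex F)) : B.Normal := by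
  have hcardB : Nat.card (B.subgroupOf F) = Nat.card B :=
    Nat.card_congr (Subgroup.subgroupOfEquivOfLe hBF).toEquiv
  have hhall : (Nat.card (B.subgroupOf F)).Coprime (B.subgroupOf F).index := by
    rw [hcardB]; exact hB
  have hn : (B.subgroupOf F).Normal := hall_normal_of_nilpotent hF _ hhall
  rw [← Subgroup.normalizer_eq_top_iff]
  apply top_le_iff.mp
  intro g _
  rw [mem_normalizer_iff_conj_smul]
  have hgF : MulAut.conj g • F = F :=
    (mem_normalizer_iff_conj_smul F g).mp (by
      rw [Subgroup.normalizer_eq_top_iff.mpr hFn]; exact Subgroup.mem_top g)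
  have h1 : MulAut.conj g • B ≤ F := by
    rw [← hgF]; exact conj_smul_le_conj_smul hBF g
  have h2 : Nat.card ((MulAut.conj g • B).subgroupOf F) = Nat.card (B.subgroupOf F) := by
    rw [Nat.card_congr (Subgroup.subgroupOfEquivOfLe h1).toEquiv, card_conj_smul, hcardB]
  have h3 := le_of_card_dvd_of_normal_hall (B.subgroupOf F) ((MulAut.conj g • B).subgroupOf F)
    hhall (dvd_of_eq h2)
  have h4 := Subgroup.map_mono (f := F.subtype) h3
  rw [Subgroup.map_subgroupOf_eq_of_le h1, Subgroup.map_subgroupOf_eq_of_le hBF] at h4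
  exact Subgroup.eq_of_le_of_card_ge h4 (by rw [card_conj_smul])

/-- `|AF : AB|` divides `|F : B|` for normal `B ≤ F` -/
theorem relIndex_sup_dvd_of_normal {G : Type u} [Group G] [Finite G] (A B F : Subgroup G)
    [hBn : B.Normal] [hFn : F.Normal] (hBF : B ≤ F) :
    (A ⊔ B).relIndex (A ⊔ F) ∣ B.relIndex F := by
  have hAB : A ≤ Subgroup.normalizer (B : Set G) := by
    rw [Subgroup.normalizer_eq_top_iff.mpr hBn]; exact le_top
  have hAF : A ≤ Subgroup.normalizer (F : Set G) := by
    rw [Subgroup.normalizer_eq_top_iff.mpr hFn]; exact le_top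
  have h1 := card_sup_mul_card_inf A B hAB
  have h2 := card_sup_mul_card_inf A F hAF
  have h3 := card_mul_relIndex (sup_le_sup_left hBF A)
  have h4 := card_mul_relIndex hBF
  have h5 := card_mul_relIndex (inf_le_inf_left A hBF)
  refine ⟨(A ⊓ B).relIndex (A ⊓ F), ?_⟩
  have hpos : 0 < Nat.card A * Nat.card B := Nat.mul_pos Nat.card_pos Nat.card_pos
  apply Nat.eq_of_mul_eq_mul_left hpos
  calc Nat.card A * Nat.card B * B.relIndex F
      = Nat.card A * (Nat.card B * B.relIndex F) := by ring
    _ = Nat.card A * Nat.card F := by rw [h4]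
    _ = Nat.card (A ⊔ F : Subgroup G) * Nat.card (A ⊓ F : Subgroup G) := h2.symm
    _ = (Nat.card (A ⊔ B : Subgroup G) * (A ⊔ B).relIndex (A ⊔ F)) *
          (Nat.card (A ⊓ B : Subgroup G) * (A ⊓ B).relIndex (A ⊓ F)) := by rw [h3, h5]
    _ = (Nat.card (A ⊔ B : Subgroup G) * Nat.card (A ⊓ B : Subgroup G)) *
          ((A ⊔ B).relIndex (A ⊔ F) * (A ⊓ B).relIndex (A ⊓ F)) := by ring
    _ = Nat.card A * Nat.card B * ((A ⊔ B).relIndex (A ⊔ F) * (A ⊓ B).relIndex (A ⊓ F)) := by
        rw [h1]

/-- in a group of nilpotent length two, a Carter subgroup normalizes every `p`-complement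
that it reduces -/
theorem carter_le_normalizer_of_reduces {G : Type u} [Group G] [Finite G] [Group.IsSolvable G]
    (F : Subgroup G) [hFn : F.Normal] (hF : Group.IsNilpotent F)
    (hGF : Group.IsNilpotent (G ⧸ F)) (C : Subgroup G) (hC : IsCarterSubgroup C)
    (p : ℕ) (hp : p.Prime) (T : Subgroup G) (e : ℕ) (hTi : T.index = p ^ e)
    (hTp : ¬ p ∣ Nat.card T) (k : ℕ) (hTC : T.relIndex C = p ^ k) :
    C ≤ Subgroup.normalizer (T : Set G) := by
  have hCF : C ⊔ F = ⊤ := by
    have h1 := carter_eq_top_of_nilpotent hGF _ (carter_map C hC F)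
    have h2 := Subgroup.comap_map_eq (QuotientGroup.mk' F) C
    rw [h1, QuotientGroup.ker_mk', Subgroup.comap_top] at h2
    exact h2.symm
  set A := T ⊓ C with hA
  set B := T ⊓ F with hB
  have hAi : A.relIndex C = p ^ k := by rw [hA, Subgroup.inf_relIndex_right, hTC]
  have hBi : B.relIndex F ∣ p ^ e := by
    rw [hB, Subgroup.inf_relIndex_right, ← hTi]
    exact relIndex_dvd_index_of_normal_right T F
  have hAT : A ≤ T := inf_le_left
  have hBT : B ≤ T := inf_le_left
  have hAp : (Nat.card A).Coprime p :=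
    ((Nat.Prime.coprime_iff_not_dvd hp).mpr
      (fun h => hTp (h.trans (Subgroup.card_dvd_of_le hAT)))).symm
  have hBp : (Nat.card B).Coprime p :=
    ((Nat.Prime.coprime_iff_not_dvd hp).mpr
      (fun h => hTp (h.trans (Subgroup.card_dvd_of_le hBT)))).symm
  have hBn : B.Normal := by
    apply hall_of_nilpotent_normal_normal F hF B inf_le_right
    obtain ⟨j, _, hj⟩ := (Nat.dvd_prime_pow hp).mp hBi
    rw [hj]; exact hBp.pow_right j
  have hAn : C ≤ Subgroup.normalizer (A : Set G) := by
    have hAC : A ≤ C := inf_le_right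
    have hcardA : Nat.card (A.subgroupOf C) = Nat.card A :=
      Nat.card_congr (Subgroup.subgroupOfEquivOfLe hAC).toEquiv
    have hn : (A.subgroupOf C).Normal := by
      apply hall_normal_of_nilpotent hC.1
      rw [hcardA]
      show (Nat.card A).Coprime (A.relIndex C)
      rw [hAi]; exact hAp.pow_right k
    exact (Subgroup.normal_subgroupOf_iff_le_normalizer hAC).mp hn
  have hidx : (A ⊔ B).index ∣ p ^ e * p ^ k := by
    have h1 : (A ⊔ B).relIndex (A ⊔ F) ∣ p ^ e :=
      (relIndex_sup_dvd_of_normal A B F inf_le_right).trans hBi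
    have h2 : (A ⊔ F).relIndex (C ⊔ F) ∣ p ^ k := by
      rw [← hAi]; exact relIndex_sup_normal_dvd A C F inf_le_right
    have h3 := Subgroup.relIndex_mul_relIndex (A ⊔ B) (A ⊔ F) (C ⊔ F)
      (sup_le_sup_left inf_le_right A) (sup_le_sup_right inf_le_right F)
    rw [hCF, Subgroup.relIndex_top_right, Subgroup.relIndex_top_right] at h3
    rw [← h3]
    rw [hCF, Subgroup.relIndex_top_right] at h2
    exact Nat.mul_dvd_mul h1 h2
  have hT : T = A ⊔ B := by
    apply le_antisymm _ (sup_le hAT hBT)
    have h1 : (A ⊔ B).relIndex T ∣ (A ⊔ B).index :=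
      Subgroup.relIndex_dvd_index_of_le (sup_le hAT hBT)
    have h2 : (A ⊔ B).relIndex T ∣ Nat.card T := Subgroup.relIndex_dvd_card _ _
    have h3 : (Nat.card T).Coprime (p ^ e * p ^ k) := by
      rw [← pow_add]
      exact (((Nat.Prime.coprime_iff_not_dvd hp).mpr hTp).symm).pow_right _
    have h4 : (A ⊔ B).relIndex T = 1 :=
      Nat.eq_one_of_dvd_coprimes h3 h2 (h1.trans hidx)
    exact Subgroup.relIndex_eq_one.mp h4
  intro c hc
  rw [mem_normalizer_iff_conj_smul, hT, Subgroup.smul_sup]
  have h1 : MulAut.conj c • A = A := (mem_normalizer_iff_conj_smul A c).mp (hAn hc)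
  have h2 : MulAut.conj c • B = B :=
    (mem_normalizer_iff_conj_smul B c).mp (by
      rw [Subgroup.normalizer_eq_top_iff.mpr hBn]; exact Subgroup.mem_top c)
  rw [h1, h2]

end Cfsg.Agent.Lib.Helper4

namespace Cfsg.Agent.Lib.Helper4
open Cfsg Cfsg.Agent.Lib.Helper1
universe u

theorem isSolvable_of_nilpotent_normal_quotient {G : Type u} [Group G] (F : Subgroup G)
    [F.Normal] (hF : Group.IsNilpotent F) (hGF : Group.IsNilpotent (G ⧸ F)) :
    Group.IsSolvable G := by
  have h1 : Group.IsSolvable F := inferInstance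
  have h2 : Group.IsSolvable (G ⧸ F) := inferInstance
  apply Group.isSolvable_of_ker_le_range F.subtype (QuotientGroup.mk' F)
  rw [QuotientGroup.ker_mk', Subgroup.range_subtype]

theorem carter_eq_systemNormalizer_of_reduces {G : Type u} [Group G] [Finite G]
    [Group.IsSolvable G]
    (F : Subgroup G) [hFn : F.Normal] (hF : Group.IsNilpotent F)
    (hGF : Group.IsNilpotent (G ⧸ F)) (C : Subgroup G) (hC : IsCarterSubgroup C)
    (K : Nat.Primes → Subgroup G) (hK : IsComplementSystem K) (hred : Reduces K C) :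
    C = systemNormalizer K := by
  apply le_antisymm _ (systemNormalizer_le_carter_aux _ G rfl K hK C hC hred)
  apply le_iInf
  intro p
  obtain ⟨k, hk⟩ := hred p
  exact carter_le_normalizer_of_reduces F hF hGF C hC p p.2 (K p) _ (hK p)
    (complementSystem_card_coprime K hK p) k hk

/-- in a group of nilpotent length at most two, Carter subgroups are exactly the system
normalizers -/
theorem carter_iff_systemNormalizer {G : Type u} [Group G] [Finite G]
    (F : Subgroup G) [hFn : F.Normal] (hF : Group.IsNilpotent F)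
    (hGF : Group.IsNilpotent (G ⧸ F)) (C : Subgroup G) :
    IsCarterSubgroup C ↔
      ∃ K : Nat.Primes → Subgroup G, IsComplementSystem K ∧ C = systemNormalizer K := by
  have hsol : Group.IsSolvable G := isSolvable_of_nilpotent_normal_quotient F hF hGF
  constructor
  · intro hC
    obtain ⟨K, hK, hred⟩ := exists_reducing_system C
    exact ⟨K, hK, carter_eq_systemNormalizer_of_reduces F hF hGF C hC K hK hred⟩
  · rintro ⟨K, hK, rfl⟩
    obtain ⟨C₀, hC₀⟩ := carter_exists (G := G)
    obtain ⟨K₀, hK₀, hred₀⟩ := exists_reducing_system C₀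
    have h0 := carter_eq_systemNormalizer_of_reduces F hF hGF C₀ hC₀ K₀ hK₀ hred₀
    obtain ⟨g, hg⟩ := complementSystem_conj K₀ K hK₀ hK
    rw [systemNormalizer_conj K₀ K g hg, ← h0]
    exact carter_conj C₀ hC₀ g

end Cfsg.Agent.Lib.Helper4
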