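import Mathlib
import Cfsg.Agent.Lib.Helper8.InvPPrime
import Cfsg.Agent.Lib.Helper9.OmegaOdd

/-!
# Invariant `p'`-subgroups of `p`-constrained groups, class `≤ 2` version (Gorenstein 8.5.x, `p = 2`)

`X` a `p`-constrained group whose Sylow `p`-subgroups have class at most `2`, `A` a `p`-subgroup
containing every `p`-element of `C_X(A)`.  Then every `A`-invariant `p'`-subgroup of `X` lies in
`O_{p'}(X)`.
-/

set_option autoImplicit false
open scoped commutatorElement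

namespace Cfsg.Agent.Lib.Helper4.InvTwo

variable {X : Type*} [Group X]

/-- iterating `y r y⁻¹ = c r` with `c` commuting with `y`. -/
theorem conj_pow_eq {Γ : Type*} [Group Γ] {y r c : Γ} (h : y * r * y⁻¹ = c * r) (hc : y * c = c * y)
    (n : ℕ) : y ^ n * r * (y ^ n)⁻¹ = c ^ n * r := by
  induction n with
  | zero => simp
  | succ n ih =>
    have hcn : y * c ^ n = c ^ n * y := (Commute.pow_right (show Commute y c from hc) n).eq
    calc y ^ (n + 1) * r * (y ^ (n + 1))⁻¹ = y * (y ^ n * r * (y ^ n)⁻¹) * y⁻¹ := by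
          rw [pow_succ']; group
      _ = y * (c ^ n * r) * y⁻¹ := by rw [ih]
      _ = (y * c ^ n) * r * y⁻¹ := by group
      _ = c ^ n * (y * r * y⁻¹) := by rw [hcn]; group
      _ = c ^ n * (c * r) := by rw [h]
      _ = c ^ (n + 1) * r := by rw [pow_succ]; group

theorem le_pPrimeCore_of_invariant_class_two [Finite X] (p : ℕ) [hpf : Fact p.Prime]
    (hX : Cfsg.IsPConstrained p X) (A : Subgroup X) (hAp : IsPGroup p ↥A)
    (hΩ : ∀ x ∈ Subgroup.centralizer (A : Set X), IsPGroup p ↥(Subgroup.zpowers x) → x ∈ A)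
    (hcl : ∀ S : Sylow p X, ∀ x ∈ (S : Subgroup X), ∀ y ∈ (S : Subgroup X), ∀ z ∈ (S : Subgroup X),
      ⁅x, y⁆ * z = z * ⁅x, y⁆)
    (Q : Subgroup X) (hQ : ¬ p ∣ Nat.card ↥Q) (hAQ : A ≤ Subgroup.normalizer (Q : Set X)) :
    Q ≤ Cfsg.pPrimeCore p X := by
  classical
  have hpp : p.Prime := hpf.out
  haveI hNn : (Cfsg.pPrimeCore p X).Normal := Cfsg.Agent.Lib.Helper24.pPrimeCore_normal' p
  have hNcop : (Nat.card ↥(Cfsg.pPrimeCore p X)).Coprime p :=
    Cfsg.Agent.Lib.Helper12.pPrimeCore_coprime p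
  obtain ⟨π, hπdef⟩ : ∃ π : X →* X ⧸ Cfsg.pPrimeCore p X,
      π = QuotientGroup.mk' (Cfsg.pPrimeCore p X) := ⟨_, rfl⟩
  have hπs : Function.Surjective π := hπdef ▸ QuotientGroup.mk'_surjective _
  have hπker : ∀ x : X, π x = 1 ↔ x ∈ Cfsg.pPrimeCore p X := by
    intro x
    rw [hπdef]
    exact QuotientGroup.eq_one_iff x
  obtain ⟨Rb, hRbdef⟩ : ∃ Rb : Subgroup (X ⧸ Cfsg.pPrimeCore p X),
      Rb = Cfsg.pCore p (X ⧸ Cfsg.pPrimeCore p X) := ⟨_, rfl⟩
  haveI hRbn : Rb.Normal := hRbdef ▸ Cfsg.Agent.Lib.Helper24.pCore_normal' p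
  have hRbp : IsPGroup p ↥Rb := hRbdef ▸ Cfsg.Agent.Lib.Helper1.pCore_isPGroup p _
  -- `C(Rb) ≤ Rb`
  have hCR : Subgroup.centralizer (Rb : Set (X ⧸ Cfsg.pPrimeCore p X)) ≤ Rb := by
    intro y hy
    obtain ⟨x, rfl⟩ := hπs y
    obtain ⟨P⟩ : Nonempty (Sylow p ↥(Cfsg.pPrimePCore p X)) := inferInstance
    rw [hRbdef, hπdef] at hy
    obtain ⟨n, hn, hxn⟩ :=
      Cfsg.Agent.Lib.Helper9.exists_mem_centralizer_sylow_of_map_mem_centralizer_pCore p P hy
    have h1 := hX P hxn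
    have h2 : π (x * n) ∈ Rb := by
      rw [hRbdef, hπdef]
      exact h1
    have h3 : π n = 1 := (hπker n).mpr hn
    rwa [map_mul, h3, mul_one] at h2
  -- a Sylow subgroup containing `A`
  obtain ⟨S, hAS⟩ := hAp.exists_le_sylow
  have hSb : Rb ≤ (S : Subgroup X).map π := by
    have := Cfsg.Agent.Lib.Helper1.pCore_le_sylow (S.mapSurjective hπs)
    rw [Sylow.coe_mapSurjective] at this
    rw [hRbdef]
    exact this
  have hNS : ∀ t ∈ (S : Subgroup X), t ∈ Cfsg.pPrimeCore p X → t = 1 := by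
    intro t htS htN
    obtain ⟨k, hk⟩ := S.isPGroup' ⟨t, htS⟩
    have h1 : t ^ p ^ k = 1 := by simpa using congrArg Subtype.val hk
    have h2 : orderOf t ∣ p ^ k := orderOf_dvd_of_pow_eq_one h1
    have h3 : orderOf t ∣ Nat.card ↥(Cfsg.pPrimeCore p X) := by
      have := orderOf_dvd_natCard (⟨t, htN⟩ : ↥(Cfsg.pPrimeCore p X))
      rwa [Subgroup.orderOf_mk] at this
    have h4 : (orderOf t).Coprime (orderOf t) :=
      Nat.Coprime.coprime_dvd_left h3 (Nat.Coprime.coprime_dvd_right h2 (hNcop.pow_right k))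
    exact orderOf_eq_one_iff.mp ((Nat.coprime_self _).mp h4)
  -- key: elements of `π(S)` commuting with `π(A)` lie in `π(A)`
  have hkey : ∀ y ∈ (S : Subgroup X).map π, (∀ a ∈ A, π a * y = y * π a) → y ∈ A.map π := by
    intro y hy hya
    obtain ⟨s, hsS, rfl⟩ := hy
    have hsA : s ∈ Subgroup.centralizer (A : Set X) := by
      rw [Subgroup.mem_centralizer_iff]
      intro a ha
      have h1 : a * s * a⁻¹ * s⁻¹ ∈ (S : Subgroup X) :=
        mul_mem (mul_mem (mul_mem (hAS ha) hsS) (inv_mem (hAS ha))) (inv_mem hsS)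
      have h2 : a * s * a⁻¹ * s⁻¹ ∈ Cfsg.pPrimeCore p X := by
        apply (hπker _).mp
        rw [map_mul, map_mul, map_mul, map_inv, map_inv, hya a ha]
        group
      have h3 := hNS _ h1 h2
      calc a * s = a * s * a⁻¹ * s⁻¹ * (s * a) := by group
        _ = s * a := by rw [h3, one_mul]
    have hsp : IsPGroup p ↥(Subgroup.zpowers s) :=
      S.isPGroup'.to_le (Subgroup.zpowers_le.mpr hsS)
    exact Subgroup.mem_map_of_mem π (hΩ s hsA hsp)
  -- class two of `π(S)`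
  have hclb : ∀ x ∈ (S : Subgroup X).map π, ∀ y ∈ (S : Subgroup X).map π,
      ∀ z ∈ (S : Subgroup X).map π, ⁅x, y⁆ * z = z * ⁅x, y⁆ := by
    rintro _ ⟨x, hx, rfl⟩ _ ⟨y, hy, rfl⟩ _ ⟨z, hz, rfl⟩
    have := congrArg π (hcl S x hx y hy z hz)
    simpa [commutatorElement_def] using this
  have hAbS : A.map π ≤ (S : Subgroup X).map π := Subgroup.map_mono hAS
  -- the images of `A` and `Q`
  have hAb : IsPGroup p ↥(A.map π) := hAp.map π
  have hQcop : (Nat.card ↥Q).Coprime p := ((Nat.Prime.coprime_iff_not_dvd hpp).mpr hQ).symm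
  have hQb : (Nat.card ↥(Q.map π)).Coprime p :=
    Nat.Coprime.coprime_dvd_left (Subgroup.card_map_dvd Q π) hQcop
  have hAQb : A.map π ≤ Subgroup.normalizer ((Q.map π : Subgroup _) : Set (X ⧸ Cfsg.pPrimeCore p X)) :=
    (Subgroup.map_mono hAQ).trans (Subgroup.le_normalizer_map π)
  have hQR : Q.map π ⊓ Rb = ⊥ := by
    apply Subgroup.inf_eq_bot_of_coprime
    obtain ⟨m, hm⟩ := IsPGroup.iff_card.mp hRbp
    rw [hm]
    exact hQb.pow_right m
  -- (H1): commutators `[r, a]` lie in `π(A) ∩ Rb`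
  have hH1 : ∀ r ∈ Rb, ∀ a ∈ A.map π, ⁅r, a⁆ ∈ A.map π ⊓ Rb := by
    intro r hr a ha
    refine Subgroup.mem_inf.mpr ⟨?_, ?_⟩
    · apply hkey
      · exact Subgroup.commutator_mem_commutator (hSb hr) (hAbS ha) |>
          (Subgroup.commutator_le.mpr (fun x hx y hy =>
            (show ⁅x, y⁆ ∈ (S : Subgroup X).map π from by
              rw [commutatorElement_def]
              exact mul_mem (mul_mem (mul_mem hx hy) (inv_mem hx)) (inv_mem hy))))
      · intro b hb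
        exact (hclb r (hSb hr) a (hAbS ha) (π b) (hAbS (Subgroup.mem_map_of_mem π hb))).symm
    · rw [commutatorElement_def]
      have h5 : a * r⁻¹ * a⁻¹ ∈ Rb := hRbn.conj_mem _ (inv_mem hr) a
      have h6 : r * a * r⁻¹ * a⁻¹ = r * (a * r⁻¹ * a⁻¹) := by group
      rw [h6]
      exact mul_mem hr h5
  -- (H3): elements of `π(A) ∩ Rb` commute with `π(Q)`
  have hH3 : ∀ x ∈ A.map π ⊓ Rb, ∀ k ∈ Q.map π, x * k = k * x := by
    intro x hx k hk
    obtain ⟨hxA, hxR⟩ := Subgroup.mem_inf.mp hx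
    have hc1 : x * k * x⁻¹ * k⁻¹ ∈ Q.map π := by
      have h5 := (Subgroup.mem_normalizer_iff.mp (hAQb hxA) k).mp hk
      exact mul_mem h5 (inv_mem hk)
    have hc2 : x * k * x⁻¹ * k⁻¹ ∈ Rb := by
      have h5 : k * x⁻¹ * k⁻¹ ∈ Rb := hRbn.conj_mem _ (inv_mem hxR) k
      have h6 : x * k * x⁻¹ * k⁻¹ = x * (k * x⁻¹ * k⁻¹) := by group
      rw [h6]
      exact mul_mem hxR h5
    have hc3 : x * k * x⁻¹ * k⁻¹ ∈ Q.map π ⊓ Rb := Subgroup.mem_inf.mpr ⟨hc1, hc2⟩
    rw [hQR, Subgroup.mem_bot] at hc3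
    calc x * k = (x * k * x⁻¹ * k⁻¹) * (k * x) := by group
      _ = k * x := by rw [hc3, one_mul]
  -- conjugation by `a ∈ π(A)` moves `r ∈ Rb` by an element of `π(A) ∩ Rb`
  have hmove : ∀ a ∈ A.map π, ∀ r ∈ Rb, ∃ c ∈ A.map π ⊓ Rb, a * r * a⁻¹ = c * r := by
    intro a ha r hr
    refine ⟨(⁅r, a⁆)⁻¹, inv_mem (hH1 r hr a ha), ?_⟩
    rw [commutatorElement_def]; group
  -- Step 1: `π(A)` centralizes `π(Q)`
  have hstep1 : ∀ a ∈ A.map π, ∀ k ∈ Q.map π, a * k = k * a := by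
    intro a ha k hk
    have hk' : a * k * a⁻¹ ∈ Q.map π := (Subgroup.mem_normalizer_iff.mp (hAQb ha) k).mp hk
    set y := k⁻¹ * (a * k * a⁻¹) with hy
    have hyQ : y ∈ Q.map π := mul_mem (inv_mem hk) hk'
    -- `y r y⁻¹ = c r` with `c ∈ π(A) ∩ Rb`
    have hyr : ∀ r ∈ Rb, ∃ c ∈ A.map π ⊓ Rb, y * r * y⁻¹ = c * r := by
      intro r hr
      obtain ⟨c₁, hc₁, h1⟩ := hmove a⁻¹ (inv_mem ha) r hr
      have hkr : k * r * k⁻¹ ∈ Rb := hRbn.conj_mem r hr k
      obtain ⟨c₂, hc₂, h2⟩ := hmove a ha (k * r * k⁻¹) hkr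
      have hc₁' : a * c₁ * a⁻¹ ∈ A.map π ⊓ Rb :=
        Subgroup.mem_inf.mpr ⟨mul_mem (mul_mem ha (Subgroup.mem_inf.mp hc₁).1) (inv_mem ha),
          hRbn.conj_mem _ (Subgroup.mem_inf.mp hc₁).2 a⟩
      refine ⟨a * c₁ * a⁻¹ * c₂, mul_mem hc₁' hc₂, ?_⟩
      have h3 : k * c₁ = c₁ * k := (hH3 c₁ hc₁ k hk).symm
      have h4 : k⁻¹ * (a * c₁ * a⁻¹ * c₂) = (a * c₁ * a⁻¹ * c₂) * k⁻¹ := by
        have h5 := hH3 _ (mul_mem hc₁' hc₂) k⁻¹ (inv_mem hk)
        exact h5.symm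
      have h1' : a⁻¹ * r * a = c₁ * r := by simpa using h1
      calc y * r * y⁻¹ = k⁻¹ * (a * (k * (a⁻¹ * r * a) * k⁻¹) * a⁻¹) * k := by
            rw [hy]; group
        _ = k⁻¹ * (a * (k * (c₁ * r) * k⁻¹) * a⁻¹) * k := by rw [h1']
        _ = k⁻¹ * (a * ((k * c₁) * r * k⁻¹) * a⁻¹) * k := by group
        _ = k⁻¹ * (a * ((c₁ * k) * r * k⁻¹) * a⁻¹) * k := by rw [h3]
        _ = k⁻¹ * ((a * c₁ * a⁻¹) * (a * (k * r * k⁻¹) * a⁻¹)) * k := by group
        _ = k⁻¹ * ((a * c₁ * a⁻¹) * (c₂ * (k * r * k⁻¹))) * k := by rw [h2]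
        _ = (k⁻¹ * (a * c₁ * a⁻¹ * c₂)) * (k * r * k⁻¹) * k := by group
        _ = ((a * c₁ * a⁻¹ * c₂) * k⁻¹) * (k * r * k⁻¹) * k := by rw [h4]
        _ = a * c₁ * a⁻¹ * c₂ * r := by group
    -- hence `y` centralizes `Rb`
    have hyC : y ∈ Subgroup.centralizer (Rb : Set (X ⧸ Cfsg.pPrimeCore p X)) := by
      rw [Subgroup.mem_centralizer_iff]
      intro r hr
      obtain ⟨c, hc, h1⟩ := hyr r hr
      have hcy : y * c = c * y := (hH3 c hc y hyQ).symm
      have h2 := conj_pow_eq h1 hcy (orderOf y)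
      rw [pow_orderOf_eq_one, one_mul, inv_one, mul_one] at h2
      have hordy : (orderOf y).Coprime p := by
        have h5 : orderOf y ∣ Nat.card ↥(Q.map π) := by
          have := orderOf_dvd_natCard (⟨y, hyQ⟩ : ↥(Q.map π))
          rwa [Subgroup.orderOf_mk] at this
        exact Nat.Coprime.coprime_dvd_left h5 hQb
      have hcn : c ^ orderOf y = 1 := by
        have h3 : c ^ orderOf y * r = r := h2.symm
        exact mul_right_cancel (h3.trans (one_mul r).symm)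
      have hc1 : c = 1 := by
        obtain ⟨m, hm⟩ := hRbp ⟨c, (Subgroup.mem_inf.mp hc).2⟩
        have hm' : c ^ p ^ m = 1 := by simpa using congrArg Subtype.val hm
        have h6 : orderOf c ∣ p ^ m := orderOf_dvd_of_pow_eq_one hm'
        have h7 : orderOf c ∣ orderOf y := orderOf_dvd_of_pow_eq_one hcn
        have h8 : (orderOf c).Coprime (orderOf c) :=
          Nat.Coprime.coprime_dvd_left h7 (Nat.Coprime.coprime_dvd_right h6 (hordy.pow_right m))
        exact orderOf_eq_one_iff.mp ((Nat.coprime_self _).mp h8)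
      rw [hc1, one_mul] at h1
      calc r * y = (y * r * y⁻¹) * y := by rw [h1]
        _ = y * r := by group
    have hy1 : y ∈ Q.map π ⊓ Rb := Subgroup.mem_inf.mpr ⟨hyQ, hCR hyC⟩
    rw [hQR, Subgroup.mem_bot] at hy1
    have h9 : a * k * a⁻¹ = k := by
      have : k * y = a * k * a⁻¹ := by rw [hy]; group
      rw [← this, hy1, mul_one]
    calc a * k = (a * k * a⁻¹) * a := by group
      _ = k * a := by rw [h9]
  -- Step 2: Thompson `A × B`
  have hH : IsPGroup p ↥(Rb ⊔ A.map π) :=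
    (IsPGroup.to_le (S.isPGroup'.map π)) (sup_le hSb hAbS)
  have hQH : Q.map π ≤ Subgroup.normalizer ((Rb ⊔ A.map π : Subgroup _) : Set (X ⧸ Cfsg.pPrimeCore p X)) := by
    intro k hk
    apply Cfsg.Agent.Lib.Helper1.mem_normalizer_of_forall_conj_mem
    have h1 : Rb ⊔ A.map π ≤ (Rb ⊔ A.map π).comap (MulAut.conj k).toMonoidHom := by
      apply sup_le
      · intro r hr
        exact Subgroup.mem_sup_left (hRbn.conj_mem r hr k)
      · intro w hw
        have : k * w * k⁻¹ = w := by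
          have := hstep1 w hw k hk
          calc k * w * k⁻¹ = (w * k) * k⁻¹ := by rw [this]
            _ = w := by group
        show k * w * k⁻¹ ∈ Rb ⊔ A.map π
        rw [this]
        exact Subgroup.mem_sup_right hw
    intro z hz
    exact h1 hz
  have hQA : Q.map π ≤ Subgroup.centralizer ((A.map π : Subgroup _) : Set (X ⧸ Cfsg.pPrimeCore p X)) := by
    intro k hk
    rw [Subgroup.mem_centralizer_iff]
    intro a ha
    exact hstep1 a ha k hk
  have hcent : ⁅(Rb ⊔ A.map π) ⊓ Subgroup.centralizer ((A.map π : Subgroup _) : Set (X ⧸ Cfsg.pPrimeCore p X)),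
      Q.map π⁆ = ⊥ := by
    rw [Subgroup.commutator_eq_bot_iff_le_centralizer]
    intro z hz
    obtain ⟨hz1, hz2⟩ := Subgroup.mem_inf.mp hz
    have hzA : z ∈ A.map π := by
      apply hkey z ((sup_le hSb hAbS) hz1)
      intro a ha
      exact (Subgroup.mem_centralizer_iff.mp hz2 (π a) (Subgroup.mem_map_of_mem π ha))
    rw [Subgroup.mem_centralizer_iff]
    intro k hk
    exact (hstep1 z hzA k hk).symm
  have hfin := Cfsg.Agent.Lib.Helper9.commutator_eq_bot_of_centralizes_centralizer hH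
    (le_sup_right : A.map π ≤ Rb ⊔ A.map π) hQH hQA hcent
    (Cfsg.Agent.Lib.Helper9.pStable_of_coprime p hQb)
  have hQRb : Q.map π ≤ Subgroup.centralizer (Rb : Set (X ⧸ Cfsg.pPrimeCore p X)) := by
    rw [Subgroup.commutator_eq_bot_iff_le_centralizer] at hfin
    intro k hk
    rw [Subgroup.mem_centralizer_iff]
    intro r hr
    have := Subgroup.mem_centralizer_iff.mp (hfin (Subgroup.mem_sup_left hr)) k hk
    exact this.symm
  -- conclusion
  intro q hq
  have h5 : π q ∈ Q.map π ⊓ Rb :=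
    Subgroup.mem_inf.mpr ⟨Subgroup.mem_map_of_mem π hq, hCR (hQRb (Subgroup.mem_map_of_mem π hq))⟩
  rw [hQR, Subgroup.mem_bot] at h5
  exact (hπker q).mp h5

end Cfsg.Agent.Lib.Helper4.InvTwo
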