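import Mathlib
import Cfsg.Agent.Lib.Helper8.Transitivity
import Cfsg.Agent.Lib.Helper8.SupNormalizer

/-!
# The transitivity theorem for arbitrary (not necessarily solvable) signalizer functors

A copy of helper8's `Transitivity` with the solvability requirement on the family dropped (the acting
group `A` is a `p`-group, hence solvable, which is all the coprime-action Sylow theory needs).
-/

set_option autoImplicit false

namespace Cfsg.Agent.Lib.Helper4.SigFam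

open Subgroup Cfsg.Agent.Lib.Helper8
open scoped Pointwise

variable {G : Type*} [Group G]

/-- The family of a signalizer functor, without the solvability requirement. -/
def fam (p : ℕ) (A : Subgroup G) (θ : G → Subgroup G) : Set (Subgroup G) :=
  {U | ¬ p ∣ Nat.card ↥U ∧ (∀ b ∈ A, ∀ u ∈ U, b * u * b⁻¹ ∈ U) ∧
    ∀ a ∈ A, a ≠ 1 → U ⊓ Subgroup.centralizer {a} ≤ θ a}

theorem fam_le_normalizer [Finite G] {p : ℕ} {A : Subgroup G} {θ : G → Subgroup G}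
    {U : Subgroup G} (hU : U ∈ fam p A θ) : A ≤ normalizer (U : Set G) :=
  le_normalizer_of_conj_mem hU.2.1

theorem fam_of_le {p : ℕ} {A : Subgroup G} {θ : G → Subgroup G} {U V : Subgroup G}
    (hU : U ∈ fam p A θ) (hVU : V ≤ U)
    (hVA : ∀ b ∈ A, ∀ v ∈ V, b * v * b⁻¹ ∈ V) : V ∈ fam p A θ := by
  obtain ⟨hp, _, hθ⟩ := hU
  refine ⟨?_, hVA, fun a ha ha1 => le_trans (inf_le_inf_right _ hVU) (hθ a ha ha1)⟩
  intro h
  exact hp (h.trans (Subgroup.card_dvd_of_le hVU))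

theorem fam_of_le_theta {p : ℕ} {A : Subgroup G} {θ : G → Subgroup G}
    (hθ : Cfsg.IsSignalizerFunctor p A θ) {a : G} (ha : a ∈ A) (ha1 : a ≠ 1)
    {V : Subgroup G} (hV : V ≤ θ a) (hVA : ∀ b ∈ A, ∀ v ∈ V, b * v * b⁻¹ ∈ V) :
    V ∈ fam p A θ := by
  obtain ⟨h1, h2, h3, h4⟩ := hθ
  refine ⟨?_, hVA, fun b hb hb1 => le_trans (inf_le_inf_right _ hV) (h4 a ha ha1 b hb hb1)⟩
  intro h
  exact h2 a ha ha1 (h.trans (Subgroup.card_dvd_of_le hV))

theorem fam_inf_centralizer_le {p : ℕ} {A : Subgroup G} {θ : G → Subgroup G}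
    {M : Subgroup G} (hM : M ∈ fam p A θ) :
    M ⊓ centralizer (A : Set G) ≤ Cfsg.signalizerInf A θ := by
  intro c hc
  rw [mem_signalizerInf_iff]
  intro a ha ha1
  apply hM.2.2 a ha ha1
  refine ⟨hc.1, ?_⟩
  have h2 : c ∈ centralizer (A : Set G) := hc.2
  show c ∈ centralizer ({a} : Set G)
  rw [Subgroup.mem_centralizer_singleton_iff]
  exact ((Subgroup.mem_centralizer_iff.mp h2) a ha).symm

theorem fam_map_conj {p : ℕ} {A : Subgroup G} {θ : G → Subgroup G}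
    (hθ : Cfsg.IsSignalizerFunctor p A θ) {U : Subgroup G}
    (hU : U ∈ fam p A θ) {c : G} (hc : c ∈ Cfsg.signalizerInf A θ) :
    U.map (MulAut.conj c).toMonoidHom ∈ fam p A θ := by
  obtain ⟨hp, hUA, hUθ⟩ := hU
  refine ⟨?_, ?_, ?_⟩
  · rw [card_map_conj]; exact hp
  · intro b hb u hu
    rw [mem_map_conj] at hu ⊢
    have hcb : Commute c b := signalizerInf_commute hθ hc hb
    have h1 : c⁻¹ * b = b * c⁻¹ := hcb.inv_left.eq
    have h2 : b⁻¹ * c = c * b⁻¹ := hcb.inv_right.eq.symm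
    have : c⁻¹ * (b * u * b⁻¹) * c = b * (c⁻¹ * u * c) * b⁻¹ := by
      calc c⁻¹ * (b * u * b⁻¹) * c = (c⁻¹ * b) * u * (b⁻¹ * c) := by group
        _ = (b * c⁻¹) * u * (c * b⁻¹) := by rw [h1, h2]
        _ = b * (c⁻¹ * u * c) * b⁻¹ := by group
    rw [this]
    exact hUA b hb _ hu
  · intro a ha ha1 x hx
    have hxU : x ∈ U.map (MulAut.conj c).toMonoidHom := hx.1
    have hxa : x ∈ centralizer ({a} : Set G) := hx.2
    rw [mem_map_conj] at hxU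
    rw [Subgroup.mem_centralizer_singleton_iff] at hxa
    have hca : Commute c a := signalizerInf_commute hθ hc ha
    have hcθ : c ∈ θ a := mem_signalizerInf_iff.mp hc a ha ha1
    have h1 : c⁻¹ * x * c ∈ θ a := by
      apply hUθ a ha ha1
      refine ⟨hxU, ?_⟩
      show c⁻¹ * x * c ∈ centralizer ({a} : Set G)
      rw [Subgroup.mem_centralizer_singleton_iff]
      have h3 : c⁻¹ * a = a * c⁻¹ := hca.inv_left.eq
      calc c⁻¹ * x * c * a = c⁻¹ * x * (c * a) := by group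
        _ = c⁻¹ * (x * a) * c := by rw [hca.eq]; group
        _ = (c⁻¹ * a) * x * c := by rw [hxa]; group
        _ = a * (c⁻¹ * x * c) := by rw [h3]; group
    have : x = c * (c⁻¹ * x * c) * c⁻¹ := by group
    rw [this]
    exact (θ a).mul_mem ((θ a).mul_mem hcθ h1) ((θ a).inv_mem hcθ)

/-- `X ⊔ Y` is in the family when `Y` normalizes `X` (S1280 without solvability). -/
theorem fam_sup [Finite G] (p : ℕ) [Fact p.Prime] (A : Subgroup G)
    (hA : Cfsg.IsElementaryAbelian p A) (θ : G → Subgroup G)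
    (X Y : Subgroup G) (hX : X ∈ fam p A θ) (hY : Y ∈ fam p A θ)
    (hn : Y ≤ Subgroup.normalizer (X : Set G)) : X ⊔ Y ∈ fam p A θ := by
  obtain ⟨hXp, hXA, hXθ⟩ := hX
  obtain ⟨hYp, hYA, hYθ⟩ := hY
  have hp : p.Prime := Fact.out
  refine ⟨not_dvd_card_sup_of_le_normalizer hp hXp hYp hn, ?_, ?_⟩
  · intro b hb u hu
    obtain ⟨x, hx, y, hy, rfl⟩ := mem_sup_of_le_normalizer hn hu
    have : b * (x * y) * b⁻¹ = (b * x * b⁻¹) * (b * y * b⁻¹) := by group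
    rw [this]
    exact Subgroup.mul_mem _ (Subgroup.mem_sup_left (hXA b hb x hx))
      (Subgroup.mem_sup_right (hYA b hb y hy))
  · intro a ha ha1 g hg
    obtain ⟨hg1, hg2⟩ := Subgroup.mem_inf.mp hg
    rw [Subgroup.mem_centralizer_singleton_iff] at hg2
    have hoa : orderOf a = p := orderOf_eq_prime (hA.2 a ha) ha1
    obtain ⟨x, hx, y, hy, hxa, hya, rfl⟩ :=
      centralizer_sup_factor hoa (hXA a ha) (hYA a ha) hn hXp hg1 hg2
    refine Subgroup.mul_mem _ (hXθ a ha ha1 (Subgroup.mem_inf.mpr ⟨hx, ?_⟩))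
      (hYθ a ha ha1 (Subgroup.mem_inf.mpr ⟨hy, ?_⟩))
    · rw [Subgroup.mem_centralizer_singleton_iff]; exact hxa
    · rw [Subgroup.mem_centralizer_singleton_iff]; exact hya

/-- `Q` is maximal among the `q`-subgroups in the family. -/
def IsMaxQ' (p : ℕ) (A : Subgroup G) (θ : G → Subgroup G) (q : ℕ) (Q : Subgroup G) : Prop :=
  Q ∈ fam p A θ ∧ IsPGroup q Q ∧
    ∀ R ∈ fam p A θ, IsPGroup q R → Q ≤ R → R = Q

theorem exists_isMaxQ'_ge [Finite G] {p : ℕ} {A : Subgroup G} {θ : G → Subgroup G} {q : ℕ}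
    {T : Subgroup G} (hT : T ∈ fam p A θ) (hTq : IsPGroup q T) :
    ∃ Q, IsMaxQ' p A θ q Q ∧ T ≤ Q := by
  classical
  let S : Set (Subgroup G) := {R | R ∈ fam p A θ ∧ IsPGroup q R ∧ T ≤ R}
  obtain ⟨Q, hQS, hQmax⟩ := Set.exists_max_image S (fun R => Nat.card R) (Set.toFinite S)
    ⟨T, hT, hTq, le_rfl⟩
  refine ⟨Q, ⟨hQS.1, hQS.2.1, fun R hR hRq hQR => ?_⟩, hQS.2.2⟩
  have := hQmax R ⟨hR, hRq, hQS.2.2.trans hQR⟩
  exact (Subgroup.eq_of_le_of_card_ge hQR this).symm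

theorem IsMaxQ'.map_conj [Finite G] {p : ℕ} {A : Subgroup G} {θ : G → Subgroup G} {q : ℕ}
    (hθ : Cfsg.IsSignalizerFunctor p A θ) {Q : Subgroup G} (hQ : IsMaxQ' p A θ q Q) {c : G}
    (hc : c ∈ Cfsg.signalizerInf A θ) : IsMaxQ' p A θ q (Q.map (MulAut.conj c).toMonoidHom) := by
  refine ⟨fam_map_conj hθ hQ.1 hc, hQ.2.1.map _, fun R hR hRq hle => ?_⟩
  have h1 : Q ≤ R.map (MulAut.conj c⁻¹).toMonoidHom := map_conj_le_iff.mp hle
  have hc' : c⁻¹ ∈ Cfsg.signalizerInf A θ := inv_mem hc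
  have h2 := hQ.2.2 _ (fam_map_conj hθ hR hc') (hRq.map _) h1
  have h3 := (map_conj_eq_iff (g := c⁻¹)).mp h2
  rw [inv_inv] at h3
  exact h3

/-- **Transitivity theorem** (no solvability). -/
theorem transitivity' [Finite G] (p : ℕ) [Fact p.Prime] (A : Subgroup G)
    (hA : Cfsg.IsElementaryAbelian p A) (hA3 : p ^ 3 ≤ Nat.card ↥A) (θ : G → Subgroup G)
    (hθ : Cfsg.IsSignalizerFunctor p A θ) (q : ℕ) [Fact q.Prime]
    (Q₁ Q₂ : Subgroup G) (h₁ : IsMaxQ' p A θ q Q₁) (h₂ : IsMaxQ' p A θ q Q₂) :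
    SigConj A θ Q₁ Q₂ := by
  classical
  have hp : p.Prime := Fact.out
  have hq : q.Prime := Fact.out
  by_contra hbad
  let S : Set (Subgroup G × Subgroup G) :=
    {P | IsMaxQ' p A θ q P.1 ∧ IsMaxQ' p A θ q P.2 ∧ ¬ SigConj A θ P.1 P.2}
  obtain ⟨⟨R₁, R₂⟩, hRS, hRmax⟩ := Set.exists_max_image S
    (fun P => Nat.card ↥(P.1 ⊓ P.2)) (Set.toFinite S) ⟨(Q₁, Q₂), h₁, h₂, hbad⟩
  obtain ⟨hR₁, hR₂, hRbad⟩ := hRS
  simp only at hR₁ hR₂ hRbad
  have hgood : ∀ P₁ P₂ : Subgroup G, IsMaxQ' p A θ q P₁ → IsMaxQ' p A θ q P₂ →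
      Nat.card ↥(R₁ ⊓ R₂) < Nat.card ↥(P₁ ⊓ P₂) → SigConj A θ P₁ P₂ := by
    intro P₁ P₂ hP₁ hP₂ hlt
    by_contra hb
    have := hRmax (P₁, P₂) ⟨hP₁, hP₂, hb⟩
    simp only at this
    omega
  have htriv : ∀ R : Subgroup G, IsMaxQ' p A θ q R → q = p → R = ⊥ := by
    intro R hR hqp
    have h1 : IsPGroup p R := hqp ▸ hR.2.1
    obtain ⟨k, hk⟩ := IsPGroup.iff_card.mp h1
    have h2 : ¬ p ∣ Nat.card R := hR.1.1
    have hk0 : k = 0 := by
      by_contra hk0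
      exact h2 (hk ▸ dvd_pow_self p hk0)
    rw [hk0, pow_zero] at hk
    exact Subgroup.card_eq_one.mp hk
  have hqp : q ≠ p := by
    intro hqp
    apply hRbad
    rw [htriv R₁ hR₁ hqp, htriv R₂ hR₂ hqp]
    exact SigConj.refl A θ ⊥
  have hAR₁ := fam_le_normalizer hR₁.1
  have hAR₂ := fam_le_normalizer hR₂.1
  have hD₁ : R₁ ⊓ R₂ ≠ R₁ := by
    intro h
    have hle : R₁ ≤ R₂ := h ▸ inf_le_right
    have := hR₁.2.2 R₂ hR₂.1 hR₂.2.1 hle
    exact hRbad (this ▸ SigConj.refl A θ R₂)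
  have hD₂ : R₁ ⊓ R₂ ≠ R₂ := by
    intro h
    have hle : R₂ ≤ R₁ := h ▸ inf_le_left
    have := hR₂.2.2 R₁ hR₁.1 hR₁.2.1 hle
    exact hRbad (this ▸ SigConj.refl A θ R₂)
  obtain ⟨a, haA, ha1, hn₁, hn₂⟩ := Cfsg.Agent.S1282.result p A hA hA3 q hqp R₁ R₂ hR₁.2.1 hR₂.2.1
    hAR₁ hAR₂ hD₁ hD₂
  have hDA : ∀ b ∈ A, ∀ u ∈ R₁ ⊓ R₂, b * u * b⁻¹ ∈ R₁ ⊓ R₂ := fun b hb u hu =>
    ⟨hR₁.1.2.1 b hb u hu.1, hR₂.1.2.1 b hb u hu.2⟩
  have hDfam : R₁ ⊓ R₂ ∈ fam p A θ := fam_of_le hR₁.1 inf_le_left hDA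
  have hAD : A ≤ normalizer ((R₁ ⊓ R₂ : Subgroup G) : Set G) := le_normalizer_of_conj_mem hDA
  have hXA : ∀ b ∈ A, ∀ u ∈ θ a ⊓ normalizer ((R₁ ⊓ R₂ : Subgroup G) : Set G),
      b * u * b⁻¹ ∈ θ a ⊓ normalizer ((R₁ ⊓ R₂ : Subgroup G) : Set G) := fun b hb u hu =>
    ⟨hθ.2.2.1 a haA ha1 b hb u hu.1,
      Subgroup.mul_mem _ (Subgroup.mul_mem _ (hAD hb) hu.2) (Subgroup.inv_mem _ (hAD hb))⟩
  have hXfam : θ a ⊓ normalizer ((R₁ ⊓ R₂ : Subgroup G) : Set G) ∈ fam p A θ :=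
    fam_of_le_theta hθ haA ha1 inf_le_left hXA
  have hMfam := fam_sup p A hA θ (R₁ ⊓ R₂)
    (θ a ⊓ normalizer ((R₁ ⊓ R₂ : Subgroup G) : Set G)) hDfam hXfam inf_le_right
  set D := R₁ ⊓ R₂ with hD
  set M := D ⊔ (θ a ⊓ normalizer (D : Set G)) with hM
  have hAM : A ≤ normalizer (M : Set G) := fam_le_normalizer hMfam
  have hAp : IsPGroup p A := by
    rintro ⟨g, hg⟩
    exact ⟨1, Subtype.ext (by simpa using hA.2 g hg)⟩
  have hAsolv : Group.IsSolvable ↥A := by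
    have := hAp.isNilpotent
    infer_instance
  have hcop : (Nat.card A).Coprime (Nat.card M) := by
    obtain ⟨k, hk⟩ := IsPGroup.iff_card.mp hAp
    rw [hk]
    exact Nat.Coprime.pow_left k ((Nat.Prime.coprime_iff_not_dvd hp).mpr hMfam.1)
  have key : ∀ R : Subgroup G, IsMaxQ' p A θ q R → D ≤ R →
      ¬ (normalizer (D : Set G) ⊓ R ⊓ centralizer {a} ≤ D) →
      ∃ P : Sylow q ↥M, A ≤ normalizer (((P : Subgroup M).map M.subtype : Subgroup G) : Set G) ∧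
        Nat.card D < Nat.card ((P : Subgroup M).map M.subtype : Subgroup G) ∧
        ∃ R', IsMaxQ' p A θ q R' ∧ (P : Subgroup M).map M.subtype ≤ R' ∧ SigConj A θ R R' := by
    intro R hR hDR hn
    have hAR := fam_le_normalizer hR.1
    have hTA : A ≤ normalizer ((M ⊓ R : Subgroup G) : Set G) :=
      le_normalizer_of_conj_mem fun b hb u hu =>
        ⟨conj_mem_of_le_normalizer hAM b hb u hu.1, conj_mem_of_le_normalizer hAR b hb u hu.2⟩
    have hTq : IsPGroup q ↥(M ⊓ R) := hR.2.1.to_le inf_le_right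
    obtain ⟨P, hTP, hAP⟩ := Cfsg.Agent.S0025.result A M hAM hcop (Or.inl hAsolv) q (M ⊓ R)
      inf_le_left hTq hTA
    have hT'fam : (P : Subgroup M).map M.subtype ∈ fam p A θ :=
      fam_of_le hMfam (Subgroup.map_subtype_le _) (conj_mem_of_le_normalizer hAP)
    have hT'q : IsPGroup q ((P : Subgroup M).map M.subtype : Subgroup G) := P.isPGroup'.map _
    obtain ⟨R', hR', hT'R'⟩ := exists_isMaxQ'_ge hT'fam hT'q
    have hDT : D ≤ M ⊓ R := le_inf le_sup_left hDR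
    have hTD : ¬ (M ⊓ R ≤ D) := by
      intro h
      apply hn
      refine le_trans ?_ h
      intro x hx
      have hxN : x ∈ normalizer (D : Set G) := hx.1.1
      have hxR : x ∈ R := hx.1.2
      have hxa : x ∈ centralizer ({a} : Set G) := hx.2
      refine ⟨?_, hxR⟩
      apply (le_sup_right : θ a ⊓ normalizer (D : Set G) ≤ M)
      exact ⟨hR.1.2.2 a haA ha1 ⟨hxR, hxa⟩, hxN⟩
    have hlt : Nat.card D < Nat.card ↥(M ⊓ R) := by
      apply lt_of_le_of_ne (Subgroup.card_le_of_le hDT)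
      intro h
      apply hTD
      rw [← Subgroup.eq_of_le_of_card_ge hDT h.ge]
    refine ⟨P, hAP, lt_of_lt_of_le hlt (Subgroup.card_le_of_le hTP), R', hR', hT'R', ?_⟩
    apply hgood R R' hR hR'
    exact lt_of_lt_of_le hlt (Subgroup.card_le_of_le (le_inf inf_le_right (hTP.trans hT'R')))
  obtain ⟨P₁, hAP₁, hlt₁, R₁', hR₁', hP₁R₁', hc₁⟩ := key R₁ hR₁ inf_le_left hn₁
  obtain ⟨P₂, hAP₂, hlt₂, R₂', hR₂', hP₂R₂', hc₂⟩ := key R₂ hR₂ inf_le_right hn₂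
  obtain ⟨c, hcA, hcP⟩ := Cfsg.Agent.S0024.result A M hAM hcop (Or.inl hAsolv) q P₁ P₂ hAP₁ hAP₂
  have hcI : (c : G) ∈ Cfsg.signalizerInf A θ := fam_inf_centralizer_le hMfam ⟨c.2, hcA⟩
  have hmap : ((P₂ : Subgroup M).map M.subtype : Subgroup G) =
      ((P₁ : Subgroup M).map M.subtype).map (MulAut.conj (c : G)).toMonoidHom := by
    rw [← hcP]
    exact map_subtype_smul_sylow c P₁
  have hR₁'' := hR₁'.map_conj hθ hcI
  have hc₃ : SigConj A θ R₁' (R₁'.map (MulAut.conj (c : G)).toMonoidHom) := ⟨c, hcI, rfl⟩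
  have hc₄ : SigConj A θ (R₁'.map (MulAut.conj (c : G)).toMonoidHom) R₂' := by
    apply hgood _ _ hR₁'' hR₂'
    refine lt_of_lt_of_le hlt₂ (Subgroup.card_le_of_le (le_inf ?_ hP₂R₂'))
    rw [hmap]
    exact Subgroup.map_mono hP₁R₁'
  exact hRbad (hc₁.trans (hc₃.trans (hc₄.trans hc₂.symm)))

end Cfsg.Agent.Lib.Helper4.SigFam
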