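import Mathlib
import Cfsg.Agent.Lib.Helper8.ThompsonTrans
import Cfsg.Agent.Lib.Helper8.SupNormalizer
import Cfsg.Agent.Lib.Helper8.InvPPrime
import Cfsg.Agent.Lib.Helper4.ElemAb
import Cfsg.Agent.Lib.Helper4.SigFam
import Cfsg.Agent.Lib.Helper4.InvTwo

/-!
# The Transitivity Theorem for groups with `p`-constrained `p`-locals (Gorenstein 8.5.4)
-/

set_option autoImplicit false
set_option maxHeartbeats 1000000
open scoped commutatorElement

namespace Cfsg.Agent.Lib.Helper4.TransGen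

open Subgroup Cfsg.Agent.Lib.Helper8 Cfsg.Agent.Lib.Helper4.SigFam

variable {G : Type*} [Group G]

theorem comm_central_of_class_le_two {H : Type*} [Group H] [Group.IsNilpotent H]
    (h : Group.nilpotencyClass H ≤ 2) (x y z : H) : ⁅x, y⁆ * z = z * ⁅x, y⁆ := by
  have h1 := Subgroup.lowerCentralSeries_eq_bot_iff_nilpotencyClass_le.mpr h
  have h2 : ⁅⁅x, y⁆, z⁆ ∈ (⊤ : Subgroup H).lowerCentralSeries 2 := by
    rw [Subgroup.lowerCentralSeries_succ, Subgroup.lowerCentralSeries_succ,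
      Subgroup.lowerCentralSeries_zero]
    exact Subgroup.commutator_mem_commutator
      (Subgroup.commutator_mem_commutator (Subgroup.mem_top x) (Subgroup.mem_top y))
      (Subgroup.mem_top z)
  rw [h1, Subgroup.mem_bot, commutatorElement_def] at h2
  calc ⁅x, y⁆ * z = (⁅x, y⁆ * z * ⁅x, y⁆⁻¹ * z⁻¹) * (z * ⁅x, y⁆) := by group
    _ = z * ⁅x, y⁆ := by rw [h2, one_mul]

/-- `C_G(a) ≤ N_G(⟨a⟩)`. -/
theorem centralizer_le_normalizer_zpowers (a : G) :
    centralizer ({a} : Set G) ≤ normalizer ((zpowers a : Subgroup G) : Set G) := by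
  intro g hg
  rw [mem_centralizer_singleton_iff] at hg
  have hcomm : ∀ n : ℤ, g * a ^ n * g⁻¹ = a ^ n := by
    intro n
    have h1 : Commute g (a ^ n) := (show Commute g a from hg).zpow_right n
    rw [h1.eq, mul_inv_cancel_right]
  rw [mem_normalizer_iff]
  intro x
  constructor
  · rintro ⟨n, rfl⟩
    rw [hcomm]; exact ⟨n, rfl⟩
  · rintro ⟨n, hn⟩
    have h2 : x = g⁻¹ * (g * x * g⁻¹) * g := by group
    rw [h2, ← hn]
    have h3 : g⁻¹ * a ^ n * g = a ^ n := by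
      have := hcomm n
      calc g⁻¹ * a ^ n * g = g⁻¹ * (g * a ^ n * g⁻¹) * g := by rw [this]
        _ = a ^ n := by group
    rw [h3]; exact ⟨n, rfl⟩

/-- Invariant `p'`-subgroups of a `p`-constrained subgroup `H ≥ A` lie in `O_{p'}(H)`
(`p` odd, or Sylow `p`-subgroups of class at most `2`). -/
theorem le_map_pPrimeCore' [Finite G] {p : ℕ} [hpf : Fact p.Prime]
    (hcl : p = 2 → ∀ S : Sylow p G, ∀ x ∈ (S : Subgroup G), ∀ y ∈ (S : Subgroup G),
      ∀ z ∈ (S : Subgroup G), ⁅x, y⁆ * z = z * ⁅x, y⁆)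
    {A : Subgroup G} (hAp : IsPGroup p ↥A)
    (hΩ : ∀ x ∈ centralizer (A : Set G), IsPGroup p ↥(zpowers x) → x ∈ A)
    {H : Subgroup G} (hXc : Cfsg.IsPConstrained p ↥H) (hAH : A ≤ H) {Y : Subgroup G} (hYH : Y ≤ H)
    (hYp : ¬ p ∣ Nat.card ↥Y) (hAY : A ≤ normalizer (Y : Set G)) :
    Y ≤ (Cfsg.pPrimeCore p ↥H).map H.subtype := by
  have hpp : p.Prime := hpf.out
  have hAp' : IsPGroup p ↥(A.subgroupOf H) := hAp.comap_subtype
  have hcent : ∀ x : ↥H, x ∈ centralizer ((A.subgroupOf H : Subgroup ↥H) : Set ↥H) →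
      (x : G) ∈ centralizer (A : Set G) := by
    intro x hx
    rw [Subgroup.mem_centralizer_iff]
    intro a ha
    have h1 := Subgroup.mem_centralizer_iff.mp hx ⟨a, hAH ha⟩ (Subgroup.mem_subgroupOf.mpr ha)
    exact congrArg Subtype.val h1
  have hcardY : Nat.card ↥(Y.subgroupOf H) = Nat.card ↥Y :=
    Nat.card_congr (Subgroup.subgroupOfEquivOfLe hYH).toEquiv
  have hQ' : ¬ p ∣ Nat.card ↥(Y.subgroupOf H) := by
    rw [hcardY]; exact hYp
  have hAQ' : A.subgroupOf H ≤ normalizer ((Y.subgroupOf H : Subgroup ↥H) : Set ↥H) := by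
    intro a ha
    rw [Subgroup.mem_normalizer_iff]
    intro y
    have h1 := Subgroup.mem_normalizer_iff.mp (hAY (Subgroup.mem_subgroupOf.mp ha)) (y : G)
    simp only [Subgroup.mem_subgroupOf]
    exact h1
  have hmain : Y.subgroupOf H ≤ Cfsg.pPrimeCore p ↥H := by
    by_cases hp2 : p = 2
    · apply Cfsg.Agent.Lib.Helper4.InvTwo.le_pPrimeCore_of_invariant_class_two p hXc
        (A.subgroupOf H) hAp' ?_ ?_ (Y.subgroupOf H) hQ' hAQ'
      · intro x hx hxp
        rw [Subgroup.mem_subgroupOf]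
        apply hΩ _ (hcent x hx)
        have h1 : zpowers (x : G) = (zpowers x).map H.subtype := by
          rw [MonoidHom.map_zpowers]; rfl
        rw [h1]
        exact hxp.map _
      · intro S x hx y hy z hz
        have hSp : IsPGroup p ↥((S : Subgroup ↥H).map H.subtype) := S.isPGroup'.map _
        obtain ⟨P, hP⟩ := hSp.exists_le_sylow
        have := hcl hp2 P x (hP ⟨x, hx, rfl⟩) y (hP ⟨y, hy, rfl⟩) z (hP ⟨z, hz, rfl⟩)
        apply Subtype.ext
        simpa [commutatorElement_def] using this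
    · apply Cfsg.Agent.Lib.Helper8.InvPPrime.le_pPrimeCore_of_invariant p hp2 hXc
        (A.subgroupOf H) hAp' ?_ (Y.subgroupOf H) hQ' hAQ'
      intro x hx hox
      rw [Subgroup.mem_subgroupOf]
      apply hΩ _ (hcent x hx)
      apply IsPGroup.of_card (n := 1)
      rw [Nat.card_zpowers, Subgroup.orderOf_coe, hox, pow_one]
  have h2 := Subgroup.map_mono (f := H.subtype) hmain
  rwa [Subgroup.map_subgroupOf_eq_of_le hYH] at h2

/-- `θ(a) = O_{p'}(N_G(⟨a⟩))`. -/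
def thetaN (p : ℕ) (a : G) : Subgroup G :=
  (Cfsg.pPrimeCore p ↥(normalizer ((zpowers a : Subgroup G) : Set G))).map
    (normalizer ((zpowers a : Subgroup G) : Set G)).subtype

theorem thetaN_le (p : ℕ) (a : G) : thetaN p a ≤ normalizer ((zpowers a : Subgroup G) : Set G) :=
  Subgroup.map_subtype_le _

theorem thetaN_not_dvd [Finite G] (p : ℕ) [hpf : Fact p.Prime] (a : G) :
    ¬ p ∣ Nat.card ↥(thetaN p a) := by
  unfold thetaN
  rw [Subgroup.card_map_of_injective (Subgroup.subtype_injective _)]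
  have hcop : (Nat.card ↥(Cfsg.pPrimeCore p
      ↥(normalizer ((zpowers a : Subgroup G) : Set G)))).Coprime p :=
    Cfsg.Agent.Lib.Helper12.pPrimeCore_coprime p
  exact (Nat.Prime.coprime_iff_not_dvd hpf.out).mp hcop.symm

theorem thetaN_conj (p : ℕ) (a : G) {g : G}
    (hg : g ∈ normalizer ((zpowers a : Subgroup G) : Set G)) {x : G}
    (hx : x ∈ thetaN p a) : g * x * g⁻¹ ∈ thetaN p a := by
  obtain ⟨x', hx', rfl⟩ := hx
  haveI : (Cfsg.pPrimeCore p ↥(normalizer ((zpowers a : Subgroup G) : Set G))).Normal :=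
    Cfsg.Agent.Lib.Helper24.pPrimeCore_normal' p
  exact ⟨⟨g, hg⟩ * x' * ⟨g, hg⟩⁻¹,
    ‹(Cfsg.pPrimeCore p _).Normal›.conj_mem x' hx' ⟨g, hg⟩, rfl⟩

theorem thetaN_le_centralizer [Finite G] (p : ℕ) [hpf : Fact p.Prime] {a : G}
    (ha : orderOf a = p) : thetaN p a ≤ centralizer ({a} : Set G) := by
  intro x hx
  have hxN := thetaN_le p a hx
  have haN : a ∈ normalizer ((zpowers a : Subgroup G) : Set G) :=
    Subgroup.le_normalizer (mem_zpowers a)
  have h1 : x * a * x⁻¹ ∈ zpowers a := (Subgroup.mem_normalizer_iff.mp hxN a).mp (mem_zpowers a)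
  have h2 : a * x⁻¹ * a⁻¹ ∈ thetaN p a := thetaN_conj p a haN (inv_mem hx)
  have h3 : x * a * x⁻¹ * a⁻¹ ∈ thetaN p a ⊓ zpowers a := by
    refine Subgroup.mem_inf.mpr ⟨?_, mul_mem h1 (inv_mem (mem_zpowers a))⟩
    have : x * a * x⁻¹ * a⁻¹ = x * (a * x⁻¹ * a⁻¹) := by group
    rw [this]
    exact mul_mem hx h2
  have hbot : thetaN p a ⊓ zpowers a = ⊥ := by
    apply Subgroup.inf_eq_bot_of_coprime
    rw [Nat.card_zpowers, ha]
    exact ((Nat.Prime.coprime_iff_not_dvd hpf.out).mpr (thetaN_not_dvd p a)).symm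
  rw [hbot, Subgroup.mem_bot] at h3
  rw [mem_centralizer_singleton_iff]
  calc x * a = (x * a * x⁻¹ * a⁻¹) * (a * x) := by group
    _ = a * x := by rw [h3, one_mul]

/-- A normal `p'`-subgroup of `X` lies in `O_{p'}(X)` (`piCoreOf` form). -/
theorem le_piCoreOf_primesNotDvd [Finite G] {p : ℕ} (hp : p.Prime) {X N : Subgroup G} (hNX : N ≤ X)
    (hnorm : ∀ x ∈ X, ∀ n ∈ N, x * n * x⁻¹ ∈ N) (hN : ¬ p ∣ Nat.card ↥N) :
    N ≤ Cfsg.piCoreOf (Cfsg.primesNotDvd p) X := by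
  intro n hn
  unfold Cfsg.piCoreOf Cfsg.piCore
  refine ⟨⟨n, hNX hn⟩, ?_, rfl⟩
  apply Subgroup.mem_sSup_of_mem (s := N.subgroupOf X)
  · refine ⟨⟨?_⟩, ?_⟩
    · intro y hy x
      rw [Subgroup.mem_subgroupOf] at hy ⊢
      exact hnorm x x.2 y hy
    · intro r hr hrd
      have hcard : Nat.card ↥(N.subgroupOf X) = Nat.card ↥N :=
        Nat.card_congr (Subgroup.subgroupOfEquivOfLe hNX).toEquiv
      rw [hcard] at hrd
      refine ⟨hr, ?_⟩
      intro hrp
      have : r = p := (Nat.prime_dvd_prime_iff_eq hr hp).mp hrp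
      exact hN (this ▸ hrd)
  · exact Subgroup.mem_subgroupOf.mpr hn

/-- **Transitivity Theorem** (Gorenstein 8.5.4). -/
theorem transitivity_pconstrained {G : Type*} [Group G] [Finite G] (p : ℕ) [hpf : Fact p.Prime]
    (hloc : ∀ T : Subgroup G, IsPGroup p T → T ≠ ⊥ →
      Cfsg.IsPConstrained p ↥(Subgroup.normalizer (T : Set G)))
    (h2 : p = 2 → ∀ S : Sylow p G, Group.IsNilpotent (S : Subgroup G) ∧
      Group.nilpotencyClass (S : Subgroup G) ≤ 2)
    (B : Subgroup G) (hBp : IsPGroup p B) (hBa : IsMulCommutative B)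
    (hE3 : ¬ Cfsg.PRankLE p 2 B)
    (hΩ : ∀ x ∈ Subgroup.centralizer (B : Set G), IsPGroup p (Subgroup.zpowers x) → x ∈ B)
    (q : ℕ) [hqf : Fact q.Prime] (hqp : q ≠ p) :
    ∀ Q₁ ∈ Cfsg.maxInvSubgroups ⊤ B {q}, ∀ Q₂ ∈ Cfsg.maxInvSubgroups ⊤ B {q},
      ∃ k ∈ Cfsg.piCoreOf (Cfsg.primesNotDvd p) (Subgroup.centralizer (B : Set G)),
        Q₂ = Q₁.map (MulAut.conj k).toMonoidHom := by
  classical
  have hpp : p.Prime := hpf.out
  have hqq : q.Prime := hqf.out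
  have hBcomm : ∀ a ∈ B, ∀ b ∈ B, a * b = b * a := fun a ha b hb =>
    congrArg Subtype.val (hBa.is_comm.comm (⟨a, ha⟩ : ↥B) ⟨b, hb⟩)
  -- class two in elementwise form
  have hcl : p = 2 → ∀ S : Sylow p G, ∀ x ∈ (S : Subgroup G), ∀ y ∈ (S : Subgroup G),
      ∀ z ∈ (S : Subgroup G), ⁅x, y⁆ * z = z * ⁅x, y⁆ := by
    intro hp2 S x hx y hy z hz
    obtain ⟨hnil, hc⟩ := h2 hp2 S
    have := comm_central_of_class_le_two hc (⟨x, hx⟩ : ↥(S : Subgroup G)) ⟨y, hy⟩ ⟨z, hz⟩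
    have h3 := congrArg Subtype.val this
    simpa [commutatorElement_def] using h3
  -- unpack the maximal invariant subgroups
  have hunpack : ∀ Q ∈ Cfsg.maxInvSubgroups ⊤ B {q}, IsPGroup q ↥Q ∧
      B ≤ Subgroup.normalizer (Q : Set G) ∧
      ∀ R : Subgroup G, IsPGroup q ↥R → B ≤ Subgroup.normalizer (R : Set G) → Q ≤ R → R = Q := by
    rintro Q ⟨⟨_, hQπ, hQB⟩, hQmax⟩
    refine ⟨?_, hQB, ?_⟩
    · have h1 : Nat.card ↥Q = q ^ (Nat.card ↥Q).primeFactorsList.length :=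
        Nat.eq_prime_pow_of_unique_prime_dvd Nat.card_pos.ne' (fun {d} hd hdd => hQπ d hd hdd)
      exact IsPGroup.of_card h1
    · intro R hRq hBR hQR
      apply hQmax R ⟨le_top, ?_, hBR⟩ hQR
      intro r hr hrd
      obtain ⟨k, hk⟩ := IsPGroup.iff_card.mp hRq
      rw [hk] at hrd
      exact (Nat.prime_dvd_prime_iff_eq hr hqq).mp (hr.dvd_of_dvd_pow hrd)
  intro Q₁ hQ₁ Q₂ hQ₂
  have h₁ := hunpack Q₁ hQ₁
  have h₂ := hunpack Q₂ hQ₂
  -- `A = Ω₁(B)`
  let A : Subgroup G :=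
    { carrier := {b | b ∈ B ∧ b ^ p = 1}
      mul_mem' := by
        rintro a b ⟨ha, hap⟩ ⟨hb, hbp⟩
        refine ⟨mul_mem ha hb, ?_⟩
        have hc : Commute a b := hBcomm a ha b hb
        rw [hc.mul_pow, hap, hbp, one_mul]
      one_mem' := ⟨one_mem _, one_pow _⟩
      inv_mem' := by
        rintro a ⟨ha, hap⟩
        exact ⟨inv_mem ha, by rw [inv_pow, hap, inv_one]⟩ }
  have hAB : A ≤ B := fun b hb => hb.1
  have hAel : Cfsg.IsElementaryAbelian p A :=
    ⟨⟨⟨fun a b => Subtype.ext (hBcomm a a.2.1 b b.2.1)⟩⟩, fun a ha => ha.2⟩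
  have hAp : IsPGroup p ↥A := by
    rintro ⟨g, hg⟩
    exact ⟨1, Subtype.ext (by simpa using hg.2)⟩
  obtain ⟨kA, hkA⟩ := IsPGroup.iff_card.mp hAp
  have hkA3 : 3 ≤ kA := by
    unfold Cfsg.PRankLE at hE3
    push Not at hE3
    obtain ⟨A₀, hA₀c, hA₀p, hA₀lt⟩ := hE3
    have hle : A₀.map B.subtype ≤ A := by
      rintro _ ⟨x, hx, rfl⟩
      refine ⟨x.2, ?_⟩
      have := congrArg Subtype.val (hA₀p x hx)
      simpa using this
    have hcard : Nat.card ↥(A₀.map B.subtype) = Nat.card ↥A₀ :=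
      Subgroup.card_map_of_injective (Subgroup.subtype_injective _)
    have h1 : p ^ 2 < Nat.card ↥A := by
      calc p ^ 2 < Nat.card ↥A₀ := hA₀lt
        _ = Nat.card ↥(A₀.map B.subtype) := hcard.symm
        _ ≤ Nat.card ↥A := Subgroup.card_le_of_le hle
    rw [hkA] at h1
    exact (Nat.pow_lt_pow_iff_right hpp.one_lt).mp h1
  have hA3 : p ^ 3 ≤ Nat.card ↥A := by
    rw [hkA]; exact Nat.pow_le_pow_right hpp.pos hkA3
  have hA2 : p ^ 2 ≤ Nat.card ↥A := le_trans (Nat.pow_le_pow_right hpp.pos (by norm_num)) hA3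
  have hpA : p ∣ Nat.card ↥A := by
    rw [hkA]; exact dvd_pow_self p (by omega)
  have hA1 : A ≠ ⊥ := by
    intro h
    rw [h, Subgroup.card_bot] at hpA
    exact hpp.one_lt.ne' (Nat.dvd_one.mp hpA)
  have hBC : ∀ a ∈ A, B ≤ centralizer ({a} : Set G) := fun a ha b hb => by
    rw [mem_centralizer_singleton_iff]; exact hBcomm b hb a (hAB ha)
  have hBN : ∀ a ∈ A, B ≤ normalizer ((zpowers a : Subgroup G) : Set G) := fun a ha =>
    (hBC a ha).trans (centralizer_le_normalizer_zpowers a)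
  have hord : ∀ a ∈ A, a ≠ 1 → orderOf a = p := fun a ha ha1 => orderOf_eq_prime ha.2 ha1
  -- `p`-constraint of `N(⟨a⟩)`
  have hNc : ∀ a ∈ A, a ≠ 1 →
      Cfsg.IsPConstrained p ↥(normalizer ((zpowers a : Subgroup G) : Set G)) := by
    intro a ha ha1
    apply hloc (zpowers a)
    · apply IsPGroup.of_card (n := 1)
      rw [Nat.card_zpowers, pow_one]
      exact hord a ha ha1
    · rw [Ne, zpowers_eq_bot]; exact ha1
  -- key: `B`-invariant `p'`-subgroups meet `C(a)` inside `θ(a)`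
  have hF : ∀ a ∈ A, a ≠ 1 → ∀ Y : Subgroup G, ¬ p ∣ Nat.card ↥Y → B ≤ normalizer (Y : Set G) →
      Y ⊓ centralizer ({a} : Set G) ≤ thetaN p a := by
    intro a ha ha1 Y hYp hBY
    apply le_map_pPrimeCore' hcl hBp hΩ (hNc a ha ha1) (hBN a ha)
      (inf_le_right.trans (centralizer_le_normalizer_zpowers a))
    · intro h; exact hYp (h.trans (card_dvd_of_le inf_le_left))
    · apply le_normalizer_of_conj_mem
      intro b hb u hu
      exact Subgroup.mem_inf.mpr ⟨conj_mem_of_le_normalizer hBY b hb u (Subgroup.mem_inf.mp hu).1,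
        Subgroup.mul_mem _ (Subgroup.mul_mem _ (hBC a ha hb) (Subgroup.mem_inf.mp hu).2)
          (Subgroup.inv_mem _ (hBC a ha hb))⟩
  have hθ : Cfsg.IsSignalizerFunctor p A (thetaN p) := by
    refine ⟨fun a ha ha1 => thetaN_le_centralizer p (hord a ha ha1),
      fun a _ _ => thetaN_not_dvd p a, ?_, ?_⟩
    · intro a ha _ b hb x hx
      exact thetaN_conj p a (hBN a ha (hAB hb)) hx
    · intro a ha ha1 b hb hb1
      apply hF b hb hb1 (thetaN p a) (thetaN_not_dvd p a)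
      apply le_normalizer_of_conj_mem
      intro c hc x hx
      exact thetaN_conj p a (hBN a ha hc) hx
  have hqnp : ∀ R : Subgroup G, IsPGroup q ↥R → ¬ p ∣ Nat.card ↥R := by
    intro R hRq
    obtain ⟨k, hk⟩ := IsPGroup.iff_card.mp hRq
    rw [hk]
    intro h
    exact hqp.symm ((Nat.prime_dvd_prime_iff_eq hpp hqq).mp (hpp.dvd_of_dvd_pow h))
  have hfam : ∀ R : Subgroup G, IsPGroup q ↥R → B ≤ normalizer (R : Set G) →
      R ∈ fam p A (thetaN p) := by
    intro R hRq hBR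
    exact ⟨hqnp R hRq, fun b hb u hu => conj_mem_of_le_normalizer hBR b (hAB hb) u hu,
      fun a ha ha1 => hF a ha ha1 R (hqnp R hRq) hBR⟩
  have hcopAq : ∀ R : Subgroup G, IsPGroup q ↥R → (Nat.card ↥A).Coprime (Nat.card ↥R) := by
    intro R hRq
    rw [hkA]
    exact Nat.Coprime.pow_left kA ((Nat.Prime.coprime_iff_not_dvd hpp).mpr (hqnp R hRq))
  -- maximal `B`-invariant `q`-subgroups are maximal in the family
  have hmax : ∀ Q : Subgroup G, IsPGroup q ↥Q → B ≤ normalizer (Q : Set G) →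
      (∀ R : Subgroup G, IsPGroup q ↥R → B ≤ normalizer (R : Set G) → Q ≤ R → R = Q) →
      IsMaxQ' p A (thetaN p) q Q := by
    intro Q hQq hBQ hQmax
    refine ⟨hfam Q hQq hBQ, hQq, ?_⟩
    intro R hRfam hRq hQR
    by_contra hne
    obtain ⟨x₀, hx₀R, hx₀N, hx₀Q⟩ :=
      Cfsg.Agent.Lib.Helper16.exists_mem_normalizer_not_mem hRq hQR (Ne.symm hne)
    have hNQ : ¬ R ⊓ normalizer (Q : Set G) ≤ Q := fun h => hx₀Q (h ⟨hx₀R, hx₀N⟩)
    have hAR := fam_le_normalizer hRfam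
    have hAQ : A ≤ normalizer (Q : Set G) := hAB.trans hBQ
    have hAN : A ≤ normalizer ((R ⊓ normalizer (Q : Set G) : Subgroup G) : Set G) := by
      apply le_normalizer_of_conj_mem
      intro b hb u hu
      exact Subgroup.mem_inf.mpr ⟨conj_mem_of_le_normalizer hAR b hb u (Subgroup.mem_inf.mp hu).1,
        Subgroup.mul_mem _ (Subgroup.mul_mem _ (hAQ hb) (Subgroup.mem_inf.mp hu).2)
          (Subgroup.inv_mem _ (hAQ hb))⟩
    have hcopN : (Nat.card ↥A).Coprime (Nat.card ↥(R ⊓ normalizer (Q : Set G))) :=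
      hcopAq _ (hRq.to_le inf_le_left)
    obtain ⟨B₀, hB₀A, hB₀i, hB₀n⟩ := exists_index_p_centralizer_not_le p A
      (R ⊓ normalizer (Q : Set G)) Q hAel hA1 hAN hcopN hNQ
    obtain ⟨a, haB₀, ha1⟩ : ∃ a ∈ B₀, a ≠ 1 := by
      by_contra hcon
      push Not at hcon
      have hB₀bot : B₀ = ⊥ := (Subgroup.eq_bot_iff_forall _).mpr hcon
      have h1 : Nat.card ↥B₀ * B₀.relIndex A = Nat.card ↥A :=
        Cfsg.Agent.Lib.Helper4.card_mul_relIndex hB₀A
      rw [hB₀bot, Subgroup.card_bot, one_mul] at h1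
      rw [hB₀bot] at hB₀i
      rw [hB₀i] at h1
      rw [← h1] at hA2
      have : p < p ^ 2 := by
        calc p = p ^ 1 := (pow_one p).symm
          _ < p ^ 2 := Nat.pow_lt_pow_right hpp.one_lt (by norm_num)
      omega
    have haA := hB₀A haB₀
    obtain ⟨x, hxNC, hxQ⟩ := SetLike.not_le_iff_exists.mp hB₀n
    have hxa : x ∈ centralizer ({a} : Set G) := by
      rw [mem_centralizer_singleton_iff]
      exact ((mem_centralizer_iff.mp hxNC.2) a haB₀).symm
    have hxθ : x ∈ thetaN p a := hRfam.2.2 a haA ha1 ⟨hxNC.1.1, hxa⟩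
    have hLA : ∀ b ∈ A, ∀ u ∈ thetaN p a ⊓ normalizer (Q : Set G),
        b * u * b⁻¹ ∈ thetaN p a ⊓ normalizer (Q : Set G) := fun b hb u hu =>
      Subgroup.mem_inf.mpr ⟨thetaN_conj p a (hBN a haA (hAB hb)) (Subgroup.mem_inf.mp hu).1,
        Subgroup.mul_mem _ (Subgroup.mul_mem _ (hAQ hb) (Subgroup.mem_inf.mp hu).2)
          (Subgroup.inv_mem _ (hAQ hb))⟩
    have hLfam : thetaN p a ⊓ normalizer (Q : Set G) ∈ fam p A (thetaN p) :=
      fam_of_le_theta hθ haA ha1 inf_le_left hLA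
    have hMfam := fam_sup p A hAel (thetaN p) Q
      (thetaN p a ⊓ normalizer (Q : Set G)) (hfam Q hQq hBQ) hLfam inf_le_right
    have hBM : B ≤ normalizer ((Q ⊔ (thetaN p a ⊓ normalizer (Q : Set G)) : Subgroup G) : Set G) := by
      apply le_normalizer_of_conj_mem
      intro b hb g hg
      obtain ⟨u, hu, v, hv, rfl⟩ := mem_sup_of_le_normalizer
        (inf_le_right : thetaN p a ⊓ normalizer (Q : Set G) ≤ normalizer (Q : Set G)) hg
      have h1 : b * (u * v) * b⁻¹ = (b * u * b⁻¹) * (b * v * b⁻¹) := by group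
      rw [h1]
      apply mul_mem
      · exact mem_sup_left (conj_mem_of_le_normalizer hBQ b hb u hu)
      · apply mem_sup_right
        exact Subgroup.mem_inf.mpr ⟨thetaN_conj p a (hBN a haA hb) (Subgroup.mem_inf.mp hv).1,
          Subgroup.mul_mem _ (Subgroup.mul_mem _ (hBQ hb) (Subgroup.mem_inf.mp hv).2)
            (Subgroup.inv_mem _ (hBQ hb))⟩
    have hcopM : (Nat.card ↥B).Coprime
        (Nat.card ↥(Q ⊔ (thetaN p a ⊓ normalizer (Q : Set G)))) := by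
      obtain ⟨k, hk⟩ := IsPGroup.iff_card.mp hBp
      rw [hk]
      exact Nat.Coprime.pow_left k ((Nat.Prime.coprime_iff_not_dvd hpp).mpr hMfam.1)
    have hBsolv : Group.IsSolvable ↥B := by
      have := hBp.isNilpotent
      infer_instance
    obtain ⟨S, hQS, hBS⟩ := Cfsg.Agent.S0025.result B
      (Q ⊔ (thetaN p a ⊓ normalizer (Q : Set G))) hBM hcopM (Or.inl hBsolv) q Q le_sup_left hQq hBQ
    have hSQ := hQmax _ (S.isPGroup'.map _) hBS hQS
    have hT : Q ⊔ zpowers x ≤ R := sup_le hQR ((zpowers_le).mpr hxNC.1.1)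
    have hTq : IsPGroup q ↥(Q ⊔ zpowers x) := hRq.to_le hT
    have hTM : Q ⊔ zpowers x ≤ Q ⊔ (thetaN p a ⊓ normalizer (Q : Set G)) :=
      sup_le le_sup_left ((zpowers_le).mpr (mem_sup_right ⟨hxθ, hxNC.1.2⟩))
    have h1 := card_dvd_of_isPGroup_le hTq hTM
    have h2 := (sylow_map_subtype_isSylIn S).2
    rw [← h2, hSQ] at h1
    have h3 : Nat.card ↥Q < Nat.card ↥(Q ⊔ zpowers x) := by
      apply lt_of_le_of_ne (Subgroup.card_le_of_le le_sup_left)
      intro heq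
      have := Subgroup.eq_of_le_of_card_ge (le_sup_left : Q ≤ Q ⊔ zpowers x) heq.ge
      apply hxQ
      rw [this]
      exact mem_sup_right (mem_zpowers x)
    exact absurd (Nat.le_of_dvd Nat.card_pos h1) (not_le.mpr h3)
  -- transitivity under `K = θ(C(A))`
  obtain ⟨c, hcK, hcQ⟩ := transitivity' p A hAel hA3 (thetaN p) hθ q Q₁ Q₂
    (hmax Q₁ h₁.1 h₁.2.1 h₁.2.2) (hmax Q₂ h₂.1 h₂.2.1 h₂.2.2)
  -- properties of `K`
  obtain ⟨K, hKdef⟩ : ∃ K : Subgroup G, K = Cfsg.signalizerInf A (thetaN p) := ⟨_, rfl⟩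
  rw [← hKdef] at hcK
  have hKmem : ∀ k, k ∈ K ↔ ∀ a ∈ A, a ≠ 1 → k ∈ thetaN p a := by
    intro k; rw [hKdef]; exact mem_signalizerInf_iff
  have hCBK : ∀ b ∈ centralizer (B : Set G), ∀ k ∈ K, b * k * b⁻¹ ∈ K := by
    intro b hb k hk
    rw [hKmem] at hk ⊢
    intro a ha ha1
    apply thetaN_conj p a _ (hk a ha ha1)
    apply centralizer_le_normalizer_zpowers a
    rw [mem_centralizer_singleton_iff]
    exact (mem_centralizer_iff.mp hb a (hAB ha)).symm
  have hBK : ∀ b ∈ B, ∀ k ∈ K, b * k * b⁻¹ ∈ K := by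
    intro b hb k hk
    apply hCBK b _ k hk
    rw [mem_centralizer_iff]
    intro b' hb'
    exact hBcomm b' hb' b hb
  have hBNK : B ≤ normalizer (K : Set G) := le_normalizer_of_conj_mem hBK
  obtain ⟨a₀, ha₀A, ha₀1⟩ : ∃ a ∈ A, a ≠ 1 := by
    by_contra hcon
    push Not at hcon
    exact hA1 ((Subgroup.eq_bot_iff_forall _).mpr hcon)
  have hKθ : K ≤ thetaN p a₀ := fun k hk => (hKmem k).mp hk a₀ ha₀A ha₀1
  have hKp : ¬ p ∣ Nat.card ↥K := fun h =>
    thetaN_not_dvd p a₀ (h.trans (Subgroup.card_dvd_of_le hKθ))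
  obtain ⟨kB, hkB⟩ := IsPGroup.iff_card.mp hBp
  have hKB : K ⊓ B = ⊥ := by
    apply Subgroup.inf_eq_bot_of_coprime
    rw [hkB]
    exact Nat.Coprime.pow_right kB ((Nat.Prime.coprime_iff_not_dvd hpp).mpr hKp).symm
  -- `B` is a Sylow `p`-subgroup of `N₂ = KB ∩ N(Q₂)`
  have hcardT : Nat.card ↥(K ⊔ B) = Nat.card ↥K * Nat.card ↥B := by
    have h1 := Cfsg.Agent.Lib.Helper4.card_sup_mul_card_inf B K hBNK
    rw [inf_comm, hKB, Subgroup.card_bot, mul_one, sup_comm, mul_comm] at h1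
    exact h1
  have hfacT : (Nat.card ↥(K ⊔ B)).factorization p = kB := by
    rw [hcardT, Nat.factorization_mul Nat.card_pos.ne' Nat.card_pos.ne', Finsupp.add_apply,
      Nat.factorization_eq_zero_of_not_dvd hKp, zero_add, hkB, hpp.factorization_pow,
      Finsupp.single_eq_same]
  have hBN₂ : B ≤ (K ⊔ B) ⊓ normalizer (Q₂ : Set G) := le_inf le_sup_right h₂.2.1
  have hSyl : IsSylIn p B ((K ⊔ B) ⊓ normalizer (Q₂ : Set G)) := by
    apply isSylIn_of_card_le hBp hBN₂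
    have h1 : Nat.card ↥((K ⊔ B) ⊓ normalizer (Q₂ : Set G)) ∣ Nat.card ↥(K ⊔ B) :=
      Subgroup.card_dvd_of_le inf_le_left
    have h2 : (Nat.card ↥((K ⊔ B) ⊓ normalizer (Q₂ : Set G))).factorization p ≤ kB := by
      rw [← hfacT]
      exact (Nat.factorization_le_iff_dvd Nat.card_pos.ne' Nat.card_pos.ne').mpr h1 p
    rw [hkB]
    exact Nat.pow_le_pow_right hpp.pos h2
  -- the conjugate `cBc⁻¹`
  have hB'T : B.map (MulAut.conj c).toMonoidHom ≤ (K ⊔ B) ⊓ normalizer (Q₂ : Set G) := by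
    apply le_inf
    · rintro _ ⟨b, hb, rfl⟩
      show c * b * c⁻¹ ∈ K ⊔ B
      exact mul_mem (mul_mem (mem_sup_left hcK) (mem_sup_right hb)) (inv_mem (mem_sup_left hcK))
    · have h1 := (Subgroup.map_mono h₁.2.1).trans
        (Subgroup.le_normalizer_map (H := Q₁) (MulAut.conj c).toMonoidHom)
      rw [hcQ] at h1
      exact h1
  obtain ⟨n, hnN₂, hn⟩ := Cfsg.Agent.Lib.Helper8.ThompsonTrans.exists_conj_isSylIn hSyl hB'T
    (hBp.map _)
  have hgB : ∀ b ∈ B, (n * c) * b * (n * c)⁻¹ ∈ B := by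
    intro b hb
    have h1 := hn (c * b * c⁻¹) ⟨b, hb, rfl⟩
    have h2 : n * c * b * (n * c)⁻¹ = n * (c * b * c⁻¹) * n⁻¹ := by group
    rw [h2]; exact h1
  have hgT : n * c ∈ K ⊔ B := mul_mem hnN₂.1 (mem_sup_left hcK)
  obtain ⟨k, hk, b₀, hb₀, hkb⟩ := mem_sup_of_le_normalizer hBNK hgT
  have hkeq : k = n * c * b₀⁻¹ := by rw [hkb]; group
  have hkC : k ∈ centralizer (B : Set G) := by
    rw [mem_centralizer_iff]
    intro b hb
    have h1 : k * b * k⁻¹ ∈ B := by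
      have h2 : k * b * k⁻¹ = (n * c) * (b₀⁻¹ * b * b₀) * (n * c)⁻¹ := by rw [hkeq]; group
      rw [h2]
      exact hgB _ (mul_mem (mul_mem (inv_mem hb₀) hb) hb₀)
    have h3 : k * b * k⁻¹ * b⁻¹ ∈ K ⊓ B := by
      refine mem_inf.mpr ⟨?_, mul_mem h1 (inv_mem hb)⟩
      have h4 : k * b * k⁻¹ * b⁻¹ = k * (b * k⁻¹ * b⁻¹) := by group
      rw [h4]
      exact mul_mem hk (hBK b hb _ (inv_mem hk))
    rw [hKB, mem_bot] at h3
    calc b * k = (k * b * k⁻¹ * b⁻¹)⁻¹ * (k * b) := by group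
      _ = k * b := by rw [h3, inv_one, one_mul]
  refine ⟨k, ?_, ?_⟩
  · -- `k ∈ O_{p'}(C_G(B))`
    have hN : K ⊓ centralizer (B : Set G) ≤
        Cfsg.piCoreOf (Cfsg.primesNotDvd p) (centralizer (B : Set G)) := by
      apply le_piCoreOf_primesNotDvd hpp inf_le_right
      · intro x hx n hn
        refine mem_inf.mpr ⟨hCBK x hx n (mem_inf.mp hn).1, ?_⟩
        exact mul_mem (mul_mem hx (mem_inf.mp hn).2) (inv_mem hx)
      · intro h
        exact hKp (h.trans (Subgroup.card_dvd_of_le inf_le_left))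
    exact hN (mem_inf.mpr ⟨hk, hkC⟩)
  · have hb₀N : Q₁.map (MulAut.conj b₀⁻¹).toMonoidHom = Q₁ :=
      mem_normalizer_iff_map_conj.mp (h₁.2.1 (inv_mem hb₀))
    have hnN : Q₂.map (MulAut.conj n).toMonoidHom = Q₂ := mem_normalizer_iff_map_conj.mp hnN₂.2
    have h5 : n * c * b₀⁻¹ = n * (c * b₀⁻¹) := by group
    rw [hkeq, h5, ← map_conj_map_conj, ← map_conj_map_conj, hb₀N, hcQ, hnN]

end Cfsg.Agent.Lib.Helper4.TransGen
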