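import Mathlib
import Cfsg.Agent.Lib.Helper9.PConstrainedLocal
import Cfsg.Agent.Lib.Helper8.Hyperplane
import Cfsg.Agent.Lib.Helper20.NormalRankTwo
import Cfsg.Agent.Lib.Helper4.InvTwo
import Cfsg.Agent.Lib.Helper4.TransGen
import Cfsg.Agent.Lib.Helper4.Basic

/-!
# Characteristic 2 type criteria: no odd-order `S`-invariant subgroups
-/

set_option autoImplicit false

namespace Cfsg.Agent.Lib.Helper4.CharTwoCrit

open Subgroup

/-- In a `p`-constrained group with `O_{p'} = 1`, `C(O_p) ≤ O_p`. -/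
theorem centralizer_pCore_le {X : Type*} [Group X] [Finite X] (p : ℕ) [hpf : Fact p.Prime]
    (hX : Cfsg.IsPConstrained p X) (h0 : Cfsg.pPrimeCore p X = ⊥) :
    centralizer (Cfsg.pCore p X : Set X) ≤ Cfsg.pCore p X := by
  obtain ⟨π, hπdef⟩ : ∃ π : X →* X ⧸ Cfsg.pPrimeCore p X,
      π = QuotientGroup.mk' (Cfsg.pPrimeCore p X) := ⟨_, rfl⟩
  have hπs : Function.Surjective π := hπdef ▸ QuotientGroup.mk'_surjective _
  have hπker : ∀ x : X, π x = 1 ↔ x ∈ Cfsg.pPrimeCore p X := by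
    intro x
    rw [hπdef]
    exact QuotientGroup.eq_one_iff x
  have hπi : Function.Injective π := by
    rw [injective_iff_map_eq_one]
    intro x hx
    have := (hπker x).mp hx
    rw [h0] at this
    exact Subgroup.mem_bot.mp this
  obtain ⟨e, he⟩ : ∃ e : X ≃* X ⧸ Cfsg.pPrimeCore p X, ∀ x, e x = π x :=
    ⟨MulEquiv.ofBijective π ⟨hπi, hπs⟩, fun x => rfl⟩
  have hmap : (Cfsg.pCore p X).map π = Cfsg.pCore p (X ⧸ Cfsg.pPrimeCore p X) := by
    rw [← Cfsg.Agent.Lib.Helper12.pCore_map_equiv' p e]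
    ext y
    simp only [Subgroup.mem_map]
    constructor
    · rintro ⟨w, hw, rfl⟩
      exact ⟨w, hw, he w⟩
    · rintro ⟨w, hw, rfl⟩
      exact ⟨w, hw, (he w).symm⟩
  intro x hx
  have hy : π x ∈ centralizer (Cfsg.pCore p (X ⧸ Cfsg.pPrimeCore p X) : Set _) := by
    rw [← hmap]
    intro z hz
    obtain ⟨w, hw, rfl⟩ := hz
    rw [← map_mul, ← map_mul, hx w hw]
  obtain ⟨P⟩ : Nonempty (Sylow p ↥(Cfsg.pPrimePCore p X)) := inferInstance
  rw [hπdef] at hy
  obtain ⟨n, hn, hxn⟩ :=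
    Cfsg.Agent.Lib.Helper9.exists_mem_centralizer_sylow_of_map_mem_centralizer_pCore p P hy
  have h1 := hX P hxn
  rw [h0, Subgroup.mem_bot] at hn
  rw [hn, mul_one] at h1
  have h2 : π x ∈ Cfsg.pCore p (X ⧸ Cfsg.pPrimeCore p X) := by
    rw [hπdef]
    exact h1
  rw [← hmap] at h2
  obtain ⟨w, hw, hwx⟩ := h2
  rw [← hπi hwx]
  exact hw

variable {G : Type*} [Group G]

/-- key local step -/
theorem inf_centralizer_eq_bot [Finite G] (S : Sylow 2 G)
    (L : Subgroup G) (hL : Cfsg.IsPConstrained 2 ↥L) (hL0 : Cfsg.pPrimeCore 2 ↥L = ⊥)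
    (X : Subgroup G) (hXodd : Odd (Nat.card ↥X))
    (hSX : (S : Subgroup G) ≤ normalizer (X : Set G))
    (t : G) (htL : centralizer ({t} : Set G) ≤ L)
    (hidx : Nat.card ↥(S : Subgroup G) ≤
      2 * Nat.card ↥((S : Subgroup G) ⊓ centralizer ({t} : Set G))) :
    X ⊓ centralizer ({t} : Set G) = ⊥ := by
  classical
  haveI : Fact (Nat.Prime 2) := ⟨Nat.prime_two⟩
  obtain ⟨R, hRdef⟩ : ∃ R : Subgroup G, R = (S : Subgroup G) ⊓ centralizer ({t} : Set G) :=
    ⟨_, rfl⟩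
  obtain ⟨Y, hYdef⟩ : ∃ Y : Subgroup G, Y = X ⊓ centralizer ({t} : Set G) := ⟨_, rfl⟩
  obtain ⟨Q, hQdef⟩ : ∃ Q : Subgroup G, Q = (Cfsg.pCore 2 ↥L).map L.subtype := ⟨_, rfl⟩
  rw [← hYdef]
  rw [← hRdef] at hidx
  have hRS : R ≤ S := hRdef ▸ inf_le_left
  have hRC : R ≤ centralizer ({t} : Set G) := hRdef ▸ inf_le_right
  have hRL : R ≤ L := hRC.trans htL
  have hYX : Y ≤ X := hYdef ▸ inf_le_left
  have hYC : Y ≤ centralizer ({t} : Set G) := hYdef ▸ inf_le_right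
  have hYL : Y ≤ L := hYC.trans htL
  have hQL : Q ≤ L := hQdef ▸ Subgroup.map_subtype_le _
  have hQ2 : IsPGroup 2 ↥Q := hQdef ▸ (Cfsg.Agent.Lib.Helper1.pCore_isPGroup 2 _).map _
  have hR2 : IsPGroup 2 ↥R := S.isPGroup'.to_le hRS
  haveI hQn : (Cfsg.pCore 2 ↥L).Normal := Cfsg.Agent.Lib.Helper24.pCore_normal' 2
  have hLQ : L ≤ normalizer (Q : Set G) := by
    intro l hl
    apply Cfsg.Agent.Lib.Helper1.mem_normalizer_of_forall_conj_mem
    intro q hq
    rw [hQdef] at hq ⊢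
    obtain ⟨w, hw, rfl⟩ := hq
    exact ⟨(⟨l, hl⟩ : ↥L) * w * (⟨l, hl⟩ : ↥L)⁻¹, hQn.conj_mem w hw _, rfl⟩
  have hRY : R ≤ normalizer (Y : Set G) := by
    intro r hr
    apply Cfsg.Agent.Lib.Helper1.mem_normalizer_of_forall_conj_mem
    intro y hy
    rw [hYdef] at hy ⊢
    refine ⟨(Subgroup.mem_normalizer_iff.mp (hSX (hRS hr)) y).mp hy.1, ?_⟩
    exact Subgroup.mul_mem _ (Subgroup.mul_mem _ (hRC hr) hy.2) (Subgroup.inv_mem _ (hRC hr))
  have hYodd : Odd (Nat.card ↥Y) := by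
    have hd : Nat.card ↥Y ∣ Nat.card ↥X := Subgroup.card_dvd_of_le hYX
    exact hXodd.of_dvd_nat hd
  have hQY : Q ⊓ Y = ⊥ := by
    apply Subgroup.inf_eq_bot_of_coprime
    obtain ⟨k, hk⟩ := IsPGroup.iff_card.mp hQ2
    rw [hk]
    exact Nat.Coprime.pow_left k (Nat.coprime_two_left.mpr hYodd)
  -- index of `Q ⊓ R` in `Q` is at most 2
  have hidxQ : ∀ q ∈ Q, q ∉ R → ∀ q' ∈ Q, q' ∉ R → q * q' ∈ R := by
    have hQR2 : IsPGroup 2 ↥(Q ⊔ R) :=
      IsPGroup.to_sup_of_normal_left' hQ2 hR2 (hRL.trans hLQ)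
    obtain ⟨P, hP⟩ := hQR2.exists_le_sylow
    have hcP : Nat.card ↥(P : Subgroup G) = Nat.card ↥(S : Subgroup G) := by
      rw [Sylow.card_eq_multiplicity, Sylow.card_eq_multiplicity]
    have h1 : Nat.card ↥(Q ⊔ R : Subgroup G) ≤ Nat.card ↥(S : Subgroup G) :=
      hcP ▸ Subgroup.card_le_of_le hP
    have h2 := Cfsg.Agent.Lib.Helper4.card_sup_mul_card_inf R Q (hRL.trans hLQ)
    have h3 : Nat.card ↥(Q ⊓ R : Subgroup G) * (Q ⊓ R).relIndex Q = Nat.card ↥Q :=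
      Cfsg.Agent.Lib.Helper4.card_mul_relIndex inf_le_left
    have hRpos : 0 < Nat.card ↥R := Nat.card_pos
    have hQRpos : 0 < Nat.card ↥(Q ⊓ R : Subgroup G) := Nat.card_pos
    have h4 : (Q ⊓ R).relIndex Q ≤ 2 := by
      rw [sup_comm, inf_comm] at h2
      have h5 : Nat.card ↥Q * Nat.card ↥R ≤ 2 * Nat.card ↥R * Nat.card ↥(Q ⊓ R : Subgroup G) := by
        rw [mul_comm (Nat.card ↥Q), ← h2]
        exact Nat.mul_le_mul_right _ (h1.trans hidx)
      rw [← h3] at h5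
      have h6 : (Q ⊓ R).relIndex Q * (Nat.card ↥R * Nat.card ↥(Q ⊓ R : Subgroup G)) ≤
          2 * (Nat.card ↥R * Nat.card ↥(Q ⊓ R : Subgroup G)) := by
        calc (Q ⊓ R).relIndex Q * (Nat.card ↥R * Nat.card ↥(Q ⊓ R : Subgroup G))
            = Nat.card ↥(Q ⊓ R : Subgroup G) * (Q ⊓ R).relIndex Q * Nat.card ↥R := by ring
          _ ≤ 2 * Nat.card ↥R * Nat.card ↥(Q ⊓ R : Subgroup G) := h5
          _ = 2 * (Nat.card ↥R * Nat.card ↥(Q ⊓ R : Subgroup G)) := by ring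
      exact Nat.le_of_mul_le_mul_right h6 (Nat.mul_pos hRpos hQRpos)
    have h0 : (Q ⊓ R).relIndex Q ≠ 0 := by
      intro h
      rw [h, mul_zero] at h3
      have : 0 < Nat.card ↥Q := Nat.card_pos
      omega
    intro q hq hqR q' hq' hq'R
    have hcases : (Q ⊓ R).relIndex Q = 1 ∨ (Q ⊓ R).relIndex Q = 2 := by omega
    rcases hcases with h | h
    · exfalso
      have := Subgroup.relIndex_eq_one.mp h
      exact hqR (this hq).2
    · have hidx2 : ((Q ⊓ R).subgroupOf Q).index = 2 := h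
      have := Subgroup.mul_mem_iff_of_index_two hidx2 (a := (⟨q, hq⟩ : ↥Q)) (b := (⟨q', hq'⟩ : ↥Q))
      rw [Subgroup.mem_subgroupOf, Subgroup.mem_subgroupOf, Subgroup.mem_subgroupOf] at this
      have h7 : (q * q') ∈ Q ⊓ R := by
        apply this.mpr
        constructor
        · intro hh
          exact absurd hh.2 hqR
        · intro hh
          exact absurd hh.2 hq'R
      exact h7.2
  -- `Y` centralizes `Q ⊓ R`
  have hcomm0 : ∀ y ∈ Y, ∀ q ∈ Q, q ∈ R → y * q = q * y := by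
    intro y hy q hq hqR
    have h1 : q * y * q⁻¹ * y⁻¹ ∈ Q ⊓ Y := by
      constructor
      · have : y * q⁻¹ * y⁻¹ ∈ Q :=
          (Subgroup.mem_normalizer_iff.mp (hLQ (hYL hy)) q⁻¹).mp (Subgroup.inv_mem _ hq)
        have h2 : q * y * q⁻¹ * y⁻¹ = q * (y * q⁻¹ * y⁻¹) := by group
        rw [h2]
        exact Subgroup.mul_mem _ hq this
      · have : q * y * q⁻¹ ∈ Y := (Subgroup.mem_normalizer_iff.mp (hRY hqR) y).mp hy
        exact Subgroup.mul_mem _ this (Subgroup.inv_mem _ hy)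
    rw [hQY, Subgroup.mem_bot] at h1
    have h2 : y * q = (q * y * q⁻¹ * y⁻¹)⁻¹ * (q * y) := by group
    rw [h2, h1, inv_one, one_mul]
  -- `Y` centralizes `Q`
  have hcomm : ∀ y ∈ Y, ∀ q ∈ Q, y * q = q * y := by
    intro y hy q hq
    by_cases hqR : q ∈ R
    · exact hcomm0 y hy q hq hqR
    · have hyq : y * q * y⁻¹ ∈ Q := (Subgroup.mem_normalizer_iff.mp (hLQ (hYL hy)) q).mp hq
      have hyqR : y * q * y⁻¹ ∉ R := by
        intro hh
        have h1 := hcomm0 y⁻¹ (Subgroup.inv_mem _ hy) _ hyq hh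
        apply hqR
        have h2 : q = y⁻¹ * (y * q * y⁻¹) * y := by group
        rw [h2, h1]
        have h3 : y * q * y⁻¹ * y⁻¹ * y = y * q * y⁻¹ := by group
        rw [h3]
        exact hh
      have hq'R : q⁻¹ ∉ R := fun hh => hqR (by simpa using Subgroup.inv_mem _ hh)
      have hcR : y * q * y⁻¹ * q⁻¹ ∈ R := hidxQ _ hyq hyqR _ (Subgroup.inv_mem _ hq) hq'R
      have hcQ : y * q * y⁻¹ * q⁻¹ ∈ Q := Subgroup.mul_mem _ hyq (Subgroup.inv_mem _ hq)
      have hc := hcomm0 y hy _ hcQ hcR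
      have hconj : y * q * y⁻¹ = (y * q * y⁻¹ * q⁻¹) * q := by group
      have hpow := Cfsg.Agent.Lib.Helper4.InvTwo.conj_pow_eq hconj hc (orderOf y)
      rw [pow_orderOf_eq_one, one_mul, inv_one, mul_one] at hpow
      have hc1 : (y * q * y⁻¹ * q⁻¹) ^ orderOf y = 1 := by
        have := mul_right_cancel (b := q) (a := 1) (c := (y * q * y⁻¹ * q⁻¹) ^ orderOf y)
          (by rw [one_mul]; exact hpow)
        exact this.symm
      -- order of `c` is a power of 2 dividing odd `orderOf y`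
      have hoy : Odd (orderOf y) := by
        have h1 : orderOf y ∣ Nat.card ↥Y := by
          have := orderOf_dvd_natCard (⟨y, hy⟩ : ↥Y)
          rwa [Subgroup.orderOf_mk] at this
        exact hYodd.of_dvd_nat h1
      obtain ⟨k, hk⟩ := (IsPGroup.iff_orderOf.mp hQ2) ⟨_, hcQ⟩
      rw [Subgroup.orderOf_mk] at hk
      have hdvd : orderOf (y * q * y⁻¹ * q⁻¹) ∣ orderOf y := orderOf_dvd_of_pow_eq_one hc1
      rw [hk] at hdvd
      have hk0 : k = 0 := by
        by_contra hk0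
        have : 2 ∣ orderOf y := (dvd_pow_self 2 hk0).trans hdvd
        exact (Nat.not_even_iff_odd.mpr hoy) (even_iff_two_dvd.mpr this)
      rw [hk0, pow_zero, orderOf_eq_one_iff] at hk
      have h3 : y * q = (y * q * y⁻¹ * q⁻¹) * (q * y) := by group
      rw [h3, hk, one_mul]
  -- conclude
  rw [eq_bot_iff]
  intro y hy
  have hyL : y ∈ L := hYL hy
  have hyC : (⟨y, hyL⟩ : ↥L) ∈ centralizer (Cfsg.pCore 2 ↥L : Set ↥L) := by
    intro w hw
    have hwQ : (w : G) ∈ Q := by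
      rw [hQdef]
      exact ⟨w, hw, rfl⟩
    apply Subtype.ext
    simp only [Subgroup.coe_mul]
    exact (hcomm y hy _ hwQ).symm
  have hyP := centralizer_pCore_le 2 hL hL0 hyC
  have hyQ : y ∈ Q := by
    rw [hQdef]
    exact ⟨⟨y, hyL⟩, hyP, rfl⟩
  have : y ∈ Q ⊓ Y := ⟨hyQ, hy⟩
  rwa [hQY] at this

/-- the centralizer in `S` of an element of a normal subgroup of order `4` has index at most `2` -/
theorem card_le_two_mul_centralizer [Finite G] (S U : Subgroup G) (hS : IsPGroup 2 ↥S)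
    (hUS : U ≤ S) (hSU : S ≤ normalizer (U : Set G)) (hU4 : Nat.card ↥U = 4) (t : G)
    (ht : t ∈ U) :
    Nat.card ↥S ≤ 2 * Nat.card ↥(S ⊓ centralizer ({t} : Set G)) := by
  classical
  haveI : Fact (Nat.Prime 2) := ⟨Nat.prime_two⟩
  by_cases hcen : S ≤ centralizer ({t} : Set G)
  · rw [inf_eq_left.mpr hcen]
    omega
  obtain ⟨s₀, hs₀S, hs₀C⟩ := SetLike.not_le_iff_exists.mp hcen
  haveI hN : (U.subgroupOf S).Normal :=
    (Subgroup.normal_subgroupOf_iff_le_normalizer hUS).mpr hSU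
  have hNne : U.subgroupOf S ≠ ⊥ := by
    intro h
    have hUb : U = ⊥ := by
      rw [eq_bot_iff]
      intro u hu
      have h1 : (⟨u, hUS hu⟩ : ↥S) ∈ U.subgroupOf S := Subgroup.mem_subgroupOf.mpr hu
      rw [h, Subgroup.mem_bot] at h1
      exact Subgroup.mem_bot.mpr (congrArg Subtype.val h1)
    rw [hUb, Subgroup.card_bot] at hU4
    omega
  obtain ⟨z', hz'N, hz'1, hz'c⟩ :=
    Cfsg.Agent.Lib.Helper12.exists_ne_one_mem_center_of_normal hS (U.subgroupOf S) hNne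
  obtain ⟨z, hzS⟩ := z'
  have hzU : z ∈ U := Subgroup.mem_subgroupOf.mp hz'N
  have hz1 : z ≠ 1 := fun h => hz'1 (Subtype.ext h)
  have hzc : ∀ s ∈ S, s * z = z * s := by
    intro s hs
    have := Subgroup.mem_center_iff.mp hz'c ⟨s, hs⟩
    exact congrArg Subtype.val this
  have ht1 : t ≠ 1 := by
    rintro rfl
    apply hcen
    intro s _
    rw [Subgroup.mem_centralizer_singleton_iff]
    simp
  have htz : t ≠ z := by
    rintro rfl
    apply hcen
    intro s hs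
    rw [Subgroup.mem_centralizer_singleton_iff]
    exact hzc s hs
  -- uniqueness of the fourth element
  have key : ∀ a ∈ U, a ≠ 1 → a ≠ z → a ≠ t → ∀ b ∈ U, b ≠ 1 → b ≠ z → b ≠ t → a = b := by
    intro a ha ha1 haz hat b hb hb1 hbz hbt
    by_contra hab
    have hsub : ({1, z, t, a, b} : Set G) ⊆ (U : Set G) := by
      intro x hx
      simp only [Set.mem_insert_iff, Set.mem_singleton_iff] at hx
      rcases hx with rfl | rfl | rfl | rfl | rfl
      · exact U.one_mem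
      · exact hzU
      · exact ht
      · exact ha
      · exact hb
    have h5 : ({1, z, t, a, b} : Set G).ncard = 5 := by
      rw [Set.ncard_insert_of_notMem, Set.ncard_insert_of_notMem, Set.ncard_insert_of_notMem,
        Set.ncard_pair hab]
      · simp only [Set.mem_insert_iff, Set.mem_singleton_iff, not_or]
        exact ⟨hat.symm, hbt.symm⟩
      · simp only [Set.mem_insert_iff, Set.mem_singleton_iff, not_or]
        exact ⟨htz.symm, haz.symm, hbz.symm⟩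
      · simp only [Set.mem_insert_iff, Set.mem_singleton_iff, not_or]
        exact ⟨hz1.symm, ht1.symm, ha1.symm, hb1.symm⟩
    have h6 := Set.ncard_le_ncard hsub (Set.toFinite _)
    rw [h5, ← Nat.card_coe_set_eq] at h6
    have h7 : Nat.card ↥(U : Set G) = Nat.card ↥U := rfl
    omega
  -- conjugates of `t` by elements outside the centralizer
  have hconj : ∀ s ∈ S, s ∉ centralizer ({t} : Set G) →
      s * t * s⁻¹ ∈ U ∧ s * t * s⁻¹ ≠ 1 ∧ s * t * s⁻¹ ≠ z ∧ s * t * s⁻¹ ≠ t := by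
    intro s hs hsC
    refine ⟨(Subgroup.mem_normalizer_iff.mp (hSU hs) t).mp ht, ?_, ?_, ?_⟩
    · intro h
      apply ht1
      have : t = s⁻¹ * (s * t * s⁻¹) * s := by group
      rw [this, h]
      group
    · intro h
      apply htz
      have h1 : t = s⁻¹ * (s * t * s⁻¹) * s := by group
      rw [h1, h, mul_assoc, ← hzc s hs]
      group
    · intro h
      apply hsC
      rw [Subgroup.mem_centralizer_singleton_iff]
      have h1 : s * t = (s * t * s⁻¹) * s := by group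
      rw [h1, h]
  have hprod : ∀ s ∈ S, s ∉ centralizer ({t} : Set G) → s * s₀ ∈ centralizer ({t} : Set G) := by
    intro s hs hsC
    have hs' : s⁻¹ ∉ centralizer ({t} : Set G) := fun hh => hsC (by simpa using Subgroup.inv_mem _ hh)
    obtain ⟨a1, a2, a3, a4⟩ := hconj s⁻¹ (Subgroup.inv_mem _ hs) hs'
    obtain ⟨b1, b2, b3, b4⟩ := hconj s₀ hs₀S hs₀C
    have heq := key _ a1 a2 a3 a4 _ b1 b2 b3 b4
    rw [Subgroup.mem_centralizer_singleton_iff]
    have h1 : s * s₀ * t = s * (s₀ * t * s₀⁻¹) * s₀ := by group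
    rw [h1, ← heq]
    group
  have hidx : ((S ⊓ centralizer ({t} : Set G)).subgroupOf S).index = 2 := by
    rw [Subgroup.index_eq_two_iff]
    refine ⟨⟨s₀, hs₀S⟩, ?_⟩
    rintro ⟨b, hb⟩
    rw [Subgroup.mem_subgroupOf, Subgroup.mem_subgroupOf]
    simp only [Subgroup.coe_mul]
    by_cases hbC : b ∈ centralizer ({t} : Set G)
    · right
      refine ⟨⟨hb, hbC⟩, ?_⟩
      intro hh
      apply hs₀C
      have : s₀ = b⁻¹ * (b * s₀) := by group
      rw [this]
      exact Subgroup.mul_mem _ (Subgroup.inv_mem _ hbC) hh.2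
    · left
      exact ⟨⟨Subgroup.mul_mem _ hb hs₀S, hprod b hb hbC⟩, fun hh => hbC hh.2⟩
  have h8 := Cfsg.Agent.Lib.Helper4.card_mul_relIndex
    (inf_le_left : S ⊓ centralizer ({t} : Set G) ≤ S)
  have h9 : (S ⊓ centralizer ({t} : Set G)).relIndex S = 2 := hidx
  rw [h9] at h8
  omega

/-- **No `S`-invariant odd-order subgroups.** -/
theorem no_odd_invariant [Finite G] (S : Sylow 2 G) (A : Subgroup G)
    (hA : Cfsg.IsSCN (S : Subgroup G) A) (hA3 : ¬ Cfsg.PRankLE 2 2 ↥A)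
    (hloc : ∀ t : G, orderOf t = 2 → ∃ L : Subgroup G, centralizer ({t} : Set G) ≤ L ∧
        Cfsg.IsPConstrained 2 ↥L ∧ Cfsg.pPrimeCore 2 ↥L = ⊥)
    (X : Subgroup G) (hXodd : Odd (Nat.card ↥X))
    (hSX : (S : Subgroup G) ≤ normalizer (X : Set G)) : X = ⊥ := by
  classical
  haveI : Fact (Nat.Prime 2) := ⟨Nat.prime_two⟩
  obtain ⟨hAS, hSA, hCA⟩ := hA
  have hAab : ∀ a ∈ A, ∀ b ∈ A, a * b = b * a := by
    intro a ha b hb
    have hb' : b ∈ (S : Subgroup G) ⊓ centralizer (A : Set G) := by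
      rw [hCA]
      exact hb
    exact hb'.2 a ha
  obtain ⟨Ω, hΩ⟩ : ∃ Ω : Subgroup G, ∀ x, x ∈ Ω ↔ x ∈ A ∧ x ^ 2 = 1 := by
    refine ⟨{ carrier := {a | a ∈ A ∧ a ^ 2 = 1}
              one_mem' := ⟨A.one_mem, one_pow 2⟩
              mul_mem' := ?_
              inv_mem' := ?_ }, fun x => Iff.rfl⟩
    · rintro a b ⟨ha, ha2⟩ ⟨hb, hb2⟩
      refine ⟨A.mul_mem ha hb, ?_⟩
      rw [(show Commute a b from hAab a ha b hb).mul_pow, ha2, hb2, one_mul]
    · rintro a ⟨ha, ha2⟩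
      exact ⟨A.inv_mem ha, by rw [inv_pow, ha2, inv_one]⟩
  have hΩA : Ω ≤ A := fun x hx => ((hΩ x).mp hx).1
  have hΩS : Ω ≤ S := hΩA.trans hAS
  have hSΩ : (S : Subgroup G) ≤ normalizer (Ω : Set G) := by
    intro s hs
    apply Cfsg.Agent.Lib.Helper1.mem_normalizer_of_forall_conj_mem
    intro x hx
    obtain ⟨hxA, hx2⟩ := (hΩ x).mp hx
    rw [hΩ]
    refine ⟨(Subgroup.mem_normalizer_iff.mp (hSA hs) x).mp hxA, ?_⟩
    rw [conj_pow, hx2, mul_one, mul_inv_cancel]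
  -- rank at least 3
  unfold Cfsg.PRankLE at hA3
  push Not at hA3
  obtain ⟨E, _, hE2, hEc⟩ := hA3
  have hEΩ : E.map A.subtype ≤ Ω := by
    rintro _ ⟨e, he, rfl⟩
    rw [hΩ]
    refine ⟨e.2, ?_⟩
    have := hE2 e he
    exact congrArg Subtype.val this
  have hΩc : 2 ^ 2 < Nat.card ↥Ω := by
    have h1 := Subgroup.card_le_of_le hEΩ
    rw [Subgroup.card_subtype] at h1
    omega
  haveI hNn : (Ω.subgroupOf S).Normal :=
    (Subgroup.normal_subgroupOf_iff_le_normalizer hΩS).mpr hSΩ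
  have hNexp : ∀ x ∈ Ω.subgroupOf (S : Subgroup G), x ^ 2 = 1 := by
    intro x hx
    rw [Subgroup.mem_subgroupOf, hΩ] at hx
    exact Subtype.ext hx.2
  have hNc : 2 ^ 2 ≤ Nat.card ↥(Ω.subgroupOf (S : Subgroup G)) := by
    rw [Nat.card_congr (Subgroup.subgroupOfEquivOfLe hΩS).toEquiv]
    omega
  obtain ⟨M, hMN, hMn, _, _, hMc⟩ :=
    Cfsg.Agent.Lib.Helper20.exists_normal_elemAb_card_sq (p := 2) S.isPGroup'
      (Ω.subgroupOf (S : Subgroup G)) hNexp hNc
  obtain ⟨U, hUdef⟩ : ∃ U : Subgroup G, U = M.map (S : Subgroup G).subtype := ⟨_, rfl⟩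
  have hUS : U ≤ S := hUdef ▸ Subgroup.map_subtype_le _
  have hUΩ : U ≤ Ω := by
    rw [hUdef]
    rintro _ ⟨m, hm, rfl⟩
    exact Subgroup.mem_subgroupOf.mp (hMN hm)
  have hU4 : Nat.card ↥U = 4 := by
    rw [hUdef, Subgroup.card_subtype, hMc]
    norm_num
  have hSU : (S : Subgroup G) ≤ normalizer (U : Set G) := by
    intro l hl
    apply Cfsg.Agent.Lib.Helper1.mem_normalizer_of_forall_conj_mem
    intro q hq
    rw [hUdef] at hq ⊢
    obtain ⟨w, hw, rfl⟩ := hq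
    exact ⟨(⟨l, hl⟩ : ↥(S : Subgroup G)) * w * (⟨l, hl⟩ : ↥(S : Subgroup G))⁻¹,
      hMn.conj_mem w hw _, rfl⟩
  have hUexp : ∀ u ∈ U, u ^ 2 = 1 := fun u hu => ((hΩ u).mp (hUΩ hu)).2
  have hUel : Cfsg.IsElementaryAbelian 2 U := by
    refine ⟨⟨⟨fun a b => Subtype.ext ?_⟩⟩, hUexp⟩
    exact hAab _ (hΩA (hUΩ a.2)) _ (hΩA (hUΩ b.2))
  have hU1 : U ≠ ⊥ := by
    intro h
    rw [h, Subgroup.card_bot] at hU4
    omega
  by_contra hX
  have hXle : ¬ X ≤ ⊥ := fun h => hX (eq_bot_iff.mpr h)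
  have hcop : (Nat.card ↥U).Coprime (Nat.card ↥X) := by
    rw [hU4]
    have : (2 ^ 2).Coprime (Nat.card ↥X) :=
      Nat.Coprime.pow_left 2 (Nat.coprime_two_left.mpr hXodd)
    exact this
  obtain ⟨B, hBU, hBidx, hBX⟩ := Cfsg.Agent.Lib.Helper8.exists_index_p_centralizer_not_le 2 U X ⊥
    hUel hU1 (hUS.trans hSX) hcop hXle
  have hBc := Cfsg.Agent.Lib.Helper4.card_mul_relIndex hBU
  rw [hBidx, hU4] at hBc
  have hB1 : B ≠ ⊥ := by
    intro h
    rw [h, Subgroup.card_bot] at hBc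
    omega
  obtain ⟨⟨t, htB⟩, ht1'⟩ := (Subgroup.ne_bot_iff_exists_ne_one.mp hB1)
  have ht1 : t ≠ 1 := fun h => ht1' (Subtype.ext h)
  have htU : t ∈ U := hBU htB
  have hto : orderOf t = 2 := orderOf_eq_prime (hUexp t htU) ht1
  obtain ⟨L, htL, hLc, hL0⟩ := hloc t hto
  have hidx := card_le_two_mul_centralizer (S : Subgroup G) U S.isPGroup' hUS hSU hU4 t htU
  have hbot := inf_centralizer_eq_bot S L hLc hL0 X hXodd hSX t htL hidx
  apply hBX
  rw [← hbot]
  refine inf_le_inf le_rfl (Subgroup.centralizer_le ?_)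
  intro x hx
  rw [Set.mem_singleton_iff] at hx
  rw [hx]
  exact htB

/-- the local subgroups provided by either hypothesis -/
theorem exists_local [Finite G]
    (h : (∀ M : Subgroup G, Cfsg.IsMaximalTwoLocal M →
        Cfsg.IsPConstrained 2 ↥M ∧ Cfsg.oddCore ↥M = ⊥) ∨
      (∀ t : G, orderOf t = 2 → Cfsg.IsPConstrained 2 ↥(Subgroup.centralizer ({t} : Set G)) ∧
        Cfsg.oddCore ↥(Subgroup.centralizer ({t} : Set G)) = ⊥))
    (t : G) (ht : orderOf t = 2) :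
    ∃ L : Subgroup G, centralizer ({t} : Set G) ≤ L ∧
        Cfsg.IsPConstrained 2 ↥L ∧ Cfsg.pPrimeCore 2 ↥L = ⊥ := by
  rcases h with h | h
  · have hT2 : IsPGroup 2 ↥(zpowers t) := by
      rw [IsPGroup.iff_card]
      refine ⟨1, ?_⟩
      rw [Nat.card_zpowers, ht, pow_one]
    have hT1 : zpowers t ≠ ⊥ := by
      intro hh
      rw [Subgroup.zpowers_eq_bot] at hh
      rw [hh, orderOf_one] at ht
      omega
    let 𝒮 : Set (Subgroup G) := {M | Cfsg.IsTwoLocal M ∧ normalizer ((zpowers t : Subgroup G) : Set G) ≤ M}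
    have hne : 𝒮.Nonempty := ⟨normalizer ((zpowers t : Subgroup G) : Set G), ⟨zpowers t, hT2, hT1, rfl⟩, le_rfl⟩
    obtain ⟨M, hMS, hMmax⟩ := (wellFounded_gt (α := Subgroup G)).has_min 𝒮 hne
    have hMmax' : Cfsg.IsMaximalTwoLocal M := by
      refine ⟨hMS.1, fun N hN hle => ?_⟩
      have hNS : N ∈ 𝒮 := ⟨hN, hMS.2.trans hle⟩
      rcases eq_or_lt_of_le hle with h' | h'
      · exact h'.symm
      · exact absurd h' (hMmax N hNS)
    obtain ⟨h1, h2⟩ := h M hMmax'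
    exact ⟨M, (Cfsg.Agent.Lib.Helper4.TransGen.centralizer_le_normalizer_zpowers t).trans hMS.2, h1, h2⟩
  · obtain ⟨h1, h2⟩ := h t ht
    exact ⟨_, le_rfl, h1, h2⟩

end Cfsg.Agent.Lib.Helper4.CharTwoCrit
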