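import Mathlib
import Cfsg.Agent.Lib.Helper4.Basic
import Cfsg.Agent.Lib.Helper1.Hall
import Cfsg.Agent.Lib.Helper17.Basic

set_option autoImplicit false

namespace Cfsg.Agent.Lib.Helper4
open Cfsg Cfsg.Agent.Lib.Helper1
universe u

theorem exists_normal_sylow_of_coprime_maximal_aux : ∀ (n : ℕ) (G : Type u) [Group G] [Finite G]
    [Group.IsSolvable G] [Nontrivial G], Nat.card G = n →
    (∀ M : Subgroup G, IsCoatom M → (Nat.card M).Coprime M.index) →
    ∃ p : ℕ, p.Prime ∧ p ∣ Nat.card G ∧ ∃ (_ : Fact p.Prime) (P : Sylow p G), (P : Subgroup G).Normal := by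
  intro n
  induction n using Nat.strong_induction_on with
  | _ n ih =>
  intro G _ _ _ _ hn h
  obtain ⟨N, hN⟩ := exists_isMinNormal (G := G)
  obtain ⟨p, hp, hNp⟩ := hN.exists_prime_isPGroup
  have hNcomm := hN.isMulCommutative
  obtain ⟨hNn, hN1, hNmin⟩ := hN
  have hfp : Fact p.Prime := ⟨hp⟩
  have hpN : p ∣ Nat.card N := by
    rcases hNp.card_eq_or_dvd with h1 | h1
    · exact absurd (Subgroup.card_eq_one.mp h1) hN1
    · exact h1
  have hpG : p ∣ Nat.card G := hpN.trans (Subgroup.card_subgroup_dvd_card N)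
  by_cases hA : ∃ M : Subgroup G, IsCoatom M ∧ ¬ N ≤ M
  · -- Case A
    obtain ⟨M, hM, hNM⟩ := hA
    have hsup : M ⊔ N = ⊤ :=
      hM.2 _ (lt_of_le_of_ne le_sup_left (fun h => hNM (by rw [h]; exact le_sup_right)))
    have hinfn : (M ⊓ N).Normal := by
      rw [← Subgroup.normalizer_eq_top_iff, eq_top_iff, ← hsup]
      apply sup_le
      · intro g hg
        apply Cfsg.Agent.Lib.Helper17.mem_normalizer_of_forall_conj_mem
        intro x hx
        exact ⟨M.mul_mem (M.mul_mem hg hx.1) (M.inv_mem hg), hNn.conj_mem x hx.2 g⟩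
      · intro g hg
        apply Cfsg.Agent.Lib.Helper17.mem_normalizer_of_forall_conj_mem
        intro x hx
        have hc : g * x = x * g := by
          have := mul_comm' (⟨g, hg⟩ : N) ⟨x, hx.2⟩
          exact congrArg Subtype.val this
        rw [hc, mul_inv_cancel_right]
        exact hx
    have hinf : M ⊓ N = ⊥ := by
      rcases hNmin _ hinfn inf_le_right with h1 | h1
      · exact h1
      · exfalso; apply hNM; rw [← h1]; exact inf_le_left
    have h2 := card_sup_mul_card_inf M N (by rw [Subgroup.normalizer_eq_top]; exact le_top)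
    rw [hsup, hinf, Subgroup.card_bot, mul_one, Subgroup.card_top] at h2
    have hMi : M.index = Nat.card N := by
      have h3 := M.card_mul_index
      rw [h2] at h3
      exact Nat.eq_of_mul_eq_mul_left Nat.card_pos h3
    have hNi : N.index = Nat.card M := by
      have h3 := N.card_mul_index
      rw [h2, mul_comm] at h3
      exact Nat.eq_of_mul_eq_mul_right Nat.card_pos h3
    have hcop := h M hM
    rw [hMi] at hcop
    have hnd : ¬ p ∣ N.index := by
      rw [hNi]
      intro hd
      have := Nat.eq_one_of_dvd_coprimes hcop hd hpN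
      exact hp.one_lt.ne' this
    refine ⟨p, hp, hpG, hfp, hNp.toSylow hnd, ?_⟩
    rw [IsPGroup.toSylow_coe]
    exact hNn
  · -- Case B
    push Not at hA
    by_cases hNtop : N = ⊤
    · have hnd : ¬ p ∣ N.index := by
        rw [hNtop, Subgroup.index_top]
        exact fun hd => hp.one_lt.ne' (Nat.dvd_one.mp hd)
      refine ⟨p, hp, hpG, hfp, hNp.toSylow hnd, ?_⟩
      rw [IsPGroup.toSylow_coe]
      exact hNn
    have hf := QuotientGroup.mk'_surjective N
    have hnt : Nontrivial (G ⧸ N) := by
      rw [← Finite.one_lt_card_iff_nontrivial, ← Subgroup.index_eq_card]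
      have h1 : N.index ≠ 1 := fun h1 => hNtop (Subgroup.index_eq_one.mp h1)
      have h0 : N.index ≠ 0 := Subgroup.index_ne_zero_of_finite
      omega
    have hlt : Nat.card (G ⧸ N) < n := by
      rw [← hn]; exact card_quotient_lt_of_ne_bot hN1
    have hQ : ∀ M : Subgroup (G ⧸ N), IsCoatom M → (Nat.card M).Coprime M.index := by
      intro M hM
      have h1 := h _ (Subgroup.isCoatom_comap_of_surjective hf hM)
      rw [Subgroup.index_comap_of_surjective M hf, card_comap_mk'] at h1
      exact Nat.Coprime.coprime_dvd_left (Dvd.intro _ rfl) h1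
    obtain ⟨q, hq, hqd, hfq, S', hS'n⟩ := ih _ hlt (G ⧸ N) rfl hQ
    set S : Subgroup G := (S' : Subgroup (G ⧸ N)).comap (QuotientGroup.mk' N) with hSdef
    have hSn : S.Normal := hS'n.comap _
    have hNS : N ≤ S := by
      have := Subgroup.ker_le_comap (QuotientGroup.mk' N) (S' : Subgroup (G ⧸ N))
      rwa [QuotientGroup.ker_mk'] at this
    have hScard : Nat.card S = Nat.card (S' : Subgroup (G ⧸ N)) * Nat.card N := card_comap_mk' N _
    have hSidx : S.index = (S' : Subgroup (G ⧸ N)).index := Subgroup.index_comap_of_surjective _ hf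
    have hqG : q ∣ Nat.card G := hqd.trans (Subgroup.card_quotient_dvd_card N)
    by_cases hqp : q = p
    · subst hqp
      have hSp : IsPGroup q S := by
        obtain ⟨a, ha⟩ := IsPGroup.iff_card.mp S'.isPGroup'
        obtain ⟨k, hk⟩ := IsPGroup.iff_card.mp hNp
        apply IsPGroup.of_card (n := a + k)
        rw [hScard, ha, hk, pow_add]
      have hnd : ¬ q ∣ S.index := by
        rw [hSidx]; exact S'.not_dvd_index
      refine ⟨q, hq, hqG, hfq, hSp.toSylow hnd, ?_⟩
      rw [IsPGroup.toSylow_coe]
      exact hSn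
    · -- Frattini argument
      let Q0 : Sylow q S := default
      set Q : Subgroup G := (Q0 : Subgroup S).map S.subtype with hQdef
      have hQS : Q ≤ S := by
        rintro x ⟨y, _, rfl⟩; exact y.2
      have hfr : Subgroup.normalizer (Q : Set G) ⊔ S = ⊤ := Sylow.normalizer_sup_eq_top Q0
      have hQq : IsPGroup q Q := Q0.isPGroup'.map _
      have hQrel : ¬ q ∣ Q.relIndex S := by
        have : Q.subgroupOf S = (Q0 : Subgroup S) := by
          rw [hQdef]
          exact Subgroup.comap_map_eq_self_of_injective S.subtype_injective _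
        rw [Subgroup.relIndex, this]
        exact Q0.not_dvd_index
      have hNrel : N.relIndex S = Nat.card (S' : Subgroup (G ⧸ N)) := by
        have h1 := card_mul_relIndex hNS
        rw [hScard, mul_comm] at h1
        exact Nat.eq_of_mul_eq_mul_right Nat.card_pos h1
      have hQN : Q ⊔ N = S := by
        apply le_antisymm (sup_le hQS hNS)
        rw [← Subgroup.relIndex_eq_one]
        have h1 : (Q ⊔ N).relIndex S ∣ Q.relIndex S := Subgroup.relIndex_dvd_of_le_left S le_sup_left
        have h2 : (Q ⊔ N).relIndex S ∣ N.relIndex S := Subgroup.relIndex_dvd_of_le_left S le_sup_right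
        rw [hNrel] at h2
        obtain ⟨a, ha⟩ := IsPGroup.iff_card.mp S'.isPGroup'
        rw [ha] at h2
        obtain ⟨j, _, hj⟩ := (Nat.dvd_prime_pow hq).mp h2
        rcases Nat.eq_zero_or_pos j with rfl | hjpos
        · rw [hj, pow_zero]
        · exfalso
          apply hQrel
          refine dvd_trans ?_ h1
          rw [hj]
          exact dvd_pow_self q hjpos.ne'
      have hQnorm : Q.Normal := by
        rw [← Subgroup.normalizer_eq_top_iff]
        by_contra hne
        obtain ⟨M, hM, hle⟩ := (eq_top_or_exists_le_coatom _).resolve_left hne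
        apply hM.1
        rw [eq_top_iff, ← hfr, ← hQN]
        exact sup_le hle (sup_le (Subgroup.le_normalizer.trans hle) (hA M hM))
      have hnd : ¬ q ∣ Q.index := by
        rw [← Subgroup.relIndex_mul_index hQS]
        intro hd
        rcases (Nat.Prime.dvd_mul hq).mp hd with h1 | h1
        · exact hQrel h1
        · rw [hSidx] at h1
          exact S'.not_dvd_index h1
      refine ⟨q, hq, hqG, hfq, hQq.toSylow hnd, ?_⟩
      rw [IsPGroup.toSylow_coe]
      exact hQnorm

theorem exists_normal_sylow_of_coprime_maximal {G : Type u} [Group G] [Finite G]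
    [Group.IsSolvable G] [Nontrivial G]
    (h : ∀ M : Subgroup G, IsCoatom M → (Nat.card M).Coprime M.index) :
    ∃ p : ℕ, p.Prime ∧ p ∣ Nat.card G ∧ ∀ P : Sylow p G, (P : Subgroup G).Normal := by
  obtain ⟨p, hp, hpd, hfp, P, hP⟩ := exists_normal_sylow_of_coprime_maximal_aux _ G rfl h
  refine ⟨p, hp, hpd, fun P' => ?_⟩
  obtain ⟨g, hg⟩ := MulAction.exists_smul_eq G P P'
  rw [← hg, Sylow.smul_eq_of_normal]
  exact hP

end Cfsg.Agent.Lib.Helper4
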