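import Mathlib
import Cfsg.Agent.Lib.Helper4.HallSystemQuot
import Cfsg.Agent.Lib.Helper1.MinNormal
import Cfsg.Agent.Lib.Helper18.Basic

set_option autoImplicit false
open Pointwise
open scoped commutatorElement

namespace Cfsg.Agent.Lib.Helper4
open Cfsg Cfsg.Agent.Lib.Helper1
universe u

/-- a non-central minimal normal subgroup `B` of a finite solvable group: there is a prime `r`
such that no nontrivial element of `B` is centralized by a subgroup of index prime to `r`. -/
theorem eccentric_centralizer_eq_bot {G : Type u} [Group G] [Finite G] [Group.IsSolvable G]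
    (B : Subgroup G) (hB : IsMinNormal B) (hBc : ¬ B ≤ Subgroup.center G) :
    ∃ r : ℕ, r.Prime ∧ ∀ T₀ : Subgroup G, ¬ r ∣ T₀.index →
      B ⊓ Subgroup.centralizer (T₀ : Set G) = ⊥ := by
  have hBn : B.Normal := hB.1
  set C : Subgroup G := Subgroup.centralizer (B : Set G) with hC
  have hCn : C.Normal := inferInstance
  have hCne : C ≠ ⊤ := by
    intro h
    apply hBc
    intro x hx
    rw [Subgroup.mem_center_iff]
    intro g
    have hg : g ∈ C := by rw [h]; trivial
    rw [hC, Subgroup.mem_centralizer_iff] at hg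
    exact (hg x hx).symm
  have hnt : Nontrivial (G ⧸ C) := by
    by_contra hnt
    rw [not_nontrivial_iff_subsingleton] at hnt
    apply hCne
    rw [eq_top_iff]
    intro x _
    exact (QuotientGroup.eq_one_iff x).mp (Subsingleton.elim _ _)
  obtain ⟨Fb, hFb⟩ := exists_isMinNormal (G := G ⧸ C)
  obtain ⟨r, hr, hFr⟩ := hFb.exists_prime_isPGroup
  have hFbn : Fb.Normal := hFb.1
  have : Fact r.Prime := ⟨hr⟩
  obtain ⟨k, hk⟩ := (IsPGroup.iff_card).mp hFr
  set F : Subgroup G := Fb.comap (QuotientGroup.mk' C) with hF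
  have hFn : F.Normal := inferInstance
  have hCF : C ≤ F := by
    intro x hx
    rw [hF, Subgroup.mem_comap]
    have : QuotientGroup.mk' C x = 1 := (QuotientGroup.eq_one_iff x).mpr hx
    rw [this]; exact Subgroup.one_mem _
  have hrel : C.relIndex F = r ^ k := by
    have h1 := card_comap_mk' C Fb
    have h2 := card_mul_relIndex hCF
    rw [← hF] at h1
    rw [h1, mul_comm] at h2
    rw [← hk]
    exact Nat.eq_of_mul_eq_mul_right Nat.card_pos h2
  have hFC : ¬ F ≤ C := by
    intro h
    apply hFb.2.1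
    have h1 : F.map (QuotientGroup.mk' C) = Fb :=
      Subgroup.map_comap_eq_self_of_surjective (QuotientGroup.mk'_surjective C) Fb
    rw [← h1, eq_bot_iff]
    rintro _ ⟨x, hx, rfl⟩
    rw [Subgroup.mem_bot]
    exact (QuotientGroup.eq_one_iff x).mpr (h hx)
  -- centralizer of F in B is trivial
  have hZF : B ⊓ Subgroup.centralizer (F : Set G) = ⊥ := by
    have hn : (B ⊓ Subgroup.centralizer (F : Set G)).Normal := inferInstance
    rcases hB.2.2 _ hn inf_le_left with h | h
    · exact h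
    · exfalso
      apply hFC
      have h1 : B ≤ Subgroup.centralizer (F : Set G) := by
        rw [← h]; exact inf_le_right
      exact Subgroup.le_centralizer_iff.mp h1
  refine ⟨r, hr, fun T₀ hT₀ => ?_⟩
  set T : Subgroup G := C ⊔ T₀ with hT
  have h1 : T.relIndex F ∣ r ^ k := by
    rw [← hrel]; exact Subgroup.relIndex_dvd_of_le_left F (le_sup_left : C ≤ T)
  have h2 : T.relIndex F ∣ T₀.index := by
    have hTn : T ≤ Subgroup.normalizer (F : Set G) := by
      rw [Subgroup.normalizer_eq_top_iff.mpr hFn]; exact le_top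
    rw [← relIndex_sup_left_of_le_normalizer T F hTn]
    exact (Subgroup.relIndex_dvd_index_of_le le_sup_left).trans
      (Subgroup.index_dvd_of_le (le_sup_right : T₀ ≤ T))
  have h3 : T.relIndex F = 1 := by
    have hcop : Nat.Coprime (r ^ k) T₀.index :=
      ((Nat.Prime.coprime_iff_not_dvd hr).mpr hT₀).pow_left k
    exact Nat.eq_one_of_dvd_coprimes hcop h1 h2
  have hFT : F ≤ T := Subgroup.relIndex_eq_one.mp h3
  rw [eq_bot_iff, ← hZF]
  intro x hx
  rw [Subgroup.mem_inf] at hx
  apply Subgroup.mem_inf.mpr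
  refine ⟨hx.1, ?_⟩
  have hx2 := hx.2
  rw [Subgroup.mem_centralizer_iff] at hx2 ⊢
  -- Z = centralizer {x} contains C and T₀
  have hCZ : C ≤ Subgroup.centralizer ({x} : Set G) := by
    intro c hc
    rw [Subgroup.mem_centralizer_iff]
    intro y hy
    rw [Set.mem_singleton_iff] at hy
    subst hy
    rw [hC, Subgroup.mem_centralizer_iff] at hc
    exact hc y hx.1
  have hTZ : T₀ ≤ Subgroup.centralizer ({x} : Set G) := by
    intro t ht
    rw [Subgroup.mem_centralizer_iff]
    intro y hy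
    rw [Set.mem_singleton_iff] at hy
    subst hy
    exact (hx2 t ht).symm
  intro f hf
  have hfZ : f ∈ Subgroup.centralizer ({x} : Set G) := (sup_le hCZ hTZ) (hFT hf)
  rw [Subgroup.mem_centralizer_iff] at hfZ
  exact (hfZ x rfl).symm

/-- a non-central minimal normal `p`-subgroup of a finite solvable group meets the normalizer of
a `p`-complement trivially -/
theorem eccentric_inf_normalizer_eq_bot {G : Type u} [Group G] [Finite G] [Group.IsSolvable G]
    (B : Subgroup G) (hB : IsMinNormal B) (hBc : ¬ B ≤ Subgroup.center G) (p : ℕ) (hp : p.Prime)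
    (hBp : IsPGroup p B) (K : Subgroup G) (a : ℕ) (hK : K.index = p ^ a)
    (hKc : ¬ p ∣ Nat.card K) : B ⊓ Subgroup.normalizer (K : Set G) = ⊥ := by
  have : Fact p.Prime := ⟨hp⟩
  have hBn : B.Normal := hB.1
  obtain ⟨r, hr, hr2⟩ := eccentric_centralizer_eq_bot B hB hBc
  have hrp : r ≠ p := by
    intro hrp
    subst hrp
    obtain ⟨P, hBP⟩ := hBp.exists_le_sylow
    have h1 := hr2 (P : Subgroup G) P.not_dvd_index
    obtain ⟨w, hwB, hw1, hw⟩ := Cfsg.Agent.Lib.Helper18.exists_ne_one_fixed_of_pgroup_normalizes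
      B (P : Subgroup G) hBp P.2 hB.2.1
      (by rw [Subgroup.normalizer_eq_top_iff.mpr hBn]; exact le_top)
    apply hw1
    have : w ∈ B ⊓ Subgroup.centralizer ((P : Subgroup G) : Set G) := by
      apply Subgroup.mem_inf.mpr
      refine ⟨hwB, ?_⟩
      rw [Subgroup.mem_centralizer_iff]
      exact hw
    rw [h1, Subgroup.mem_bot] at this
    exact this
  have hrK : ¬ r ∣ K.index := by
    rw [hK]
    intro hd
    exact hrp ((Nat.prime_dvd_prime_iff_eq hr hp).mp (hr.dvd_of_dvd_pow hd))
  have h1 := hr2 K hrK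
  have hBK : B ⊓ K = ⊥ := by
    apply disjoint_iff.mp
    apply Subgroup.disjoint_of_coprime_natCard
    obtain ⟨m, hm⟩ := (IsPGroup.iff_card).mp hBp
    rw [hm]
    exact ((Nat.Prime.coprime_iff_not_dvd hp).mpr hKc).pow_left m
  rw [eq_bot_iff, ← h1]
  intro x hx
  rw [Subgroup.mem_inf] at hx
  apply Subgroup.mem_inf.mpr
  refine ⟨hx.1, ?_⟩
  rw [Subgroup.mem_centralizer_iff]
  intro k hk
  have hx2 := hx.2
  rw [Subgroup.mem_normalizer_iff] at hx2
  have hc1 : x * k * x⁻¹ * k⁻¹ ∈ K := K.mul_mem ((hx2 k).mp hk) (K.inv_mem hk)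
  have hc2 : x * k * x⁻¹ * k⁻¹ ∈ B := by
    have : x * k * x⁻¹ * k⁻¹ = x * (k * x⁻¹ * k⁻¹) := by group
    rw [this]
    exact B.mul_mem hx.1 (hBn.conj_mem _ (B.inv_mem hx.1) k)
  have hc : x * k * x⁻¹ * k⁻¹ ∈ B ⊓ K := Subgroup.mem_inf.mpr ⟨hc2, hc1⟩
  rw [hBK, Subgroup.mem_bot] at hc
  have : x * k = (x * k * x⁻¹ * k⁻¹) * (k * x) := by group
  rw [this, hc, one_mul]

end Cfsg.Agent.Lib.Helper4
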