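import Mathlib
import Cfsg.Agent.Lib.Helper4.CoverAvoid

set_option autoImplicit false
open Pointwise
open scoped commutatorElement

namespace Cfsg.Agent.Lib.Helper4
open Cfsg Cfsg.Agent.Lib.Helper1
universe u

theorem systemNormalizer_cover_avoid {G : Type u} [Group G] [Finite G] [Group.IsSolvable G]
    (K : Nat.Primes → Subgroup G) (hK : IsComplementSystem K) (A B : Subgroup G) [hAn : A.Normal]
    [hBn : B.Normal] (hAB : A < B)
    (hchief : ∀ N : Subgroup G, N.Normal → A ≤ N → N ≤ B → N = A ∨ N = B) :
    (⁅B, (⊤ : Subgroup G)⁆ ≤ A → B ≤ A ⊔ systemNormalizer K) ∧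
    (¬ ⁅B, (⊤ : Subgroup G)⁆ ≤ A → B ⊓ systemNormalizer K ≤ A) := by
  constructor
  · intro hcen b hb
    have h1 : QuotientGroup.mk' A b ∈
        systemNormalizer (fun p => (K p).map (QuotientGroup.mk' A)) := by
      apply (Subgroup.mem_iInf).mpr
      intro p
      rw [Subgroup.mem_normalizer_iff]
      intro h
      obtain ⟨g, rfl⟩ := QuotientGroup.mk'_surjective A h
      have hc : ⁅b, g⁆ ∈ A := hcen (Subgroup.commutator_mem_commutator hb (Subgroup.mem_top g))
      have h2 : QuotientGroup.mk' A b * QuotientGroup.mk' A g * (QuotientGroup.mk' A b)⁻¹ =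
          QuotientGroup.mk' A g := by
        have h3 : QuotientGroup.mk' A ⁅b, g⁆ = 1 := (QuotientGroup.eq_one_iff _).mpr hc
        rw [commutatorElement_def, map_mul, map_mul, map_mul, map_inv, map_inv] at h3
        rw [mul_inv_eq_one] at h3
        exact h3
      rw [h2]
    rw [systemNormalizer_map K hK A] at h1
    obtain ⟨d, hd, hdb⟩ := h1
    have h2 : d⁻¹ * b ∈ A := QuotientGroup.eq.mp hdb
    have h3 : b = d * (d⁻¹ * b) := by group
    rw [h3]
    exact Subgroup.mul_mem _ (Subgroup.mem_sup_right hd) (Subgroup.mem_sup_left h2)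
  · intro hecc
    set Bb : Subgroup (G ⧸ A) := B.map (QuotientGroup.mk' A) with hBb
    have hcomap : Bb.comap (QuotientGroup.mk' A) = B := by
      rw [hBb, Subgroup.comap_map_eq, QuotientGroup.ker_mk', sup_eq_left]
      exact hAB.le
    have hBbn : Bb.Normal := Subgroup.Normal.map hBn _ (QuotientGroup.mk'_surjective A)
    have hBbmin : IsMinNormal Bb := by
      refine ⟨hBbn, ?_, ?_⟩
      · intro h
        apply hAB.not_ge
        intro b hb
        have : QuotientGroup.mk' A b ∈ Bb := Subgroup.mem_map_of_mem _ hb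
        rw [h, Subgroup.mem_bot] at this
        exact (QuotientGroup.eq_one_iff b).mp this
      · intro Mb hMbn hMb
        have hMn : (Mb.comap (QuotientGroup.mk' A)).Normal := inferInstance
        have hAM : A ≤ Mb.comap (QuotientGroup.mk' A) := by
          intro x hx
          rw [Subgroup.mem_comap]
          have : QuotientGroup.mk' A x = 1 := (QuotientGroup.eq_one_iff x).mpr hx
          rw [this]; exact Subgroup.one_mem _
        have hMB : Mb.comap (QuotientGroup.mk' A) ≤ B := by
          rw [← hcomap]; exact Subgroup.comap_mono hMb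
        have hmc : (Mb.comap (QuotientGroup.mk' A)).map (QuotientGroup.mk' A) = Mb :=
          Subgroup.map_comap_eq_self_of_surjective (QuotientGroup.mk'_surjective A) Mb
        rcases hchief _ hMn hAM hMB with h | h
        · left
          rw [← hmc, h, eq_bot_iff]
          rintro _ ⟨x, hx, rfl⟩
          rw [Subgroup.mem_bot]
          exact (QuotientGroup.eq_one_iff x).mpr hx
        · right
          rw [← hmc, h]
    have hBbc : ¬ Bb ≤ Subgroup.center (G ⧸ A) := by
      intro h
      apply hecc
      rw [Subgroup.commutator_le]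
      intro b hb g _
      apply (QuotientGroup.eq_one_iff _).mp
      have h1 : QuotientGroup.mk' A b ∈ Subgroup.center (G ⧸ A) :=
        h (Subgroup.mem_map_of_mem _ hb)
      rw [Subgroup.mem_center_iff] at h1
      change QuotientGroup.mk' A ⁅b, g⁆ = 1
      rw [commutatorElement_def, map_mul, map_mul, map_mul, map_inv, map_inv,
        ← h1 (QuotientGroup.mk' A g)]
      group
    obtain ⟨p, hp, hBbp⟩ := hBbmin.exists_prime_isPGroup
    set q : Nat.Primes := ⟨p, hp⟩ with hq
    have hKb := complementSystem_map K hK A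
    have h1 := eccentric_inf_normalizer_eq_bot Bb hBbmin hBbc p hp hBbp
      ((K q).map (QuotientGroup.mk' A)) _ (hKb q)
      (complementSystem_card_coprime _ hKb q)
    intro x hx
    rw [Subgroup.mem_inf] at hx
    apply (QuotientGroup.eq_one_iff x).mp
    have h2 : QuotientGroup.mk' A x ∈ Bb ⊓ Subgroup.normalizer
        (((K q).map (QuotientGroup.mk' A) : Subgroup (G ⧸ A)) : Set (G ⧸ A)) := by
      apply Subgroup.mem_inf.mpr
      refine ⟨Subgroup.mem_map_of_mem _ hx.1, ?_⟩
      have h3 : x ∈ Subgroup.normalizer (K q : Set G) :=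
        (iInf_le (fun p : Nat.Primes => Subgroup.normalizer (K p : Set G)) q) hx.2
      exact Subgroup.le_normalizer_map (QuotientGroup.mk' A) (Subgroup.mem_map_of_mem _ h3)
    rw [h1, Subgroup.mem_bot] at h2
    exact h2

end Cfsg.Agent.Lib.Helper4
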