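import Mathlib

set_option autoImplicit false
open scoped commutatorElement

namespace Cfsg.Agent.Lib.Helper4
universe u

/-- conjugation by powers: if `b z b⁻¹ = z ^ k` then `b^n z b^{-n} = z ^ (k^n)`. -/
theorem conj_pow_zpow {G : Type u} [Group G] (b z : G) (k : ℤ) (h : b * z * b⁻¹ = z ^ k) (n : ℕ) :
    b ^ n * z * (b ^ n)⁻¹ = z ^ (k ^ n) := by
  induction n with
  | zero => simp
  | succ n ih =>
    have h1 : b ^ (n + 1) * z * (b ^ (n + 1))⁻¹ = b * (b ^ n * z * (b ^ n)⁻¹) * b⁻¹ := by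
      rw [pow_succ']; group
    rw [h1, ih]
    have h2 : b * z ^ (k ^ n) * b⁻¹ = (b * z * b⁻¹) ^ (k ^ n) := by
      rw [conj_zpow]
    rw [h2, h, ← zpow_mul, pow_succ, mul_comm]

/-- A `p`-element normalizing a cyclic `p`-group acts trivially modulo `p`-th powers. -/
theorem commutator_eq_pow_of_cyclic {G : Type u} [Group G] {p : ℕ} [hp : Fact p.Prime]
    (Z : Subgroup G) [hZc : IsCyclic Z] (hZp : IsPGroup p Z) (b : G)
    (hbZ : ∀ h ∈ Z, b * h * b⁻¹ ∈ Z) (j : ℕ) (hb : b ^ (p ^ j) = 1) (h : G) (hh : h ∈ Z) :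
    ∃ w ∈ Z, ⁅h, b⁆ = w ^ p := by
  obtain ⟨g, hg⟩ := IsCyclic.exists_generator (α := Z)
  set z : G := (g : G) with hz
  have hzZ : z ∈ Z := g.2
  have hgen : ∀ y ∈ Z, ∃ i : ℤ, z ^ i = y := by
    intro y hy
    obtain ⟨i, hi⟩ := Subgroup.mem_zpowers_iff.mp (hg ⟨y, hy⟩)
    refine ⟨i, ?_⟩
    have := congrArg (fun t : Z => (t : G)) hi
    simpa using this
  obtain ⟨k, hk⟩ := hgen _ (hbZ z hzZ)
  have hk' : b * z * b⁻¹ = z ^ k := hk.symm
  -- order of z
  obtain ⟨s, hs⟩ := hZp g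
  have hzs : z ^ (p ^ s) = 1 := by
    have := congrArg (fun t : Z => (t : G)) hs
    simpa using this
  by_cases hz1 : z = 1
  · obtain ⟨i, hi⟩ := hgen h hh
    rw [hz1, one_zpow] at hi
    refine ⟨1, Z.one_mem, ?_⟩
    rw [← hi]; simp [commutatorElement_def]
  · -- p ∣ k - 1
    have h1 := conj_pow_zpow b z k hk' (p ^ j)
    rw [hb] at h1
    simp only [one_mul, inv_one, mul_one] at h1
    have h2 : z ^ (k ^ (p ^ j) - 1) = 1 := by
      rw [zpow_sub, zpow_one, ← h1, mul_inv_cancel]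
    have h3 : (orderOf z : ℤ) ∣ k ^ (p ^ j) - 1 := orderOf_dvd_iff_zpow_eq_one.mpr h2
    have h4 : p ∣ orderOf z := by
      have hd : orderOf z ∣ p ^ s := orderOf_dvd_of_pow_eq_one hzs
      obtain ⟨t, ht, hteq⟩ := (Nat.dvd_prime_pow hp.out).mp hd
      rcases Nat.eq_zero_or_pos t with rfl | htpos
      · exfalso; apply hz1
        rw [pow_zero] at hteq
        exact orderOf_eq_one_iff.mp hteq
      · rw [hteq]; exact dvd_pow_self p htpos.ne'
    have h5 : (p : ℤ) ∣ k ^ (p ^ j) - 1 := (Int.natCast_dvd_natCast.mpr h4).trans h3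
    have h6 : ((k : ZMod p)) ^ (p ^ j) = 1 := by
      have := (ZMod.intCast_zmod_eq_zero_iff_dvd (k ^ (p ^ j) - 1) p).mpr h5
      push_cast at this
      exact sub_eq_zero.mp this
    have h7 : ((k : ZMod p)) = 1 := by
      have h8 : ((k : ZMod p)) ^ (p ^ j) = (k : ZMod p) := by
        have := ZMod.pow_card_pow (n := j) (p := p) (k : ZMod p)
        exact this
      rw [← h8]; exact h6
    have h9 : (p : ℤ) ∣ k - 1 := by
      have : (((k - 1 : ℤ)) : ZMod p) = 0 := by push_cast; rw [h7]; ring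
      exact (ZMod.intCast_zmod_eq_zero_iff_dvd (k - 1) p).mp this
    obtain ⟨m, hm⟩ := h9
    obtain ⟨i, hi⟩ := hgen h hh
    refine ⟨z ^ (-(i * m)), Z.zpow_mem hzZ _, ?_⟩
    have hbh : b * h * b⁻¹ = z ^ (k * i) := by
      rw [← hi, ← conj_zpow, hk', ← zpow_mul]
    have hc : ⁅h, b⁆ = h * (b * h * b⁻¹)⁻¹ := by
      rw [commutatorElement_def]; group
    rw [hc, hbh, ← hi, ← zpow_neg, ← zpow_add, ← zpow_natCast, ← zpow_mul]
    congr 1
    have : k = 1 + p * m := by linarith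
    rw [this]; ring

end Cfsg.Agent.Lib.Helper4
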