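import Mathlib
import Cfsg.Agent.Lib.Helper4.CyclicComm
import Cfsg.Agent.Lib.Helper27.OddStable
import Cfsg.Agent.Lib.Helper9.PLengthOne
import Cfsg.Agent.Lib.Helper9.PComponent

set_option autoImplicit false
open scoped commutatorElement

namespace Cfsg.Agent.Lib.Helper4
universe u

/-- elements of a Sylow `p`-subgroup with cyclic derived group act quadratically on
`O_p / Φ(O_p)`. -/
theorem quad_on_frattini_of_cyclic_commutator {Y : Type u} [Group Y] [Finite Y] {p : ℕ}
    [hp : Fact p.Prime] (T : Sylow p Y) (hT : IsCyclic (commutator (T : Subgroup Y)))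
    (x : Y) (hx : x ∈ (T : Subgroup Y)) :
    ⁅⁅Cfsg.pCore p Y, Subgroup.zpowers x⁆, Subgroup.zpowers x⁆ ≤
      (frattini ↥(Cfsg.pCore p Y)).map (Cfsg.pCore p Y).subtype := by
  set P := Cfsg.pCore p Y with hP
  haveI hPn : P.Normal := Cfsg.Agent.Lib.Helper1.pCore_normal p Y
  have hPp : IsPGroup p P := Cfsg.Agent.Lib.Helper1.pCore_isPGroup p Y
  have hPT : P ≤ (T : Subgroup Y) := Cfsg.Agent.Lib.Helper1.pCore_le_sylow T
  set C : Subgroup Y := (commutator (T : Subgroup Y)).map (T : Subgroup Y).subtype with hC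
  haveI hCc : IsCyclic C := by
    have : Function.Surjective
        (((T : Subgroup Y).subtype.subgroupMap (commutator (T : Subgroup Y)))) :=
      MonoidHom.subgroupMap_surjective _ _
    exact isCyclic_of_surjective _ this
  set Z₀ : Subgroup Y := P ⊓ C with hZ₀
  haveI hZc : IsCyclic Z₀ := by
    have e : Z₀ ≃* Z₀.subgroupOf C := (Subgroup.subgroupOfEquivOfLe (inf_le_right : Z₀ ≤ C)).symm
    haveI : IsCyclic (Z₀.subgroupOf C) := Subgroup.isCyclic _
    exact isCyclic_of_surjective e.symm.toMonoidHom e.symm.surjective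
  have hZp : IsPGroup p Z₀ := hPp.to_le inf_le_left
  have hZle : Subgroup.zpowers x ≤ (T : Subgroup Y) := by
    rw [Subgroup.zpowers_le]; exact hx
  -- C is normalized by T
  have hCnorm : ∀ t ∈ (T : Subgroup Y), ∀ c ∈ C, t * c * t⁻¹ ∈ C := by
    rintro t ht _ ⟨c, hc, rfl⟩
    refine ⟨(⟨t, ht⟩ : (T : Subgroup Y)) * c * (⟨t, ht⟩ : (T : Subgroup Y))⁻¹, ?_, rfl⟩
    haveI : (commutator (T : Subgroup Y)).Normal := inferInstance
    exact Subgroup.Normal.conj_mem inferInstance c hc _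
  have hZnorm : ∀ t ∈ (T : Subgroup Y), ∀ h ∈ Z₀, t * h * t⁻¹ ∈ Z₀ := by
    intro t ht h hh
    exact ⟨hPn.conj_mem h hh.1 t, hCnorm t ht h hh.2⟩
  -- step 1
  have h1 : ⁅P, Subgroup.zpowers x⁆ ≤ Z₀ := by
    rw [Subgroup.commutator_le]
    intro u hu a ha
    have haT : a ∈ (T : Subgroup Y) := hZle ha
    have huT : u ∈ (T : Subgroup Y) := hPT hu
    refine ⟨?_, ?_⟩
    · rw [commutatorElement_def]
      have : u * a * u⁻¹ * a⁻¹ = u * (a * u⁻¹ * a⁻¹) := by group
      rw [this]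
      exact P.mul_mem hu (hPn.conj_mem _ (P.inv_mem hu) a)
    · refine ⟨⁅(⟨u, huT⟩ : (T : Subgroup Y)), ⟨a, haT⟩⁆, ?_, rfl⟩
      rw [_root_.commutator_def]
      exact Subgroup.commutator_mem_commutator (Subgroup.mem_top _) (Subgroup.mem_top _)
  -- step 2
  rw [Subgroup.commutator_le]
  intro h hh b hb
  have hbT : b ∈ (T : Subgroup Y) := hZle hb
  obtain ⟨j, hj⟩ := T.isPGroup' ⟨b, hbT⟩
  have hbj : b ^ (p ^ j) = 1 := by
    have := congrArg (fun t : (T : Subgroup Y) => (t : Y)) hj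
    simpa using this
  obtain ⟨w, hw, hweq⟩ := commutator_eq_pow_of_cyclic Z₀ hZp b (hZnorm b hbT) j hbj h (h1 hh)
  rw [hweq]
  refine ⟨(⟨w, hw.1⟩ : P) ^ p, Cfsg.Agent.Lib.Helper1.IsPGroup.pow_mem_frattini hPp _, rfl⟩

/-- In a solvable group of odd order with `O_{p'} = 1`, a Sylow `p`-subgroup with cyclic
derived group is `O_p`. -/
theorem sylow_eq_pCore_of_cyclic_commutator {Y : Type u} [Group Y] [Finite Y] [Group.IsSolvable Y]
    (hodd : Odd (Nat.card Y)) {p : ℕ} [hp : Fact p.Prime] (hO : Cfsg.pPrimeCore p Y = ⊥)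
    (T : Sylow p Y) (hT : IsCyclic (commutator (T : Subgroup Y))) :
    (T : Subgroup Y) = Cfsg.pCore p Y := by
  set P := Cfsg.pCore p Y with hP
  haveI hPn : P.Normal := Cfsg.Agent.Lib.Helper1.pCore_normal p Y
  have hPp : IsPGroup p P := Cfsg.Agent.Lib.Helper1.pCore_isPGroup p Y
  have hPT : P ≤ (T : Subgroup Y) := Cfsg.Agent.Lib.Helper1.pCore_le_sylow T
  apply le_antisymm _ hPT
  by_cases hp2 : p = 2
  · -- T is trivial
    intro t ht
    have h1 : Nat.card (T : Subgroup Y) = 1 := by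
      obtain ⟨k, hk⟩ := IsPGroup.iff_card.mp T.isPGroup'
      have hdvd : Nat.card (T : Subgroup Y) ∣ Nat.card Y := Subgroup.card_subgroup_dvd_card _
      rcases Nat.eq_zero_or_pos k with rfl | hk0
      · simpa using hk
      · exfalso
        have h2 : 2 ∣ Nat.card Y := by
          have : 2 ∣ Nat.card (T : Subgroup Y) := by
            rw [hk, hp2]; exact dvd_pow_self 2 hk0.ne'
          exact this.trans hdvd
        exact (Nat.not_even_iff_odd.mpr hodd) (even_iff_two_dvd.mpr h2)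
    have : (T : Subgroup Y) = ⊥ := Subgroup.card_eq_one.mp h1
    rw [this, Subgroup.mem_bot] at ht
    rw [ht]; exact P.one_mem
  · have hc : Subgroup.centralizer (P : Set Y) ≤ P :=
      Cfsg.Agent.Lib.Helper9.centralizer_pCore_le_of_isSolvable p hO
    have hQ := Cfsg.Agent.Lib.Helper27.OddStable.quadCore_of_odd (p := p) (G := Y) hp2 hodd
    set N : Subgroup Y := (frattini ↥P).map P.subtype with hN
    haveI hNn : N.Normal := Cfsg.Agent.Lib.Helper27.OddStable.frattini_map_normal P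
    have hsec : Cfsg.IsPStableOnSection p P N := by
      apply Cfsg.Agent.Lib.Helper29.QuadPair.isPStableOnSection_of_quadCore hQ P N
      · intro x hx y hy
        refine ⟨⁅(⟨x, hx⟩ : P), ⟨y, hy⟩⁆, ?_, rfl⟩
        apply Cfsg.Agent.Lib.Helper1.IsPGroup.commutator_le_frattini hPp
        rw [_root_.commutator_def]
        exact Subgroup.commutator_mem_commutator (Subgroup.mem_top _) (Subgroup.mem_top _)
      · intro x hx
        exact ⟨(⟨x, hx⟩ : P) ^ p, Cfsg.Agent.Lib.Helper1.IsPGroup.pow_mem_frattini hPp _, rfl⟩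
    intro t ht
    obtain ⟨D, hDn, hKD, ⟨k, hk⟩, htD⟩ := hsec t (quad_on_frattini_of_cyclic_commutator T hT t ht)
    have hKp := Cfsg.Agent.Lib.Helper17.isPGroup_sectionKernel_frattini (p := p) hc
    have hDp : IsPGroup p D := by
      obtain ⟨m, hm⟩ := IsPGroup.iff_card.1 hKp
      apply IsPGroup.of_card (n := m + k)
      have h1 := Cfsg.Agent.Lib.Helper17.card_eq_relIndex_mul_card_inf D (Cfsg.sectionKernel P N)
      rw [inf_eq_right.2 hKD, hk, hm] at h1
      rw [h1, pow_add, mul_comm]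
    exact Cfsg.Agent.Lib.Helper1.le_pCore hDn hDp htD

end Cfsg.Agent.Lib.Helper4
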