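import Mathlib
import Cfsg.Prelude.Def_LocalEven
import Cfsg.Agent.Lib.Helper25.BaerSuzuki
import Cfsg.Agent.Lib.Helper16.S4Involved

set_option autoImplicit false
set_option linter.unusedSectionVars false
set_option linter.unusedVariables false

namespace Cfsg.Agent.Lib.Helper4.TransvPair

open Subgroup

variable {G : Type*} [Group G]

section PowVal

variable {p : ℕ} [hp : Fact p.Prime]

theorem pow_val_add {l : G} (hl : l ^ p = 1) (s t : ZMod p) :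
    l ^ (s + t).val = l ^ s.val * l ^ t.val := by
  rw [ZMod.val_add, ← pow_add, ← pow_eq_pow_mod _ hl]

theorem pow_val_zero (l : G) : l ^ (0 : ZMod p).val = 1 := by
  rw [ZMod.val_zero, pow_zero]

theorem pow_val_one (l : G) : l ^ (1 : ZMod p).val = l := by
  rw [ZMod.val_one, pow_one]

theorem pow_val_natCast {l : G} (hl : l ^ p = 1) (n : ℕ) : l ^ ((n : ZMod p)).val = l ^ n := by
  rw [ZMod.val_natCast, ← pow_eq_pow_mod _ hl]

theorem pow_val_mul {l : G} (hl : l ^ p = 1) (s t : ZMod p) :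
    (l ^ s.val) ^ t.val = l ^ (s * t).val := by
  rw [ZMod.val_mul, ← pow_mul, ← pow_eq_pow_mod _ hl]

theorem pow_val_neg {l : G} (hl : l ^ p = 1) (s : ZMod p) :
    l ^ (-s).val = (l ^ s.val)⁻¹ := by
  have h := pow_val_add hl s (-s)
  rw [add_neg_cancel, pow_val_zero] at h
  exact eq_inv_of_mul_eq_one_right h.symm

theorem zpow_eq_pow_val {l : G} (hl : l ^ p = 1) (k : ℤ) : l ^ k = l ^ ((k : ZMod p)).val := by
  have h1 : l ^ (p : ℤ) = 1 := by rw [zpow_natCast]; exact hl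
  rw [zpow_eq_zpow_emod k h1, ← ZMod.val_intCast, zpow_natCast]

end PowVal

section Tv

variable {p : ℕ} [hp : Fact p.Prime] (V : Subgroup G) [hVn : V.Normal]

/-- `a` acts on `V` with all commutators inside `⟨a⟩`. -/
def Tv (a : G) : Prop := ∀ v ∈ V, a * v * a⁻¹ * v⁻¹ ∈ zpowers a

theorem Tv.conj {a : G} (h : Tv V a) (g : G) : Tv V (g * a * g⁻¹) := by
  intro v hv
  have hv' : g⁻¹ * v * g ∈ V := by
    have := hVn.conj_mem v hv g⁻¹
    simpa using this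
  obtain ⟨k, hk⟩ := mem_zpowers_iff.mp (h _ hv')
  rw [mem_zpowers_iff]
  refine ⟨k, ?_⟩
  rw [conj_zpow, hk]
  group

theorem Tv.comm_mem {a : G} (h : Tv V a) {v : G} (hv : v ∈ V) :
    a * v * a⁻¹ * v⁻¹ ∈ V ∧ Commute a (a * v * a⁻¹ * v⁻¹) := by
  refine ⟨V.mul_mem (hVn.conj_mem v hv a) (V.inv_mem hv), ?_⟩
  obtain ⟨k, hk⟩ := mem_zpowers_iff.mp (h v hv)
  rw [← hk]
  exact (Commute.refl a).zpow_right k

theorem conj_pow_formula {a v c : G} (hc : Commute a c) (h : a * v * a⁻¹ = c * v) (n : ℕ) :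
    a ^ n * v * (a ^ n)⁻¹ = c ^ n * v := by
  induction n with
  | zero => simp
  | succ n ih =>
    calc a ^ (n + 1) * v * (a ^ (n + 1))⁻¹ = a * (a ^ n * v * (a ^ n)⁻¹) * a⁻¹ := by
          rw [pow_succ']; group
      _ = a * (c ^ n * v) * a⁻¹ := by rw [ih]
      _ = (a * c ^ n * a⁻¹) * (a * v * a⁻¹) := by group
      _ = c ^ n * (c * v) := by
          rw [h, (hc.pow_right n).eq]; group
      _ = c ^ (n + 1) * v := by rw [pow_succ]; group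

variable (hVc : ∀ x ∈ V, ∀ y ∈ V, x * y = y * x) (hVp : ∀ x ∈ V, x ^ p = 1)
  (hCV : centralizer (V : Set G) ≤ V)

include hVp hCV in
theorem Tv.pow_mem {a : G} (h : Tv V a) : a ^ p ∈ V := by
  apply hCV
  rw [mem_centralizer_iff]
  intro v hv
  obtain ⟨hcV, hca⟩ := h.comm_mem V hv
  have h1 : a * v * a⁻¹ = (a * v * a⁻¹ * v⁻¹) * v := by group
  have h2 := conj_pow_formula hca h1 p
  rw [hVp _ hcV, one_mul] at h2
  calc v * a ^ p = (a ^ p * v * (a ^ p)⁻¹) * a ^ p := by rw [h2]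
    _ = a ^ p * v := by group

include hVc hVp hCV in
/-- the normal form of the action of `a` on `V` -/
theorem Tv.form {a : G} (h : Tv V a) (ha : a ∉ V) {v : G} (hv : v ∈ V) :
    ∃ s : ZMod p, a * v * a⁻¹ = v * (a ^ p) ^ s.val := by
  obtain ⟨hcV, hca⟩ := h.comm_mem V hv
  obtain ⟨k, hk⟩ := mem_zpowers_iff.mp (h v hv)
  have hpV := h.pow_mem V hVp hCV
  have hl : (a ^ p) ^ p = 1 := hVp _ hpV
  have hdvd : (p : ℤ) ∣ k := by
    by_contra hnd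
    have hcop : IsCoprime k (p : ℤ) :=
      ((Nat.prime_iff_prime_int.mp hp.out).irreducible.coprime_iff_not_dvd.mpr hnd).symm
    obtain ⟨m, n, hmn⟩ := hcop
    apply ha
    have : a = (a ^ k) ^ m * (a ^ p) ^ n := by
      rw [← zpow_mul, ← zpow_natCast, ← zpow_mul, ← zpow_add]
      have : k * m + (p : ℤ) * n = 1 := by rw [← hmn]; ring
      rw [this, zpow_one]
    rw [this]
    exact V.mul_mem (V.zpow_mem (by rw [hk]; exact hcV) m) (V.zpow_mem hpV n)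
  obtain ⟨k', rfl⟩ := hdvd
  refine ⟨(k' : ZMod p), ?_⟩
  rw [← zpow_eq_pow_val hl, ← zpow_natCast, ← zpow_mul]
  have hcv : Commute (a * v * a⁻¹ * v⁻¹) v := hVc _ hcV _ hv
  calc a * v * a⁻¹ = (a * v * a⁻¹ * v⁻¹) * v := by group
    _ = v * (a * v * a⁻¹ * v⁻¹) := hcv.eq
    _ = v * a ^ ((p : ℤ) * k') := by rw [hk]

end Tv


section Chain

theorem chain_pow {x v u w : G} (h1 : x * v * x⁻¹ = v * u) (h2 : x * u * x⁻¹ = u * w)
    (h3 : x * w * x⁻¹ = w) (huw : Commute u w) (n : ℕ) :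
    x ^ n * v * (x ^ n)⁻¹ = v * u ^ n * w ^ (∑ m ∈ Finset.range n, m) := by
  induction n with
  | zero => simp
  | succ n ih =>
    have hu : x * u ^ n * x⁻¹ = u ^ n * w ^ n := by
      rw [← conj_pow, h2, huw.mul_pow]
    have hw : x * w ^ (∑ m ∈ Finset.range n, m) * x⁻¹ = w ^ (∑ m ∈ Finset.range n, m) := by
      rw [← conj_pow, h3]
    calc x ^ (n + 1) * v * (x ^ (n + 1))⁻¹ = x * (x ^ n * v * (x ^ n)⁻¹) * x⁻¹ := by
          rw [pow_succ']; group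
      _ = x * (v * u ^ n * w ^ (∑ m ∈ Finset.range n, m)) * x⁻¹ := by rw [ih]
      _ = (x * v * x⁻¹) * (x * u ^ n * x⁻¹) * (x * w ^ (∑ m ∈ Finset.range n, m) * x⁻¹) := by
          group
      _ = (v * u) * (u ^ n * w ^ n) * w ^ (∑ m ∈ Finset.range n, m) := by rw [h1, hu, hw]
      _ = v * u ^ (n + 1) * w ^ (∑ m ∈ Finset.range (n + 1), m) := by
          rw [Finset.sum_range_succ, pow_succ' u, pow_add,
            ((Commute.refl w).pow_pow (∑ m ∈ Finset.range n, m) n).eq]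
          simp only [mul_assoc]

variable (V Y L : Subgroup G)

/-- `x` stabilizes the chain `V ≥ Y ≥ L ≥ 1`. -/
def Stab3 (x : G) : Prop :=
  (∀ v ∈ V, v⁻¹ * (x * v * x⁻¹) ∈ Y) ∧ (∀ u ∈ Y, u⁻¹ * (x * u * x⁻¹) ∈ L) ∧
    (∀ w ∈ L, x * w * x⁻¹ = w)

variable {V Y L}

theorem Stab3.one : Stab3 V Y L (1 : G) := by
  refine ⟨fun v _ => ?_, fun u _ => ?_, fun w _ => ?_⟩
  · simp
  · simp
  · simp

theorem Stab3.mul (hYV : Y ≤ V) (hLY : L ≤ Y) {x y : G} (hx : Stab3 V Y L x)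
    (hy : Stab3 V Y L y) : Stab3 V Y L (x * y) := by
  refine ⟨fun v hv => ?_, fun u hu => ?_, fun w hw => ?_⟩
  · have h1 := hy.1 v hv
    have h2 := hx.1 v hv
    have h3 := hx.2.1 _ h1
    have e : v⁻¹ * (x * y * v * (x * y)⁻¹) =
        (v⁻¹ * (x * v * x⁻¹)) * ((v⁻¹ * (y * v * y⁻¹)) *
          ((v⁻¹ * (y * v * y⁻¹))⁻¹ * (x * (v⁻¹ * (y * v * y⁻¹)) * x⁻¹))) := by group
    rw [e]
    exact Y.mul_mem h2 (Y.mul_mem h1 (hLY h3))
  · have h1 := hy.2.1 u hu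
    have h2 := hx.2.1 u hu
    have h3 := hx.2.2 _ h1
    have e : u⁻¹ * (x * y * u * (x * y)⁻¹) =
        (u⁻¹ * (x * u * x⁻¹)) * (x * (u⁻¹ * (y * u * y⁻¹)) * x⁻¹) := by group
    rw [e, h3]
    exact L.mul_mem h2 h1
  · have e : x * y * w * (x * y)⁻¹ = x * (y * w * y⁻¹) * x⁻¹ := by group
    rw [e, hy.2.2 w hw, hx.2.2 w hw]

theorem Stab3.pow (hYV : Y ≤ V) (hLY : L ≤ Y) {x : G} (hx : Stab3 V Y L x) (n : ℕ) :
    Stab3 V Y L (x ^ n) := by
  induction n with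
  | zero => rw [pow_zero]; exact Stab3.one
  | succ n ih => rw [pow_succ]; exact ih.mul hYV hLY hx

theorem Stab3.inv [Finite G] (hYV : Y ≤ V) (hLY : L ≤ Y) {x : G} (hx : Stab3 V Y L x) :
    Stab3 V Y L x⁻¹ := by
  have h : x⁻¹ = x ^ (orderOf x - 1) := by
    have hpos : 0 < orderOf x := orderOf_pos x
    apply inv_eq_of_mul_eq_one_right
    rw [← pow_succ', Nat.sub_add_cancel hpos, pow_orderOf_eq_one]
  rw [h]
  exact hx.pow hYV hLY _

theorem Stab3.closure [Finite G] (hYV : Y ≤ V) (hLY : L ≤ Y) {S : Set G}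
    (hS : ∀ s ∈ S, Stab3 V Y L s) {x : G} (hx : x ∈ closure S) : Stab3 V Y L x := by
  induction hx using Subgroup.closure_induction with
  | mem s hs => exact hS s hs
  | one => exact Stab3.one
  | mul x y _ _ hx hy => exact hx.mul hYV hLY hy
  | inv x _ hx => exact hx.inv hYV hLY

theorem Stab3.pow_mem_centralizer {p : ℕ} (hYV : Y ≤ V) (hLY : L ≤ Y)
    (hVc : ∀ x ∈ V, ∀ y ∈ V, x * y = y * x) (hVp : ∀ x ∈ V, x ^ p = 1) {x : G}
    (hx : Stab3 V Y L x) : x ^ (p * p) ∈ centralizer (V : Set G) := by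
  rw [mem_centralizer_iff]
  intro v hv
  obtain ⟨u, hu⟩ : ∃ u, u = v⁻¹ * (x * v * x⁻¹) := ⟨_, rfl⟩
  obtain ⟨w, hw⟩ : ∃ w, w = u⁻¹ * (x * u * x⁻¹) := ⟨_, rfl⟩
  have huY : u ∈ Y := by rw [hu]; exact hx.1 v hv
  have hwL : w ∈ L := by rw [hw]; exact hx.2.1 u huY
  have h1 : x * v * x⁻¹ = v * u := by rw [hu]; group
  have h2 : x * u * x⁻¹ = u * w := by rw [hw]; group
  have h3 : x * w * x⁻¹ = w := hx.2.2 w hwL
  have huV : u ∈ V := hYV huY
  have hwV : w ∈ V := hYV (hLY hwL)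
  have huw : Commute u w := hVc u huV w hwV
  have e1 := chain_pow h1 h2 h3 huw p
  rw [hVp u huV, mul_one] at e1
  obtain ⟨w₁, hw₁⟩ : ∃ w₁, w₁ = w ^ (∑ m ∈ Finset.range p, m) := ⟨_, rfl⟩
  rw [← hw₁] at e1
  have hw₁V : w₁ ∈ V := by rw [hw₁]; exact V.pow_mem hwV _
  have h3' : x ^ p * w₁ * (x ^ p)⁻¹ = w₁ := by
    have hc : Commute x w := by
      have : x * w = w * x := by
        calc x * w = (x * w * x⁻¹) * x := by group
          _ = w * x := by rw [h3]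
      exact this
    have hc' : Commute (x ^ p) w₁ := by rw [hw₁]; exact hc.pow_pow _ _
    calc x ^ p * w₁ * (x ^ p)⁻¹ = w₁ * x ^ p * (x ^ p)⁻¹ := by rw [hc'.eq]
      _ = w₁ := by group
  have h4 : x ^ p * (1 : G) * (x ^ p)⁻¹ = 1 := by group
  have e2 := chain_pow (x := x ^ p) (v := v) (u := w₁) (w := 1) e1
    (by rw [mul_one]; exact h3') h4 (Commute.one_right _) p
  rw [hVp w₁ hw₁V, one_pow, mul_one, mul_one, ← pow_mul] at e2
  calc v * x ^ (p * p) = (x ^ (p * p) * v * (x ^ (p * p))⁻¹) * x ^ (p * p) := by rw [e2]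
    _ = x ^ (p * p) * v := by group

end Chain


section CaseA

variable {p : ℕ} [hp : Fact p.Prime] (V : Subgroup G) [hVn : V.Normal]
  (hVc : ∀ x ∈ V, ∀ y ∈ V, x * y = y * x) (hVp : ∀ x ∈ V, x ^ p = 1)
  (hCV : centralizer (V : Set G) ≤ V)

include hVc hVp hCV in
theorem isPGroup_closure_of_commute [Finite G] {a b : G} (ha : Tv V a) (hb : Tv V b)
    (haV : a ∉ V) (hbV : b ∉ V) (hcomm : Commute a (b ^ p)) :
    IsPGroup p ↥(closure ({a, b} : Set G)) := by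
  have hapV := ha.pow_mem V hVp hCV
  have hbpV := hb.pow_mem V hVp hCV
  obtain ⟨Y, hY⟩ : ∃ Y : Subgroup G, Y = V ⊓ centralizer ({a} : Set G) := ⟨_, rfl⟩
  obtain ⟨L, hL⟩ : ∃ L : Subgroup G, L = zpowers (b ^ p) := ⟨_, rfl⟩
  have hYV : Y ≤ V := by rw [hY]; exact inf_le_left
  have hmemY : ∀ u, u ∈ Y ↔ u ∈ V ∧ Commute a u := by
    intro u
    rw [hY, mem_inf, mem_centralizer_singleton_iff]
    constructor
    · rintro ⟨h1, h2⟩; exact ⟨h1, h2.symm⟩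
    · rintro ⟨h1, h2⟩; exact ⟨h1, h2.symm⟩
  have hLY : L ≤ Y := by
    rw [hL, zpowers_le, hmemY]
    exact ⟨hbpV, hcomm⟩
  have hSa : Stab3 V Y L a := by
    refine ⟨fun v hv => ?_, fun u hu => ?_, fun w hw => ?_⟩
    · obtain ⟨s, hs⟩ := ha.form V hVc hVp hCV haV hv
      rw [hs, inv_mul_cancel_left, hmemY]
      exact ⟨V.pow_mem hapV _, ((Commute.refl a).pow_right p).pow_right _⟩
    · have h := ((hmemY u).mp hu).2
      have : a * u * a⁻¹ = u := by rw [h.eq]; group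
      rw [this, inv_mul_cancel]
      exact L.one_mem
    · rw [hL] at hw
      obtain ⟨k, rfl⟩ := mem_zpowers_iff.mp hw
      rw [(hcomm.zpow_right k).eq]; group
  have hSb : Stab3 V Y L b := by
    refine ⟨fun v hv => ?_, fun u hu => ?_, fun w hw => ?_⟩
    · obtain ⟨s, hs⟩ := hb.form V hVc hVp hCV hbV hv
      rw [hs, inv_mul_cancel_left, hmemY]
      exact ⟨V.pow_mem hbpV _, hcomm.pow_right _⟩
    · obtain ⟨s, hs⟩ := hb.form V hVc hVp hCV hbV (hYV hu)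
      rw [hs, inv_mul_cancel_left, hL]
      exact (zpowers (b ^ p)).pow_mem (mem_zpowers _) _
    · rw [hL] at hw
      obtain ⟨k, rfl⟩ := mem_zpowers_iff.mp hw
      have hc : Commute b ((b ^ p) ^ k) := ((Commute.refl b).pow_right p).zpow_right k
      rw [hc.eq]; group
  have hS : ∀ s ∈ ({a, b} : Set G), Stab3 V Y L s := by
    rintro s (rfl | rfl)
    · exact hSa
    · exact hSb
  intro ⟨x, hx⟩
  refine ⟨3, Subtype.ext ?_⟩
  have h1 := (Stab3.closure hYV hLY hS hx).pow_mem_centralizer hYV hLY hVc hVp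
  have h2 := hVp _ (hCV h1)
  simp only [SubmonoidClass.mk_pow, OneMemClass.coe_one]
  rw [← h2, ← pow_mul]
  congr 1
  ring

end CaseA


section CaseB

variable {p : ℕ} [hp : Fact p.Prime] (V : Subgroup G) [hVn : V.Normal]

/-- The data of a pair of non-commuting transvection-like elements. -/
structure PairData (a b l₁ l₂ : G) (α β : ZMod p) : Prop where
  hVc : ∀ x ∈ V, ∀ y ∈ V, x * y = y * x
  hVp : ∀ x ∈ V, x ^ p = 1
  h1V : l₁ ∈ V
  h2V : l₂ ∈ V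
  a1 : Commute a l₁
  b2 : Commute b l₂
  a2 : a * l₂ * a⁻¹ = l₂ * l₁ ^ α.val
  b1 : b * l₁ * b⁻¹ = l₁ * l₂ ^ β.val
  hα : α ≠ 0
  hβ : β ≠ 0
  fa : ∀ v ∈ V, ∃ s : ZMod p, a * v * a⁻¹ = v * l₁ ^ s.val
  fb : ∀ v ∈ V, ∃ s : ZMod p, b * v * b⁻¹ = v * l₂ ^ s.val

/-- the element `l₁^s l₂^t` -/
def E (l₁ l₂ : G) (s t : ZMod p) : G := l₁ ^ s.val * l₂ ^ t.val

variable {V} {a b l₁ l₂ : G} {α β : ZMod p} (D : PairData V a b l₁ l₂ α β)

include D

theorem PairData.l1p : l₁ ^ p = 1 := D.hVp _ D.h1V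
theorem PairData.l2p : l₂ ^ p = 1 := D.hVp _ D.h2V
theorem PairData.c12 : Commute l₁ l₂ := D.hVc _ D.h1V _ D.h2V

theorem PairData.E_mem (s t : ZMod p) : E l₁ l₂ s t ∈ V :=
  V.mul_mem (V.pow_mem D.h1V _) (V.pow_mem D.h2V _)

theorem PairData.E_mul (s t s' t' : ZMod p) :
    E l₁ l₂ s t * E l₁ l₂ s' t' = E l₁ l₂ (s + s') (t + t') := by
  unfold E
  rw [pow_val_add D.l1p, pow_val_add D.l2p]
  have h : Commute (l₂ ^ t.val) (l₁ ^ s'.val) := (D.c12.pow_pow _ _).symm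
  calc l₁ ^ s.val * l₂ ^ t.val * (l₁ ^ s'.val * l₂ ^ t'.val)
      = l₁ ^ s.val * (l₂ ^ t.val * l₁ ^ s'.val) * l₂ ^ t'.val := by group
    _ = l₁ ^ s.val * (l₁ ^ s'.val * l₂ ^ t.val) * l₂ ^ t'.val := by rw [h.eq]
    _ = l₁ ^ s.val * l₁ ^ s'.val * (l₂ ^ t.val * l₂ ^ t'.val) := by group

theorem PairData.E_zero : E l₁ l₂ (0 : ZMod p) 0 = 1 := by
  unfold E
  rw [pow_val_zero, pow_val_zero, one_mul]

theorem PairData.E_inv (s t : ZMod p) : (E l₁ l₂ s t)⁻¹ = E l₁ l₂ (-s) (-t) := by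
  apply inv_eq_of_mul_eq_one_right
  rw [D.E_mul, add_neg_cancel, add_neg_cancel, D.E_zero]

theorem PairData.E_left (s : ZMod p) : E l₁ l₂ s 0 = l₁ ^ s.val := by
  unfold E
  rw [pow_val_zero, mul_one]

theorem PairData.E_right (t : ZMod p) : E l₁ l₂ 0 t = l₂ ^ t.val := by
  unfold E
  rw [pow_val_zero, one_mul]

theorem PairData.conj_a (s t : ZMod p) :
    a * E l₁ l₂ s t * a⁻¹ = E l₁ l₂ (s + α * t) t := by
  have h1 : a * l₁ ^ s.val * a⁻¹ = l₁ ^ s.val := by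
    rw [(D.a1.pow_right _).eq]; group
  have h2 : a * l₂ ^ t.val * a⁻¹ = l₂ ^ t.val * l₁ ^ (α * t).val := by
    rw [← conj_pow, D.a2, (D.c12.symm.pow_right _).mul_pow, pow_val_mul D.l1p]
  have e : a * E l₁ l₂ s t * a⁻¹ = (a * l₁ ^ s.val * a⁻¹) * (a * l₂ ^ t.val * a⁻¹) := by
    unfold E; group
  rw [e, h1, h2]
  have : l₁ ^ s.val * (l₂ ^ t.val * l₁ ^ (α * t).val) = E l₁ l₂ s t * E l₁ l₂ (α * t) 0 := by
    rw [D.E_left]; unfold E; group
  rw [this, D.E_mul, add_zero]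

theorem PairData.conj_b (s t : ZMod p) :
    b * E l₁ l₂ s t * b⁻¹ = E l₁ l₂ s (t + β * s) := by
  have h1 : b * l₂ ^ t.val * b⁻¹ = l₂ ^ t.val := by
    rw [(D.b2.pow_right _).eq]; group
  have h2 : b * l₁ ^ s.val * b⁻¹ = l₁ ^ s.val * l₂ ^ (β * s).val := by
    rw [← conj_pow, D.b1, (D.c12.pow_right _).mul_pow, pow_val_mul D.l2p]
  have e : b * E l₁ l₂ s t * b⁻¹ = (b * l₁ ^ s.val * b⁻¹) * (b * l₂ ^ t.val * b⁻¹) := by
    unfold E; group
  rw [e, h1, h2]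
  have : l₁ ^ s.val * l₂ ^ (β * s).val * l₂ ^ t.val = E l₁ l₂ s t * E l₁ l₂ 0 (β * s) := by
    rw [D.E_right]; unfold E
    have h : Commute (l₂ ^ (β * s).val) (l₂ ^ t.val) := (Commute.refl l₂).pow_pow _ _
    calc l₁ ^ s.val * l₂ ^ (β * s).val * l₂ ^ t.val
        = l₁ ^ s.val * (l₂ ^ (β * s).val * l₂ ^ t.val) := by group
      _ = l₁ ^ s.val * (l₂ ^ t.val * l₂ ^ (β * s).val) := by rw [h.eq]
      _ = l₁ ^ s.val * l₂ ^ t.val * l₂ ^ (β * s).val := by group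
  rw [this, D.E_mul, add_zero]

theorem PairData.conj_b_pow (j : ℕ) (s t : ZMod p) :
    b ^ j * E l₁ l₂ s t * (b ^ j)⁻¹ = E l₁ l₂ s (t + j * β * s) := by
  induction j with
  | zero => simp
  | succ j ih =>
    calc b ^ (j + 1) * E l₁ l₂ s t * (b ^ (j + 1))⁻¹
        = b * (b ^ j * E l₁ l₂ s t * (b ^ j)⁻¹) * b⁻¹ := by rw [pow_succ']; group
      _ = E l₁ l₂ s (t + j * β * s + β * s) := by rw [ih, D.conj_b]
      _ = E l₁ l₂ s (t + (j + 1 : ℕ) * β * s) := by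
          congr 1
          push_cast
          ring


theorem PairData.exists_j : ∃ j : ℕ, α * (j : ZMod p) * β + 1 = 0 := by
  refine ⟨(-(α * β)⁻¹ : ZMod p).val, ?_⟩
  rw [ZMod.natCast_zmod_val]
  have hα := D.hα
  have hβ := D.hβ
  field_simp
  ring

theorem PairData.conj_w {j : ℕ} (hj : α * (j : ZMod p) * β + 1 = 0) (s t : ZMod p) :
    (a * b ^ j * a) * E l₁ l₂ s t * (a * b ^ j * a)⁻¹ = E l₁ l₂ (α * t) (j * β * s) := by
  have e : (a * b ^ j * a) * E l₁ l₂ s t * (a * b ^ j * a)⁻¹ =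
      a * (b ^ j * (a * E l₁ l₂ s t * a⁻¹) * (b ^ j)⁻¹) * a⁻¹ := by group
  rw [e, D.conj_a, D.conj_b_pow, D.conj_a]
  congr 1
  · linear_combination (s + α * t) * hj
  · linear_combination t * hj

theorem PairData.conj_z {j : ℕ} (hj : α * (j : ZMod p) * β + 1 = 0) (s t : ZMod p) :
    ((a * b ^ j * a) * (a * b ^ j * a)) * E l₁ l₂ s t * ((a * b ^ j * a) * (a * b ^ j * a))⁻¹ =
      (E l₁ l₂ s t)⁻¹ := by
  have e : ((a * b ^ j * a) * (a * b ^ j * a)) * E l₁ l₂ s t *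
      ((a * b ^ j * a) * (a * b ^ j * a))⁻¹ =
      (a * b ^ j * a) * ((a * b ^ j * a) * E l₁ l₂ s t * (a * b ^ j * a)⁻¹) *
        (a * b ^ j * a)⁻¹ := by group
  rw [e, D.conj_w hj, D.conj_w hj, D.E_inv]
  congr 1
  · linear_combination s * hj
  · linear_combination t * hj

/-- decomposition `V = C_V(⟨a,b⟩) × U` -/
theorem PairData.exists_decomp {v : G} (hv : v ∈ V) :
    ∃ (c : G) (s t : ZMod p), c ∈ V ∧ Commute a c ∧ Commute b c ∧ v = c * E l₁ l₂ s t := by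
  obtain ⟨i, hi⟩ := D.fa v hv
  obtain ⟨k, hk⟩ := D.fb v hv
  have hα := D.hα
  have hβ := D.hβ
  obtain ⟨t, ht⟩ : ∃ t : ZMod p, α * t = i := ⟨α⁻¹ * i, by field_simp⟩
  obtain ⟨s, hs⟩ : ∃ s : ZMod p, β * s = k := ⟨β⁻¹ * k, by field_simp⟩
  have hEV := D.E_mem s t
  have hcE : Commute v (E l₁ l₂ s t)⁻¹ := D.hVc _ hv _ (V.inv_mem hEV)
  refine ⟨v * (E l₁ l₂ s t)⁻¹, s, t, V.mul_mem hv (V.inv_mem hEV), ?_, ?_, by group⟩
  · have h1 : a * (v * (E l₁ l₂ s t)⁻¹) * a⁻¹ = v * (E l₁ l₂ s t)⁻¹ := by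
      have e : a * (v * (E l₁ l₂ s t)⁻¹) * a⁻¹ = (a * v * a⁻¹) * (a * E l₁ l₂ s t * a⁻¹)⁻¹ := by
        group
      rw [e, hi, D.conj_a, ht]
      have e2 : E l₁ l₂ (s + i) t = E l₁ l₂ s t * l₁ ^ i.val := by
        rw [← D.E_left, D.E_mul, add_zero]
      rw [e2]; group
    calc a * (v * (E l₁ l₂ s t)⁻¹) = (a * (v * (E l₁ l₂ s t)⁻¹) * a⁻¹) * a := by group
      _ = v * (E l₁ l₂ s t)⁻¹ * a := by rw [h1]
  · have h1 : b * (v * (E l₁ l₂ s t)⁻¹) * b⁻¹ = v * (E l₁ l₂ s t)⁻¹ := by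
      have e : b * (v * (E l₁ l₂ s t)⁻¹) * b⁻¹ = (b * v * b⁻¹) * (b * E l₁ l₂ s t * b⁻¹)⁻¹ := by
        group
      rw [e, hk, D.conj_b, hs]
      have e2 : E l₁ l₂ s (t + k) = E l₁ l₂ s t * l₂ ^ k.val := by
        rw [← D.E_right, D.E_mul, add_zero]
      rw [e2]; group
    calc b * (v * (E l₁ l₂ s t)⁻¹) = (b * (v * (E l₁ l₂ s t)⁻¹) * b⁻¹) * b := by group
      _ = v * (E l₁ l₂ s t)⁻¹ * b := by rw [h1]


theorem PairData.exists_conj_z (hCV : centralizer (V : Set G) ≤ V) {j : ℕ}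
    (hj : α * (j : ZMod p) * β + 1 = 0) :
    ∃ t' ∈ V, ((a * b ^ j * a) * (a * b ^ j * a)) * a * ((a * b ^ j * a) * (a * b ^ j * a))⁻¹ =
      t' * a := by
  obtain ⟨z, hz⟩ : ∃ z, z = (a * b ^ j * a) * (a * b ^ j * a) := ⟨_, rfl⟩
  rw [← hz]
  have hzc : ∀ c, Commute a c → Commute b c → Commute z c := by
    intro c hac hbc
    rw [hz]
    have hw : Commute (a * b ^ j * a) c := ((hac.mul_left (hbc.pow_left j)).mul_left hac)
    exact hw.mul_left hw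
  have hzE : ∀ s t : ZMod p, z * E l₁ l₂ s t * z⁻¹ = (E l₁ l₂ s t)⁻¹ := by
    intro s t; rw [hz]; exact D.conj_z hj s t
  have key : ∀ v ∈ V, (z * a) * v * (z * a)⁻¹ = (a * z) * v * (a * z)⁻¹ := by
    intro v hv
    obtain ⟨c, s, t, hcV, hac, hbc, rfl⟩ := D.exists_decomp hv
    have hzc' := hzc c hac hbc
    have e1 : (z * a) * (c * E l₁ l₂ s t) * (z * a)⁻¹ =
        (z * (a * c) * a⁻¹ * z⁻¹) * (z * (a * E l₁ l₂ s t * a⁻¹) * z⁻¹) := by group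
    have e2 : (a * z) * (c * E l₁ l₂ s t) * (a * z)⁻¹ =
        (a * (z * c) * z⁻¹ * a⁻¹) * (a * (z * E l₁ l₂ s t * z⁻¹) * a⁻¹) := by group
    rw [e1, e2, hac.eq, hzc'.eq, D.conj_a, hzE, hzE]
    have e3 : a * (E l₁ l₂ s t)⁻¹ * a⁻¹ = (a * E l₁ l₂ s t * a⁻¹)⁻¹ := by group
    rw [e3, D.conj_a]
    have e4 : z * (c * a) * a⁻¹ * z⁻¹ = (z * c) * z⁻¹ := by group
    have e5 : a * (c * z) * z⁻¹ * a⁻¹ = (a * c) * a⁻¹ := by group
    rw [e4, e5, hzc'.eq, hac.eq]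
    group
  have ht₀ : (a * z)⁻¹ * (z * a) ∈ V := by
    apply hCV
    rw [mem_centralizer_iff]
    intro v hv
    have h := key v hv
    calc v * ((a * z)⁻¹ * (z * a))
        = (a * z)⁻¹ * ((a * z) * v * (a * z)⁻¹) * (z * a) := by group
      _ = (a * z)⁻¹ * ((z * a) * v * (z * a)⁻¹) * (z * a) := by rw [h]
      _ = (a * z)⁻¹ * (z * a) * v := by group
  refine ⟨a * (z * ((a * z)⁻¹ * (z * a)) * z⁻¹) * a⁻¹,
    hVn.conj_mem _ (hVn.conj_mem _ ht₀ z) a, by group⟩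

end CaseB

section PthPower

variable {p : ℕ} [hp : Fact p.Prime] (V : Subgroup G) [hVn : V.Normal]
  (hVc : ∀ x ∈ V, ∀ y ∈ V, x * y = y * x) (hVp : ∀ x ∈ V, x ^ p = 1)

include hVc hVp in
theorem pow_mul_eq (hodd : p ≠ 2) {a t : G} (ha : Tv V a) (ht : t ∈ V) :
    (t * a) ^ p = a ^ p := by
  obtain ⟨hsV, hsa⟩ := ha.comm_mem V ht
  obtain ⟨s, hs⟩ : ∃ s, s = a * t * a⁻¹ * t⁻¹ := ⟨_, rfl⟩
  rw [← hs] at hsV hsa
  have h1 : a * t * a⁻¹ = s * t := by rw [hs]; group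
  have hst : Commute s t := hVc _ hsV _ ht
  have hform : ∀ n : ℕ, (t * a) ^ n = t ^ n * s ^ (∑ m ∈ Finset.range n, m) * a ^ n := by
    intro n
    induction n with
    | zero => simp
    | succ n ih =>
      have h2 := conj_pow_formula hsa h1 n
      have h3 : a ^ n * t = s ^ n * t * a ^ n := by
        calc a ^ n * t = (a ^ n * t * (a ^ n)⁻¹) * a ^ n := by group
          _ = s ^ n * t * a ^ n := by rw [h2]
      have hc1 : Commute (s ^ (∑ m ∈ Finset.range n, m) * s ^ n) t :=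
        ((hst.pow_left _).mul_left (hst.pow_left _))
      rw [Finset.sum_range_succ]
      calc (t * a) ^ (n + 1) = (t * a) ^ n * (t * a) := pow_succ _ _
        _ = t ^ n * s ^ (∑ m ∈ Finset.range n, m) * a ^ n * (t * a) := by rw [ih]
        _ = t ^ n * s ^ (∑ m ∈ Finset.range n, m) * (a ^ n * t) * a := by group
        _ = t ^ n * s ^ (∑ m ∈ Finset.range n, m) * (s ^ n * t * a ^ n) * a := by rw [h3]
        _ = t ^ n * ((s ^ (∑ m ∈ Finset.range n, m) * s ^ n) * t) * (a ^ n * a) := by group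
        _ = t ^ n * (t * (s ^ (∑ m ∈ Finset.range n, m) * s ^ n)) * (a ^ n * a) := by
            rw [hc1.eq]
        _ = t ^ (n + 1) * s ^ (∑ m ∈ Finset.range n, m + n) * a ^ (n + 1) := by
            rw [pow_succ t, pow_succ a, pow_add]; group
  rw [hform p, hVp t ht, one_mul]
  have hdvd : p ∣ ∑ m ∈ Finset.range p, m := by
    have h2 := Finset.sum_range_id_mul_two p
    have h3 : p ∣ (∑ m ∈ Finset.range p, m) * 2 := by rw [h2]; exact dvd_mul_right _ _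
    have hcop : Nat.Coprime p 2 := (Nat.coprime_primes hp.out Nat.prime_two).mpr hodd
    exact hcop.dvd_of_dvd_mul_right h3
  obtain ⟨q, hq⟩ := hdvd
  rw [hq, pow_mul, hVp s hsV, one_pow, one_mul]

end PthPower


section Core

variable {p : ℕ} [hp : Fact p.Prime] (V : Subgroup G) [hVn : V.Normal]
  (hVc : ∀ x ∈ V, ∀ y ∈ V, x * y = y * x) (hVp : ∀ x ∈ V, x ^ p = 1)
  (hCV : centralizer (V : Set G) ≤ V)
  (hOp : ∀ N : Subgroup G, N.Normal → IsPGroup p N → N ≤ V)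

include hVc hVp hCV hOp in
theorem exists_pairData [Finite G] {a : G} (ha : Tv V a) (hap : IsPGroup p (zpowers a))
    (haV : a ∉ V) :
    ∃ (b : G) (α β : ZMod p), PairData V a b (a ^ p) (b ^ p) α β ∧ ¬ Commute a (b ^ p) := by
  have hex : ∃ g : G, ¬ IsPGroup p ↥(zpowers a ⊔ Cfsg.conjBy (zpowers a) g) := by
    by_contra hcon
    push Not at hcon
    obtain ⟨N, hNn, hNp, hle⟩ := Cfsg.Agent.Lib.Helper25.baer_suzuki (zpowers a) hap hcon
    exact haV (hOp N hNn hNp (hle (mem_zpowers a)))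
  obtain ⟨g, hg⟩ := hex
  obtain ⟨b, hb⟩ : ∃ b, b = g * a * g⁻¹ := ⟨_, rfl⟩
  have hconj : Cfsg.conjBy (zpowers a) g = zpowers b := by
    unfold Cfsg.conjBy
    rw [MonoidHom.map_zpowers, hb]
    rfl
  have hsup : zpowers a ⊔ zpowers b = closure ({a, b} : Set G) := by
    rw [zpowers_eq_closure, zpowers_eq_closure, ← Subgroup.closure_union]
    rfl
  rw [hconj, hsup] at hg
  have hbT : Tv V b := by rw [hb]; exact ha.conj V g
  have hbV : b ∉ V := by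
    intro h
    apply haV
    have := hVn.conj_mem b h g⁻¹
    rw [hb] at this
    simpa [mul_assoc] using this
  have hapV := ha.pow_mem V hVp hCV
  have hbpV := hbT.pow_mem V hVp hCV
  have hna : ¬ Commute a (b ^ p) := fun h =>
    hg (isPGroup_closure_of_commute V hVc hVp hCV ha hbT haV hbV h)
  have hnb : ¬ Commute b (a ^ p) := fun h => by
    apply hg
    rw [Set.pair_comm]
    exact isPGroup_closure_of_commute V hVc hVp hCV hbT ha hbV haV h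
  obtain ⟨α, hα⟩ := ha.form V hVc hVp hCV haV hbpV
  obtain ⟨β, hβ⟩ := hbT.form V hVc hVp hCV hbV hapV
  refine ⟨b, α, β, ⟨hVc, hVp, hapV, hbpV, (Commute.refl a).pow_right p, (Commute.refl b).pow_right p,
    hα, hβ, ?_, ?_, fun v hv => ha.form V hVc hVp hCV haV hv,
    fun v hv => hbT.form V hVc hVp hCV hbV hv⟩, hna⟩
  · rintro rfl
    apply hna
    rw [pow_val_zero, mul_one] at hα
    calc a * b ^ p = (a * b ^ p * a⁻¹) * a := by group
      _ = b ^ p * a := by rw [hα]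
  · rintro rfl
    apply hnb
    rw [pow_val_zero, mul_one] at hβ
    calc b * a ^ p = (b * a ^ p * b⁻¹) * b := by group
      _ = a ^ p * b := by rw [hβ]

include hVc hVp hCV hOp in
/-- odd `p`: a `p`-element acting on `V` with commutators in `⟨a⟩` lies in `V`. -/
theorem mem_of_tv_odd [Finite G] (hodd : p ≠ 2) {a : G} (ha : Tv V a)
    (hap : IsPGroup p (zpowers a)) : a ∈ V := by
  by_contra haV
  obtain ⟨b, α, β, D, hna⟩ := exists_pairData V hVc hVp hCV hOp ha hap haV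
  obtain ⟨j, hj⟩ := D.exists_j
  obtain ⟨t', ht'V, ht'⟩ := D.exists_conj_z hCV hj
  obtain ⟨z, hz⟩ : ∃ z, z = (a * b ^ j * a) * (a * b ^ j * a) := ⟨_, rfl⟩
  rw [← hz] at ht'
  have h1 : z * a ^ p * z⁻¹ = a ^ p := by
    rw [← conj_pow, ht', pow_mul_eq V hVc hVp hodd ha ht'V]
  have h2 : z * a ^ p * z⁻¹ = (a ^ p)⁻¹ := by
    have := D.conj_z hj 1 0
    rw [← hz, D.E_left, pow_val_one] at this
    exact this
  have h3 : (a ^ p) ^ 2 = 1 := by
    rw [pow_two]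
    nth_rewrite 1 [← h1]
    rw [h2, inv_mul_cancel]
  have h4 : a ^ p = 1 := by
    have hd1 : orderOf (a ^ p) ∣ 2 := orderOf_dvd_of_pow_eq_one h3
    have hd2 : orderOf (a ^ p) ∣ p := orderOf_dvd_of_pow_eq_one D.l1p
    have hcop : Nat.Coprime 2 p := (Nat.coprime_primes Nat.prime_two hp.out).mpr (Ne.symm hodd)
    have : orderOf (a ^ p) = 1 := Nat.eq_one_of_dvd_coprimes hcop hd1 hd2
    exact orderOf_eq_one_iff.mp this
  apply hna
  have ha2 := D.a2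
  rw [h4, one_pow, mul_one] at ha2
  calc a * b ^ p = (a * b ^ p * a⁻¹) * a := by group
    _ = b ^ p * a := by rw [ha2]


end Core

section Two

theorem zmod_two_eq_one : ∀ x : ZMod 2, x ≠ 0 → x = 1 := by decide

theorem zmod_two_aux : ((1 : ZMod 2) + 1 * (0 + 1 * 1)) = 0 ∧ ((0 : ZMod 2) + 1 * 1) = 1 := by
  decide

theorem zmod_two_cube : ∀ s t : ZMod 2,
    (s + 1 * (t + 1 * s) + 1 * (t + 1 * s + 1 * (s + 1 * (t + 1 * s))) +
      1 * (t + 1 * s + 1 * (s + 1 * (t + 1 * s)) +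
        1 * (s + 1 * (t + 1 * s) + 1 * (t + 1 * s + 1 * (s + 1 * (t + 1 * s))))) = s) ∧
    (t + 1 * s + 1 * (s + 1 * (t + 1 * s)) +
        1 * (s + 1 * (t + 1 * s) + 1 * (t + 1 * s + 1 * (s + 1 * (t + 1 * s)))) = t) := by
  decide

/-- `p = 2`: either `a ∈ V` or `S₄` is involved. -/
theorem mem_or_involves_of_tv_two {G : Type*} [Group G] [Finite G] (V : Subgroup G)
    [hVn : V.Normal] (hVc : ∀ x ∈ V, ∀ y ∈ V, x * y = y * x) (hVp : ∀ x ∈ V, x ^ 2 = 1)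
    (hCV : centralizer (V : Set G) ≤ V)
    (hOp : ∀ N : Subgroup G, N.Normal → IsPGroup 2 N → N ≤ V) {a : G} (ha : Tv V a)
    (hap : IsPGroup 2 (zpowers a)) :
    a ∈ V ∨ Cfsg.Involves (Equiv.Perm (Fin 4)) G := by
  by_cases haV : a ∈ V
  · exact Or.inl haV
  right
  haveI : Fact (Nat.Prime 2) := ⟨Nat.prime_two⟩
  obtain ⟨b, α, β, D, hna⟩ := exists_pairData (p := 2) V hVc hVp hCV hOp ha hap haV
  have hα : α = 1 := zmod_two_eq_one α D.hα
  have hβ : β = 1 := zmod_two_eq_one β D.hβ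
  subst hα hβ
  obtain ⟨l₁, hl₁⟩ : ∃ l₁, l₁ = a ^ 2 := ⟨_, rfl⟩
  obtain ⟨l₂, hl₂⟩ : ∃ l₂, l₂ = b ^ 2 := ⟨_, rfl⟩
  rw [← hl₁] at D
  rw [← hl₂] at D hna
  have ha2 : a * l₂ * a⁻¹ = l₂ * l₁ := by
    have := D.a2; rwa [pow_val_one] at this
  have hb1 : b * l₁ * b⁻¹ = l₁ * l₂ := by
    have := D.b1; rwa [pow_val_one] at this
  have h12 : Commute l₁ l₂ := D.c12
  have hl1sq : l₁ * l₁ = 1 := by rw [← pow_two]; exact D.l1p
  have hl2sq : l₂ * l₂ = 1 := by rw [← pow_two]; exact D.l2p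
  have haa : a * a = l₁ := by rw [hl₁, pow_two]
  have hbb : b * b = l₂ := by rw [hl₂, pow_two]
  have ha1 : a * l₁ * a⁻¹ = l₁ := by rw [D.a1.eq]; group
  have hb2 : b * l₂ * b⁻¹ = l₂ := by rw [D.b2.eq]; group
  have hl2inv : l₂⁻¹ = l₂ := inv_eq_of_mul_eq_one_right hl2sq
  -- a⁻¹ l₂ a = l₂ l₁
  have hainv : a⁻¹ * l₂ * a = l₂ * l₁ := by
    have h : a * (l₂ * l₁) * a⁻¹ = l₂ := by
      calc a * (l₂ * l₁) * a⁻¹ = (a * l₂ * a⁻¹) * (a * l₁ * a⁻¹) := by group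
        _ = l₂ * l₁ * l₁ := by rw [ha2, ha1]
        _ = l₂ := by rw [mul_assoc, hl1sq, mul_one]
    calc a⁻¹ * l₂ * a = a⁻¹ * (a * (l₂ * l₁) * a⁻¹) * a := by rw [h]
      _ = l₂ * l₁ := by group
  have hbcomb : b * (l₂ * l₁) * b = l₂ * l₁ := by
    calc b * (l₂ * l₁) * b = (b * l₂ * b⁻¹) * (b * l₁ * b⁻¹) * (b * b) := by group
      _ = l₂ * (l₁ * l₂) * l₂ := by rw [hb2, hb1, hbb]
      _ = l₂ * l₁ * (l₂ * l₂) := by group
      _ = l₂ * l₁ := by rw [hl2sq, mul_one]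
  obtain ⟨x, hx⟩ : ∃ x, x = l₂ * a := ⟨_, rfl⟩
  obtain ⟨c, hc⟩ : ∃ c, c = a * b := ⟨_, rfl⟩
  have hxc : x * c * x⁻¹ = c⁻¹ := by
    rw [eq_inv_iff_mul_eq_one]
    calc x * c * x⁻¹ * c = l₂ * (a * a) * b * (a⁻¹ * l₂⁻¹ * a) * b := by rw [hx, hc]; group
      _ = l₂ * l₁ * b * (a⁻¹ * l₂ * a) * b := by rw [haa, hl2inv]
      _ = l₂ * l₁ * (b * (l₂ * l₁) * b) := by rw [hainv]; group
      _ = l₂ * l₁ * (l₂ * l₁) := by rw [hbcomb]
      _ = (l₂ * l₂) * (l₁ * l₁) := by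
          calc l₂ * l₁ * (l₂ * l₁) = l₂ * (l₁ * l₂) * l₁ := by group
            _ = l₂ * (l₂ * l₁) * l₁ := by rw [h12.eq]
            _ = l₂ * l₂ * (l₁ * l₁) := by group
      _ = 1 := by rw [hl2sq, hl1sq, mul_one]
  have hxx : x * x = 1 := by
    calc x * x = l₂ * (a * l₂ * a⁻¹) * (a * a) := by rw [hx]; group
      _ = l₂ * (l₂ * l₁) * l₁ := by rw [ha2, haa]
      _ = (l₂ * l₂) * (l₁ * l₁) := by group
      _ = 1 := by rw [hl2sq, hl1sq, mul_one]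
  -- the action of c on E
  have hcE : ∀ s t : ZMod 2, c * E l₁ l₂ s t * c⁻¹ = E l₁ l₂ (s + 1 * (t + 1 * s)) (t + 1 * s) := by
    intro s t
    have e : c * E l₁ l₂ s t * c⁻¹ = a * (b * E l₁ l₂ s t * b⁻¹) * a⁻¹ := by rw [hc]; group
    rw [e, D.conj_b, D.conj_a]
  have hc3E : ∀ s t : ZMod 2, c ^ 3 * E l₁ l₂ s t * (c ^ 3)⁻¹ = E l₁ l₂ s t := by
    intro s t
    have e : c ^ 3 * E l₁ l₂ s t * (c ^ 3)⁻¹ =
        c * (c * (c * E l₁ l₂ s t * c⁻¹) * c⁻¹) * c⁻¹ := by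
      rw [pow_succ, pow_two]; group
    rw [e, hcE, hcE, hcE]
    obtain ⟨h1, h2⟩ := zmod_two_cube s t
    rw [h1, h2]
  have hc3V : c ^ 3 ∈ V := by
    apply hCV
    rw [mem_centralizer_iff]
    intro v hv
    obtain ⟨c₀, s, t, hc₀V, hac, hbc, rfl⟩ := D.exists_decomp hv
    have hcc : Commute c c₀ := by rw [hc]; exact hac.mul_left hbc
    have hcc3 : Commute (c ^ 3) c₀ := hcc.pow_left 3
    have h := hc3E s t
    calc c₀ * E l₁ l₂ s t * c ^ 3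
        = c₀ * (c ^ 3 * E l₁ l₂ s t * (c ^ 3)⁻¹)⁻¹⁻¹ * c ^ 3 := by rw [inv_inv, h]
      _ = c₀ * (c ^ 3 * E l₁ l₂ s t * (c ^ 3)⁻¹) * c ^ 3 := by rw [inv_inv]
      _ = (c₀ * c ^ 3) * E l₁ l₂ s t := by group
      _ = c ^ 3 * (c₀ * E l₁ l₂ s t) := by rw [← hcc3.eq]; group
  have hc6 : c ^ 6 = 1 := by
    have := hVp _ hc3V
    rwa [← pow_mul] at this
  obtain ⟨y, hy⟩ : ∃ y, y = c ^ 4 := ⟨_, rfl⟩
  have hy3 : y ^ 3 = 1 := by
    rw [hy, ← pow_mul]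
    have : (4 * 3 : ℕ) = 6 * 2 := by norm_num
    rw [this, pow_mul, hc6, one_pow]
  have hxy : x * y * x⁻¹ = y⁻¹ := by
    rw [hy, ← conj_pow, hxc, inv_pow]
  have hyl : y * l₁ * y⁻¹ = l₂ := by
    have e : y * l₁ * y⁻¹ = c * (c ^ 3 * l₁ * (c ^ 3)⁻¹) * c⁻¹ := by
      rw [hy]
      have : c ^ 4 = c * c ^ 3 := by rw [← pow_succ']
      rw [this]; group
    have h1 := hc3E 1 0
    rw [D.E_left, pow_val_one] at h1
    have h2 := hcE 1 0
    rw [D.E_left, pow_val_one] at h2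
    rw [e, h1, h2]
    have e1 : ((1 : ZMod 2) + 1 * (0 + 1 * 1)) = 0 := zmod_two_aux.1
    rw [e1, D.E_right]
    have e2 : ((0 : ZMod 2) + 1 * 1) = 1 := zmod_two_aux.2
    rw [e2, pow_val_one]
  have hyC : y ∉ centralizer (V : Set G) := by
    intro h
    rw [mem_centralizer_iff] at h
    have h1 := h l₁ D.h1V
    have h2 : l₂ = l₁ := by
      rw [← hyl, ← h1]; group
    apply hna
    rw [h2]
    exact D.a1
  have hV2 : IsPGroup 2 ↥V := by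
    intro ⟨v, hv⟩
    refine ⟨1, Subtype.ext ?_⟩
    simpa using hVp v hv
  have hNtop : normalizer (V : Set G) = ⊤ := normalizer_eq_top_iff.mpr hVn
  have hxo : ∃ k : ℕ, orderOf x = 2 ^ k := by
    have hd : orderOf x ∣ 2 ^ 1 := by
      rw [pow_one]; apply orderOf_dvd_of_pow_eq_one; rw [pow_two]; exact hxx
    obtain ⟨k, -, hk⟩ := (Nat.dvd_prime_pow Nat.prime_two).mp hd
    exact ⟨k, hk⟩
  have hyo : ∃ k : ℕ, orderOf y = 3 ^ k := by
    have hd : orderOf y ∣ 3 ^ 1 := by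
      rw [pow_one]; exact orderOf_dvd_of_pow_eq_one hy3
    obtain ⟨k, -, hk⟩ := (Nat.dvd_prime_pow Nat.prime_three).mp hd
    exact ⟨k, hk⟩
  exact Cfsg.Agent.Lib.Helper16.involves_perm4_of_inverting V hV2 x y
    (by rw [hNtop]; exact mem_top _) (by rw [hNtop]; exact mem_top _) hxo hyo hxy hyC

end Two

end Cfsg.Agent.Lib.Helper4.TransvPair
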