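import Mathlib
import Cfsg.Prelude.Def_Local
import Cfsg.Prelude.Def_LocalEven
import Cfsg.Prelude.Def_PLocal
import Cfsg.Agent.Lib.Helper4.TransvPair
import Cfsg.Agent.Lib.Helper17.WStable
import Cfsg.Agent.Lib.Helper12.HallHigman
import Cfsg.Agent.Lib.Helper24.PSolvable
import Cfsg.Agent.Lib.Helper9.PComponent
import Cfsg.Agent.Lib.Helper1.PGroup
import Cfsg.Agent.Lib.Helper27.OddStable

set_option autoImplicit false
set_option linter.unusedSectionVars false
set_option linter.unusedVariables false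
set_option linter.style.haveILetI false

namespace Cfsg.Agent.Lib.Helper4.CyclicNormal

open Subgroup Cfsg.Agent.Lib.Helper4.TransvPair
open scoped commutatorElement

variable {G : Type*} [Group G] [Finite G] {p : ℕ} [hp : Fact p.Prime]

/-- The case `O_{p'}(G) = 1`. -/
theorem le_pCore_or_involves (hG : Cfsg.IsPSolvable p G) (hO : Cfsg.pPrimeCore p G = ⊥)
    (P : Sylow p G) (A : Subgroup G) (hAP : A ≤ (P : Subgroup G))
    (hAn : (P : Subgroup G) ≤ normalizer (A : Set G)) (hA : IsCyclic A) :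
    A ≤ Cfsg.pCore p G ∨ (p = 2 ∧ Cfsg.Involves (Equiv.Perm (Fin 4)) G) := by
  obtain ⟨R, hR⟩ : ∃ R : Subgroup G, R = Cfsg.pCore p G := ⟨_, rfl⟩
  rw [← hR]
  haveI hRn : R.Normal := by rw [hR]; infer_instance
  have hRp : IsPGroup p R := by rw [hR]; exact Cfsg.Agent.Lib.Helper17.pCore_isPGroup p G
  have hc : centralizer (R : Set G) ≤ R := by
    rw [hR]; exact Cfsg.Agent.Lib.Helper12.centralizer_pCore_le_pCore p hG hO
  have hRP : R ≤ (P : Subgroup G) := by
    rw [hR]; exact Cfsg.Agent.Lib.Helper1.pCore_le_sylow P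
  obtain ⟨Φ, hΦ⟩ : ∃ Φ : Subgroup G, Φ = (frattini ↥R).map R.subtype := ⟨_, rfl⟩
  haveI hΦn : Φ.Normal := by rw [hΦ]; exact Cfsg.Agent.Lib.Helper27.OddStable.frattini_map_normal R
  have hΦR : Φ ≤ R := by rw [hΦ]; exact map_subtype_le _
  have hΦp : IsPGroup p Φ := hRp.to_le hΦR
  -- the kernel of the action on R/Φ
  have hKp : IsPGroup p (Cfsg.sectionKernel R Φ) := by
    have := Cfsg.Agent.Lib.Helper17.isPGroup_sectionKernel_frattini (p := p) (G := G)
      (by rw [← hR]; exact hc)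
    have e : Cfsg.sectionKernel R Φ = Cfsg.sectionKernel (Cfsg.pCore p G)
        ((frattini ↥(Cfsg.pCore p G)).map (Cfsg.pCore p G).subtype) := by
      subst hR; subst hΦ; rfl
    rw [e]; exact this
  obtain ⟨π, hπ⟩ : ∃ π : G →* G ⧸ Φ, π = QuotientGroup.mk' Φ := ⟨_, rfl⟩
  have hπs : Function.Surjective π := by rw [hπ]; exact QuotientGroup.mk'_surjective Φ
  have hπker : π.ker = Φ := by rw [hπ]; exact QuotientGroup.ker_mk' Φ
  obtain ⟨V, hV⟩ : ∃ V : Subgroup (G ⧸ Φ), V = R.map π := ⟨_, rfl⟩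
  haveI hVn : V.Normal := by rw [hV]; exact hRn.map π hπs
  have hKR : Cfsg.sectionKernel R Φ ≤ R := by
    refine le_trans (Cfsg.Agent.Lib.Helper17.le_pCore _ ?_ hKp) (le_of_eq hR.symm)
    unfold Cfsg.sectionKernel
    haveI : (R.map (QuotientGroup.mk' Φ)).Normal := hRn.map _ (QuotientGroup.mk'_surjective Φ)
    exact Subgroup.Normal.comap Subgroup.normal_centralizer _
  have hCV : centralizer (V : Set (G ⧸ Φ)) ≤ V := by
    intro x hx
    obtain ⟨g, rfl⟩ := hπs x
    have hg : g ∈ Cfsg.sectionKernel R Φ := by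
      unfold Cfsg.sectionKernel
      rw [mem_comap, ← hπ, ← hV]
      exact hx
    rw [hV]
    exact mem_map_of_mem π (hKR hg)
  -- V is elementary abelian
  have hmemΦ : ∀ r : ↥R, r ∈ frattini ↥R → π (r : G) = 1 := by
    intro r hr
    rw [← MonoidHom.mem_ker, hπker, hΦ]
    exact ⟨r, hr, rfl⟩
  have hVc : ∀ x ∈ V, ∀ y ∈ V, x * y = y * x := by
    intro x hx y hy
    rw [hV] at hx hy
    obtain ⟨r, hr, rfl⟩ := hx
    obtain ⟨r', hr', rfl⟩ := hy
    have h1 : ⁅(⟨r, hr⟩ : ↥R), ⟨r', hr'⟩⁆ ∈ frattini ↥R :=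
      Cfsg.Agent.Lib.Helper1.IsPGroup.commutator_le_frattini hRp
        (Subgroup.commutator_mem_commutator (mem_top _) (mem_top _))
    have h2 := hmemΦ _ h1
    rw [commutatorElement_def] at h2
    simp only [Subgroup.coe_mul, Subgroup.coe_inv, map_mul, map_inv] at h2
    calc π r * π r' = (π r * π r' * (π r)⁻¹ * (π r')⁻¹) * (π r' * π r) := by group
      _ = π r' * π r := by rw [h2, one_mul]
  have hVp : ∀ x ∈ V, x ^ p = 1 := by
    intro x hx
    rw [hV] at hx
    obtain ⟨r, hr, rfl⟩ := hx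
    have h1 := Cfsg.Agent.Lib.Helper1.IsPGroup.pow_mem_frattini hRp (⟨r, hr⟩ : ↥R)
    have h2 := hmemΦ _ h1
    simpa using h2
  have hOp : ∀ N : Subgroup (G ⧸ Φ), N.Normal → IsPGroup p N → N ≤ V := by
    intro N hNn hNp
    have h1 : IsPGroup p (N.comap π) :=
      hNp.comap_of_ker_isPGroup π (by rw [hπker]; exact hΦp)
    have h2 : N.comap π ≤ R := by
      rw [hR]
      exact Cfsg.Agent.Lib.Helper17.le_pCore _ (hNn.comap π) h1
    rw [hV, ← map_comap_eq_self_of_surjective hπs N]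
    exact map_mono h2
  -- the generator
  obtain ⟨⟨a, haA⟩, hgen⟩ := hA.exists_generator
  have hAz : A = zpowers a := by
    apply le_antisymm
    · intro x hx
      obtain ⟨k, hk⟩ := mem_zpowers_iff.mp (hgen ⟨x, hx⟩)
      rw [mem_zpowers_iff]
      exact ⟨k, by simpa using congrArg Subtype.val hk⟩
    · rw [zpowers_le]; exact haA
  have hTv : Tv V (π a) := by
    intro v hv
    rw [hV] at hv
    obtain ⟨r, hr, rfl⟩ := hv
    have hrN : r ∈ normalizer (A : Set G) := hAn (hRP hr)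
    have h1 : r * a⁻¹ * r⁻¹ ∈ A := (mem_normalizer_iff.mp hrN a⁻¹).mp (A.inv_mem haA)
    have h2 : a * r * a⁻¹ * r⁻¹ ∈ zpowers a := by
      rw [← hAz]
      have : a * r * a⁻¹ * r⁻¹ = a * (r * a⁻¹ * r⁻¹) := by group
      rw [this]
      exact A.mul_mem haA h1
    have h3 := mem_map_of_mem π h2
    rw [MonoidHom.map_zpowers] at h3
    simpa using h3
  have hap : IsPGroup p (zpowers (π a)) := by
    rw [← MonoidHom.map_zpowers, ← hAz]
    exact (P.isPGroup'.to_le hAP).map π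
  have hfin : π a ∈ V → A ≤ R := by
    intro h
    rw [hV] at h
    obtain ⟨r, hr, hra⟩ := h
    have h1 : r⁻¹ * a ∈ Φ := by
      rw [← hπker, MonoidHom.mem_ker, map_mul, map_inv, hra, inv_mul_cancel]
    have h2 : a ∈ R := by
      have : a = r * (r⁻¹ * a) := by group
      rw [this]
      exact R.mul_mem hr (hΦR h1)
    rw [hAz, zpowers_le]
    exact h2
  by_cases hp2 : p = 2
  · subst hp2
    rcases mem_or_involves_of_tv_two V hVc hVp hCV hOp hTv hap with h | h
    · exact Or.inl (hfin h)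
    · exact Or.inr ⟨rfl, Cfsg.Agent.Lib.Helper16.involves_of_surj π hπs h⟩
  · exact Or.inl (hfin (mem_of_tv_odd V hVc hVp hCV hOp hp2 hTv hap))



/-- A cyclic normal subgroup of a Sylow `p`-subgroup of a `p`-soluble group lies in `O_{p',p}(G)`,
unless `p = 2` and `S₄` is involved. -/
theorem le_pPrimePCore_or_involves (hG : Cfsg.IsPSolvable p G)
    (P : Sylow p G) (A : Subgroup G) (hAP : A ≤ (P : Subgroup G))
    (hAn : (P : Subgroup G) ≤ normalizer (A : Set G)) (hA : IsCyclic A) :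
    A ≤ Cfsg.pPrimePCore p G ∨ (p = 2 ∧ Cfsg.Involves (Equiv.Perm (Fin 4)) G) := by
  obtain ⟨π, hπ⟩ : ∃ π : G →* G ⧸ Cfsg.pPrimeCore p G, π = QuotientGroup.mk' _ := ⟨_, rfl⟩
  have hπs : Function.Surjective π := by rw [hπ]; exact QuotientGroup.mk'_surjective _
  have hG₁ : Cfsg.IsPSolvable p (G ⧸ Cfsg.pPrimeCore p G) :=
    Cfsg.Agent.Lib.Helper24.isPSolvable_of_surjective p π hπs hG
  have hO₁ : Cfsg.pPrimeCore p (G ⧸ Cfsg.pPrimeCore p G) = ⊥ :=
    Cfsg.Agent.Lib.Helper9.pPrimeCore_quotient_eq_bot p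
  have hAP₁ : A.map π ≤ ((Sylow.mapSurjective hπs P : Sylow p _) : Subgroup _) := by
    rw [Sylow.coe_mapSurjective]; exact map_mono hAP
  have hAn₁ : ((Sylow.mapSurjective hπs P : Sylow p _) : Subgroup _) ≤
      normalizer ((A.map π : Subgroup (G ⧸ Cfsg.pPrimeCore p G)) : Set (G ⧸ Cfsg.pPrimeCore p G)) := by
    rw [Sylow.coe_mapSurjective]
    exact (map_mono hAn).trans (le_normalizer_map π)
  have hA₁ : IsCyclic ↥(A.map π) :=
    isCyclic_of_surjective (π.subgroupMap A) (MonoidHom.subgroupMap_surjective π A)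
  rcases le_pCore_or_involves hG₁ hO₁ (Sylow.mapSurjective hπs P) (A.map π) hAP₁ hAn₁ hA₁ with
    h | ⟨h2, h⟩
  · left
    unfold Cfsg.pPrimePCore
    rw [← hπ, ← map_le_iff_le_comap]
    exact h
  · exact Or.inr ⟨h2, Cfsg.Agent.Lib.Helper16.involves_of_surj π hπs h⟩

end Cfsg.Agent.Lib.Helper4.CyclicNormal
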