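import Mathlib

set_option autoImplicit false
open Pointwise

namespace Cfsg.Agent.Lib.Helper4
universe u

section
variable {G : Type u} [Group G] (A B : Subgroup G)

/-- an element commuting with both factors of `G = AB` is central -/
theorem mem_center_of_commute_factors (hAB : ∀ g : G, ∃ a ∈ A, ∃ b ∈ B, g = a * b) (z : G)
    (hzA : ∀ a ∈ A, a * z = z * a) (hzB : ∀ b ∈ B, b * z = z * b) : z ∈ Subgroup.center G := by
  rw [Subgroup.mem_center_iff]
  intro g
  obtain ⟨a, ha, b, hb, rfl⟩ := hAB g
  rw [mul_assoc, hzB b hb, ← mul_assoc, hzA a ha, mul_assoc]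

/-- the centre of a product of two abelian subgroups is factorized -/
theorem center_factorized (hA : ∀ x ∈ A, ∀ y ∈ A, x * y = y * x)
    (hB : ∀ x ∈ B, ∀ y ∈ B, x * y = y * x) (hAB : ∀ g : G, ∃ a ∈ A, ∃ b ∈ B, g = a * b)
    (a b : G) (ha : a ∈ A) (hb : b ∈ B) (hz : a * b ∈ Subgroup.center G) :
    a ∈ Subgroup.center G ∧ b ∈ Subgroup.center G := by
  have hbc : b ∈ Subgroup.center G := by
    apply mem_center_of_commute_factors A B hAB
    · intro a' ha'
      have h1 : a' * (a * b) = (a * b) * a' := (Subgroup.mem_center_iff.mp hz) a'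
      have h2 : a * (a' * b) = a * (b * a') := by
        calc a * (a' * b) = (a * a') * b := by group
          _ = (a' * a) * b := by rw [hA a ha a' ha']
          _ = a' * (a * b) := by group
          _ = (a * b) * a' := h1
          _ = a * (b * a') := by group
      exact mul_left_cancel h2
    · intro b' hb'; exact hB b' hb' b hb
  refine ⟨?_, hbc⟩
  have : a = (a * b) * b⁻¹ := by group
  rw [this]
  exact Subgroup.mul_mem _ hz (Subgroup.inv_mem _ hbc)

/-- if the centre is nontrivial, one factor contains a nontrivial normal subgroup -/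
theorem ito_of_center_ne_bot (hA : ∀ x ∈ A, ∀ y ∈ A, x * y = y * x)
    (hB : ∀ x ∈ B, ∀ y ∈ B, x * y = y * x) (hAB : ∀ g : G, ∃ a ∈ A, ∃ b ∈ B, g = a * b)
    (hZ : Subgroup.center G ≠ ⊥) :
    ∃ N : Subgroup G, N.Normal ∧ N ≠ ⊥ ∧ (N ≤ A ∨ N ≤ B) := by
  obtain ⟨z, hz, hz1⟩ := (Subgroup.ne_bot_iff_exists_ne_one).mp hZ |>.imp
    (fun z h => h) |> fun ⟨z, h⟩ => (⟨z.1, z.2, fun e => h (Subtype.ext e)⟩ :
      ∃ z : G, z ∈ Subgroup.center G ∧ z ≠ 1)
  obtain ⟨a, ha, b, hb, rfl⟩ := hAB z
  obtain ⟨hac, hbc⟩ := center_factorized A B hA hB hAB a b ha hb hz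
  have hnormal : ∀ c : G, c ∈ Subgroup.center G → (Subgroup.zpowers c).Normal := by
    intro c hc
    constructor
    intro n hn g
    have hnc : n ∈ Subgroup.center G := (Subgroup.zpowers_le.mpr hc) hn
    have : g * n * g⁻¹ = n := by
      rw [(Subgroup.mem_center_iff.mp hnc) g]; group
    rw [this]; exact hn
  by_cases ha1 : a = 1
  · have hb1 : b ≠ 1 := by
      intro h; apply hz1; rw [ha1, h, one_mul]
    refine ⟨Subgroup.zpowers b, hnormal b hbc, ?_, Or.inr (Subgroup.zpowers_le.mpr hb)⟩
    intro h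
    exact hb1 (Subgroup.zpowers_eq_bot.mp h)
  · refine ⟨Subgroup.zpowers a, hnormal a hac, ?_, Or.inl (Subgroup.zpowers_le.mpr ha)⟩
    intro h
    exact ha1 (Subgroup.zpowers_eq_bot.mp h)

/-- trivial centre, and `A` centralizes a nontrivial abelian normal subgroup `M`: then the centre
of `C_G(M)` is a nontrivial normal subgroup inside `A` -/
theorem ito_of_le_centralizer (hA : ∀ x ∈ A, ∀ y ∈ A, x * y = y * x)
    (hB : ∀ x ∈ B, ∀ y ∈ B, x * y = y * x) (hAB : ∀ g : G, ∃ a ∈ A, ∃ b ∈ B, g = a * b)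
    (hZ : Subgroup.center G = ⊥) (M : Subgroup G) [hMn : M.Normal] (hM1 : M ≠ ⊥)
    (hMc : ∀ x ∈ M, ∀ y ∈ M, x * y = y * x)
    (hAM : A ≤ Subgroup.centralizer (M : Set G)) :
    ∃ N : Subgroup G, N.Normal ∧ N ≠ ⊥ ∧ N ≤ A := by
  set C := Subgroup.centralizer (M : Set G) with hC
  have hCn : C.Normal := Subgroup.normal_centralizer
  have hCCn : (Subgroup.centralizer (C : Set G)).Normal := Subgroup.normal_centralizer
  refine ⟨C ⊓ Subgroup.centralizer (C : Set G), inferInstance, ?_, ?_⟩
  · intro h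
    apply hM1
    rw [eq_bot_iff, ← h]
    apply le_inf
    · intro x hx
      rw [hC, Subgroup.mem_centralizer_iff]
      intro y hy
      exact hMc y hy x hx
    · intro x hx
      rw [Subgroup.mem_centralizer_iff]
      intro c hc
      rw [SetLike.mem_coe, hC, Subgroup.mem_centralizer_iff] at hc
      exact (hc x hx).symm
  · intro z hz
    obtain ⟨hzC, hzCC⟩ := Subgroup.mem_inf.mp hz
    obtain ⟨a, ha, b, hb, rfl⟩ := hAB z
    have haC : a ∈ C := hAM ha
    have hbC : b ∈ C := by
      have : b = a⁻¹ * (a * b) := by group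
      rw [this]; exact C.mul_mem (C.inv_mem haC) hzC
    have hbz : b ∈ Subgroup.center G := by
      apply mem_center_of_commute_factors A B hAB
      · intro a' ha'
        have h1 : a' * (a * b) = (a * b) * a' :=
          (Subgroup.mem_centralizer_iff.mp hzCC) a' (hAM ha')
        have h2 : a * (a' * b) = a * (b * a') := by
          calc a * (a' * b) = (a * a') * b := by group
            _ = (a' * a) * b := by rw [hA a ha a' ha']
            _ = a' * (a * b) := by group
            _ = (a * b) * a' := h1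
            _ = a * (b * a') := by group
        exact mul_left_cancel h2
      · intro b' hb'; exact hB b' hb' b hb
    rw [hZ, Subgroup.mem_bot] at hbz
    rw [hbz, mul_one]; exact ha

end

end Cfsg.Agent.Lib.Helper4
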