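import Mathlib
import Cfsg.Agent.Lib.Helper1.MinNormal
import Cfsg.Agent.Lib.Helper18.Basic
import Cfsg.Agent.Lib.Helper4.Ito1

set_option autoImplicit false
open Pointwise
open scoped commutatorElement

namespace Cfsg.Agent.Lib.Helper4
open Cfsg.Agent.Lib.Helper1
universe u

/-- an element either centralizes a minimal normal subgroup `M` centralized by all commutators,
or acts on it without nontrivial fixed points -/
theorem centralizes_or_fpf {G : Type u} [Group G] (M : Subgroup G) (hM : IsMinNormal M)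
    (hG' : ∀ x y : G, ∀ m ∈ M, ⁅x, y⁆ * m = m * ⁅x, y⁆) (g : G) :
    g ∈ Subgroup.centralizer (M : Set G) ∨ ∀ x ∈ M, g * x = x * g → x = 1 := by
  have hMn := hM.1
  set F := M ⊓ Subgroup.centralizer ({g} : Set G) with hF
  have hFn : F.Normal := by
    constructor
    intro x hx h
    obtain ⟨hxM, hxg⟩ := Subgroup.mem_inf.mp hx
    rw [Subgroup.mem_centralizer_singleton_iff] at hxg
    apply Subgroup.mem_inf.mpr
    refine ⟨hMn.conj_mem x hxM h, ?_⟩
    rw [Subgroup.mem_centralizer_singleton_iff]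
    have hc := hG' h⁻¹ g x hxM
    rw [commutatorElement_def] at hc
    have e1 : h⁻¹ * g * h = (h⁻¹ * g * h⁻¹⁻¹ * g⁻¹) * g := by group
    calc h * x * h⁻¹ * g = h * (x * (h⁻¹ * g * h)) * h⁻¹ := by group
      _ = h * (x * ((h⁻¹ * g * h⁻¹⁻¹ * g⁻¹) * g)) * h⁻¹ := by rw [← e1]
      _ = h * ((x * (h⁻¹ * g * h⁻¹⁻¹ * g⁻¹)) * g) * h⁻¹ := by group
      _ = h * (((h⁻¹ * g * h⁻¹⁻¹ * g⁻¹) * x) * g) * h⁻¹ := by rw [hc]
      _ = h * ((h⁻¹ * g * h⁻¹⁻¹ * g⁻¹) * (x * g)) * h⁻¹ := by group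
      _ = h * ((h⁻¹ * g * h⁻¹⁻¹ * g⁻¹) * (g * x)) * h⁻¹ := by rw [hxg]
      _ = g * (h * x * h⁻¹) := by group
  rcases hM.2.2 F hFn inf_le_left with h | h
  · right
    intro x hxM hgx
    have : x ∈ F := Subgroup.mem_inf.mpr ⟨hxM, by
      rw [Subgroup.mem_centralizer_singleton_iff]; exact hgx.symm⟩
    rw [h, Subgroup.mem_bot] at this
    exact this
  · left
    rw [Subgroup.mem_centralizer_iff]
    intro m hm
    have : m ∈ F := by rw [h]; exact hm
    have := (Subgroup.mem_inf.mp this).2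
    rw [Subgroup.mem_centralizer_singleton_iff] at this
    exact this

/-- `p`-elements centralize a minimal normal subgroup of exponent `p` centralized by all
commutators -/
theorem pElement_centralizes {G : Type u} [Group G] [Finite G] (M : Subgroup G)
    (hM : IsMinNormal M) (hG' : ∀ x y : G, ∀ m ∈ M, ⁅x, y⁆ * m = m * ⁅x, y⁆)
    (p : ℕ) [hp : Fact p.Prime] (hMp : ∀ x ∈ M, x ^ p = 1) (y : G) (k : ℕ)
    (hk : y ^ p ^ k = 1) : y ∈ Subgroup.centralizer (M : Set G) := by
  rcases centralizes_or_fpf M hM hG' y with h | h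
  · exact h
  · exfalso
    have hW : IsPGroup p M := fun x => ⟨1, by
      rw [pow_one]; exact Subtype.ext (by simpa using hMp x x.2)⟩
    have hCy : IsPGroup p (Subgroup.zpowers y) := by
      rintro ⟨c, hc⟩
      obtain ⟨i, rfl⟩ := Subgroup.mem_zpowers_iff.mp hc
      refine ⟨k, Subtype.ext ?_⟩
      show (y ^ i) ^ p ^ k = 1
      rw [← zpow_natCast, ← zpow_mul, mul_comm, zpow_mul, zpow_natCast, hk, one_zpow]
    have hnorm : Subgroup.zpowers y ≤ Subgroup.normalizer (M : Set G) := by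
      rw [Subgroup.normalizer_eq_top_iff.mpr hM.1]; exact le_top
    obtain ⟨w, hwM, hw1, hwc⟩ :=
      Cfsg.Agent.Lib.Helper18.exists_ne_one_fixed_of_pgroup_normalizes M (Subgroup.zpowers y)
        hW hCy hM.2.1 hnorm
    exact hw1 (h w hwM (hwc y (Subgroup.mem_zpowers y)))

end Cfsg.Agent.Lib.Helper4
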