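import Mathlib
import Cfsg.Agent.S0560
import Cfsg.Agent.Lib.Helper4.Ito2

set_option autoImplicit false
open Pointwise
open scoped commutatorElement

namespace Cfsg.Agent.Lib.Helper4
open Cfsg.Agent.Lib.Helper1
universe u

/-- the key element `t = a₁ m ∈ B` with `a₁ ∈ A ∩ C_G(M)` -/
theorem ito_exists_t {G : Type u} [Group G] [Finite G] (A B : Subgroup G)
    (hA : ∀ x ∈ A, ∀ y ∈ A, x * y = y * x) (hB : ∀ x ∈ B, ∀ y ∈ B, x * y = y * x)
    (hAB : ∀ g : G, ∃ a ∈ A, ∃ b ∈ B, g = a * b)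
    (M : Subgroup G) (hM : IsMinNormal M)
    (hG' : ∀ x y : G, ∀ m ∈ M, ⁅x, y⁆ * m = m * ⁅x, y⁆)
    (a : G) (ha : a ∈ A) (hafpf : ∀ x ∈ M, a * x = x * a → x = 1) :
    ∃ a₁ ∈ A, ∃ m ∈ M, m ≠ 1 ∧ a₁ * m ∈ B ∧ a₁ ∈ Subgroup.centralizer (M : Set G) := by
  have hMn := hM.1
  obtain ⟨m, hmM, hm1⟩ : ∃ m ∈ M, m ≠ 1 := by
    by_contra hcon
    push Not at hcon
    exact hM.2.1 ((Subgroup.eq_bot_iff_forall M).mpr hcon)
  obtain ⟨a', ha', t, ht, hmt⟩ := hAB m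
  have hAM : ∀ x ∈ A, x ∈ M → x = 1 := fun x hxA hxM => hafpf x hxM (hA a ha x hxA)
  have hta : t = a'⁻¹ * m := by rw [hmt]; group
  refine ⟨a'⁻¹, A.inv_mem ha', m, hmM, hm1, by rw [← hta]; exact ht, ?_⟩
  set a₁ := a'⁻¹ with ha₁
  have ha₁A : a₁ ∈ A := A.inv_mem ha'
  rcases centralizes_or_fpf M hM hG' a₁ with h | h
  · exact h
  · exfalso
    let ψ : M → M := fun x => ⟨a₁⁻¹ * (x : G)⁻¹ * a₁ * x,
      M.mul_mem (by
        have := hMn.conj_mem _ (M.inv_mem x.2) a₁⁻¹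
        simpa using this) x.2⟩
    have hinj : Function.Injective ψ := by
      intro x y hxy
      have e : a₁⁻¹ * (x : G)⁻¹ * a₁ * x = a₁⁻¹ * (y : G)⁻¹ * a₁ * y := congrArg Subtype.val hxy
      have e2 : a₁ * ((y : G) * (x : G)⁻¹) = ((y : G) * (x : G)⁻¹) * a₁ := by
        have e3 : (x : G)⁻¹ * a₁ * x = (y : G)⁻¹ * a₁ * y := by
          have := congrArg (fun z => a₁ * z) e
          simpa [mul_assoc] using this
        calc a₁ * ((y : G) * (x : G)⁻¹) = y * ((y : G)⁻¹ * a₁ * y) * (x : G)⁻¹ := by group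
          _ = y * ((x : G)⁻¹ * a₁ * x) * (x : G)⁻¹ := by rw [e3]
          _ = ((y : G) * (x : G)⁻¹) * a₁ := by group
      have := h _ (M.mul_mem y.2 (M.inv_mem x.2)) e2
      apply Subtype.ext
      have h3 : (y : G) = x := by
        have : (y : G) = ((y : G) * (x : G)⁻¹) * x := by group
        rw [this, ‹(y : G) * (x : G)⁻¹ = 1›, one_mul]
      exact h3.symm
    obtain ⟨x, hx⟩ := (Finite.injective_iff_surjective.mp hinj) ⟨m, hmM⟩
    have hx' : a₁⁻¹ * (x : G)⁻¹ * a₁ * x = m := congrArg Subtype.val hx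
    have hconj : (x : G)⁻¹ * a₁ * x = t := by
      rw [hta, ← hx']; group
    obtain ⟨a₀, ha₀, b₀, hb₀, hxab⟩ := hAB (x : G)
    have h1 : t = b₀⁻¹ * a₁ * b₀ := by
      rw [← hconj, hxab]
      have : a₀⁻¹ * a₁ * a₀ = a₁ := by
        rw [mul_assoc, hA a₁ ha₁A a₀ ha₀]; group
      calc (a₀ * b₀)⁻¹ * a₁ * (a₀ * b₀) = b₀⁻¹ * (a₀⁻¹ * a₁ * a₀) * b₀ := by group
        _ = b₀⁻¹ * a₁ * b₀ := by rw [this]
    have h2 : a₁ = t := by
      have : a₁ = b₀ * t * b₀⁻¹ := by rw [h1]; group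
      rw [this, hB b₀ hb₀ t ht]; group
    apply hm1
    have : a₁ * m = a₁ * 1 := by rw [mul_one, ← hta]; exact h2.symm
    exact mul_left_cancel this

end Cfsg.Agent.Lib.Helper4
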