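import Mathlib
import Cfsg.Agent.S0560
import Cfsg.Agent.Lib.Helper1.Basic
import Cfsg.Agent.Lib.Helper4.Ito3

set_option autoImplicit false
open Pointwise
open scoped commutatorElement

namespace Cfsg.Agent.Lib.Helper4
open Cfsg.Agent.Lib.Helper1
universe u

theorem isPGroup_zpowers_of_pow {G : Type u} [Group G] (p : ℕ) (y : G) (k : ℕ)
    (hk : y ^ p ^ k = 1) : IsPGroup p (Subgroup.zpowers y) := by
  rintro ⟨c, hc⟩
  obtain ⟨i, rfl⟩ := Subgroup.mem_zpowers_iff.mp hc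
  refine ⟨k, Subtype.ext ?_⟩
  show (y ^ i) ^ p ^ k = 1
  rw [← zpow_natCast, ← zpow_mul, mul_comm, zpow_mul, zpow_natCast, hk, one_zpow]

/-- the case where both factors act nontrivially on the minimal normal subgroup is impossible -/
theorem ito_caseI_false {G : Type u} [Group G] [Finite G] (A B : Subgroup G)
    (hA : ∀ x ∈ A, ∀ y ∈ A, x * y = y * x) (hB : ∀ x ∈ B, ∀ y ∈ B, x * y = y * x)
    (hAB : ∀ g : G, ∃ a ∈ A, ∃ b ∈ B, g = a * b)
    (M : Subgroup G) (hM : IsMinNormal M)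
    (hG' : ∀ x y : G, ∀ m ∈ M, ⁅x, y⁆ * m = m * ⁅x, y⁆)
    (p : ℕ) [hp : Fact p.Prime] (hMp : ∀ x ∈ M, x ^ p = 1)
    (a b : G) (ha : a ∈ A) (hb : b ∈ B)
    (hafpf : ∀ x ∈ M, a * x = x * a → x = 1) (hbfpf : ∀ x ∈ M, b * x = x * b → x = 1) :
    False := by
  obtain ⟨a₁, ha₁A, m, hmM, hm1, htB, ha₁C⟩ := ito_exists_t A B hA hB hAB M hM hG' a ha hafpf
  set t := a₁ * m with ht
  have hMn := hM.1
  have hC : ∀ (y : G) (k : ℕ), y ^ p ^ k = 1 → y ∈ Subgroup.centralizer (M : Set G) :=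
    fun y k hk => pElement_centralizes M hM hG' p hMp y k hk
  have hconj : ∀ x : G, ∃ μ ∈ M, x * t * x⁻¹ = t * μ := by
    intro x
    obtain ⟨a', ha', b', hb', rfl⟩ := hAB x
    refine ⟨m⁻¹ * (a' * m * a'⁻¹), M.mul_mem (M.inv_mem hmM) (hMn.conj_mem m hmM a'), ?_⟩
    have h1 : b' * t * b'⁻¹ = t := by rw [hB b' hb' t htB]; group
    have h2 : a' * a₁ = a₁ * a' := hA a' ha' a₁ ha₁A
    calc a' * b' * t * (a' * b')⁻¹ = a' * (b' * t * b'⁻¹) * a'⁻¹ := by group
      _ = a' * t * a'⁻¹ := by rw [h1]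
      _ = (a' * a₁) * m * a'⁻¹ := by rw [ht]; group
      _ = (a₁ * a') * m * a'⁻¹ := by rw [h2]
      _ = t * (m⁻¹ * (a' * m * a'⁻¹)) := by rw [ht]; group
  obtain ⟨P, Q, R, hR⟩ := Cfsg.Agent.S0560.result A B hAB p
  have hRt : ∀ r ∈ (R : Subgroup G), r * t = t * r := by
    intro r hr
    have hr' : r ∈ ((R : Subgroup G) : Set G) := hr
    rw [hR] at hr'
    obtain ⟨y₁, hy₁, y₂, hy₂, rfl⟩ := hr'
    obtain ⟨y₁', hy₁P, rfl⟩ := hy₁
    obtain ⟨y₂', hy₂Q, rfl⟩ := hy₂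
    obtain ⟨k, hk⟩ := P.isPGroup' ⟨y₁', hy₁P⟩
    have hk' : ((y₁' : A) : G) ^ p ^ k = 1 := by
      have := congrArg (fun z : (P : Subgroup A) => ((z : A) : G)) hk
      simpa using this
    have hy₁C := hC _ k hk'
    have e1 : (y₁' : G) * m = m * y₁' := ((Subgroup.mem_centralizer_iff.mp hy₁C) m hmM).symm
    have e2 : (y₁' : G) * a₁ = a₁ * y₁' := hA _ y₁'.2 a₁ ha₁A
    have e3 : (y₂' : G) * t = t * y₂' := hB _ y₂'.2 t htB
    show A.subtype y₁' * B.subtype y₂' * t = t * (A.subtype y₁' * B.subtype y₂')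
    simp only [Subgroup.coe_subtype]
    calc (y₁' : G) * y₂' * t = y₁' * (y₂' * t) := by group
      _ = y₁' * (t * y₂') := by rw [e3]
      _ = (y₁' * a₁) * m * y₂' := by rw [ht]; group
      _ = a₁ * (y₁' * m) * y₂' := by rw [e2]; group
      _ = a₁ * (m * y₁') * y₂' := by rw [e1]
      _ = t * (y₁' * y₂') := by rw [ht]; group
  have hpt : ∀ (y : G) (k : ℕ), y ^ p ^ k = 1 → y * t = t * y := by
    intro y k hk
    have hy : IsPGroup p (Subgroup.zpowers y) := isPGroup_zpowers_of_pow p y k hk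
    obtain ⟨S, hS⟩ := hy.exists_le_sylow
    obtain ⟨x, hx⟩ := MulAction.exists_smul_eq G R S
    have hyS : y ∈ (S : Subgroup G) := hS (Subgroup.mem_zpowers y)
    rw [← hx, Sylow.coe_subgroup_smul, mem_conj_smul_iff] at hyS
    have h1 := hRt _ hyS
    obtain ⟨μ, hμM, hxt⟩ := hconj x
    have hyC := hC y k hk
    have hyμ : y * μ = μ * y := ((Subgroup.mem_centralizer_iff.mp hyC) μ hμM).symm
    have h2 : y * (x * t * x⁻¹) = (x * t * x⁻¹) * y := by
      calc y * (x * t * x⁻¹) = x * ((x⁻¹ * y * x) * t) * x⁻¹ := by group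
        _ = x * (t * (x⁻¹ * y * x)) * x⁻¹ := by rw [h1]
        _ = (x * t * x⁻¹) * y := by group
    rw [hxt] at h2
    have h3 : (y * t) * μ = (t * y) * μ := by
      calc (y * t) * μ = y * (t * μ) := by group
        _ = (t * μ) * y := h2
        _ = t * (μ * y) := by group
        _ = t * (y * μ) := by rw [hyμ]
        _ = (t * y) * μ := by group
    exact mul_right_cancel h3
  -- the commutator
  set g := ⁅a, b⁆ with hg
  have hgC : ∀ m' ∈ M, g * m' = m' * g := hG' a b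
  obtain ⟨μ, hμM, hgt⟩ := hconj g
  have hpow : ∀ j : ℕ, g ^ j * t * (g ^ j)⁻¹ = t * μ ^ j := by
    intro j
    induction j with
    | zero => simp
    | succ j ih =>
      have hgμ : g * μ ^ j = μ ^ j * g := hgC _ (M.pow_mem hμM j)
      calc g ^ (j + 1) * t * (g ^ (j + 1))⁻¹ = g * (g ^ j * t * (g ^ j)⁻¹) * g⁻¹ := by
            rw [pow_succ']; group
        _ = g * (t * μ ^ j) * g⁻¹ := by rw [ih]
        _ = (g * t * g⁻¹) * (g * μ ^ j) * g⁻¹ := by group
        _ = (t * μ) * (μ ^ j * g) * g⁻¹ := by rw [hgt, hgμ]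
        _ = t * μ ^ (j + 1) := by rw [pow_succ']; group
  set N := orderOf g with hN
  set k := N.factorization p with hk
  set n := N / p ^ k with hn
  have hNn : p ^ k * n = N := Nat.ordProj_mul_ordCompl_eq_self N p
  have hgn : (g ^ n) ^ p ^ k = 1 := by
    rw [← pow_mul, mul_comm, hNn]; exact pow_orderOf_eq_one g
  have h1 := hpt (g ^ n) k hgn
  have hμn : μ ^ n = 1 := by
    have h2 := hpow n
    have h3 : g ^ n * t * (g ^ n)⁻¹ = t := by rw [h1]; group
    rw [h3] at h2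
    have : t * 1 = t * μ ^ n := by rw [mul_one]; exact h2
    exact (mul_left_cancel this).symm
  have hμp : μ ^ p = 1 := hMp μ hμM
  have hcop : Nat.Coprime n p :=
    (Nat.coprime_ordCompl hp.out (orderOf_pos g).ne').symm
  have hμ1 : μ = 1 := by
    have d1 := orderOf_dvd_of_pow_eq_one hμn
    have d2 := orderOf_dvd_of_pow_eq_one hμp
    have := Nat.eq_one_of_dvd_coprimes hcop d1 d2
    exact orderOf_eq_one_iff.mp this
  have hgt' : g * t = t * g := by
    rw [hμ1, mul_one] at hgt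
    calc g * t = (g * t * g⁻¹) * g := by group
      _ = t * g := by rw [hgt]
  -- final computation
  have e1 : b * t = t * b := hB b hb t htB
  have e1' : b⁻¹ * t = t * b⁻¹ := by
    calc b⁻¹ * t = b⁻¹ * (t * b) * b⁻¹ := by group
      _ = b⁻¹ * (b * t) * b⁻¹ := by rw [e1]
      _ = t * b⁻¹ := by group
  have hgdef : g = a * b * a⁻¹ * b⁻¹ := commutatorElement_def a b
  have e2 : a * b * a⁻¹ * t = t * (a * b * a⁻¹) := by
    have h5 : a * b * a⁻¹ * b⁻¹ * t = t * (a * b * a⁻¹ * b⁻¹) := by rw [← hgdef]; exact hgt'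
    calc a * b * a⁻¹ * t = (a * b * a⁻¹ * (t * b⁻¹)) * b := by group
      _ = (a * b * a⁻¹ * (b⁻¹ * t)) * b := by rw [e1']
      _ = (a * b * a⁻¹ * b⁻¹ * t) * b := by group
      _ = (t * (a * b * a⁻¹ * b⁻¹)) * b := by rw [h5]
      _ = t * (a * b * a⁻¹) := by group
  have e3 : b * (a⁻¹ * t * a) = (a⁻¹ * t * a) * b := by
    calc b * (a⁻¹ * t * a) = a⁻¹ * (a * b * a⁻¹ * t) * a := by group
      _ = a⁻¹ * (t * (a * b * a⁻¹)) * a := by rw [e2]
      _ = (a⁻¹ * t * a) * b := by group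
  set ν := m⁻¹ * a⁻¹ * m * a with hν
  have hνM : ν ∈ M := by
    have h6 : a⁻¹ * m * a⁻¹⁻¹ ∈ M := hMn.conj_mem m hmM a⁻¹
    rw [inv_inv] at h6
    have : ν = m⁻¹ * (a⁻¹ * m * a) := by rw [hν]; group
    rw [this]
    exact M.mul_mem (M.inv_mem hmM) h6
  have e4 : a⁻¹ * t * a = t * ν := by
    have h7 : a⁻¹ * a₁ = a₁ * a⁻¹ := hA _ (A.inv_mem ha) a₁ ha₁A
    calc a⁻¹ * t * a = (a⁻¹ * a₁) * m * a := by rw [ht]; group
      _ = (a₁ * a⁻¹) * m * a := by rw [h7]
      _ = t * ν := by rw [ht, hν]; group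
  rw [e4] at e3
  have e5 : b * ν = ν * b := by
    have : t * (b * ν) = t * (ν * b) := by
      calc t * (b * ν) = (t * b) * ν := by group
        _ = (b * t) * ν := by rw [e1]
        _ = b * (t * ν) := by group
        _ = (t * ν) * b := e3
        _ = t * (ν * b) := by group
    exact mul_left_cancel this
  have hν1 : ν = 1 := hbfpf ν hνM e5
  have ham : a * m = m * a := by
    calc a * m = a * m * 1 := (mul_one _).symm
      _ = a * m * ν := by rw [hν1]
      _ = m * a := by rw [hν]; group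
  exact hm1 (hafpf m hmM ham)

end Cfsg.Agent.Lib.Helper4
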