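import Mathlib
import Cfsg.Agent.Lib.Helper4.Ito4

set_option autoImplicit false
open Pointwise
open scoped commutatorElement

namespace Cfsg.Agent.Lib.Helper4
open Cfsg.Agent.Lib.Helper1
universe u

/-- Itô: a nontrivial finite product of two abelian subgroups has a nontrivial normal subgroup
inside one of the factors (given that it is metabelian) -/
theorem ito_normal_in_factor {G : Type u} [Group G] [Finite G] [Nontrivial G] (A B : Subgroup G)
    (hA : ∀ x ∈ A, ∀ y ∈ A, x * y = y * x) (hB : ∀ x ∈ B, ∀ y ∈ B, x * y = y * x)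
    (hAB : ∀ g : G, ∃ a ∈ A, ∃ b ∈ B, g = a * b) (hD : derivedSeries G 2 = ⊥) :
    ∃ N : Subgroup G, N.Normal ∧ N ≠ ⊥ ∧ (N ≤ A ∨ N ≤ B) := by
  by_cases hZ : Subgroup.center G = ⊥
  swap
  · exact ito_of_center_ne_bot A B hA hB hAB hZ
  have hsol : Group.IsSolvable G := ⟨⟨2, hD⟩⟩
  set D := derivedSeries G 1 with hDdef
  have hDn : D.Normal := inferInstance
  have hDc : ∀ x ∈ D, ∀ y ∈ D, x * y = y * x := by
    intro x hx y hy
    have h1 : ⁅x, y⁆ ∈ derivedSeries G 2 := by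
      rw [derivedSeries_succ]
      exact Subgroup.commutator_mem_commutator hx hy
    rw [hD, Subgroup.mem_bot, commutatorElement_eq_one_iff_mul_comm] at h1
    exact h1
  have hcomm_mem : ∀ x y : G, ⁅x, y⁆ ∈ D := by
    intro x y
    rw [hDdef, derivedSeries_succ, derivedSeries_zero]
    exact Subgroup.commutator_mem_commutator (Subgroup.mem_top x) (Subgroup.mem_top y)
  have hD1 : D ≠ ⊥ := by
    intro h
    obtain ⟨x, hx⟩ := exists_ne (1 : G)
    apply hx
    have : x ∈ Subgroup.center G := by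
      rw [Subgroup.mem_center_iff]
      intro g
      have h1 := hcomm_mem g x
      rw [h, Subgroup.mem_bot, commutatorElement_eq_one_iff_mul_comm] at h1
      exact h1
    rw [hZ, Subgroup.mem_bot] at this
    exact this
  obtain ⟨M, hM, hMD⟩ := exists_isMinNormal_le D hDn hD1
  have hG' : ∀ x y : G, ∀ m ∈ M, ⁅x, y⁆ * m = m * ⁅x, y⁆ :=
    fun x y m hm => hDc _ (hcomm_mem x y) m (hMD hm)
  have hMc : ∀ x ∈ M, ∀ y ∈ M, x * y = y * x := fun x hx y hy => hDc x (hMD hx) y (hMD hy)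
  obtain ⟨p, hp, hMp⟩ := hM.exists_prime_pow_eq_one
  haveI : Fact p.Prime := ⟨hp⟩
  haveI : M.Normal := hM.1
  by_cases hAC : A ≤ Subgroup.centralizer (M : Set G)
  · obtain ⟨N, hN, hN1, hNA⟩ := ito_of_le_centralizer A B hA hB hAB hZ M hM.2.1 hMc hAC
    exact ⟨N, hN, hN1, Or.inl hNA⟩
  by_cases hBC : B ≤ Subgroup.centralizer (M : Set G)
  · have hBA : ∀ g : G, ∃ b ∈ B, ∃ a ∈ A, g = b * a := by
      intro g
      obtain ⟨a, ha, b, hb, h⟩ := hAB g⁻¹
      refine ⟨b⁻¹, B.inv_mem hb, a⁻¹, A.inv_mem ha, ?_⟩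
      rw [← mul_inv_rev, ← h, inv_inv]
    obtain ⟨N, hN, hN1, hNB⟩ := ito_of_le_centralizer B A hB hA hBA hZ M hM.2.1 hMc hBC
    exact ⟨N, hN, hN1, Or.inr hNB⟩
  · exfalso
    obtain ⟨a, haA, haC⟩ := SetLike.not_le_iff_exists.mp hAC
    obtain ⟨b, hbB, hbC⟩ := SetLike.not_le_iff_exists.mp hBC
    have hdich := centralizes_or_fpf M hM hG'
    exact ito_caseI_false A B hA hB hAB M hM hG' p hMp a b haA hbB
      ((hdich a).resolve_left haC) ((hdich b).resolve_left hbC)

end Cfsg.Agent.Lib.Helper4
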