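import Mathlib
import Cfsg.Prelude.Def_SolvableStructure
import Cfsg.Agent.S0573
import Cfsg.Agent.Lib.Helper4.Supersolvable
import Cfsg.Agent.Lib.Helper4.SupersolvableOrder

set_option autoImplicit false
open Pointwise

namespace Cfsg.Agent.Lib.Helper4
open Cfsg
universe u

theorem isCyclic_of_le_cyclic {G : Type u} [Group G] (N A : Subgroup G) [hA : IsCyclic A]
    (h : N ≤ A) : IsCyclic N := by
  have h1 : IsCyclic (N.subgroupOf A) := inferInstance
  exact (Subgroup.subgroupOfEquivOfLe h).isCyclic.mp h1

theorem isCyclic_map_of_cyclic {G H : Type*} [Group G] [Group H] (f : G →* H) (A : Subgroup G)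
    [hA : IsCyclic A] : IsCyclic (A.map f) := by
  have hsurj : Function.Surjective (f.subgroupMap A) := f.subgroupMap_surjective A
  exact isCyclic_of_surjective _ hsurj

theorem isSupersolvable_of_cyclic_factors_aux : ∀ (n : ℕ) (G : Type u) [Group G] [Finite G]
    (A B : Subgroup G), IsCyclic A → IsCyclic B → (∀ g : G, ∃ a ∈ A, ∃ b ∈ B, g = a * b) →
    Nat.card G = n → IsSupersolvable G := by
  intro n
  induction n using Nat.strong_induction_on with
  | _ n ih =>
  intro G _ _ A B hA hB hAB hn
  rcases subsingleton_or_nontrivial G with hss | hnt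
  · exact isSupersolvable_of_subsingleton
  · have hAc : IsMulCommutative A := IsCyclic.isMulCommutative
    have hBc : IsMulCommutative B := IsCyclic.isMulCommutative
    obtain ⟨N, hNn, hN1, hNAB⟩ := Cfsg.Agent.S0573.result A B hAB
    have hNc : IsCyclic N := by
      rcases hNAB with h | h
      · exact isCyclic_of_le_cyclic N A h
      · exact isCyclic_of_le_cyclic N B h
    apply isSupersolvable_of_cyclic_normal N
    have hlt : Nat.card (G ⧸ N) < n := by
      rw [← hn]; exact card_quotient_lt_of_ne_bot' N hN1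
    refine ih _ hlt (G ⧸ N) (A.map (QuotientGroup.mk' N)) (B.map (QuotientGroup.mk' N))
      (isCyclic_map_of_cyclic _ A) (isCyclic_map_of_cyclic _ B) ?_ rfl
    intro q
    obtain ⟨g, rfl⟩ := QuotientGroup.mk'_surjective N q
    obtain ⟨a, ha, b, hb, rfl⟩ := hAB g
    exact ⟨_, Subgroup.mem_map_of_mem _ ha, _, Subgroup.mem_map_of_mem _ hb, map_mul _ a b⟩

/-- a finite product of two cyclic subgroups is supersolvable -/
theorem isSupersolvable_of_cyclic_factors {G : Type u} [Group G] [Finite G] (A B : Subgroup G)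
    [hA : IsCyclic A] [hB : IsCyclic B] (hAB : ∀ g : G, ∃ a ∈ A, ∃ b ∈ B, g = a * b) :
    IsSupersolvable G :=
  isSupersolvable_of_cyclic_factors_aux _ G A B hA hB hAB rfl

end Cfsg.Agent.Lib.Helper4
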