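import Mathlib
import Cfsg.Prelude.Def_CaseTheorems
import Cfsg.Agent.Lib.Helper4.FourGraph1
import Cfsg.Agent.Lib.Helper12.Basic

set_option autoImplicit false
open Cfsg

namespace Cfsg.Agent.Lib.Helper4

universe u

open Cfsg.Agent.Lib.Helper19 (cj mem_cj cj_one cj_mul cj_mono)

theorem not_pRankLE_two_one_iff {X : Type u} [Group X] [Finite X] :
    ¬ PRankLE 2 1 X ↔ ∃ V : Subgroup X, IsKleinFour V := by
  constructor
  · intro h
    unfold PRankLE at h
    push Not at h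
    obtain ⟨A, hAc, hA2, hAcard⟩ := h
    have hA2' : ∀ a ∈ A, a * a = 1 := fun a ha => by rw [← pow_two]; exact hA2 a ha
    have hcard : 2 < Nat.card A := by simpa using hAcard
    obtain ⟨a, haA, ha1, -⟩ := exists_ne_of_two_lt_card A 1 (one_mul 1) hcard
    obtain ⟨b, hbA, hb1, hba⟩ := exists_ne_of_two_lt_card A a (hA2' a haA) hcard
    have hab : a * b = b * a := congrArg Subtype.val (mul_comm' (⟨a, haA⟩ : A) ⟨b, hbA⟩)
    exact ⟨kleinOf a b (hA2' a haA) (hA2' b hbA) hab,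
      isKleinFour_kleinOf _ _ hab ha1 hb1 (Ne.symm hba)⟩
  · rintro ⟨V, hV⟩ h
    have h1 := h V IsKleinFour.isMulCommutative (fun a ha => by
      have := IsKleinFour.mul_self (⟨a, ha⟩ : V)
      rw [pow_two]
      exact congrArg Subtype.val this)
    rw [hV.card_four] at h1
    norm_num at h1

theorem not_pRankLE_subgroup_iff {G : Type u} [Group G] [Finite G] (Q : Subgroup G) :
    ¬ PRankLE 2 1 Q ↔ ∃ V : Subgroup G, V ≤ Q ∧ IsKleinFour V := by
  rw [not_pRankLE_two_one_iff]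
  constructor
  · rintro ⟨V, hV⟩
    exact ⟨V.map Q.subtype, Subgroup.map_subtype_le V,
      isKleinFour_of_mulEquiv (V.equivMapOfInjective _ Q.subtype_injective) hV⟩
  · rintro ⟨V, hVQ, hV⟩
    exact ⟨V.subgroupOf Q, isKleinFour_of_mulEquiv (Subgroup.subgroupOfEquivOfLe hVQ).symm hV⟩

theorem isPGroup_two_of_isKleinFour {G : Type u} [Group G] {V : Subgroup G} (hV : IsKleinFour V) :
    IsPGroup 2 V := by
  intro x
  refine ⟨1, ?_⟩
  rw [pow_one, pow_two]
  exact IsKleinFour.mul_self x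

/-- a `2`-subgroup is conjugate into a given Sylow `2`-subgroup -/
theorem exists_cj_le_sylow {G : Type u} [Group G] [Finite G] {p : ℕ} [Fact p.Prime] (S : Sylow p G)
    (H U : Subgroup G) (hSH : (S : Subgroup G) ≤ H) (hUH : U ≤ H) (hU : IsPGroup p U) :
    ∃ h ∈ H, cj h U ≤ S := by
  obtain ⟨h, hh, hc⟩ := Cfsg.Agent.Lib.Helper12.exists_conj_mem_sylow S H U hSH hUH hU
  refine ⟨h, hh, ?_⟩
  intro x hx
  rw [mem_cj] at hx
  have := hc _ hx
  have e : h * (h⁻¹ * x * h) * h⁻¹ = x := by group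
  rwa [e] at this

end Cfsg.Agent.Lib.Helper4
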