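import Mathlib
import Cfsg.Prelude.Def_CaseTheorems
import Cfsg.Agent.Lib.Helper4.FourGraph2

set_option autoImplicit false
open Cfsg

namespace Cfsg.Agent.Lib.Helper4

universe u

open Cfsg.Agent.Lib.Helper19 (cj mem_cj cj_one cj_mul cj_mono)

theorem cj_le_of_mem_normalizer {G : Type u} [Group G] {Q V : Subgroup G} {n : G}
    (hn : n ∈ Subgroup.normalizer (Q : Set G)) (hVQ : V ≤ Q) : cj n V ≤ Q := by
  intro x hx
  rw [mem_cj] at hx
  have h1 := (Subgroup.mem_normalizer_iff.mp hn (n⁻¹ * x * n)).mp (hVQ hx)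
  have e : n * (n⁻¹ * x * n) * n⁻¹ = x := by group
  rwa [e] at h1

theorem cj_inv_cj {G : Type u} [Group G] (g : G) (U : Subgroup G) : cj g⁻¹ (cj g U) = U := by
  rw [← cj_mul, inv_mul_cancel, cj_one]

theorem isFourConnected_of_generated {G : Type u} [Group G] [Finite G] (S : Sylow 2 G)
    (hS : IsFourConnected (S : Subgroup G)) (V₀ : Subgroup G) (hV₀S : V₀ ≤ S) (hV₀ : IsKleinFour V₀)
    (hΓ : (⨆ Q : {Q : Subgroup G // Q ≤ (S : Subgroup G) ∧ ¬ PRankLE 2 1 Q},
          Subgroup.normalizer ((Q : Subgroup G) : Set G)) = ⊤) : IsFourConnected G := by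
  have : Fact (Nat.Prime 2) := ⟨Nat.prime_two⟩
  let Hst : Subgroup G :=
    { carrier := {g | Relation.ReflTransGen fourRel V₀ (cj g V₀)}
      one_mem' := by
        show Relation.ReflTransGen fourRel V₀ (cj 1 V₀)
        rw [cj_one]
      mul_mem' := by
        intro g g' hg hg'
        show Relation.ReflTransGen fourRel V₀ (cj (g * g') V₀)
        rw [cj_mul]
        exact Relation.ReflTransGen.trans hg (fourPath_cj g hg')
      inv_mem' := by
        intro g hg
        show Relation.ReflTransGen fourRel V₀ (cj g⁻¹ V₀)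
        have h1 := fourPath_cj g⁻¹ hg
        rw [cj_inv_cj] at h1
        exact fourPath_symm h1 }
  have hmem : ∀ g, g ∈ Hst ↔ Relation.ReflTransGen fourRel V₀ (cj g V₀) := fun g => Iff.rfl
  have hΓle : (⨆ Q : {Q : Subgroup G // Q ≤ (S : Subgroup G) ∧ ¬ PRankLE 2 1 Q},
      Subgroup.normalizer ((Q : Subgroup G) : Set G)) ≤ Hst := by
    apply iSup_le
    rintro ⟨Q, hQS, hQr⟩ n hn
    obtain ⟨V, hVQ, hV⟩ := (not_pRankLE_subgroup_iff Q).mp hQr
    rw [hmem]
    have h1 := fourPath_of_isFourConnected_subgroup (S : Subgroup G) hS hV₀S (hVQ.trans hQS) hV₀ hV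
    have h2 := fourPath_of_isFourConnected_subgroup (S : Subgroup G) hS hV₀S
      ((cj_le_of_mem_normalizer hn hVQ).trans hQS) hV₀ (isKleinFour_cj n hV)
    exact Relation.ReflTransGen.trans h2 (fourPath_symm (fourPath_cj n h1))
  have htop : Hst = ⊤ := top_le_iff.mp (hΓ ▸ hΓle)
  have key : ∀ U : Subgroup G, IsKleinFour U → Relation.ReflTransGen fourRel V₀ U := by
    intro U hU
    obtain ⟨g, -, hg⟩ := exists_cj_le_sylow S ⊤ U le_top le_top (isPGroup_two_of_isKleinFour hU)
    have h1 := fourPath_of_isFourConnected_subgroup (S : Subgroup G) hS hV₀S hg hV₀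
      (isKleinFour_cj g hU)
    have h2 := fourPath_cj g⁻¹ h1
    rw [cj_inv_cj] at h2
    have h3 : g⁻¹ ∈ Hst := by rw [htop]; trivial
    exact Relation.ReflTransGen.trans ((hmem _).mp h3) h2
  intro U V hU hV
  exact Relation.ReflTransGen.trans (fourPath_symm (key U hU)) (key V hV)

end Cfsg.Agent.Lib.Helper4
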