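import Mathlib
import Cfsg.Prelude.Def_CaseTheorems
import Cfsg.Agent.Lib.Helper4.FourGraph3
import Cfsg.Agent.Lib.Helper4.Schmidt1
import Cfsg.Agent.Lib.Helper17.Basic

set_option autoImplicit false
open Cfsg

namespace Cfsg.Agent.Lib.Helper4

universe u

open Cfsg.Agent.Lib.Helper19 (cj mem_cj cj_one cj_mul cj_mono)

theorem conj_mem_normalizer_cj {G : Type u} [Group G] [Finite G] {T : Subgroup G} {n : G}
    (hn : n ∈ Subgroup.normalizer (T : Set G)) (h : G) :
    h * n * h⁻¹ ∈ Subgroup.normalizer ((cj h T : Subgroup G) : Set G) := by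
  apply Cfsg.Agent.Lib.Helper17.mem_normalizer_of_forall_conj_mem
  intro x hx
  rw [mem_cj] at hx ⊢
  have h1 := (Subgroup.mem_normalizer_iff.mp hn _).mp hx
  have e : h⁻¹ * (h * n * h⁻¹ * x * (h * n * h⁻¹)⁻¹) * h = n * (h⁻¹ * x * h) * n⁻¹ := by group
  rw [e]; exact h1

theorem isPGroup_cj {G : Type u} [Group G] {p : ℕ} (g : G) {T : Subgroup G} (hT : IsPGroup p T) :
    IsPGroup p (cj g T) := hT.map _

theorem generated_eq_top_of_isFourConnected {G : Type u} [Group G] [Finite G] (S : Sylow 2 G)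
    (V₀ : Subgroup G) (hV₀S : V₀ ≤ S) (hV₀ : IsKleinFour V₀) (hconn : IsFourConnected G) :
    (⨆ Q : {Q : Subgroup G // Q ≤ (S : Subgroup G) ∧ ¬ PRankLE 2 1 Q},
          Subgroup.normalizer ((Q : Subgroup G) : Set G)) = ⊤ := by
  have : Fact (Nat.Prime 2) := ⟨Nat.prime_two⟩
  set H := (⨆ Q : {Q : Subgroup G // Q ≤ (S : Subgroup G) ∧ ¬ PRankLE 2 1 Q},
          Subgroup.normalizer ((Q : Subgroup G) : Set G)) with hH
  -- normalizers of subgroups of `S` containing a four-group lie in `H`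
  have hQ : ∀ Q : Subgroup G, Q ≤ (S : Subgroup G) → (∃ V : Subgroup G, V ≤ Q ∧ IsKleinFour V) →
      Subgroup.normalizer (Q : Set G) ≤ H := by
    intro Q hQS hV
    exact le_iSup (fun Q : {Q : Subgroup G // Q ≤ (S : Subgroup G) ∧ ¬ PRankLE 2 1 Q} =>
      Subgroup.normalizer ((Q : Subgroup G) : Set G)) ⟨Q, hQS, (not_pRankLE_subgroup_iff Q).mpr hV⟩
  have hSH : (S : Subgroup G) ≤ H :=
    Subgroup.le_normalizer.trans (hQ _ le_rfl ⟨V₀, hV₀S, hV₀⟩)
  -- (b) normalizers of 2-subgroups of `H` containing a four-group lie in `H`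
  have hb : ∀ T : Subgroup G, T ≤ H → IsPGroup 2 T → (∃ V : Subgroup G, V ≤ T ∧ IsKleinFour V) →
      Subgroup.normalizer (T : Set G) ≤ H := by
    intro T hTH hT ⟨V, hVT, hV⟩ n hn
    obtain ⟨h, hh, hc⟩ := exists_cj_le_sylow S H T hSH hTH hT
    have h1 := hQ (cj h T) hc ⟨cj h V, cj_mono h hVT, isKleinFour_cj h hV⟩
    have h2 := h1 (conj_mem_normalizer_cj hn h)
    have e : n = h⁻¹ * (h * n * h⁻¹) * h := by group
    rw [e]
    exact H.mul_mem (H.mul_mem (H.inv_mem hh) h2) hh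
  -- (c) 2-subgroups containing a four-subgroup of `H` lie in `H`
  have hc : ∀ T V : Subgroup G, IsPGroup 2 T → V ≤ T → V ≤ H → IsKleinFour V → T ≤ H := by
    intro T V hT hVT hVH hV
    by_contra hTH
    have hne : T ⊓ H ≠ T := fun h => hTH (h ▸ inf_le_right)
    obtain ⟨t, htT, htN, htn⟩ := exists_mem_normalizer_not_mem_of_nilpotent hT.isNilpotent
      (inf_le_left : T ⊓ H ≤ T) hne
    have h1 := hb (T ⊓ H) inf_le_right (hT.to_le inf_le_left) ⟨V, le_inf hVT hVH, hV⟩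
    exact htn (Subgroup.mem_inf.mpr ⟨htT, h1 htN⟩)
  -- (d) four-groups connected to `V₀` lie in `H`
  have hd : ∀ U : Subgroup G, Relation.ReflTransGen fourRel V₀ U → U ≤ H := by
    intro U hU
    induction hU with
    | refl => exact hV₀S.trans hSH
    | @tail B C _ hbc ih =>
      obtain ⟨hB, hC, hcomm⟩ := hbc
      have h1 := hb B ih (isPGroup_two_of_isKleinFour hB) ⟨B, le_rfl, hB⟩
      intro c hc'
      apply h1
      apply Subgroup.centralizer_le_normalizer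
      rw [Subgroup.mem_centralizer_iff]
      intro b hb'
      exact hcomm b hb' c hc'
  rw [eq_top_iff]
  intro g _
  have h1 : cj g V₀ ≤ H := hd _ (hconn _ _ hV₀ (isKleinFour_cj g hV₀))
  have h2 : cj g (S : Subgroup G) ≤ H :=
    hc (cj g S) (cj g V₀) (isPGroup_cj g S.2) (cj_mono g hV₀S) h1 (isKleinFour_cj g hV₀)
  obtain ⟨h, hh, hle⟩ := exists_cj_le_sylow S H (cj g S) hSH h2 (isPGroup_cj g S.2)
  rw [← cj_mul] at hle
  have h3 : h * g ∈ Subgroup.normalizer ((S : Subgroup G) : Set G) := by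
    apply Cfsg.Agent.Lib.Helper17.mem_normalizer_of_forall_conj_mem
    intro x hx
    apply hle
    rw [mem_cj]
    have e : (h * g)⁻¹ * (h * g * x * (h * g)⁻¹) * (h * g) = x := by group
    rw [e]; exact hx
  have h4 : h * g ∈ H := (hQ _ le_rfl ⟨V₀, hV₀S, hV₀⟩) h3
  have e : g = h⁻¹ * (h * g) := by group
  rw [e]
  exact H.mul_mem (H.inv_mem hh) h4

end Cfsg.Agent.Lib.Helper4

namespace Cfsg.Agent.Lib.Helper4

universe u

open Cfsg.Agent.Lib.Helper19 (cj mem_cj cj_one cj_mul cj_mono)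

theorem not_isFourConnected_iff_generated_ne_top {G : Type u} [Group G] [Finite G]
    (h2 : ¬ Cfsg.PRankLE 2 1 G) (S : Sylow 2 G) (hS : Cfsg.IsFourConnected (S : Subgroup G)) :
    ¬ Cfsg.IsFourConnected G ↔
      (⨆ Q : {Q : Subgroup G // Q ≤ (S : Subgroup G) ∧ ¬ Cfsg.PRankLE 2 1 Q},
          Subgroup.normalizer ((Q : Subgroup G) : Set G)) ≠ ⊤ := by
  have : Fact (Nat.Prime 2) := ⟨Nat.prime_two⟩
  obtain ⟨V, hV⟩ := not_pRankLE_two_one_iff.mp h2
  obtain ⟨g, -, hg⟩ := exists_cj_le_sylow S ⊤ V le_top le_top (isPGroup_two_of_isKleinFour hV)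
  have hV₀ := isKleinFour_cj g hV
  exact not_congr ⟨fun hc => generated_eq_top_of_isFourConnected S _ hg hV₀ hc,
    fun hΓ => isFourConnected_of_generated S hS _ hg hV₀ hΓ⟩

end Cfsg.Agent.Lib.Helper4
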