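import Mathlib
import Cfsg.Agent.Lib.Helper4.CharTwoCrit

/-!
# Normal four-groups in groups of characteristic 2 type centralize invariant odd-order subgroups
-/

set_option autoImplicit false

namespace Cfsg.Agent.Lib.Helper4.FourGroup

open Subgroup

/-- stability group lemma: an element acting trivially on `O_2(X)` modulo a central involution
lies in `O_2(X)` when `C_X(O_2(X)) ≤ O_2(X)`. -/
theorem mem_pCore_of_stab {X : Type*} [Group X] [Finite X] (u : X) (hu2 : u ^ 2 = 1)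
    (huc : ∀ g : X, g * u = u * g)
    (hchar : centralizer (Cfsg.pCore 2 X : Set X) ≤ Cfsg.pCore 2 X)
    (x : X) (hx : ∀ q ∈ Cfsg.pCore 2 X, x * q * x⁻¹ * q⁻¹ = 1 ∨ x * q * x⁻¹ * q⁻¹ = u) :
    x ∈ Cfsg.pCore 2 X := by
  classical
  haveI : Fact (Nat.Prime 2) := ⟨Nat.prime_two⟩
  haveI hQn : (Cfsg.pCore 2 X).Normal := Cfsg.Agent.Lib.Helper24.pCore_normal' 2
  have huu : u * u = 1 := by rw [← pow_two]; exact hu2
  have hTmul : ∀ c d : X, (c = 1 ∨ c = u) → (d = 1 ∨ d = u) → (c * d = 1 ∨ c * d = u) := by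
    rintro c d (rfl | rfl) (rfl | rfl)
    · left; simp
    · right; simp
    · right; simp
    · left; exact huu
  have hTinv : ∀ c : X, (c = 1 ∨ c = u) → (c⁻¹ = 1 ∨ c⁻¹ = u) := by
    rintro c (rfl | rfl)
    · left; simp
    · right; exact inv_eq_of_mul_eq_one_right huu
  have hTc : ∀ c : X, (c = 1 ∨ c = u) → ∀ g : X, g * c = c * g := by
    rintro c (rfl | rfl) g
    · simp
    · exact huc g
  have hTsq : ∀ c : X, (c = 1 ∨ c = u) → c * c = 1 := by
    rintro c (rfl | rfl)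
    · simp
    · exact huu
  let D : Subgroup X :=
    { carrier := {g | ∀ q ∈ Cfsg.pCore 2 X, g * q * g⁻¹ * q⁻¹ = 1 ∨ g * q * g⁻¹ * q⁻¹ = u}
      one_mem' := by
        intro q _
        left
        group
      mul_mem' := by
        intro g h hg hh q hq
        have h1 := hh q hq
        have h2 := hg q hq
        have h3 : g * h * q * (g * h)⁻¹ * q⁻¹ = (h * q * h⁻¹ * q⁻¹) * (g * q * g⁻¹ * q⁻¹) := by
          have h4 : g * h * q * (g * h)⁻¹ * q⁻¹ =
              g * (h * q * h⁻¹ * q⁻¹) * g⁻¹ * (g * q * g⁻¹ * q⁻¹) := by group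
          rw [h4, hTc _ h1 g]
          group
        rw [h3]
        exact hTmul _ _ h1 h2
      inv_mem' := by
        intro g hg q hq
        have h1 := hg q hq
        have h3 : g⁻¹ * q * g⁻¹⁻¹ * q⁻¹ = (g * q * g⁻¹ * q⁻¹)⁻¹ := by
          have h4 : g⁻¹ * q * g⁻¹⁻¹ * q⁻¹ = g⁻¹ * (g * q * g⁻¹ * q⁻¹)⁻¹ * g := by group
          rw [h4, mul_assoc, ← hTc _ (hTinv _ h1) g]
          group
        rw [h3]
        exact hTinv _ h1 }
  have hDmem : ∀ g, g ∈ D ↔ ∀ q ∈ Cfsg.pCore 2 X,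
      g * q * g⁻¹ * q⁻¹ = 1 ∨ g * q * g⁻¹ * q⁻¹ = u := fun g => Iff.rfl
  have hDn : D.Normal := by
    constructor
    intro g hg n
    rw [hDmem] at hg ⊢
    intro q hq
    have hq' : n⁻¹ * q * n⁻¹⁻¹ ∈ Cfsg.pCore 2 X := hQn.conj_mem q hq n⁻¹
    have h1 := hg _ hq'
    have h2 : n * g * n⁻¹ * q * (n * g * n⁻¹)⁻¹ * q⁻¹ =
        n * (g * (n⁻¹ * q * n⁻¹⁻¹) * g⁻¹ * (n⁻¹ * q * n⁻¹⁻¹)⁻¹) * n⁻¹ := by group
    rw [h2, hTc _ h1 n]
    have h3 : g * (n⁻¹ * q * n⁻¹⁻¹) * g⁻¹ * (n⁻¹ * q * n⁻¹⁻¹)⁻¹ * n * n⁻¹ =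
        g * (n⁻¹ * q * n⁻¹⁻¹) * g⁻¹ * (n⁻¹ * q * n⁻¹⁻¹)⁻¹ := by group
    rw [h3]
    exact h1
  have hD2 : IsPGroup 2 ↥D := by
    rintro ⟨g, hg⟩
    have hg2 : g * g ∈ centralizer (Cfsg.pCore 2 X : Set X) := by
      intro q hq
      have h1 := (hDmem g).mp hg q hq
      have hgq : g * q = (g * q * g⁻¹ * q⁻¹) * q * g := by group
      have hcc := hTc _ h1 g
      have hsq := hTsq _ h1
      generalize g * q * g⁻¹ * q⁻¹ = c at hgq hcc hsq
      symm
      calc g * g * q = g * (g * q) := by group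
        _ = g * (c * q * g) := by rw [hgq]
        _ = (g * c) * q * g := by group
        _ = c * (g * q) * g := by rw [hcc]; group
        _ = c * (c * q * g) * g := by rw [hgq]
        _ = (c * c) * q * g * g := by group
        _ = q * (g * g) := by rw [hsq]; group
    have hg2' := hchar hg2
    obtain ⟨k, hk⟩ := (Cfsg.Agent.Lib.Helper1.pCore_isPGroup 2 X) ⟨g * g, hg2'⟩
    refine ⟨k + 1, ?_⟩
    apply Subtype.ext
    have hk' : (g * g) ^ 2 ^ k = 1 := by
      have := congrArg Subtype.val hk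
      simpa using this
    simp only [Subgroup.coe_pow, Subgroup.coe_one]
    rw [pow_succ, mul_comm, pow_mul, pow_two]
    exact hk'
  have hle : D ≤ Cfsg.pCore 2 X := Cfsg.Agent.Lib.Helper1.le_pCore hDn hD2
  exact hle ((hDmem x).mpr hx)

/-- in a cyclic group there is at most one involution -/
theorem eq_of_sq_eq_one_of_isCyclic {H : Type*} [Group H] [Finite H] [IsCyclic H] {x y : H}
    (hx : x ^ 2 = 1) (hy : y ^ 2 = 1) (hx1 : x ≠ 1) (hy1 : y ≠ 1) : x = y := by
  classical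
  haveI : Fintype H := Fintype.ofFinite H
  by_contra hxy
  have h1 := IsCyclic.card_pow_eq_one_le (α := H) (n := 2) (by norm_num)
  have h2 : ({1, x, y} : Finset H) ⊆ Finset.univ.filter (fun a : H => a ^ 2 = 1) := by
    intro a ha
    simp only [Finset.mem_insert, Finset.mem_singleton] at ha
    simp only [Finset.mem_filter, Finset.mem_univ, true_and]
    rcases ha with rfl | rfl | rfl
    · exact one_pow 2
    · exact hx
    · exact hy
  have h3 : ({1, x, y} : Finset H).card = 3 := by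
    rw [Finset.card_insert_of_notMem, Finset.card_pair hxy]
    simp only [Finset.mem_insert, Finset.mem_singleton, not_or]
    exact ⟨hx1.symm, hy1.symm⟩
  have h4 := Finset.card_le_card h2
  omega

variable {G : Type*} [Group G]

/-- a subgroup of order 4 containing three distinct elements `x, y, w` has exactly one more -/
theorem eq_of_card_four [Finite G] (U : Subgroup G) (hU4 : Nat.card ↥U = 4) {x y w a b : G}
    (hx : x ∈ U) (hy : y ∈ U) (hw : w ∈ U) (hxy : x ≠ y) (hxw : x ≠ w) (hyw : y ≠ w)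
    (ha : a ∈ U) (hax : a ≠ x) (hay : a ≠ y) (haw : a ≠ w)
    (hb : b ∈ U) (hbx : b ≠ x) (hby : b ≠ y) (hbw : b ≠ w) : a = b := by
  classical
  by_contra hab
  have hsub : ({x, y, w, a, b} : Set G) ⊆ (U : Set G) := by
    intro c hc
    simp only [Set.mem_insert_iff, Set.mem_singleton_iff] at hc
    rcases hc with rfl | rfl | rfl | rfl | rfl <;> assumption
  have h5 : ({x, y, w, a, b} : Set G).ncard = 5 := by
    rw [Set.ncard_insert_of_notMem, Set.ncard_insert_of_notMem, Set.ncard_insert_of_notMem,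
      Set.ncard_pair hab]
    · simp only [Set.mem_insert_iff, Set.mem_singleton_iff, not_or]
      exact ⟨haw.symm, hbw.symm⟩
    · simp only [Set.mem_insert_iff, Set.mem_singleton_iff, not_or]
      exact ⟨hyw, hay.symm, hby.symm⟩
    · simp only [Set.mem_insert_iff, Set.mem_singleton_iff, not_or]
      exact ⟨hxy, hxw, hax.symm, hbx.symm⟩
  have h6 := Set.ncard_le_ncard hsub (Set.toFinite _)
  rw [h5, ← Nat.card_coe_set_eq] at h6
  have h7 : Nat.card ↥(U : Set G) = Nat.card ↥U := rfl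
  omega

/-- the elements of a four-group -/
theorem mem_four [Finite G] (U : Subgroup G) (hU4 : Nat.card ↥U = 4) (hU2 : ∀ x ∈ U, x * x = 1)
    {u y : G} (hu : u ∈ U) (hy : y ∈ U) (hu1 : u ≠ 1) (hy1 : y ≠ 1) (hyu : y ≠ u)
    {b : G} (hb : b ∈ U) : b = 1 ∨ b = u ∨ b = y ∨ b = y * u := by
  by_contra hcon
  push Not at hcon
  obtain ⟨h1, h2, h3, h4⟩ := hcon
  apply h4
  have hyu1 : y * u ≠ 1 := by
    intro h
    apply hyu
    have : y = (y * u) * u⁻¹ := by group
    rw [this, h, one_mul]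
    exact inv_eq_of_mul_eq_one_right (hU2 u hu)
  have hyuu : y * u ≠ u := by
    intro h
    apply hy1
    have : y = (y * u) * u⁻¹ := by group
    rw [this, h]
    group
  have hyuy : y * u ≠ y := by
    intro h
    apply hu1
    have : u = y⁻¹ * (y * u) := by group
    rw [this, h]
    group
  exact eq_of_card_four U hU4 U.one_mem hu hy hu1.symm hy1.symm hyu.symm hb h1 h2 h3
    (U.mul_mem hy hu) hyu1 hyuu hyuy

/-- conjugates of a non-central element of a normal four-group -/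
theorem conj_eq_mul [Finite G] (P U : Subgroup G) (hPU : P ≤ normalizer (U : Set G))
    (hU4 : Nat.card ↥U = 4) (hU2 : ∀ x ∈ U, x * x = 1)
    {z a : G} (hzU : z ∈ U) (hz1 : z ≠ 1) (hzc : ∀ g ∈ P, g * z = z * g)
    (haU : a ∈ U) (ha1 : a ≠ 1) {g : G} (hg : g ∈ P) (hga : g * a ≠ a * g) :
    g * a * g⁻¹ = a * z := by
  have haz : a ≠ z := by
    rintro rfl
    exact hga (hzc g hg)
  have h1 : g * a * g⁻¹ ∈ U := (Subgroup.mem_normalizer_iff.mp (hPU hg) a).mp haU
  have h2 : g * a * g⁻¹ ≠ 1 := by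
    intro h
    apply ha1
    have : a = g⁻¹ * (g * a * g⁻¹) * g := by group
    rw [this, h]
    group
  have h3 : g * a * g⁻¹ ≠ z := by
    intro h
    apply haz
    have : a = g⁻¹ * (g * a * g⁻¹) * g := by group
    rw [this, h, mul_assoc, ← hzc g hg]
    group
  have h4 : g * a * g⁻¹ ≠ a := by
    intro h
    apply hga
    have : g * a = (g * a * g⁻¹) * g := by group
    rw [this, h]
  rcases mem_four U hU4 hU2 hzU haU hz1 ha1 haz h1 with h | h | h | h
  · exact absurd h h2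
  · exact absurd h h3
  · exact absurd h h4
  · exact h

/-- an involution of `P` centralizing `C_P(a)` and `t` is `1` or `z` -/
theorem eq_one_or_eq_of_central [Finite G] (P U : Subgroup G) (hPU : P ≤ normalizer (U : Set G))
    (hU4 : Nat.card ↥U = 4) (hU2 : ∀ x ∈ U, x * x = 1)
    (hcyc : IsCyclic ↥(P ⊓ centralizer (P : Set G)))
    {z a t : G} (hzU : z ∈ U) (hzP : z ∈ P) (hz1 : z ≠ 1) (hzc : ∀ g ∈ P, g * z = z * g)
    (haU : a ∈ U) (ha1 : a ≠ 1) (htP : t ∈ P) (hta : t * a ≠ a * t)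
    {w : G} (hwP : w ∈ P) (hwc : ∀ x ∈ P, x * a = a * x → x * w = w * x) (hw2 : w * w = 1)
    (htw : t * w = w * t) : w = 1 ∨ w = z := by
  have hwZ : ∀ g ∈ P, g * w = w * g := by
    intro g hg
    by_cases hga : g * a = a * g
    · exact hwc g hg hga
    · have h1 := conj_eq_mul P U hPU hU4 hU2 hzU hz1 hzc haU ha1 hg hga
      have h2 := conj_eq_mul P U hPU hU4 hU2 hzU hz1 hzc haU ha1 htP hta
      have hx : (t⁻¹ * g) * a = a * (t⁻¹ * g) := by
        have h3 : (t⁻¹ * g) * a = t⁻¹ * (g * a * g⁻¹) * g := by group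
        have h4 : a * (t⁻¹ * g) = t⁻¹ * (t * a * t⁻¹) * g := by group
        rw [h3, h4, h1, h2]
      have h5 := hwc _ (P.mul_mem (P.inv_mem htP) hg) hx
      calc g * w = t * ((t⁻¹ * g) * w) := by group
        _ = t * (w * (t⁻¹ * g)) := by rw [h5]
        _ = (t * w) * (t⁻¹ * g) := by group
        _ = (w * t) * (t⁻¹ * g) := by rw [htw]
        _ = w * g := by group
  by_cases hw1 : w = 1
  · exact Or.inl hw1
  · right
    haveI := hcyc
    have hwm : w ∈ P ⊓ centralizer (P : Set G) := ⟨hwP, fun g hg => hwZ g hg⟩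
    have hzm : z ∈ P ⊓ centralizer (P : Set G) := ⟨hzP, fun g hg => hzc g hg⟩
    have h := eq_of_sq_eq_one_of_isCyclic (H := ↥(P ⊓ centralizer (P : Set G)))
      (x := ⟨w, hwm⟩) (y := ⟨z, hzm⟩)
      (by apply Subtype.ext; simp [pow_two, hw2])
      (by apply Subtype.ext; simp [pow_two, hU2 z hzU])
      (fun h => hw1 (congrArg Subtype.val h)) (fun h => hz1 (congrArg Subtype.val h))
    exact congrArg Subtype.val h

/-- `C_P(a)` is normalized by `P` -/
theorem conj_comm_of_comm [Finite G] (P U : Subgroup G) (hPU : P ≤ normalizer (U : Set G))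
    (hU4 : Nat.card ↥U = 4) (hU2 : ∀ x ∈ U, x * x = 1)
    {z a : G} (hzU : z ∈ U) (hz1 : z ≠ 1) (hzc : ∀ g ∈ P, g * z = z * g)
    (haU : a ∈ U) (ha1 : a ≠ 1) {g x : G} (hg : g ∈ P) (hx : x ∈ P) (hxa : x * a = a * x) :
    (g * x * g⁻¹) * a = a * (g * x * g⁻¹) := by
  have hxb : x * (g⁻¹ * a * g) = (g⁻¹ * a * g) * x := by
    by_cases hga : g⁻¹ * a = a * g⁻¹
    · have : g⁻¹ * a * g = a := by rw [hga]; group
      rw [this, hxa]
    · have h1 := conj_eq_mul P U hPU hU4 hU2 hzU hz1 hzc haU ha1 (P.inv_mem hg) hga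
      rw [inv_inv] at h1
      rw [h1, ← mul_assoc, hxa, mul_assoc, hzc x hx, mul_assoc]
  calc (g * x * g⁻¹) * a = g * (x * (g⁻¹ * a * g)) * g⁻¹ := by group
    _ = g * ((g⁻¹ * a * g) * x) * g⁻¹ := by rw [hxb]
    _ = a * (g * x * g⁻¹) := by group

/-- `Ω₁(Z(C_P(a))) ≤ U` when `Z(P)` is cyclic -/
theorem mem_of_central_involution [Finite G] (P U : Subgroup G) (hUP : U ≤ P)
    (hPU : P ≤ normalizer (U : Set G))
    (hU4 : Nat.card ↥U = 4) (hU2 : ∀ x ∈ U, x * x = 1)
    (hcyc : IsCyclic ↥(P ⊓ centralizer (P : Set G)))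
    {z a t : G} (hzU : z ∈ U) (hz1 : z ≠ 1) (hzc : ∀ g ∈ P, g * z = z * g)
    (haU : a ∈ U) (ha1 : a ≠ 1) (htP : t ∈ P) (hta : t * a ≠ a * t)
    {w : G} (hwP : w ∈ P) (hwc : ∀ x ∈ P, x * a = a * x → x * w = w * x) (hw2 : w * w = 1) :
    w ∈ U := by
  have hzP : z ∈ P := hUP hzU
  have haP : a ∈ P := hUP haU
  have hza : z * a = a * z := (hzc a haP).symm
  have hzw : z * w = w * z := hwc z hzP hza
  have hwa : w * a = a * w := (hwc a haP rfl).symm
  have F1 := conj_eq_mul P U hPU hU4 hU2 hzU hz1 hzc haU ha1 htP hta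
  have htz : t * z * t⁻¹ = z := by rw [hzc t htP]; group
  have L1 := @eq_one_or_eq_of_central G _ _ P U hPU hU4 hU2 hcyc z a t hzU hzP hz1 hzc haU ha1 htP hta
  -- `w' = t w t⁻¹`
  have hw'P : t * w * t⁻¹ ∈ P := P.mul_mem (P.mul_mem htP hwP) (P.inv_mem htP)
  have F3 : (t * w * t⁻¹) * a = a * (t * w * t⁻¹) :=
    conj_comm_of_comm P U hPU hU4 hU2 hzU hz1 hzc haU ha1 htP hwP hwa
  have F4 : ∀ x ∈ P, x * a = a * x → x * (t * w * t⁻¹) = (t * w * t⁻¹) * x := by
    intro x hx hxa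
    have h1 := conj_comm_of_comm P U hPU hU4 hU2 hzU hz1 hzc haU ha1 (P.inv_mem htP) hx hxa
    have h2 := hwc _ (P.mul_mem (P.mul_mem (P.inv_mem htP) hx) (P.inv_mem (P.inv_mem htP))) h1
    calc x * (t * w * t⁻¹) = t * ((t⁻¹ * x * t⁻¹⁻¹) * w) * t⁻¹ := by group
      _ = t * (w * (t⁻¹ * x * t⁻¹⁻¹)) * t⁻¹ := by rw [h2]
      _ = (t * w * t⁻¹) * x := by group
  have F5 : (t * w * t⁻¹) * w = w * (t * w * t⁻¹) := hwc _ hw'P F3
  have F6a : (t * t) * a = a * (t * t) := by
    calc (t * t) * a = t * (t * a * t⁻¹) * t := by group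
      _ = t * (a * z) * t := by rw [F1]
      _ = (t * a * t⁻¹) * (t * z * t⁻¹) * (t * t) := by group
      _ = (a * z) * z * (t * t) := by rw [F1, htz]
      _ = a * (z * z) * (t * t) := by group
      _ = a * (t * t) := by rw [hU2 z hzU, mul_one]
  have F6 : (t * t) * w = w * (t * t) := hwc _ (P.mul_mem htP htP) F6a
  -- `φ = w * w'`
  have hφP : w * (t * w * t⁻¹) ∈ P := P.mul_mem hwP hw'P
  have hφc : ∀ x ∈ P, x * a = a * x → x * (w * (t * w * t⁻¹)) = (w * (t * w * t⁻¹)) * x := by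
    intro x hx hxa
    rw [← mul_assoc, hwc x hx hxa, mul_assoc, F4 x hx hxa, ← mul_assoc]
  have hφ2 : (w * (t * w * t⁻¹)) * (w * (t * w * t⁻¹)) = 1 := by
    calc (w * (t * w * t⁻¹)) * (w * (t * w * t⁻¹))
        = w * ((t * w * t⁻¹) * w) * (t * w * t⁻¹) := by group
      _ = w * (w * (t * w * t⁻¹)) * (t * w * t⁻¹) := by rw [F5]
      _ = (w * w) * (t * (w * w) * t⁻¹) := by group
      _ = 1 := by rw [hw2]; group
  have hφt : t * (w * (t * w * t⁻¹)) = (w * (t * w * t⁻¹)) * t := by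
    calc t * (w * (t * w * t⁻¹)) = (t * w * t⁻¹) * ((t * t) * w) * t⁻¹ := by group
      _ = (t * w * t⁻¹) * (w * (t * t)) * t⁻¹ := by rw [F6]
      _ = ((t * w * t⁻¹) * w) * t := by group
      _ = (w * (t * w * t⁻¹)) * t := by rw [F5]
  rcases L1 hφP hφc hφ2 hφt with hφ | hφ
  · -- `w' = w`
    have htw : t * w = w * t := by
      have h1 : t * w * t⁻¹ = w⁻¹ := eq_inv_of_mul_eq_one_right hφ
      have h2 : w⁻¹ = w := inv_eq_of_mul_eq_one_right hw2
      rw [h2] at h1
      calc t * w = (t * w * t⁻¹) * t := by group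
        _ = w * t := by rw [h1]
    rcases L1 hwP hwc hw2 htw with h | h
    · rw [h]; exact U.one_mem
    · rw [h]; exact hzU
  · -- `w w' = z`
    have hw' : t * w * t⁻¹ = w * z := by
      have h2 : w⁻¹ = w := inv_eq_of_mul_eq_one_right hw2
      calc t * w * t⁻¹ = w⁻¹ * (w * (t * w * t⁻¹)) := by group
        _ = w * z := by rw [hφ, h2]
    have h2P : w * a ∈ P := P.mul_mem hwP haP
    have h2c : ∀ x ∈ P, x * a = a * x → x * (w * a) = (w * a) * x := by
      intro x hx hxa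
      rw [← mul_assoc, hwc x hx hxa, mul_assoc, hxa, mul_assoc]
    have h22 : (w * a) * (w * a) = 1 := by
      calc (w * a) * (w * a) = w * (a * w) * a := by group
        _ = w * (w * a) * a := by rw [hwa]
        _ = (w * w) * (a * a) := by group
        _ = 1 := by rw [hw2, hU2 a haU, mul_one]
    have h2t : t * (w * a) = (w * a) * t := by
      calc t * (w * a) = (t * w * t⁻¹) * (t * a * t⁻¹) * t := by group
        _ = (w * z) * (a * z) * t := by rw [hw', F1]
        _ = w * (z * a) * z * t := by group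
        _ = w * (a * z) * z * t := by rw [hza]
        _ = w * a * (z * z) * t := by group
        _ = (w * a) * t := by rw [hU2 z hzU, mul_one]
    have hwmem : w = (w * a) * a := by
      rw [mul_assoc, hU2 a haU, mul_one]
    rcases L1 h2P h2c h22 h2t with h | h
    · rw [hwmem, h, one_mul]; exact haU
    · rw [hwmem, h]; exact U.mul_mem hzU haU

/-- a subgroup of index at most `2` is normal -/
theorem le_normalizer_of_card_le [Finite G] (H K : Subgroup G) (hHK : H ≤ K)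
    (hc : Nat.card ↥K ≤ 2 * Nat.card ↥H) : K ≤ normalizer (H : Set G) := by
  have h1 := Cfsg.Agent.Lib.Helper4.card_mul_relIndex hHK
  have hHpos : 0 < Nat.card ↥H := Nat.card_pos
  have hKpos : 0 < Nat.card ↥K := Nat.card_pos
  have h2 : H.relIndex K ≤ 2 := by
    by_contra hcon
    push Not at hcon
    have : Nat.card ↥H * 3 ≤ Nat.card ↥H * H.relIndex K := Nat.mul_le_mul_left _ hcon
    omega
  have h0 : H.relIndex K ≠ 0 := by
    intro h
    rw [h, mul_zero] at h1
    omega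
  have hcases : H.relIndex K = 1 ∨ H.relIndex K = 2 := by omega
  rcases hcases with h | h
  · exact (Subgroup.relIndex_eq_one.mp h).trans Subgroup.le_normalizer
  · have hidx : (H.subgroupOf K).index = 2 := h
    have hn := Subgroup.normal_of_index_eq_two hidx
    exact (Subgroup.normal_subgroupOf_iff_le_normalizer hHK).mp hn

/-- elements normalizing `⟨u⟩`, `u` an involution, centralize `u` -/
theorem comm_of_mem_normalizer_zpowers {u : G} (hu2 : u * u = 1) (hu1 : u ≠ 1) {c : G}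
    (hc : c ∈ normalizer ((zpowers u : Subgroup G) : Set G)) : c * u = u * c := by
  have h1 : c * u * c⁻¹ ∈ zpowers u :=
    (Subgroup.mem_normalizer_iff.mp hc u).mp (Subgroup.mem_zpowers u)
  obtain ⟨k, hk⟩ := Subgroup.mem_zpowers_iff.mp h1
  have hord : orderOf u = 2 := orderOf_eq_prime (by rw [pow_two]; exact hu2) hu1
  have h2 : u ^ k = u ^ (k % 2) := by
    have := zpow_mod_orderOf u k
    rw [hord] at this
    exact this.symm
  have h3 : k % 2 = 0 ∨ k % 2 = 1 := by omega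
  rcases h3 with h | h
  · rw [h2, h, zpow_zero] at hk
    exfalso
    apply hu1
    have : u = c⁻¹ * (c * u * c⁻¹) * c := by group
    rw [this, ← hk]
    group
  · rw [h2, h, zpow_one] at hk
    calc c * u = (c * u * c⁻¹) * c := by group
      _ = u * c := by rw [← hk]

/-- `O_2(C_G(u))` normalizes `U` -/
theorem pCore_le_normalizer [Finite G] (P : Sylow 2 G) (U : Subgroup G)
    (hUP : U ≤ (P : Subgroup G)) (hPU : (P : Subgroup G) ≤ normalizer (U : Set G))
    (hU4 : Nat.card ↥U = 4) (hU2 : ∀ x ∈ U, x * x = 1)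
    (hUZ : ¬ IsCyclic ↥((P : Subgroup G) ⊓ centralizer ((P : Subgroup G) : Set G)) →
      U ≤ centralizer ((P : Subgroup G) : Set G))
    {u : G} (huU : u ∈ U) (hu1 : u ≠ 1) :
    (Cfsg.pCore 2 ↥(normalizer ((zpowers u : Subgroup G) : Set G))).map
      (normalizer ((zpowers u : Subgroup G) : Set G)).subtype ≤ normalizer (U : Set G) := by
  classical
  haveI : Fact (Nat.Prime 2) := ⟨Nat.prime_two⟩
  obtain ⟨C, hCdef⟩ : ∃ C : Subgroup G, C = normalizer ((zpowers u : Subgroup G) : Set G) :=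
    ⟨_, rfl⟩
  rw [← hCdef]
  obtain ⟨Q, hQdef⟩ : ∃ Q : Subgroup G, Q = (Cfsg.pCore 2 ↥C).map C.subtype := ⟨_, rfl⟩
  rw [← hQdef]
  have hCc : ∀ c ∈ C, c * u = u * c := fun c hc =>
    comm_of_mem_normalizer_zpowers (hU2 u huU) hu1 (hCdef ▸ hc)
  have hcenC : centralizer ({u} : Set G) ≤ C :=
    hCdef ▸ Cfsg.Agent.Lib.Helper4.TransGen.centralizer_le_normalizer_zpowers u
  have hQC : Q ≤ C := hQdef ▸ Subgroup.map_subtype_le _
  have hQ2 : IsPGroup 2 ↥Q := hQdef ▸ (Cfsg.Agent.Lib.Helper1.pCore_isPGroup 2 _).map _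
  haveI hQn : (Cfsg.pCore 2 ↥C).Normal := Cfsg.Agent.Lib.Helper24.pCore_normal' 2
  have hCQ : C ≤ normalizer (Q : Set G) := by
    intro l hl
    apply Cfsg.Agent.Lib.Helper1.mem_normalizer_of_forall_conj_mem
    intro q hq
    rw [hQdef] at hq ⊢
    obtain ⟨w, hw, rfl⟩ := hq
    exact ⟨(⟨l, hl⟩ : ↥C) * w * (⟨l, hl⟩ : ↥C)⁻¹, hQn.conj_mem w hw _, rfl⟩
  have hcardle : ∀ T : Subgroup G, IsPGroup 2 ↥T →
      Nat.card ↥T ≤ Nat.card ↥(P : Subgroup G) := by
    intro T hT
    obtain ⟨P', hP'⟩ := hT.exists_le_sylow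
    have hcP : Nat.card ↥(P' : Subgroup G) = Nat.card ↥(P : Subgroup G) := by
      rw [Sylow.card_eq_multiplicity, Sylow.card_eq_multiplicity]
    exact hcP ▸ Subgroup.card_le_of_le hP'
  by_cases hucen : ∀ g ∈ (P : Subgroup G), g * u = u * g
  · -- `u` central in `P`
    have hPC : (P : Subgroup G) ≤ C := by
      intro g hg
      apply hcenC
      rw [Subgroup.mem_centralizer_singleton_iff]
      exact hucen g hg
    have h2 : IsPGroup 2 ↥(Q ⊔ (P : Subgroup G)) :=
      IsPGroup.to_sup_of_normal_left' hQ2 P.isPGroup' (hPC.trans hCQ)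
    have h3 := P.is_maximal' h2 le_sup_right
    have hQP : Q ≤ (P : Subgroup G) := by
      rw [← h3]
      exact le_sup_left
    exact hQP.trans hPU
  · -- `u` not central
    push Not at hucen
    obtain ⟨t, htP, htu⟩ := hucen
    have hcyc : IsCyclic ↥((P : Subgroup G) ⊓ centralizer ((P : Subgroup G) : Set G)) := by
      by_contra hnc
      have := hUZ hnc huU
      exact htu (this t htP)
    -- central involution `z`
    haveI hN : (U.subgroupOf (P : Subgroup G)).Normal :=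
      (Subgroup.normal_subgroupOf_iff_le_normalizer hUP).mpr hPU
    have hNne : U.subgroupOf (P : Subgroup G) ≠ ⊥ := by
      intro h
      have hUb : U = ⊥ := by
        rw [eq_bot_iff]
        intro x hx
        have h1 : (⟨x, hUP hx⟩ : ↥(P : Subgroup G)) ∈ U.subgroupOf (P : Subgroup G) :=
          Subgroup.mem_subgroupOf.mpr hx
        rw [h, Subgroup.mem_bot] at h1
        exact Subgroup.mem_bot.mpr (congrArg Subtype.val h1)
      rw [hUb, Subgroup.card_bot] at hU4
      omega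
    obtain ⟨z', hz'N, hz'1, hz'c⟩ :=
      Cfsg.Agent.Lib.Helper12.exists_ne_one_mem_center_of_normal P.isPGroup'
        (U.subgroupOf (P : Subgroup G)) hNne
    obtain ⟨z, hzP⟩ := z'
    have hzU : z ∈ U := Subgroup.mem_subgroupOf.mp hz'N
    have hz1 : z ≠ 1 := fun h => hz'1 (Subtype.ext h)
    have hzc : ∀ g ∈ (P : Subgroup G), g * z = z * g := by
      intro g hg
      have := Subgroup.mem_center_iff.mp hz'c ⟨g, hg⟩
      exact congrArg Subtype.val this
    have huz : u ≠ z := by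
      rintro rfl
      exact htu (hzc t htP)
    have huP : u ∈ (P : Subgroup G) := hUP huU
    obtain ⟨P₀, hP₀def⟩ : ∃ P₀ : Subgroup G,
        P₀ = (P : Subgroup G) ⊓ centralizer ({u} : Set G) := ⟨_, rfl⟩
    have hP₀P : P₀ ≤ (P : Subgroup G) := hP₀def ▸ inf_le_left
    have hP₀C : P₀ ≤ C := (hP₀def ▸ inf_le_right : P₀ ≤ centralizer ({u} : Set G)).trans hcenC
    have hmemP₀ : ∀ x, x ∈ P₀ ↔ x ∈ (P : Subgroup G) ∧ x * u = u * x := by
      intro x
      rw [hP₀def, Subgroup.mem_inf, Subgroup.mem_centralizer_singleton_iff]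
    have hP₀2 : IsPGroup 2 ↥P₀ := P.isPGroup'.to_le hP₀P
    have hidx : Nat.card ↥(P : Subgroup G) ≤ 2 * Nat.card ↥P₀ := by
      rw [hP₀def]
      exact Cfsg.Agent.Lib.Helper4.CharTwoCrit.card_le_two_mul_centralizer (P : Subgroup G) U
        P.isPGroup' hUP hPU hU4 u huU
    have hP₁2 : IsPGroup 2 ↥(Q ⊔ P₀) :=
      IsPGroup.to_sup_of_normal_left' hQ2 hP₀2 (hP₀C.trans hCQ)
    have hP₁N : Q ⊔ P₀ ≤ normalizer (P₀ : Set G) :=
      le_normalizer_of_card_le P₀ (Q ⊔ P₀) le_sup_right ((hcardle _ hP₁2).trans hidx)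
    have hzP₀ : z ∈ P₀ := (hmemP₀ z).mpr ⟨hzP, (hzc u huP).symm⟩
    -- main claim
    have hmain : ∀ q ∈ Q, q * z * q⁻¹ ∈ U := by
      intro q hq
      have hqN : q ∈ normalizer (P₀ : Set G) := hP₁N (le_sup_left (a := Q) hq)
      have hqN' : q⁻¹ ∈ normalizer (P₀ : Set G) := Subgroup.inv_mem _ hqN
      have hw0 : q * z * q⁻¹ ∈ P₀ := (Subgroup.mem_normalizer_iff.mp hqN z).mp hzP₀
      apply mem_of_central_involution (P : Subgroup G) U hUP hPU hU4 hU2 hcyc hzU hz1 hzc huU hu1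
        htP htu (hP₀P hw0)
      · intro x hx hxu
        have hx0 : x ∈ P₀ := (hmemP₀ x).mpr ⟨hx, hxu⟩
        have h1 : q⁻¹ * x * q⁻¹⁻¹ ∈ P₀ := (Subgroup.mem_normalizer_iff.mp hqN' x).mp hx0
        have h2 := hzc _ (hP₀P h1)
        calc x * (q * z * q⁻¹) = q * ((q⁻¹ * x * q⁻¹⁻¹) * z) * q⁻¹ := by group
          _ = q * (z * (q⁻¹ * x * q⁻¹⁻¹)) * q⁻¹ := by rw [h2]
          _ = (q * z * q⁻¹) * x := by group
      · calc (q * z * q⁻¹) * (q * z * q⁻¹) = q * (z * z) * q⁻¹ := by group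
          _ = 1 := by rw [hU2 z hzU]; group
    intro q hq
    apply Cfsg.Agent.Lib.Helper1.mem_normalizer_of_forall_conj_mem
    intro x hx
    have hqu : q * u * q⁻¹ = u := by rw [hCc q (hQC hq)]; group
    rcases mem_four U hU4 hU2 hzU huU hz1 hu1 huz hx with h | h | h | h
    · rw [h]
      simp
    · rw [h]
      exact hmain q hq
    · rw [h, hqu]
      exact huU
    · rw [h]
      have : q * (u * z) * q⁻¹ = (q * u * q⁻¹) * (q * z * q⁻¹) := by group
      rw [this, hqu]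
      exact U.mul_mem huU (hmain q hq)

/-- `U ≤ O_2(C_G(u))` -/
theorem le_pCore_centralizer [Finite G] (P : Sylow 2 G) (U : Subgroup G)
    (hUP : U ≤ (P : Subgroup G)) (hPU : (P : Subgroup G) ≤ normalizer (U : Set G))
    (hU4 : Nat.card ↥U = 4) (hU2 : ∀ x ∈ U, x * x = 1)
    (hUZ : ¬ IsCyclic ↥((P : Subgroup G) ⊓ centralizer ((P : Subgroup G) : Set G)) →
      U ≤ centralizer ((P : Subgroup G) : Set G))
    {u : G} (huU : u ∈ U) (hu1 : u ≠ 1)
    (hchar : centralizer (Cfsg.pCore 2 ↥(normalizer ((zpowers u : Subgroup G) : Set G)) :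
        Set ↥(normalizer ((zpowers u : Subgroup G) : Set G))) ≤
      Cfsg.pCore 2 ↥(normalizer ((zpowers u : Subgroup G) : Set G))) :
    U ≤ (Cfsg.pCore 2 ↥(normalizer ((zpowers u : Subgroup G) : Set G))).map
      (normalizer ((zpowers u : Subgroup G) : Set G)).subtype := by
  classical
  have hQN := pCore_le_normalizer P U hUP hPU hU4 hU2 hUZ huU hu1
  obtain ⟨C, hCdef⟩ : ∃ C : Subgroup G, C = normalizer ((zpowers u : Subgroup G) : Set G) :=
    ⟨_, rfl⟩
  rw [← hCdef] at hQN hchar ⊢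
  have hCc : ∀ c ∈ C, c * u = u * c := fun c hc =>
    comm_of_mem_normalizer_zpowers (hU2 u huU) hu1 (hCdef ▸ hc)
  have hcenC : centralizer ({u} : Set G) ≤ C :=
    hCdef ▸ Cfsg.Agent.Lib.Helper4.TransGen.centralizer_le_normalizer_zpowers u
  have hUcomm : ∀ x ∈ U, ∀ y ∈ U, x * y = y * x := by
    intro x hx y hy
    have h1 := hU2 _ (U.mul_mem hx hy)
    have hx' : x⁻¹ = x := inv_eq_of_mul_eq_one_right (hU2 x hx)
    have hy' : y⁻¹ = y := inv_eq_of_mul_eq_one_right (hU2 y hy)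
    have h2 : (x * y)⁻¹ = x * y := inv_eq_of_mul_eq_one_right h1
    calc x * y = (x * y)⁻¹ := h2.symm
      _ = y⁻¹ * x⁻¹ := by group
      _ = y * x := by rw [hx', hy']
  have huC : u ∈ C := hcenC (Subgroup.mem_centralizer_singleton_iff.mpr rfl)
  intro x hx
  have hxC : x ∈ C := hcenC (Subgroup.mem_centralizer_singleton_iff.mpr (hUcomm x hx u huU))
  have hu' : u⁻¹ = u := inv_eq_of_mul_eq_one_right (hU2 u huU)
  have hstab : (⟨x, hxC⟩ : ↥C) ∈ Cfsg.pCore 2 ↥C := by
    apply mem_pCore_of_stab (⟨u, huC⟩ : ↥C)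
    · apply Subtype.ext
      simp [pow_two, hU2 u huU]
    · intro g
      apply Subtype.ext
      simp only [Subgroup.coe_mul]
      exact hCc g g.2
    · exact hchar
    · intro q' hq'
      have hqQ : (q' : G) ∈ (Cfsg.pCore 2 ↥C).map C.subtype := ⟨q', hq', rfl⟩
      have hqN : (q' : G) ∈ normalizer (U : Set G) := hQN hqQ
      have hqu : (q' : G) * u * (q' : G)⁻¹ = u := by rw [hCc _ q'.2]; group
      have hgoal : x * (q' : G) * x⁻¹ * (q' : G)⁻¹ = 1 ∨ x * (q' : G) * x⁻¹ * (q' : G)⁻¹ = u := by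
        have hrew : x * (q' : G) * x⁻¹ * (q' : G)⁻¹ = x * ((q' : G) * x * (q' : G)⁻¹)⁻¹ := by
          group
        rw [hrew]
        by_cases hx1 : x = 1
        · left
          rw [hx1]
          group
        by_cases hxu : x = u
        · left
          rw [hxu, hqu]
          group
        have hconjU : (q' : G) * x * (q' : G)⁻¹ ∈ U :=
          (Subgroup.mem_normalizer_iff.mp hqN x).mp hx
        rcases mem_four U hU4 hU2 huU hx hu1 hx1 hxu hconjU with h | h | h | h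
        · exfalso
          apply hx1
          have : x = (q' : G)⁻¹ * ((q' : G) * x * (q' : G)⁻¹) * (q' : G) := by group
          rw [this, h]
          group
        · exfalso
          apply hxu
          have h5 : x = (q' : G)⁻¹ * ((q' : G) * x * (q' : G)⁻¹) * (q' : G) := by group
          rw [h5, h]
          have h6 : (q' : G)⁻¹ * u * (q' : G) = (q' : G)⁻¹ * ((q' : G) * u * (q' : G)⁻¹) * (q' : G) := by
            rw [hqu]
          rw [h6]
          group
        · left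
          rw [h]
          group
        · right
          rw [h]
          have : x * (x * u)⁻¹ = x * u⁻¹ * x⁻¹ := by group
          rw [this, hu', ← hUcomm u huU x hx]
          group
      rcases hgoal with h | h
      · left
        apply Subtype.ext
        simpa using h
      · right
        apply Subtype.ext
        simpa using h
  exact ⟨⟨x, hxC⟩, hstab, rfl⟩

/-- **S1957 engine.** -/
theorem four_group_centralizes [Finite G] (P : Sylow 2 G) (U : Subgroup G)
    (hUP : U ≤ (P : Subgroup G)) (hPU : (P : Subgroup G) ≤ normalizer (U : Set G))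
    (hU4 : Nat.card ↥U = 4) (hU2 : ∀ x ∈ U, x * x = 1)
    (hUZ : ¬ IsCyclic ↥((P : Subgroup G) ⊓ centralizer ((P : Subgroup G) : Set G)) →
      U ≤ centralizer ((P : Subgroup G) : Set G))
    (hchar : ∀ u ∈ U, u ≠ 1 →
      centralizer (Cfsg.pCore 2 ↥(normalizer ((zpowers u : Subgroup G) : Set G)) :
        Set ↥(normalizer ((zpowers u : Subgroup G) : Set G))) ≤
      Cfsg.pCore 2 ↥(normalizer ((zpowers u : Subgroup G) : Set G)))
    (K : Subgroup G) (hK : Odd (Nat.card ↥K)) (hUK : U ≤ normalizer (K : Set G)) :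
    U ≤ centralizer (K : Set G) := by
  classical
  haveI : Fact (Nat.Prime 2) := ⟨Nat.prime_two⟩
  have hUcomm : ∀ x ∈ U, ∀ y ∈ U, x * y = y * x := by
    intro x hx y hy
    have h1 := hU2 _ (U.mul_mem hx hy)
    have hx' : x⁻¹ = x := inv_eq_of_mul_eq_one_right (hU2 x hx)
    have hy' : y⁻¹ = y := inv_eq_of_mul_eq_one_right (hU2 y hy)
    have h2 : (x * y)⁻¹ = x * y := inv_eq_of_mul_eq_one_right h1
    calc x * y = (x * y)⁻¹ := h2.symm
      _ = y⁻¹ * x⁻¹ := by group
      _ = y * x := by rw [hx', hy']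
  have hUel : Cfsg.IsElementaryAbelian 2 U := by
    refine ⟨⟨⟨fun a b => Subtype.ext ?_⟩⟩, fun x hx => by rw [pow_two]; exact hU2 x hx⟩
    exact hUcomm _ a.2 _ b.2
  have hU1 : U ≠ ⊥ := by
    intro h
    rw [h, Subgroup.card_bot] at hU4
    omega
  have hcop : (Nat.card ↥U).Coprime (Nat.card ↥K) := by
    rw [hU4]
    have : (2 ^ 2).Coprime (Nat.card ↥K) :=
      Nat.Coprime.pow_left 2 (Nat.coprime_two_left.mpr hK)
    exact this
  have hgoal : K ≤ centralizer (U : Set G) := by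
    by_contra hcon
    obtain ⟨B, hBU, hBidx, hBX⟩ :=
      Cfsg.Agent.Lib.Helper8.exists_index_p_centralizer_not_le 2 U K (centralizer (U : Set G))
        hUel hU1 hUK hcop hcon
    have hBc := Cfsg.Agent.Lib.Helper4.card_mul_relIndex hBU
    rw [hBidx, hU4] at hBc
    have hB1 : B ≠ ⊥ := by
      intro h
      rw [h, Subgroup.card_bot] at hBc
      omega
    obtain ⟨⟨u, huB⟩, hu1'⟩ := (Subgroup.ne_bot_iff_exists_ne_one.mp hB1)
    have hu1 : u ≠ 1 := fun h => hu1' (Subtype.ext h)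
    have huU : u ∈ U := hBU huB
    apply hBX
    have hUQ := le_pCore_centralizer P U hUP hPU hU4 hU2 hUZ huU hu1 (hchar u huU hu1)
    obtain ⟨C, hCdef⟩ : ∃ C : Subgroup G, C = normalizer ((zpowers u : Subgroup G) : Set G) :=
      ⟨_, rfl⟩
    rw [← hCdef] at hUQ
    obtain ⟨Q, hQdef⟩ : ∃ Q : Subgroup G, Q = (Cfsg.pCore 2 ↥C).map C.subtype := ⟨_, rfl⟩
    rw [← hQdef] at hUQ
    have hcenC : centralizer ({u} : Set G) ≤ C :=
      hCdef ▸ Cfsg.Agent.Lib.Helper4.TransGen.centralizer_le_normalizer_zpowers u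
    have hQ2 : IsPGroup 2 ↥Q := hQdef ▸ (Cfsg.Agent.Lib.Helper1.pCore_isPGroup 2 _).map _
    haveI hQn : (Cfsg.pCore 2 ↥C).Normal := Cfsg.Agent.Lib.Helper24.pCore_normal' 2
    have hCQ : C ≤ normalizer (Q : Set G) := by
      intro l hl
      apply Cfsg.Agent.Lib.Helper1.mem_normalizer_of_forall_conj_mem
      intro q hq
      rw [hQdef] at hq ⊢
      obtain ⟨w, hw, rfl⟩ := hq
      exact ⟨(⟨l, hl⟩ : ↥C) * w * (⟨l, hl⟩ : ↥C)⁻¹, hQn.conj_mem w hw _, rfl⟩
    have hQK : Q ⊓ K = ⊥ := by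
      apply Subgroup.inf_eq_bot_of_coprime
      obtain ⟨k, hk⟩ := IsPGroup.iff_card.mp hQ2
      rw [hk]
      exact Nat.Coprime.pow_left k (Nat.coprime_two_left.mpr hK)
    rintro y ⟨hyK, hyB⟩
    have hyu : y ∈ centralizer ({u} : Set G) := by
      rw [Subgroup.mem_centralizer_singleton_iff]
      exact (hyB u huB).symm
    have hyC : y ∈ C := hcenC hyu
    intro x hx
    have hc1 : x * y * x⁻¹ * y⁻¹ ∈ Q ⊓ K := by
      constructor
      · have h1 : y * x⁻¹ * y⁻¹ ∈ Q :=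
          (Subgroup.mem_normalizer_iff.mp (hCQ hyC) x⁻¹).mp (Q.inv_mem (hUQ hx))
        have h2 : x * y * x⁻¹ * y⁻¹ = x * (y * x⁻¹ * y⁻¹) := by group
        rw [h2]
        exact Q.mul_mem (hUQ hx) h1
      · have h1 : x * y * x⁻¹ ∈ K := (Subgroup.mem_normalizer_iff.mp (hUK hx) y).mp hyK
        exact K.mul_mem h1 (K.inv_mem hyK)
    rw [hQK, Subgroup.mem_bot] at hc1
    calc x * y = (x * y * x⁻¹ * y⁻¹) * (y * x) := by group
      _ = y * x := by rw [hc1, one_mul]
  intro x hx y hy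
  exact (hgoal hy x hx).symm

end Cfsg.Agent.Lib.Helper4.FourGroup
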