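import Mathlib
import Cfsg.Agent.Lib.Helper4.A10c
import Cfsg.Agent.Lib.Helper4.OT2

set_option autoImplicit false

namespace Cfsg.Agent.Lib.Helper4.Frob19

open Cfsg.Agent.Lib.Helper4.OT Cfsg.Agent.Lib.Helper4.A10 SemidirectProduct

/-- `3 × 3` matrices mod `7`. -/
abbrev M37 := Matrix (Fin 3) (Fin 3) (ZMod 7)

/-- a matrix of order `19`. -/
def fa : M37 := !![0, 0, 1; 1, 0, 0; 0, 1, 2]

set_option maxRecDepth 100000 in
theorem fa_pow : fa ^ 19 = 1 := by decide +kernel

set_option maxRecDepth 100000 in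
theorem fa_ne : fa ≠ 1 := by decide +kernel

set_option maxRecDepth 100000 in
theorem fa_gs : ∀ j : Fin 19, j = 0 ∨ ∑ i : Fin 19, (fa ^ (j : ℕ)) ^ (i : ℕ) = 0 := by
  decide +kernel

/-- the unit. -/
def fu : M37ˣ := Units.ofPowEqOne fa 19 fa_pow (by norm_num)

theorem fu_val : (fu : M37) = fa := rfl

theorem fu_pow : fu ^ 19 = 1 := Units.ext (by rw [Units.val_pow_eq_pow_val, fu_val, fa_pow]; rfl)

/-- the cyclic group of order `19`. -/
def FX : Subgroup M37ˣ := Subgroup.zpowers fu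

theorem FX_cert {x : M37ˣ} (hx : x ∈ FX) : x ^ 19 = 1 ∧ (x = 1 ∨ gs (x : M37) 19 = 0) := by
  obtain ⟨k, rfl⟩ := Subgroup.mem_zpowers_iff.mp hx
  refine ⟨by rw [← zpow_natCast, ← zpow_mul, mul_comm, zpow_mul, zpow_natCast, fu_pow, one_zpow], ?_⟩
  have h1 : fu ^ k = fu ^ (k % 19) := zpow_eq_zpow_emod k (by exact_mod_cast fu_pow)
  have h2 : 0 ≤ k % 19 := Int.emod_nonneg _ (by norm_num)
  have h3 : k % 19 < 19 := Int.emod_lt_of_pos _ (by norm_num)
  obtain ⟨j, hj⟩ := Int.eq_ofNat_of_zero_le h2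
  rw [h1, hj, zpow_natCast]
  have hj19 : j < 19 := by omega
  rcases fa_gs ⟨j, hj19⟩ with h | h
  · left
    have : j = 0 := by simpa using congrArg Fin.val h
    rw [this, pow_zero]
  · right
    rw [gs, Units.val_pow_eq_pow_val, fu_val, ← Fin.sum_univ_eq_sum_range (fun i => (fa ^ j) ^ i) 19]
    exact h

/-- the module `(𝔽₇³)ᵏ`. -/
def Vk (k : ℕ) : Type := Fin k → Fin 3 → ZMod 7

instance (k : ℕ) : AddCommGroup (Vk k) := inferInstanceAs (AddCommGroup (Fin k → Fin 3 → ZMod 7))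

instance (k : ℕ) : Finite (Vk k) := inferInstanceAs (Finite (Fin k → Fin 3 → ZMod 7))

instance (k : ℕ) : SMul M37 (Vk k) :=
  ⟨fun r m => ((fun j => r.mulVec (m j)) : Fin k → Fin 3 → ZMod 7)⟩

theorem Vk.ext' {k : ℕ} {m n : Vk k} (h1 : ∀ j, m j = n j) : m = n := funext h1

instance (k : ℕ) : Module M37 (Vk k) where
  one_smul m := Vk.ext' (fun j => by
    show (1 : M37).mulVec (m j) = m j
    exact Matrix.one_mulVec _)
  mul_smul r s m := Vk.ext' (fun j => by
    show (r * s).mulVec (m j) = r.mulVec (s.mulVec (m j))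
    exact (Matrix.mulVec_mulVec _ _ _).symm)
  smul_zero r := Vk.ext' (fun j => by
    show r.mulVec (0 : Fin 3 → ZMod 7) = 0
    exact Matrix.mulVec_zero _)
  smul_add r m n := Vk.ext' (fun j => by
    show r.mulVec (m j + n j) = r.mulVec (m j) + r.mulVec (n j)
    exact Matrix.mulVec_add _ _ _)
  add_smul r s m := Vk.ext' (fun j => by
    show (r + s).mulVec (m j) = r.mulVec (m j) + s.mulVec (m j)
    exact Matrix.add_mulVec _ _ _)
  zero_smul m := Vk.ext' (fun j => by
    show (0 : M37).mulVec (m j) = 0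
    exact Matrix.zero_mulVec _)

/-- the action. -/
def phiF (k : ℕ) : FX →* MulAut (Multiplicative (Vk k)) :=
  ((MulAutMultiplicative (Vk k)).symm.toMonoidHom.comp
    (DistribMulAction.toAddAut M37ˣ (Vk k))).comp FX.subtype

theorem phiF_apply {k : ℕ} (x : FX) (n : Multiplicative (Vk k)) :
    Multiplicative.toAdd (phiF k x n) = ((x : M37ˣ) : M37) • Multiplicative.toAdd n := rfl

theorem Lp_phiF {k : ℕ} (x : FX) (n : Multiplicative (Vk k)) (d : ℕ) :
    Multiplicative.toAdd (Lp (phiF k) x n d) = gs ((x : M37ˣ) : M37) d • Multiplicative.toAdd n := by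
  induction d with
  | zero => simp [Lp, gs]
  | succ d ih =>
    rw [Lp, toAdd_mul, phiF_apply, ih, gs_succ, add_smul, one_smul, mul_smul]

/-- the Frobenius groups `7^{3k} : 19`. -/
abbrev FH (k : ℕ) := Multiplicative (Vk k) ⋊[phiF k] FX

theorem seven_smul {k : ℕ} (m : Vk k) : 7 • m = 0 := by
  apply Vk.ext'
  intro j
  funext i
  show (7 : ℕ) • ((m j i) : ZMod 7) = 0
  have : ((7 : ℕ) : ZMod 7) = 0 := by decide
  rw [nsmul_eq_mul, this, zero_mul]

theorem FH_pow {k : ℕ} (h : FH k) : h ^ 7 = 1 ∨ h ^ 19 = 1 := by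
  obtain ⟨h19, hx | hx⟩ := FX_cert h.right.2
  · left
    rw [sd_pow_eq_one_iff]
    have hr : h.right = 1 := Subtype.ext hx
    refine ⟨by rw [hr, one_pow], ?_⟩
    apply Multiplicative.toAdd.injective
    rw [Lp_phiF, hr]
    have : gs ((((1 : FX) : M37ˣ)) : M37) 7 = (7 : ℕ) • (1 : M37) := by simp [gs]
    rw [this, smul_assoc, one_smul, seven_smul]
    rfl
  · right
    rw [sd_pow_eq_one_iff]
    refine ⟨Subtype.ext h19, ?_⟩
    apply Multiplicative.toAdd.injective
    rw [Lp_phiF, hx, zero_smul]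
    rfl

/-- the spectrum of the Frobenius group. -/
def SF : Finset ℕ := {1, 7, 19}

theorem FH_spectrum (k : ℕ) : Set.range (orderOf : FH (k + 1) → ℕ) = ↑SF := by
  apply Set.eq_of_subset_of_subset
  · rintro d ⟨g, rfl⟩
    rcases FH_pow g with h | h
    · have h1 := orderOf_dvd_of_pow_eq_one h
      rcases (Nat.dvd_prime (by norm_num : Nat.Prime 7)).mp h1 with h2 | h2 <;> rw [h2] <;> simp [SF]
    · have h1 := orderOf_dvd_of_pow_eq_one h
      rcases (Nat.dvd_prime (by norm_num : Nat.Prime 19)).mp h1 with h2 | h2 <;> rw [h2] <;>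
        simp [SF]
  · intro d hd
    have hd' : d = 1 ∨ d = 7 ∨ d = 19 := by simpa [SF] using hd
    rcases hd' with rfl | rfl | rfl
    · exact ⟨1, orderOf_one⟩
    · let v : Vk (k + 1) := (fun _ => Pi.single 0 1 : Fin (k + 1) → Fin 3 → ZMod 7)
      refine ⟨inl (Multiplicative.ofAdd v), ?_⟩
      rw [orderOf_injective (inl : Multiplicative (Vk (k + 1)) →* FH (k + 1)) inl_injective]
      haveI : Fact (Nat.Prime 7) := ⟨by norm_num⟩
      apply orderOf_eq_prime
      · rw [← ofAdd_nsmul, seven_smul]; rfl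
      · intro h
        have h1 : v = 0 := Multiplicative.ofAdd.injective h
        have h2 : v 0 0 = 1 := by simp [v]
        rw [h1] at h2
        exact zero_ne_one h2
    · refine ⟨inr ⟨fu, Subgroup.mem_zpowers fu⟩, ?_⟩
      rw [orderOf_injective (inr : FX →* FH (k + 1)) inr_injective, ← Subgroup.orderOf_coe]
      haveI : Fact (Nat.Prime 19) := ⟨by norm_num⟩
      apply orderOf_eq_prime fu_pow
      intro h
      exact fa_ne (by rw [← fu_val, h]; rfl)

instance (k : ℕ) : Finite (FH k) := sd_finite _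

theorem card_FH_gt (k : ℕ) : k < Nat.card (FH k) := by
  rw [natCard_sd]
  have h1 : Nat.card (Multiplicative (Vk k)) = (7 ^ 3) ^ k := by
    show Nat.card (Fin k → Fin 3 → ZMod 7) = _
    rw [Nat.card_pi, Nat.card_pi]
    simp
  have h2 : 0 < Nat.card FX := Nat.card_pos
  have h3 : k < (7 ^ 3) ^ k := Nat.lt_pow_self (by norm_num)
  rw [h1]
  exact lt_of_lt_of_le h3 (Nat.le_mul_of_pos_right _ h2)

end Cfsg.Agent.Lib.Helper4.Frob19
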