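import Mathlib

/-!
# A 2-subgroup of `GL₃(F)`, `|F|` odd, embeds in `GL₂(F) × Fˣ`

Leaf `L_A` of S1906 (planner helper22).  A 2-group acting on the `1 + q + q²` points of the
projective plane fixes a point; after conjugation that point is `F e₂`, every matrix is block
lower triangular, and the kernel of `x ↦ (A_x, l_x)` is unipotent of odd exponent, hence trivial.
-/

namespace Cfsg.Agent.Lib.Helper4.GL3Line

open scoped LinearAlgebra.Projectivization
open Matrix

variable {F : Type*} [Field F]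

/-- lower unitriangular matrix with only the last row non-trivial -/
def Lm (a b : F) : Matrix (Fin 3) (Fin 3) F := !![1, 0, 0; 0, 1, 0; a, b, 1]

lemma Lm_mul (a b c d : F) : Lm a b * Lm c d = Lm (a + c) (b + d) := by
  ext i j
  fin_cases i <;> fin_cases j <;> simp [Lm, Matrix.mul_apply, Fin.sum_univ_three, add_comm]

lemma Lm_zero : Lm (0 : F) 0 = 1 := by
  ext i j
  fin_cases i <;> fin_cases j <;> simp [Lm]

lemma Lm_pow (a b : F) (m : ℕ) : Lm a b ^ m = Lm (m * a) (m * b) := by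
  induction m with
  | zero => simp [Lm_zero]
  | succ m ih =>
    rw [pow_succ, ih, Lm_mul]
    congr 1 <;> push_cast <;> ring

/-- the last column is a multiple of `e₂` -/
def IsLT (M : Matrix (Fin 3) (Fin 3) F) : Prop := M 0 2 = 0 ∧ M 1 2 = 0

/-- the upper left `2 × 2` block -/
def blk (M : Matrix (Fin 3) (Fin 3) F) : Matrix (Fin 2) (Fin 2) F :=
  !![M 0 0, M 0 1; M 1 0, M 1 1]

lemma blk_one : blk (1 : Matrix (Fin 3) (Fin 3) F) = 1 := by
  ext i j
  fin_cases i <;> fin_cases j <;> simp [blk]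

lemma blk_mul {M N : Matrix (Fin 3) (Fin 3) F} (hM : IsLT M) : blk (M * N) = blk M * blk N := by
  obtain ⟨h0, h1⟩ := hM
  ext i j
  fin_cases i <;> fin_cases j <;>
    simp [blk, Matrix.mul_apply, Fin.sum_univ_three, h0, h1]

lemma cor_mul {M N : Matrix (Fin 3) (Fin 3) F} (hN : IsLT N) :
    (M * N) 2 2 = M 2 2 * N 2 2 := by
  obtain ⟨h0, h1⟩ := hN
  simp [Matrix.mul_apply, Fin.sum_univ_three, h0, h1]

lemma eq_Lm {M : Matrix (Fin 3) (Fin 3) F} (hM : IsLT M) (hb : blk M = 1) (hc : M 2 2 = 1) :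
    M = Lm (M 2 0) (M 2 1) := by
  obtain ⟨h0, h1⟩ := hM
  have e00 : M 0 0 = 1 := by simpa [blk] using congrFun (congrFun hb 0) 0
  have e01 : M 0 1 = 0 := by simpa [blk] using congrFun (congrFun hb 0) 1
  have e10 : M 1 0 = 0 := by simpa [blk] using congrFun (congrFun hb 1) 0
  have e11 : M 1 1 = 1 := by simpa [blk] using congrFun (congrFun hb 1) 1
  ext i j
  fin_cases i <;> fin_cases j <;> simp [Lm, h0, h1, e00, e01, e10, e11, hc]

/-- a matrix in `GL₃` whose last column is a given non-zero vector -/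
lemma exists_GL_col (v : Fin 3 → F) (hv : v ≠ 0) :
    ∃ s : GL (Fin 3) F, s.1 *ᵥ (Pi.single 2 1) = v := by
  have key : ∀ (M : Matrix (Fin 3) (Fin 3) F), M.det ≠ 0 → (∀ i, M i 2 = v i) →
      ∃ s : GL (Fin 3) F, s.1 *ᵥ (Pi.single 2 1) = v := by
    intro M hdet hcol
    refine ⟨Matrix.GeneralLinearGroup.mkOfDetNeZero M hdet, ?_⟩
    ext i
    simp [Matrix.GeneralLinearGroup.mkOfDetNeZero, hcol]
  by_cases h2 : v 2 = 0
  · by_cases h1 : v 1 = 0
    · have h0 : v 0 ≠ 0 := by
        intro h0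
        apply hv
        ext i
        fin_cases i <;> simp [h0, h1, h2]
      refine key !![0, 0, v 0; 1, 0, v 1; 0, 1, v 2] ?_ ?_
      · simpa [Matrix.det_fin_three] using h0
      · intro i; fin_cases i <;> simp
    · refine key !![1, 0, v 0; 0, 0, v 1; 0, 1, v 2] ?_ ?_
      · simpa [Matrix.det_fin_three] using h1
      · intro i; fin_cases i <;> simp
  · refine key !![1, 0, v 0; 0, 1, v 1; 0, 0, v 2] ?_ ?_
    · simpa [Matrix.det_fin_three] using h2
    · intro i; fin_cases i <;> simp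

/-- a 2-group in `GL₃(F)`, `|F|` odd, fixes a line -/
lemma exists_fixed_vec [Fintype F] {X : Type*} [Group X] (hX : IsPGroup 2 X)
    (hF : Odd (Fintype.card F)) (f : X →* GL (Fin 3) F) :
    ∃ v : Fin 3 → F, v ≠ 0 ∧ ∀ x, ∃ c : F, (f x).1 *ᵥ v = c • v := by
  letI : MulAction X (ℙ F (Fin 3 → F)) := MulAction.compHom _ f
  have hcard : Nat.card (ℙ F (Fin 3 → F)) = 1 + Fintype.card F + Fintype.card F ^ 2 := by
    rw [Projectivization.card_of_finrank F (Fin 3 → F) (n := 3) (by simp)]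
    simp [Finset.sum_range_succ]
  have hnd : ¬ 2 ∣ Nat.card (ℙ F (Fin 3 → F)) := by
    rw [hcard]
    obtain ⟨m, hm⟩ := hF
    rw [hm]
    intro h
    have : (1 + (2 * m + 1) + (2 * m + 1) ^ 2) = 2 * (2 * m ^ 2 + 3 * m + 1) + 1 := by ring
    omega
  haveI : Fact (Nat.Prime 2) := ⟨Nat.prime_two⟩
  obtain ⟨p, hp⟩ := hX.nonempty_fixed_point_of_prime_not_dvd_card (ℙ F (Fin 3 → F)) hnd
  induction p using Projectivization.ind with
  | _ v hv =>
    refine ⟨v, hv, fun x => ?_⟩
    have h1 : x • Projectivization.mk F v hv = Projectivization.mk F v hv := hp x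
    have h2 : x • Projectivization.mk F v hv = (f x) • Projectivization.mk F v hv := rfl
    rw [h2, Projectivization.smul_mk, Projectivization.mk_eq_mk_iff] at h1
    obtain ⟨a, ha⟩ := h1
    refine ⟨(a : F), ?_⟩
    have h3 : (f x) • v = (f x).1 *ᵥ v := rfl
    rw [← h3, ← ha]
    rfl

/-- **Leaf L_A of S1906.** -/
theorem exists_injective_hom_GL2_of_GL3 {X : Type*} [Group X] (hX : IsPGroup 2 X)
    {F : Type*} [Field F] [Fintype F] (hF : Odd (Fintype.card F)) (f : X →* GL (Fin 3) F)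
    (hf : Function.Injective f) : ∃ ρ : X →* GL (Fin 2) F × Fˣ, Function.Injective ρ := by
  obtain ⟨v, hv, hfix⟩ := exists_fixed_vec hX hF f
  obtain ⟨s, hs⟩ := exists_GL_col v hv
  let f' : X →* GL (Fin 3) F := (MulAut.conj s⁻¹).toMonoidHom.comp f
  have hf'val : ∀ x, (f' x).1 = (s⁻¹).1 * (f x).1 * s.1 := by
    intro x
    simp [f']
  have hss : (s⁻¹).1 * s.1 = 1 := by
    rw [← Units.val_mul]; simp
  have hLT : ∀ x, IsLT (f' x).1 := by
    intro x
    obtain ⟨c, hc⟩ := hfix x
    have h1 : (f' x).1 *ᵥ (Pi.single 2 1) = c • Pi.single 2 1 := by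
      rw [hf'val, ← Matrix.mulVec_mulVec, ← Matrix.mulVec_mulVec, hs, hc, Matrix.mulVec_smul,
        ← hs, Matrix.mulVec_mulVec, hss, Matrix.one_mulVec]
    constructor
    · have := congrFun h1 0; simpa using this
    · have := congrFun h1 1; simpa using this
  let ρ₀ : X →* Matrix (Fin 2) (Fin 2) F × F :=
    { toFun := fun x => (blk (f' x).1, (f' x).1 2 2)
      map_one' := by simp [blk_one]
      map_mul' := fun x y => by
        rw [map_mul, Units.val_mul, blk_mul (hLT x), cor_mul (hLT y)]; rfl }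
  refine ⟨(MulEquiv.prodUnits.toMonoidHom).comp ρ₀.toHomUnits, ?_⟩
  rw [injective_iff_map_eq_one]
  intro x hx
  have h0 : ρ₀ x = 1 := by
    have h1 : ρ₀.toHomUnits x = 1 := MulEquiv.prodUnits.injective (by simpa using hx)
    have h2 := congrArg Units.val h1
    simpa [MonoidHom.coe_toHomUnits] using h2
  have hb : blk (f' x).1 = 1 := congrArg Prod.fst h0
  have hc : (f' x).1 2 2 = 1 := congrArg Prod.snd h0
  have hL := eq_Lm (hLT x) hb hc
  obtain ⟨k, hk⟩ := hX x
  have h2ne : (2 : F) ≠ 0 := by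
    apply Ring.two_ne_zero
    intro h
    have := FiniteField.even_card_of_char_two h
    obtain ⟨m, hm⟩ := hF
    omega
  have hpow : (f' x).1 ^ (2 ^ k) = 1 := by
    rw [← Units.val_pow_eq_pow_val, ← map_pow, hk, map_one, Units.val_one]
  rw [hL, Lm_pow] at hpow
  have ha : (f' x).1 2 0 = 0 := by
    have := congrFun (congrFun hpow 2) 0
    simpa [Lm, h2ne] using this
  have hbb : (f' x).1 2 1 = 0 := by
    have := congrFun (congrFun hpow 2) 1
    simpa [Lm, h2ne] using this
  rw [ha, hbb, Lm_zero] at hL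
  have hf'1 : f' x = 1 := Units.ext hL
  have hfx : f x = 1 := by
    have : s⁻¹ * f x * s⁻¹⁻¹ = 1 := hf'1
    have h3 : f x = s * 1 * s⁻¹ := by rw [← this]; group
    simpa using h3
  exact hf (by rw [hfx, map_one])

end Cfsg.Agent.Lib.Helper4.GL3Line
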