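import Mathlib

set_option autoImplicit false
open Pointwise

namespace Cfsg.Agent.Lib.Helper4
universe u

theorem inn_normal (H : Type u) [Group H] : ((MulAut.conj : H →* MulAut H).range).Normal := by
  constructor
  rintro _ ⟨h, rfl⟩ φ
  refine ⟨φ h, ?_⟩
  ext x
  simp [MulAut.conj_apply]

/-- Gaschütz: a normal subgroup inside the Frattini subgroup has its inner automorphisms inside
the Frattini subgroup of its automorphism group -/
theorem inn_le_frattini_aut {G : Type u} [Group G] [Finite G] (H : Subgroup G) [H.Normal]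
    (hH : H ≤ frattini G) :
    (MulAut.conj : ↥H →* MulAut ↥H).range ≤ frattini (MulAut ↥H) := by
  rw [frattini, Order.radical]
  apply le_iInf₂
  intro M hM
  by_contra hnot
  set I := (MulAut.conj : ↥H →* MulAut ↥H).range with hI
  have hIn : I.Normal := inn_normal H
  have hsup : I ⊔ M = ⊤ := by
    apply hM.2
    apply lt_of_le_of_ne le_sup_right
    intro h
    apply hnot
    rw [h]; exact le_sup_left
  let θ : G →* MulAut H := MulAut.conjNormal
  have hK : M.comap θ ⊔ frattini G = ⊤ := by
    apply top_le_iff.mp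
    intro g _
    have h1 : θ g ∈ I ⊔ M := by rw [hsup]; trivial
    rw [← SetLike.mem_coe, Subgroup.normal_mul] at h1
    obtain ⟨_, ⟨h, rfl⟩, m, hm, e⟩ := h1
    have e' : MulAut.conj h * m = θ g := e
    have h2 : θ ((h : G)⁻¹ * g) = m := by
      rw [map_mul, map_inv, ← e']
      show (MulAut.conjNormal (h : G))⁻¹ * (MulAut.conj h * m) = m
      rw [MulAut.conjNormal_val]; group
    have h3 : (h : G)⁻¹ * g ∈ M.comap θ := by rw [Subgroup.mem_comap, h2]; exact hm
    have : g = (h : G) * ((h : G)⁻¹ * g) := by group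
    rw [this]
    exact Subgroup.mul_mem _ (Subgroup.mem_sup_right (hH h.2)) (Subgroup.mem_sup_left h3)
  have hK' : M.comap θ = ⊤ := frattini_nongenerating hK
  apply hnot
  rintro _ ⟨h, rfl⟩
  have : (h : G) ∈ M.comap θ := by rw [hK']; trivial
  rw [Subgroup.mem_comap] at this
  have h4 : θ (h : G) = MulAut.conj h := MulAut.conjNormal_val
  rw [h4] at this
  exact this

end Cfsg.Agent.Lib.Helper4
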