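import Mathlib

namespace Cfsg.Agent.Lib.Helper4.GenerousOrbit

open Finset
open scoped Pointwise

variable {α : Type*} [Fintype α] [DecidableEq α] (G : Subgroup (Equiv.Perm α))

/-- generous `(k+1)`-transitivity -/
def Generous (k : ℕ) : Prop :=
  ∀ s : Finset α, s.card = k + 1 → ∀ σ : Equiv.Perm ↥s, ∃ g ∈ G, ∀ x : ↥s, g (x : α) = σ x

theorem Generous.exists_of_perm {G : Subgroup (Equiv.Perm α)} {k : ℕ} (hgen : Generous G k) (s : Finset α) (hs : s.card = k + 1)
    (τ : Equiv.Perm α) (hτ : ∀ x, τ x ∈ s ↔ x ∈ s) : ∃ g ∈ G, ∀ x ∈ s, g x = τ x := by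
  obtain ⟨g, hg, h⟩ := hgen s hs (τ.subtypePerm hτ)
  refine ⟨g, hg, fun x hx => ?_⟩
  have := h ⟨x, hx⟩
  rw [Equiv.Perm.subtypePerm_apply] at this
  exact this

/-- `G` is `k`-homogeneous. -/
theorem Generous.homogeneous {G : Subgroup (Equiv.Perm α)} {k : ℕ} (hgen : Generous G k) :
    ∀ (m : ℕ) (Γ Γ' : Finset α), Γ.card = k → Γ'.card = k → (Γ' \ Γ).card = m →
      ∃ g ∈ G, Γ.image g = Γ' := by
  intro m
  induction m with
  | zero =>
    intro Γ Γ' h1 h2 h3
    refine ⟨1, G.one_mem, ?_⟩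
    have hsub : Γ' ⊆ Γ := by
      rw [Finset.card_eq_zero, Finset.sdiff_eq_empty_iff_subset] at h3
      exact h3
    have : Γ' = Γ := Finset.eq_of_subset_of_card_le hsub (by rw [h1, h2])
    rw [this]
    ext x
    simp
  | succ m ih =>
    intro Γ Γ' h1 h2 h3
    have h4 : (Γ \ Γ').card = m + 1 := by
      have := Finset.card_sdiff_comm (s := Γ) (t := Γ') (by rw [h1, h2])
      rw [this, h3]
    obtain ⟨v, hv⟩ := Finset.card_pos.1 (by rw [h3]; exact Nat.succ_pos m)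
    obtain ⟨u, hu⟩ := Finset.card_pos.1 (by rw [h4]; exact Nat.succ_pos m)
    rw [Finset.mem_sdiff] at hu hv
    have huv : u ≠ v := fun h => hv.2 (h ▸ hu.1)
    -- the swap
    have hs : (insert v Γ).card = k + 1 := by
      rw [Finset.card_insert_of_notMem hv.2, h1]
    have hτ : ∀ x, Equiv.swap u v x ∈ insert v Γ ↔ x ∈ insert v Γ := by
      intro x
      by_cases hxu : x = u
      · subst hxu
        simp [hu.1]
      · by_cases hxv : x = v
        · subst hxv
          simp [hu.1]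
        · rw [Equiv.swap_apply_of_ne_of_ne hxu hxv]
    obtain ⟨g, hg, hgs⟩ := hgen.exists_of_perm (insert v Γ) hs (Equiv.swap u v) hτ
    -- image of Γ under g
    have himg : Γ.image g = insert v (Γ.erase u) := by
      ext x
      simp only [Finset.mem_image, Finset.mem_insert, Finset.mem_erase]
      constructor
      · rintro ⟨y, hy, rfl⟩
        rw [hgs y (Finset.mem_insert_of_mem hy)]
        by_cases hyu : y = u
        · subst hyu
          left
          exact Equiv.swap_apply_left _ _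
        · have hyv : y ≠ v := fun h => hv.2 (h ▸ hy)
          right
          rw [Equiv.swap_apply_of_ne_of_ne hyu hyv]
          exact ⟨hyu, hy⟩
      · rintro (rfl | ⟨hxu, hx⟩)
        · refine ⟨u, hu.1, ?_⟩
          rw [hgs u (Finset.mem_insert_of_mem hu.1)]
          exact Equiv.swap_apply_left _ _
        · have hxv : x ≠ v := fun h => hv.2 (h ▸ hx)
          refine ⟨x, hx, ?_⟩
          rw [hgs x (Finset.mem_insert_of_mem hx), Equiv.swap_apply_of_ne_of_ne hxu hxv]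
    have hcard1 : (insert v (Γ.erase u)).card = k := by
      rw [← himg, Finset.card_image_of_injective _ g.injective, h1]
    have hdiff : (Γ' \ insert v (Γ.erase u)).card = m := by
      have : Γ' \ insert v (Γ.erase u) = (Γ' \ Γ).erase v := by
        ext x
        simp only [Finset.mem_sdiff, Finset.mem_insert, Finset.mem_erase]
        constructor
        · rintro ⟨hx, hnx⟩
          push Not at hnx
          refine ⟨hnx.1, hx, fun hxΓ => ?_⟩
          have := hnx.2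
          by_cases hxu : x = u
          · subst hxu; exact hu.2 hx
          · exact this hxu hxΓ
        · rintro ⟨hxv, hx, hxΓ⟩
          refine ⟨hx, ?_⟩
          push Not
          exact ⟨hxv, fun _ h => hxΓ h⟩
      rw [this, Finset.card_erase_of_mem (Finset.mem_sdiff.2 hv), h3]
      rfl
    obtain ⟨g', hg', hg'2⟩ := ih (insert v (Γ.erase u)) Γ' hcard1 h2 hdiff
    refine ⟨g' * g, G.mul_mem hg' hg, ?_⟩
    rw [← hg'2, ← himg, Finset.image_image]
    rfl

/-- pointwise stabilizer of `Γ` in `G`, as a subgroup of `Perm α` -/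
def Hs (Γ : Finset α) : Subgroup (Equiv.Perm α) :=
  G ⊓ fixingSubgroup (Equiv.Perm α) (Γ : Set α)

/-- elements of `G` fixing `B` pointwise and `Y` setwise -/
def Ds (B Y : Finset α) : Subgroup (Equiv.Perm α) :=
  G ⊓ fixingSubgroup (Equiv.Perm α) (B : Set α) ⊓ MulAction.stabilizer (Equiv.Perm α) Y

variable {G}

theorem mem_Hs {Γ : Finset α} {g : Equiv.Perm α} :
    g ∈ Hs G Γ ↔ g ∈ G ∧ ∀ x ∈ Γ, g x = x := by
  unfold Hs
  rw [Subgroup.mem_inf, mem_fixingSubgroup_iff]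
  rfl

theorem mem_Ds {B Y : Finset α} {g : Equiv.Perm α} :
    g ∈ Ds G B Y ↔ g ∈ G ∧ (∀ x ∈ B, g x = x) ∧ g • Y = Y := by
  unfold Ds
  rw [Subgroup.mem_inf, Subgroup.mem_inf, mem_fixingSubgroup_iff, MulAction.mem_stabilizer_iff,
    and_assoc]
  rfl

theorem smul_eq_of_forall_mem {Y : Finset α} {g : Equiv.Perm α} (h : ∀ y ∈ Y, g y ∈ Y) :
    g • Y = Y := by
  apply Finset.eq_of_subset_of_card_le
  · intro x hx
    rw [Finset.mem_smul_finset] at hx
    obtain ⟨y, hy, rfl⟩ := hx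
    exact h y hy
  · rw [Finset.card_smul_finset]

theorem mem_iff_of_smul_eq {Y : Finset α} {g : Equiv.Perm α} (h : g • Y = Y) (x : α) :
    g x ∈ Y ↔ x ∈ Y := by
  conv_lhs => rw [← h]
  exact Finset.smul_mem_smul_finset_iff g

theorem Hs_le_Ds (B Y : Finset α) : Hs G (B ∪ Y) ≤ Ds G B Y := by
  intro g hg
  rw [mem_Hs] at hg
  rw [mem_Ds]
  refine ⟨hg.1, fun x hx => hg.2 x (Finset.mem_union_left _ hx), ?_⟩
  apply smul_eq_of_forall_mem
  intro y hy
  rw [hg.2 y (Finset.mem_union_right _ hy)]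
  exact hy

/-- the action of `D` on `Y` -/
def phi (B Y : Finset α) : ↥(Ds G B Y) →* Equiv.Perm ↥Y where
  toFun d := (d : Equiv.Perm α).subtypePerm (mem_iff_of_smul_eq (mem_Ds.1 d.2).2.2)
  map_one' := by
    ext x
    simp
  map_mul' := by
    intro a b
    ext x
    rfl

theorem phi_apply (B Y : Finset α) (d : ↥(Ds G B Y)) (y : ↥Y) :
    ((phi B Y d) y : α) = (d : Equiv.Perm α) y := rfl

theorem ker_phi (B Y : Finset α) :
    (phi (G := G) B Y).ker = (Hs G (B ∪ Y)).subgroupOf (Ds G B Y) := by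
  ext d
  rw [MonoidHom.mem_ker, Subgroup.mem_subgroupOf, mem_Hs]
  have hd := mem_Ds.1 d.2
  constructor
  · intro h
    refine ⟨hd.1, fun x hx => ?_⟩
    rcases Finset.mem_union.1 hx with hx | hx
    · exact hd.2.1 x hx
    · have := congrArg (fun σ : Equiv.Perm ↥Y => ((σ ⟨x, hx⟩ : ↥Y) : α)) h
      simpa [phi_apply] using this
  · intro h
    ext y
    rw [phi_apply]
    simpa using h.2 y (Finset.mem_union_right _ y.2)

/-- generosity: any permutation of `Y` is induced by an element of `D` fixing `a`. -/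
theorem exists_Ds_of_perm {k : ℕ} (hgen : Generous G k) (B Y : Finset α) (hBY : Disjoint B Y)
    (hcard : (B ∪ Y).card = k) (a : α) (ha : a ∉ B ∪ Y) (σ : Equiv.Perm ↥Y) :
    ∃ d : ↥(Ds G B Y), (d : Equiv.Perm α) a = a ∧ phi B Y d = σ := by
  have hs : (insert a (B ∪ Y)).card = k + 1 := by
    rw [Finset.card_insert_of_notMem ha, hcard]
  have hτ : ∀ x, (Equiv.Perm.ofSubtype σ) x ∈ insert a (B ∪ Y) ↔ x ∈ insert a (B ∪ Y) := by
    intro x
    by_cases hx : x ∈ Y
    · have h1 : (Equiv.Perm.ofSubtype σ) x ∈ Y := by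
        rw [Equiv.Perm.ofSubtype_apply_of_mem σ hx]
        exact (σ ⟨x, hx⟩).2
      simp [hx, h1]
    · rw [Equiv.Perm.ofSubtype_apply_of_not_mem σ hx]
  obtain ⟨g, hg, hgs⟩ := hgen.exists_of_perm _ hs (Equiv.Perm.ofSubtype σ) hτ
  have hgB : ∀ x ∈ B, g x = x := by
    intro x hx
    have hxY : x ∉ Y := fun h => (Finset.disjoint_left.1 hBY hx h)
    rw [hgs x (Finset.mem_insert_of_mem (Finset.mem_union_left _ hx)),
      Equiv.Perm.ofSubtype_apply_of_not_mem σ hxY]
  have hgY : ∀ y (hy : y ∈ Y), g y = σ ⟨y, hy⟩ := by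
    intro y hy
    rw [hgs y (Finset.mem_insert_of_mem (Finset.mem_union_right _ hy)),
      Equiv.Perm.ofSubtype_apply_of_mem σ hy]
  have hga : g a = a := by
    have haY : a ∉ Y := fun h => ha (Finset.mem_union_right _ h)
    rw [hgs a (Finset.mem_insert_self _ _), Equiv.Perm.ofSubtype_apply_of_not_mem σ haY]
  have hgD : g ∈ Ds G B Y := by
    rw [mem_Ds]
    refine ⟨hg, hgB, smul_eq_of_forall_mem fun y hy => ?_⟩
    rw [hgY y hy]
    exact (σ ⟨y, hy⟩).2
  refine ⟨⟨g, hgD⟩, hga, ?_⟩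
  ext y
  rw [phi_apply]
  exact hgY y y.2

theorem phi_surjective {k : ℕ} (hgen : Generous G k) (B Y : Finset α) (hBY : Disjoint B Y)
    (hcard : (B ∪ Y).card = k) (hk : k < Fintype.card α) :
    Function.Surjective (phi (G := G) B Y) := by
  have : ∃ a, a ∉ B ∪ Y := by
    by_contra h
    push Not at h
    have : B ∪ Y = Finset.univ := Finset.eq_univ_iff_forall.2 h
    rw [this, Finset.card_univ] at hcard
    omega
  obtain ⟨a, ha⟩ := this
  intro σ
  obtain ⟨d, -, hd⟩ := exists_Ds_of_perm hgen B Y hBY hcard a ha σ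
  exact ⟨d, hd⟩

/-- `D`-orbits outside `Γ` are `H`-orbits. -/
theorem exists_Hs_of_Ds {k : ℕ} (hgen : Generous G k) (B Y : Finset α) (hBY : Disjoint B Y)
    (hcard : (B ∪ Y).card = k) (a : α) (ha : a ∉ B ∪ Y) (d : Equiv.Perm α) (hd : d ∈ Ds G B Y) :
    ∃ h ∈ Hs G (B ∪ Y), h a = d a := by
  obtain ⟨g, hga, hg⟩ := exists_Ds_of_perm hgen B Y hBY hcard a ha (phi B Y ⟨d, hd⟩)
  refine ⟨d * (g : Equiv.Perm α)⁻¹, ?_, ?_⟩
  · have : (⟨d, hd⟩ * g⁻¹ : ↥(Ds G B Y)) ∈ (phi (G := G) B Y).ker := by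
      rw [MonoidHom.mem_ker, map_mul, map_inv, hg, mul_inv_cancel]
    rw [ker_phi, Subgroup.mem_subgroupOf] at this
    exact this
  · rw [Equiv.Perm.mul_apply]
    congr 1
    rw [Equiv.Perm.inv_eq_iff_eq]
    exact hga.symm


theorem Ds_mem_iff {B Y : Finset α} {d : Equiv.Perm α} (hd : d ∈ Ds G B Y) (x : α) :
    d x ∈ B ∪ Y ↔ x ∈ B ∪ Y := by
  have hd' := mem_Ds.1 hd
  apply mem_iff_of_smul_eq
  apply smul_eq_of_forall_mem
  intro y hy
  rcases Finset.mem_union.1 hy with hy | hy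
  · rw [hd'.2.1 y hy]; exact Finset.mem_union_left _ hy
  · exact Finset.mem_union_right _ ((mem_iff_of_smul_eq hd'.2.2 y).2 hy)

theorem orbit_eq {k : ℕ} (hgen : Generous G k) (B Y : Finset α) (hBY : Disjoint B Y)
    (hcard : (B ∪ Y).card = k) (a : α) (ha : a ∉ B ∪ Y) :
    MulAction.orbit ↥(Ds G B Y) a
      = MulAction.orbit ↥(fixingSubgroup ↥G ((B ∪ Y : Finset α) : Set α)) a := by
  ext x
  constructor
  · rintro ⟨d, rfl⟩
    obtain ⟨h, hh, hha⟩ := exists_Hs_of_Ds hgen B Y hBY hcard a ha d d.2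
    rw [mem_Hs] at hh
    refine ⟨⟨⟨h, hh.1⟩, ?_⟩, ?_⟩
    · rw [mem_fixingSubgroup_iff]
      intro y hy
      exact hh.2 y hy
    · exact hha
  · rintro ⟨h, rfl⟩
    have hh := h.2
    rw [mem_fixingSubgroup_iff] at hh
    have : ((h : ↥G) : Equiv.Perm α) ∈ Ds G B Y :=
      Hs_le_Ds B Y (mem_Hs.2 ⟨(h : ↥G).2, fun y hy => hh y hy⟩)
    exact ⟨⟨_, this⟩, rfl⟩

theorem card_Ds {k : ℕ} (hgen : Generous G k) (B Y : Finset α) (hBY : Disjoint B Y)
    (hcard : (B ∪ Y).card = k) (hk : k < Fintype.card α) :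
    Nat.card ↥(Ds G B Y) = Nat.card ↥(Hs G (B ∪ Y)) * (Y.card).factorial := by
  have h1 := Subgroup.card_mul_index ((Hs G (B ∪ Y)).subgroupOf (Ds G B Y))
  have h2 : ((Hs G (B ∪ Y)).subgroupOf (Ds G B Y)).index = (Y.card).factorial := by
    rw [← ker_phi, Subgroup.index_ker,
      MonoidHom.range_eq_top.2 (phi_surjective hgen B Y hBY hcard hk), Subgroup.card_top,
      Nat.card_perm, Nat.card_eq_fintype_card, Fintype.card_coe]
  have h3 : Nat.card ↥((Hs G (B ∪ Y)).subgroupOf (Ds G B Y)) = Nat.card ↥(Hs G (B ∪ Y)) :=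
    Nat.card_congr (Subgroup.subgroupOfEquivOfLe (Hs_le_Ds B Y)).toEquiv
  rw [h2, h3] at h1
  exact h1.symm

theorem main {k : ℕ} (hk : k < Fintype.card α) (hgen : Generous G k) {p : ℕ} (hp : p.Prime)
    (hpk : p ≤ k) (Γ : Finset α) (hΓ : Γ.card = k) (f : Fin p → α) (hf : ∀ i, f i ∉ Γ)
    (hdist : ∀ i j, i ≠ j →
      f j ∉ MulAction.orbit (fixingSubgroup G (Γ : Set α)) (f i)) :
    ∃ i, p ∣ Nat.card (MulAction.orbit (fixingSubgroup G (Γ : Set α)) (f i)) := by
  classical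
  haveI : Fact p.Prime := ⟨hp⟩
  by_contra hcon
  push Not at hcon
  -- choose Y, B
  obtain ⟨Y, hYΓ, hYc⟩ := Finset.exists_subset_card_eq (s := Γ) (n := p) (by rw [hΓ]; exact hpk)
  obtain ⟨B, hB⟩ : ∃ B, B = Γ \ Y := ⟨_, rfl⟩
  have hBY : Disjoint B Y := by rw [hB]; exact Finset.sdiff_disjoint
  have hBYΓ : B ∪ Y = Γ := by rw [hB]; exact Finset.sdiff_union_of_subset hYΓ
  have hcard : (B ∪ Y).card = k := by rw [hBYΓ, hΓ]
  have hBc : B.card + p = k := by
    rw [← hYc, ← Finset.card_union_of_disjoint hBY, hcard]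
  -- Sylow of D
  obtain ⟨P⟩ : Nonempty (Sylow p ↥(Ds G B Y)) := inferInstance
  -- fixed points
  have hfix : ∀ i, ∃ y ∈ MulAction.orbit ↥(Ds G B Y) (f i),
      ∀ q : ↥(Ds G B Y), q ∈ (P : Subgroup ↥(Ds G B Y)) → (q : Equiv.Perm α) y = y := by
    intro i
    have hfi : f i ∉ B ∪ Y := by rw [hBYΓ]; exact hf i
    have hnd : ¬ p ∣ Nat.card (MulAction.orbit ↥(Ds G B Y) (f i)) := by
      rw [orbit_eq hgen B Y hBY hcard (f i) hfi, hBYΓ]
      exact hcon i
    obtain ⟨⟨y, hy⟩, hyfix⟩ := P.isPGroup'.nonempty_fixed_point_of_prime_not_dvd_card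
      (MulAction.orbit ↥(Ds G B Y) (f i)) hnd
    refine ⟨y, hy, fun q hq => ?_⟩
    have := hyfix ⟨q, hq⟩
    exact congrArg Subtype.val this
  choose y' hy'orb hy'fix using hfix
  -- y' i not in Γ
  have hy'Γ : ∀ i, y' i ∉ B ∪ Y := by
    intro i
    obtain ⟨d, hd⟩ := hy'orb i
    intro hmem
    rw [← hd] at hmem
    have := (Ds_mem_iff d.2 (f i)).1 hmem
    rw [hBYΓ] at this
    exact hf i this
  -- y' injective
  have hy'inj : Function.Injective y' := by
    intro i j hij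
    by_contra hne
    have hfi : f i ∉ B ∪ Y := by rw [hBYΓ]; exact hf i
    have hfj : f j ∉ B ∪ Y := by rw [hBYΓ]; exact hf j
    have h1 : MulAction.orbit ↥(Ds G B Y) (y' i) = MulAction.orbit ↥(Ds G B Y) (f i) :=
      MulAction.orbit_eq_iff.2 (hy'orb i)
    have h2 : MulAction.orbit ↥(Ds G B Y) (y' j) = MulAction.orbit ↥(Ds G B Y) (f j) :=
      MulAction.orbit_eq_iff.2 (hy'orb j)
    rw [hij, h2] at h1
    have h3 : f j ∈ MulAction.orbit ↥(Ds G B Y) (f i) := by
      rw [← h1]; exact MulAction.mem_orbit_self _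
    rw [orbit_eq hgen B Y hBY hcard (f i) hfi, hBYΓ] at h3
    exact hdist i j hne h3
  -- the new k-set
  obtain ⟨Γ', hΓ'⟩ : ∃ Γ', Γ' = B ∪ Finset.univ.image y' := ⟨_, rfl⟩
  have hdisj' : Disjoint B (Finset.univ.image y') := by
    rw [Finset.disjoint_left]
    intro x hxB hx
    rw [Finset.mem_image] at hx
    obtain ⟨i, -, rfl⟩ := hx
    exact hy'Γ i (Finset.mem_union_left _ hxB)
  have hΓ'c : Γ'.card = k := by
    rw [hΓ', Finset.card_union_of_disjoint hdisj', Finset.card_image_of_injective _ hy'inj,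
      Finset.card_univ, Fintype.card_fin, hBc]
  obtain ⟨g, hgG, hg⟩ := hgen.homogeneous _ Γ Γ' hΓ hΓ'c rfl
  -- P' and Q
  have hPfix : ∀ q : ↥(Ds G B Y), q ∈ (P : Subgroup ↥(Ds G B Y)) →
      ∀ x ∈ Γ', (q : Equiv.Perm α) x = x := by
    intro q hq x hx
    rw [hΓ', Finset.mem_union] at hx
    rcases hx with hx | hx
    · exact (mem_Ds.1 q.2).2.1 x hx
    · rw [Finset.mem_image] at hx
      obtain ⟨i, -, rfl⟩ := hx
      exact hy'fix i q hq
  have hQ : (((P : Subgroup ↥(Ds G B Y)).map (Ds G B Y).subtype).map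
      (MulAut.conj g⁻¹).toMonoidHom) ≤ Hs G Γ := by
    rintro _ ⟨_, ⟨q, hq, rfl⟩, rfl⟩
    rw [mem_Hs]
    have hqG : (q : Equiv.Perm α) ∈ G := (mem_Ds.1 q.2).1
    refine ⟨?_, fun x hx => ?_⟩
    · simp only [MulEquiv.coe_toMonoidHom, MulAut.conj_apply, Subgroup.coe_subtype, inv_inv]
      exact G.mul_mem (G.mul_mem (G.inv_mem hgG) hqG) hgG
    · simp only [MulEquiv.coe_toMonoidHom, MulAut.conj_apply, Subgroup.coe_subtype, inv_inv,
        Equiv.Perm.mul_apply]
      have hgx : g x ∈ Γ' := by rw [← hg]; exact Finset.mem_image_of_mem _ hx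
      rw [hPfix q hq (g x) hgx]
      simp
  have hcardQ : Nat.card ↥(((P : Subgroup ↥(Ds G B Y)).map (Ds G B Y).subtype).map
      (MulAut.conj g⁻¹).toMonoidHom) = Nat.card ↥(P : Subgroup ↥(Ds G B Y)) := by
    rw [Subgroup.card_map_of_injective (MulEquiv.injective _),
      Subgroup.card_map_of_injective (Subgroup.subtype_injective _)]
  have hdvd : Nat.card ↥(P : Subgroup ↥(Ds G B Y)) ∣ Nat.card ↥(Hs G Γ) := by
    rw [← hcardQ]
    exact Subgroup.card_dvd_of_le hQ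
  rw [P.card_eq_multiplicity, card_Ds hgen B Y hBY hcard hk, hBYΓ, hYc] at hdvd
  -- valuations
  have hHne : Nat.card ↥(Hs G Γ) ≠ 0 := Nat.card_pos.ne'
  have hfne : p.factorial ≠ 0 := Nat.factorial_ne_zero p
  have h1 : (Nat.card ↥(Hs G Γ) * p.factorial).factorization p
      = (Nat.card ↥(Hs G Γ)).factorization p + (p.factorial).factorization p := by
    rw [Nat.factorization_mul hHne hfne]; rfl
  have h2 : 1 ≤ (p.factorial).factorization p := by
    have : p ∣ p.factorial := Nat.dvd_factorial hp.pos le_rfl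
    exact (hp.dvd_iff_one_le_factorization hfne).1 this
  rw [h1] at hdvd
  have h3 := (hp.pow_dvd_iff_le_factorization hHne).1 hdvd
  omega

end Cfsg.Agent.Lib.Helper4.GenerousOrbit
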