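import Mathlib
import Cfsg.Agent.S0006
import Cfsg.Agent.Lib.Helper4.HallSystemQuot

set_option autoImplicit false

namespace Cfsg.Agent.Lib.Helper4
universe u

theorem exists_pcomplement_of_descending {G : Type u} [Group G] [Finite G]
    (h : ∀ H : Subgroup G, H ≠ ⊥ → ∀ p : ℕ, p.Prime → p ∣ Nat.card H →
      ∃ K : Subgroup H, K ≠ ⊤ ∧ ∃ k : ℕ, K.index = p ^ k)
    (p : ℕ) (hp : p.Prime) :
    ∀ (n : ℕ) (H : Subgroup G), Nat.card H = n →
      ∃ L : Subgroup G, L ≤ H ∧ ¬ p ∣ Nat.card L ∧ ∃ k : ℕ, L.relIndex H = p ^ k := by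
  intro n
  induction n using Nat.strong_induction_on with
  | _ n ih =>
    intro H hn
    by_cases hd : p ∣ Nat.card H
    · have hHbot : H ≠ ⊥ := by
        intro hb
        rw [hb, Subgroup.card_bot] at hd
        exact hp.one_lt.ne' (Nat.dvd_one.mp hd)
      obtain ⟨K, hKtop, k, hk⟩ := h H hHbot p hp hd
      set K' : Subgroup G := K.map H.subtype with hK'
      have hK'H : K' ≤ H := Subgroup.map_subtype_le K
      have hrel : K'.relIndex H = p ^ k := by
        rw [← hk, Subgroup.relIndex, hK']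
        congr 1
        ext x
        rw [Subgroup.mem_subgroupOf, Subgroup.mem_map]
        constructor
        · rintro ⟨y, hy, hyx⟩
          have : y = x := Subtype.ext hyx
          rw [← this]; exact hy
        · intro hx
          exact ⟨x, hx, rfl⟩
      have hlt : Nat.card K' < n := by
        rw [← hn]
        have h1 := card_mul_relIndex hK'H
        have h2 : 1 < K'.relIndex H := by
          rw [hrel, ← hk]
          have h3 : K.index ≠ 1 := fun h => hKtop (Subgroup.index_eq_one.mp h)
          have h4 : K.index ≠ 0 := Subgroup.index_ne_zero_of_finite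
          omega
        have h5 : 0 < Nat.card K' := Nat.card_pos
        nlinarith
      obtain ⟨L, hLK, hLp, j, hj⟩ := ih _ hlt K' rfl
      refine ⟨L, hLK.trans hK'H, hLp, j + k, ?_⟩
      rw [← Subgroup.relIndex_mul_relIndex L K' H hLK hK'H, hj, hrel, pow_add]
    · exact ⟨H, le_rfl, hd, 0, by rw [Subgroup.relIndex_self, pow_zero]⟩

theorem isSolvable_of_descending {G : Type u} [Group G] [Finite G]
    (h : ∀ H : Subgroup G, H ≠ ⊥ → ∀ p : ℕ, p.Prime → p ∣ Nat.card H →
      ∃ K : Subgroup H, K ≠ ⊤ ∧ ∃ k : ℕ, K.index = p ^ k) : Group.IsSolvable G := by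
  apply Cfsg.Agent.S0006.result
  intro p hp
  obtain ⟨L, -, hLp, k, hk⟩ := exists_pcomplement_of_descending h p hp _ ⊤ rfl
  rw [Subgroup.relIndex_top_right] at hk
  exact ⟨L, index_eq_pow_factorization L p hp k hk hLp⟩

end Cfsg.Agent.Lib.Helper4
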