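import Mathlib

set_option autoImplicit false

namespace Cfsg.Agent.Lib.Helper4

/-- arithmetic of two Hall divisors `a`, `b` of `n`: with `s = gcd a b`, `a = s * a₁`, and
`b * a₁ = lcm a b` is again a Hall divisor -/
theorem hall_numbers (n a b a' b' : ℕ) (hn : 0 < n) (ha : n = a * a') (hb : n = b * b')
    (hca : a.Coprime a') (hcb : b.Coprime b') :
    ∃ s a₁ m : ℕ, a = s * a₁ ∧ s ∣ b ∧ n = (b * a₁) * m ∧ (b * a₁).Coprime m ∧ b.Coprime a₁ ∧
      s.Coprime a₁ ∧ (∀ d, d ∣ a → d ∣ b → d ∣ s) ∧ a ∣ b * a₁ := by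
  have hapos : 0 < a := Nat.pos_of_ne_zero (by rintro rfl; simp at ha; omega)
  have hbpos : 0 < b := Nat.pos_of_ne_zero (by rintro rfl; simp at hb; omega)
  set s := Nat.gcd a b with hs
  have hspos : 0 < s := Nat.gcd_pos_of_pos_left b hapos
  set a₁ := a / s with ha₁
  have hsa : a = s * a₁ := (Nat.mul_div_cancel' (Nat.gcd_dvd_left a b)).symm
  have hsb : s ∣ b := Nat.gcd_dvd_right a b
  have hlcm : Nat.lcm a b = b * a₁ := by
    have h1 : s * Nat.lcm a b = a * b := Nat.gcd_mul_lcm a b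
    have h2 : s * Nat.lcm a b = s * (b * a₁) := by
      rw [h1]; nth_rewrite 1 [hsa]; ring
    exact Nat.eq_of_mul_eq_mul_left hspos h2
  have hldvd : b * a₁ ∣ n := by
    rw [← hlcm]
    exact Nat.lcm_dvd ⟨a', ha⟩ ⟨b', hb⟩
  obtain ⟨m, hm⟩ := hldvd
  have hal : a ∣ b * a₁ := by rw [← hlcm]; exact Nat.dvd_lcm_left a b
  have hb' : b' = a₁ * m := by
    have : b * b' = b * (a₁ * m) := by rw [← hb, hm]; ring
    exact Nat.eq_of_mul_eq_mul_left hbpos this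
  obtain ⟨c, hc⟩ := hal
  have ha' : a' = c * m := by
    have : a * a' = a * (c * m) := by rw [← ha, hm, hc]; ring
    exact Nat.eq_of_mul_eq_mul_left hapos this
  have hbm : b.Coprime m := Nat.Coprime.coprime_dvd_right ⟨a₁, by rw [hb']; ring⟩ hcb
  have ha₁a : a₁ ∣ a := ⟨s, by rw [hsa]; ring⟩
  have ha₁m : a₁.Coprime m :=
    Nat.Coprime.coprime_dvd_left ha₁a (Nat.Coprime.coprime_dvd_right ⟨c, by rw [ha']; ring⟩ hca)
  have hba₁ : b.Coprime a₁ := Nat.Coprime.coprime_dvd_right ⟨m, hb'⟩ hcb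
  refine ⟨s, a₁, m, hsa, hsb, hm, Nat.Coprime.mul_left hbm ha₁m, hba₁,
    Nat.Coprime.coprime_dvd_left hsb hba₁, fun d hda hdb => Nat.dvd_gcd hda hdb, ⟨c, hc⟩⟩

end Cfsg.Agent.Lib.Helper4
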