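import Mathlib
import Cfsg.Agent.Lib.Helper1.Hall
import Cfsg.Agent.Lib.Helper1.Transport
import Cfsg.Agent.Lib.Helper22.ConjCount
import Cfsg.Agent.Lib.Helper4.HallProduct1

set_option autoImplicit false
open Pointwise

namespace Cfsg.Agent.Lib.Helper4
open Cfsg.Agent.Lib.Helper1 Cfsg.Agent.Lib.Helper22
universe u

/-- in a finite solvable group, a Hall subgroup `A` and some conjugate of a Hall subgroup `B`
have a product which is a subgroup -/
theorem exists_conj_mul_eq_subgroup {G : Type u} [Group G] [Finite G] [Group.IsSolvable G]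
    (A B : Subgroup G) (hA : (Nat.card A).Coprime A.index)
    (hB : (Nat.card B).Coprime B.index) :
    ∃ (g : G) (L : Subgroup G),
      (L : Set G) = (A : Set G) * ((MulAut.conj g • B : Subgroup G) : Set G) := by
  have hnA : Nat.card G = Nat.card A * A.index := A.card_mul_index.symm
  have hnB : Nat.card G = Nat.card B * B.index := B.card_mul_index.symm
  obtain ⟨s, a₁, m, hsa, hsb, hm, hcop, hba₁, hsa₁, hgcd, hal⟩ :=
    hall_numbers (Nat.card G) _ _ _ _ Nat.card_pos hnA hnB hA hB
  obtain ⟨L, hLcard, hAL⟩ := hall_exists_ge (Nat.card B * a₁) m hm hcop A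
    (Nat.Coprime.coprime_dvd_left hal hcop)
  have hsolA : Group.IsSolvable A := inferInstance
  obtain ⟨S₀, hS₀⟩ := hall_exists _ ↥A rfl s a₁ hsa hsa₁
  set S := S₀.map A.subtype with hS
  have hScard : Nat.card S = s := by
    rw [hS, Subgroup.card_map_of_injective (Subgroup.subtype_injective A), hS₀]
  have hSA : S ≤ A := Subgroup.map_subtype_le S₀
  have hSL : S ≤ L := hSA.trans hAL
  have hsolL : Group.IsSolvable L := inferInstance
  have hSLcard : Nat.card (S.subgroupOf L) = s := by
    rw [Nat.card_congr (Subgroup.subgroupOfEquivOfLe hSL).toEquiv, hScard]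
  obtain ⟨B'', hB''card, hSB''⟩ := hall_exists_ge (G := ↥L) (Nat.card B) a₁ hLcard hba₁
    (S.subgroupOf L) (by rw [hSLcard]; exact hsa₁)
  set C := A.subgroupOf L with hC
  have hCcard : Nat.card C = Nat.card A :=
    Nat.card_congr (Subgroup.subgroupOfEquivOfLe hAL).toEquiv
  have hinf : Nat.card (C ⊓ B'' : Subgroup L) = s := by
    apply Nat.dvd_antisymm
    · apply hgcd
      · rw [← hCcard]; exact Subgroup.card_dvd_of_le inf_le_left
      · rw [← hB''card]; exact Subgroup.card_dvd_of_le inf_le_right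
    · rw [← hSLcard]
      apply Subgroup.card_dvd_of_le
      apply le_inf _ hSB''
      intro z hz
      rw [Subgroup.mem_subgroupOf] at hz ⊢
      exact hSA hz
  have hidx : B''.index = a₁ := by
    have h1 := B''.card_mul_index
    rw [hB''card, hLcard] at h1
    exact Nat.eq_of_mul_eq_mul_left Nat.card_pos h1
  have key := exists_mem_of_card_eq_index_mul_card_inf C B''
    (by rw [hCcard, hidx, hinf, hsa]; ring)
  set B' := B''.map L.subtype with hB'
  have hB'card : Nat.card B' = Nat.card B := by
    rw [hB', Subgroup.card_map_of_injective (Subgroup.subtype_injective L), hB''card]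
  obtain ⟨g, hg⟩ := hall_conj (Nat.card B) B.index hnB hB B B' rfl hB'card
  refine ⟨g, L, ?_⟩
  rw [hg]
  ext z
  constructor
  · intro hz
    obtain ⟨c, hc, hcz⟩ := key ⟨z, hz⟩
    refine ⟨(c : G), Subgroup.mem_subgroupOf.mp hc, (c : G)⁻¹ * z, ?_, by group⟩
    exact ⟨_, hcz, rfl⟩
  · rintro ⟨x, hx, y, hy, rfl⟩
    exact L.mul_mem (hAL hx) (Subgroup.map_subtype_le B'' hy)

end Cfsg.Agent.Lib.Helper4
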