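import Mathlib
import Cfsg.Agent.Lib.Helper1.Basic
import Cfsg.Agent.Lib.Helper4.HallSystemQuot
import Cfsg.Agent.Lib.Helper4.HallProduct2

set_option autoImplicit false
open Pointwise

namespace Cfsg.Agent.Lib.Helper4
open Cfsg.Agent.Lib.Helper1
universe u

/-- `G = HK` solvable, `A ⊲ H`, `B ⊲ K` Hall subgroups of `G`: every conjugate of `A` permutes
with every conjugate of `B` -/
theorem hall_normal_factor_products {G : Type u} [Group G] [Finite G] [Group.IsSolvable G]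
    (H K A B : Subgroup G) (hHK : ∀ g : G, ∃ h ∈ H, ∃ k ∈ K, g = h * k) (hA : A ≤ H)
    (hAn : (A.subgroupOf H).Normal) (hB : B ≤ K) (hBn : (B.subgroupOf K).Normal)
    (hAh : (Nat.card A).Coprime A.index) (hBh : (Nat.card B).Coprime B.index) (x y : G) :
    ∃ S : Subgroup G, (S : Set G) = ((MulAut.conj x • A : Subgroup G) : Set G) *
      ((MulAut.conj y • B : Subgroup G) : Set G) := by
  obtain ⟨g, L, hL⟩ := exists_conj_mul_eq_subgroup A B hAh hBh
  obtain ⟨h₀, hh₀, k₀, hk₀, hg⟩ := hHK g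
  obtain ⟨h₁, hh₁, k₁, hk₁, hxy⟩ := hHK (x⁻¹ * y)
  set h := h₁ * h₀⁻¹ with hh
  set k := k₀⁻¹ * k₁ with hk
  have hhH : h ∈ H := H.mul_mem hh₁ (H.inv_mem hh₀)
  have hkK : k ∈ K := K.mul_mem (K.inv_mem hk₀) hk₁
  have hHA : H ≤ Subgroup.normalizer (A : Set G) :=
    (Subgroup.normal_subgroupOf_iff_le_normalizer hA).mp hAn
  have hKB : K ≤ Subgroup.normalizer (B : Set G) :=
    (Subgroup.normal_subgroupOf_iff_le_normalizer hB).mp hBn
  set t := x * h with ht
  have hyt : y = t * g * k := by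
    have : y = x * (x⁻¹ * y) := by group
    rw [this, hxy, ht, hh, hk, hg]; group
  have hA' : MulAut.conj x • A = MulAut.conj t • A := by
    rw [ht, map_mul, mul_smul, (mem_normalizer_iff_conj_smul A h).mp (hHA hhH)]
  have hB' : MulAut.conj y • B = MulAut.conj t • (MulAut.conj g • B) := by
    rw [hyt, map_mul, mul_smul, (mem_normalizer_iff_conj_smul B k).mp (hKB hkK), map_mul,
      mul_smul]
  refine ⟨MulAut.conj t • L, ?_⟩
  rw [hA', hB']
  ext z
  constructor
  · intro hz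
    have hz' : t⁻¹ * z * t ∈ (L : Set G) := (mem_conj_smul_iff L t z).mp hz
    rw [hL] at hz'
    obtain ⟨a, ha, b, hb, e⟩ := hz'
    have e' : a * b = t⁻¹ * z * t := e
    refine ⟨t * a * t⁻¹, ?_, t * b * t⁻¹, ?_, ?_⟩
    · show t * a * t⁻¹ ∈ MulAut.conj t • A
      rw [mem_conj_smul_iff]
      have : t⁻¹ * (t * a * t⁻¹) * t = a := by group
      rw [this]; exact ha
    · show t * b * t⁻¹ ∈ MulAut.conj t • (MulAut.conj g • B)
      rw [mem_conj_smul_iff]
      have : t⁻¹ * (t * b * t⁻¹) * t = b := by group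
      rw [this]; exact hb
    · show t * a * t⁻¹ * (t * b * t⁻¹) = z
      have : t * a * t⁻¹ * (t * b * t⁻¹) = t * (a * b) * t⁻¹ := by group
      rw [this, e']; group
  · rintro ⟨a', ha', b', hb', rfl⟩
    have ha'' : t⁻¹ * a' * t ∈ A := (mem_conj_smul_iff A t a').mp ha'
    have hb'' : t⁻¹ * b' * t ∈ MulAut.conj g • B := (mem_conj_smul_iff _ t b').mp hb'
    show a' * b' ∈ MulAut.conj t • L
    rw [mem_conj_smul_iff]
    have e1 : t⁻¹ * (a' * b') * t = (t⁻¹ * a' * t) * (t⁻¹ * b' * t) := by group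
    rw [e1]
    have : (t⁻¹ * a' * t) * (t⁻¹ * b' * t) ∈ (L : Set G) := by
      rw [hL]; exact ⟨_, ha'', _, hb'', rfl⟩
    exact this

end Cfsg.Agent.Lib.Helper4
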