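import Mathlib

namespace Cfsg.Agent.Lib.Helper4.HomogDown

open Finset
open scoped Pointwise

theorem not_dvd_choose (p e k : ℕ) (hp : p.Prime) (hk : p ^ e ∣ k) :
    ¬ p ∣ Nat.choose ((p ^ e - 1) + k) k := by
  have hpos : 0 < p ^ e := pow_pos hp.pos e
  have hfac := Nat.factorization_choose' (p := p) (n := p ^ e - 1) (k := k)
    (b := Nat.log p ((p ^ e - 1) + k) + 1) hp (Nat.lt_succ_self _)
  have hempty : (Finset.filter (fun i => p ^ i ≤ k % p ^ i + (p ^ e - 1) % p ^ i)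
      (Finset.Ico 1 (Nat.log p ((p ^ e - 1) + k) + 1))) = ∅ := by
    rw [Finset.filter_eq_empty_iff]
    intro i _
    rw [not_le]
    have hipos : 0 < p ^ i := pow_pos hp.pos i
    rcases le_or_gt i e with hie | hie
    · have h1 : p ^ i ∣ k := dvd_trans (pow_dvd_pow p hie) hk
      have h2 : k % p ^ i = 0 := Nat.mod_eq_zero_of_dvd h1
      rw [h2, zero_add]
      exact Nat.mod_lt _ hipos
    · have hqi : p ^ e ∣ p ^ i := pow_dvd_pow p hie.le
      have h1 : p ^ e ∣ k % p ^ i := (Nat.dvd_mod_iff hqi).2 hk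
      have h2 : k % p ^ i < p ^ i := Nat.mod_lt _ hipos
      have h3 : (p ^ e - 1) % p ^ i ≤ p ^ e - 1 := Nat.mod_le _ _
      obtain ⟨c, hc⟩ := hqi
      obtain ⟨d, hd⟩ := h1
      have hdc : d < c := by
        have : p ^ e * d < p ^ e * c := by rw [← hd, ← hc]; exact h2
        exact lt_of_mul_lt_mul_left this (Nat.zero_le _)
      have h4 : p ^ e * d + p ^ e ≤ p ^ e * c := by
        calc p ^ e * d + p ^ e = p ^ e * (d + 1) := by ring
          _ ≤ p ^ e * c := Nat.mul_le_mul_left _ hdc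
      have h5 : k % p ^ i + p ^ e ≤ p ^ i := by rw [hd, hc]; exact h4
      omega
  rw [hempty, Finset.card_empty] at hfac
  have hne : Nat.choose ((p ^ e - 1) + k) k ≠ 0 :=
    (Nat.choose_pos (Nat.le_add_left _ _)).ne'
  intro hdvd
  have := (Nat.factorization_eq_zero_iff _ _).1 hfac
  rcases this with h | h | h
  · exact h hp
  · exact h hdvd
  · exact hne h


variable {α : Type*} [Fintype α] [DecidableEq α] (G : Subgroup (Equiv.Perm α))

/-- `Δ'` is in the `G`-orbit of `Δ`. -/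
def InOrb (Δ Δ' : Finset α) : Prop := ∃ g : G, g • Δ = Δ'

open Classical in
/-- number of `m`-subsets of `Γ` in the `G`-orbit of `Δ` -/
noncomputable def cnt (Δ Γ : Finset α) (m : ℕ) : ℕ :=
  ((Γ.powersetCard m).filter (fun Δ' => InOrb G Δ Δ')).card

theorem cnt_smul (Δ Γ : Finset α) (m : ℕ) (h : G) : cnt G Δ (h • Γ) m = cnt G Δ Γ m := by
  classical
  unfold cnt
  symm
  apply Finset.card_nbij' (fun Δ' => h • Δ') (fun Δ' => h⁻¹ • Δ')
  · intro Δ' hΔ'
    simp only [Finset.coe_filter, Set.mem_setOf_eq, Finset.mem_powersetCard] at hΔ' ⊢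
    obtain ⟨⟨h1, h2⟩, g, hg⟩ := hΔ'
    refine ⟨⟨Finset.smul_finset_subset_smul_finset h1, by rw [Finset.card_smul_finset]; exact h2⟩,
      h * g, ?_⟩
    rw [mul_smul, hg]
  · intro Δ' hΔ'
    simp only [Finset.coe_filter, Set.mem_setOf_eq, Finset.mem_powersetCard] at hΔ' ⊢
    obtain ⟨⟨h1, h2⟩, g, hg⟩ := hΔ'
    refine ⟨⟨?_, by rw [Finset.card_smul_finset]; exact h2⟩, h⁻¹ * g, ?_⟩
    · have := Finset.smul_finset_subset_smul_finset (a := h⁻¹) h1
      rwa [inv_smul_smul] at this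
    · rw [mul_smul, hg]
  · intro Δ' _
    simp
  · intro Δ' _
    simp

/-- number of `(m+1)`-sets between `Δ'` and `S` -/
theorem card_between (S D : Finset α) (hD : D ⊆ S) :
    ((S.powersetCard (D.card + 1)).filter (fun Γ => D ⊆ Γ)).card = S.card - D.card := by
  rw [← Finset.card_sdiff_of_subset hD]
  symm
  apply Finset.card_bij (fun x _ => insert x D)
  · intro x hx
    rw [Finset.mem_sdiff] at hx
    simp only [Finset.mem_filter, Finset.mem_powersetCard]
    refine ⟨⟨?_, Finset.card_insert_of_notMem hx.2⟩, Finset.subset_insert _ _⟩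
    exact Finset.insert_subset hx.1 hD
  · intro x hx y hy hxy
    rw [Finset.mem_sdiff] at hx hy
    have : x ∈ insert y D := by rw [← hxy]; exact Finset.mem_insert_self _ _
    rcases Finset.mem_insert.1 this with h | h
    · exact h
    · exact absurd h hx.2
  · intro Γ hΓ
    simp only [Finset.mem_filter, Finset.mem_powersetCard] at hΓ
    obtain ⟨⟨h1, h2⟩, h3⟩ := hΓ
    have h4 : (Γ \ D).card = 1 := by
      rw [Finset.card_sdiff_of_subset h3, h2]; omega
    obtain ⟨x, hx⟩ := Finset.card_eq_one.1 h4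
    have hxm : x ∈ Γ \ D := by rw [hx]; exact Finset.mem_singleton_self _
    rw [Finset.mem_sdiff] at hxm
    refine ⟨x, Finset.mem_sdiff.2 ⟨h1 hxm.1, hxm.2⟩, ?_⟩
    have : Γ = (Γ \ D) ∪ D := (Finset.sdiff_union_of_subset h3).symm
    rw [this, hx]
    rfl

/-- double counting -/
theorem double_count (Δ S : Finset α) (k : ℕ) (hk : 1 ≤ k) :
    ∑ Γ ∈ S.powersetCard k, cnt G Δ Γ (k - 1) = cnt G Δ S (k - 1) * (S.card - (k - 1)) := by
  classical
  have key := Finset.sum_card_bipartiteAbove_eq_sum_card_bipartiteBelow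
    (s := S.powersetCard k)
    (t := (S.powersetCard (k - 1)).filter (fun Δ' => InOrb G Δ Δ'))
    (fun (Γ : Finset α) (Δ' : Finset α) => Δ' ⊆ Γ)
  have h1 : ∀ Γ ∈ S.powersetCard k,
      (Finset.bipartiteAbove (fun (Γ : Finset α) (Δ' : Finset α) => Δ' ⊆ Γ)
        ((S.powersetCard (k - 1)).filter (fun Δ' => InOrb G Δ Δ')) Γ).card
        = cnt G Δ Γ (k - 1) := by
    intro Γ hΓ
    rw [Finset.mem_powersetCard] at hΓ
    unfold cnt Finset.bipartiteAbove
    congr 1
    ext Δ'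
    simp only [Finset.mem_filter, Finset.mem_powersetCard]
    constructor
    · rintro ⟨⟨⟨_, h2⟩, h3⟩, h4⟩
      exact ⟨⟨h4, h2⟩, h3⟩
    · rintro ⟨⟨h1, h2⟩, h3⟩
      exact ⟨⟨⟨h1.trans hΓ.1, h2⟩, h3⟩, h1⟩
  have h2 : ∀ Δ' ∈ (S.powersetCard (k - 1)).filter (fun Δ' => InOrb G Δ Δ'),
      (Finset.bipartiteBelow (fun (Γ : Finset α) (Δ' : Finset α) => Δ' ⊆ Γ)
        (S.powersetCard k) Δ').card = S.card - (k - 1) := by
    intro Δ' hΔ'
    simp only [Finset.mem_filter, Finset.mem_powersetCard] at hΔ'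
    obtain ⟨⟨h1, h2⟩, _⟩ := hΔ'
    have := card_between S Δ' h1
    rw [h2, Nat.sub_add_cancel hk] at this
    unfold Finset.bipartiteBelow
    exact this
  rw [Finset.sum_congr rfl h1, Finset.sum_congr rfl h2, Finset.sum_const, smul_eq_mul] at key
  rw [key]
  rfl


theorem exists_card_k_le (k : ℕ) (hk : 2 ≤ k)
    (hq : ∀ q : ℕ, IsPrimePow q → q ∣ k → k + q - 1 ≤ Fintype.card α) : k ≤ Fintype.card α := by
  obtain ⟨p, hp, hpk⟩ := Nat.exists_prime_and_dvd (show k ≠ 1 by omega)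
  have := hq p hp.isPrimePow hpk
  have := hp.two_le
  omega

theorem cnt_const {k : ℕ}
    (hG : MulAction.IsPretransitive G (Set.powersetCard α k)) (Δ Γ1 Γ2 : Finset α)
    (h1 : Γ1.card = k) (h2 : Γ2.card = k) : cnt G Δ Γ1 (k - 1) = cnt G Δ Γ2 (k - 1) := by
  obtain ⟨g, hg⟩ := hG.exists_smul_eq (⟨Γ1, h1⟩ : Set.powersetCard α k) ⟨Γ2, h2⟩
  have hg' : g • Γ1 = Γ2 := by
    have := congrArg Subtype.val hg
    have h3 := Set.powersetCard.coe_smul (g := g) (s := (⟨Γ1, h1⟩ : Set.powersetCard α k))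
    exact h3.symm.trans this
  rw [← hg', cnt_smul]

theorem primePow_dvd_cnt {k : ℕ} (hk : 1 ≤ k)
    (hG : MulAction.IsPretransitive G (Set.powersetCard α k)) (Δ Γ : Finset α)
    (hΓ : Γ.card = k) (q : ℕ) (hq : IsPrimePow q) (hqk : q ∣ k)
    (hn : k + q - 1 ≤ Fintype.card α) : q ∣ cnt G Δ Γ (k - 1) := by
  classical
  obtain ⟨p, e, hp, he, rfl⟩ := (isPrimePow_nat_iff q).1 hq
  have hp' : p.Prime := hp
  have hqpos : 0 < p ^ e := pow_pos hp'.pos e
  obtain ⟨S, -, hS⟩ := Finset.exists_subset_card_eq (s := (Finset.univ : Finset α))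
    (n := k + p ^ e - 1) (by rw [Finset.card_univ]; exact hn)
  have hdc := double_count G Δ S k hk
  have hconst : ∀ Γ' ∈ S.powersetCard k, cnt G Δ Γ' (k - 1) = cnt G Δ Γ (k - 1) := by
    intro Γ' hΓ'
    rw [Finset.mem_powersetCard] at hΓ'
    exact cnt_const G hG Δ Γ' Γ hΓ'.2 hΓ
  rw [Finset.sum_congr rfl hconst, Finset.sum_const, Finset.card_powersetCard, smul_eq_mul,
    hS] at hdc
  have h1 : k + p ^ e - 1 - (k - 1) = p ^ e := by omega
  rw [h1] at hdc
  have h2 : p ^ e ∣ (k + p ^ e - 1).choose k * cnt G Δ Γ (k - 1) := ⟨_, by rw [hdc]; ring⟩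
  have h3 : k + p ^ e - 1 = (p ^ e - 1) + k := by omega
  rw [h3] at h2
  have hnd := not_dvd_choose p e k hp' hqk
  have hcop : Nat.Coprime (p ^ e) (Nat.choose ((p ^ e - 1) + k) k) :=
    Nat.Coprime.pow_left e ((Nat.Prime.coprime_iff_not_dvd hp').2 hnd)
  exact hcop.dvd_of_dvd_mul_left h2

theorem all_inOrb {k : ℕ} (hk : 2 ≤ k)
    (hG : MulAction.IsPretransitive G (Set.powersetCard α k))
    (hq : ∀ q : ℕ, IsPrimePow q → q ∣ k → k + q - 1 ≤ Fintype.card α)
    (Δ Γ : Finset α) (hΔ : Δ.card = k - 1) (hΓ : Γ.card = k) :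
    ∀ Δ' ∈ Γ.powersetCard (k - 1), InOrb G Δ Δ' := by
  classical
  have hk1 : 1 ≤ k := by omega
  have hkn := exists_card_k_le k hk hq
  -- divisibility
  have hdvd : k ∣ cnt G Δ Γ (k - 1) := by
    rw [Nat.dvd_iff_prime_pow_dvd_dvd]
    intro p e hp hpe
    rcases Nat.eq_zero_or_pos e with rfl | he
    · simp
    · exact primePow_dvd_cnt G hk1 hG Δ Γ hΓ (p ^ e) (hp.isPrimePow.pow he.ne') hpe
        (hq _ (hp.isPrimePow.pow he.ne') hpe)
  -- positivity
  have hpos : 0 < cnt G Δ Γ (k - 1) := by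
    obtain ⟨Γ0, h1, -, h3⟩ := Finset.exists_subsuperset_card_eq (s := Δ) (t := Finset.univ)
      (n := k) (Finset.subset_univ _) (by omega) (by rw [Finset.card_univ]; exact hkn)
    rw [cnt_const G hG Δ Γ Γ0 hΓ h3]
    unfold cnt
    apply Finset.card_pos.2
    refine ⟨Δ, ?_⟩
    simp only [Finset.mem_filter, Finset.mem_powersetCard]
    exact ⟨⟨h1, hΔ⟩, 1, one_smul _ _⟩
  have hle : cnt G Δ Γ (k - 1) ≤ k := by
    unfold cnt
    refine (Finset.card_filter_le _ _).trans ?_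
    rw [Finset.card_powersetCard, hΓ]
    have : k.choose (k - 1) = k := by
      have := Nat.choose_symm hk1
      rw [this, Nat.choose_one_right]
    exact this.le
  have heq : cnt G Δ Γ (k - 1) = (Γ.powersetCard (k - 1)).card := by
    rw [Finset.card_powersetCard, hΓ]
    have h1 : k.choose (k - 1) = k := by
      have := Nat.choose_symm hk1
      rw [this, Nat.choose_one_right]
    rw [h1]
    exact le_antisymm hle (Nat.le_of_dvd hpos hdvd)
  unfold cnt at heq
  exact (Finset.card_filter_eq_iff).1 heq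

theorem main {k : ℕ} (hk : 2 ≤ k)
    (hG : MulAction.IsPretransitive G (Set.powersetCard α k))
    (hq : ∀ q : ℕ, IsPrimePow q → q ∣ k → k + q - 1 ≤ Fintype.card α) :
    MulAction.IsPretransitive G (Set.powersetCard α (k - 1)) := by
  have hkn := exists_card_k_le k hk hq
  refine ⟨fun Δ1 Δ2 => ?_⟩
  obtain ⟨Γ, h1, -, h3⟩ := Finset.exists_subsuperset_card_eq (s := (Δ2 : Finset α))
    (t := Finset.univ) (n := k) (Finset.subset_univ _)
    (by have := Δ2.2; rw [Set.powersetCard.mem_iff] at this; omega)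
    (by rw [Finset.card_univ]; exact hkn)
  have hΔ1 : (Δ1 : Finset α).card = k - 1 := Δ1.2
  have hΔ2 : (Δ2 : Finset α).card = k - 1 := Δ2.2
  obtain ⟨g, hg⟩ := all_inOrb G hk hG hq Δ1 Γ hΔ1 h3 Δ2
    (Finset.mem_powersetCard.2 ⟨h1, hΔ2⟩)
  refine ⟨g, Subtype.ext ?_⟩
  exact (Set.powersetCard.coe_smul (g := g) (s := Δ1)).trans hg

end Cfsg.Agent.Lib.Helper4.HomogDown
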