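import Mathlib
import Cfsg.Agent.Lib.Helper4.OrderP4

set_option autoImplicit false
set_option linter.style.haveILetI false

namespace Cfsg.Agent.Lib.Helper4

open Subgroup
open scoped commutatorElement

universe u

/-- If `N` is normal of prime index and `x ∉ N`, every element is `d * x ^ i` with `d ∈ N`. -/
theorem exists_mul_pow_of_index_prime {P : Type u} [Group P] (N : Subgroup P) [N.Normal] {p : ℕ}
    [Fact p.Prime] (hN : N.index = p) (x : P) (hx : x ∉ N) (g : P) :
    ∃ d ∈ N, ∃ i : ℕ, g = d * x ^ i := by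
  have hx' : (x : P ⧸ N) ≠ 1 := by rwa [Ne, QuotientGroup.eq_one_iff]
  have hcard : Nat.card (P ⧸ N) = p := hN
  obtain ⟨i, hi⟩ := (Submonoid.mem_powers_iff _ _).mp
    (mem_powers_of_prime_card hcard hx' (g' := (g : P ⧸ N)))
  rw [← QuotientGroup.mk_pow, QuotientGroup.eq] at hi
  exact ⟨g * (x ^ i)⁻¹, (inferInstance : N.Normal).mem_comm hi, i, by group⟩

/-- Two elements commute in the quotient if their commutator lies in the subgroup. -/
theorem commute_mk_of_mem {P : Type u} [Group P] (R : Subgroup P) [R.Normal] (a b : P)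
    (h : a * b * a⁻¹ * b⁻¹ ∈ R) : Commute (a : P ⧸ R) (b : P ⧸ R) := by
  rw [← QuotientGroup.eq_one_iff] at h
  rw [QuotientGroup.mk_mul, QuotientGroup.mk_mul, QuotientGroup.mk_mul, QuotientGroup.mk_inv,
    QuotientGroup.mk_inv] at h
  have h1 := mul_inv_eq_one.mp h
  exact mul_inv_eq_iff_eq_mul.mp h1

/-- Conjugation by `x` restricted to a normal subgroup. -/
def conjRestr {P : Type u} [Group P] (N : Subgroup P) [hN : N.Normal] (x : P) : N →* N where
  toFun n := ⟨x * n * x⁻¹, hN.conj_mem n n.2 x⟩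
  map_one' := by apply Subtype.ext; simp
  map_mul' := by intro u w; apply Subtype.ext; simp

/-- The commutator map `n ↦ [x, n]` into the abelianization of `N`. -/
def abComm {P : Type u} [Group P] (N : Subgroup P) [N.Normal] (x : P) : N →* Abelianization N :=
  (Abelianization.of.comp (conjRestr N x)) / Abelianization.of

theorem abComm_apply {P : Type u} [Group P] (N : Subgroup P) [N.Normal] (x : P) (n : N) :
    abComm N x n = Abelianization.of (conjRestr N x n) / Abelianization.of n := rfl

theorem map_commutator_subtype_le {P : Type u} [Group P] (N : Subgroup P) :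
    (commutator N).map N.subtype ≤ commutator P := by
  rw [_root_.commutator_def, Subgroup.map_commutator, _root_.commutator_def]
  exact Subgroup.commutator_mono le_top le_top

/-- Key identity: if `N` is normal of prime index `p` in the finite group `P` and `x ∉ N`, then
`[P : P'] * |N'| = p * |{n ∈ N : [x, n] ∈ N'}|`. -/
theorem index_commutator_mul_card_commutator {P : Type u} [Group P] [Finite P] (N : Subgroup P)
    [hNn : N.Normal] {p : ℕ} [Fact p.Prime] (hN : N.index = p) (x : P) (hx : x ∉ N) :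
    (commutator P).index * Nat.card (commutator N) = p * Nat.card (abComm N x).ker := by
  set τ := conjRestr N x with hτ
  set φ := abComm N x with hφ
  have hφa : ∀ n : N, φ n = Abelianization.of (τ n) / Abelianization.of n := fun n => rfl
  have hτval : ∀ n : N, ((τ n : N) : P) = x * n * x⁻¹ := fun n => rfl
  set R : Subgroup N := φ.range.comap Abelianization.of with hR
  have hRmem : ∀ r : N, r ∈ R ↔ ∃ n : N, φ n = Abelianization.of r := by
    intro r
    rw [hR, Subgroup.mem_comap, MonoidHom.mem_range]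
  haveI hRn : R.Normal := (Subgroup.normal_of_isMulCommutative _).comap _
  have hτR : ∀ r ∈ R, τ r ∈ R := by
    intro r hr
    obtain ⟨n, hn⟩ := (hRmem r).mp hr
    refine (hRmem _).mpr ⟨τ n, ?_⟩
    have := congrArg (Abelianization.map τ) hn
    rw [hφa, map_div, Abelianization.map_of, Abelianization.map_of, Abelianization.map_of] at this
    rw [hφa]; exact this
  have hcommR : ∀ n : N, τ n * n⁻¹ ∈ R := by
    intro n
    refine (hRmem _).mpr ⟨n, ?_⟩
    rw [hφa, map_mul, map_inv, div_eq_mul_inv]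
  have hderR : commutator N ≤ R := by
    intro c hc
    refine (hRmem _).mpr ⟨1, ?_⟩
    rw [map_one]
    rw [← Abelianization.ker_of, MonoidHom.mem_ker] at hc
    exact hc.symm
  set Rt : Subgroup P := R.map N.subtype with hRt
  have hconjx : ∀ g ∈ Rt, x * g * x⁻¹ ∈ Rt := by
    rintro _ ⟨r, hr, rfl⟩
    exact ⟨τ r, hτR r hr, rfl⟩
  have hconjd : ∀ d ∈ N, ∀ g ∈ Rt, d * g * d⁻¹ ∈ Rt := by
    rintro d hd _ ⟨r, hr, rfl⟩
    exact ⟨⟨d, hd⟩ * r * ⟨d, hd⟩⁻¹, hRn.conj_mem r hr ⟨d, hd⟩, rfl⟩
  have hconjpow : ∀ i : ℕ, ∀ g ∈ Rt, x ^ i * g * (x ^ i)⁻¹ ∈ Rt := by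
    intro i
    induction i with
    | zero => intro g hg; simpa using hg
    | succ i ih =>
      intro g hg
      have : x ^ (i + 1) * g * (x ^ (i + 1))⁻¹ = x * (x ^ i * g * (x ^ i)⁻¹) * x⁻¹ := by
        rw [pow_succ']; group
      rw [this]
      exact hconjx _ (ih g hg)
  haveI hRtn : Rt.Normal := by
    refine ⟨fun g hg a => ?_⟩
    obtain ⟨d, hd, i, rfl⟩ := exists_mul_pow_of_index_prime N hN x hx a
    have : d * x ^ i * g * (d * x ^ i)⁻¹ = d * (x ^ i * g * (x ^ i)⁻¹) * d⁻¹ := by group
    rw [this]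
    exact hconjd d hd _ (hconjpow i g hg)
  -- the quotient by `Rt` is commutative
  have hNx : ∀ d ∈ N, Commute ((d : P) : P ⧸ Rt) ((x : P) : P ⧸ Rt) := by
    intro d hd
    refine (commute_mk_of_mem Rt x d ?_).symm
    exact ⟨τ ⟨d, hd⟩ * ⟨d, hd⟩⁻¹, hcommR ⟨d, hd⟩, rfl⟩
  have hNN : ∀ d₁ ∈ N, ∀ d₂ ∈ N, Commute ((d₁ : P) : P ⧸ Rt) ((d₂ : P) : P ⧸ Rt) := by
    intro d₁ h₁ d₂ h₂
    refine commute_mk_of_mem Rt d₁ d₂ ?_
    refine ⟨⁅(⟨d₁, h₁⟩ : N), (⟨d₂, h₂⟩ : N)⁆, hderR ?_, rfl⟩
    rw [_root_.commutator_def]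
    exact Subgroup.commutator_mem_commutator (Subgroup.mem_top _) (Subgroup.mem_top _)
  have hle : commutator P ≤ Rt := by
    apply commutator_le_of_quotient_comm
    intro u v
    obtain ⟨g, rfl⟩ := QuotientGroup.mk_surjective u
    obtain ⟨h, rfl⟩ := QuotientGroup.mk_surjective v
    obtain ⟨d₁, h₁, i, rfl⟩ := exists_mul_pow_of_index_prime N hN x hx g
    obtain ⟨d₂, h₂, j, rfl⟩ := exists_mul_pow_of_index_prime N hN x hx h
    rw [QuotientGroup.mk_mul, QuotientGroup.mk_mul, QuotientGroup.mk_pow, QuotientGroup.mk_pow]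
    exact Commute.mul_left (Commute.mul_right (hNN d₁ h₁ d₂ h₂) ((hNx d₁ h₁).pow_right j))
      (Commute.mul_right ((hNx d₂ h₂).symm.pow_left i) ((Commute.refl _).pow_pow i j))
  have hge : Rt ≤ commutator P := by
    rintro _ ⟨r, hr, rfl⟩
    obtain ⟨n, hn⟩ := (hRmem r).mp hr
    have hc : (τ n * n⁻¹)⁻¹ * r ∈ commutator N := by
      rw [← Abelianization.ker_of, MonoidHom.mem_ker, map_mul, map_inv, map_mul, map_inv, ← hn, hφa,
        div_eq_mul_inv]
      exact inv_mul_cancel _
    have hr' : (N.subtype r : P) = ⁅x, (n : P)⁆ * (((τ n * n⁻¹)⁻¹ * r : N) : P) := by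
      rw [commutatorElement_def]
      simp only [Subgroup.coe_subtype, Subgroup.coe_mul, Subgroup.coe_inv, hτval]
      group
    rw [hr']
    refine (commutator P).mul_mem ?_ (map_commutator_subtype_le N ⟨_, hc, rfl⟩)
    rw [_root_.commutator_def]
    exact Subgroup.commutator_mem_commutator (Subgroup.mem_top _) (Subgroup.mem_top _)
  have heq : commutator P = Rt := le_antisymm hle hge
  have hsurj : Function.Surjective (Abelianization.of : N →* Abelianization N) :=
    QuotientGroup.mk_surjective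
  have hidx : (commutator P).index = φ.range.index * p := by
    rw [heq, hRt, Subgroup.index_map_subtype, hN, hR, Subgroup.index_comap_of_surjective _ hsurj]
  have hc1 : Nat.card N = Nat.card (Abelianization N) * Nat.card (commutator N) :=
    Subgroup.card_eq_card_quotient_mul_card_subgroup (commutator N)
  have hc2 : φ.range.index * Nat.card φ.range = Nat.card (Abelianization N) :=
    Subgroup.index_mul_card _
  have hc3 : φ.ker.index * Nat.card φ.ker = Nat.card N := Subgroup.index_mul_card _
  rw [Subgroup.index_ker] at hc3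
  have hpos : 0 < Nat.card φ.range := Nat.card_pos
  have hc4 : Nat.card φ.ker = φ.range.index * Nat.card (commutator N) := by
    apply Nat.eq_of_mul_eq_mul_left hpos
    rw [hc3, hc1, ← hc2]; ring
  rw [hidx, hc4]; ring

theorem card_commutator_count_eq_card_ker {P : Type u} [Group P] (N : Subgroup P) [N.Normal]
    (x : P) :
    Nat.card {n : N // x * n * x⁻¹ * (n : P)⁻¹ ∈ (commutator N).map N.subtype} =
      Nat.card (abComm N x).ker := by
  apply Nat.card_congr
  apply Equiv.subtypeEquivRight
  intro n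
  have h1 : abComm N x n = Abelianization.of (conjRestr N x n * n⁻¹) := by
    rw [abComm_apply, map_mul, map_inv, div_eq_mul_inv]
  have h2 : n ∈ (abComm N x).ker ↔ conjRestr N x n * n⁻¹ ∈ commutator N := by
    rw [MonoidHom.mem_ker, h1, ← Abelianization.ker_of, MonoidHom.mem_ker]
  rw [h2]
  constructor
  · rintro ⟨c, hc, hcn⟩
    have : c = conjRestr N x n * n⁻¹ := Subtype.ext hcn
    rw [← this]; exact hc
  · intro h
    exact ⟨_, h, rfl⟩

/-- `[P : P'] = p ^ 2` iff the count `c(x)` equals `p * |N'|`, for any fixed `x ∉ N`. -/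
theorem index_commutator_eq_sq_iff_count {P : Type u} [Group P] [Finite P] (N : Subgroup P)
    [N.Normal] {p : ℕ} [Fact p.Prime] (hN : N.index = p) (x : P) (hx : x ∉ N) :
    (commutator P).index = p ^ 2 ↔
      Nat.card {n : N // x * n * x⁻¹ * (n : P)⁻¹ ∈ (commutator N).map N.subtype} =
        p * Nat.card (commutator N) := by
  have hp : p.Prime := Fact.out
  have key := index_commutator_mul_card_commutator N hN x hx
  rw [card_commutator_count_eq_card_ker]
  have hpos : 0 < Nat.card (commutator N) := Nat.card_pos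
  constructor
  · intro h
    rw [h] at key
    apply Nat.eq_of_mul_eq_mul_left hp.pos
    rw [← key]; ring
  · intro h
    rw [h] at key
    apply Nat.eq_of_mul_eq_mul_right hpos
    rw [key]; ring

end Cfsg.Agent.Lib.Helper4
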