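import Mathlib
import Cfsg.Agent.Lib.Helper3.J1.Order
import Cfsg.Agent.Lib.Helper4.J1SData

set_option autoImplicit false

namespace Cfsg.Agent.Lib.Helper4.J1S

open Cfsg.Agent.Lib.Helper3.J1

/-- encodings of the orbit representatives. -/
def RL : List ℕ := RP.map fun r => TL.getD r 0

/-- order check: one of the powers `6, 10, 15, 7, 11, 19` of `a` is the identity. -/
def ordOK (a : ℕ) : Bool :=
  Nat.beq (mulN (mulN (mulN a a) a) (mulN (mulN a a) a)) oneN ||
  (Nat.beq (mulN (mulN (mulN (mulN a a) a) (mulN a a)) (mulN (mulN (mulN a a) a) (mulN a a))) oneN ||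
  (Nat.beq (mulN (mulN (mulN (mulN (mulN a a) a) (mulN a a)) (mulN (mulN (mulN a a) a) (mulN a a)))
      (mulN (mulN (mulN a a) a) (mulN a a))) oneN ||
  (Nat.beq (mulN (mulN (mulN (mulN a a) a) (mulN (mulN a a) a)) a) oneN ||
  (Nat.beq (mulN (mulN (mulN (mulN (mulN a a) a) (mulN a a))
      (mulN (mulN (mulN a a) a) (mulN a a))) a) oneN ||
   Nat.beq (mulN (mulN (mulN (mulN (mulN (mulN (mulN a a) a) (mulN a a))
      (mulN (mulN (mulN a a) a) (mulN a a))) (mulN (mulN (mulN a a) a) (mulN a a)))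
      (mulN (mulN a a) a)) a) oneN))))

theorem eq_one_of_enc {x : Γ} {a : ℕ} (hx : HasEnc x a) (h : Nat.beq a oneN = true) : x = 1 := by
  have h1 : a = oneN := Nat.eq_of_beq_eq_true h
  rw [h1] at hx
  exact hx.inj hasEnc_one

theorem ordOK_sound {x : Γ} {a : ℕ} (hx : HasEnc x a) (h : ordOK a = true) :
    x ^ 6 = 1 ∨ x ^ 10 = 1 ∨ x ^ 15 = 1 ∨ x ^ 7 = 1 ∨ x ^ 11 = 1 ∨ x ^ 19 = 1 := by
  have h2 := hx.mul hx
  have h3 := h2.mul hx
  have h6 := h3.mul h3
  have h5 := h3.mul h2
  have h10 := h5.mul h5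
  have h15 := h10.mul h5
  have h7 := h6.mul hx
  have h11 := h10.mul hx
  have h19 := (h15.mul h3).mul hx
  simp only [ordOK, Bool.or_eq_true] at h
  rcases h with h | h | h | h | h | h
  · left
    rw [← eq_one_of_enc h6 h]; simp only [pow_succ, pow_zero, one_mul, mul_assoc]
  · right; left
    rw [← eq_one_of_enc h10 h]; simp only [pow_succ, pow_zero, one_mul, mul_assoc]
  · right; right; left
    rw [← eq_one_of_enc h15 h]; simp only [pow_succ, pow_zero, one_mul, mul_assoc]
  · right; right; right; left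
    rw [← eq_one_of_enc h7 h]; simp only [pow_succ, pow_zero, one_mul, mul_assoc]
  · right; right; right; right; left
    rw [← eq_one_of_enc h11 h]; simp only [pow_succ, pow_zero, one_mul, mul_assoc]
  · right; right; right; right; right
    rw [← eq_one_of_enc h19 h]; simp only [pow_succ, pow_zero, one_mul, mul_assoc]

set_option maxRecDepth 1000000 in
theorem cert_len : (Nat.beq CD.length TL.length && RP.all (fun r => Nat.blt r TL.length)) = true := by
  decide +kernel

set_option maxRecDepth 1000000 in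
theorem cert_orb : ((TL.zip CD).all fun x =>
    Nat.blt x.2.1 RL.length && Nat.blt x.2.2.1 HL.length && Nat.blt x.2.2.2 HL.length &&
    Nat.beq (mulN (HL.getD x.2.2.1 0) x.1) (mulN (RL.getD x.2.1 0) (HL.getD x.2.2.2 0))) = true := by
  decide +kernel

set_option maxRecDepth 1000000 in
theorem cert_ord : (RL.all fun r => HL.all fun e => ordOK (mulN r e)) = true := by
  decide +kernel

end Cfsg.Agent.Lib.Helper4.J1S
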