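import Mathlib
import Cfsg.Agent.Lib.Helper4.J1S1

set_option autoImplicit false

namespace Cfsg.Agent.Lib.Helper4.J1S

open Cfsg.Agent.Lib.Helper3.J1

theorem mem_zip_left {α β : Type*} : ∀ {A : List α} {B : List β}, A.length = B.length →
    ∀ a ∈ A, ∃ b, (a, b) ∈ A.zip B
  | [], _, _, a, ha => by simp at ha
  | _ :: _, [], h, _, _ => by simp at h
  | a' :: A, b' :: B, h, a, ha => by
    rw [List.mem_cons] at ha
    rcases ha with rfl | ha
    · exact ⟨b', by simp⟩
    · have hlen : A.length = B.length := by simpa using h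
      obtain ⟨b, hb⟩ := mem_zip_left hlen a ha
      exact ⟨b, by simp [hb]⟩

theorem pow_eq_one_of_conj {a b c : Γ} (h : a = c⁻¹ * b * c) {n : ℕ} (hb : b ^ n = 1) :
    a ^ n = 1 := by
  subst h
  have h1 : (c⁻¹ * b * c) ^ n = c⁻¹ * b ^ n * c := by
    have := conj_pow (a := c⁻¹) (b := b) (i := n)
    simpa using this
  rw [h1, hb]
  group

theorem RL_sound {r : ℕ} (hr : r ∈ RL) : SoundIn G r := by
  unfold RL at hr
  rw [List.mem_map] at hr
  obtain ⟨p, hp, rfl⟩ := hr
  have h := cert_len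
  rw [Bool.and_eq_true] at h
  have h2 := (List.all_eq_true.mp h.2) p hp
  rw [Nat.blt_eq] at h2
  exact TL_sound _ (getD_mem h2)

theorem HL_sound {e : ℕ} (he : e ∈ HL) : SoundIn G e := by
  obtain ⟨g, hg, hge⟩ := H_facts.1 e he
  exact ⟨g, H_le hg, hge⟩

theorem J1_exp {g : Γ} (hg : g ∈ G) :
    g ^ 6 = 1 ∨ g ^ 10 = 1 ∨ g ^ 15 = 1 ∨ g ^ 7 = 1 ∨ g ^ 11 = 1 ∨ g ^ 19 = 1 := by
  obtain ⟨t, ht, tg, htg, h, hh, rfl⟩ := G_cover g hg
  have hl := cert_len
  rw [Bool.and_eq_true] at hl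
  have hlen : TL.length = CD.length := (Nat.eq_of_beq_eq_true hl.1).symm
  obtain ⟨c, hc⟩ := mem_zip_left hlen t ht
  have hx := (List.all_eq_true.mp cert_orb) (t, c) hc
  simp only [Bool.and_eq_true, Nat.blt_eq] at hx
  obtain ⟨⟨⟨h1, h2⟩, h3⟩, h4⟩ := hx
  have h4' := Nat.eq_of_beq_eq_true h4
  have hri : RL.getD c.1 0 ∈ RL := getD_mem h1
  have hea : HL.getD c.2.1 0 ∈ HL := getD_mem h2
  have heb : HL.getD c.2.2 0 ∈ HL := getD_mem h3
  obtain ⟨h', hh', henc'⟩ := H_facts.1 _ hea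
  obtain ⟨r, -, hrenc⟩ := RL_sound hri
  obtain ⟨h'', hh'', henc''⟩ := H_facts.1 _ heb
  have e1 : h' * tg = r * h'' := by
    apply (henc'.mul htg).inj
    rw [h4']
    exact hrenc.mul henc''
  have hk : h'' * h * h'⁻¹ ∈ H := H.mul_mem (H.mul_mem hh'' hh) (H.inv_mem hh')
  obtain ⟨ek, hek, hkenc⟩ := H_facts.2.1 _ hk
  have hord := (List.all_eq_true.mp ((List.all_eq_true.mp cert_ord) _ hri)) ek hek
  have hpow := ordOK_sound (hrenc.mul hkenc) hord
  have hconj : tg * h = h'⁻¹ * (r * (h'' * h * h'⁻¹)) * h' := by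
    have : tg = h'⁻¹ * (r * h'') := by rw [← e1]; group
    rw [this]; group
  rcases hpow with hp | hp | hp | hp | hp | hp
  · exact Or.inl (pow_eq_one_of_conj hconj hp)
  · exact Or.inr (Or.inl (pow_eq_one_of_conj hconj hp))
  · exact Or.inr (Or.inr (Or.inl (pow_eq_one_of_conj hconj hp)))
  · exact Or.inr (Or.inr (Or.inr (Or.inl (pow_eq_one_of_conj hconj hp))))
  · exact Or.inr (Or.inr (Or.inr (Or.inr (Or.inl (pow_eq_one_of_conj hconj hp)))))
  · exact Or.inr (Or.inr (Or.inr (Or.inr (Or.inr (pow_eq_one_of_conj hconj hp)))))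

theorem order_eq_of' {M : Type*} [Monoid M] {g : M} {n : ℕ} (ms : List ℕ) (hn : 0 < n)
    (h1 : g ^ n = 1) (h2 : ∀ m ∈ ms, g ^ m ≠ 1)
    (h3 : ∀ d ∈ n.divisors, d = n ∨ ∃ m ∈ ms, d ∣ m) : orderOf g = n := by
  have hd : orderOf g ∈ n.divisors :=
    Nat.mem_divisors.mpr ⟨orderOf_dvd_of_pow_eq_one h1, hn.ne'⟩
  rcases h3 _ hd with h | ⟨m, hm, hdm⟩
  · exact h
  · exact absurd (orderOf_dvd_iff_pow_eq_one.mp hdm) (h2 m hm)

/-- the witness encodings. -/
def wit (i j : ℕ) : ℕ := mulN (RL.getD i 0) (HL.getD j 0)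

theorem wit_sound {i j : ℕ} (hi : i < RL.length) (hj : j < HL.length) : SoundIn G (wit i j) :=
  (RL_sound (getD_mem hi)).mul (HL_sound (getD_mem hj))

theorem exists_order {i j n : ℕ} (ms : List ℕ) (hi : i < RL.length) (hj : j < HL.length)
    (hn : 0 < n) (h1 : Nat.beq (powN (wit i j) n) oneN = true)
    (h2 : ms.all (fun m => !(Nat.beq (powN (wit i j) m) oneN)) = true)
    (h3 : ∀ d ∈ n.divisors, d = n ∨ ∃ m ∈ ms, d ∣ m) : ∃ g : ↥G, orderOf g = n := by
  obtain ⟨g, hg, hge⟩ := wit_sound hi hj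
  refine ⟨⟨g, hg⟩, ?_⟩
  rw [← Subgroup.orderOf_coe]
  refine order_eq_of' ms hn ?_ ?_ h3
  · exact (hge.pow n).inj (by rw [Nat.eq_of_beq_eq_true h1]; exact hasEnc_one)
  · intro m hm hcon
    have h4 := (List.all_eq_true.mp h2) m hm
    rw [Bool.not_eq_true'] at h4
    have h5 : powN (wit i j) m = oneN := by
      have h6 := hge.pow m
      rw [hcon] at h6
      exact h6.symm.trans hasEnc_one
    rw [h5] at h4
    simp at h4

set_option maxRecDepth 1000000 in
theorem ex6 : ∃ g : ↥G, orderOf g = 6 :=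
  exists_order (i := 1) (j := 44) [3, 2] (by decide +kernel) (by decide +kernel) (by norm_num)
    (by decide +kernel) (by decide +kernel) (by decide)

set_option maxRecDepth 1000000 in
theorem ex10 : ∃ g : ↥G, orderOf g = 10 :=
  exists_order (i := 0) (j := 11) [5, 2] (by decide +kernel) (by decide +kernel) (by norm_num)
    (by decide +kernel) (by decide +kernel) (by decide)

set_option maxRecDepth 1000000 in
theorem ex15 : ∃ g : ↥G, orderOf g = 15 :=
  exists_order (i := 1) (j := 6) [5, 3] (by decide +kernel) (by decide +kernel) (by norm_num)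
    (by decide +kernel) (by decide +kernel) (by decide)

set_option maxRecDepth 1000000 in
theorem ex7 : ∃ g : ↥G, orderOf g = 7 :=
  exists_order (i := 1) (j := 0) [1] (by decide +kernel) (by decide +kernel) (by norm_num)
    (by decide +kernel) (by decide +kernel) (by decide)

set_option maxRecDepth 1000000 in
theorem ex11 : ∃ g : ↥G, orderOf g = 11 :=
  exists_order (i := 0) (j := 1) [1] (by decide +kernel) (by decide +kernel) (by norm_num)
    (by decide +kernel) (by decide +kernel) (by decide)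

set_option maxRecDepth 1000000 in
theorem ex19 : ∃ g : ↥G, orderOf g = 19 :=
  exists_order (i := 1) (j := 2) [1] (by decide +kernel) (by decide +kernel) (by norm_num)
    (by decide +kernel) (by decide +kernel) (by decide)

theorem exists_orderOf_eq_of_dvd' {M : Type*} [Monoid M] {g : M} {n d : ℕ} (hn : 0 < n)
    (h : orderOf g = n) (hd : d ∣ n) : ∃ g' : M, orderOf g' = d := by
  obtain ⟨e, rfl⟩ := hd
  have he0 : 0 < e := Nat.pos_of_ne_zero (by rintro rfl; simp at hn)
  refine ⟨g ^ e, ?_⟩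
  rw [orderOf_pow_of_dvd he0.ne' (by rw [h]; exact dvd_mul_left e d), h,
    Nat.mul_div_cancel _ he0]

/-- the spectrum of `J₁`. -/
def SJ : Finset ℕ := {1, 2, 3, 5, 6, 7, 10, 11, 15, 19}

theorem J1_spectrum : Set.range (orderOf : ↥Cfsg.Spor.J1 → ℕ) = ↑SJ := by
  apply Set.eq_of_subset_of_subset
  · rintro d ⟨g, rfl⟩
    rw [← Subgroup.orderOf_coe]
    have h3 : ∀ r ∈ [6, 10, 15, 7, 11, 19], ∀ d ∈ Nat.divisors r, d ∈ SJ := by decide
    have key : ∀ r ∈ [6, 10, 15, 7, 11, 19], (g : Γ) ^ r = 1 → orderOf (g : Γ) ∈ SJ := by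
      intro r hr h1
      exact h3 r hr _ (Nat.mem_divisors.mpr ⟨orderOf_dvd_of_pow_eq_one h1, by
        rintro rfl; simp at hr⟩)
    rcases J1_exp g.2 with h | h | h | h | h | h
    · exact key 6 (by simp) h
    · exact key 10 (by simp) h
    · exact key 15 (by simp) h
    · exact key 7 (by simp) h
    · exact key 11 (by simp) h
    · exact key 19 (by simp) h
  · intro d hd
    have hd' : d ∈ SJ := hd
    have h1 : ∀ d ∈ SJ, ∃ n ∈ [6, 10, 15, 7, 11, 19], d ∣ n := by decide
    obtain ⟨n, hn, hdn⟩ := h1 d hd'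
    have h2 : ∃ g : ↥G, orderOf g = n := by
      simp only [List.mem_cons, List.not_mem_nil, or_false] at hn
      rcases hn with rfl | rfl | rfl | rfl | rfl | rfl
      · exact ex6
      · exact ex10
      · exact ex15
      · exact ex7
      · exact ex11
      · exact ex19
    obtain ⟨g, hg⟩ := h2
    have hn0 : 0 < n := by
      simp only [List.mem_cons, List.not_mem_nil, or_false] at hn
      rcases hn with rfl | rfl | rfl | rfl | rfl | rfl <;> norm_num
    exact exists_orderOf_eq_of_dvd' hn0 hg hdn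

end Cfsg.Agent.Lib.Helper4.J1S
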