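import Mathlib
import Cfsg.Agent.Lib.Helper4.J1S2
import Cfsg.Agent.Lib.Helper4.Frob19

set_option autoImplicit false

namespace Cfsg.Agent.Lib.Helper4.J1S

open Cfsg.Agent.Lib.Helper4.Frob19

theorem range_orderOf_prod {A B : Type*} [Monoid A] [Monoid B] {SA SB : Finset ℕ}
    (hA : Set.range (orderOf : A → ℕ) = ↑SA) (hB : Set.range (orderOf : B → ℕ) = ↑SB) :
    Set.range (orderOf : A × B → ℕ) = ↑(Finset.image₂ Nat.lcm SA SB) := by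
  ext d
  rw [Finset.coe_image₂, Set.mem_image2]
  constructor
  · rintro ⟨x, rfl⟩
    refine ⟨orderOf x.1, ?_, orderOf x.2, ?_, (Prod.orderOf x).symm⟩
    · rw [← hA]; exact ⟨x.1, rfl⟩
    · rw [← hB]; exact ⟨x.2, rfl⟩
  · rintro ⟨a, ha, b, hb, rfl⟩
    rw [← hA] at ha
    rw [← hB] at hb
    obtain ⟨x, rfl⟩ := ha
    obtain ⟨y, rfl⟩ := hb
    exact ⟨(x, y), Prod.orderOf (x, y)⟩

/-- the spectrum of `J₁ × J₁ × J₁`. -/
def SJ3 : Finset ℕ := Finset.image₂ Nat.lcm SJ (Finset.image₂ Nat.lcm SJ SJ)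

theorem spec_eq : Finset.image₂ Nat.lcm SF SJ3 = Finset.image₂ Nat.lcm SJ SJ3 := by decide +kernel

theorem main (N : ℕ) : ∃ (H : Type) (_ : Group H) (_ : Fintype H), N < Fintype.card H ∧
    Set.range (orderOf : H → ℕ) = Set.range (orderOf :
      ↥Cfsg.Spor.J1 × ↥Cfsg.Spor.J1 × ↥Cfsg.Spor.J1 × ↥Cfsg.Spor.J1 → ℕ) := by
  classical
  have h3 : Set.range (orderOf : ↥Cfsg.Spor.J1 × ↥Cfsg.Spor.J1 × ↥Cfsg.Spor.J1 → ℕ) = ↑SJ3 :=
    range_orderOf_prod J1_spectrum (range_orderOf_prod J1_spectrum J1_spectrum)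
  have h4 := range_orderOf_prod J1_spectrum h3
  have hF := range_orderOf_prod (FH_spectrum N) h3
  haveI : Finite (FH (N + 1) × (↥Cfsg.Spor.J1 × ↥Cfsg.Spor.J1 × ↥Cfsg.Spor.J1)) := inferInstance
  refine ⟨FH (N + 1) × (↥Cfsg.Spor.J1 × ↥Cfsg.Spor.J1 × ↥Cfsg.Spor.J1), inferInstance,
    Fintype.ofFinite _, ?_, ?_⟩
  · rw [Fintype.card_eq_nat_card, Nat.card_prod]
    have h1 := card_FH_gt (N + 1)
    have h2 : 0 < Nat.card (↥Cfsg.Spor.J1 × ↥Cfsg.Spor.J1 × ↥Cfsg.Spor.J1) := Nat.card_pos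
    calc N < N + 1 := Nat.lt_succ_self N
      _ < Nat.card (FH (N + 1)) := h1
      _ ≤ _ := Nat.le_mul_of_pos_right _ h2
  · rw [hF, h4, spec_eq]

end Cfsg.Agent.Lib.Helper4.J1S
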