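import Mathlib
import Cfsg.Agent.Lib.Helper4.KW8
import Cfsg.Agent.Lib.Helper1.MinNormal
import Cfsg.Agent.Lib.Helper10.PGroupBasic

set_option autoImplicit false
open Pointwise

namespace Cfsg.Agent.H4KW
open Cfsg.Agent.Lib.Helper1
universe u
variable {G : Type u} [Group G] {A B : Subgroup G}

/-- in a finite nilpotent group every proper subgroup lies in a proper normal subgroup -/
theorem exists_normal_of_nilpotent [Finite G] (hG : Group.IsNilpotent G) {H : Subgroup G}
    (hH : H ≠ ⊤) : ∃ N : Subgroup G, N.Normal ∧ N ≠ ⊤ ∧ H ≤ N := by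
  rcases eq_top_or_exists_le_coatom H with h | ⟨M, hM, hHM⟩
  · exact absurd h hH
  · have := (Group.isNilpotent_of_finite_tfae (G := G)).out 0 2
    exact ⟨M, (this.mp hG) M hM, hM.1, hHM⟩

theorem mem_normalizer_sup {H K : Subgroup G} {g : G}
    (hH : g ∈ Subgroup.normalizer (H : Set G)) (hK : g ∈ Subgroup.normalizer (K : Set G)) :
    g ∈ Subgroup.normalizer ((H ⊔ K : Subgroup G) : Set G) := by
  apply mem_normalizer_of_smul_eq
  rw [Subgroup.smul_sup, smul_eq_of_mem_normalizer hH, smul_eq_of_mem_normalizer hK]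

/-- the key case: `K` abelian minimal normal, `G = AK = BK`, `A ∩ K = B ∩ K = 1` -/
theorem KWG.central_of_minNormal [Finite G] (h : KWG A B) {K : Subgroup G} (hK : IsMinNormal K)
    {p : ℕ} (hp : p.Prime) (hKp : IsPGroup p K)
    (hAK : ∀ g : G, ∃ a ∈ A, ∃ k ∈ K, g = a * k) (hBK : ∀ g : G, ∃ b ∈ B, ∃ k ∈ K, g = b * k)
    (hA0 : A ⊓ K = ⊥) (hB0 : B ⊓ K = ⊥) : ∀ a ∈ A, ∀ k ∈ K, a * k = k * a := by
  haveI hKn : K.Normal := hK.1
  haveI := Fact.mk hp
  have hcard : ∀ {A : Subgroup G}, (∀ g : G, ∃ a ∈ A, ∃ k ∈ K, g = a * k) → A ⊓ K = ⊥ →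
      Nat.card G = Nat.card A * Nat.card K := by
    intro A hAK hA0
    have h1 := Cfsg.Agent.Lib.Helper4.card_sup_mul_card_inf A K
      (fun a _ => (Subgroup.normalizer_eq_top_iff.mpr hKn) ▸ Subgroup.mem_top a)
    have htop : A ⊔ K = ⊤ := by
      rw [eq_top_iff]
      intro g _
      obtain ⟨a, ha, k, hk, rfl⟩ := hAK g
      exact (A ⊔ K).mul_mem (le_sup_left (a := A) ha) (le_sup_right (a := A) hk)
    rw [htop, hA0, Subgroup.card_bot, mul_one, Subgroup.card_top] at h1
    exact h1
  have hcardA := hcard hAK hA0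
  have hcardB := hcard hBK hB0
  obtain ⟨k₀, hk₀⟩ := IsPGroup.iff_card.mp hKp
  have hle : A ≤ Subgroup.centralizer (K : Set G) := by
    apply le_of_forall_syl_le h.nilA
    intro s hs
    by_cases hsp : s = p
    · subst hsp
      -- P = A_s K is a normal p-subgroup
      have hPp : IsPGroup s (syl A s ⊔ K : Subgroup G) :=
        IsPGroup.to_sup_of_normal_right (isPGroup_syl h.nilA hs) hKp
      have hPn : ∀ g : G, g ∈ Subgroup.normalizer ((syl A s ⊔ K : Subgroup G) : Set G) := by
        intro g
        obtain ⟨a, ha, k, hk, rfl⟩ := hAK g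
        apply Subgroup.mul_mem
        · exact mem_normalizer_sup (le_normalizer_syl A s ha)
            ((Subgroup.normalizer_eq_top_iff.mpr hKn) ▸ Subgroup.mem_top a)
        · exact Subgroup.le_normalizer (le_sup_right (a := syl A s) hk)
      haveI : (K.subgroupOf (syl A s ⊔ K)).Normal := hKn.subgroupOf _
      have hK'ne : K.subgroupOf (syl A s ⊔ K) ≠ ⊥ := by
        intro h0
        apply hK.2.1
        rw [Subgroup.subgroupOf_eq_bot] at h0
        rw [eq_bot_iff]
        intro x hx
        have : x ∈ K ⊓ (syl A s ⊔ K) := ⟨hx, le_sup_right (a := syl A s) hx⟩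
        rw [disjoint_iff.mp h0] at this
        exact this
      obtain ⟨x, hxK, hxc, hx1⟩ := Cfsg.Agent.Lib.Helper10.exists_mem_center_of_normal_ne_bot s
        hPp (K.subgroupOf (syl A s ⊔ K)) hK'ne
      -- Z₀ = K ∩ C(P)
      have hZn : (K ⊓ Subgroup.centralizer ((syl A s ⊔ K : Subgroup G) : Set G)).Normal := by
        refine ⟨fun z hz g => ⟨hKn.conj_mem z hz.1 g, conj_mem_centralizer (hPn g) hz.2⟩⟩
      have hZne : K ⊓ Subgroup.centralizer ((syl A s ⊔ K : Subgroup G) : Set G) ≠ ⊥ := by
        intro h0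
        apply hx1
        have : (x : G) ∈ K ⊓ Subgroup.centralizer ((syl A s ⊔ K : Subgroup G) : Set G) := by
          refine Subgroup.mem_inf.mpr ⟨hxK, ?_⟩
          rw [Subgroup.mem_centralizer_iff]
          intro y hy
          have := Subgroup.mem_center_iff.mp hxc ⟨y, hy⟩
          exact congrArg Subtype.val this
        rw [h0, Subgroup.mem_bot] at this
        exact Subtype.ext this
      have hZK := (hK.2.2 _ hZn inf_le_left).resolve_left hZne
      intro y hy
      rw [Subgroup.mem_centralizer_iff]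
      intro k hk
      have hkZ : k ∈ K ⊓ Subgroup.centralizer ((syl A s ⊔ K : Subgroup G) : Set G) := by
        rw [hZK]; exact hk
      exact ((Subgroup.mem_centralizer_iff.mp hkZ.2) y (le_sup_left (b := K) hy)).symm
    · -- s ≠ p: the Sylow s-subgroups of A and B coincide and are normal
      have hfs : ∀ {A : Subgroup G}, Nat.card G = Nat.card A * Nat.card K →
          (Nat.card A).factorization s = (Nat.card G).factorization s := by
        intro A hc
        rw [hc, Nat.factorization_mul Nat.card_pos.ne' Nat.card_pos.ne', hk₀,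
          Nat.factorization_pow, Finsupp.add_apply, Finsupp.smul_apply,
          hp.factorization, Finsupp.single_apply, if_neg (Ne.symm hsp)]
        simp
      have hSA : Nat.card (syl A s) = s ^ (Nat.card G).factorization s := by
        rw [card_syl h.nilA hs, hfs hcardA]
      have hSB : Nat.card (syl B s) = s ^ (Nat.card G).factorization s := by
        rw [card_syl h.nilB hs, hfs hcardB]
      obtain ⟨g, hg⟩ := exists_conj_eq_of_card hs hSA hSB
      obtain ⟨b, hb, a, ha, hba⟩ := h.symm.fac g
      have heq : syl A s = syl B s := by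
        rw [hba, map_mul, mul_smul, smul_eq_of_mem_normalizer (le_normalizer_syl A s ha)] at hg
        have h2 : MulAut.conj b⁻¹ • MulAut.conj b • syl A s = MulAut.conj b⁻¹ • syl B s := by
          rw [hg]
        rw [conj_inv_smul_smul,
          smul_eq_of_mem_normalizer (le_normalizer_syl B s (B.inv_mem hb))] at h2
        exact h2
      have hSn : (syl A s).Normal := by
        rw [← Subgroup.normalizer_eq_top_iff, eq_top_iff]
        intro g _
        obtain ⟨a, ha, b, hb, rfl⟩ := h.fac g
        apply Subgroup.mul_mem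
        · exact le_normalizer_syl A s ha
        · rw [heq]; exact le_normalizer_syl B s hb
      haveI := Fact.mk hs
      have hdisj : Disjoint (syl A s) K :=
        IsPGroup.disjoint_of_ne s p hsp _ _ (isPGroup_syl h.nilA hs) hKp
      intro y hy
      rw [Subgroup.mem_centralizer_iff]
      intro k hk
      exact (Subgroup.commute_of_normal_of_disjoint _ _ hSn hKn hdisj y k hy hk).eq.symm
  intro a ha k hk
  exact ((Subgroup.mem_centralizer_iff.mp (hle ha)) k hk).symm


/-- **Kegel**: a proper normal subgroup containing one of the factors -/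
theorem kegel_normal_aux : ∀ (n : ℕ) (G : Type u) [Group G] [Finite G], Nat.card G = n →
    ∀ A B : Subgroup G, KWG A B → (A ≠ ⊤ ∨ B ≠ ⊤) →
    ∃ N : Subgroup G, N.Normal ∧ N ≠ ⊤ ∧ (A ≤ N ∨ B ≤ N) := by
  intro n
  induction n using Nat.strong_induction_on with
  | _ n ih =>
  intro G _ _ hcard A B h hproper
  haveI hsol : Group.IsSolvable G := kwg_solvable h
  haveI hnt : Nontrivial G := by
    by_contra hn
    rw [not_nontrivial_iff_subsingleton] at hn
    rcases hproper with h1 | h1
    · exact h1 (Subsingleton.elim _ _)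
    · exact h1 (Subsingleton.elim _ _)
  obtain ⟨K, hK⟩ := exists_isMinNormal (G := G)
  haveI hKn : K.Normal := hK.1
  by_cases hcase : A.map (QuotientGroup.mk' K) ≠ ⊤ ∨ B.map (QuotientGroup.mk' K) ≠ ⊤
  · -- induction on the quotient
    have hlt : Nat.card (G ⧸ K) < n := by
      rw [← hcard, ← Subgroup.index_eq_card, ← K.card_mul_index]
      have h1 : 1 < Nat.card K := by
        rw [Subgroup.one_lt_card_iff_ne_bot]; exact hK.2.1
      have h2 : 0 < K.index := Nat.pos_of_ne_zero Subgroup.index_ne_zero_of_finite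
      nlinarith
    obtain ⟨N', hN'n, hN'top, hN'⟩ := ih _ hlt (G ⧸ K) rfl _ _ (h.map_mk K) hcase
    refine ⟨N'.comap (QuotientGroup.mk' K), hN'n.comap _, ?_, ?_⟩
    · intro h0
      apply hN'top
      rw [eq_top_iff]
      intro q _
      obtain ⟨g, rfl⟩ := QuotientGroup.mk_surjective q
      have : g ∈ N'.comap (QuotientGroup.mk' K) := by rw [h0]; trivial
      exact this
    · rcases hN' with h1 | h1
      · left
        intro a ha
        exact h1 ⟨a, ha, rfl⟩
      · right
        intro b hb
        exact h1 ⟨b, hb, rfl⟩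
  · push Not at hcase
    obtain ⟨hAtop, hBtop⟩ := hcase
    have hfacK : ∀ {A : Subgroup G}, A.map (QuotientGroup.mk' K) = ⊤ →
        ∀ g : G, ∃ a ∈ A, ∃ k ∈ K, g = a * k := by
      intro A hA g
      have : (QuotientGroup.mk' K g) ∈ A.map (QuotientGroup.mk' K) := by rw [hA]; trivial
      obtain ⟨a, ha, hag⟩ := this
      refine ⟨a, ha, a⁻¹ * g, ?_, by group⟩
      exact QuotientGroup.eq.mp hag
    have hAK := hfacK hAtop
    have hBK := hfacK hBtop
    have hKab : ∀ x ∈ K, ∀ y ∈ K, x * y = y * x := by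
      intro x hx y hy
      have := isMulCommutative_iff.mp hK.isMulCommutative (⟨x, hx⟩ : K) ⟨y, hy⟩
      exact congrArg Subtype.val this
    obtain ⟨p, hp, hKp⟩ := hK.exists_prime_isPGroup
    -- A ∩ K is normal
    have hinf : ∀ {A : Subgroup G}, (∀ g : G, ∃ a ∈ A, ∃ k ∈ K, g = a * k) →
        A ⊓ K = ⊥ ∨ K ≤ A := by
      intro A hAK
      have hn : (A ⊓ K).Normal := by
        refine ⟨fun x hx g => ?_⟩
        obtain ⟨a, ha, k, hk, rfl⟩ := hAK g
        have e : a * k * x * (a * k)⁻¹ = a * x * a⁻¹ := by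
          have := hKab k hk x hx.2
          calc a * k * x * (a * k)⁻¹ = a * (k * x) * k⁻¹ * a⁻¹ := by group
            _ = a * (x * k) * k⁻¹ * a⁻¹ := by rw [this]
            _ = a * x * a⁻¹ := by group
        rw [e]
        exact ⟨A.mul_mem (A.mul_mem ha hx.1) (A.inv_mem ha), hKn.conj_mem x hx.2 a⟩
      rcases hK.2.2 _ hn inf_le_right with h1 | h1
      · left; exact h1
      · right; rw [← h1]; exact inf_le_left
    have htop_of_le : ∀ {A : Subgroup G}, (∀ g : G, ∃ a ∈ A, ∃ k ∈ K, g = a * k) → K ≤ A →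
        A = ⊤ := by
      intro A hAK hKA
      rw [eq_top_iff]
      intro g _
      obtain ⟨a, ha, k, hk, rfl⟩ := hAK g
      exact A.mul_mem ha (hKA hk)
    have hnil_of_top : ∀ {A : Subgroup G}, Group.IsNilpotent A → A = ⊤ → Group.IsNilpotent G := by
      intro A hA hAt
      haveI := hA
      exact Group.nilpotent_of_mulEquiv ((MulEquiv.subgroupCongr hAt).trans Subgroup.topEquiv)
    rcases hinf hAK with hA0 | hKA
    · rcases hinf hBK with hB0 | hKB
      · -- K is central, so A is normal
        have hcen := h.central_of_minNormal hK hp hKp hAK hBK hA0 hB0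
        refine ⟨A, ⟨fun x hx g => ?_⟩, ?_, Or.inl le_rfl⟩
        · obtain ⟨a, ha, k, hk, rfl⟩ := hAK g
          have e : a * k * x * (a * k)⁻¹ = a * x * a⁻¹ := by
            have := hcen x hx k hk
            calc a * k * x * (a * k)⁻¹ = a * (k * x) * k⁻¹ * a⁻¹ := by group
              _ = a * (x * k) * k⁻¹ * a⁻¹ := by rw [this]
              _ = a * x * a⁻¹ := by group
          rw [e]
          exact A.mul_mem (A.mul_mem ha hx) (A.inv_mem ha)
        · intro hAt
          apply hK.2.1
          rw [eq_bot_iff, ← hA0, hAt, top_inf_eq]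
      · have hBt := htop_of_le hBK hKB
        have hAt : A ≠ ⊤ := by
          rcases hproper with h1 | h1
          · exact h1
          · exact absurd hBt h1
        obtain ⟨N, hN, hNt, hAN⟩ := exists_normal_of_nilpotent (hnil_of_top h.nilB hBt) hAt
        exact ⟨N, hN, hNt, Or.inl hAN⟩
    · have hAt := htop_of_le hAK hKA
      have hBt : B ≠ ⊤ := by
        rcases hproper with h1 | h1
        · exact absurd hAt h1
        · exact h1
      obtain ⟨N, hN, hNt, hBN⟩ := exists_normal_of_nilpotent (hnil_of_top h.nilA hAt) hBt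
      exact ⟨N, hN, hNt, Or.inr hBN⟩

theorem kegel_normal {G : Type u} [Group G] [Finite G] {A B : Subgroup G} (h : KWG A B)
    (hproper : A ≠ ⊤ ∨ B ≠ ⊤) : ∃ N : Subgroup G, N.Normal ∧ N ≠ ⊤ ∧ (A ≤ N ∨ B ≤ N) :=
  kegel_normal_aux _ G rfl A B h hproper

end Cfsg.Agent.H4KW
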