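import Mathlib
import Cfsg.Prelude.Def_CaseTheorems
import Cfsg.Agent.Lib.Helper4.Klein1
import Cfsg.Agent.Lib.Helper12.Basic

set_option autoImplicit false
open Cfsg

namespace Cfsg.Agent.Lib.Helper4

universe u

/-- An element `u` with `u ^ 2 = 1` centralizes more than two elements of a normal elementary abelian
`2`-subgroup of order at least `8`. -/
theorem two_lt_card_centralizer_in_elemAb {P : Type u} [Group P] [Finite P]
    (E : Subgroup P) [hEn : E.Normal] (hE : IsMulCommutative E) (hE2 : ∀ e ∈ E, e ^ 2 = 1)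
    (hE8 : 8 ≤ Nat.card E) (u : P) (hu : u * u = 1) :
    2 < Nat.card (E ⊓ Subgroup.centralizer {u} : Subgroup P) := by
  have hcomm : ∀ x ∈ E, ∀ y ∈ E, x * y = y * x := fun x hx y hy =>
    congrArg Subtype.val (mul_comm' (⟨x, hx⟩ : E) ⟨y, hy⟩)
  have hui : u⁻¹ = u := inv_eq_of_mul_eq_one_right hu
  have hconj : ∀ e ∈ E, u * e * u⁻¹ ∈ E := fun e he => hEn.conj_mem e he u
  let φ : E →* E :=
    { toFun := fun e => ⟨e.1 * (u * e.1 * u⁻¹), E.mul_mem e.2 (hconj _ e.2)⟩
      map_one' := by apply Subtype.ext; simp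
      map_mul' := by
        intro e f
        apply Subtype.ext
        show (e.1 * f.1) * (u * (e.1 * f.1) * u⁻¹) = (e.1 * (u * e.1 * u⁻¹)) * (f.1 * (u * f.1 * u⁻¹))
        have h1 : u * (e.1 * f.1) * u⁻¹ = (u * e.1 * u⁻¹) * (u * f.1 * u⁻¹) := by group
        rw [h1]
        have h2 := hcomm _ f.2 _ (hconj _ e.2)
        calc e.1 * f.1 * ((u * e.1 * u⁻¹) * (u * f.1 * u⁻¹))
            = e.1 * (f.1 * (u * e.1 * u⁻¹)) * (u * f.1 * u⁻¹) := by simp only [mul_assoc]
          _ = e.1 * ((u * e.1 * u⁻¹) * f.1) * (u * f.1 * u⁻¹) := by rw [h2]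
          _ = _ := by simp only [mul_assoc] }
  have hφ : ∀ e : E, ((φ e : E) : P) = e.1 * (u * e.1 * u⁻¹) := fun e => rfl
  set C : Subgroup P := E ⊓ Subgroup.centralizer {u} with hC
  have hker : (φ.ker).map E.subtype ≤ C := by
    rintro _ ⟨e, he, rfl⟩
    refine Subgroup.mem_inf.mpr ⟨e.2, ?_⟩
    rw [Subgroup.mem_centralizer_singleton_iff]
    have h1 : (e.1 * (u * e.1 * u⁻¹)) = 1 := by
      have := congrArg Subtype.val (MonoidHom.mem_ker.mp he)
      rwa [hφ] at this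
    have h2 : e.1 * e.1 = 1 := by rw [← pow_two]; exact hE2 _ e.2
    have h3 : u * e.1 * u⁻¹ = e.1 := by
      have h4 : e.1 * (u * e.1 * u⁻¹) = e.1 * e.1 := h1.trans h2.symm
      exact mul_left_cancel h4
    show (e : P) * u = u * e
    calc (e : P) * u = (u * e.1 * u⁻¹) * u := by rw [h3]
      _ = u * e := by group
  have hrange : (φ.range).map E.subtype ≤ C := by
    rintro _ ⟨_, ⟨e, rfl⟩, rfl⟩
    refine Subgroup.mem_inf.mpr ⟨(φ e).2, ?_⟩
    rw [Subgroup.mem_centralizer_singleton_iff]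
    show ((φ e : E) : P) * u = u * ((φ e : E) : P)
    rw [hφ]
    have h1 := hcomm _ e.2 _ (hconj _ e.2)
    have h2 : u * (e.1 * (u * e.1 * u⁻¹)) = (u * e.1 * u⁻¹) * (u * u * e.1 * u⁻¹ * u⁻¹) * u := by group
    rw [h2, hu, one_mul, hui]
    have h3 : u * e.1 * u * (e.1 * u * u) * u = (u * e.1 * u) * e.1 * (u * u * u) := by group
    rw [hui] at h1
    rw [h3, hu, one_mul, ← h1]
  have h1 := Subgroup.card_mul_index φ.ker
  rw [Subgroup.index_ker] at h1
  have h2 := Subgroup.card_le_of_le hker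
  have h3 := Subgroup.card_le_of_le hrange
  rw [Subgroup.card_map_of_injective E.subtype_injective] at h2 h3
  by_contra hcon
  have h4 : Nat.card C ≤ 2 := by omega
  have h5 : Nat.card φ.ker * Nat.card φ.range ≤ 2 * 2 :=
    Nat.mul_le_mul (h2.trans h4) (h3.trans h4)
  omega

end Cfsg.Agent.Lib.Helper4
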