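import Mathlib
import Cfsg.Prelude.Def_CaseTheorems
import Cfsg.Agent.Lib.Helper4.Klein2

set_option autoImplicit false
open Cfsg

namespace Cfsg.Agent.Lib.Helper4

universe u

theorem isFourConnected_of_normal_elemAb {P : Type u} [Group P] [Finite P] (hP : IsPGroup 2 P)
    (E : Subgroup P) [hEn : E.Normal] (hE : IsMulCommutative E) (hE2 : ∀ e ∈ E, e ^ 2 = 1)
    (hE8 : 8 ≤ Nat.card E) : Cfsg.IsFourConnected P := by
  have : Fact (Nat.Prime 2) := ⟨Nat.prime_two⟩
  have hcomm : ∀ x ∈ E, ∀ y ∈ E, x * y = y * x := fun x hx y hy =>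
    congrArg Subtype.val (mul_comm' (⟨x, hx⟩ : E) ⟨y, hy⟩)
  have hsq : ∀ e ∈ E, e * e = 1 := fun e he => by rw [← pow_two]; exact hE2 e he
  have hEne : E ≠ ⊥ := by
    intro h
    rw [h, Subgroup.card_bot] at hE8
    omega
  obtain ⟨z, hzE, hz1, hzc⟩ := Cfsg.Agent.Lib.Helper12.exists_ne_one_mem_center_of_normal hP E hEne
  have hzz := hsq z hzE
  have hzcomm : ∀ g : P, g * z = z * g := fun g => Subgroup.mem_center_iff.mp hzc g
  set r : Subgroup P → Subgroup P → Prop :=
    fun A B => IsKleinFour A ∧ IsKleinFour B ∧ ∀ a ∈ A, ∀ b ∈ B, a * b = b * a with hr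
  have hsymm : ∀ A B, r A B → r B A := by
    intro A B ⟨hA, hB, h⟩
    exact ⟨hB, hA, fun b hb a ha => (h a ha b hb).symm⟩
  have hsymm' : ∀ A B, Relation.ReflTransGen r A B → Relation.ReflTransGen r B A := by
    intro A B h
    induction h with
    | refl => exact Relation.ReflTransGen.refl
    | tail _ hbc ih => exact Relation.ReflTransGen.head (hsymm _ _ hbc) ih
  -- every four-group is joined to a four-subgroup of `E`
  have key : ∀ U : Subgroup P, IsKleinFour U →
      ∃ F : Subgroup P, F ≤ E ∧ IsKleinFour F ∧ Relation.ReflTransGen r U F := by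
    intro U hU
    have hU4 : Nat.card U = 4 := hU.card_four
    obtain ⟨u, huU, hu1, huz⟩ := exists_ne_of_two_lt_card U z hzz (by omega)
    have huu : u * u = 1 := by
      have := IsKleinFour.mul_self (⟨u, huU⟩ : U)
      exact congrArg Subtype.val this
    have hUcomm : ∀ a ∈ U, ∀ b ∈ U, a * b = b * a := by
      intro a ha b hb
      have := IsKleinFour.isMulCommutative (G := U)
      exact congrArg Subtype.val (mul_comm' (⟨a, ha⟩ : U) ⟨b, hb⟩)
    obtain ⟨w, hwC, hw1, hwz⟩ := exists_ne_of_two_lt_card _ z hzz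
      (two_lt_card_centralizer_in_elemAb E hE hE2 hE8 u huu)
    obtain ⟨hwE, hwu⟩ := Subgroup.mem_inf.mp hwC
    rw [Subgroup.mem_centralizer_singleton_iff] at hwu
    have hww := hsq w hwE
    have huz' : u * z = z * u := hzcomm u
    have hzw : z * w = w * z := (hzcomm w).symm
    refine ⟨kleinOf z w hzz hww hzw, ?_, isKleinFour_kleinOf hzz hww hzw hz1 hw1 (Ne.symm hwz), ?_⟩
    · intro x hx
      rcases mem_kleinOf.mp hx with rfl | rfl | rfl | rfl
      · exact E.one_mem
      · exact hzE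
      · exact hwE
      · exact E.mul_mem hzE hwE
    · have hD := isKleinFour_kleinOf huu hzz huz' hu1 hz1 huz
      have hF := isKleinFour_kleinOf hzz hww hzw hz1 hw1 (Ne.symm hwz)
      have h1 : r U (kleinOf u z huu hzz huz') := by
        refine ⟨hU, hD, fun a ha b hb => ?_⟩
        exact commute_kleinOf hb (hUcomm a ha u huU) (hzcomm a)
      have h2 : r (kleinOf u z huu hzz huz') (kleinOf z w hzz hww hzw) := by
        refine ⟨hD, hF, fun a ha b hb => ?_⟩
        refine commute_kleinOf hb (hzcomm a) ?_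
        exact (commute_kleinOf ha hwu (hzcomm w)).symm
      exact (Relation.ReflTransGen.single h1).tail h2
  intro U V hU hV
  obtain ⟨F, hFE, hF, hUF⟩ := key U hU
  obtain ⟨F', hFE', hF', hVF'⟩ := key V hV
  have h3 : r F F' := ⟨hF, hF', fun a ha b hb => hcomm a (hFE ha) b (hFE' hb)⟩
  have h4 : Relation.ReflTransGen r F' V := hsymm' _ _ hVF'
  exact (hUF.tail h3).trans h4

end Cfsg.Agent.Lib.Helper4
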