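import Cfsg.Agent.Lib.Helper27.MajSubDefs
import Cfsg.Agent.Lib.Helper6.DefectOrder

/-!
# S4539 leaf (ALG2c) `card_le_of_exceptional`  (helper4)
-/

set_option autoImplicit false

namespace Cfsg.Agent.Lib.Helper4.MajSubALG2c

open Cfsg Cfsg.Agent.CharLib Cfsg.Agent.Lib.Helper24 Cfsg.Agent.Lib.Helper6 Cfsg.Agent.Lib.Helper23
open Cfsg.Agent.Lib.Helper23.Subsec Cfsg.Agent.Lib.Helper27.MajSub
open scoped ComplexConjugate

universe u w

variable {M : Ideal AlgInt} {p : ℕ} [hpp : Fact p.Prime]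

/-- complex conjugation on a Galois number field embedded in `ℂ` is induced by an automorphism -/
theorem exists_conj_aut (K : Type w) [Field K] [Algebra ℚ K] [IsGalois ℚ K] (φ : K →+* ℂ) :
    ∃ τ : K ≃ₐ[ℚ] K, ∀ z : K, conj (φ z) = φ (τ z) := by
  obtain ⟨σ, hσ⟩ := NumberField.ComplexEmbedding.exists_comp_symm_eq_of_comp_eq (k := ℚ) φ
    ((starRingEnd ℂ).comp φ) (Subsingleton.elim _ _)
  refine ⟨σ.symm, fun z => ?_⟩
  have := RingHom.congr_fun hσ z
  simpa using this.symm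

/-- Galois AM-GM count: a set `S` of nonzero integers `y i` of `K` all of whose conjugates are
divisible by `p^j` locally has at most `N / p^(2j)` elements, `N` the common value of `∑ |y i|²`. -/
theorem card_mul_le_of_local (hM : IsPModular p M) (K : Type w) [Field K] [Algebra ℚ K]
    [FiniteDimensional ℚ K] [IsGalois ℚ K] (φ : K →+* ℂ) {ι : Type*} [Fintype ι]
    (y : ι → K) (hy : ∀ i, IsIntegral ℤ (y i)) (N : ℝ)
    (hN : ∀ σ : K ≃ₐ[ℚ] K, ∑ i, ‖φ (σ (y i))‖ ^ 2 = N) (S : Finset ι) (j : ℕ)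
    (hS : ∀ i ∈ S, y i ≠ 0 ∧ ∀ σ : K ≃ₐ[ℚ] K, MemLocalRing M (φ (σ (y i)) / (p : ℂ) ^ j)) :
    (S.card : ℝ) * (p : ℝ) ^ (2 * j) ≤ N := by
  have hp : p.Prime := hpp.out
  have hpR : (0 : ℝ) < p := by exact_mod_cast hp.pos
  set f := Fintype.card (K ≃ₐ[ℚ] K) with hf
  have hfpos : (0 : ℝ) < f := by exact_mod_cast Fintype.card_pos
  have hpp0 : (0 : ℝ) < (p : ℝ) ^ (2 * j) := by positivity
  have h1 : (S.card : ℝ) * f ≤ ∑ i ∈ S, ∑ σ : K ≃ₐ[ℚ] K, ‖φ (σ (y i)) / (p : ℂ) ^ j‖ ^ 2 := by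
    have : (S.card : ℝ) * f = ∑ i ∈ S, (f : ℝ) := by simp
    rw [this]
    apply Finset.sum_le_sum
    intro i hi
    exact card_gal_le_sum_norm_sq_local hM K φ (y i) (hy i) (hS i hi).1 j (hS i hi).2
  have h2 : ∑ i ∈ S, ∑ σ : K ≃ₐ[ℚ] K, ‖φ (σ (y i)) / (p : ℂ) ^ j‖ ^ 2 ≤
      f * (N / (p : ℝ) ^ (2 * j)) := by
    rw [Finset.sum_comm]
    have : (f : ℝ) * (N / (p : ℝ) ^ (2 * j)) = ∑ σ : K ≃ₐ[ℚ] K, N / (p : ℝ) ^ (2 * j) := by
      simp [hf]
    rw [this]
    apply Finset.sum_le_sum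
    intro σ _
    rw [← hN σ, Finset.sum_div]
    calc ∑ i ∈ S, ‖φ (σ (y i)) / (p : ℂ) ^ j‖ ^ 2
        = ∑ i ∈ S, ‖φ (σ (y i))‖ ^ 2 / (p : ℝ) ^ (2 * j) := by
          apply Finset.sum_congr rfl
          intro i _
          rw [norm_div, norm_pow, Complex.norm_natCast, div_pow, ← pow_mul, mul_comm]
      _ ≤ ∑ i, ‖φ (σ (y i))‖ ^ 2 / (p : ℝ) ^ (2 * j) :=
          Finset.sum_le_sum_of_subset_of_nonneg (Finset.subset_univ _)
            (fun i _ _ => by positivity)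
  have h3 := le_trans h1 h2
  have h4 : (S.card : ℝ) ≤ N / (p : ℝ) ^ (2 * j) := by
    by_contra hcon
    push Not at hcon
    nlinarith
  rwa [le_div_iff₀ hpp0] at h4

/-- (ALG2c) the exceptional case `C = diag(p^r, p^d)`, `r < d`, `C' = diag(p^(d-r), 1)`. -/
theorem card_le_of_exceptional (hM : IsPModular p M) (K : Type w) [Field K] [Algebra ℚ K]
    [FiniteDimensional ℚ K] [IsGalois ℚ K] (φ : K →+* ℂ) {ι : Type*} [Fintype ι]
    (h : ι → ℕ) (i₀ : ι) (hi₀ : h i₀ = 0)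
    (x y : ι → K) (hx : ∀ i, IsIntegral ℤ (x i)) (hy : ∀ i, IsIntegral ℤ (y i)) (d r : ℕ)
    (hrd : r < d)
    (hgx : ∀ σ : K ≃ₐ[ℚ] K, ∑ i, conj (φ (σ (x i))) * φ (σ (x i)) = ((p : ℂ) ^ r))
    (hgy : ∀ σ : K ≃ₐ[ℚ] K, ∑ i, conj (φ (σ (y i))) * φ (σ (y i)) = ((p : ℂ) ^ d))
    (h5H : ∀ σ : K ≃ₐ[ℚ] K, ∀ i, h i = 0 → ∀ j,
      LocUnit M (((p : ℂ) ^ (d - r) * (φ (σ (x i)) * conj (φ (σ (x j)))) +
          φ (σ (y i)) * conj (φ (σ (y j)))) / (p : ℂ) ^ h j) ∧
        LocUnit M (((p : ℂ) ^ (d - r) * (φ (σ (x j)) * conj (φ (σ (x i)))) +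
          φ (σ (y j)) * conj (φ (σ (y i)))) / (p : ℂ) ^ h j)) :
    Fintype.card ι ≤ p ^ d := by
  classical
  have hprime : M.IsPrime := isPrime_of_isPModular hM
  have hp : p.Prime := hpp.out
  have hp0 : (p : ℂ) ≠ 0 := Nat.cast_ne_zero.mpr hp.ne_zero
  have hzero : MemLocalIdeal M 0 := memLocalIdeal_zero hprime.one_notMem
  have hint : ∀ {z : ℂ}, IsIntegral ℤ z → MemLocalRing M z := fun {z} hz =>
    memLocalRing_of_algInt (M := M) ⟨z, hz⟩ hprime.one_notMem
  -- integrality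
  have hXint : ∀ (σ : K ≃ₐ[ℚ] K) i, IsIntegral ℤ (φ (σ (x i))) := fun σ i =>
    map_isIntegral_int φ (map_isIntegral_int σ (hx i))
  have hYint : ∀ (σ : K ≃ₐ[ℚ] K) i, IsIntegral ℤ (φ (σ (y i))) := fun σ i =>
    map_isIntegral_int φ (map_isIntegral_int σ (hy i))
  have hXloc : ∀ (σ : K ≃ₐ[ℚ] K) i, MemLocalRing M (φ (σ (x i))) := fun σ i =>
    hint (hXint σ i)
  have hYloc : ∀ (σ : K ≃ₐ[ℚ] K) i, MemLocalRing M (φ (σ (y i))) := fun σ i =>
    hint (hYint σ i)
  have hcXloc : ∀ (σ : K ≃ₐ[ℚ] K) i, MemLocalRing M (conj (φ (σ (x i)))) := fun σ i =>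
    hint (map_isIntegral_int (starRingEnd ℂ) (hXint σ i))
  have hcYloc : ∀ (σ : K ≃ₐ[ℚ] K) i, MemLocalRing M (conj (φ (σ (y i)))) := fun σ i =>
    hint (map_isIntegral_int (starRingEnd ℂ) (hYint σ i))
  have hpIdeal : MemLocalIdeal M (p : ℂ) := Cfsg.Agent.Lib.Helper6.memLocalIdeal_natCast_prime hM
  have hpLoc : MemLocalRing M (p : ℂ) := memLocalRing_of_memLocalIdeal hpIdeal
  have hpowLoc : ∀ k : ℕ, MemLocalRing M ((p : ℂ) ^ k) := by
    intro k
    induction k with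
    | zero => rw [pow_zero]; exact hint isIntegral_one
    | succ k ih => rw [pow_succ]; exact memLocalRing_mul ih hpLoc
  have hpdr : MemLocalIdeal M ((p : ℂ) ^ (d - r)) := by
    obtain ⟨k, hk⟩ : ∃ k, d - r = k + 1 := ⟨d - r - 1, by omega⟩
    rw [hk, pow_succ]
    exact memLocalIdeal_mul_left (hpowLoc k) hpIdeal
  -- real norm sums
  have hNx : ∀ σ : K ≃ₐ[ℚ] K, ∑ i, ‖φ (σ (x i))‖ ^ 2 = (p : ℝ) ^ r := by
    intro σ
    have h2 : ((∑ i, ‖φ (σ (x i))‖ ^ 2 : ℝ) : ℂ) = (((p : ℝ) ^ r : ℝ) : ℂ) := by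
      push_cast
      rw [← hgx σ]
      apply Finset.sum_congr rfl
      intro i _
      rw [Complex.conj_mul']
    exact_mod_cast h2
  have hNy : ∀ σ : K ≃ₐ[ℚ] K, ∑ i, ‖φ (σ (y i))‖ ^ 2 = (p : ℝ) ^ d := by
    intro σ
    have h2 : ((∑ i, ‖φ (σ (y i))‖ ^ 2 : ℝ) : ℂ) = (((p : ℝ) ^ d : ℝ) : ℂ) := by
      push_cast
      rw [← hgy σ]
      apply Finset.sum_congr rfl
      intro i _
      rw [Complex.conj_mul']
    exact_mod_cast h2
  by_cases hall : ∀ j, y j ≠ 0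
  · -- all `y j ≠ 0`
    have := card_mul_le_of_local hM K φ y hy _ hNy Finset.univ 0 (fun i _ => ⟨hall i, fun σ => by
      rw [pow_zero, div_one]; exact hYloc σ i⟩)
    rw [Finset.card_univ, mul_zero, pow_zero, mul_one] at this
    exact_mod_cast this
  · push Not at hall
    obtain ⟨ψ, hψ⟩ := hall
    -- `y i₀` is a local unit, at every conjugate
    have hunit : ∀ σ : K ≃ₐ[ℚ] K, ¬ MemLocalIdeal M (φ (σ (y i₀))) := by
      intro σ hcon
      have h1 := (h5H σ i₀ hi₀ i₀).1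
      rw [hi₀, pow_zero, div_one] at h1
      apply h1.2
      apply memLocalIdeal_add
      · exact memLocalIdeal_mul_right hpdr (memLocalRing_mul (hXloc σ i₀) (hcXloc σ i₀))
      · exact memLocalIdeal_mul_right hcon (hcYloc σ i₀)
    -- heights zero have `x ≠ 0`
    have hx0 : ∀ i, h i = 0 → x i ≠ 0 := by
      intro i hi hcon
      have h1 := (h5H AlgEquiv.refl i hi ψ).1
      apply h1.2
      rw [hcon, hψ]
      simp only [map_zero, zero_mul, mul_zero, add_zero, zero_div]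
      exact hzero
    obtain ⟨τ, hτ⟩ := exists_conj_aut K φ
    -- the rows with `x j = 0`
    have hrow : ∀ j, x j = 0 → y j ≠ 0 ∧
        ∀ σ : K ≃ₐ[ℚ] K, MemLocalRing M (φ (σ (y j)) / (p : ℂ) ^ 1) := by
      intro j hj
      have hhj : 1 ≤ h j := by
        by_contra hcon
        exact hx0 j (by omega) hj
      constructor
      · intro hyj
        have h1 := (h5H AlgEquiv.refl i₀ hi₀ j).1
        apply h1.2
        rw [hj, hyj]
        simp only [map_zero, mul_zero, add_zero, zero_div]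
        exact hzero
      · intro σ
        have h1 := (h5H σ i₀ hi₀ j).2.1
        rw [hj] at h1
        simp only [map_zero, zero_mul, mul_zero, zero_add] at h1
        -- `conj (φ (σ (y i₀))) = φ ((τ * σ) (y i₀))` is a local unit
        have hc : conj (φ (σ (y i₀))) = φ ((σ.trans τ) (y i₀)) := by
          rw [hτ]; rfl
        have hcu : ¬ MemLocalIdeal M (conj (φ (σ (y i₀)))) := by
          rw [hc]; exact hunit _
        have hinv : MemLocalRing M (conj (φ (σ (y i₀))))⁻¹ :=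
          Cfsg.Agent.Lib.Helper6.memLocalRing_inv (hcYloc σ i₀) hcu
        have hc0 : conj (φ (σ (y i₀))) ≠ 0 := by
          intro h0
          apply hcu
          rw [h0]
          exact hzero
        have hpk0 : ((p : ℂ) ^ h j) ≠ 0 := pow_ne_zero _ hp0
        have heq : φ (σ (y j)) / (p : ℂ) ^ 1 =
            (φ (σ (y j)) * conj (φ (σ (y i₀))) / (p : ℂ) ^ h j) * (conj (φ (σ (y i₀))))⁻¹ *
              (p : ℂ) ^ (h j - 1) := by
          have : (p : ℂ) ^ h j = (p : ℂ) ^ (h j - 1) * (p : ℂ) ^ 1 := by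
            rw [← pow_add]; congr 1; omega
          rw [this]
          have hpk1 : ((p : ℂ) ^ (h j - 1)) ≠ 0 := pow_ne_zero _ hp0
          field_simp
        rw [heq]
        exact memLocalRing_mul (memLocalRing_mul h1 hinv) (hpowLoc _)
    -- count
    set SX := Finset.univ.filter (fun j => x j ≠ 0) with hSX
    set S0 := Finset.univ.filter (fun j => x j = 0) with hS0
    have hcard : Fintype.card ι = SX.card + S0.card := by
      rw [hSX, hS0, ← Finset.card_univ, add_comm]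
      exact (Finset.card_filter_add_card_filter_not (s := Finset.univ) (fun j => x j = 0)).symm
    have hA := card_mul_le_of_local hM K φ x hx _ hNx SX 0 (fun i hi => ⟨by
      rw [hSX, Finset.mem_filter] at hi; exact hi.2, fun σ => by
      rw [pow_zero, div_one]; exact hXloc σ i⟩)
    have hB := card_mul_le_of_local hM K φ y hy _ hNy S0 1 (fun i hi => by
      rw [hS0, Finset.mem_filter] at hi; exact hrow i hi.2)
    rw [mul_zero, pow_zero, mul_one] at hA
    have hA' : SX.card ≤ p ^ r := by exact_mod_cast hA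
    have hB' : S0.card * p ^ 2 ≤ p ^ d := by
      rw [mul_one] at hB; exact_mod_cast hB
    have hpr : p ^ r * p ≤ p ^ d := by
      rw [← pow_succ]; exact Nat.pow_le_pow_right hp.pos hrd
    have hp2 : 2 ≤ p := hp.two_le
    rw [hcard]
    have h3 : (SX.card + S0.card) * p ^ 2 ≤ p ^ d * p ^ 2 := by
      calc (SX.card + S0.card) * p ^ 2 = SX.card * p * p + S0.card * p ^ 2 := by ring
        _ ≤ p ^ r * p * p + p ^ d := by
          apply Nat.add_le_add _ hB'
          exact Nat.mul_le_mul_right _ (Nat.mul_le_mul_right _ hA')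
        _ ≤ p ^ d * p + p ^ d := by
          apply Nat.add_le_add_right
          exact Nat.mul_le_mul_right _ hpr
        _ = p ^ d * (p + 1) := by ring
        _ ≤ p ^ d * p ^ 2 := by
          apply Nat.mul_le_mul_left
          nlinarith
    exact Nat.le_of_mul_le_mul_right h3 (by positivity)

end Cfsg.Agent.Lib.Helper4.MajSubALG2c
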