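import Cfsg.Agent.Lib.Helper27.MajSubDefs
import Cfsg.Agent.Lib.Helper6.DefectOrder
import Cfsg.Agent.Lib.Helper22.MajSubALG2a
import Cfsg.Agent.Lib.Helper4.MajSubALG1
import Cfsg.Agent.Lib.Helper4.MajSubALG2c

/-!
# S4539 leaf (ALG3) `card_le_of_rank_two`  (helper4)

`card_le_of_reduced` is helper27's assembly of (ALG2a), (ALG2b), (ALG2c) (copied from
`notes/S4539_leaves.lean`); `card_le_of_rank_two_of` is (ALG3) against (ALG2) as a hypothesis.
-/

set_option autoImplicit false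

namespace Cfsg.Agent.Lib.Helper4.MajSubALG3

open Cfsg Cfsg.Agent.CharLib Cfsg.Agent.Lib.Helper24 Cfsg.Agent.Lib.Helper6 Cfsg.Agent.Lib.Helper23
open Cfsg.Agent.Lib.Helper23.Subsec Cfsg.Agent.Lib.Helper27.MajSub
open scoped ComplexConjugate

universe u w

variable {M : Ideal AlgInt} {p : ℕ} [hpp : Fact p.Prime]

/-- (ALG2) the reduced case (from ALG2a, ALG2b, ALG2c); helper27's proof. -/
theorem card_le_of_reduced (hM : IsPModular p M) (K : Type w) [Field K] [Algebra ℚ K]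
    [FiniteDimensional ℚ K] [IsGalois ℚ K] (φ : K →+* ℂ) {ι : Type*} [Fintype ι]
    (h : ι → ℕ) (i₀ : ι) (hi₀ : h i₀ = 0)
    (x : ι → Fin 2 → K) (hx : ∀ i a, IsIntegral ℤ (x i a)) (d : ℕ)
    (Cm C' : Matrix (Fin 2) (Fin 2) ℤ) (hCsymm : Cm.transpose = Cm) (hC'symm : C'.transpose = C')
    (hCC' : Cm * C' = ((p : ℤ) ^ d) • (1 : Matrix (Fin 2) (Fin 2) ℤ)) (hdet : (p : ℤ) ∣ C'.det)
    (hred : 0 ≤ 2 * Cm 0 1 ∧ 2 * Cm 0 1 ≤ Cm 0 0 ∧ Cm 0 0 ≤ Cm 1 1)
    (hgram : ∀ σ : K ≃ₐ[ℚ] K, ∀ a b : Fin 2,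
      ∑ i, conj (φ (σ (x i a))) * φ (σ (x i b)) = (Cm a b : ℂ))
    (h5H : ∀ σ : K ≃ₐ[ℚ] K, ∀ i, h i = 0 → ∀ j,
      LocUnit M ((∑ a, ∑ b, φ (σ (x i a)) * (C' a b : ℂ) * conj (φ (σ (x j b)))) /
          (p : ℂ) ^ h j) ∧
        LocUnit M ((∑ a, ∑ b, φ (σ (x j a)) * (C' a b : ℂ) * conj (φ (σ (x i b)))) /
          (p : ℂ) ^ h j)) :
    Fintype.card ι ≤ p ^ d := by
  have hprime : M.IsPrime := isPrime_of_isPModular hM
  have hp : p.Prime := hpp.out
  have h10eq : Cm 1 0 = Cm 0 1 := by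
    have := congrFun (congrFun hCsymm 0) 1
    simpa [Matrix.transpose_apply] using this
  have h10eq' : C' 1 0 = C' 0 1 := by
    have := congrFun (congrFun hC'symm 0) 1
    simpa [Matrix.transpose_apply] using this
  -- rows are nonzero
  have hne : ∀ i, x i 0 ≠ 0 ∨ x i 1 ≠ 0 := by
    intro i
    by_contra hcon
    push Not at hcon
    have h1 := (h5H AlgEquiv.refl i₀ hi₀ i).1
    apply h1.2
    have : (∑ a, ∑ b, φ ((AlgEquiv.refl : K ≃ₐ[ℚ] K) (x i₀ a)) * (C' a b : ℂ) *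
        conj (φ ((AlgEquiv.refl : K ≃ₐ[ℚ] K) (x i b)))) = 0 := by
      simp [Fin.sum_univ_two, hcon.1, hcon.2]
    rw [this, zero_div]
    exact memLocalIdeal_zero hprime.one_notMem
  have hk := Cfsg.Agent.Lib.Helper22.MajSubALG2a.card_le_trace hM K φ x hx hne Cm hgram
  -- entries of the product
  have e00 : Cm 0 0 * C' 0 0 + Cm 0 1 * C' 0 1 = (p : ℤ) ^ d := by
    have := congrFun (congrFun hCC' 0) 0
    simpa [Matrix.mul_apply, Fin.sum_univ_two, h10eq'] using this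
  have e01 : Cm 0 0 * C' 0 1 + Cm 0 1 * C' 1 1 = 0 := by
    have := congrFun (congrFun hCC' 0) 1
    simpa [Matrix.mul_apply, Fin.sum_univ_two] using this
  have e10 : Cm 0 1 * C' 0 0 + Cm 1 1 * C' 0 1 = 0 := by
    have := congrFun (congrFun hCC' 1) 0
    simpa [Matrix.mul_apply, Fin.sum_univ_two, h10eq, h10eq'] using this
  have e11 : Cm 0 1 * C' 0 1 + Cm 1 1 * C' 1 1 = (p : ℤ) ^ d := by
    have := congrFun (congrFun hCC' 1) 1
    simpa [Matrix.mul_apply, Fin.sum_univ_two, h10eq] using this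
  have hα : 0 < Cm 0 0 := by
    by_contra hcon
    push Not at hcon
    have h0 : Cm 0 0 = 0 ∧ Cm 0 1 = 0 := by constructor <;> omega
    rw [h0.1, h0.2] at e00
    have : ((p : ℤ) ^ d) ≠ 0 := pow_ne_zero _ (by exact_mod_cast hp.ne_zero)
    simp at e00
    exact this e00.symm
  have hdet' : (p : ℤ) ∣ C' 0 0 * C' 1 1 - C' 0 1 * C' 0 1 := by
    rw [Matrix.det_fin_two, h10eq'] at hdet
    exact hdet
  rcases Cfsg.Agent.Lib.Helper4.MajSubALG1.reduced_arith hp d (Cm 0 0) (Cm 0 1) (Cm 1 1) (C' 0 0)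
    (C' 0 1) (C' 1 1) hα hred e00 e01 e10 e11 hdet' with hle | ⟨r, hrd, hα', hβ', hγ', ha', hb', hc'⟩
  · have : (Fintype.card ι : ℤ) ≤ (p : ℤ) ^ d := le_trans hk hle
    exact_mod_cast this
  · refine Cfsg.Agent.Lib.Helper4.MajSubALG2c.card_le_of_exceptional hM K φ h i₀ hi₀
      (fun i => x i 0) (fun i => x i 1) (fun i => hx i 0) (fun i => hx i 1) d r hrd ?_ ?_ ?_
    · intro σ
      rw [hgram σ 0 0, hα']
      push_cast
      rfl
    · intro σ
      rw [hgram σ 1 1, hγ']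
      push_cast
      rfl
    · intro σ i hi j
      have h1 := h5H σ i hi j
      simp only [Fin.sum_univ_two, h10eq', ha', hb', hc'] at h1
      push_cast at h1
      simp only [mul_zero, zero_mul, add_zero, mul_one] at h1
      constructor
      · convert h1.1 using 2
        ring
      · convert h1.2 using 2
        ring

/-- (ALG3) the general rank two case (ALG1 + ALG2 + base change `x ↦ x S`, `C ↦ Sᵀ C S`,
`C' ↦ S⁻¹ C' S⁻ᵀ`). -/
theorem card_le_of_rank_two (hM : IsPModular p M) (K : Type w) [Field K] [Algebra ℚ K]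
    [FiniteDimensional ℚ K] [IsGalois ℚ K] (φ : K →+* ℂ) {ι : Type*} [Fintype ι]
    (h : ι → ℕ) (i₀ : ι) (hi₀ : h i₀ = 0)
    (x : ι → Fin 2 → K) (hx : ∀ i a, IsIntegral ℤ (x i a)) (d : ℕ)
    (Cm C' : Matrix (Fin 2) (Fin 2) ℤ) (hCsymm : Cm.transpose = Cm) (hC'symm : C'.transpose = C')
    (hCC' : Cm * C' = ((p : ℤ) ^ d) • (1 : Matrix (Fin 2) (Fin 2) ℤ)) (hdet : (p : ℤ) ∣ C'.det)
    (hgram : ∀ σ : K ≃ₐ[ℚ] K, ∀ a b : Fin 2,
      ∑ i, conj (φ (σ (x i a))) * φ (σ (x i b)) = (Cm a b : ℂ))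
    (h5H : ∀ σ : K ≃ₐ[ℚ] K, ∀ i, h i = 0 → ∀ j,
      LocUnit M ((∑ a, ∑ b, φ (σ (x i a)) * (C' a b : ℂ) * conj (φ (σ (x j b)))) /
          (p : ℂ) ^ h j) ∧
        LocUnit M ((∑ a, ∑ b, φ (σ (x j a)) * (C' a b : ℂ) * conj (φ (σ (x i b)))) /
          (p : ℂ) ^ h j)) :
    Fintype.card ι ≤ p ^ d := by
  have hp : p.Prime := hpp.out
  have h10eq : Cm 1 0 = Cm 0 1 := by
    have := congrFun (congrFun hCsymm 0) 1
    simpa [Matrix.transpose_apply] using this
  have h10eq' : C' 1 0 = C' 0 1 := by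
    have := congrFun (congrFun hC'symm 0) 1
    simpa [Matrix.transpose_apply] using this
  set α := Cm 0 0 with hαdef
  set β := Cm 0 1 with hβdef
  set γ := Cm 1 1 with hγdef
  set a' := C' 0 0 with ha'def
  set b' := C' 0 1 with hb'def
  set c' := C' 1 1 with hc'def
  have e00 : α * a' + β * b' = (p : ℤ) ^ d := by
    have := congrFun (congrFun hCC' 0) 0
    simpa [Matrix.mul_apply, Fin.sum_univ_two, h10eq'] using this
  have e01 : α * b' + β * c' = 0 := by
    have := congrFun (congrFun hCC' 0) 1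
    simpa [Matrix.mul_apply, Fin.sum_univ_two] using this
  have e10 : β * a' + γ * b' = 0 := by
    have := congrFun (congrFun hCC' 1) 0
    simpa [Matrix.mul_apply, Fin.sum_univ_two, h10eq, h10eq'] using this
  have e11 : β * b' + γ * c' = (p : ℤ) ^ d := by
    have := congrFun (congrFun hCC' 1) 1
    simpa [Matrix.mul_apply, Fin.sum_univ_two, h10eq] using this
  have hP : (0 : ℤ) < (p : ℤ) ^ d := by
    have : (0 : ℤ) < p := by exact_mod_cast hp.pos
    positivity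
  -- the Gram form is positive semidefinite
  have hq : ∀ m n : ℤ, 0 ≤ m * m * α + 2 * (m * n) * β + n * n * γ := by
    intro m n
    have h1 : ((m * m * α + 2 * (m * n) * β + n * n * γ : ℤ) : ℂ) =
        ((∑ i, ‖(m : ℂ) * φ (x i 0) + (n : ℂ) * φ (x i 1)‖ ^ 2 : ℝ) : ℂ) := by
      have g00 := hgram AlgEquiv.refl 0 0
      have g01 := hgram AlgEquiv.refl 0 1
      have g10 := hgram AlgEquiv.refl 1 0
      have g11 := hgram AlgEquiv.refl 1 1
      simp only [AlgEquiv.coe_refl, id_eq] at g00 g01 g10 g11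
      rw [h10eq] at g10
      push_cast
      have : ∀ i, ((‖(m : ℂ) * φ (x i 0) + (n : ℂ) * φ (x i 1)‖ : ℂ)) ^ 2 =
          (m : ℂ) * m * (conj (φ (x i 0)) * φ (x i 0)) +
          (m : ℂ) * n * (conj (φ (x i 0)) * φ (x i 1)) +
          (m : ℂ) * n * (conj (φ (x i 1)) * φ (x i 0)) +
          (n : ℂ) * n * (conj (φ (x i 1)) * φ (x i 1)) := by
        intro i
        rw [← Complex.conj_mul']
        simp only [map_add, map_mul, map_intCast]
        ring
      simp_rw [this, Finset.sum_add_distrib, ← Finset.mul_sum]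
      rw [g00, g01, g10, g11]
      ring
    have h2 : ((m * m * α + 2 * (m * n) * β + n * n * γ : ℤ) : ℝ) =
        ∑ i, ‖(m : ℂ) * φ (x i 0) + (n : ℂ) * φ (x i 1)‖ ^ 2 := by
      have h3 : (((m * m * α + 2 * (m * n) * β + n * n * γ : ℤ) : ℝ) : ℂ) =
          ((∑ i, ‖(m : ℂ) * φ (x i 0) + (n : ℂ) * φ (x i 1)‖ ^ 2 : ℝ) : ℂ) := by
        rw [← h1]; push_cast; ring
      exact_mod_cast h3
    have h4 : (0 : ℝ) ≤ ((m * m * α + 2 * (m * n) * β + n * n * γ : ℤ) : ℝ) := by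
      rw [h2]; positivity
    exact_mod_cast h4
  have hdetprod : (α * γ - β * β) * (a' * c' - b' * b') = (p : ℤ) ^ d * (p : ℤ) ^ d := by
    linear_combination (β * b' + γ * c') * e00 - (β * a' + γ * b') * e01 + (p : ℤ) ^ d * e11
  have hdet0 : α * γ - β * β ≠ 0 := by
    intro h0
    rw [h0, zero_mul] at hdetprod
    nlinarith
  have hα0 : 0 ≤ α := by
    have := hq 1 0
    linarith
  have hγ0 : 0 ≤ γ := by
    have := hq 0 1
    linarith
  have hα : 0 < α := by
    rcases hα0.lt_or_eq with h | h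
    · exact h
    · exfalso
      have hβ : β ≠ 0 := by
        intro hb
        apply hdet0
        rw [← h, hb]; ring
      have hβ1 : 1 ≤ β * β := by
        rcases lt_or_gt_of_ne hβ with h' | h'
        · nlinarith
        · nlinarith
      have := hq (-β * (γ + 1)) 1
      rw [← h] at this
      nlinarith
  have hdetpos : 0 < α * γ - β * β := by
    have h1 := hq β (-α)
    have h2 : 0 ≤ α * (α * γ - β * β) := by nlinarith
    rcases lt_or_gt_of_ne hdet0 with h' | h'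
    · exfalso; nlinarith
    · exact h'
  obtain ⟨s, t, u, v, hε, hr1, hr2, hr3⟩ :=
    Cfsg.Agent.Lib.Helper4.MajSubALG1.exists_reduced α β γ hα hdetpos
  have hεε : (s * v - t * u) * (s * v - t * u) = 1 := by
    rcases hε with h' | h' <;> rw [h'] <;> norm_num
  -- the new data
  set Cm2 : Matrix (Fin 2) (Fin 2) ℤ :=
    !![s * (α * s + β * u) + u * (β * s + γ * u), s * (α * t + β * v) + u * (β * t + γ * v);
       s * (α * t + β * v) + u * (β * t + γ * v), t * (α * t + β * v) + v * (β * t + γ * v)]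
    with hCm2
  set C2 : Matrix (Fin 2) (Fin 2) ℤ :=
    !![v * v * a' - 2 * (v * t) * b' + t * t * c', -(u * v) * a' + (v * s + t * u) * b' - t * s * c';
       -(u * v) * a' + (v * s + t * u) * b' - t * s * c', u * u * a' - 2 * (u * s) * b' + s * s * c']
    with hC2
  set x2 : ι → Fin 2 → K := fun i =>
    ![(s : K) * x i 0 + (u : K) * x i 1, (t : K) * x i 0 + (v : K) * x i 1] with hx2
  have hintK : ∀ n : ℤ, IsIntegral ℤ ((n : K)) := fun n => isIntegral_algebraMap (R := ℤ) (x := n)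
  have hx2int : ∀ i a, IsIntegral ℤ (x2 i a) := by
    intro i a
    fin_cases a
    · exact ((hintK s).mul (hx i 0)).add ((hintK u).mul (hx i 1))
    · exact ((hintK t).mul (hx i 0)).add ((hintK v).mul (hx i 1))
  have hCm2symm : Cm2.transpose = Cm2 := by
    ext i j
    fin_cases i <;> fin_cases j <;> rfl
  have hC2symm : C2.transpose = C2 := by
    ext i j
    fin_cases i <;> fin_cases j <;> rfl
  have hprod : Cm2 * C2 = ((p : ℤ) ^ d) • (1 : Matrix (Fin 2) (Fin 2) ℤ) := by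
    ext i j
    fin_cases i <;> fin_cases j
    · simp [hCm2, hC2, Matrix.mul_apply, Fin.sum_univ_two]
      linear_combination (s * v - t * u) * (s * v) * e00 - (s * v - t * u) * (s * t) * e01 +
        (s * v - t * u) * (u * v) * e10 - (s * v - t * u) * (u * t) * e11 + (p : ℤ) ^ d * hεε
    · simp [hCm2, hC2, Matrix.mul_apply, Fin.sum_univ_two]
      linear_combination -(s * v - t * u) * (s * u) * e00 + (s * v - t * u) * (s * s) * e01 -
        (s * v - t * u) * (u * u) * e10 + (s * v - t * u) * (u * s) * e11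
    · simp [hCm2, hC2, Matrix.mul_apply, Fin.sum_univ_two]
      linear_combination (s * v - t * u) * (t * v) * e00 - (s * v - t * u) * (t * t) * e01 +
        (s * v - t * u) * (v * v) * e10 - (s * v - t * u) * (v * t) * e11
    · simp [hCm2, hC2, Matrix.mul_apply, Fin.sum_univ_two]
      linear_combination -(s * v - t * u) * (t * u) * e00 + (s * v - t * u) * (t * s) * e01 -
        (s * v - t * u) * (v * u) * e10 + (s * v - t * u) * (v * s) * e11 + (p : ℤ) ^ d * hεε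
  have hdet2 : (p : ℤ) ∣ C2.det := by
    have h1 : C2.det = (s * v - t * u) * (s * v - t * u) * (a' * c' - b' * b') := by
      rw [hC2, Matrix.det_fin_two_of]; ring
    rw [h1]
    rw [Matrix.det_fin_two, h10eq'] at hdet
    exact Dvd.dvd.mul_left hdet _
  have hred2 : 0 ≤ 2 * Cm2 0 1 ∧ 2 * Cm2 0 1 ≤ Cm2 0 0 ∧ Cm2 0 0 ≤ Cm2 1 1 := by
    refine ⟨?_, ?_, ?_⟩
    · simpa [hCm2] using hr1
    · simpa [hCm2] using hr2
    · simpa [hCm2] using hr3
  -- images of the new vectors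
  have hX0 : ∀ (σ : K ≃ₐ[ℚ] K) i, φ (σ (x2 i 0)) =
      (s : ℂ) * φ (σ (x i 0)) + (u : ℂ) * φ (σ (x i 1)) := by
    intro σ i
    simp [hx2]
  have hX1 : ∀ (σ : K ≃ₐ[ℚ] K) i, φ (σ (x2 i 1)) =
      (t : ℂ) * φ (σ (x i 0)) + (v : ℂ) * φ (σ (x i 1)) := by
    intro σ i
    simp [hx2]
  have hgram2 : ∀ σ : K ≃ₐ[ℚ] K, ∀ a b : Fin 2,
      ∑ i, conj (φ (σ (x2 i a))) * φ (σ (x2 i b)) = (Cm2 a b : ℂ) := by
    intro σ a b
    have g00 := hgram σ 0 0
    have g01 := hgram σ 0 1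
    have g10 := hgram σ 1 0
    have g11 := hgram σ 1 1
    rw [h10eq] at g10
    fin_cases a <;> fin_cases b
    · simp only [Fin.zero_eta, Fin.isValue, hX0]
      have : ∀ i, conj ((s : ℂ) * φ (σ (x i 0)) + (u : ℂ) * φ (σ (x i 1))) *
          ((s : ℂ) * φ (σ (x i 0)) + (u : ℂ) * φ (σ (x i 1))) =
          (s : ℂ) * s * (conj (φ (σ (x i 0))) * φ (σ (x i 0))) +
          (s : ℂ) * u * (conj (φ (σ (x i 0))) * φ (σ (x i 1))) +
          (u : ℂ) * s * (conj (φ (σ (x i 1))) * φ (σ (x i 0))) +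
          (u : ℂ) * u * (conj (φ (σ (x i 1))) * φ (σ (x i 1))) := by
        intro i
        simp only [map_add, map_mul, map_intCast]
        ring
      simp_rw [this, Finset.sum_add_distrib, ← Finset.mul_sum]
      rw [g00, g01, g10, g11]
      simp [hCm2]
      ring
    · simp only [Fin.zero_eta, Fin.mk_one, Fin.isValue, hX0, hX1]
      have : ∀ i, conj ((s : ℂ) * φ (σ (x i 0)) + (u : ℂ) * φ (σ (x i 1))) *
          ((t : ℂ) * φ (σ (x i 0)) + (v : ℂ) * φ (σ (x i 1))) =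
          (s : ℂ) * t * (conj (φ (σ (x i 0))) * φ (σ (x i 0))) +
          (s : ℂ) * v * (conj (φ (σ (x i 0))) * φ (σ (x i 1))) +
          (u : ℂ) * t * (conj (φ (σ (x i 1))) * φ (σ (x i 0))) +
          (u : ℂ) * v * (conj (φ (σ (x i 1))) * φ (σ (x i 1))) := by
        intro i
        simp only [map_add, map_mul, map_intCast]
        ring
      simp_rw [this, Finset.sum_add_distrib, ← Finset.mul_sum]
      rw [g00, g01, g10, g11]
      simp [hCm2]
      ring
    · simp only [Fin.zero_eta, Fin.mk_one, Fin.isValue, hX0, hX1]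
      have : ∀ i, conj ((t : ℂ) * φ (σ (x i 0)) + (v : ℂ) * φ (σ (x i 1))) *
          ((s : ℂ) * φ (σ (x i 0)) + (u : ℂ) * φ (σ (x i 1))) =
          (t : ℂ) * s * (conj (φ (σ (x i 0))) * φ (σ (x i 0))) +
          (t : ℂ) * u * (conj (φ (σ (x i 0))) * φ (σ (x i 1))) +
          (v : ℂ) * s * (conj (φ (σ (x i 1))) * φ (σ (x i 0))) +
          (v : ℂ) * u * (conj (φ (σ (x i 1))) * φ (σ (x i 1))) := by
        intro i
        simp only [map_add, map_mul, map_intCast]
        ring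
      simp_rw [this, Finset.sum_add_distrib, ← Finset.mul_sum]
      rw [g00, g01, g10, g11]
      simp [hCm2]
      ring
    · simp only [Fin.mk_one, Fin.isValue, hX1]
      have : ∀ i, conj ((t : ℂ) * φ (σ (x i 0)) + (v : ℂ) * φ (σ (x i 1))) *
          ((t : ℂ) * φ (σ (x i 0)) + (v : ℂ) * φ (σ (x i 1))) =
          (t : ℂ) * t * (conj (φ (σ (x i 0))) * φ (σ (x i 0))) +
          (t : ℂ) * v * (conj (φ (σ (x i 0))) * φ (σ (x i 1))) +
          (v : ℂ) * t * (conj (φ (σ (x i 1))) * φ (σ (x i 0))) +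
          (v : ℂ) * v * (conj (φ (σ (x i 1))) * φ (σ (x i 1))) := by
        intro i
        simp only [map_add, map_mul, map_intCast]
        ring
      simp_rw [this, Finset.sum_add_distrib, ← Finset.mul_sum]
      rw [g00, g01, g10, g11]
      simp [hCm2]
      ring
  -- invariance of the sesquilinear form
  have hεεC : ((s : ℂ) * v - t * u) * ((s : ℂ) * v - t * u) = 1 := by
    exact_mod_cast hεε
  have hinv : ∀ (σ : K ≃ₐ[ℚ] K) i j,
      (∑ a, ∑ b, φ (σ (x2 i a)) * (C2 a b : ℂ) * conj (φ (σ (x2 j b)))) =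
      (∑ a, ∑ b, φ (σ (x i a)) * (C' a b : ℂ) * conj (φ (σ (x j b)))) := by
    intro σ i j
    simp only [Fin.sum_univ_two, hX0, hX1, h10eq']
    simp only [hC2, Matrix.of_apply, Matrix.cons_val', Matrix.cons_val_zero, Matrix.cons_val_one,
      Matrix.cons_val_fin_one, map_add, map_mul, map_intCast]
    push_cast
    linear_combination (φ (σ (x i 0)) * (a' : ℂ) * conj (φ (σ (x j 0))) +
      φ (σ (x i 0)) * (b' : ℂ) * conj (φ (σ (x j 1))) +
      (φ (σ (x i 1)) * (b' : ℂ) * conj (φ (σ (x j 0))) +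
      φ (σ (x i 1)) * (c' : ℂ) * conj (φ (σ (x j 1))))) * hεεC
  refine card_le_of_reduced hM K φ h i₀ hi₀ x2 hx2int d Cm2 C2 hCm2symm hC2symm hprod hdet2 hred2
    hgram2 ?_
  intro σ i hi j
  rw [hinv σ i j, hinv σ j i]
  exact h5H σ i hi j

end Cfsg.Agent.Lib.Helper4.MajSubALG3
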