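import Mathlib
import Cfsg.Agent.Lib.Helper4.OT1

namespace Cfsg.Agent.Lib.Helper4.OT

open Matrix

abbrev P := Matrix.SpecialLinearGroup (Fin 3) (ZMod 2)

theorem cdP_1 : cd P 1 = 1 := by
  rw [cd_eq_filter]; simp_rw [pow_one]; decide +kernel
theorem cdP_2 : cd P 2 = 22 := by
  rw [cd_eq_filter]; decide +kernel
theorem cdP_3 : cd P 3 = 57 := by
  rw [cd_eq_filter]; decide +kernel
theorem cdP_4 : cd P 4 = 64 := by
  rw [cd_eq_filter]; decide +kernel
theorem cdP_6 : cd P 6 = 78 := by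
  rw [cd_eq_filter]
  have h : ∀ g : P, g ^ 6 = (g ^ 3) ^ 2 := fun g => by rw [← pow_mul]
  simp_rw [h]; decide +kernel
theorem cdP_7 : cd P 7 = 49 := by
  rw [cd_eq_filter]; decide +kernel
theorem cdP_12 : cd P 12 = 120 := by
  rw [cd_eq_filter]
  have h : ∀ g : P, g ^ 12 = (g ^ 3) ^ 4 := fun g => by rw [← pow_mul]
  simp_rw [h]; decide +kernel
theorem cdP_14 : cd P 14 = 70 := by
  rw [cd_eq_filter]
  have h : ∀ g : P, g ^ 14 = (g ^ 7) ^ 2 := fun g => by rw [← pow_mul]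
  simp_rw [h]; decide +kernel
theorem cdP_21 : cd P 21 = 105 := by
  rw [cd_eq_filter]
  have h : ∀ g : P, g ^ 21 = (g ^ 7) ^ 3 := fun g => by rw [← pow_mul]
  simp_rw [h]; decide +kernel
theorem cdP_28 : cd P 28 = 112 := by
  rw [cd_eq_filter]
  have h : ∀ g : P, g ^ 28 = (g ^ 7) ^ 4 := fun g => by rw [← pow_mul]
  simp_rw [h]; decide +kernel
theorem cdP_42 : cd P 42 = 126 := by
  rw [cd_eq_filter]
  have h : ∀ g : P, g ^ 42 = ((g ^ 7) ^ 3) ^ 2 := fun g => by rw [← pow_mul, ← pow_mul]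
  simp_rw [h]; decide +kernel
theorem cdP_84 : cd P 84 = 168 := by
  rw [cd_eq_filter]
  have h : ∀ g : P, g ^ 84 = ((g ^ 7) ^ 3) ^ 4 := fun g => by rw [← pow_mul, ← pow_mul]
  simp_rw [h]; decide +kernel

theorem P_card : Fintype.card P = 168 := by decide +kernel

theorem P_exp (g : P) : g ^ 84 = 1 := exp_of_cd P 84 (by rw [cdP_84, P_card]) g

def px : P := ⟨!![0, 0, 1; 0, 1, 0; 1, 0, 0], by decide⟩
def py : P := ⟨!![0, 0, 1; 0, 1, 1; 1, 1, 0], by decide⟩
def pz : P := ⟨!![0, 0, 1; 0, 1, 1; 1, 0, 0], by decide⟩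

theorem pkey : px = pz * (px * (py * px * py⁻¹) * px⁻¹ * (py * px * py⁻¹)⁻¹) * pz⁻¹ := by decide +kernel

theorem px_ne : px ≠ 1 := by decide +kernel

theorem P_not_solvable : ¬ Group.IsSolvable P := by
  refine not_isSolvable_of_mem_derivedSeries px_ne fun n => ?_
  induction n with
  | zero => exact Subgroup.mem_top px
  | succ n ih =>
    have h1 : py * px * py⁻¹ ∈ derivedSeries P n := (derivedSeries_normal _ _).conj_mem _ ih _
    have h2 := Subgroup.commutator_mem_commutator ih h1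
    rw [commutatorElement_def] at h2
    have h3 := (derivedSeries_normal P (n + 1)).conj_mem _ h2 pz
    rw [← pkey] at h3
    exact h3

end Cfsg.Agent.Lib.Helper4.OT
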