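import Mathlib
import Cfsg.Agent.Lib.Helper4.OT2

namespace Cfsg.Agent.Lib.Helper4.OT

open SemidirectProduct

/-- action of `Z_3` on `Z_7` by multiplication by `2`. -/
def act21 (s : Multiplicative (ZMod 3)) (x : Multiplicative (ZMod 7)) : Multiplicative (ZMod 7) :=
  Multiplicative.ofAdd ((2 : ZMod 7) ^ (Multiplicative.toAdd s).val * Multiplicative.toAdd x)

def phi21 : Multiplicative (ZMod 3) →* MulAut (Multiplicative (ZMod 7)) :=
  mkPhi act21 (by decide) (by decide) (by decide)

/-- the Frobenius group `7:3`. -/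
abbrev H21 := Multiplicative (ZMod 7) ⋊[phi21] Multiplicative (ZMod 3)

abbrev V8 := ZMod 2 × ZMod 2 × ZMod 2

def gmap (c : V8) : V8 := (c.2.2, c.1 + c.2.2, c.2.1)
def fmap (c : V8) : V8 := (c.1, c.2.2, c.2.1 + c.2.2)

def act168 (h : H21) (v : Multiplicative V8) : Multiplicative V8 :=
  Multiplicative.ofAdd (gmap^[(Multiplicative.toAdd h.left).val]
    (fmap^[(Multiplicative.toAdd h.right).val] (Multiplicative.toAdd v)))

def phi168 : H21 →* MulAut (Multiplicative V8) :=
  mkPhi act168 (by decide +kernel) (by decide +kernel) (by decide +kernel)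

/-- `AΓL(1,8)`. -/
abbrev A168 := Multiplicative V8 ⋊[phi168] H21

theorem cdA_1 : cd A168 1 = 1 := by
  rw [cd_sd']; decide +kernel
theorem cdA_2 : cd A168 2 = 8 := by
  rw [cd_sd']; decide +kernel
theorem cdA_3 : cd A168 3 = 57 := by
  rw [cd_sd']; decide +kernel
theorem cdA_4 : cd A168 4 = 8 := by
  rw [cd_sd']; decide +kernel
theorem cdA_6 : cd A168 6 = 120 := by
  rw [cd_sd']; decide +kernel
theorem cdA_7 : cd A168 7 = 49 := by
  rw [cd_sd']; decide +kernel
theorem cdA_12 : cd A168 12 = 120 := by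
  rw [cd_sd']; decide +kernel
theorem cdA_14 : cd A168 14 = 56 := by
  rw [cd_sd']; decide +kernel
theorem cdA_21 : cd A168 21 = 105 := by
  rw [cd_sd']; decide +kernel
theorem cdA_28 : cd A168 28 = 56 := by
  rw [cd_sd']; decide +kernel
theorem cdA_42 : cd A168 42 = 168 := by
  rw [cd_sd']; decide +kernel
theorem cdA_84 : cd A168 84 = 168 := by
  rw [cd_sd']; decide +kernel

instance : Group.IsSolvable H21 := sd_solvable _
instance : Group.IsSolvable A168 := sd_solvable _

theorem A168_card : Fintype.card A168 = 168 := by decide +kernel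

theorem A168_exp (g : A168) : g ^ 84 = 1 := exp_of_cd A168 84 (by rw [cdA_84, A168_card]) g

end Cfsg.Agent.Lib.Helper4.OT
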