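import Mathlib
import Cfsg.Agent.Lib.Helper4.OT2

namespace Cfsg.Agent.Lib.Helper4.OT

open SemidirectProduct

abbrev Z2 := Multiplicative (ZMod 2)
abbrev Z3 := Multiplicative (ZMod 3)
abbrev Z4 := Multiplicative (ZMod 4)
abbrev D8 := DihedralGroup 4

def sgn2F (t : Z2) : ℤˣ := if Multiplicative.toAdd t = 0 then 1 else -1
def sgn2 : Z2 →* ℤˣ := MonoidHom.mk' sgn2F (by decide)
def sgn4F (t : Z4) : ℤˣ := if (Multiplicative.toAdd t).val % 2 = 0 then 1 else -1
def sgn4 : Z4 →* ℤˣ := MonoidHom.mk' sgn4F (by decide)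

/-- characters of `D8`. -/
def dchiF (a b : ℤˣ) : D8 → ℤˣ
  | .r i => a ^ i.val
  | .sr i => b * a ^ i.val

def dchi1 : D8 →* ℤˣ := MonoidHom.mk' (dchiF 1 (-1)) (by decide)
def dchi2 : D8 →* ℤˣ := MonoidHom.mk' (dchiF (-1) 1) (by decide)
def dchi3 : D8 →* ℤˣ := MonoidHom.mk' (dchiF (-1) (-1)) (by decide)

instance : Group.IsSolvable D8 := by
  haveI : Fact (Nat.Prime 2) := ⟨Nat.prime_two⟩
  have h : IsPGroup 2 D8 := IsPGroup.of_card (n := 3) (by
    rw [Nat.card_eq_fintype_card, DihedralGroup.card]; norm_num)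
  haveI := h.isNilpotent
  infer_instance

instance inst3 : ∀ i : Fin 1, NeZero ((![3] : Fin 1 → ℕ) i) := by
  intro i; fin_cases i <;> exact ⟨by decide⟩
instance inst7 : ∀ i : Fin 1, NeZero ((![7] : Fin 1 → ℕ) i) := by
  intro i; fin_cases i <;> exact ⟨by decide⟩
instance inst33 : ∀ i : Fin 2, NeZero ((![3, 3] : Fin 2 → ℕ) i) := by
  intro i; fin_cases i <;> exact ⟨by decide⟩
instance inst37 : ∀ i : Fin 2, NeZero ((![3, 7] : Fin 2 → ℕ) i) := by
  intro i; fin_cases i <;> exact ⟨by decide⟩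
instance inst337 : ∀ i : Fin 3, NeZero ((![3, 3, 7] : Fin 3 → ℕ) i) := by
  intro i; fin_cases i <;> exact ⟨by decide⟩
instance inst377 : ∀ i : Fin 3, NeZero ((![3, 7, 7] : Fin 3 → ℕ) i) := by
  intro i; fin_cases i <;> exact ⟨by decide⟩
instance inst3377 : ∀ i : Fin 4, NeZero ((![3, 3, 7, 7] : Fin 4 → ℕ) i) := by
  intro i; fin_cases i <;> exact ⟨by decide⟩

abbrev S3g := SG (![3] : Fin 1 → ℕ) (![sgn2] : Fin 1 → Z2 →* ℤˣ)
abbrev G24 := SG (![3] : Fin 1 → ℕ) (![dchi2] : Fin 1 → D8 →* ℤˣ)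
abbrev G56 := SG (![7] : Fin 1 → ℕ) (![dchi1] : Fin 1 → D8 →* ℤˣ)
abbrev G126 := SG (![3, 3, 7] : Fin 3 → ℕ) (![sgn2, sgn2, sgn2] : Fin 3 → Z2 →* ℤˣ)
abbrev G144 := SG (![3, 3] : Fin 2 → ℕ)
  (![dchi2.comp (MonoidHom.snd Z2 D8), dchi2.comp (MonoidHom.snd Z2 D8)] : Fin 2 → Z2 × D8 →* ℤˣ)
abbrev G168 := SG (![3, 7] : Fin 2 → ℕ)
  (![1, sgn4.comp (MonoidHom.snd Z2 Z4)] : Fin 2 → Z2 × Z4 →* ℤˣ)
abbrev G504 := SG (![3, 3, 7] : Fin 3 → ℕ) (![dchi2, dchi2, dchi3] : Fin 3 → D8 →* ℤˣ)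
abbrev G2352 := SG (![3, 7, 7] : Fin 3 → ℕ)
  (![sgn2.comp (MonoidHom.fst Z2 D8), sgn2.comp (MonoidHom.fst Z2 D8),
     sgn2.comp (MonoidHom.fst Z2 D8) * dchi1.comp (MonoidHom.snd Z2 D8)] : Fin 3 → Z2 × D8 →* ℤˣ)
abbrev G3528 := SG (![3, 3, 7, 7] : Fin 4 → ℕ)
  (![sgn2.comp (MonoidHom.fst Z2 Z4), sgn2.comp (MonoidHom.fst Z2 Z4),
     sgn4.comp (MonoidHom.snd Z2 Z4),
     sgn2.comp (MonoidHom.fst Z2 Z4) * sgn4.comp (MonoidHom.snd Z2 Z4)] : Fin 4 → Z2 × Z4 →* ℤˣ)

set_option maxRecDepth 10000 in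
theorem cd_S3g_1 : cd S3g 1 = 1 := by
  rw [cd_SG]; decide
set_option maxRecDepth 10000 in
theorem cd_S3g_2 : cd S3g 2 = 4 := by
  rw [cd_SG]; decide
set_option maxRecDepth 10000 in
theorem cd_S3g_3 : cd S3g 3 = 3 := by
  rw [cd_SG]; decide
set_option maxRecDepth 10000 in
theorem cd_S3g_4 : cd S3g 4 = 4 := by
  rw [cd_SG]; decide
set_option maxRecDepth 10000 in
theorem cd_S3g_6 : cd S3g 6 = 6 := by
  rw [cd_SG]; decide
set_option maxRecDepth 10000 in
theorem cd_S3g_7 : cd S3g 7 = 1 := by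
  rw [cd_SG]; decide
set_option maxRecDepth 10000 in
theorem cd_S3g_12 : cd S3g 12 = 6 := by
  rw [cd_SG]; decide
set_option maxRecDepth 10000 in
theorem cd_S3g_14 : cd S3g 14 = 4 := by
  rw [cd_SG]; decide
set_option maxRecDepth 10000 in
theorem cd_S3g_21 : cd S3g 21 = 3 := by
  rw [cd_SG]; decide
set_option maxRecDepth 10000 in
theorem cd_S3g_28 : cd S3g 28 = 4 := by
  rw [cd_SG]; decide
set_option maxRecDepth 10000 in
theorem cd_S3g_42 : cd S3g 42 = 6 := by
  rw [cd_SG]; decide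
set_option maxRecDepth 10000 in
theorem cd_S3g_84 : cd S3g 84 = 6 := by
  rw [cd_SG]; decide

set_option maxRecDepth 10000 in
theorem cd_G24_1 : cd G24 1 = 1 := by
  rw [cd_SG]; decide
set_option maxRecDepth 10000 in
theorem cd_G24_2 : cd G24 2 = 10 := by
  rw [cd_SG]; decide
set_option maxRecDepth 10000 in
theorem cd_G24_3 : cd G24 3 = 3 := by
  rw [cd_SG]; decide
set_option maxRecDepth 10000 in
theorem cd_G24_4 : cd G24 4 = 16 := by
  rw [cd_SG]; decide
set_option maxRecDepth 10000 in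
theorem cd_G24_6 : cd G24 6 = 18 := by
  rw [cd_SG]; decide
set_option maxRecDepth 10000 in
theorem cd_G24_7 : cd G24 7 = 1 := by
  rw [cd_SG]; decide
set_option maxRecDepth 10000 in
theorem cd_G24_12 : cd G24 12 = 24 := by
  rw [cd_SG]; decide
set_option maxRecDepth 10000 in
theorem cd_G24_14 : cd G24 14 = 10 := by
  rw [cd_SG]; decide
set_option maxRecDepth 10000 in
theorem cd_G24_21 : cd G24 21 = 3 := by
  rw [cd_SG]; decide
set_option maxRecDepth 10000 in
theorem cd_G24_28 : cd G24 28 = 16 := by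
  rw [cd_SG]; decide
set_option maxRecDepth 10000 in
theorem cd_G24_42 : cd G24 42 = 18 := by
  rw [cd_SG]; decide
set_option maxRecDepth 10000 in
theorem cd_G24_84 : cd G24 84 = 24 := by
  rw [cd_SG]; decide

set_option maxRecDepth 10000 in
theorem cd_G56_1 : cd G56 1 = 1 := by
  rw [cd_SG]; decide
set_option maxRecDepth 10000 in
theorem cd_G56_2 : cd G56 2 = 30 := by
  rw [cd_SG]; decide
set_option maxRecDepth 10000 in
theorem cd_G56_3 : cd G56 3 = 1 := by
  rw [cd_SG]; decide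
set_option maxRecDepth 10000 in
theorem cd_G56_4 : cd G56 4 = 32 := by
  rw [cd_SG]; decide
set_option maxRecDepth 10000 in
theorem cd_G56_6 : cd G56 6 = 30 := by
  rw [cd_SG]; decide
set_option maxRecDepth 10000 in
theorem cd_G56_7 : cd G56 7 = 7 := by
  rw [cd_SG]; decide
set_option maxRecDepth 10000 in
theorem cd_G56_12 : cd G56 12 = 32 := by
  rw [cd_SG]; decide
set_option maxRecDepth 10000 in
theorem cd_G56_14 : cd G56 14 = 42 := by
  rw [cd_SG]; decide
set_option maxRecDepth 10000 in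
theorem cd_G56_21 : cd G56 21 = 7 := by
  rw [cd_SG]; decide
set_option maxRecDepth 10000 in
theorem cd_G56_28 : cd G56 28 = 56 := by
  rw [cd_SG]; decide
set_option maxRecDepth 10000 in
theorem cd_G56_42 : cd G56 42 = 42 := by
  rw [cd_SG]; decide
set_option maxRecDepth 10000 in
theorem cd_G56_84 : cd G56 84 = 56 := by
  rw [cd_SG]; decide

set_option maxRecDepth 10000 in
theorem cd_G126_1 : cd G126 1 = 1 := by
  rw [cd_SG]; decide
set_option maxRecDepth 10000 in
theorem cd_G126_2 : cd G126 2 = 64 := by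
  rw [cd_SG]; decide
set_option maxRecDepth 10000 in
theorem cd_G126_3 : cd G126 3 = 9 := by
  rw [cd_SG]; decide
set_option maxRecDepth 10000 in
theorem cd_G126_4 : cd G126 4 = 64 := by
  rw [cd_SG]; decide
set_option maxRecDepth 10000 in
theorem cd_G126_6 : cd G126 6 = 72 := by
  rw [cd_SG]; decide
set_option maxRecDepth 10000 in
theorem cd_G126_7 : cd G126 7 = 7 := by
  rw [cd_SG]; decide
set_option maxRecDepth 10000 in
theorem cd_G126_12 : cd G126 12 = 72 := by
  rw [cd_SG]; decide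
set_option maxRecDepth 10000 in
theorem cd_G126_14 : cd G126 14 = 70 := by
  rw [cd_SG]; decide
set_option maxRecDepth 10000 in
theorem cd_G126_21 : cd G126 21 = 63 := by
  rw [cd_SG]; decide
set_option maxRecDepth 10000 in
theorem cd_G126_28 : cd G126 28 = 70 := by
  rw [cd_SG]; decide
set_option maxRecDepth 10000 in
theorem cd_G126_42 : cd G126 42 = 126 := by
  rw [cd_SG]; decide
set_option maxRecDepth 10000 in
theorem cd_G126_84 : cd G126 84 = 126 := by
  rw [cd_SG]; decide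

set_option maxRecDepth 10000 in
theorem cd_G144_1 : cd G144 1 = 1 := by
  rw [cd_SG]; decide
set_option maxRecDepth 10000 in
theorem cd_G144_2 : cd G144 2 = 44 := by
  rw [cd_SG]; decide
set_option maxRecDepth 10000 in
theorem cd_G144_3 : cd G144 3 = 9 := by
  rw [cd_SG]; decide
set_option maxRecDepth 10000 in
theorem cd_G144_4 : cd G144 4 = 80 := by
  rw [cd_SG]; decide
set_option maxRecDepth 10000 in
theorem cd_G144_6 : cd G144 6 = 108 := by
  rw [cd_SG]; decide
set_option maxRecDepth 10000 in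
theorem cd_G144_7 : cd G144 7 = 1 := by
  rw [cd_SG]; decide
set_option maxRecDepth 10000 in
theorem cd_G144_12 : cd G144 12 = 144 := by
  rw [cd_SG]; decide
set_option maxRecDepth 10000 in
theorem cd_G144_14 : cd G144 14 = 44 := by
  rw [cd_SG]; decide
set_option maxRecDepth 10000 in
theorem cd_G144_21 : cd G144 21 = 9 := by
  rw [cd_SG]; decide
set_option maxRecDepth 10000 in
theorem cd_G144_28 : cd G144 28 = 80 := by
  rw [cd_SG]; decide
set_option maxRecDepth 10000 in
theorem cd_G144_42 : cd G144 42 = 108 := by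
  rw [cd_SG]; decide
set_option maxRecDepth 10000 in
theorem cd_G144_84 : cd G144 84 = 144 := by
  rw [cd_SG]; decide

set_option maxRecDepth 10000 in
theorem cd_G168_1 : cd G168 1 = 1 := by
  rw [cd_SG]; decide
set_option maxRecDepth 10000 in
theorem cd_G168_2 : cd G168 2 = 4 := by
  rw [cd_SG]; decide
set_option maxRecDepth 10000 in
theorem cd_G168_3 : cd G168 3 = 3 := by
  rw [cd_SG]; decide
set_option maxRecDepth 10000 in
theorem cd_G168_4 : cd G168 4 = 32 := by
  rw [cd_SG]; decide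
set_option maxRecDepth 10000 in
theorem cd_G168_6 : cd G168 6 = 12 := by
  rw [cd_SG]; decide
set_option maxRecDepth 10000 in
theorem cd_G168_7 : cd G168 7 = 7 := by
  rw [cd_SG]; decide
set_option maxRecDepth 10000 in
theorem cd_G168_12 : cd G168 12 = 96 := by
  rw [cd_SG]; decide
set_option maxRecDepth 10000 in
theorem cd_G168_14 : cd G168 14 = 28 := by
  rw [cd_SG]; decide
set_option maxRecDepth 10000 in
theorem cd_G168_21 : cd G168 21 = 21 := by
  rw [cd_SG]; decide
set_option maxRecDepth 10000 in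
theorem cd_G168_28 : cd G168 28 = 56 := by
  rw [cd_SG]; decide
set_option maxRecDepth 10000 in
theorem cd_G168_42 : cd G168 42 = 84 := by
  rw [cd_SG]; decide
set_option maxRecDepth 10000 in
theorem cd_G168_84 : cd G168 84 = 168 := by
  rw [cd_SG]; decide

set_option maxRecDepth 10000 in
theorem cd_G504_1 : cd G504 1 = 1 := by
  rw [cd_SG]; decide
set_option maxRecDepth 10000 in
theorem cd_G504_2 : cd G504 2 = 34 := by
  rw [cd_SG]; decide
set_option maxRecDepth 10000 in
theorem cd_G504_3 : cd G504 3 = 9 := by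
  rw [cd_SG]; decide
set_option maxRecDepth 10000 in
theorem cd_G504_4 : cd G504 4 = 160 := by
  rw [cd_SG]; decide
set_option maxRecDepth 10000 in
theorem cd_G504_6 : cd G504 6 = 162 := by
  rw [cd_SG]; decide
set_option maxRecDepth 10000 in
theorem cd_G504_7 : cd G504 7 = 7 := by
  rw [cd_SG]; decide
set_option maxRecDepth 10000 in
theorem cd_G504_12 : cd G504 12 = 288 := by
  rw [cd_SG]; decide
set_option maxRecDepth 10000 in
theorem cd_G504_14 : cd G504 14 = 154 := by
  rw [cd_SG]; decide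
set_option maxRecDepth 10000 in
theorem cd_G504_21 : cd G504 21 = 63 := by
  rw [cd_SG]; decide
set_option maxRecDepth 10000 in
theorem cd_G504_28 : cd G504 28 = 280 := by
  rw [cd_SG]; decide
set_option maxRecDepth 10000 in
theorem cd_G504_42 : cd G504 42 = 378 := by
  rw [cd_SG]; decide
set_option maxRecDepth 10000 in
theorem cd_G504_84 : cd G504 84 = 504 := by
  rw [cd_SG]; decide

set_option maxRecDepth 10000 in
theorem cd_G2352_1 : cd G2352 1 = 1 := by
  rw [cd_SG]; decide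
set_option maxRecDepth 10000 in
theorem cd_G2352_2 : cd G2352 2 = 408 := by
  rw [cd_SG]; decide
set_option maxRecDepth 10000 in
theorem cd_G2352_3 : cd G2352 3 = 3 := by
  rw [cd_SG]; decide
set_option maxRecDepth 10000 in
theorem cd_G2352_4 : cd G2352 4 = 704 := by
  rw [cd_SG]; decide
set_option maxRecDepth 10000 in
theorem cd_G2352_6 : cd G2352 6 = 468 := by
  rw [cd_SG]; decide
set_option maxRecDepth 10000 in
theorem cd_G2352_7 : cd G2352 7 = 49 := by
  rw [cd_SG]; decide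
set_option maxRecDepth 10000 in
theorem cd_G2352_12 : cd G2352 12 = 768 := by
  rw [cd_SG]; decide
set_option maxRecDepth 10000 in
theorem cd_G2352_14 : cd G2352 14 = 1176 := by
  rw [cd_SG]; decide
set_option maxRecDepth 10000 in
theorem cd_G2352_21 : cd G2352 21 = 147 := by
  rw [cd_SG]; decide
set_option maxRecDepth 10000 in
theorem cd_G2352_28 : cd G2352 28 = 1568 := by
  rw [cd_SG]; decide
set_option maxRecDepth 10000 in
theorem cd_G2352_42 : cd G2352 42 = 1764 := by
  rw [cd_SG]; decide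
set_option maxRecDepth 10000 in
theorem cd_G2352_84 : cd G2352 84 = 2352 := by
  rw [cd_SG]; decide

set_option maxRecDepth 10000 in
theorem cd_G3528_1 : cd G3528 1 = 1 := by
  rw [cd_SG]; decide
set_option maxRecDepth 10000 in
theorem cd_G3528_2 : cd G3528 2 = 128 := by
  rw [cd_SG]; decide
set_option maxRecDepth 10000 in
theorem cd_G3528_3 : cd G3528 3 = 9 := by
  rw [cd_SG]; decide
set_option maxRecDepth 10000 in
theorem cd_G3528_4 : cd G3528 4 = 352 := by
  rw [cd_SG]; decide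
set_option maxRecDepth 10000 in
theorem cd_G3528_6 : cd G3528 6 = 144 := by
  rw [cd_SG]; decide
set_option maxRecDepth 10000 in
theorem cd_G3528_7 : cd G3528 7 = 49 := by
  rw [cd_SG]; decide
set_option maxRecDepth 10000 in
theorem cd_G3528_12 : cd G3528 12 = 1152 := by
  rw [cd_SG]; decide
set_option maxRecDepth 10000 in
theorem cd_G3528_14 : cd G3528 14 = 980 := by
  rw [cd_SG]; decide
set_option maxRecDepth 10000 in
theorem cd_G3528_21 : cd G3528 21 = 441 := by
  rw [cd_SG]; decide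
set_option maxRecDepth 10000 in
theorem cd_G3528_28 : cd G3528 28 = 1960 := by
  rw [cd_SG]; decide
set_option maxRecDepth 10000 in
theorem cd_G3528_42 : cd G3528 42 = 1764 := by
  rw [cd_SG]; decide
set_option maxRecDepth 10000 in
theorem cd_G3528_84 : cd G3528 84 = 3528 := by
  rw [cd_SG]; decide

set_option maxRecDepth 10000 in
theorem cd_Z2_1 : cd Z2 1 = 1 := by
  rw [cd_eq_filter]; decide +kernel
set_option maxRecDepth 10000 in
theorem cd_Z2_2 : cd Z2 2 = 2 := by
  rw [cd_eq_filter]; decide +kernel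
set_option maxRecDepth 10000 in
theorem cd_Z2_3 : cd Z2 3 = 1 := by
  rw [cd_eq_filter]; decide +kernel
set_option maxRecDepth 10000 in
theorem cd_Z2_4 : cd Z2 4 = 2 := by
  rw [cd_eq_filter]; decide +kernel
set_option maxRecDepth 10000 in
theorem cd_Z2_6 : cd Z2 6 = 2 := by
  rw [cd_eq_filter]; decide +kernel
set_option maxRecDepth 10000 in
theorem cd_Z2_7 : cd Z2 7 = 1 := by
  rw [cd_eq_filter]; decide +kernel
set_option maxRecDepth 10000 in
theorem cd_Z2_12 : cd Z2 12 = 2 := by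
  rw [cd_eq_filter]; decide +kernel
set_option maxRecDepth 10000 in
theorem cd_Z2_14 : cd Z2 14 = 2 := by
  rw [cd_eq_filter]; decide +kernel
set_option maxRecDepth 10000 in
theorem cd_Z2_21 : cd Z2 21 = 1 := by
  rw [cd_eq_filter]; decide +kernel
set_option maxRecDepth 10000 in
theorem cd_Z2_28 : cd Z2 28 = 2 := by
  rw [cd_eq_filter]; decide +kernel
set_option maxRecDepth 10000 in
theorem cd_Z2_42 : cd Z2 42 = 2 := by
  rw [cd_eq_filter]; decide +kernel
set_option maxRecDepth 10000 in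
theorem cd_Z2_84 : cd Z2 84 = 2 := by
  rw [cd_eq_filter]; decide +kernel

set_option maxRecDepth 10000 in
theorem cd_Z3_1 : cd Z3 1 = 1 := by
  rw [cd_eq_filter]; decide +kernel
set_option maxRecDepth 10000 in
theorem cd_Z3_2 : cd Z3 2 = 1 := by
  rw [cd_eq_filter]; decide +kernel
set_option maxRecDepth 10000 in
theorem cd_Z3_3 : cd Z3 3 = 3 := by
  rw [cd_eq_filter]; decide +kernel
set_option maxRecDepth 10000 in
theorem cd_Z3_4 : cd Z3 4 = 1 := by
  rw [cd_eq_filter]; decide +kernel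
set_option maxRecDepth 10000 in
theorem cd_Z3_6 : cd Z3 6 = 3 := by
  rw [cd_eq_filter]; decide +kernel
set_option maxRecDepth 10000 in
theorem cd_Z3_7 : cd Z3 7 = 1 := by
  rw [cd_eq_filter]; decide +kernel
set_option maxRecDepth 10000 in
theorem cd_Z3_12 : cd Z3 12 = 3 := by
  rw [cd_eq_filter]; decide +kernel
set_option maxRecDepth 10000 in
theorem cd_Z3_14 : cd Z3 14 = 1 := by
  rw [cd_eq_filter]; decide +kernel
set_option maxRecDepth 10000 in
theorem cd_Z3_21 : cd Z3 21 = 3 := by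
  rw [cd_eq_filter]; decide +kernel
set_option maxRecDepth 10000 in
theorem cd_Z3_28 : cd Z3 28 = 1 := by
  rw [cd_eq_filter]; decide +kernel
set_option maxRecDepth 10000 in
theorem cd_Z3_42 : cd Z3 42 = 3 := by
  rw [cd_eq_filter]; decide +kernel
set_option maxRecDepth 10000 in
theorem cd_Z3_84 : cd Z3 84 = 3 := by
  rw [cd_eq_filter]; decide +kernel

theorem exp_S3g : ∀ g : S3g, g ^ 84 = 1 :=
  exp_of_cd' S3g 84 (by rw [cd_S3g_84, natCard_SG, Nat.card_eq_fintype_card]; decide)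
theorem exp_G24 : ∀ g : G24, g ^ 84 = 1 :=
  exp_of_cd' G24 84 (by rw [cd_G24_84, natCard_SG, Nat.card_eq_fintype_card]; decide)
theorem exp_G56 : ∀ g : G56, g ^ 84 = 1 :=
  exp_of_cd' G56 84 (by rw [cd_G56_84, natCard_SG, Nat.card_eq_fintype_card]; decide)
theorem exp_G126 : ∀ g : G126, g ^ 84 = 1 :=
  exp_of_cd' G126 84 (by rw [cd_G126_84, natCard_SG, Nat.card_eq_fintype_card]; decide)
theorem exp_G144 : ∀ g : G144, g ^ 84 = 1 :=
  exp_of_cd' G144 84 (by rw [cd_G144_84, natCard_SG, Nat.card_eq_fintype_card]; decide)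
theorem exp_G168 : ∀ g : G168, g ^ 84 = 1 :=
  exp_of_cd' G168 84 (by rw [cd_G168_84, natCard_SG, Nat.card_eq_fintype_card]; decide)
theorem exp_G504 : ∀ g : G504, g ^ 84 = 1 :=
  exp_of_cd' G504 84 (by rw [cd_G504_84, natCard_SG, Nat.card_eq_fintype_card]; decide)
theorem exp_G2352 : ∀ g : G2352, g ^ 84 = 1 :=
  exp_of_cd' G2352 84 (by rw [cd_G2352_84, natCard_SG, Nat.card_eq_fintype_card]; decide)
theorem exp_G3528 : ∀ g : G3528, g ^ 84 = 1 :=
  exp_of_cd' G3528 84 (by rw [cd_G3528_84, natCard_SG, Nat.card_eq_fintype_card]; decide)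
theorem exp_Z2 : ∀ g : Z2, g ^ 84 = 1 := by decide +kernel
theorem exp_Z3 : ∀ g : Z3, g ^ 84 = 1 := by decide +kernel

end Cfsg.Agent.Lib.Helper4.OT
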