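import Mathlib
import Cfsg.Agent.Lib.Helper4.OT3
import Cfsg.Agent.Lib.Helper4.OT4
import Cfsg.Agent.Lib.Helper4.OT5

namespace Cfsg.Agent.Lib.Helper4.OT

/-- the solvable group. -/
abbrev Gs := G24 × G126 × G144 × G168 × A168 × G2352
/-- the nonsolvable group. -/
abbrev Hn := P × (Fin 5 → Z2) × (Fin 2 → Z3) × S3g × G56 × G504 × G3528

theorem cd_Gs_1 : cd Gs 1 = 1 := by
  simp only [cd_prod, cd_G24_1, cd_G126_1, cd_G144_1, cd_G168_1, cdA_1, cd_G2352_1]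
theorem cd_Hn_1 : cd Hn 1 = 1 := by
  simp only [cd_prod, cd_pi, Fintype.card_fin, cdP_1, cd_Z2_1, cd_Z3_1, cd_S3g_1, cd_G56_1, cd_G504_1, cd_G3528_1]
  norm_num
theorem cd_Gs_2 : cd Gs 2 = 367656960 := by
  simp only [cd_prod, cd_G24_2, cd_G126_2, cd_G144_2, cd_G168_2, cdA_2, cd_G2352_2]
theorem cd_Hn_2 : cd Hn 2 = 367656960 := by
  simp only [cd_prod, cd_pi, Fintype.card_fin, cdP_2, cd_Z2_2, cd_Z3_2, cd_S3g_2, cd_G56_2, cd_G504_2, cd_G3528_2]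
  norm_num
theorem cd_Gs_3 : cd Gs 3 = 124659 := by
  simp only [cd_prod, cd_G24_3, cd_G126_3, cd_G144_3, cd_G168_3, cdA_3, cd_G2352_3]
theorem cd_Hn_3 : cd Hn 3 = 124659 := by
  simp only [cd_prod, cd_pi, Fintype.card_fin, cdP_3, cd_Z2_3, cd_Z3_3, cd_S3g_3, cd_G56_3, cd_G504_3, cd_G3528_3]
  norm_num
theorem cd_Gs_4 : cd Gs 4 = 14763950080 := by
  simp only [cd_prod, cd_G24_4, cd_G126_4, cd_G144_4, cd_G168_4, cdA_4, cd_G2352_4]
theorem cd_Hn_4 : cd Hn 4 = 14763950080 := by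
  simp only [cd_prod, cd_pi, Fintype.card_fin, cdP_4, cd_Z2_4, cd_Z3_4, cd_S3g_4, cd_G56_4, cd_G504_4, cd_G3528_4]
  norm_num
theorem cd_Gs_6 : cd Gs 6 = 94327234560 := by
  simp only [cd_prod, cd_G24_6, cd_G126_6, cd_G144_6, cd_G168_6, cdA_6, cd_G2352_6]
theorem cd_Hn_6 : cd Hn 6 = 94327234560 := by
  simp only [cd_prod, cd_pi, Fintype.card_fin, cdP_6, cd_Z2_6, cd_Z3_6, cd_S3g_6, cd_G56_6, cd_G504_6, cd_G3528_6]
  norm_num
theorem cd_Gs_7 : cd Gs 7 = 117649 := by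
  simp only [cd_prod, cd_G24_7, cd_G126_7, cd_G144_7, cd_G168_7, cdA_7, cd_G2352_7]
theorem cd_Hn_7 : cd Hn 7 = 117649 := by
  simp only [cd_prod, cd_pi, Fintype.card_fin, cdP_7, cd_Z2_7, cd_Z3_7, cd_S3g_7, cd_G56_7, cd_G504_7, cd_G3528_7]
  norm_num
theorem cd_Gs_12 : cd Gs 12 = 2201506283520 := by
  simp only [cd_prod, cd_G24_12, cd_G126_12, cd_G144_12, cd_G168_12, cdA_12, cd_G2352_12]
theorem cd_Hn_12 : cd Hn 12 = 2201506283520 := by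
  simp only [cd_prod, cd_pi, Fintype.card_fin, cdP_12, cd_Z2_12, cd_Z3_12, cd_S3g_12, cd_G56_12, cd_G504_12, cd_G3528_12]
  norm_num
theorem cd_Gs_14 : cd Gs 14 = 56794214400 := by
  simp only [cd_prod, cd_G24_14, cd_G126_14, cd_G144_14, cd_G168_14, cdA_14, cd_G2352_14]
theorem cd_Hn_14 : cd Hn 14 = 56794214400 := by
  simp only [cd_prod, cd_pi, Fintype.card_fin, cdP_14, cd_Z2_14, cd_Z3_14, cd_S3g_14, cd_G56_14, cd_G504_14, cd_G3528_14]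
  norm_num
theorem cd_Gs_21 : cd Gs 21 = 551353635 := by
  simp only [cd_prod, cd_G24_21, cd_G126_21, cd_G144_21, cd_G168_21, cdA_21, cd_G2352_21]
theorem cd_Hn_21 : cd Hn 21 = 551353635 := by
  simp only [cd_prod, cd_pi, Fintype.card_fin, cdP_21, cd_Z2_21, cd_Z3_21, cd_S3g_21, cd_G56_21, cd_G504_21, cd_G3528_21]
  norm_num
theorem cd_Gs_28 : cd Gs 28 = 440585420800 := by
  simp only [cd_prod, cd_G24_28, cd_G126_28, cd_G144_28, cd_G168_28, cdA_28, cd_G2352_28]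
theorem cd_Hn_28 : cd Hn 28 = 440585420800 := by
  simp only [cd_prod, cd_pi, Fintype.card_fin, cdP_28, cd_Z2_28, cd_Z3_28, cd_S3g_28, cd_G56_28, cd_G504_28, cd_G3528_28]
  norm_num
theorem cd_Gs_42 : cd Gs 42 = 6097530120192 := by
  simp only [cd_prod, cd_G24_42, cd_G126_42, cd_G144_42, cd_G168_42, cdA_42, cd_G2352_42]
theorem cd_Hn_42 : cd Hn 42 = 6097530120192 := by
  simp only [cd_prod, cd_pi, Fintype.card_fin, cdP_42, cd_Z2_42, cd_Z3_42, cd_S3g_42, cd_G56_42, cd_G504_42, cd_G3528_42]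
  norm_num
theorem cd_Gs_84 : cd Gs 84 = 28906809458688 := by
  simp only [cd_prod, cd_G24_84, cd_G126_84, cd_G144_84, cd_G168_84, cdA_84, cd_G2352_84]
theorem cd_Hn_84 : cd Hn 84 = 28906809458688 := by
  simp only [cd_prod, cd_pi, Fintype.card_fin, cdP_84, cd_Z2_84, cd_Z3_84, cd_S3g_84, cd_G56_84, cd_G504_84, cd_G3528_84]
  norm_num

theorem exp_Gs : ∀ g : Gs, g ^ 84 = 1 :=
  exp_prod 84 exp_G24 (exp_prod 84 exp_G126 (exp_prod 84 exp_G144 (exp_prod 84 exp_G168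
    (exp_prod 84 A168_exp exp_G2352))))

theorem exp_Hn : ∀ g : Hn, g ^ 84 = 1 :=
  exp_prod 84 P_exp (exp_prod 84 (exp_pi 84 exp_Z2) (exp_prod 84 (exp_pi 84 exp_Z3)
    (exp_prod 84 exp_S3g (exp_prod 84 exp_G56 (exp_prod 84 exp_G504 exp_G3528)))))

theorem cd_Gs_Hn (d : ℕ) : cd Gs d = cd Hn d := by
  rw [cd_gcd 84 exp_Gs d, cd_gcd 84 exp_Hn d]
  have h : Nat.gcd d 84 ∈ Nat.divisors 84 := by
    rw [Nat.mem_divisors]; exact ⟨Nat.gcd_dvd_right _ _, by norm_num⟩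
  have h2 : Nat.divisors 84 = {1, 2, 3, 4, 6, 7, 12, 14, 21, 28, 42, 84} := by decide +kernel
  rw [h2] at h
  simp only [Finset.mem_insert, Finset.mem_singleton] at h
  rcases h with h | h | h | h | h | h | h | h | h | h | h | h <;> rw [h]
  · rw [cd_Gs_1, cd_Hn_1]
  · rw [cd_Gs_2, cd_Hn_2]
  · rw [cd_Gs_3, cd_Hn_3]
  · rw [cd_Gs_4, cd_Hn_4]
  · rw [cd_Gs_6, cd_Hn_6]
  · rw [cd_Gs_7, cd_Hn_7]
  · rw [cd_Gs_12, cd_Hn_12]
  · rw [cd_Gs_14, cd_Hn_14]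
  · rw [cd_Gs_21, cd_Hn_21]
  · rw [cd_Gs_28, cd_Hn_28]
  · rw [cd_Gs_42, cd_Hn_42]
  · rw [cd_Gs_84, cd_Hn_84]

instance Gs_solvable : Group.IsSolvable Gs := by infer_instance

theorem Hn_not_solvable : ¬ Group.IsSolvable Hn := by
  intro h
  exact P_not_solvable (Group.isSolvable_of_surjective (f := MonoidHom.fst P ((Fin 5 → Z2) × (Fin 2 → Z3) × S3g × G56 × G504 × G3528))
    (fun p => ⟨(p, 1), rfl⟩))

theorem same_order_type :
    ∃ (G : Type) (_ : Group G) (_ : Finite G) (H : Type) (_ : Group H) (_ : Finite H),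
      Group.IsSolvable G ∧ ¬ Group.IsSolvable H ∧
        ∀ n : ℕ, Nat.card {g : G // orderOf g = n} = Nat.card {h : H // orderOf h = n} :=
  ⟨Gs, inferInstance, inferInstance, Hn, inferInstance, inferInstance, Gs_solvable,
    Hn_not_solvable, card_orderOf_eq cd_Gs_Hn⟩

end Cfsg.Agent.Lib.Helper4.OT
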