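import Mathlib
import Cfsg.Agent.Lib.Helper11.Om2Rel
import Cfsg.Agent.Lib.Helper11.Om2I5Tools
import Cfsg.Agent.Lib.Helper15.Om2GA

/-! helper4: S2146 (OM2 market) sub-leaf HB `exists_hyp_basis` (`m = 4`): a hyperbolic basis of a complement
of a totally singular line `l` in `l^⊥`, with the coordinate formula modulo `l`.  The only place of step (I)
that uses the number of singular vectors (plus type). -/

set_option autoImplicit false

open Cfsg.Agent.Lib.Helper11.Om2 MulAction

namespace Cfsg.Agent.Lib.Helper4.Om2Leaf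

open Cfsg.Agent.Lib.Helper15.Om2Leaf (exists_sing_cond)
open Cfsg.Agent.Lib.Helper11.Om2I5 (exists_perp_not_perp card_span_range_le)

variable {F V G : Type*} [Field F] [AddCommGroup V] [Module F V] [Group G] [DistribMulAction G V]
  (S : Setting F V G)

/-- splitting a count along a predicate -/
theorem card_split [Finite V] (p r : V → Prop) :
    Nat.card {v : V // p v} = Nat.card {v : V // p v ∧ r v} + Nat.card {v : V // p v ∧ ¬ r v} := by
  classical
  haveI : Fintype V := Fintype.ofFinite V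
  simp only [Nat.card_eq_fintype_card, Fintype.card_subtype]
  rw [← Finset.filter_filter, ← Finset.filter_filter]
  exact (Finset.card_filter_add_card_filter_not _).symm

/-- a hyperplane section has half the size -/
theorem card_inf_ker [Finite V] (A : Submodule F V) {z w0 : V} (hw0 : w0 ∈ A) (hzw : S.B z w0 = 1) :
    Nat.card A = 2 * Nat.card (A ⊓ LinearMap.ker (S.B z) : Submodule F V) := by
  classical
  have : Finite F := S.finite_F
  let e : A ≃ (A ⊓ LinearMap.ker (S.B z) : Submodule F V) × F :=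
    { toFun := fun v => (⟨v.1 + S.B z v.1 • w0, by
        refine Submodule.mem_inf.mpr ⟨A.add_mem v.2 (A.smul_mem _ hw0), ?_⟩
        rw [LinearMap.mem_ker, S.Badd_right, S.Bsmul_right, hzw, mul_one, S.fadd_self]⟩, S.B z v.1)
      invFun := fun p => ⟨p.1.1 + p.2 • w0,
        A.add_mem (Submodule.mem_inf.mp p.1.2).1 (A.smul_mem _ hw0)⟩
      left_inv := by
        intro v
        apply Subtype.ext
        simp only
        rw [add_assoc, ← add_smul, S.fadd_self, zero_smul, add_zero]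
      right_inv := by
        rintro ⟨⟨w, hw⟩, c⟩
        have hwk : S.B z w = 0 := LinearMap.mem_ker.mp (Submodule.mem_inf.mp hw).2
        have hc : S.B z (w + c • w0) = c := by
          rw [S.Badd_right, S.Bsmul_right, hzw, mul_one, hwk, zero_add]
        apply Prod.ext
        · apply Subtype.ext
          simp only
          rw [hc, add_assoc, ← add_smul, S.fadd_self, zero_smul, add_zero]
        · simp only
          exact hc }
  rw [Nat.card_congr e, Nat.card_prod, S.natCard_F, mul_comm]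

/-- the flip `v ↦ v + z`: of the vectors of `A` off `z^⊥` exactly half are singular -/
theorem card_sing_inf_ker [Finite V] (A : Submodule F V) {z w0 : V} (hz : S.Q z = 0) (hzA : z ∈ A)
    (hw0 : w0 ∈ A) (hzw : S.B z w0 = 1) :
    4 * Nat.card {v : V // v ∈ A ∧ S.Q v = 0} =
      4 * Nat.card {v : V // v ∈ (A ⊓ LinearMap.ker (S.B z) : Submodule F V) ∧ S.Q v = 0}
        + Nat.card A := by
  classical
  have h1 := card_split (fun v : V => v ∈ A ∧ S.Q v = 0) (fun v => S.B z v = 0)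
  have h2 : Nat.card {v : V // (v ∈ A ∧ S.Q v = 0) ∧ S.B z v = 0} =
      Nat.card {v : V // v ∈ (A ⊓ LinearMap.ker (S.B z) : Submodule F V) ∧ S.Q v = 0} := by
    apply Nat.card_congr
    apply Equiv.subtypeEquivRight
    intro v
    rw [Submodule.mem_inf, LinearMap.mem_ker]
    tauto
  have h3 : Nat.card {v : V // (v ∈ A ∧ S.Q v = 0) ∧ ¬ S.B z v = 0} =
      Nat.card {v : V // (v ∈ A ∧ ¬ S.Q v = 0) ∧ ¬ S.B z v = 0} := by
    apply Nat.card_congr
    apply Equiv.subtypeEquiv (Equiv.addRight z)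
    intro v
    have hB : S.B z (v + z) = S.B z v := by rw [S.Badd_right, S.alt, add_zero]
    have hA : v + z ∈ A ↔ v ∈ A := Submodule.add_mem_iff_left A hzA
    show _ ↔ (v + z ∈ A ∧ ¬ S.Q (v + z) = 0) ∧ ¬ S.B z (v + z) = 0
    rw [hB, hA]
    constructor
    · rintro ⟨⟨hvA, hQ⟩, hb⟩
      refine ⟨⟨hvA, ?_⟩, hb⟩
      have hb1 : S.B v z = 1 := by rw [S.B_symm]; exact S.eq_one_of_ne_zero hb
      rw [S.Q_add, hQ, hz, hb1]
      simp
    · rintro ⟨⟨hvA, hQ⟩, hb⟩
      refine ⟨⟨hvA, ?_⟩, hb⟩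
      have hb1 : S.B v z = 1 := by rw [S.B_symm]; exact S.eq_one_of_ne_zero hb
      rw [S.Q_add, hz, hb1, add_zero] at hQ
      by_contra hne
      apply hQ
      rw [S.eq_one_of_ne_zero hne, S.one_add_one]
  have h4 := card_split (fun v : V => v ∈ A ∧ ¬ S.B z v = 0) (fun v => S.Q v = 0)
  have h5 : Nat.card {v : V // (v ∈ A ∧ ¬ S.B z v = 0) ∧ S.Q v = 0} =
      Nat.card {v : V // (v ∈ A ∧ S.Q v = 0) ∧ ¬ S.B z v = 0} := by
    apply Nat.card_congr
    apply Equiv.subtypeEquivRight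
    intro v
    tauto
  have h6 : Nat.card {v : V // (v ∈ A ∧ ¬ S.B z v = 0) ∧ ¬ S.Q v = 0} =
      Nat.card {v : V // (v ∈ A ∧ ¬ S.Q v = 0) ∧ ¬ S.B z v = 0} := by
    apply Nat.card_congr
    apply Equiv.subtypeEquivRight
    intro v
    tauto
  have h7 := card_split (fun v : V => v ∈ A) (fun v => S.B z v = 0)
  have h8 : Nat.card {v : V // v ∈ A ∧ S.B z v = 0} =
      Nat.card (A ⊓ LinearMap.ker (S.B z) : Submodule F V) := by
    apply Nat.card_congr
    apply Equiv.subtypeEquivRight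
    intro v
    rw [Submodule.mem_inf, LinearMap.mem_ker]
  have h9 := card_inf_ker S A hw0 hzw
  have h10 : Nat.card {v : V // v ∈ A} = Nat.card A := rfl
  omega

/-- HB (`m = 4`): a hyperbolic basis `a, b, a', b'` of a complement of the totally singular line
`l = {0, x, y, x + y}` in `l^⊥`, with the coordinate formula modulo `l`. -/
theorem exists_hyp_basis [Finite V] (hV : Nat.card V = 2 ^ (2 * 4))
    (hs : Nat.card {v : V // S.Q v = 0} = 2 ^ (2 * 4 - 1) + 2 ^ (4 - 1)) {x y : V}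
    (hx0 : x ≠ 0) (hy0 : y ≠ 0) (hx : S.Q x = 0) (hy : S.Q y = 0) (hxy : S.B x y = 0)
    (hne : x ≠ y) :
    ∃ a b a' b' : V,
      (S.B x a = 0 ∧ S.B y a = 0) ∧ (S.B x b = 0 ∧ S.B y b = 0) ∧
      (S.B x a' = 0 ∧ S.B y a' = 0) ∧ (S.B x b' = 0 ∧ S.B y b' = 0) ∧
      S.Q a = 0 ∧ S.Q b = 0 ∧ S.Q a' = 0 ∧ S.Q b' = 0 ∧
      S.B a a' = 1 ∧ S.B b b' = 1 ∧ S.B a b = 0 ∧ S.B a b' = 0 ∧ S.B a' b = 0 ∧ S.B a' b' = 0 ∧
      ∀ v, S.B x v = 0 → S.B y v = 0 →
        OnLine x y (v + S.B v a' • a + S.B v b' • b + S.B v a • a' + S.B v b • b') := by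
  classical
  haveI : Fintype V := Fintype.ofFinite V
  have hyx : S.B y x = 0 := by rw [S.B_symm]; exact hxy
  -- the span of `x, y`
  let v2 : Fin 2 → V := ![x, y]
  let P2 : Submodule F V := Submodule.span F (Set.range v2)
  have hxP2 : x ∈ P2 := Submodule.subset_span ⟨0, rfl⟩
  have hyP2 : y ∈ P2 := Submodule.subset_span ⟨1, rfl⟩
  have hP2card : Nat.card P2 ≤ 2 ^ 2 := card_span_range_le S v2
  -- `a`
  obtain ⟨a, hQa, hav, haP2⟩ := Cfsg.Agent.Lib.Helper11.Om2I5.exists_sing_escape S hV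
    (show 2 + 1 < 4 by norm_num) v2 P2 (by
      intro i
      exact Submodule.subset_span ⟨i, rfl⟩) (by
      rw [hV]
      calc Nat.card P2 * Nat.card P2 ≤ 2 ^ 2 * 2 ^ 2 := Nat.mul_le_mul hP2card hP2card
        _ < 2 ^ (2 * 4) := by norm_num)
  have hax : S.B a x = 0 := hav 0
  have hay : S.B a y = 0 := hav 1
  have hxa : S.B x a = 0 := by rw [S.B_symm]; exact hax
  have hya : S.B y a = 0 := by rw [S.B_symm]; exact hay
  -- `a'`
  obtain ⟨y0, hy0P, hy0a⟩ := exists_perp_not_perp S P2 haP2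
  obtain ⟨a', hQa', ha'c⟩ := exists_sing_cond S hV (show 3 < 4 by norm_num) ![x, y, a] y0
  have ha'x : S.B a' x = 0 := by
    have := ha'c 0
    simp only [Matrix.cons_val_zero] at this
    rw [this]; exact hy0P x hxP2
  have ha'y : S.B a' y = 0 := by
    have := ha'c 1
    simp only [Matrix.cons_val_one, Matrix.cons_val_zero] at this
    rw [this]; exact hy0P y hyP2
  have ha'a : S.B a' a = 1 := by
    have := ha'c 2
    simp only [Matrix.cons_val_two, Matrix.tail_cons, Matrix.head_cons] at this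
    rw [this]; exact hy0a
  have haa' : S.B a a' = 1 := by rw [S.B_symm]; exact ha'a
  have hxa' : S.B x a' = 0 := by rw [S.B_symm]; exact ha'x
  have hya' : S.B y a' = 0 := by rw [S.B_symm]; exact ha'y
  -- the chain of subspaces
  let A1 : Submodule F V := ⊤ ⊓ LinearMap.ker (S.B x)
  let A2 : Submodule F V := A1 ⊓ LinearMap.ker (S.B y)
  let A3 : Submodule F V := A2 ⊓ LinearMap.ker (S.B a)
  have memA1 : ∀ w, w ∈ A1 ↔ S.B x w = 0 := by
    intro w
    simp only [A1, Submodule.mem_inf, Submodule.mem_top, true_and, LinearMap.mem_ker]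
  have memA2 : ∀ w, w ∈ A2 ↔ S.B x w = 0 ∧ S.B y w = 0 := by
    intro w
    simp only [A2, Submodule.mem_inf, memA1, LinearMap.mem_ker]
  have memA3 : ∀ w, w ∈ A3 ↔ (S.B x w = 0 ∧ S.B y w = 0) ∧ S.B a w = 0 := by
    intro w
    simp only [A3, Submodule.mem_inf, memA2, LinearMap.mem_ker]
  -- witnesses for the hyperplane sections
  obtain ⟨w1, hw1⟩ := S.exists_B_eq_one hx0
  have hxw1 : S.B x w1 = 1 := by rw [S.B_symm]; exact hw1
  have hyPx : y ∉ Submodule.span F {x} := by
    intro h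
    obtain ⟨c, hc⟩ := Submodule.mem_span_singleton.mp h
    rcases S.h01 c with rfl | rfl
    · rw [zero_smul] at hc; exact hy0 hc.symm
    · rw [one_smul] at hc; exact hne hc
  obtain ⟨w2, hw2P, hw2y⟩ := exists_perp_not_perp S (Submodule.span F {x}) hyPx
  have hxw2 : S.B x w2 = 0 := by
    rw [S.B_symm]; exact hw2P x (Submodule.mem_span_singleton_self x)
  have hyw2 : S.B y w2 = 1 := by rw [S.B_symm]; exact hw2y
  -- sizes
  have htop : Nat.card (⊤ : Submodule F V) = 2 ^ (2 * 4) := by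
    rw [← hV]; exact Nat.card_congr Submodule.topEquiv.toEquiv
  have c1 : Nat.card (⊤ : Submodule F V) = 2 * Nat.card A1 :=
    card_inf_ker S (⊤ : Submodule F V) (z := x) (w0 := w1) Submodule.mem_top hxw1
  have c2 : Nat.card A1 = 2 * Nat.card A2 :=
    card_inf_ker S A1 (z := y) (w0 := w2) ((memA1 _).mpr hxw2) hyw2
  have c3 : Nat.card A2 = 2 * Nat.card A3 :=
    card_inf_ker S A2 (z := a) (w0 := a') ((memA2 _).mpr ⟨hxa', hya'⟩) haa'
  -- singular vectors
  have f1 : 4 * Nat.card {v : V // v ∈ (⊤ : Submodule F V) ∧ S.Q v = 0} =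
      4 * Nat.card {v : V // v ∈ A1 ∧ S.Q v = 0} + Nat.card (⊤ : Submodule F V) :=
    card_sing_inf_ker S (⊤ : Submodule F V) (z := x) (w0 := w1) hx Submodule.mem_top
      Submodule.mem_top hxw1
  have f2 : 4 * Nat.card {v : V // v ∈ A1 ∧ S.Q v = 0} =
      4 * Nat.card {v : V // v ∈ A2 ∧ S.Q v = 0} + Nat.card A1 :=
    card_sing_inf_ker S A1 (z := y) (w0 := w2) hy ((memA1 _).mpr hxy)
      ((memA1 _).mpr hxw2) hyw2
  have f3 : 4 * Nat.card {v : V // v ∈ A2 ∧ S.Q v = 0} =
      4 * Nat.card {v : V // v ∈ A3 ∧ S.Q v = 0} + Nat.card A2 :=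
    card_sing_inf_ker S A2 (z := a) (w0 := a') hQa ((memA2 _).mpr ⟨hxa, hya⟩)
      ((memA2 _).mpr ⟨hxa', hya'⟩) haa'
  have f0 : Nat.card {v : V // v ∈ (⊤ : Submodule F V) ∧ S.Q v = 0} = 2 ^ (2 * 4 - 1) + 2 ^ (4 - 1) := by
    rw [← hs]
    apply Nat.card_congr
    apply Equiv.subtypeEquivRight
    intro v
    simp
  have hN3 : Nat.card {v : V // v ∈ A3 ∧ S.Q v = 0} = 24 := by
    have htop' : Nat.card (⊤ : Submodule F V) = 256 := by rw [htop]; norm_num
    have f0' : Nat.card {v : V // v ∈ (⊤ : Submodule F V) ∧ S.Q v = 0} = 136 := by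
      rw [f0]; norm_num
    have e1 : Nat.card A1 = 128 := by omega
    have e2 : Nat.card A2 = 64 := by omega
    have n1 : Nat.card {v : V // v ∈ A1 ∧ S.Q v = 0} = 72 := by omega
    have n2 : Nat.card {v : V // v ∈ A2 ∧ S.Q v = 0} = 40 := by omega
    omega
  -- `b0`: a singular vector of `<x,y,a>^⊥` outside `<x,y,a>`
  let v3 : Fin 3 → V := ![x, y, a]
  let P3 : Submodule F V := Submodule.span F (Set.range v3)
  have hxP3 : x ∈ P3 := Submodule.subset_span ⟨0, rfl⟩
  have hyP3 : y ∈ P3 := Submodule.subset_span ⟨1, rfl⟩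
  have haP3 : a ∈ P3 := Submodule.subset_span ⟨2, rfl⟩
  have hP3card : Nat.card P3 ≤ 2 ^ 3 := card_span_range_le S v3
  have hP23 : P2 ≤ P3 := by
    apply Submodule.span_le.mpr
    rintro _ ⟨i, rfl⟩
    fin_cases i
    · exact hxP3
    · exact hyP3
  obtain ⟨b0, hb0A, hQb0, hb0P⟩ : ∃ b0, b0 ∈ A3 ∧ S.Q b0 = 0 ∧ b0 ∉ P3 := by
    by_contra hcon
    push Not at hcon
    have hinj : Function.Injective
        (fun v : {v : V // v ∈ A3 ∧ S.Q v = 0} => (⟨v.1, hcon v.1 v.2.1 v.2.2⟩ : P3)) := by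
      intro u v huv
      have := congrArg (fun p : P3 => (p : V)) huv
      exact Subtype.ext this
    have := Nat.card_le_card_of_injective _ hinj
    rw [hN3] at this
    have h8 : Nat.card P3 ≤ 8 := le_trans hP3card (by norm_num)
    omega
  obtain ⟨⟨hxb0, hyb0⟩, hab0⟩ := (memA3 b0).mp hb0A
  have hb0a : S.B b0 a = 0 := by rw [S.B_symm]; exact hab0
  -- `b`
  let b : V := b0 + S.B b0 a' • a
  have hxb : S.B x b = 0 := by
    simp only [b, S.Badd_right, S.Bsmul_right, hxb0, hxa, mul_zero, add_zero]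
  have hyb : S.B y b = 0 := by
    simp only [b, S.Badd_right, S.Bsmul_right, hyb0, hya, mul_zero, add_zero]
  have hab : S.B a b = 0 := by
    simp only [b, S.Badd_right, S.Bsmul_right, hab0, S.alt, mul_zero, add_zero]
  have ha'b : S.B a' b = 0 := by
    simp only [b, S.Badd_right, S.Bsmul_right, ha'a, mul_one]
    rw [S.B_symm a' b0]; exact S.fadd_self _
  have hQb : S.Q b = 0 := by
    simp only [b]
    rw [S.Q_add, S.Q_smul, S.Bsmul_right, hQb0, hQa, hb0a]
    simp
  have hbP2 : b ∉ P2 := by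
    intro h
    apply hb0P
    have h1 : b0 = b + S.B b0 a' • a := by
      simp only [b]
      rw [add_assoc, S.vadd_self, add_zero]
    rw [h1]
    exact P3.add_mem (hP23 h) (P3.smul_mem _ haP3)
  have hba : S.B b a = 0 := by rw [S.B_symm]; exact hab
  have hba' : S.B b a' = 0 := by rw [S.B_symm]; exact ha'b
  -- `b'`
  obtain ⟨y1, hy1P, hy1b⟩ := exists_perp_not_perp S P2 hbP2
  obtain ⟨c0, hQc0, hc0c⟩ := exists_sing_cond S hV (show 3 < 4 by norm_num) ![x, y, b] y1
  have hc0x : S.B c0 x = 0 := by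
    have := hc0c 0
    simp only [Matrix.cons_val_zero] at this
    rw [this]; exact hy1P x hxP2
  have hc0y : S.B c0 y = 0 := by
    have := hc0c 1
    simp only [Matrix.cons_val_one, Matrix.cons_val_zero] at this
    rw [this]; exact hy1P y hyP2
  have hc0b : S.B c0 b = 1 := by
    have := hc0c 2
    simp only [Matrix.cons_val_two, Matrix.tail_cons, Matrix.head_cons] at this
    rw [this]; exact hy1b
  have hxc0 : S.B x c0 = 0 := by rw [S.B_symm]; exact hc0x
  have hyc0 : S.B y c0 = 0 := by rw [S.B_symm]; exact hc0y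
  have hbc0 : S.B b c0 = 1 := by rw [S.B_symm]; exact hc0b
  let b' : V := c0 + S.B c0 a' • a + S.B c0 a • a' + (S.B c0 a' * S.B c0 a) • b
  have hxb' : S.B x b' = 0 := by
    simp only [b', S.Badd_right, S.Bsmul_right, hxc0, hxa, hxa', hxb, mul_zero, add_zero]
  have hyb' : S.B y b' = 0 := by
    simp only [b', S.Badd_right, S.Bsmul_right, hyc0, hya, hya', hyb, mul_zero, add_zero]
  have hab' : S.B a b' = 0 := by
    simp only [b', S.Badd_right, S.Bsmul_right, S.alt, haa', hab, mul_zero, add_zero, mul_one]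
    rw [S.B_symm a c0]; exact S.fadd_self _
  have ha'b' : S.B a' b' = 0 := by
    simp only [b', S.Badd_right, S.Bsmul_right, S.alt, ha'a, ha'b, mul_zero, add_zero, mul_one]
    rw [S.B_symm a' c0]; exact S.fadd_self _
  have hbb' : S.B b b' = 1 := by
    simp only [b', S.Badd_right, S.Bsmul_right, S.alt, hba, hba', hbc0, mul_zero, add_zero]
  have hQb' : S.Q b' = 0 := by
    simp only [b']
    rcases S.h01 (S.B c0 a') with h1 | h1 <;> rcases S.h01 (S.B c0 a) with h2 | h2
    · simp only [h1, h2, zero_smul, add_zero, mul_zero]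
      exact hQc0
    · simp only [h1, h2, zero_smul, add_zero, one_smul, zero_mul]
      rw [S.Q_add, hQc0, hQa', h1]
      simp
    · simp only [h1, h2, zero_smul, add_zero, one_smul, mul_zero]
      rw [S.Q_add, hQc0, hQa, h2]
      simp
    · simp only [h1, h2, one_smul, mul_one]
      rw [S.Q_add, S.Q_add, S.Q_add, hQc0, hQa, hQa', hQb, h2, S.Badd_left, S.Badd_left,
        S.Badd_left, h1, haa', hc0b, hab, ha'b]
      have := S.one_add_one
      linear_combination 2 * this
  have hb'b : S.B b' b = 1 := by rw [S.B_symm]; exact hbb'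
  -- the chain continues down to `<x,y,a,a',b,b'>^⊥`
  let A4 : Submodule F V := A3 ⊓ LinearMap.ker (S.B a')
  let A5 : Submodule F V := A4 ⊓ LinearMap.ker (S.B b)
  let A6 : Submodule F V := A5 ⊓ LinearMap.ker (S.B b')
  have memA4 : ∀ w, w ∈ A4 ↔ ((S.B x w = 0 ∧ S.B y w = 0) ∧ S.B a w = 0) ∧ S.B a' w = 0 := by
    intro w
    simp only [A4, Submodule.mem_inf, memA3, LinearMap.mem_ker]
  have memA5 : ∀ w, w ∈ A5 ↔
      (((S.B x w = 0 ∧ S.B y w = 0) ∧ S.B a w = 0) ∧ S.B a' w = 0) ∧ S.B b w = 0 := by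
    intro w
    simp only [A5, Submodule.mem_inf, memA4, LinearMap.mem_ker]
  have memA6 : ∀ w, w ∈ A6 ↔
      ((((S.B x w = 0 ∧ S.B y w = 0) ∧ S.B a w = 0) ∧ S.B a' w = 0) ∧ S.B b w = 0) ∧
        S.B b' w = 0 := by
    intro w
    simp only [A6, Submodule.mem_inf, memA5, LinearMap.mem_ker]
  have c4 : Nat.card A3 = 2 * Nat.card A4 :=
    card_inf_ker S A3 (z := a') (w0 := a) ((memA3 _).mpr ⟨⟨hxa, hya⟩, S.alt a⟩) ha'a
  have c5 : Nat.card A4 = 2 * Nat.card A5 :=
    card_inf_ker S A4 (z := b) (w0 := b') ((memA4 _).mpr ⟨⟨⟨hxb', hyb'⟩, hab'⟩, ha'b'⟩) hbb'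
  have c6 : Nat.card A5 = 2 * Nat.card A6 :=
    card_inf_ker S A5 (z := b') (w0 := b)
      ((memA5 _).mpr ⟨⟨⟨⟨hxb, hyb⟩, hab⟩, ha'b⟩, S.alt b⟩) hb'b
  have hA6 : Nat.card A6 = 4 := by
    have htop' : Nat.card (⊤ : Submodule F V) = 256 := by rw [htop]; norm_num
    omega
  have hxA6 : x ∈ A6 := (memA6 _).mpr ⟨⟨⟨⟨⟨S.alt x, hyx⟩, hax⟩, ha'x⟩, by rw [S.B_symm]; exact hxb⟩,
    by rw [S.B_symm]; exact hxb'⟩
  have hyA6 : y ∈ A6 := (memA6 _).mpr ⟨⟨⟨⟨⟨hxy, S.alt y⟩, hay⟩, ha'y⟩, by rw [S.B_symm]; exact hyb⟩,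
    by rw [S.B_symm]; exact hyb'⟩
  have hline : ∀ w, w ∈ A6 → OnLine x y w := by
    intro w hw
    let s : Finset V := {0, x, y, x + y}
    let t : Finset V := Finset.univ.filter (fun w => w ∈ A6)
    have hst : s ⊆ t := by
      intro u hu
      simp only [s, Finset.mem_insert, Finset.mem_singleton] at hu
      simp only [t, Finset.mem_filter, Finset.mem_univ, true_and]
      rcases hu with rfl | rfl | rfl | rfl
      · exact A6.zero_mem
      · exact hxA6
      · exact hyA6
      · exact A6.add_mem hxA6 hyA6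
    have hs4 : s.card = 4 := by
      have hxy' : x + y ≠ 0 := fun h => hne (S.vadd_eq_zero_iff.mp h)
      have h1 : x + y ≠ x := fun h => hy0 (by simpa using h)
      have h2 : x + y ≠ y := fun h => hx0 (by simpa using h)
      have n1 : (0 : V) ∉ ({x, y, x + y} : Finset V) := by
        intro h
        simp only [Finset.mem_insert, Finset.mem_singleton] at h
        rcases h with h | h | h
        · exact hx0 h.symm
        · exact hy0 h.symm
        · exact hxy' h.symm
      have n2 : x ∉ ({y, x + y} : Finset V) := by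
        intro h
        simp only [Finset.mem_insert, Finset.mem_singleton] at h
        rcases h with h | h
        · exact hne h
        · exact h1 h.symm
      have n3 : y ∉ ({x + y} : Finset V) := by
        intro h
        simp only [Finset.mem_singleton] at h
        exact h2 h.symm
      simp only [s]
      rw [Finset.card_insert_of_notMem n1, Finset.card_insert_of_notMem n2,
        Finset.card_insert_of_notMem n3, Finset.card_singleton]
    have ht4 : t.card = 4 := by
      rw [← hA6, Nat.card_eq_fintype_card, Fintype.card_subtype]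
    have hst' := Finset.eq_of_subset_of_card_le hst (by rw [hs4, ht4])
    have hwt : w ∈ t := by
      simp only [t, Finset.mem_filter, Finset.mem_univ, true_and]
      exact hw
    rw [← hst'] at hwt
    simp only [s, Finset.mem_insert, Finset.mem_singleton] at hwt
    exact hwt
  refine ⟨a, b, a', b', ⟨hxa, hya⟩, ⟨hxb, hyb⟩, ⟨hxa', hya'⟩, ⟨hxb', hyb'⟩, hQa, hQb, hQa', hQb',
    haa', hbb', hab, hab', ha'b, ha'b', ?_⟩
  intro v hxv hyv
  apply hline
  have hb'a : S.B b' a = 0 := by rw [S.B_symm]; exact hab'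
  have hb'a' : S.B b' a' = 0 := by rw [S.B_symm]; exact ha'b'
  rw [memA6]
  refine ⟨⟨⟨⟨⟨?_, ?_⟩, ?_⟩, ?_⟩, ?_⟩, ?_⟩
  · simp only [S.Badd_right, S.Bsmul_right, hxv, hxa, hxb, hxa', hxb', mul_zero, add_zero]
  · simp only [S.Badd_right, S.Bsmul_right, hyv, hya, hyb, hya', hyb', mul_zero, add_zero]
  · simp only [S.Badd_right, S.Bsmul_right, S.alt, hab, haa', hab', mul_zero, add_zero, mul_one]
    rw [S.B_symm a v]; exact S.fadd_self _
  · simp only [S.Badd_right, S.Bsmul_right, S.alt, ha'a, ha'b, ha'b', mul_zero, add_zero, mul_one]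
    rw [S.B_symm a' v]; exact S.fadd_self _
  · simp only [S.Badd_right, S.Bsmul_right, S.alt, hba, hba', hbb', mul_zero, add_zero, mul_one,
      zero_add]
    rw [S.B_symm b v]; exact S.fadd_self _
  · simp only [S.Badd_right, S.Bsmul_right, S.alt, hb'a, hb'a', hb'b, mul_zero, add_zero, mul_one,
      zero_add]
    rw [S.B_symm b' v]; exact S.fadd_self _

end Cfsg.Agent.Lib.Helper4.Om2Leaf
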