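import Mathlib
import Cfsg.Prelude.Def_ClassicalGeometry
import Cfsg.Prelude.Def_GeometricClasses
import Cfsg.Agent.Lib.Helper5.LSubC
import Cfsg.Agent.Lib.Helper20.Om7S.Wrap
import Cfsg.Agent.Lib.Helper20.Om7S.KDefs
import Cfsg.Agent.Lib.Helper20.Om7S.EDefs
import Cfsg.Agent.Lib.Helper23.Om7SL0
import Cfsg.Agent.Lib.Helper22.Om7SL0cd
import Cfsg.Agent.Lib.Helper1.Om7K1a
import Cfsg.Agent.Lib.Helper7.Om7SK2
import Cfsg.Agent.Lib.Helper11.Om7SK7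

set_option linter.dupNamespace false
set_option linter.ambiguousOpen false

namespace Cfsg.Agent.Lib.Helper20.Om7S

set_option autoImplicit false
set_option linter.unusedSectionVars false
set_option linter.unusedVariables false

open Cfsg Matrix QuadraticMap Module Cfsg.Agent.Lib.Helper25.Siegel Cfsg.Agent.Lib.Helper19.OSub
open _root_.Cfsg _root_.Cfsg.Agent.Lib.Helper25.Siegel
open Cfsg.Agent.Lib.Helper26.OSubLeaf
open S7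
open Cfsg.Agent.Lib.Helper23.Om7SLeaf Cfsg.Agent.Lib.Helper22.Om7SLeaf Cfsg.Agent.Lib.Helper1.Om7Leaf
open Cfsg.Agent.Lib.Helper7.Om7SLeaf Cfsg.Agent.Lib.Helper11.Om7SLeaf

/-!
S5825 conjunct (8) characteristic 2 (planner helper20), leaf **E7** `hull_fix` (helper4).
-/

namespace Cfsg.Agent.Lib.Helper4.Om7ELeaf

variable {ι : Type} [Fintype ι] [DecidableEq ι] {F : Type*} [Field F] [Fintype F]
  {F₀ : Subfield F} {Q : QuadraticForm F (ι → F)} {M : Subgroup (GL ι F)}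

/-- E7 [S]: a rationally acting map fixing `p₀ = c₁ b₁ + c₂ b₂ + c₃ b₃` (`bⱼ` rational): the `cⱼ` are `F₀`-dependent, or the map
fixes every `bⱼ`. -/
theorem hull_fix {hh : GL ι F} (hrat : ∀ x, RatV F₀ x → RatV F₀ (mv hh x)) {b₁ b₂ b₃ : ι → F}
    (h₁ : RatV F₀ b₁) (h₂ : RatV F₀ b₂) (h₃ : RatV F₀ b₃) {c₁ c₂ c₃ : F}
    (hfix : mv hh (c₁ • b₁ + c₂ • b₂ + c₃ • b₃) = c₁ • b₁ + c₂ • b₂ + c₃ • b₃) :
    (∃ l₁ l₂ l₃ : F, l₁ ∈ F₀ ∧ l₂ ∈ F₀ ∧ l₃ ∈ F₀ ∧ ¬ (l₁ = 0 ∧ l₂ = 0 ∧ l₃ = 0) ∧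
      l₁ * c₁ + l₂ * c₂ + l₃ * c₃ = 0) ∨
    (mv hh b₁ = b₁ ∧ mv hh b₂ = b₂ ∧ mv hh b₃ = b₃) := by
  by_cases hall : mv hh b₁ = b₁ ∧ mv hh b₂ = b₂ ∧ mv hh b₃ = b₃
  · exact Or.inr hall
  left
  have hlin : c₁ • (mv hh b₁ - b₁) + c₂ • (mv hh b₂ - b₂) + c₃ • (mv hh b₃ - b₃) = 0 := by
    have h1 : mv hh (c₁ • b₁ + c₂ • b₂ + c₃ • b₃) =
        c₁ • mv hh b₁ + c₂ • mv hh b₂ + c₃ • mv hh b₃ := by
      simp only [mv, Matrix.mulVec_add, Matrix.mulVec_smul]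
    rw [h1] at hfix
    rw [smul_sub, smul_sub, smul_sub]
    rw [← sub_eq_zero] at hfix
    rw [← hfix]
    abel
  -- a coordinate where some `h bⱼ - bⱼ` is non-zero
  obtain ⟨i, hi⟩ : ∃ i : ι, ¬ ((mv hh b₁ - b₁) i = 0 ∧ (mv hh b₂ - b₂) i = 0 ∧
      (mv hh b₃ - b₃) i = 0) := by
    by_contra hcon
    push Not at hcon
    apply hall
    refine ⟨?_, ?_, ?_⟩
    · rw [← sub_eq_zero]; funext i; exact (hcon i).1
    · rw [← sub_eq_zero]; funext i; exact (hcon i).2.1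
    · rw [← sub_eq_zero]; funext i; exact (hcon i).2.2
  refine ⟨(mv hh b₁ - b₁) i, (mv hh b₂ - b₂) i, (mv hh b₃ - b₃) i, ?_, ?_, ?_, hi, ?_⟩
  · exact F₀.sub_mem (hrat b₁ h₁ i) (h₁ i)
  · exact F₀.sub_mem (hrat b₂ h₂ i) (h₂ i)
  · exact F₀.sub_mem (hrat b₃ h₃ i) (h₃ i)
  · have h2 := congrFun hlin i
    simp only [Pi.add_apply, Pi.smul_apply, smul_eq_mul, Pi.zero_apply] at h2
    rw [← h2]
    ring

end Cfsg.Agent.Lib.Helper4.Om7ELeaf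

end Cfsg.Agent.Lib.Helper20.Om7S
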