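import Mathlib
import Cfsg.Prelude.Def_ClassicalGeometry
import Cfsg.Prelude.Def_GeometricClasses
import Cfsg.Agent.Lib.Helper5.LSubC
import Cfsg.Agent.Lib.Helper20.Om7S.Wrap
import Cfsg.Agent.Lib.Helper20.Om7S.KDefs
import Cfsg.Agent.Lib.Helper20.Om7S.EDefs
import Cfsg.Agent.Lib.Helper23.Om7SL0
import Cfsg.Agent.Lib.Helper22.Om7SL0cd
import Cfsg.Agent.Lib.Helper1.Om7K1a
import Cfsg.Agent.Lib.Helper7.Om7SK2
import Cfsg.Agent.Lib.Helper11.Om7SK7

set_option linter.dupNamespace false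
set_option linter.ambiguousOpen false

namespace Cfsg.Agent.Lib.Helper20.Om7S

set_option autoImplicit false
set_option linter.unusedSectionVars false
set_option linter.unusedVariables false

open Cfsg Matrix QuadraticMap Module Cfsg.Agent.Lib.Helper25.Siegel Cfsg.Agent.Lib.Helper19.OSub
open _root_.Cfsg _root_.Cfsg.Agent.Lib.Helper25.Siegel
open Cfsg.Agent.Lib.Helper26.OSubLeaf
open S7
open Cfsg.Agent.Lib.Helper23.Om7SLeaf Cfsg.Agent.Lib.Helper22.Om7SLeaf Cfsg.Agent.Lib.Helper1.Om7Leaf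
open Cfsg.Agent.Lib.Helper7.Om7SLeaf Cfsg.Agent.Lib.Helper11.Om7SLeaf

/-!
S5825 conjunct (8) characteristic 2 (planner helper20), leaf **E8a** `exists_rat_line_of_dep` (helper4).
-/

namespace Cfsg.Agent.Lib.Helper4.Om7ELeaf

variable {ι : Type} [Fintype ι] [DecidableEq ι] {F : Type*} [Field F] [Fintype F]
  {F₀ : Subfield F} {Q : QuadraticForm F (ι → F)} {M : Subgroup (GL ι F)}

omit [Fintype F] in
/-- `Q` vanishes on the span of two orthogonal singular vectors -/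
theorem Q_comb_h4 {x y : ι → F} (hx : Q x = 0) (hy : Q y = 0) (hxy : polar Q x y = 0) (a b : F) :
    Q (a • x + b • y) = 0 := by
  rw [QuadraticMap.map_add Q, QuadraticMap.map_smul, QuadraticMap.map_smul, hx, hy,
    polar_smul_left, polar_smul_right, hxy]
  simp

omit [Fintype F] in
/-- the core of E8a: three mutually orthogonal singular independent rational vectors and a rational relation with last
coefficient non-zero -/
theorem rat_line_core_h4 {x y z : ι → F} (hx : RatV F₀ x) (hy : RatV F₀ y) (hz : RatV F₀ z)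
    (Qx : Q x = 0) (Qy : Q y = 0) (Qz : Q z = 0) (hxy : polar Q x y = 0) (hxz : polar Q x z = 0)
    (hyz : polar Q y z = 0)
    (hind : ∀ α β γ : F, α • x + β • y + γ • z = 0 → α = 0 ∧ β = 0 ∧ γ = 0)
    {a b c l m n : F} (hl : l ∈ F₀) (hm : m ∈ F₀) (hn : n ∈ F₀) (hn0 : n ≠ 0)
    (hrel : l * a + m * b + n * c = 0) :
    ∃ b₁ b₂ : ι → F, RatV F₀ b₁ ∧ RatV F₀ b₂ ∧ TS Q b₁ b₂ ∧
      InSpan b₁ b₂ (a • x + b • y + c • z) := by
  have hyx : polar Q y x = 0 := by rw [polar_comm]; exact hxy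
  have hzx : polar Q z x = 0 := by rw [polar_comm]; exact hxz
  have hzy : polar Q z y = 0 := by rw [polar_comm]; exact hyz
  have hzz : polar Q z z = 0 := by
    rw [polar_self, Qz]; simp
  refine ⟨n • x + (-l) • z, n • y + (-m) • z, ?_, ?_, ⟨?_, ?_, ?_, ?_⟩, ?_⟩
  · intro i
    simp only [Pi.add_apply, Pi.smul_apply, smul_eq_mul]
    exact F₀.add_mem (F₀.mul_mem hn (hx i)) (F₀.mul_mem (F₀.neg_mem hl) (hz i))
  · intro i
    simp only [Pi.add_apply, Pi.smul_apply, smul_eq_mul]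
    exact F₀.add_mem (F₀.mul_mem hn (hy i)) (F₀.mul_mem (F₀.neg_mem hm) (hz i))
  · exact Q_comb_h4 Qx Qz hxz _ _
  · exact Q_comb_h4 Qy Qz hyz _ _
  · simp only [polar_add_left, polar_add_right, polar_smul_left, polar_smul_right, hxy, hxz, hzy,
      hzz, smul_eq_mul, mul_zero, add_zero]
  · rw [LinearIndependent.pair_iff]
    intro s t hst
    have h1 : (s * n) • x + (t * n) • y + (-(s * l) - t * m) • z = 0 := by
      rw [← hst]
      module
    obtain ⟨h2, h3, -⟩ := hind _ _ _ h1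
    exact ⟨(mul_eq_zero.mp h2).resolve_right hn0, (mul_eq_zero.mp h3).resolve_right hn0⟩
  · refine ⟨a / n, b / n, ?_⟩
    obtain ⟨a', ha'⟩ : ∃ a' : F, a' = a / n := ⟨_, rfl⟩
    obtain ⟨b', hb'⟩ : ∃ b' : F, b' = b / n := ⟨_, rfl⟩
    have ea : a = a' * n := by rw [ha']; field_simp
    have eb : b = b' * n := by rw [hb']; field_simp
    have ec : c = -(l * a' + m * b') := by
      have h1 : n * (c + (l * a' + m * b')) = 0 := by
        rw [ea, eb] at hrel
        linear_combination hrel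
      rcases mul_eq_zero.mp h1 with h2 | h2
      · exact absurd h2 hn0
      · exact eq_neg_of_add_eq_zero_left h2
    rw [← ha', ← hb', ea, eb, ec]
    module

omit [Fintype F] in
/-- the isotropic vectors of a frame are linearly independent -/
theorem frame_ind_h4 (fr : Frame F₀ Q 3) (α β γ : F)
    (h : α • fr.e 0 + β • fr.e 1 + γ • fr.e 2 = 0) : α = 0 ∧ β = 0 ∧ γ = 0 := by
  have key : ∀ j : Fin 3, polar Q (α • fr.e 0 + β • fr.e 1 + γ • fr.e 2) (fr.f j) =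
      α * (if (0 : Fin 3) = j then 1 else 0) + β * (if (1 : Fin 3) = j then 1 else 0) +
        γ * (if (2 : Fin 3) = j then 1 else 0) := by
    intro j
    simp only [polar_add_left, polar_smul_left, fr.ef, smul_eq_mul]
  have hz : ∀ j : Fin 3, polar Q (α • fr.e 0 + β • fr.e 1 + γ • fr.e 2) (fr.f j) = 0 := by
    intro j
    rw [h, polar_zero_left]
  refine ⟨?_, ?_, ?_⟩
  · have := key 0
    rw [hz 0] at this
    simpa using this.symm
  · have := key 1
    rw [hz 1] at this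
    simpa using this.symm
  · have := key 2
    rw [hz 2] at this
    simpa using this.symm

/-- E8a [S-M]: a point of the rational t.s. plane `⟨e₀,e₁,e₂⟩` whose coordinates satisfy a rational linear relation lies on a
rational (t.s.) line of the plane. -/
theorem exists_rat_line_of_dep (fr : Frame F₀ Q 3) {c₁ c₂ c₃ l₁ l₂ l₃ : F} (hl₁ : l₁ ∈ F₀)
    (hl₂ : l₂ ∈ F₀) (hl₃ : l₃ ∈ F₀) (hl : ¬ (l₁ = 0 ∧ l₂ = 0 ∧ l₃ = 0))
    (hrel : l₁ * c₁ + l₂ * c₂ + l₃ * c₃ = 0) :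
    ∃ b₁ b₂ : ι → F, RatV F₀ b₁ ∧ RatV F₀ b₂ ∧ TS Q b₁ b₂ ∧
      InSpan b₁ b₂ (c₁ • fr.e 0 + c₂ • fr.e 1 + c₃ • fr.e 2) := by
  by_cases h3 : l₃ = 0
  · by_cases h2 : l₂ = 0
    · have h1 : l₁ ≠ 0 := fun h1 => hl ⟨h1, h2, h3⟩
      -- order (e₁, e₂, e₀)
      have hp : c₁ • fr.e 0 + c₂ • fr.e 1 + c₃ • fr.e 2 = c₂ • fr.e 1 + c₃ • fr.e 2 + c₁ • fr.e 0 := by
        abel
      rw [hp]
      refine rat_line_core_h4 (fr.rat_e 1) (fr.rat_e 2) (fr.rat_e 0) (fr.Qe 1) (fr.Qe 2) (fr.Qe 0)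
        (fr.ee 1 2) (fr.ee 1 0) (fr.ee 2 0) ?_ hl₂ hl₃ hl₁ h1 (by linear_combination hrel)
      intro α β γ h
      have := frame_ind_h4 fr γ α β (by rw [← h]; abel)
      exact ⟨this.2.1, this.2.2, this.1⟩
    · -- order (e₀, e₂, e₁)
      have hp : c₁ • fr.e 0 + c₂ • fr.e 1 + c₃ • fr.e 2 = c₁ • fr.e 0 + c₃ • fr.e 2 + c₂ • fr.e 1 := by
        abel
      rw [hp]
      refine rat_line_core_h4 (fr.rat_e 0) (fr.rat_e 2) (fr.rat_e 1) (fr.Qe 0) (fr.Qe 2) (fr.Qe 1)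
        (fr.ee 0 2) (fr.ee 0 1) (fr.ee 2 1) ?_ hl₁ hl₃ hl₂ h2 (by linear_combination hrel)
      intro α β γ h
      have := frame_ind_h4 fr α γ β (by rw [← h]; abel)
      exact ⟨this.1, this.2.2, this.2.1⟩
  · exact rat_line_core_h4 (fr.rat_e 0) (fr.rat_e 1) (fr.rat_e 2) (fr.Qe 0) (fr.Qe 1) (fr.Qe 2)
      (fr.ee 0 1) (fr.ee 0 2) (fr.ee 1 2) (frame_ind_h4 fr) hl₁ hl₂ hl₃ h3 hrel

end Cfsg.Agent.Lib.Helper4.Om7ELeaf

end Cfsg.Agent.Lib.Helper20.Om7S
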