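import Mathlib
import Cfsg.Agent.Lib.Helper4.OrderP4
import Cfsg.Agent.Lib.Helper4.DerivedHall2

set_option autoImplicit false

namespace Cfsg.Agent.Lib.Helper4

open Subgroup
open scoped commutatorElement

universe u

/-- In a nilpotent group, `[H, G] < H` for a nontrivial normal subgroup `H`. -/
theorem commutator_top_lt_of_isNilpotent {P : Type u} [Group P] [hn : Group.IsNilpotent P]
    (H : Subgroup P) [H.Normal] (hH : H ≠ ⊥) : ⁅H, (⊤ : Subgroup P)⁆ < H := by
  refine lt_of_le_of_ne (Subgroup.commutator_le_left H ⊤) ?_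
  intro heq
  apply hH
  have h1 : ∀ n, H ≤ Subgroup.lowerCentralSeries (⊤ : Subgroup P) n := by
    intro n
    induction n with
    | zero => exact le_top
    | succ n ih =>
      rw [Subgroup.lowerCentralSeries_succ, ← heq]
      exact Subgroup.commutator_mono ih le_rfl
  obtain ⟨n, hn⟩ := Subgroup.nilpotent_iff_lowerCentralSeries.mp hn
  rw [eq_bot_iff, ← hn]
  exact h1 n

/-- For `|P| = p⁴`: `|P : P'| = p² ↔ P` has class `3`. -/
theorem index_commutator_eq_sq_iff {P : Type u} [Group P] [Finite P] (p : ℕ) [Fact p.Prime]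
    (hP : Nat.card P = p ^ 4) :
    (commutator P).index = p ^ 2 ↔ Group.nilpotencyClass P = 3 := by
  have hp : p.Prime := Fact.out
  have hp1 := hp.one_lt
  have hPG : IsPGroup p P := IsPGroup.of_card hP
  haveI hnil : Group.IsNilpotent P := hPG.isNilpotent
  have hp2 : 0 < p ^ 2 := pow_pos hp.pos 2
  have hp3 : 0 < p ^ 3 := pow_pos hp.pos 3
  have hp4 : 0 < p ^ 4 := pow_pos hp.pos 4
  have hl1 : Subgroup.lowerCentralSeries (⊤ : Subgroup P) 1 = commutator P :=
    Subgroup.top_lowerCentralSeries_one
  have hl2 : Subgroup.lowerCentralSeries (⊤ : Subgroup P) 2 = ⁅commutator P, (⊤ : Subgroup P)⁆ := by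
    rw [Subgroup.lowerCentralSeries_succ, hl1]
  have hl3 : Subgroup.lowerCentralSeries (⊤ : Subgroup P) 3 =
      ⁅⁅commutator P, (⊤ : Subgroup P)⁆, (⊤ : Subgroup P)⁆ := by
    rw [Subgroup.lowerCentralSeries_succ, hl2]
  have hclass : Group.nilpotencyClass P = 3 ↔
      (⁅⁅commutator P, (⊤ : Subgroup P)⁆, (⊤ : Subgroup P)⁆ = ⊥ ∧
        ⁅commutator P, (⊤ : Subgroup P)⁆ ≠ ⊥) := by
    rw [← hl3, ← hl2, Subgroup.lowerCentralSeries_eq_bot_iff_nilpotencyClass_le, Ne,
      Subgroup.lowerCentralSeries_eq_bot_iff_nilpotencyClass_le]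
    omega
  rw [hclass]
  have hDmul := Subgroup.card_mul_index (commutator P)
  rw [hP] at hDmul
  constructor
  · intro hidx
    have hcD : Nat.card (commutator P) = p ^ 2 := by
      rw [hidx] at hDmul
      have h4 : p ^ 4 = p ^ 2 * p ^ 2 := by ring
      rw [h4] at hDmul
      exact Nat.eq_of_mul_eq_mul_right hp2 hDmul
    have hDne : commutator P ≠ ⊥ := by
      intro h
      rw [h, Subgroup.card_bot] at hcD
      have : 1 < p ^ 2 := Nat.one_lt_pow (by norm_num) hp1
      omega
    have hlt2 := commutator_top_lt_of_isNilpotent (commutator P) hDne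
    -- `γ₃ ≠ ⊥`
    have hG3 : ⁅commutator P, (⊤ : Subgroup P)⁆ ≠ ⊥ := by
      intro h
      have hle : commutator P ≤ center P := by
        rw [Subgroup.commutator_eq_bot_iff_le_centralizer] at h
        intro x hx
        have := h hx
        rw [mem_center_iff]
        intro g
        exact (Subgroup.mem_centralizer_iff.mp this g (mem_top g))
      have hnc : ¬ ∀ x y : P, x * y = y * x := fun h => hDne (commutator_eq_bot_of_comm h)
      have hZidx : ¬ (center P).index ∣ p := fun h => hnc (comm_of_index_center_dvd_prime hp h)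
      have h1 : (center P).index ∣ p ^ 2 := by
        rw [← hidx]; exact Subgroup.index_dvd_of_le hle
      obtain ⟨k, hk2, hk⟩ := (Nat.dvd_prime_pow hp).mp h1
      have hk' : k = 2 := by
        by_contra hne
        apply hZidx
        rw [hk]
        have : k ≤ 1 := by omega
        simpa using pow_dvd_pow p this
      rw [hk'] at hk
      have := card_commutator_of_index_center p hP hk
      rw [hcD] at this
      have h5 : p ^ 2 = p * p := by ring
      nlinarith
    refine ⟨?_, hG3⟩
    have hlt3 := commutator_top_lt_of_isNilpotent ⁅commutator P, (⊤ : Subgroup P)⁆ hG3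
    have h2 := mul_card_le_of_lt hPG hlt2
    have h3 := mul_card_le_of_lt hPG hlt3
    rw [hcD] at h2
    rw [← Subgroup.card_eq_one]
    have hpos : 0 < Nat.card (⁅⁅commutator P, (⊤ : Subgroup P)⁆, (⊤ : Subgroup P)⁆ : Subgroup P) := Nat.card_pos
    have h4 : p * (p * Nat.card (⁅⁅commutator P, (⊤ : Subgroup P)⁆, (⊤ : Subgroup P)⁆ : Subgroup P)) ≤ p ^ 2 :=
      (Nat.mul_le_mul_left p h3).trans h2
    have h5 : p ^ 2 = p * p := by ring
    by_contra hne
    have : 2 ≤ Nat.card (⁅⁅commutator P, (⊤ : Subgroup P)⁆, (⊤ : Subgroup P)⁆ : Subgroup P) := by omega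
    have h6 : 0 < p * p := Nat.mul_pos hp.pos hp.pos
    nlinarith
  · rintro ⟨hG4, hG3⟩
    have hDne : commutator P ≠ ⊥ := by
      intro h
      apply hG3
      rw [h]
      exact Subgroup.commutator_bot_left _
    have hlt2 := commutator_top_lt_of_isNilpotent (commutator P) hDne
    have hc3 : p ≤ Nat.card (⁅commutator P, (⊤ : Subgroup P)⁆ : Subgroup P) := by
      have := mul_card_le_of_lt hPG (bot_lt_iff_ne_bot.mpr hG3)
      rwa [Subgroup.card_bot, mul_one] at this
    have h2 := mul_card_le_of_lt hPG hlt2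
    have hcD2 : p ^ 2 ≤ Nat.card (commutator P) := by
      calc p ^ 2 = p * p := by ring
        _ ≤ p * Nat.card (⁅commutator P, (⊤ : Subgroup P)⁆ : Subgroup P) := Nat.mul_le_mul_left p hc3
        _ ≤ _ := h2
    -- `P'` is proper with noncyclic quotient
    have hidx : ¬ (commutator P).index ∣ p := by
      intro h
      haveI : IsCyclic (P ⧸ commutator P) := by
        haveI : Fact p.Prime := ⟨hp⟩
        rcases (Nat.dvd_prime hp).mp h with h1 | h1
        · haveI : Subsingleton (P ⧸ commutator P) :=
            (Nat.card_eq_one_iff_unique.mp (show Nat.card (P ⧸ commutator P) = 1 from h1)).1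
          infer_instance
        · exact isCyclic_of_prime_card (p := p) (show Nat.card (P ⧸ commutator P) = p from h1)
      exact hDne commutator_eq_bot_of_isCyclic_of_isNilpotent
    obtain ⟨k, hk4, hk⟩ := (Nat.dvd_prime_pow hp).mp
      (⟨Nat.card (commutator P), by rw [← hDmul]; ring⟩ : (commutator P).index ∣ p ^ 4)
    have hk2 : 2 ≤ k := by
      by_contra h
      push Not at h
      apply hidx
      rw [hk]
      simpa using pow_dvd_pow p (Nat.lt_succ_iff.mp h)
    have hk2' : k ≤ 2 := by
      by_contra h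
      push Not at h
      have h3 : p ^ 3 ≤ (commutator P).index := by
        rw [hk]; exact Nat.pow_le_pow_right hp.pos h
      have h4 : p ^ 2 * p ^ 3 ≤ Nat.card (commutator P) * (commutator P).index :=
        Nat.mul_le_mul hcD2 h3
      rw [hDmul] at h4
      have : p ^ 2 * p ^ 3 = p * p ^ 4 := by ring
      nlinarith
    have : k = 2 := le_antisymm hk2' hk2
    rw [hk, this]

end Cfsg.Agent.Lib.Helper4
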