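import Mathlib

/-!
# S4892 leaf (TR) (helper4): transport of the Sylow/covering hypothesis to `H = N C_G(Q)`

The image of `Q ∈ Syl_p(N)` in `N.subgroupOf H` is a Sylow `p`-subgroup `Q'` with
`N' C_H(Q') = H`.
-/

set_option autoImplicit false

namespace Cfsg.Agent.Lib.Helper4.PRat

universe u

theorem exists_sylow_subgroupOf {G : Type u} [Group G] [Finite G] (p : ℕ) [Fact p.Prime]
    (N : Subgroup G) [N.Normal] (Q : Sylow p N) (H : Subgroup G)
    (hH : H = N ⊔ Subgroup.centralizer (((Q : Subgroup N).map N.subtype : Subgroup G) : Set G)) :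
    ∃ Q' : Sylow p (N.subgroupOf H),
      (N.subgroupOf H) ⊔ Subgroup.centralizer
        ((((Q' : Subgroup (N.subgroupOf H)).map (N.subgroupOf H).subtype : Subgroup H)) : Set H)
        = ⊤ := by
  classical
  have hNH : N ≤ H := by rw [hH]; exact le_sup_left
  -- transport `Q` along `N ≃* N.subgroupOf H`
  have hinj : Function.Injective (Subgroup.subgroupOfEquivOfLe hNH).symm.toMonoidHom :=
    (Subgroup.subgroupOfEquivOfLe hNH).symm.injective
  have hcard : Nat.card ((Q : Subgroup N).map (Subgroup.subgroupOfEquivOfLe hNH).symm.toMonoidHom)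
      = p ^ (Nat.card (N.subgroupOf H)).factorization p := by
    rw [Subgroup.card_map_of_injective hinj,
      Nat.card_congr (Subgroup.subgroupOfEquivOfLe hNH).toEquiv]
    exact Q.card_eq_multiplicity
  refine ⟨Sylow.ofCard _ hcard, ?_⟩
  rw [eq_top_iff]
  rintro ⟨x, hx⟩ -
  have hg : x ∈ N ⊔ Subgroup.centralizer
      (((Q : Subgroup N).map N.subtype : Subgroup G) : Set G) := by
    rw [← hH]; exact hx
  obtain ⟨n, hn, c, hc, hnc⟩ := Subgroup.mem_sup_of_normal_left.1 hg
  have hnH : n ∈ H := hNH hn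
  have hcH : c ∈ H := by
    have : c = n⁻¹ * x := by rw [← hnc]; group
    rw [this]
    exact H.mul_mem (H.inv_mem hnH) hx
  have hx' : (⟨x, hx⟩ : H) = ⟨n, hnH⟩ * ⟨c, hcH⟩ := Subtype.ext hnc.symm
  rw [hx']
  apply Subgroup.mul_mem_sup
  · rw [Subgroup.mem_subgroupOf]; exact hn
  · rw [Subgroup.mem_centralizer_iff]
    intro y hy
    obtain ⟨y', hy', rfl⟩ := Subgroup.mem_map.1 hy
    have hy1 : y' ∈ (Q : Subgroup N).map (Subgroup.subgroupOfEquivOfLe hNH).symm.toMonoidHom := by
      have : y' ∈ ((Sylow.ofCard _ hcard : Sylow p (N.subgroupOf H)) :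
          Subgroup (N.subgroupOf H)) := hy'
      rwa [Sylow.coe_ofCard] at this
    obtain ⟨q, hq, rfl⟩ := Subgroup.mem_map.1 hy1
    have hq' : ((q : N) : G) ∈ ((Q : Subgroup N).map N.subtype : Subgroup G) :=
      Subgroup.mem_map.2 ⟨q, hq, rfl⟩
    apply Subtype.ext
    exact Subgroup.mem_centralizer_iff.1 hc _ hq'

end Cfsg.Agent.Lib.Helper4.PRat
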