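import Mathlib

namespace Cfsg.Agent.H4PSLSpec

open Polynomial Matrix

variable {F : Type*} [Field F]

/-- a squarefree, non-irreducible, non-unit nonzero polynomial splits into coprime non-unit factors -/
theorem exists_coprime_factor {μ : F[X]} (h0 : μ ≠ 0) (hu : ¬ IsUnit μ) (hsq : Squarefree μ)
    (hirr : ¬ Irreducible μ) :
    ∃ f₁ f₂ : F[X], μ = f₁ * f₂ ∧ IsCoprime f₁ f₂ ∧ ¬ IsUnit f₁ ∧ ¬ IsUnit f₂ := by
  obtain ⟨f₁, hf₁, ⟨f₂, rfl⟩⟩ := WfDvdMonoid.exists_irreducible_factor hu h0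
  refine ⟨f₁, f₂, rfl, ?_, hf₁.not_isUnit, ?_⟩
  · rcases hf₁.isCoprime_or_dvd f₂ with h | ⟨g, rfl⟩
    · exact h
    · exfalso
      have : IsUnit f₁ := hsq f₁ ⟨g, by ring⟩
      exact hf₁.not_isUnit this
  · intro h2
    apply hirr
    obtain ⟨w, rfl⟩ := h2
    exact (irreducible_mul_units w).2 hf₁  

theorem commute_aeval {R : Type*} [Ring R] [Algebra F R] {A B : R} (h : Commute B A) (P : F[X]) :
    Commute B (aeval A P) := by
  induction P using Polynomial.induction_on with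
  | C a => rw [aeval_C]; exact (show Commute B (algebraMap F R a) from (Algebra.commutes a B).symm)
  | add p q hp hq => rw [map_add]; exact hp.add_right hq
  | monomial k a _ =>
    rw [map_mul, aeval_C, map_pow, aeval_X]
    exact (show Commute B (algebraMap F R a) from (Algebra.commutes a B).symm).mul_right (h.pow_right _)

end Cfsg.Agent.H4PSLSpec

namespace Cfsg.Agent.H4PSLSpec

open Polynomial Matrix

variable {F : Type*} [Field F] {n : ℕ}

theorem exists_mul_add_dvd {r n : ℕ} (hr : r.Prime) (hrn : ¬ r ∣ n) (i : ℕ) :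
    ∃ j : ℕ, r ∣ j * n + i := by
  haveI : Fact r.Prime := ⟨hr⟩
  have hn0 : (n : ZMod r) ≠ 0 := by
    rw [Ne, ZMod.natCast_eq_zero_iff]; exact hrn
  refine ⟨((-(i : ZMod r)) * (n : ZMod r)⁻¹).val, ?_⟩
  rw [← ZMod.natCast_eq_zero_iff]
  push_cast
  rw [ZMod.natCast_val, ZMod.cast_id', id, mul_assoc, inv_mul_cancel₀ hn0]
  ring

/-- complementary idempotents from a coprime factorisation of the minimal polynomial -/
theorem exists_idempotents (A : Matrix (Fin n) (Fin n) F) {f₁ f₂ : F[X]}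
    (hμ : minpoly F A = f₁ * f₂) (hc : IsCoprime f₁ f₂) (h1 : ¬ IsUnit f₁) (h2 : ¬ IsUnit f₂) :
    ∃ π₁ π₂ : Matrix (Fin n) (Fin n) F, π₁ + π₂ = 1 ∧ π₁ * π₂ = 0 ∧ π₂ * π₁ = 0 ∧
      π₁ * π₁ = π₁ ∧ π₂ * π₂ = π₂ ∧ π₁ ≠ 0 ∧ π₂ ≠ 0 ∧
      (∀ B : Matrix (Fin n) (Fin n) F, Commute B A → Commute B π₁ ∧ Commute B π₂) := by
  obtain ⟨u, v, huv⟩ := hc
  have hA : IsIntegral F A := Matrix.isIntegral A
  have hμ0 : minpoly F A ≠ 0 := minpoly.ne_zero hA
  have hf1 : f₁ ≠ 0 := by rintro rfl; simp at hμ; exact hμ0 hμ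
  have hf2 : f₂ ≠ 0 := by rintro rfl; simp at hμ; exact hμ0 hμ
  have hsum : aeval A (v * f₂) + aeval A (u * f₁) = 1 := by
    rw [← map_add, add_comm, huv, map_one]
  have hprod : aeval A (v * f₂) * aeval A (u * f₁) = 0 := by
    rw [← map_mul]
    have : (v * f₂) * (u * f₁) = (v * u) * minpoly F A := by rw [hμ]; ring
    rw [this, map_mul, minpoly.aeval, mul_zero]
  have hprod' : aeval A (u * f₁) * aeval A (v * f₂) = 0 := by
    rw [← map_mul]
    have : (u * f₁) * (v * f₂) = (v * u) * minpoly F A := by rw [hμ]; ring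
    rw [this, map_mul, minpoly.aeval, mul_zero]
  refine ⟨aeval A (v * f₂), aeval A (u * f₁), hsum, hprod, hprod', ?_, ?_, ?_, ?_, ?_⟩
  · calc aeval A (v * f₂) * aeval A (v * f₂)
        = aeval A (v * f₂) * (aeval A (v * f₂) + aeval A (u * f₁)) := by
          rw [mul_add, hprod, add_zero]
      _ = aeval A (v * f₂) := by rw [hsum, mul_one]
  · calc aeval A (u * f₁) * aeval A (u * f₁)
        = aeval A (u * f₁) * (aeval A (v * f₂) + aeval A (u * f₁)) := by
          rw [mul_add, hprod', zero_add]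
      _ = aeval A (u * f₁) := by rw [hsum, mul_one]
  · intro h0
    have hd : minpoly F A ∣ v * f₂ := minpoly.dvd F A h0
    rw [hμ] at hd
    have hd' : f₁ ∣ v := (mul_dvd_mul_iff_right hf2).1 hd
    apply h1
    have : f₁ ∣ 1 := by
      rw [← huv]; exact dvd_add (dvd_mul_left _ _) (hd'.mul_right _)
    exact isUnit_of_dvd_one this
  · intro h0
    have hd : minpoly F A ∣ u * f₁ := minpoly.dvd F A h0
    rw [hμ, mul_comm f₁ f₂] at hd
    have hd' : f₂ ∣ u := (mul_dvd_mul_iff_right hf1).1 hd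
    apply h2
    have : f₂ ∣ 1 := by
      rw [← huv]; exact dvd_add (hd'.mul_right _) (dvd_mul_left _ _)
    exact isUnit_of_dvd_one this
  · intro B hB
    exact ⟨commute_aeval hB _, commute_aeval hB _⟩

end Cfsg.Agent.H4PSLSpec

namespace Cfsg.Agent.H4PSLSpec

open Polynomial Matrix

variable {F : Type*} [Field F] {n : ℕ}

theorem idem_pow {π₁ π₂ : Matrix (Fin n) (Fin n) F} (hsum : π₁ + π₂ = 1)
    (h12 : π₁ * π₂ = 0) (h21 : π₂ * π₁ = 0) (h11 : π₁ * π₁ = π₁) (h22 : π₂ * π₂ = π₂)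
    (a b : F) (t : ℕ) : (a • π₁ + b • π₂) ^ t = a ^ t • π₁ + b ^ t • π₂ := by
  induction t with
  | zero => simp [hsum]
  | succ t ih =>
    rw [pow_succ, ih]
    simp only [add_mul, mul_add, smul_mul_assoc, mul_smul_comm, h11, h22, h12, h21, smul_zero,
      add_zero, zero_add, smul_smul]
    rw [pow_succ, pow_succ, mul_comm a, mul_comm b]

theorem exists_z_of_idempotents {π₁ π₂ : Matrix (Fin n) (Fin n) F} (hsum : π₁ + π₂ = 1)
    (h12 : π₁ * π₂ = 0) (h21 : π₂ * π₁ = 0) (h11 : π₁ * π₁ = π₁) (h22 : π₂ * π₂ = π₂)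
    (hn1 : π₁ ≠ 0) (hn2 : π₂ ≠ 0) {r : ℕ} (hr : r.Prime) (hrn : ¬ r ∣ n) {ζ : F}
    (hζ : orderOf ζ = r) :
    ∃ z : Matrix.SpecialLinearGroup (Fin n) F,
      (∃ a b : F, z.val = a • π₁ + b • π₂) ∧ z ^ r = 1 ∧
      z ∉ Subgroup.center (Matrix.SpecialLinearGroup (Fin n) F) := by
  haveI : NeZero r := ⟨hr.ne_zero⟩
  have hζr : ζ ^ r = 1 := by rw [← hζ]; exact pow_orderOf_eq_one ζ
  have hζ0 : ζ ≠ 0 := by
    rintro rfl
    rw [zero_pow hr.ne_zero] at hζr
    exact zero_ne_one hζr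
  have hprim : IsPrimitiveRoot ζ r := hζ ▸ IsPrimitiveRoot.orderOf ζ
  have hw : (ζ • π₁ + (1 : F) • π₂) ^ r = 1 := by
    rw [idem_pow hsum h12 h21 h11 h22, hζr, one_pow, one_smul, one_smul, hsum]
  have hdet : (ζ • π₁ + (1 : F) • π₂).det ^ r = 1 := by
    rw [← Matrix.det_pow, hw, Matrix.det_one]
  obtain ⟨i, -, hi⟩ := hprim.eq_pow_of_pow_eq_one hdet
  obtain ⟨j, hj⟩ := exists_mul_add_dvd hr hrn i
  have hdz : (ζ ^ j • (ζ • π₁ + (1 : F) • π₂)).det = 1 := by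
    rw [Matrix.det_smul, Fintype.card_fin, ← hi, ← pow_mul, ← pow_add]
    obtain ⟨c, hc⟩ := hj
    rw [hc, pow_mul, hζr, one_pow]
  let z : Matrix.SpecialLinearGroup (Fin n) F := ⟨ζ ^ j • (ζ • π₁ + (1 : F) • π₂), hdz⟩
  have hzv : z.val = ζ ^ j • (ζ • π₁ + (1 : F) • π₂) := rfl
  refine ⟨z, ⟨ζ ^ j * ζ, ζ ^ j, ?_⟩, ?_, ?_⟩
  · rw [hzv]; simp [smul_add, smul_smul]
  · apply Subtype.ext
    rw [Matrix.SpecialLinearGroup.coe_pow, hzv]
    simp only [Matrix.SpecialLinearGroup.coe_one]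
    rw [_root_.smul_pow, hw, ← pow_mul, mul_comm, pow_mul, hζr, one_pow, one_smul]
  · intro hcen
    obtain ⟨l, -, hl⟩ := Matrix.SpecialLinearGroup.mem_center_iff.1 hcen
    rw [hzv] at hl
    have hl' : l • π₁ + l • π₂ = (ζ ^ j * ζ) • π₁ + (ζ ^ j) • π₂ := by
      have : (Matrix.scalar (Fin n)) l = l • (1 : Matrix (Fin n) (Fin n) F) := by
        rw [Matrix.smul_one_eq_diagonal]; rfl
      rw [← smul_add, hsum, ← this, hl]
      simp [smul_add, smul_smul]
    have e1 : l • π₁ = (ζ ^ j * ζ) • π₁ := by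
      have := congrArg (· * π₁) hl'
      simpa [add_mul, smul_mul_assoc, h11, h21] using this
    have e2 : l • π₂ = (ζ ^ j) • π₂ := by
      have := congrArg (· * π₂) hl'
      simpa [add_mul, smul_mul_assoc, h22, h12] using this
    have c1 : l = ζ ^ j * ζ := by
      have : (l - ζ ^ j * ζ) • π₁ = 0 := by rw [sub_smul, e1, sub_self]
      rcases smul_eq_zero.1 this with h | h
      · exact sub_eq_zero.1 h
      · exact absurd h hn1
    have c2 : l = ζ ^ j := by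
      have : (l - ζ ^ j) • π₂ = 0 := by rw [sub_smul, e2, sub_self]
      rcases smul_eq_zero.1 this with h | h
      · exact sub_eq_zero.1 h
      · exact absurd h hn2
    have : ζ = 1 := by
      have h3 : ζ ^ j * ζ = ζ ^ j * 1 := by rw [mul_one, ← c1, c2]
      exact mul_left_cancel₀ (pow_ne_zero j hζ0) h3
    rw [this, orderOf_one] at hζ
    exact hr.one_lt.ne hζ

end Cfsg.Agent.H4PSLSpec
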