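import Mathlib

namespace Cfsg.Agent.H4PSLSpec

open Polynomial Matrix

section conj

variable {F : Type*} [Field F] {n : ℕ}

/-- the algebra map from `AdjoinRoot (minpoly A)` into the matrix ring -/
noncomputable def adjToMat (A : Matrix (Fin n) (Fin n) F) :
    AdjoinRoot (minpoly F A) →ₐ[F] Matrix (Fin n) (Fin n) F :=
  Ideal.Quotient.liftₐ (Ideal.span {minpoly F A}) (Polynomial.aeval A) (by
    intro a ha
    obtain ⟨c, rfl⟩ := Ideal.mem_span_singleton.1 ha
    rw [map_mul, minpoly.aeval, zero_mul])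

theorem adjToMat_root (A : Matrix (Fin n) (Fin n) F) :
    adjToMat A (AdjoinRoot.root (minpoly F A)) = A := by
  show (Ideal.Quotient.liftₐ (Ideal.span {minpoly F A}) (Polynomial.aeval A) _)
    (Ideal.Quotient.mk _ X) = A
  rw [Ideal.Quotient.liftₐ_apply]
  erw [Ideal.Quotient.lift_mk]
  simp

end conj

end Cfsg.Agent.H4PSLSpec

namespace Cfsg.Agent.H4PSLSpec

open Polynomial Matrix

section conj2

variable {F : Type*} [Field F] {n : ℕ}

theorem exists_conj (A : Matrix (Fin n) (Fin n) F) (hirr : Irreducible (minpoly F A))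
    {E : Type*} [Field E] [Algebra F E] [Finite E] (hE : Module.finrank F E = n)
    (b : Module.Basis (Fin n) F E) :
    ∃ θ : E, ∃ P Q : Matrix (Fin n) (Fin n) F, P * Q = 1 ∧ Q * P = 1 ∧
      Algebra.leftMulMatrix b θ * P = P * A := by
  haveI : Fact (Irreducible (minpoly F A)) := ⟨hirr⟩
  let K := AdjoinRoot (minpoly F A)
  let V := Fin n → F
  let ρ : K →+* Module.End F V :=
    ((Matrix.toLinAlgEquiv' : Matrix (Fin n) (Fin n) F ≃ₐ[F] _).toAlgHom.toRingHom).comp
      (adjToMat A).toRingHom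
  letI : Module K V := Module.compHom V ρ
  have hsmul : ∀ (k : K) (v : V), k • v = (adjToMat A k).mulVec v := fun k v => rfl
  haveI : IsScalarTower F K V := ⟨fun c k v => by
    rw [hsmul, hsmul, map_smul, Matrix.smul_mulVec]⟩
  haveI hfinE : Module.Finite F E := Module.Finite.of_finite
  have hdK : Module.finrank F K * Module.finrank K V = n := by
    rw [Module.finrank_mul_finrank F K V, Module.finrank_fin_fun]
  have hdvd : Module.finrank F K ∣ Module.finrank F E := by
    rw [hE]; exact ⟨_, hdK.symm⟩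
  obtain ⟨ι⟩ := FiniteField.nonempty_algHom_of_finrank_dvd (F := F) (K := K) (L := E) hdvd
  letI : Algebra K E := ι.toRingHom.toAlgebra
  haveI : IsScalarTower F K E := IsScalarTower.of_algebraMap_eq (fun x => (ι.commutes x).symm)
  have hdE : Module.finrank F K * Module.finrank K E = n := by
    rw [Module.finrank_mul_finrank F K E, hE]
  have hKpos : 0 < Module.finrank F K := by
    have : Module.Finite F K := (AdjoinRoot.powerBasis hirr.ne_zero).finite
    exact Module.finrank_pos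
  have hfr : Module.finrank K V = Module.finrank K E :=
    Nat.eq_of_mul_eq_mul_left hKpos (hdK.trans hdE.symm)
  haveI : Module.Finite K V := Module.Finite.right F K V
  haveI : Module.Finite K E := Module.Finite.right F K E
  let ψK : V ≃ₗ[K] E := LinearEquiv.ofFinrankEq V E hfr
  let ψ : V ≃ₗ[F] E := ψK.restrictScalars F
  let θ : E := ι (AdjoinRoot.root (minpoly F A))
  have key : ∀ v : V, ψ (A.mulVec v) = θ * ψ v := by
    intro v
    have h1 : A.mulVec v = (AdjoinRoot.root (minpoly F A) : K) • v := by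
      rw [hsmul, adjToMat_root]
    rw [h1]
    show ψK (_ • v) = _
    rw [map_smul, Algebra.smul_def]
    rfl
  let e := Pi.basisFun F (Fin n)
  refine ⟨θ, LinearMap.toMatrix e b ψ.toLinearMap, LinearMap.toMatrix b e ψ.symm.toLinearMap,
    ?_, ?_, ?_⟩
  · rw [← LinearMap.toMatrix_comp b e b]
    have : ψ.toLinearMap ∘ₗ ψ.symm.toLinearMap = LinearMap.id := by
      ext x; simp
    rw [this, LinearMap.toMatrix_id]
  · rw [← LinearMap.toMatrix_comp e b e]
    have : ψ.symm.toLinearMap ∘ₗ ψ.toLinearMap = LinearMap.id := by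
      ext x; simp
    rw [this, LinearMap.toMatrix_id]
  · rw [Algebra.leftMulMatrix_apply, ← LinearMap.toMatrix_comp e b b]
    have hA : A = LinearMap.toMatrix e e (Matrix.toLin' A) := by
      rw [LinearMap.toMatrix_eq_toMatrix', LinearMap.toMatrix'_toLin']
    conv_rhs => rw [hA]
    rw [← LinearMap.toMatrix_comp e e b]
    congr 1
    apply LinearMap.ext
    intro v
    simp only [LinearMap.comp_apply, LinearEquiv.coe_coe, Matrix.toLin'_apply]
    rw [key]
    rfl

end conj2

end Cfsg.Agent.H4PSLSpec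

namespace Cfsg.Agent.H4PSLSpec

open Polynomial Matrix

section tor

variable (F : Type*) [Field F] [Finite F] (p : ℕ) [Fact p.Prime] [CharP F p] (n : ℕ) [NeZero n]

noncomputable def sBasis : Module.Basis (Fin n) F (FiniteField.Extension F p n) :=
  Module.finBasisOfFinrankEq F _ (FiniteField.finrank_extension F p n)

/-- membership in the image of a fixed Singer torus -/
def IsTor (c : Matrix.ProjectiveSpecialLinearGroup (Fin n) F) : Prop :=
  ∃ (θ : FiniteField.Extension F p n) (x : Matrix.SpecialLinearGroup (Fin n) F),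
    x.val = Algebra.leftMulMatrix (sBasis F p n) θ ∧
      (QuotientGroup.mk x : Matrix.ProjectiveSpecialLinearGroup (Fin n) F) = c

variable {F p n}

theorem IsTor.mul {c₁ c₂ : Matrix.ProjectiveSpecialLinearGroup (Fin n) F}
    (h₁ : IsTor F p n c₁) (h₂ : IsTor F p n c₂) : IsTor F p n (c₁ * c₂) := by
  obtain ⟨θ₁, x₁, hx₁, rfl⟩ := h₁
  obtain ⟨θ₂, x₂, hx₂, rfl⟩ := h₂
  refine ⟨θ₁ * θ₂, x₁ * x₂, ?_, rfl⟩
  rw [Matrix.SpecialLinearGroup.coe_mul, hx₁, hx₂, map_mul]

theorem IsTor.one : IsTor F p n (1 : Matrix.ProjectiveSpecialLinearGroup (Fin n) F) :=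
  ⟨1, 1, by simp, rfl⟩

theorem IsTor.pow {c : Matrix.ProjectiveSpecialLinearGroup (Fin n) F}
    (h : IsTor F p n c) (k : ℕ) : IsTor F p n (c ^ k) := by
  induction k with
  | zero => rw [pow_zero]; exact IsTor.one
  | succ k ih => rw [pow_succ]; exact ih.mul h

theorem IsTor.commute {c₁ c₂ : Matrix.ProjectiveSpecialLinearGroup (Fin n) F}
    (h₁ : IsTor F p n c₁) (h₂ : IsTor F p n c₂) : Commute c₁ c₂ := by
  obtain ⟨θ₁, x₁, hx₁, rfl⟩ := h₁
  obtain ⟨θ₂, x₂, hx₂, rfl⟩ := h₂
  have : x₁ * x₂ = x₂ * x₁ := by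
    apply Subtype.ext
    rw [Matrix.SpecialLinearGroup.coe_mul, Matrix.SpecialLinearGroup.coe_mul, hx₁, hx₂,
      ← map_mul, ← map_mul, mul_comm]
  show (QuotientGroup.mk x₁ : Matrix.ProjectiveSpecialLinearGroup (Fin n) F) * QuotientGroup.mk x₂
    = QuotientGroup.mk x₂ * QuotientGroup.mk x₁
  rw [← QuotientGroup.mk_mul, ← QuotientGroup.mk_mul, this]

theorem IsTor.exists_lcm {c₁ c₂ : Matrix.ProjectiveSpecialLinearGroup (Fin n) F}
    (h₁ : IsTor F p n c₁) (h₂ : IsTor F p n c₂) :
    ∃ c, IsTor F p n c ∧ orderOf c = Nat.lcm (orderOf c₁) (orderOf c₂) := by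
  haveI : Fintype F := Fintype.ofFinite F
  refine ⟨_, (h₁.pow _).mul (h₂.pow _),
    (h₁.commute h₂).orderOf_mul_pow_eq_lcm (orderOf_pos c₁).ne' (orderOf_pos c₂).ne'⟩

end tor

end Cfsg.Agent.H4PSLSpec

namespace Cfsg.Agent.H4PSLSpec

open Polynomial Matrix

section singer

variable {F : Type*} [Field F] {n : ℕ}

theorem conj_pow {X Y P : Matrix (Fin n) (Fin n) F} (h : Y * P = P * X) (j : ℕ) :
    Y ^ j * P = P * X ^ j := by
  induction j with
  | zero => simp
  | succ j ih => rw [pow_succ, mul_assoc, h, ← mul_assoc, ih, mul_assoc, ← pow_succ]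

theorem conj_scalar {X Y P Q : Matrix (Fin n) (Fin n) F} (hPQ : P * Q = 1)
    (h : Y * P = P * X) {j : ℕ} {l : F} (hX : X ^ j = Matrix.scalar (Fin n) l) :
    Y ^ j = Matrix.scalar (Fin n) l := by
  calc Y ^ j = Y ^ j * (P * Q) := by rw [hPQ, mul_one]
    _ = P * X ^ j * Q := by rw [← mul_assoc, conj_pow h]
    _ = Matrix.scalar (Fin n) l * (P * Q) := by
        rw [hX, ← mul_assoc]
        congr 1
        exact ((Matrix.scalar_commute l (fun _ => Commute.all _ _) P).eq).symm
    _ = Matrix.scalar (Fin n) l := by rw [hPQ, mul_one]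

theorem mk_pow_eq_one_iff (x : Matrix.SpecialLinearGroup (Fin n) F) (j : ℕ) :
    ((QuotientGroup.mk x : Matrix.ProjectiveSpecialLinearGroup (Fin n) F) ^ j = 1) ↔
      ∃ l : F, x.val ^ j = Matrix.scalar (Fin n) l := by
  rw [← QuotientGroup.mk_pow, QuotientGroup.eq_one_iff, Matrix.SpecialLinearGroup.mem_center_iff]
  constructor
  · rintro ⟨l, -, hl⟩
    exact ⟨l, by rw [hl, Matrix.SpecialLinearGroup.coe_pow]⟩
  · rintro ⟨l, hl⟩
    refine ⟨l, ?_, by rw [← hl, Matrix.SpecialLinearGroup.coe_pow]⟩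
    have hd : (x ^ j).val.det = 1 := (x ^ j).2
    rw [Matrix.SpecialLinearGroup.coe_pow, hl] at hd
    simpa using hd

variable [Finite F] (p : ℕ) [Fact p.Prime] [CharP F p] [NeZero n]

theorem exists_isTor_of_irreducible (x : Matrix.SpecialLinearGroup (Fin n) F)
    (hirr : Irreducible (minpoly F x.val)) :
    ∃ c, IsTor F p n c ∧ orderOf c =
      orderOf (QuotientGroup.mk x : Matrix.ProjectiveSpecialLinearGroup (Fin n) F) := by
  obtain ⟨θ, P, Q, hPQ, hQP, hconj⟩ := exists_conj x.val hirr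
    (FiniteField.finrank_extension F p n) (sBasis F p n)
  have hQX : x.val * Q = Q * Algebra.leftMulMatrix (sBasis F p n) θ := by
    calc x.val * Q = (Q * P) * x.val * Q := by rw [hQP, one_mul]
      _ = Q * (Algebra.leftMulMatrix (sBasis F p n) θ * P) * Q := by
          rw [hconj]; simp only [mul_assoc]
      _ = Q * Algebra.leftMulMatrix (sBasis F p n) θ := by
          rw [mul_assoc, mul_assoc, hPQ, mul_one]
  have hdet : (Algebra.leftMulMatrix (sBasis F p n) θ).det = 1 := by
    have h1 : (Algebra.leftMulMatrix (sBasis F p n) θ) =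
        P * x.val * Q := by
      calc _ = Algebra.leftMulMatrix (sBasis F p n) θ * (P * Q) := by rw [hPQ, mul_one]
        _ = P * x.val * Q := by rw [← mul_assoc, hconj]
    rw [h1, Matrix.det_mul, Matrix.det_mul, x.2, mul_one, ← Matrix.det_mul, hPQ, Matrix.det_one]
  let y : Matrix.SpecialLinearGroup (Fin n) F := ⟨_, hdet⟩
  have hy : y.val = Algebra.leftMulMatrix (sBasis F p n) θ := rfl
  refine ⟨QuotientGroup.mk y, ⟨θ, y, hy, rfl⟩, ?_⟩
  rw [orderOf_eq_orderOf_iff]
  intro j
  rw [mk_pow_eq_one_iff, mk_pow_eq_one_iff]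
  constructor
  · rintro ⟨l, hl⟩
    exact ⟨l, conj_scalar hQP hQX hl⟩
  · rintro ⟨l, hl⟩
    exact ⟨l, conj_scalar hPQ (hy ▸ hconj) hl⟩

end singer

end Cfsg.Agent.H4PSLSpec
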