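import Mathlib
import Cfsg.Agent.Lib.Helper4.PSLSpecA
import Cfsg.Agent.Lib.Helper4.PSLSpecB

namespace Cfsg.Agent.H4PSLSpec

open Polynomial Matrix

section dich

variable {F : Type*} [Field F] (p : ℕ) [Fact p.Prime] [CharP F p] {n : ℕ}

theorem squarefree_minpoly (x : Matrix.SpecialLinearGroup (Fin n) F)
    (hx : (orderOf x).Coprime p) : Squarefree (minpoly F x.val) := by
  have hm : ((orderOf x : ℕ) : F) ≠ 0 := by
    rw [Ne, CharP.cast_eq_zero_iff F p]
    intro hd
    have := Nat.Coprime.eq_one_of_dvd hx.symm hd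
    exact (Fact.out : p.Prime).one_lt.ne' this
  have hsep : (X ^ orderOf x - C (1 : F)).Separable :=
    Polynomial.separable_X_pow_sub_C (1 : F) hm one_ne_zero
  have hd : minpoly F x.val ∣ X ^ orderOf x - C (1 : F) := by
    apply minpoly.dvd
    rw [map_sub, map_pow, aeval_X, aeval_C, ← Matrix.SpecialLinearGroup.coe_pow,
      pow_orderOf_eq_one]
    simp
  exact hsep.squarefree.squarefree_of_dvd hd

variable [NeZero n]

theorem good_or_irreducible (x : Matrix.SpecialLinearGroup (Fin n) F)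
    (hx : (orderOf x).Coprime p) {r : ℕ} (hr : r.Prime) (hrn : ¬ r ∣ n) {ζ : F}
    (hζ : orderOf ζ = r) :
    (∃ z : Matrix.SpecialLinearGroup (Fin n) F, (∀ y : Matrix.SpecialLinearGroup (Fin n) F,
        Commute y x → Commute y z) ∧
        orderOf (QuotientGroup.mk z : Matrix.ProjectiveSpecialLinearGroup (Fin n) F) = r) ∨
      Irreducible (minpoly F x.val) := by
  by_cases hirr : Irreducible (minpoly F x.val)
  · exact Or.inr hirr
  left
  have hint : IsIntegral F x.val := Matrix.isIntegral _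
  obtain ⟨f₁, f₂, hμ, hc, h1, h2⟩ := exists_coprime_factor (minpoly.ne_zero hint)
    (minpoly.not_isUnit F x.val) (squarefree_minpoly p x hx) hirr
  obtain ⟨π₁, π₂, hsum, h12, h21, h11, h22, hn1, hn2, hcomm⟩ :=
    exists_idempotents x.val hμ hc h1 h2
  obtain ⟨z, ⟨a, b, hz⟩, hzr, hzc⟩ :=
    exists_z_of_idempotents hsum h12 h21 h11 h22 hn1 hn2 hr hrn hζ
  refine ⟨z, ?_, ?_⟩
  · intro y hy
    have hy' : Commute y.val x.val := by
      have := congrArg Subtype.val hy.eq
      simpa [Matrix.SpecialLinearGroup.coe_mul, Commute, SemiconjBy] using this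
    obtain ⟨c1, c2⟩ := hcomm y.val hy'
    apply Subtype.ext
    rw [Matrix.SpecialLinearGroup.coe_mul, Matrix.SpecialLinearGroup.coe_mul, hz]
    exact ((c1.smul_right a).add_right (c2.smul_right b)).eq
  · haveI : Fact r.Prime := ⟨hr⟩
    apply orderOf_eq_prime
    · rw [← QuotientGroup.mk_pow, hzr]; rfl
    · intro h
      exact hzc ((QuotientGroup.eq_one_iff z).1 h)

variable [Fintype F]

theorem elem_decomp (g : Matrix.ProjectiveSpecialLinearGroup (Fin n) F)
    {r : ℕ} (hr : r.Prime) (hrn : ¬ r ∣ n) {ζ : F} (hζ : orderOf ζ = r) :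
    (∃ z : Matrix.ProjectiveSpecialLinearGroup (Fin n) F, Commute g z ∧ orderOf z = r) ∨
    (∃ (u c : Matrix.ProjectiveSpecialLinearGroup (Fin n) F) (t : ℕ), IsTor F p n c ∧
      orderOf u = p ^ t ∧ orderOf g = Nat.lcm (orderOf u) (orderOf c)) := by
  have hp : p.Prime := Fact.out
  obtain ⟨gh, rfl⟩ := QuotientGroup.mk_surjective g
  obtain ⟨e, m, hm, hN⟩ := Nat.exists_eq_pow_mul_and_not_dvd (orderOf_pos gh).ne' p hp.ne_one
  have hox : orderOf (gh ^ p ^ e) = m := by
    rw [orderOf_pow' _ (pow_ne_zero e hp.ne_zero), hN, Nat.gcd_mul_right_left,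
      Nat.mul_div_cancel_left _ (pow_pos hp.pos e)]
  have hcop : (orderOf (gh ^ p ^ e)).Coprime p := by
    rw [hox]; exact ((Nat.Prime.coprime_iff_not_dvd hp).2 hm).symm
  rcases good_or_irreducible p (gh ^ p ^ e) hcop hr hrn hζ with ⟨z, hz, hzr⟩ | hirr
  · left
    refine ⟨QuotientGroup.mk z, ?_, hzr⟩
    have : Commute gh z := hz gh ((Commute.refl gh).pow_right _)
    exact this.map (QuotientGroup.mk' _)
  · right
    obtain ⟨c, hc, hco⟩ := exists_isTor_of_irreducible p (gh ^ p ^ e) hirr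
    set g : Matrix.ProjectiveSpecialLinearGroup (Fin n) F := QuotientGroup.mk gh with hg
    have hco' : orderOf c = orderOf (g ^ p ^ e) := by rw [hco]; rfl
    set a := orderOf g with ha
    have ha0 : a ≠ 0 := (orderOf_pos g).ne'
    have hs : orderOf (g ^ p ^ e) = a / Nat.gcd a (p ^ e) :=
      orderOf_pow' _ (pow_ne_zero e hp.ne_zero)
    obtain ⟨t, -, ht⟩ := (Nat.dvd_prime_pow hp).1 (Nat.gcd_dvd_right a (p ^ e))
    have hsa : (a / Nat.gcd a (p ^ e)) ∣ a := Nat.div_dvd_of_dvd (Nat.gcd_dvd_left _ _)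
    have hgpos : 0 < Nat.gcd a (p ^ e) := Nat.gcd_pos_of_pos_left _ (Nat.pos_of_ne_zero ha0)
    have hspos : 0 < a / Nat.gcd a (p ^ e) :=
      Nat.div_pos (Nat.le_of_dvd (Nat.pos_of_ne_zero ha0) (Nat.gcd_dvd_left _ _)) hgpos
    have hou : orderOf (g ^ (a / Nat.gcd a (p ^ e))) = p ^ t := by
      rw [orderOf_pow' _ hspos.ne', ← ha, Nat.gcd_eq_right hsa, Nat.div_div_self
        (Nat.gcd_dvd_left _ _) ha0, ht]
    refine ⟨g ^ (a / Nat.gcd a (p ^ e)), c, t, hc, hou, ?_⟩
    rw [hou, hco', hs]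
    have hsm : (a / Nat.gcd a (p ^ e)) ∣ m := by
      rw [← hs, ← hox]
      have : g ^ p ^ e = (QuotientGroup.mk' _) (gh ^ p ^ e) := rfl
      rw [this]
      exact orderOf_map_dvd _ _
    have hcop2 : Nat.Coprime (p ^ t) (a / Nat.gcd a (p ^ e)) := by
      apply Nat.Coprime.pow_left
      exact (Nat.Prime.coprime_iff_not_dvd hp).2 (fun h => hm (h.trans hsm))
    rw [hcop2.lcm_eq_mul, ← ht, Nat.mul_div_cancel' (Nat.gcd_dvd_left _ _)]

end dich

end Cfsg.Agent.H4PSLSpec
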