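import Mathlib
import Cfsg.Agent.Lib.Helper4.PSLSpecA
import Cfsg.Agent.Lib.Helper4.PSLSpecB

namespace Cfsg.Agent.H4PSLSpec

open Polynomial Matrix

section nilp

variable {F : Type*} [Field F] {n : ℕ}

theorem pow_card_eq_zero_of_isNilpotent {M : Matrix (Fin n) (Fin n) F} (h : IsNilpotent M) :
    M ^ n = 0 := by
  have h1 := Matrix.isNilpotent_charpoly_sub_pow_of_isNilpotent h
  have h2 : M.charpoly = X ^ n := by
    have := h1.eq_zero
    rw [Fintype.card_fin] at this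
    exact sub_eq_zero.1 this
  have h3 := Matrix.aeval_self_charpoly M
  rw [h2, map_pow, aeval_X] at h3
  exact h3

variable [Finite F] (p : ℕ) [Fact p.Prime] [CharP F p] [NeZero n]

theorem pow_eq_one_of_p_order (u : Matrix.ProjectiveSpecialLinearGroup (Fin n) F) {t T : ℕ}
    (hu : orderOf u = p ^ t) (hT : n ≤ p ^ T) : u ^ (p ^ T) = 1 := by
  obtain ⟨x, rfl⟩ := QuotientGroup.mk_surjective u
  have h1 : (QuotientGroup.mk x : Matrix.ProjectiveSpecialLinearGroup (Fin n) F) ^ (p ^ t) = 1 := by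
    rw [← hu]; exact pow_orderOf_eq_one _
  obtain ⟨l, hl⟩ := (mk_pow_eq_one_iff x _).1 h1
  obtain ⟨ν, hν⟩ : ∃ ν : F, ν ^ p ^ t = l := by
    obtain ⟨ν, hν⟩ := (surjective_frobenius F p).iterate t l
    exact ⟨ν, by rw [← hν, iterate_frobenius]⟩
  have hcomm : Commute x.val (Matrix.scalar (Fin n) ν) :=
    (Matrix.scalar_commute ν (fun _ => Commute.all _ _) x.val).symm
  have hnil : (x.val - Matrix.scalar (Fin n) ν) ^ p ^ t = 0 := by
    rw [sub_pow_char_pow_of_commute _ _ hcomm, hl, ← map_pow, hν, sub_self]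
  have hn0 : (x.val - Matrix.scalar (Fin n) ν) ^ n = 0 :=
    pow_card_eq_zero_of_isNilpotent ⟨_, hnil⟩
  have hP : (x.val - Matrix.scalar (Fin n) ν) ^ p ^ T = 0 := by
    obtain ⟨k, hk⟩ := Nat.exists_eq_add_of_le hT
    rw [hk, pow_add, hn0, zero_mul]
  rw [mk_pow_eq_one_iff]
  refine ⟨ν ^ p ^ T, ?_⟩
  rw [sub_pow_char_pow_of_commute _ _ hcomm, sub_eq_zero] at hP
  rw [hP, map_pow]

theorem p_order_dvd (u : Matrix.ProjectiveSpecialLinearGroup (Fin n) F) {t T : ℕ}
    (hu : orderOf u = p ^ t) (hT : n ≤ p ^ T) : p ^ t ∣ p ^ T := by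
  rw [← hu]
  exact orderOf_dvd_of_pow_eq_one (pow_eq_one_of_p_order p u hu hT)

end nilp

end Cfsg.Agent.H4PSLSpec

namespace Cfsg.Agent.H4PSLSpec

open Polynomial Matrix

section shift

variable (F : Type*) [Field F] (n : ℕ)

/-- the `m`-th power of the shift on the first `n-1` coordinates -/
def Nm (m : ℕ) : Matrix (Fin n) (Fin n) F :=
  Matrix.of fun i j => if (j : ℕ) = i + m ∧ (j : ℕ) + 1 < n then 1 else 0

variable {F n}

theorem Nm_apply (m : ℕ) (i j : Fin n) :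
    Nm F n m i j = if (j : ℕ) = i + m ∧ (j : ℕ) + 1 < n then 1 else 0 := rfl

theorem Nm_mul (m : ℕ) : Nm F n m * Nm F n 1 = Nm F n (m + 1) := by
  ext i j
  rw [Matrix.mul_apply, Nm_apply]
  by_cases hC : (j : ℕ) = i + (m + 1) ∧ (j : ℕ) + 1 < n
  · rw [if_pos hC]
    have hk : (i : ℕ) + m < n := by omega
    rw [Finset.sum_eq_single (⟨i + m, hk⟩ : Fin n)]
    · rw [Nm_apply, Nm_apply, if_pos, if_pos, mul_one]
      · obtain ⟨h1, h2⟩ := hC
        refine ⟨?_, h2⟩
        show (j : ℕ) = (i + m) + 1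
        omega
      · obtain ⟨h1, h2⟩ := hC
        refine ⟨rfl, ?_⟩
        show (i : ℕ) + m + 1 < n
        omega
    · intro k _ hk'
      rw [Nm_apply]
      have : ¬ ((k : ℕ) = i + m ∧ (k : ℕ) + 1 < n) := by
        rintro ⟨h1, -⟩
        exact hk' (Fin.ext h1)
      rw [if_neg this, zero_mul]
    · intro h; exact absurd (Finset.mem_univ _) h
  · rw [if_neg hC]
    apply Finset.sum_eq_zero
    intro k _
    rw [Nm_apply, Nm_apply]
    by_cases h1 : (k : ℕ) = i + m ∧ (k : ℕ) + 1 < n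
    · rw [if_pos h1, if_neg, mul_zero]
      rintro ⟨h2, h3⟩
      exact hC ⟨by omega, h3⟩
    · rw [if_neg h1, zero_mul]

theorem Nm_pow (m : ℕ) (hm : 1 ≤ m) : (Nm F n 1) ^ m = Nm F n m := by
  induction m with
  | zero => omega
  | succ m ih =>
    rcases Nat.eq_zero_or_pos m with rfl | h
    · simp
    · rw [pow_succ, ih h, Nm_mul]

theorem Nm_eq_zero {m : ℕ} (hm : n ≤ m + 1) : Nm F n m = 0 := by
  ext i j
  rw [Nm_apply, if_neg]
  · rfl
  · rintro ⟨h1, h2⟩; omega

end shift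

end Cfsg.Agent.H4PSLSpec

namespace Cfsg.Agent.H4PSLSpec

open Polynomial Matrix

section unip

variable {F : Type*} [Field F] {n : ℕ}

theorem one_add_Nm_det : (1 + Nm F n 1).det = 1 := by
  have hut : (1 + Nm F n 1).IsUpperTriangular := by
    intro i j hij
    have hij' : (j : ℕ) < i := hij
    rw [Matrix.add_apply, Nm_apply, Matrix.one_apply_ne (by intro h; rw [h] at hij'; omega),
      if_neg (by rintro ⟨h1, -⟩; omega), add_zero]
  rw [Matrix.det_of_isUpperTriangular hut]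
  apply Finset.prod_eq_one
  intro i _
  rw [Matrix.add_apply, Matrix.one_apply_eq, Nm_apply, if_neg (by rintro ⟨h1, -⟩; omega), add_zero]

/-- the last index -/
def lastIdx (hn : 0 < n) : Fin n := ⟨n - 1, by omega⟩

theorem lastIdx_val (hn : 0 < n) : ((lastIdx hn : Fin n) : ℕ) = n - 1 := rfl

theorem Nm_mul_single_last (hn : 0 < n) :
    Nm F n 1 * Matrix.single (lastIdx hn) (lastIdx hn) (1 : F) = 0 := by
  ext i j
  rw [Matrix.mul_apply]
  apply Finset.sum_eq_zero
  intro k _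
  rw [Nm_apply, Matrix.single_apply]
  by_cases h : lastIdx hn = k ∧ lastIdx hn = j
  · rw [if_pos h, if_neg, zero_mul]
    rintro ⟨h1, h2⟩
    have := congrArg Fin.val h.1
    rw [lastIdx_val] at this
    omega
  · rw [if_neg h, mul_zero]

theorem single_last_mul_Nm (hn : 0 < n) :
    Matrix.single (lastIdx hn) (lastIdx hn) (1 : F) * Nm F n 1 = 0 := by
  ext i j
  rw [Matrix.mul_apply]
  apply Finset.sum_eq_zero
  intro k _
  rw [Nm_apply, Matrix.single_apply]
  by_cases h : lastIdx hn = i ∧ lastIdx hn = k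
  · rw [if_pos h, if_neg, mul_zero]
    rintro ⟨h1, h2⟩
    have := congrArg Fin.val h.2
    rw [lastIdx_val] at this
    omega
  · rw [if_neg h, zero_mul]

end unip

end Cfsg.Agent.H4PSLSpec

namespace Cfsg.Agent.H4PSLSpec

open Polynomial Matrix

section unip2

variable {F : Type*} [Field F] {n : ℕ}

theorem exists_last_idempotents (hn : 2 ≤ n) :
    ∃ π₁ π₂ : Matrix (Fin n) (Fin n) F, π₁ + π₂ = 1 ∧ π₁ * π₂ = 0 ∧ π₂ * π₁ = 0 ∧
      π₁ * π₁ = π₁ ∧ π₂ * π₂ = π₂ ∧ π₁ ≠ 0 ∧ π₂ ≠ 0 ∧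
      Commute (1 + Nm F n 1) π₁ ∧ Commute (1 + Nm F n 1) π₂ := by
  have hn0 : 0 < n := by omega
  set π₂ : Matrix (Fin n) (Fin n) F := Matrix.single (lastIdx hn0) (lastIdx hn0) (1 : F) with hπ₂
  have h22 : π₂ * π₂ = π₂ := by
    rw [hπ₂, Matrix.single_mul_single_same, mul_one]
  have hc2 : Commute (1 + Nm F n 1) π₂ := by
    show (1 + Nm F n 1) * π₂ = π₂ * (1 + Nm F n 1)
    rw [add_mul, mul_add, one_mul, mul_one, hπ₂, Nm_mul_single_last, single_last_mul_Nm]
  refine ⟨1 - π₂, π₂, sub_add_cancel _ _, ?_, ?_, ?_, h22, ?_, ?_, ?_, hc2⟩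
  · rw [sub_mul, one_mul, h22, sub_self]
  · rw [mul_sub, mul_one, h22, sub_self]
  · rw [sub_mul, mul_sub, mul_sub, one_mul, mul_one, one_mul, h22, sub_self, sub_zero]
  · intro h
    have := congrFun (congrFun h (⟨0, hn0⟩ : Fin n)) ⟨0, hn0⟩
    rw [Matrix.sub_apply, Matrix.one_apply_eq, hπ₂, Matrix.single_apply, if_neg] at this
    · simp at this
    · rintro ⟨h1, -⟩
      have := congrArg Fin.val h1
      rw [lastIdx_val] at this
      simp only [] at this
      omega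
  · intro h
    have := congrFun (congrFun h (lastIdx hn0)) (lastIdx hn0)
    rw [hπ₂, Matrix.single_apply, if_pos ⟨rfl, rfl⟩] at this
    simp at this
  · exact (Commute.one_right _).sub_right hc2

variable [Finite F] (p : ℕ) [Fact p.Prime] [CharP F p] [NeZero n]

theorem one_add_Nm_pow (k : ℕ) :
    (1 + Nm F n 1) ^ p ^ k = 1 + Nm F n (p ^ k) := by
  rw [add_pow_char_pow_of_commute p k (Commute.one_left _), one_pow,
    Nm_pow _ (Nat.one_le_pow _ _ (Fact.out : p.Prime).pos)]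

theorem exists_unip_good (hn : 2 ≤ n) {r : ℕ} (hr : r.Prime) (hrn : ¬ r ∣ n) {ζ : F}
    (hζ : orderOf ζ = r) :
    ∃ (h z : Matrix.ProjectiveSpecialLinearGroup (Fin n) F) (T : ℕ),
      Commute h z ∧ orderOf z = r ∧ orderOf h = p ^ T ∧ n - 1 ≤ p ^ T := by
  have hp : p.Prime := Fact.out
  haveI : Fact r.Prime := ⟨hr⟩
  obtain ⟨π₁, π₂, hsum, h12, h21, h11, h22, hn1, hn2, hc1, hc2⟩ :=
    exists_last_idempotents (F := F) hn
  obtain ⟨z, ⟨a, b, hz⟩, hzr, hzc⟩ :=
    exists_z_of_idempotents hsum h12 h21 h11 h22 hn1 hn2 hr hrn hζ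
  let h0 : Matrix.SpecialLinearGroup (Fin n) F := ⟨1 + Nm F n 1, one_add_Nm_det⟩
  have hh0 : h0.val = 1 + Nm F n 1 := rfl
  have hcomm : Commute h0 z := by
    apply Subtype.ext
    rw [Matrix.SpecialLinearGroup.coe_mul, Matrix.SpecialLinearGroup.coe_mul, hz, hh0]
    exact ((hc1.smul_right a).add_right (hc2.smul_right b)).eq
  have hpow : (QuotientGroup.mk h0 : Matrix.ProjectiveSpecialLinearGroup (Fin n) F) ^ p ^ n
      = 1 := by
    rw [mk_pow_eq_one_iff]
    refine ⟨1, ?_⟩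
    rw [hh0, one_add_Nm_pow, Nm_eq_zero (by
      have := Nat.lt_pow_self hp.one_lt (n := n); omega), add_zero, map_one]
  obtain ⟨T, -, hT⟩ := (Nat.dvd_prime_pow hp).1 (orderOf_dvd_of_pow_eq_one hpow)
  refine ⟨QuotientGroup.mk h0, QuotientGroup.mk z, T, hcomm.map (QuotientGroup.mk' _), ?_, hT, ?_⟩
  · apply orderOf_eq_prime
    · rw [← QuotientGroup.mk_pow, hzr]; rfl
    · intro h
      exact hzc ((QuotientGroup.eq_one_iff z).1 h)
  · by_contra hlt
    have hlt' : p ^ T + 1 < n := by omega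
    have h1 : (QuotientGroup.mk h0 : Matrix.ProjectiveSpecialLinearGroup (Fin n) F) ^ p ^ T
        = 1 := by rw [← hT]; exact pow_orderOf_eq_one _
    obtain ⟨l, hl⟩ := (mk_pow_eq_one_iff _ _).1 h1
    rw [hh0, one_add_Nm_pow] at hl
    have hpos : 0 < p ^ T := pow_pos hp.pos T
    have := congrFun (congrFun hl (⟨0, by omega⟩ : Fin n)) (⟨p ^ T, by omega⟩ : Fin n)
    rw [Matrix.add_apply, Nm_apply, if_pos ⟨by simp, by simpa using hlt'⟩,
      Matrix.one_apply_ne (by intro h; have := congrArg Fin.val h; simp at this; omega),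
      Matrix.scalar_apply, Matrix.diagonal_apply_ne _ (by
        intro h; have := congrArg Fin.val h; simp at this; omega)] at this
    simp at this

end unip2

end Cfsg.Agent.H4PSLSpec
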