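import Mathlib
import Cfsg.Agent.Lib.Helper4.PSLSpecC
import Cfsg.Agent.Lib.Helper4.PSLSpecD

namespace Cfsg.Agent.H4PSLSpec

open Polynomial Matrix

section assemble

variable {F : Type*} [Field F] [Fintype F] {n : ℕ} [NeZero n]

local notation "PSLn" => Matrix.ProjectiveSpecialLinearGroup (Fin n) F

theorem lcm_pow_pow (p a b : ℕ) : Nat.lcm (p ^ a) (p ^ b) = p ^ max a b := by
  rcases le_total a b with h | h
  · rw [max_eq_right h]; exact Nat.lcm_eq_right (pow_dvd_pow p h)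
  · rw [max_eq_left h]; exact Nat.lcm_eq_left (pow_dvd_pow p h)

/-- absorbing `r` into a good element -/
theorem good_absorb {g z : PSLn} {r : ℕ} (hr : r.Prime) (hc : Commute g z) (hz : orderOf z = r)
    (hrg : ¬ r ∣ orderOf g) : orderOf (g * z) = Nat.lcm (orderOf g) r := by
  have hcop : Nat.Coprime (orderOf g) (orderOf z) := by
    rw [hz]; exact ((Nat.Prime.coprime_iff_not_dvd hr).2 hrg).symm
  rw [hc.orderOf_mul_eq_mul_orderOf_of_coprime hcop, hz]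
  rw [hz] at hcop
  exact hcop.lcm_eq_mul.symm

theorem core3 (p : ℕ) [Fact p.Prime] [CharP F p] (hn : 2 ≤ n) {r : ℕ} (hr : r.Prime) (hrn : ¬ r ∣ n) {ζ : F} (hζ : orderOf ζ = r)
    (g₁ g₂ g₃ : PSLn) :
    ∃ h₁ h₂ h₃ : PSLn, Nat.lcm (orderOf h₁) (Nat.lcm (orderOf h₂) (orderOf h₃)) =
      Nat.lcm (Nat.lcm (orderOf g₁) (Nat.lcm (orderOf g₂) (orderOf g₃))) r := by
  by_cases hdvd : r ∣ Nat.lcm (orderOf g₁) (Nat.lcm (orderOf g₂) (orderOf g₃))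
  · exact ⟨g₁, g₂, g₃, (Nat.lcm_eq_left hdvd).symm⟩
  have hr1 : ¬ r ∣ orderOf g₁ := fun h => hdvd (h.trans (Nat.dvd_lcm_left _ _))
  have hr2 : ¬ r ∣ orderOf g₂ := fun h =>
    hdvd (h.trans ((Nat.dvd_lcm_left _ _).trans (Nat.dvd_lcm_right _ _)))
  have hr3 : ¬ r ∣ orderOf g₃ := fun h =>
    hdvd (h.trans ((Nat.dvd_lcm_right _ _).trans (Nat.dvd_lcm_right _ _)))
  rcases elem_decomp p g₁ hr hrn hζ with ⟨z, hc, hz⟩ | ⟨u₁, c₁, t₁, hT₁, hu₁, ho₁⟩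
  · refine ⟨g₁ * z, g₂, g₃, ?_⟩
    rw [good_absorb hr hc hz hr1]; ac_rfl
  rcases elem_decomp p g₂ hr hrn hζ with ⟨z, hc, hz⟩ | ⟨u₂, c₂, t₂, hT₂, hu₂, ho₂⟩
  · refine ⟨g₁, g₂ * z, g₃, ?_⟩
    rw [good_absorb hr hc hz hr2]; ac_rfl
  rcases elem_decomp p g₃ hr hrn hζ with ⟨z, hc, hz⟩ | ⟨u₃, c₃, t₃, hT₃, hu₃, ho₃⟩
  · refine ⟨g₁, g₂, g₃ * z, ?_⟩
    rw [good_absorb hr hc hz hr3]; ac_rfl
  obtain ⟨c₂₃, hT₂₃, hc₂₃⟩ := hT₂.exists_lcm hT₃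
  obtain ⟨c, hT, hc⟩ := hT₁.exists_lcm hT₂₃
  obtain ⟨_, ρ, _, -, hρ, -, -⟩ := exists_unip_good (F := F) p hn hr hrn hζ
  have hu : ∃ u : PSLn, orderOf u =
      Nat.lcm (orderOf u₁) (Nat.lcm (orderOf u₂) (orderOf u₃)) := by
    rw [hu₁, hu₂, hu₃, lcm_pow_pow, lcm_pow_pow]
    rcases max_choice t₁ (max t₂ t₃) with h | h
    · exact ⟨u₁, by rw [h, hu₁]⟩
    · rcases max_choice t₂ t₃ with h' | h'
      · exact ⟨u₂, by rw [h, h', hu₂]⟩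
      · exact ⟨u₃, by rw [h, h', hu₃]⟩
  obtain ⟨u, hu⟩ := hu
  refine ⟨u, c, ρ, ?_⟩
  rw [hu, hc, hc₂₃, hρ, ho₁, ho₂, ho₃]
  ac_rfl

theorem core2 (p : ℕ) [Fact p.Prime] [CharP F p] (hn : 2 ≤ n) {r : ℕ} (hr : r.Prime)
    (hrn : ¬ r ∣ n) (hrp : r ≠ p) {ζ : F} (hζ : orderOf ζ = r)
    (hnp : ¬ ∃ j : ℕ, n - 1 = p ^ j) (g₁ g₂ : PSLn) :
    ∃ h₁ h₂ : PSLn, Nat.lcm (orderOf h₁) (orderOf h₂) =
      Nat.lcm (Nat.lcm (orderOf g₁) (orderOf g₂)) r := by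
  have hp : p.Prime := Fact.out
  by_cases hdvd : r ∣ Nat.lcm (orderOf g₁) (orderOf g₂)
  · exact ⟨g₁, g₂, (Nat.lcm_eq_left hdvd).symm⟩
  have hr1 : ¬ r ∣ orderOf g₁ := fun h => hdvd (h.trans (Nat.dvd_lcm_left _ _))
  have hr2 : ¬ r ∣ orderOf g₂ := fun h => hdvd (h.trans (Nat.dvd_lcm_right _ _))
  rcases elem_decomp p g₁ hr hrn hζ with ⟨z, hc, hz⟩ | ⟨u₁, c₁, t₁, hT₁, hu₁, ho₁⟩
  · refine ⟨g₁ * z, g₂, ?_⟩
    rw [good_absorb hr hc hz hr1]; ac_rfl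
  rcases elem_decomp p g₂ hr hrn hζ with ⟨z, hc, hz⟩ | ⟨u₂, c₂, t₂, hT₂, hu₂, ho₂⟩
  · refine ⟨g₁, g₂ * z, ?_⟩
    rw [good_absorb hr hc hz hr2]; ac_rfl
  obtain ⟨c, hT, hc⟩ := hT₁.exists_lcm hT₂
  obtain ⟨h0, ρ, T, hcomm, hρ, hh0, hTn⟩ := exists_unip_good (F := F) p hn hr hrn hζ
  have hTn' : n ≤ p ^ T := by
    rcases Nat.lt_or_ge (p ^ T) n with h | h
    · exfalso; exact hnp ⟨T, by omega⟩
    · exact h
  -- the larger of the two unipotent orders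
  have hu : ∃ (u : PSLn) (t : ℕ), orderOf u = p ^ t ∧
      p ^ t = Nat.lcm (orderOf u₁) (orderOf u₂) := by
    rw [hu₁, hu₂, lcm_pow_pow]
    rcases max_choice t₁ t₂ with h | h
    · exact ⟨u₁, t₁, hu₁, by rw [h]⟩
    · exact ⟨u₂, t₂, hu₂, by rw [h]⟩
  obtain ⟨u, t, hut, hu⟩ := hu
  have htT : t ≤ T := by
    have := p_order_dvd p u hut hTn'
    exact (Nat.pow_dvd_pow_iff_le_right hp.one_lt).1 this
  have ho' : orderOf (h0 ^ p ^ (T - t)) = p ^ t := by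
    rw [orderOf_pow' _ (pow_ne_zero _ hp.ne_zero), hh0,
      Nat.gcd_eq_right (pow_dvd_pow p (Nat.sub_le T t)),
      Nat.pow_div (Nat.sub_le T t) hp.pos, Nat.sub_sub_self htT]
  have hcomm' : Commute (h0 ^ p ^ (T - t)) ρ := hcomm.pow_left _
  have hrn' : ¬ r ∣ orderOf (h0 ^ p ^ (T - t)) := by
    rw [ho']
    intro h
    exact hrp ((Nat.prime_dvd_prime_iff_eq hr hp).1 (hr.dvd_of_dvd_pow h))
  refine ⟨h0 ^ p ^ (T - t) * ρ, c, ?_⟩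
  rw [good_absorb hr hcomm' hρ hrn', ho', hu, hc, ho₁, ho₂]
  ac_rfl

end assemble

end Cfsg.Agent.H4PSLSpec
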