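import Mathlib

namespace Cfsg.Agent.H4PSpSpec

open Polynomial Matrix

section adj

variable {F : Type*} [Field F] {l : Type*} [Fintype l] [DecidableEq l]

/-- the symplectic adjoint `-J Aᵀ J` -/
def adj (A : Matrix (l ⊕ l) (l ⊕ l) F) : Matrix (l ⊕ l) (l ⊕ l) F :=
  -(Matrix.J l F) * Aᵀ * Matrix.J l F

theorem J_mul_neg_J : Matrix.J l F * -(Matrix.J l F) = 1 := by
  rw [Matrix.mul_neg, Matrix.J_squared, neg_neg]

theorem neg_J_mul_J : -(Matrix.J l F) * Matrix.J l F = 1 := by
  rw [Matrix.neg_mul, Matrix.J_squared, neg_neg]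

theorem adj_mul (A B : Matrix (l ⊕ l) (l ⊕ l) F) : adj (A * B) = adj B * adj A := by
  unfold adj
  rw [Matrix.transpose_mul]
  have h : Matrix.J l F * (-(Matrix.J l F)) = 1 := J_mul_neg_J
  calc -(Matrix.J l F) * (Bᵀ * Aᵀ) * Matrix.J l F
      = -(Matrix.J l F) * Bᵀ * 1 * Aᵀ * Matrix.J l F := by
        simp only [Matrix.mul_one, Matrix.mul_assoc]
    _ = -(Matrix.J l F) * Bᵀ * (Matrix.J l F * (-(Matrix.J l F))) * Aᵀ * Matrix.J l F := by rw [h]
    _ = _ := by simp only [Matrix.mul_assoc]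

theorem adj_one : adj (1 : Matrix (l ⊕ l) (l ⊕ l) F) = 1 := by
  unfold adj
  rw [Matrix.transpose_one, Matrix.mul_one, neg_J_mul_J]

theorem adj_zero : adj (0 : Matrix (l ⊕ l) (l ⊕ l) F) = 0 := by
  unfold adj
  simp

theorem adj_add (A B : Matrix (l ⊕ l) (l ⊕ l) F) : adj (A + B) = adj A + adj B := by
  unfold adj
  rw [Matrix.transpose_add, Matrix.mul_add, Matrix.add_mul]

theorem adj_neg (A : Matrix (l ⊕ l) (l ⊕ l) F) : adj (-A) = -adj A := by
  unfold adj
  rw [Matrix.transpose_neg, Matrix.mul_neg, Matrix.neg_mul]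

theorem adj_sub (A B : Matrix (l ⊕ l) (l ⊕ l) F) : adj (A - B) = adj A - adj B := by
  rw [sub_eq_add_neg, adj_add, adj_neg, sub_eq_add_neg]

theorem adj_smul (c : F) (A : Matrix (l ⊕ l) (l ⊕ l) F) : adj (c • A) = c • adj A := by
  unfold adj
  rw [Matrix.transpose_smul, Matrix.mul_smul, Matrix.smul_mul]

theorem adj_adj (A : Matrix (l ⊕ l) (l ⊕ l) F) : adj (adj A) = A := by
  unfold adj
  rw [Matrix.transpose_mul, Matrix.transpose_mul, Matrix.transpose_transpose,
    Matrix.transpose_neg, Matrix.J_transpose, neg_neg]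
  have h1 : -(Matrix.J l F) * (-(Matrix.J l F)) = -1 := by
    rw [Matrix.neg_mul, Matrix.mul_neg, neg_neg, Matrix.J_squared]
  calc -(Matrix.J l F) * (-(Matrix.J l F) * (A * Matrix.J l F)) * Matrix.J l F
      = (-(Matrix.J l F) * (-(Matrix.J l F))) * A * (Matrix.J l F * Matrix.J l F) := by
        simp only [Matrix.mul_assoc]
    _ = A := by rw [h1, Matrix.J_squared]; simp

theorem adj_pow (A : Matrix (l ⊕ l) (l ⊕ l) F) (k : ℕ) : adj (A ^ k) = adj A ^ k := by
  induction k with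
  | zero => rw [pow_zero, pow_zero, adj_one]
  | succ k ih => rw [pow_succ, adj_mul, ih, pow_succ']

theorem adj_algebraMap (c : F) :
    adj (algebraMap F (Matrix (l ⊕ l) (l ⊕ l) F) c) = algebraMap F _ c := by
  rw [Algebra.algebraMap_eq_smul_one, adj_smul, adj_one]

theorem adj_aeval (A : Matrix (l ⊕ l) (l ⊕ l) F) (P : F[X]) :
    adj (aeval A P) = aeval (adj A) P := by
  induction P using Polynomial.induction_on with
  | C a => rw [aeval_C, aeval_C, adj_algebraMap]
  | add p q hp hq => rw [map_add, map_add, adj_add, hp, hq]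
  | monomial k a _ =>
    rw [map_mul, map_mul, aeval_C, aeval_C, map_pow, map_pow, aeval_X, aeval_X, adj_mul, adj_pow,
      adj_algebraMap]
    exact (Algebra.commutes a _).symm

theorem adj_injective : Function.Injective (adj : Matrix (l ⊕ l) (l ⊕ l) F → _) := by
  intro A B h
  rw [← adj_adj A, h, adj_adj]

theorem adj_eq_zero {A : Matrix (l ⊕ l) (l ⊕ l) F} : adj A = 0 ↔ A = 0 := by
  constructor
  · intro h
    apply adj_injective
    rw [h, adj_zero]
  · rintro rfl; exact adj_zero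

theorem mem_symplectic_iff {A : Matrix (l ⊕ l) (l ⊕ l) F} :
    A ∈ Matrix.symplecticGroup l F ↔ A * adj A = 1 := by
  rw [SymplecticGroup.mem_iff]
  unfold adj
  constructor
  · intro h
    calc A * (-(Matrix.J l F) * Aᵀ * Matrix.J l F)
        = -(A * Matrix.J l F * Aᵀ) * Matrix.J l F := by
          simp only [Matrix.mul_assoc, Matrix.neg_mul, Matrix.mul_neg]
      _ = 1 := by rw [h, neg_J_mul_J]
  · intro h
    have h1 : A * (-(Matrix.J l F) * Aᵀ * Matrix.J l F) = -(A * Matrix.J l F * Aᵀ) * Matrix.J l F := by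
      simp only [Matrix.mul_assoc, Matrix.neg_mul, Matrix.mul_neg]
    rw [h1] at h
    have h2 := congrArg (· * (-(Matrix.J l F))) h
    simp only [Matrix.mul_assoc, J_mul_neg_J, Matrix.mul_one, Matrix.one_mul] at h2
    rw [Matrix.mul_assoc]
    exact neg_injective h2

theorem coe_inv_eq_adj (A : Matrix.symplecticGroup l F) :
    ((A⁻¹ : Matrix.symplecticGroup l F) : Matrix (l ⊕ l) (l ⊕ l) F) = adj (A : Matrix _ _ F) :=
  SymplecticGroup.coe_inv A

theorem rank_adj (A : Matrix (l ⊕ l) (l ⊕ l) F) : (adj A).rank = A.rank := by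
  unfold adj
  have hJ : IsUnit (Matrix.J l F).det := Matrix.isUnit_det_J l F
  have hJ' : IsUnit (-(Matrix.J l F)).det := by
    rw [Matrix.det_neg]
    exact (IsUnit.pow _ isUnit_one.neg).mul hJ
  rw [Matrix.rank_mul_eq_left_of_isUnit_det _ _ hJ, Matrix.rank_mul_eq_right_of_isUnit_det _ _ hJ',
    Matrix.rank_transpose]

end adj

end Cfsg.Agent.H4PSpSpec
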