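import Mathlib

namespace Cfsg.Agent.H4PSpSpec

open Polynomial Matrix

section fieldact

variable {F : Type*} [Field F] {ι : Type*} [Fintype ι] [DecidableEq ι]

theorem commute_aeval' {R : Type*} [Ring R] [Algebra F R] {A B : R} (h : Commute B A) (P : F[X]) :
    Commute B (aeval A P) := by
  induction P using Polynomial.induction_on with
  | C a => rw [aeval_C]; exact (show Commute B (algebraMap F R a) from (Algebra.commutes a B).symm)
  | add p q hp hq => rw [map_add]; exact hp.add_right hq
  | monomial k a _ =>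
    rw [map_mul, aeval_C, map_pow, aeval_X]
    exact (show Commute B (algebraMap F R a) from (Algebra.commutes a B).symm).mul_right (h.pow_right _)

/-- the algebra map from `AdjoinRoot (minpoly A)` into the matrix ring -/
noncomputable def rhoMat (A : Matrix ι ι F) :
    AdjoinRoot (minpoly F A) →ₐ[F] Matrix ι ι F :=
  Ideal.Quotient.liftₐ (Ideal.span {minpoly F A}) (Polynomial.aeval A) (by
    intro a ha
    obtain ⟨c, rfl⟩ := Ideal.mem_span_singleton.1 ha
    rw [map_mul, minpoly.aeval, zero_mul])

theorem rhoMat_mk (A : Matrix ι ι F) (P : F[X]) :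
    rhoMat A (AdjoinRoot.mk (minpoly F A) P) = aeval A P := by
  show (Ideal.Quotient.liftₐ (Ideal.span {minpoly F A}) (Polynomial.aeval A) _)
    (Ideal.Quotient.mk _ P) = aeval A P
  rw [Ideal.Quotient.liftₐ_apply]
  erw [Ideal.Quotient.lift_mk]

theorem rhoMat_root (A : Matrix ι ι F) :
    rhoMat A (AdjoinRoot.root (minpoly F A)) = A := by
  have : AdjoinRoot.root (minpoly F A) = AdjoinRoot.mk (minpoly F A) X := rfl
  rw [this, rhoMat_mk, aeval_X]

theorem rhoMat_commute (A B : Matrix ι ι F) (h : Commute B A) (k : AdjoinRoot (minpoly F A)) :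
    Commute B (rhoMat A k) := by
  obtain ⟨P, rfl⟩ := AdjoinRoot.mk_surjective k
  rw [rhoMat_mk]
  exact commute_aeval' h P

theorem rhoMat_injective [Nonempty ι] (A : Matrix ι ι F) (hirr : Irreducible (minpoly F A)) :
    Function.Injective (rhoMat A) := by
  haveI : Fact (Irreducible (minpoly F A)) := ⟨hirr⟩
  exact (rhoMat A).toRingHom.injective

/-- L1: nilpotent commuting with a matrix with irreducible minimal polynomial -/
theorem nilp_pow_mul_idem (A N e : Matrix ι ι F) (hirr : Irreducible (minpoly F A))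
    (hN : IsNilpotent N) (hAN : Commute N A) (hAe : Commute e A) (hNe : Commute N e) :
    (minpoly F A).natDegree ∣ e.rank ∧ N ^ (e.rank / (minpoly F A).natDegree) * e = 0 := by
  haveI : Fact (Irreducible (minpoly F A)) := ⟨hirr⟩
  let K := AdjoinRoot (minpoly F A)
  let V := ι → F
  let ρ : K →+* Module.End F V :=
    ((Matrix.toLinAlgEquiv' : Matrix ι ι F ≃ₐ[F] _).toAlgHom.toRingHom).comp
      (rhoMat A).toRingHom
  letI : Module K V := Module.compHom V ρ
  have hsmul : ∀ (k : K) (v : V), k • v = (rhoMat A k).mulVec v := fun k v => rfl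
  haveI : IsScalarTower F K V := ⟨fun c k v => by
    rw [hsmul, hsmul, map_smul, Matrix.smul_mulVec]⟩
  haveI : Module.Finite F K := (AdjoinRoot.powerBasis hirr.ne_zero).finite
  haveI : Module.Finite K V := Module.Finite.right F K V
  have hdeg : Module.finrank F K = (minpoly F A).natDegree := by
    rw [(AdjoinRoot.powerBasis hirr.ne_zero).finrank, AdjoinRoot.powerBasis_dim]
  -- K-linear versions
  let mkK : ∀ B : Matrix ι ι F, Commute B A → V →ₗ[K] V := fun B hB =>
    { toFun := fun v => B.mulVec v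
      map_add' := fun v w => Matrix.mulVec_add _ _ _
      map_smul' := fun k v => by
        simp only [RingHom.id_apply]
        rw [hsmul, hsmul, Matrix.mulVec_mulVec, Matrix.mulVec_mulVec, (rhoMat_commute A B hB k).eq] }
  let NK := mkK N hAN
  let eK := mkK e hAe
  have hNK : ∀ v, NK v = N.mulVec v := fun v => rfl
  have heK : ∀ v, eK v = e.mulVec v := fun v => rfl
  let W : Submodule K V := LinearMap.range eK
  have hWF : Module.finrank F W = e.rank := by
    have h1 : (W.restrictScalars F) = LinearMap.range e.mulVecLin := by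
      ext v
      simp only [Submodule.restrictScalars_mem, LinearMap.mem_range, W]
      constructor
      · rintro ⟨w, rfl⟩; exact ⟨w, rfl⟩
      · rintro ⟨w, rfl⟩; exact ⟨w, rfl⟩
    show Module.finrank F (W.restrictScalars F) = _
    rw [h1]; rfl
  have hmul : Module.finrank F K * Module.finrank K W = e.rank := by
    rw [Module.finrank_mul_finrank F K W, hWF]
  have hKpos : 0 < (minpoly F A).natDegree := by
    rw [← hdeg]; exact Module.finrank_pos
  have hm : e.rank / (minpoly F A).natDegree = Module.finrank K W := by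
    rw [← hmul, hdeg, Nat.mul_div_cancel_left _ hKpos]
  refine ⟨⟨Module.finrank K W, by rw [← hmul, hdeg]⟩, ?_⟩
  rw [hm]
  have hWinv : ∀ w ∈ W, NK w ∈ W := by
    rintro _ ⟨v, rfl⟩
    refine ⟨NK v, ?_⟩
    rw [heK, hNK, hNK, heK, Matrix.mulVec_mulVec, Matrix.mulVec_mulVec, hNe.eq]
  let NW : W →ₗ[K] W := NK.restrict hWinv
  have hNWpow : ∀ (k : ℕ) (w : W), ((NW ^ k) w : V) = (N ^ k).mulVec w := by
    intro k
    induction k with
    | zero => intro w; simp
    | succ k ih =>
      intro w
      rw [pow_succ', Module.End.mul_apply]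
      show NK ((NW ^ k) w : V) = _
      rw [hNK, ih, Matrix.mulVec_mulVec, ← pow_succ']
  have hNWnil : IsNilpotent NW := by
    obtain ⟨k, hk⟩ := hN
    refine ⟨k, ?_⟩
    apply LinearMap.ext
    intro w
    apply Subtype.ext
    rw [hNWpow, hk, Matrix.zero_mulVec]
    rfl
  have hNWm : NW ^ Module.finrank K W = 0 := by
    have h1 := LinearMap.aeval_self_charpoly NW
    rw [hNWnil.charpoly_eq_X_pow_finrank, map_pow, aeval_X] at h1
    exact h1
  apply Matrix.toLin'.injective
  apply LinearMap.ext
  intro v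
  rw [Matrix.toLin'_apply, ← Matrix.mulVec_mulVec, map_zero, LinearMap.zero_apply]
  have hw : e.mulVec v ∈ W := ⟨v, rfl⟩
  have := hNWpow (Module.finrank K W) ⟨e.mulVec v, hw⟩
  rw [hNWm] at this
  exact this.symm

end fieldact

section finite

variable {F : Type*} [Field F] [Fintype F] {ι : Type*} [Fintype ι] [DecidableEq ι]

theorem aeval_pow_card {R : Type*} [Ring R] [Algebra F R] (y : R) (P : F[X]) :
    (aeval y P) ^ (Fintype.card F) = aeval (y ^ (Fintype.card F)) P := by
  rw [← map_pow, ← FiniteField.expand_card, Polynomial.expand_aeval]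

theorem aeval_pow_card_pow {R : Type*} [Ring R] [Algebra F R] (y : R) (P : F[X]) (k : ℕ) :
    (aeval y P) ^ (Fintype.card F ^ k) = aeval (y ^ (Fintype.card F ^ k)) P := by
  induction k with
  | zero => simp
  | succ k ih => rw [pow_succ, pow_mul, ih, aeval_pow_card, ← pow_mul]

/-- L2 -/
theorem pow_card_pow_of_irreducible (A : Matrix ι ι F) (hirr : Irreducible (minpoly F A)) :
    A ^ (Fintype.card F ^ (minpoly F A).natDegree) = A := by
  haveI : Fact (Irreducible (minpoly F A)) := ⟨hirr⟩
  haveI : Module.Finite F (AdjoinRoot (minpoly F A)) := (AdjoinRoot.powerBasis hirr.ne_zero).finite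
  haveI : Finite (AdjoinRoot (minpoly F A)) := Module.finite_of_finite F
  haveI : Fintype (AdjoinRoot (minpoly F A)) := Fintype.ofFinite _
  have hdeg : Module.finrank F (AdjoinRoot (minpoly F A)) = (minpoly F A).natDegree := by
    rw [(AdjoinRoot.powerBasis hirr.ne_zero).finrank, AdjoinRoot.powerBasis_dim]
  have hcard : Fintype.card (AdjoinRoot (minpoly F A)) =
      Fintype.card F ^ (minpoly F A).natDegree := by
    rw [← hdeg]; exact Module.card_eq_pow_finrank
  have h := FiniteField.pow_card (AdjoinRoot.root (minpoly F A))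
  rw [hcard] at h
  have h2 := congrArg (rhoMat A) h
  rw [map_pow, rhoMat_root] at h2
  exact h2

/-- L3 -/
theorem exists_sq_eq_neg_one (A : Matrix ι ι F) (hirr : Irreducible (minpoly F A))
    (h4 : 4 ∣ Fintype.card F ^ (minpoly F A).natDegree - 1) :
    ∃ P : F[X], aeval A P * aeval A P = -1 := by
  haveI : Fact (Irreducible (minpoly F A)) := ⟨hirr⟩
  haveI : Module.Finite F (AdjoinRoot (minpoly F A)) := (AdjoinRoot.powerBasis hirr.ne_zero).finite
  haveI : Finite (AdjoinRoot (minpoly F A)) := Module.finite_of_finite F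
  haveI : Fintype (AdjoinRoot (minpoly F A)) := Fintype.ofFinite _
  have hdeg : Module.finrank F (AdjoinRoot (minpoly F A)) = (minpoly F A).natDegree := by
    rw [(AdjoinRoot.powerBasis hirr.ne_zero).finrank, AdjoinRoot.powerBasis_dim]
  have hcard : Fintype.card (AdjoinRoot (minpoly F A)) =
      Fintype.card F ^ (minpoly F A).natDegree := by
    rw [← hdeg]; exact Module.card_eq_pow_finrank
  have hcu : Nat.card (AdjoinRoot (minpoly F A))ˣ = Fintype.card F ^ (minpoly F A).natDegree - 1 := by
    rw [Nat.card_eq_fintype_card, Fintype.card_units, hcard]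
  obtain ⟨g, hg⟩ := IsCyclic.exists_ofOrder_eq_natCard (α := (AdjoinRoot (minpoly F A))ˣ)
  obtain ⟨c, hc⟩ := h4
  rw [hcu, hc] at hg
  have hc0 : c ≠ 0 := by
    rintro rfl
    have := orderOf_pos g
    omega
  -- τ = g ^ c has order 4
  have hτ : orderOf (g ^ c) = 4 := by
    rw [orderOf_pow' _ hc0, hg, Nat.gcd_mul_left_left,
      Nat.mul_div_cancel _ (Nat.pos_of_ne_zero hc0)]
  set τ := g ^ c with hτdef
  have hτ4 : τ ^ 4 = 1 := by rw [← hτ]; exact pow_orderOf_eq_one τ
  have hτ2 : τ ^ 2 ≠ 1 := by
    intro h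
    have := orderOf_dvd_of_pow_eq_one h
    rw [hτ] at this
    omega
  have hv4 : (τ : AdjoinRoot (minpoly F A)) ^ 4 = 1 := by
    rw [← Units.val_pow_eq_pow_val, hτ4, Units.val_one]
  have hv2 : (τ : AdjoinRoot (minpoly F A)) ^ 2 ≠ 1 := by
    intro h
    apply hτ2
    apply Units.ext
    rw [Units.val_pow_eq_pow_val, h, Units.val_one]
  have hneg : (τ : AdjoinRoot (minpoly F A)) ^ 2 = -1 := by
    have h : ((τ : AdjoinRoot (minpoly F A)) ^ 2 - 1) * ((τ : AdjoinRoot (minpoly F A)) ^ 2 + 1) = 0 := by
      ring_nf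
      rw [hv4]; ring
    rcases mul_eq_zero.1 h with h | h
    · exact absurd (sub_eq_zero.1 h) hv2
    · exact eq_neg_of_add_eq_zero_left h
  obtain ⟨P, hP⟩ := AdjoinRoot.mk_surjective (τ : AdjoinRoot (minpoly F A))
  refine ⟨P, ?_⟩
  rw [← rhoMat_mk, hP, ← map_mul, ← pow_two, hneg, map_neg, map_one]

end finite

end Cfsg.Agent.H4PSpSpec
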