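import Mathlib
import Cfsg.Agent.Lib.Helper4.PSpSpecA
import Cfsg.Agent.Lib.Helper4.PSpSpecB

namespace Cfsg.Agent.H4PSpSpec

open Polynomial Matrix

section prelim

variable {F : Type*} [Field F] {ι : Type*} [Fintype ι] [DecidableEq ι]

theorem squarefree_minpoly_of_pow (x : Matrix ι ι F) {a : ℕ} (hxa : x ^ a = 1)
    (ha : (a : F) ≠ 0) : Squarefree (minpoly F x) := by
  have hsep : (X ^ a - C (1 : F)).Separable :=
    Polynomial.separable_X_pow_sub_C (1 : F) ha one_ne_zero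
  have hd : minpoly F x ∣ X ^ a - C (1 : F) := by
    apply minpoly.dvd
    rw [map_sub, map_pow, aeval_X, aeval_C, hxa]
    simp
  exact hsep.squarefree.squarefree_of_dvd hd

/-- irreducible factor with coprime cofactor -/
theorem exists_irreducible_coprime_factor {μ : F[X]} (h0 : μ ≠ 0) (hu : ¬ IsUnit μ)
    (hsq : Squarefree μ) (hirr : ¬ Irreducible μ) :
    ∃ f₁ f₂ : F[X], μ = f₁ * f₂ ∧ IsCoprime f₁ f₂ ∧ Irreducible f₁ ∧ ¬ IsUnit f₂ := by
  obtain ⟨f₁, hf₁, ⟨f₂, rfl⟩⟩ := WfDvdMonoid.exists_irreducible_factor hu h0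
  refine ⟨f₁, f₂, rfl, ?_, hf₁, ?_⟩
  · rcases hf₁.isCoprime_or_dvd f₂ with h | ⟨g, rfl⟩
    · exact h
    · exfalso
      have : IsUnit f₁ := hsq f₁ ⟨g, by ring⟩
      exact hf₁.not_isUnit this
  · intro h2
    apply hirr
    obtain ⟨w, rfl⟩ := h2
    exact (irreducible_mul_units w).2 hf₁

/-- complementary idempotents from a coprime factorisation, with polynomial witnesses -/
theorem exists_idem_poly (A : Matrix ι ι F) {f₁ f₂ : F[X]}
    (hμ : minpoly F A = f₁ * f₂) (hc : IsCoprime f₁ f₂) (h1 : ¬ IsUnit f₁) (h2 : ¬ IsUnit f₂) :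
    ∃ E₁ E₂ : F[X], E₁ + E₂ = 1 ∧ f₂ ∣ E₁ ∧ f₁ ∣ E₂ ∧
      aeval A E₁ ≠ 0 ∧ aeval A E₂ ≠ 0 := by
  obtain ⟨u, v, huv⟩ := hc
  have hA : IsIntegral F A := Matrix.isIntegral A
  have hμ0 : minpoly F A ≠ 0 := minpoly.ne_zero hA
  have hf1 : f₁ ≠ 0 := by rintro rfl; simp at hμ; exact hμ0 hμ
  have hf2 : f₂ ≠ 0 := by rintro rfl; simp at hμ; exact hμ0 hμ
  refine ⟨v * f₂, u * f₁, by rw [add_comm]; exact huv, dvd_mul_left _ _, dvd_mul_left _ _, ?_, ?_⟩
  · intro h0
    have hd : minpoly F A ∣ v * f₂ := minpoly.dvd F A h0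
    rw [hμ] at hd
    have hd' : f₁ ∣ v := (mul_dvd_mul_iff_right hf2).1 hd
    apply h1
    have : f₁ ∣ 1 := by
      rw [← huv]; exact dvd_add (dvd_mul_left _ _) (hd'.mul_right _)
    exact isUnit_of_dvd_one this
  · intro h0
    have hd : minpoly F A ∣ u * f₁ := minpoly.dvd F A h0
    rw [hμ, mul_comm f₁ f₂] at hd
    have hd' : f₂ ∣ u := (mul_dvd_mul_iff_right hf1).1 hd
    apply h2
    have : f₂ ∣ 1 := by
      rw [← huv]; exact dvd_add (hd'.mul_right _) (dvd_mul_left _ _)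
    exact isUnit_of_dvd_one this

/-- a polynomial divisible by both coprime factors of the minimal polynomial kills `A` -/
theorem aeval_eq_zero_of_dvd (A : Matrix ι ι F) {f₁ f₂ Q : F[X]}
    (hμ : minpoly F A = f₁ * f₂) (hc : IsCoprime f₁ f₂) (h1 : f₁ ∣ Q) (h2 : f₂ ∣ Q) :
    aeval A Q = 0 := by
  have : f₁ * f₂ ∣ Q := hc.mul_dvd h1 h2
  obtain ⟨R, rfl⟩ := this
  rw [← hμ, map_mul, minpoly.aeval, zero_mul]

end prelim

section good

variable {F : Type*} [Field F] {l : Type*} [Fintype l] [DecidableEq l]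

/-- a witness that `x` commutes with a non-central involution modulo the centre -/
def Good (x : Matrix (l ⊕ l) (l ⊕ l) F) : Prop :=
  ∃ t : Matrix (l ⊕ l) (l ⊕ l) F, t * adj t = 1 ∧ (t * t = 1 ∨ t * t = -1) ∧ t ≠ 1 ∧ t ≠ -1 ∧
    ∀ y : Matrix (l ⊕ l) (l ⊕ l) F, Commute y x → Commute y t

theorem good_of_idem (h2 : (2 : F) ≠ 0) (x e : Matrix (l ⊕ l) (l ⊕ l) F) (he : e * e = e)
    (hadj : adj e = e) (he0 : e ≠ 0) (he1 : e ≠ 1)
    (hcomm : ∀ y : Matrix (l ⊕ l) (l ⊕ l) F, Commute y x → Commute y e) : Good x := by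
  have htt : (1 - (2 : F) • e) * (1 - (2 : F) • e) = 1 := by
    simp only [sub_mul, mul_sub, one_mul, mul_one, smul_mul_assoc, mul_smul_comm, he]
    module
  refine ⟨1 - (2 : F) • e, ?_, Or.inl htt, ?_, ?_, ?_⟩
  · rw [adj_sub, adj_one, adj_smul, hadj]; exact htt
  · intro h
    have : (2 : F) • e = 0 := by
      have := sub_eq_self.1 h
      exact this
    rcases smul_eq_zero.1 this with h | h
    · exact h2 h
    · exact he0 h
  · intro h
    have h3 : (2 : F) • (1 - e) = 0 := by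
      rw [smul_sub]
      have : (2 : F) • (1 : Matrix (l ⊕ l) (l ⊕ l) F) = 1 + 1 := by
        rw [two_smul]
      rw [this]
      have h4 : (1 : Matrix (l ⊕ l) (l ⊕ l) F) - (2 : F) • e + 1 = 0 := by rw [h]; simp
      rw [← h4]; abel
    rcases smul_eq_zero.1 h3 with h | h
    · exact h2 h
    · exact he1 (sub_eq_zero.1 h).symm
  · intro y hy
    exact (Commute.one_right y).sub_right ((hcomm y hy).smul_right _)

end good

end Cfsg.Agent.H4PSpSpec
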