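import Mathlib
import Cfsg.Agent.Lib.Helper4.PSLSpecA
import Cfsg.Agent.Lib.Helper4.PSpSpecC
import Cfsg.Agent.Lib.Helper4.PSUSpecA

namespace Cfsg.Agent.H4PSUSpec

open Polynomial Matrix
open Cfsg.Agent.H4PSLSpec (idem_pow exists_mul_add_dvd)
open Cfsg.Agent.H4PSpSpec (squarefree_minpoly_of_pow exists_irreducible_coprime_factor
  exists_idem_poly aeval_eq_zero_of_dvd commute_aeval')

section good

variable {F : Type*} [Field F] {n : ℕ} (σ : F →+* F)

/-- a witness of an element of order `r` modulo scalars centralising the centraliser of `x` -/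
def GoodU (r : ℕ) (x : Matrix (Fin n) (Fin n) F) : Prop :=
  ∃ z : Matrix (Fin n) (Fin n) F, z * hadj σ z = 1 ∧ z.det = 1 ∧ z ^ r = 1 ∧
    (¬ ∃ c : F, z = c • (1 : Matrix (Fin n) (Fin n) F)) ∧
    ∀ y : Matrix (Fin n) (Fin n) F, Commute y x → Commute y z

theorem good_of_idemU {r : ℕ} (hr : r.Prime) (hrn : ¬ r ∣ n) {ζ : F} (hζ : orderOf ζ = r)
    (hζσ : ζ * σ ζ = 1) (x e : Matrix (Fin n) (Fin n) F) (he : e * e = e)
    (hadje : hadj σ e = e) (he0 : e ≠ 0) (he1 : e ≠ 1)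
    (hcomm : ∀ y : Matrix (Fin n) (Fin n) F, Commute y x → Commute y e) : GoodU σ r x := by
  haveI : NeZero r := ⟨hr.ne_zero⟩
  set π₁ := e with hπ₁
  set π₂ := 1 - e with hπ₂
  have hsum : π₁ + π₂ = 1 := by rw [hπ₂]; abel
  have h12 : π₁ * π₂ = 0 := by rw [hπ₂, mul_sub, mul_one, he, sub_self]
  have h21 : π₂ * π₁ = 0 := by rw [hπ₂, sub_mul, one_mul, he, sub_self]
  have h11 : π₁ * π₁ = π₁ := he
  have h22 : π₂ * π₂ = π₂ := by
    rw [hπ₂, sub_mul, one_mul, mul_sub, mul_one, he, sub_self, sub_zero]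
  have hn2 : π₂ ≠ 0 := by
    intro h
    apply he1
    rw [hπ₂, sub_eq_zero] at h
    exact h.symm
  have hadj2 : hadj σ π₂ = π₂ := by rw [hπ₂, hadj_sub, hadj_one, hadje]
  have hζr : ζ ^ r = 1 := by rw [← hζ]; exact pow_orderOf_eq_one ζ
  have hprim : IsPrimitiveRoot ζ r := hζ ▸ IsPrimitiveRoot.orderOf ζ
  have hw : (ζ • π₁ + (1 : F) • π₂) ^ r = 1 := by
    rw [idem_pow hsum h12 h21 h11 h22, hζr, one_pow, one_smul, one_smul, hsum]
  have hdet : (ζ • π₁ + (1 : F) • π₂).det ^ r = 1 := by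
    rw [← Matrix.det_pow, hw, Matrix.det_one]
  obtain ⟨i, -, hi⟩ := hprim.eq_pow_of_pow_eq_one hdet
  obtain ⟨j, hj⟩ := exists_mul_add_dvd hr hrn i
  have hzeq : ζ ^ j • (ζ • π₁ + (1 : F) • π₂) = (ζ ^ (j + 1)) • π₁ + (ζ ^ j) • π₂ := by
    rw [smul_add, smul_smul, smul_smul, mul_one, pow_succ]
  refine ⟨(ζ ^ (j + 1)) • π₁ + (ζ ^ j) • π₂, ?_, ?_, ?_, ?_, ?_⟩
  · rw [hadj_add, hadj_smul, hadj_smul, hadje, hadj2]
    simp only [add_mul, mul_add, smul_mul_assoc, mul_smul_comm, h11, h22, h12, h21, smul_zero,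
      add_zero, zero_add, smul_smul]
    rw [map_pow, map_pow, ← mul_pow, ← mul_pow, mul_comm (σ ζ), hζσ, one_pow, one_pow, one_smul,
      one_smul, hsum]
  · rw [← hzeq, Matrix.det_smul, Fintype.card_fin, ← hi, ← pow_mul, ← pow_add]
    obtain ⟨c, hc⟩ := hj
    rw [hc, pow_mul, hζr, one_pow]
  · rw [idem_pow hsum h12 h21 h11 h22, ← pow_mul, ← pow_mul, mul_comm (j + 1), mul_comm j, pow_mul,
      pow_mul, hζr, one_pow, one_pow, one_smul, one_smul, hsum]
  · rintro ⟨c, hc⟩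
    have h1 := congrArg (fun M => M * π₁) hc
    have h2 := congrArg (fun M => M * π₂) hc
    simp only [add_mul, smul_mul_assoc, h11, h21, h12, h22, smul_zero, add_zero, zero_add,
      one_mul] at h1 h2
    have e1 : ζ ^ (j + 1) = c := by
      by_contra hne
      have : (ζ ^ (j + 1) - c) • π₁ = 0 := by rw [sub_smul, h1, sub_self]
      rcases smul_eq_zero.1 this with h | h
      · exact hne (sub_eq_zero.1 h)
      · exact he0 h
    have e2 : ζ ^ j = c := by
      by_contra hne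
      have : (ζ ^ j - c) • π₂ = 0 := by rw [sub_smul, h2, sub_self]
      rcases smul_eq_zero.1 this with h | h
      · exact hne (sub_eq_zero.1 h)
      · exact hn2 h
    have hζ0 : ζ ≠ 0 := by
      rintro rfl
      rw [zero_pow hr.ne_zero] at hζr
      exact zero_ne_one hζr
    have : ζ = 1 := by
      have h3 : ζ ^ j * ζ = ζ ^ j * 1 := by rw [← pow_succ, e1, mul_one, e2]
      exact mul_left_cancel₀ (pow_ne_zero j hζ0) h3
    rw [this, orderOf_one] at hζ
    exact hr.one_lt.ne' hζ.symm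
  · intro y hy
    have c1 := hcomm y hy
    have c2 : Commute y π₂ := (Commute.one_right y).sub_right c1
    exact (c1.smul_right _).add_right (c2.smul_right _)

end good

section red

variable {F : Type*} [Field F] {n : ℕ} [NeZero n] (σ : F →+* F)

theorem hadj_eq_pow {x : Matrix (Fin n) (Fin n) F} (hx : x * hadj σ x = 1) {a : ℕ} (ha0 : 0 < a)
    (hxa : x ^ a = 1) : hadj σ x = x ^ (a - 1) := by
  have h1 : hadj σ x * x = 1 := mul_eq_one_comm.1 hx
  have h2 : x * x ^ (a - 1) = 1 := by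
    rw [← pow_succ', Nat.sub_add_cancel ha0, hxa]
  calc hadj σ x = hadj σ x * (x * x ^ (a - 1)) := by rw [h2, mul_one]
    _ = (hadj σ x * x) * x ^ (a - 1) := by rw [mul_assoc]
    _ = x ^ (a - 1) := by rw [h1, one_mul]

/-- the reducible case: a good witness, or two idempotents swapped by the adjoint -/
theorem reducible_caseU (hσ : ∀ c, σ (σ c) = c) {r : ℕ} (hr : r.Prime) (hrn : ¬ r ∣ n) {ζ : F}
    (hζ : orderOf ζ = r) (hζσ : ζ * σ ζ = 1) (x : Matrix (Fin n) (Fin n) F)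
    (hx : x * hadj σ x = 1) {a : ℕ} (ha0 : 0 < a) (hxa : x ^ a = 1) (haF : (a : F) ≠ 0)
    (hred : ¬ Irreducible (minpoly F x)) :
    GoodU σ r x ∨ ∃ (e₁ : Matrix (Fin n) (Fin n) F) (f₁ : F[X]), Irreducible f₁ ∧ e₁ * e₁ = e₁ ∧
      e₁ + hadj σ e₁ = 1 ∧ e₁ * hadj σ e₁ = 0 ∧ aeval x f₁ * e₁ = 0 ∧ Commute x e₁ ∧
      f₁ ∣ minpoly F x := by
  have hint : IsIntegral F x := Matrix.isIntegral x
  obtain ⟨f₁, f₂, hμ, hc, hf₁, hf₂⟩ := exists_irreducible_coprime_factor (minpoly.ne_zero hint)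
    (minpoly.not_isUnit F x) (squarefree_minpoly_of_pow x hxa haF) hred
  obtain ⟨E₁, E₂, hsum, hd1, hd2, hne1, hne2⟩ := exists_idem_poly x hμ hc hf₁.not_isUnit hf₂
  set e₁ := aeval x E₁ with he₁
  set e₂ := aeval x E₂ with he₂
  have hs : e₁ + e₂ = 1 := by rw [he₁, he₂, ← map_add, hsum, map_one]
  have h12 : e₁ * e₂ = 0 := by
    rw [he₁, he₂, ← map_mul]
    exact aeval_eq_zero_of_dvd x hμ hc (hd2.mul_left _) (hd1.mul_right _)
  have h11 : e₁ * e₁ = e₁ := by
    calc e₁ * e₁ = e₁ * (e₁ + e₂) := by rw [mul_add, h12, add_zero]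
      _ = e₁ := by rw [hs, mul_one]
  have hadjx := hadj_eq_pow σ hx ha0 hxa
  set Q := (E₁.map σ).comp (X ^ (a - 1)) with hQ
  have hadje : hadj σ e₁ = aeval x Q := by
    rw [he₁, hadj_aeval, hadjx, hQ, aeval_comp, map_pow, aeval_X]
  have hcomm_e : ∀ y : Matrix (Fin n) (Fin n) F, Commute y x → Commute y e₁ :=
    fun y hy => commute_aeval' hy _
  have hcomm_ae : ∀ y : Matrix (Fin n) (Fin n) F, Commute y x → Commute y (hadj σ e₁) := by
    intro y hy; rw [hadje]; exact commute_aeval' hy _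
  have hee : Commute e₁ (hadj σ e₁) := hcomm_ae e₁ (hcomm_e x (Commute.refl x)).symm
  have haa : hadj σ e₁ * hadj σ e₁ = hadj σ e₁ := by rw [← hadj_mul, h11]
  set c := e₁ * hadj σ e₁ with hc_def
  have hcc : c * c = c := by
    rw [hc_def]
    calc e₁ * hadj σ e₁ * (e₁ * hadj σ e₁) = e₁ * (hadj σ e₁ * e₁) * hadj σ e₁ := by
          simp only [mul_assoc]
      _ = e₁ * (e₁ * hadj σ e₁) * hadj σ e₁ := by rw [hee.eq]
      _ = (e₁ * e₁) * (hadj σ e₁ * hadj σ e₁) := by simp only [mul_assoc]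
      _ = e₁ * hadj σ e₁ := by rw [h11, haa]
  have hcpoly : c = aeval x (E₁ * Q) := by rw [hc_def, hadje, he₁, ← map_mul]
  have hce : c * e₁ = c := by
    rw [hc_def, mul_assoc, ← hee.eq, ← mul_assoc, h11]
  have hdvd : minpoly F x ∣ (E₁ * Q) * (E₁ * Q - 1) := by
    apply minpoly.dvd
    rw [map_mul, map_sub, map_one, ← hcpoly, mul_sub, mul_one, hcc, sub_self]
  have hf₁dvd : f₁ ∣ (E₁ * Q) * (E₁ * Q - 1) := (Dvd.intro _ hμ.symm).trans hdvd
  have hc01 : c = 0 ∨ c = e₁ := by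
    rcases hf₁.prime.dvd_or_dvd hf₁dvd with h | h
    · left
      rw [← hce, hcpoly, he₁, ← map_mul]
      exact aeval_eq_zero_of_dvd x hμ hc (h.mul_right _) (hd1.mul_left _)
    · right
      have : c * e₁ - e₁ = 0 := by
        have h3 : c * e₁ - e₁ = aeval x ((E₁ * Q - 1) * E₁) := by
          rw [map_mul, map_sub, map_one, ← hcpoly, sub_mul, one_mul]
        rw [h3]
        exact aeval_eq_zero_of_dvd x hμ hc (h.mul_right _) (hd1.mul_left _)
      rw [← hce]; exact sub_eq_zero.1 this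
  have he1ne : e₁ ≠ 1 := by
    intro h
    apply hne2
    have : e₂ = 0 := by
      have := hs
      rw [h] at this
      exact add_eq_left.1 this
    exact this
  rcases hc01 with h0 | h1
  · set e := e₁ + hadj σ e₁ with he
    have hae1 : hadj σ e₁ * e₁ = 0 := by rw [← hee.eq]; exact h0
    have heid : e * e = e := by
      rw [he, add_mul, mul_add, mul_add, h11, haa, hae1]
      rw [show e₁ * hadj σ e₁ = 0 from h0]; simp
    have headj : hadj σ e = e := by rw [he, hadj_add, hadj_hadj σ hσ, add_comm]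
    have hene : e ≠ 0 := by
      intro h
      have : e * e₁ = e₁ := by rw [he, add_mul, h11, hae1, add_zero]
      rw [h, zero_mul] at this
      exact hne1 this.symm
    by_cases he1 : e = 1
    · right
      refine ⟨e₁, f₁, hf₁, h11, he1, h0, ?_, (hcomm_e x (Commute.refl x)), Dvd.intro _ hμ.symm⟩
      rw [he₁, ← map_mul]
      exact aeval_eq_zero_of_dvd x hμ hc (dvd_mul_right _ _) (hd1.mul_left _)
    · left
      exact good_of_idemU σ hr hrn hζ hζσ x e heid headj hene he1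
        (fun y hy => (hcomm_e y hy).add_right (hcomm_ae y hy))
  · left
    have hadj1 : hadj σ e₁ = e₁ := by
      have h4 : e₁ * hadj σ e₁ = e₁ := h1
      have h5 : e₁ * hadj σ e₁ = hadj σ e₁ := by
        have := congrArg (hadj σ) h4
        rw [hadj_mul, hadj_hadj σ hσ] at this
        exact this
      rw [← h5, h4]
    exact good_of_idemU σ hr hrn hζ hζσ x e₁ h11 hadj1 hne1 he1ne hcomm_e

end red

end Cfsg.Agent.H4PSUSpec
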