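import Mathlib
import Cfsg.Agent.Lib.Helper4.PSUSpecA

namespace Cfsg.Agent.H4PSUSpec

open Module Matrix

universe u v

section gs

variable {K : Type u} [Field K] (σ : K →+* K)

/-- Gram-Schmidt for nondegenerate `σ`-Hermitian forms over a field with surjective norm -/
theorem exists_herm_equiv (hσ : ∀ c, σ (σ c) = c)
    (hN : ∀ t : K, σ t = t → t ≠ 0 → ∃ c, c * σ c = t) (hT : ∃ c : K, c + σ c ≠ 0) :
    ∀ (n : ℕ) (W : Type v) [AddCommGroup W] [Module K W] [FiniteDimensional K W]
      (h : W → W → K), (∀ a a' b, h (a + a') b = h a b + h a' b) →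
      (∀ c a b, h (c • a) b = c * h a b) → (∀ a b, h b a = σ (h a b)) →
      (∀ a, (∀ b, h a b = 0) → a = 0) → finrank K W = n →
      ∃ ψ : W ≃ₗ[K] (Fin n → K), ∀ a b, h a b = ∑ i, ψ a i * σ (ψ b i) := by
  intro n
  induction n with
  | zero =>
    intro W _ _ _ h ha hs hh hnd hdim
    haveI : Subsingleton W := Module.finrank_zero_iff.1 hdim
    refine ⟨LinearEquiv.ofFinrankEq W (Fin 0 → K) (by rw [hdim]; simp), fun a b => ?_⟩
    have : a = 0 := Subsingleton.elim _ _
    rw [this]
    have h0 : h 0 b = 0 := by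
      have := hs 0 0 b
      rw [zero_smul, zero_mul] at this
      exact this
    rw [h0]; simp
  | succ n ih =>
    intro W _ _ _ h ha hs hh hnd hdim
    -- derived rules
    have hadd_r : ∀ a b b', h a (b + b') = h a b + h a b' := by
      intro a b b'
      rw [hh (b + b') a, ha, map_add, ← hh, ← hh]
    have hs_r : ∀ c a b, h a (c • b) = σ c * h a b := by
      intro c a b
      rw [hh (c • b) a, hs, map_mul, ← hh]
    have hzero_l : ∀ b, h 0 b = 0 := by
      intro b
      have := hs 0 0 b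
      rw [zero_smul, zero_mul] at this
      exact this
    have hσinj : Function.Injective σ := σ.injective
    -- anisotropic vector
    have hex : ∃ v, h v v ≠ 0 := by
      haveI : Nontrivial W := Module.nontrivial_of_finrank_pos (R := K) (by rw [hdim]; omega)
      obtain ⟨a, ha0⟩ := exists_ne (0 : W)
      have : ∃ b, h a b ≠ 0 := by
        by_contra hcon
        push Not at hcon
        exact ha0 (hnd a hcon)
      obtain ⟨b, hab⟩ := this
      by_cases haa : h a a = 0
      · by_cases hbb : h b b = 0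
        · obtain ⟨c₀, hc₀⟩ := hT
          set t := h a b with ht
          have hσt : σ t ≠ 0 := fun h0 => hab (hσinj (by rw [h0, map_zero]))
          refine ⟨a + (c₀ * (σ t)⁻¹) • b, ?_⟩
          rw [ha, hadd_r, hadd_r, hs, hs, hs_r, hs_r, haa, hbb, ← ht, hh a b, ← ht, map_mul, map_inv₀,
            hσ]
          have : (0 : K) + σ c₀ * t⁻¹ * t + (c₀ * (σ t)⁻¹ * σ t + c₀ * (σ t)⁻¹ * (σ c₀ * t⁻¹ * 0)) =
              c₀ + σ c₀ := by
            field_simp
            ring
          rw [this]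
          exact hc₀
        · exact ⟨b, hbb⟩
      · exact ⟨a, haa⟩
    obtain ⟨v, hv⟩ := hex
    have hσv : σ (h v v) = h v v := (hh v v).symm
    have hinv_ne : (h v v)⁻¹ ≠ 0 := inv_ne_zero hv
    obtain ⟨c, hc⟩ := hN (h v v)⁻¹ (by rw [map_inv₀, hσv]) hinv_ne
    obtain ⟨v', hv'1⟩ : ∃ v', h v' v' = 1 :=
      ⟨c • v, by rw [hs, hs_r, ← mul_assoc, hc, inv_mul_cancel₀ hv]⟩
    -- the functional
    let ℓ : W →ₗ[K] K :=
      { toFun := fun a => h a v'
        map_add' := fun a b => ha a b v'
        map_smul' := fun c a => by rw [hs]; rfl }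
    have hℓ : ∀ a, ℓ a = h a v' := fun a => rfl
    have hℓsurj : Function.Surjective ℓ := by
      intro t
      refine ⟨t • v', ?_⟩
      rw [hℓ, hs, hv'1, mul_one]
    have hker : finrank K (LinearMap.ker ℓ) = n := by
      have h1 := LinearMap.finrank_range_add_finrank_ker ℓ
      rw [LinearMap.range_eq_top.2 hℓsurj, finrank_top, Module.finrank_self, hdim] at h1
      omega
    -- projection
    let π : W →ₗ[K] LinearMap.ker ℓ :=
      LinearMap.codRestrict (LinearMap.ker ℓ) (LinearMap.id - LinearMap.smulRight ℓ v') (by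
        intro a
        rw [LinearMap.mem_ker, LinearMap.sub_apply, LinearMap.id_apply, LinearMap.smulRight_apply,
          map_sub, map_smul, hℓ v', hv'1, smul_eq_mul, mul_one, sub_self])
    have hπ : ∀ a, ((π a : LinearMap.ker ℓ) : W) = a - ℓ a • v' := fun a => rfl
    have hdecomp : ∀ a, a = ((π a : LinearMap.ker ℓ) : W) + ℓ a • v' := by
      intro a; rw [hπ]; abel
    have hπℓ : ∀ a, h ((π a : LinearMap.ker ℓ) : W) v' = 0 := by
      intro a
      have := (π a).2
      rw [LinearMap.mem_ker] at this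
      exact this
    -- restricted form
    let h' : LinearMap.ker ℓ → LinearMap.ker ℓ → K := fun a b => h a.1 b.1
    have hnd' : ∀ a : LinearMap.ker ℓ, (∀ b, h' a b = 0) → a = 0 := by
      intro a hab
      apply Subtype.ext
      apply hnd
      intro b
      have hb := hab (π b)
      show h a.1 b = 0
      have h1 : h a.1 b = h a.1 ((π b : LinearMap.ker ℓ) : W) + h a.1 (ℓ b • v') := by
        rw [← hadd_r, ← hdecomp]
      have ha0 : h a.1 v' = 0 := by
        have := a.2
        rw [LinearMap.mem_ker] at this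
        exact this
      rw [h1, hs_r, ha0, mul_zero, add_zero]
      exact hb
    obtain ⟨ψ', hψ'⟩ := ih (LinearMap.ker ℓ) h' (fun a a' b => ha a.1 a'.1 b.1)
      (fun c a b => hs c a.1 b.1) (fun a b => hh a.1 b.1) hnd' hker
    -- the map
    let ψl : W →ₗ[K] (Fin (n + 1) → K) :=
      { toFun := fun a => Fin.cons (ℓ a) (ψ' (π a))
        map_add' := fun a b => by
          funext i
          refine Fin.cases ?_ (fun j => ?_) i
          · simp
          · simp
        map_smul' := fun c a => by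
          funext i
          refine Fin.cases ?_ (fun j => ?_) i
          · simp
          · simp }
    have hψl0 : ∀ a, ψl a 0 = ℓ a := fun a => rfl
    have hψls : ∀ a (j : Fin n), ψl a j.succ = ψ' (π a) j := fun a j => rfl
    have hiso : ∀ a b, h a b = ∑ i, ψl a i * σ (ψl b i) := by
      intro a b
      rw [Fin.sum_univ_succ]
      simp only [hψl0, hψls]
      rw [← hψ' (π a) (π b)]
      show h a b = ℓ a * σ (ℓ b) + h (π a).1 (π b).1
      conv_lhs => rw [hdecomp a, hdecomp b]
      rw [ha, hadd_r, hadd_r, hs, hs, hs_r, hs_r, hπℓ a, hv'1]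
      have h2 : h v' ((π b : LinearMap.ker ℓ) : W) = 0 := by
        rw [hh ((π b : LinearMap.ker ℓ) : W) v', hπℓ b, map_zero]
      rw [h2]
      ring
    have hinj : Function.Injective ψl := by
      rw [← LinearMap.ker_eq_bot, LinearMap.ker_eq_bot']
      intro a ha0
      apply hnd
      intro b
      rw [hiso, ha0]
      simp
    refine ⟨LinearMap.linearEquivOfInjective ψl hinj (by rw [hdim]; simp), fun a b => ?_⟩
    rw [hiso]
    rfl

end gs

section transport

variable {F : Type u} [Field F] [Fintype F] (p a : ℕ) [Fact p.Prime] [CharP F p]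

theorem two_le_q (hF : Fintype.card F = (p ^ a) ^ 2) : 2 ≤ p ^ a := by
  have h1 : 1 < Fintype.card F := Fintype.one_lt_card
  rw [hF] at h1
  by_contra h
  have : p ^ a ≤ 1 := by omega
  have : (p ^ a) ^ 2 ≤ 1 ^ 2 := Nat.pow_le_pow_left this 2
  omega

theorem exists_gen_units (hF : Fintype.card F = (p ^ a) ^ 2) :
    ∃ g : Fˣ, orderOf g = (p ^ a - 1) * (p ^ a + 1) ∧ ∀ x : Fˣ, ∃ k : ℕ, x = g ^ k := by
  classical
  obtain ⟨g, hg⟩ := IsCyclic.exists_generator (α := Fˣ)
  have h2 := two_le_q p a hF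
  refine ⟨g, ?_, fun x => ?_⟩
  · rw [orderOf_eq_card_of_forall_mem_zpowers hg, Nat.card_eq_fintype_card, Fintype.card_units, hF]
    have : 1 ≤ (p ^ a) ^ 2 := Nat.one_le_pow _ _ (by omega)
    zify [this, (by omega : 1 ≤ p ^ a)]
    ring
  · obtain ⟨k, hk⟩ := (Subgroup.mem_zpowers_iff.1 (hg x))
    refine ⟨(k % (orderOf g : ℤ)).toNat, ?_⟩
    rw [← hk, ← zpow_natCast, Int.toNat_of_nonneg (Int.emod_nonneg _ (by
      have := orderOf_pos g; omega)), zpow_mod_orderOf]

theorem norm_surj (hF : Fintype.card F = (p ^ a) ^ 2) (t : F) (ht : sig p a t = t) (ht0 : t ≠ 0) :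
    ∃ c : F, c * sig p a c = t := by
  have h2 := two_le_q p a hF
  obtain ⟨g, hord, hgen⟩ := exists_gen_units p a hF
  obtain ⟨k, hk⟩ := hgen (Units.mk0 t ht0)
  have hk' : t = (g : F) ^ k := by
    have := congrArg Units.val hk
    rw [Units.val_mk0, Units.val_pow_eq_pow_val] at this
    exact this
  -- t^(q-1) = 1
  have h1 : (g ^ k) ^ (p ^ a - 1) = 1 := by
    apply Units.ext
    rw [Units.val_pow_eq_pow_val, Units.val_pow_eq_pow_val, ← hk', Units.val_one]
    have : t ^ (p ^ a - 1) * t = 1 * t := by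
      rw [← pow_succ, Nat.sub_add_cancel (by omega), one_mul, ← sig_apply, ht]
    exact mul_right_cancel₀ ht0 this
  rw [← pow_mul, ← orderOf_dvd_iff_pow_eq_one, hord] at h1
  have h3 : (p ^ a + 1) ∣ k := by
    have : (p ^ a - 1) * (p ^ a + 1) ∣ (p ^ a - 1) * k := by rw [mul_comm _ k]; exact h1
    exact (Nat.mul_dvd_mul_iff_left (by omega)).1 this
  obtain ⟨k', rfl⟩ := h3
  refine ⟨(g : F) ^ k', ?_⟩
  rw [sig_apply, hk', ← pow_mul, ← pow_add]
  congr 1
  ring

theorem trace_ne (hF : Fintype.card F = (p ^ a) ^ 2) : ∃ c : F, c + sig p a c ≠ 0 := by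
  have h2 := two_le_q p a hF
  obtain ⟨g, hord, -⟩ := exists_gen_units p a hF
  refine ⟨(g : F), fun h => ?_⟩
  rw [sig_apply] at h
  have hg0 : (g : F) ≠ 0 := g.ne_zero
  have h1 : (g : F) ^ (p ^ a - 1) = -1 := by
    have h3 : (g : F) ^ (p ^ a - 1) * g = -1 * g := by
      rw [← pow_succ, Nat.sub_add_cancel (by omega), neg_one_mul]
      exact eq_neg_of_add_eq_zero_right h
    exact mul_right_cancel₀ hg0 h3
  have h4 : g ^ (2 * (p ^ a - 1)) = 1 := by
    apply Units.ext
    rw [Units.val_pow_eq_pow_val, mul_comm, pow_mul, h1, Units.val_one]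
    simp
  rw [← orderOf_dvd_iff_pow_eq_one, hord, mul_comm 2] at h4
  have h5 : p ^ a + 1 ∣ 2 := (Nat.mul_dvd_mul_iff_left (by omega)).1 h4
  have := Nat.le_of_dvd (by norm_num) h5
  omega

/-- transport of isometries of an abstract Hermitian space to unitary matrices -/
theorem abs_to_gu (hF : Fintype.card F = (p ^ a) ^ 2) {W : Type v} [AddCommGroup W] [Module F W]
    [FiniteDimensional F W] (h : W → W → F) (ha : ∀ x x' y, h (x + x') y = h x y + h x' y)
    (hs : ∀ c x y, h (c • x) y = c * h x y) (hh : ∀ x y, h y x = sig p a (h x y))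
    (hnd : ∀ x, (∀ y, h x y = 0) → x = 0) {n : ℕ} (hdim : finrank F W = n) :
    ∃ Φ : Module.End F W ≃ₐ[F] Matrix (Fin n) (Fin n) F,
      (∀ T : Module.End F W, (∀ x y, h (T x) (T y) = h x y) →
        Φ T * hadj (sig p a) (Φ T) = 1) ∧ ∀ T : Module.End F W, (Φ T).det = LinearMap.det T := by
  obtain ⟨ψ, hψ⟩ := exists_herm_equiv (sig p a) (sig_sig p a hF) (norm_surj p a hF)
    (trace_ne p a hF) n W h ha hs hh hnd hdim
  let b : Module.Basis (Fin n) F W := Module.Basis.ofEquivFun ψ
  have hrepr : ∀ x, (b.repr x : Fin n → F) = ψ x := by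
    intro x; funext i; exact Module.Basis.ofEquivFun_repr_apply ψ x i
  have hform : ∀ x y, Cfsg.hermForm n F (p ^ a) (ψ x) (ψ y) = h x y := by
    intro x y
    rw [hermForm_eq, hψ]
    rfl
  refine ⟨LinearMap.toMatrixAlgEquiv b, fun T hT => ?_, fun T => ?_⟩
  · rw [← isUni_iff]
    intro u v
    obtain ⟨x, rfl⟩ := ψ.surjective u
    obtain ⟨y, rfl⟩ := ψ.surjective v
    have h1 : ∀ z, (LinearMap.toMatrixAlgEquiv b T) *ᵥ (ψ z) = ψ (T z) := by
      intro z
      rw [← hrepr, ← hrepr]
      exact LinearMap.toMatrix_mulVec_repr b b T z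
    rw [h1, h1, hform, hform, hT]
  · exact LinearMap.det_toMatrix b T

end transport

end Cfsg.Agent.H4PSUSpec
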