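import Mathlib

namespace Cfsg.Agent.H4PSUSpec

open Polynomial Module

section conj

variable {K : Type*} [Field K]

/-- the algebra map from `AdjoinRoot f` into the endomorphism ring, for `f(A) = 0` -/
noncomputable def adjToEnd {V : Type*} [AddCommGroup V] [Module K V] (f : K[X]) (A : Module.End K V)
    (hA : aeval A f = 0) : AdjoinRoot f →ₐ[K] Module.End K V :=
  Ideal.Quotient.liftₐ (Ideal.span {f}) (Polynomial.aeval A) (by
    intro g hg
    obtain ⟨c, rfl⟩ := Ideal.mem_span_singleton.1 hg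
    rw [map_mul, hA, zero_mul])

theorem adjToEnd_root {V : Type*} [AddCommGroup V] [Module K V] (f : K[X]) (A : Module.End K V)
    (hA : aeval A f = 0) : adjToEnd f A hA (AdjoinRoot.root f) = A := by
  show (Ideal.Quotient.liftₐ (Ideal.span {f}) (Polynomial.aeval A) _)
    (Ideal.Quotient.mk _ X) = A
  rw [Ideal.Quotient.liftₐ_apply]
  erw [Ideal.Quotient.lift_mk]
  simp

/-- two endomorphisms killed by the same irreducible polynomial, on spaces of equal dimension, are
conjugate -/
theorem conj_irr_lin {V W : Type*} [AddCommGroup V] [Module K V] [FiniteDimensional K V]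
    [AddCommGroup W] [Module K W] [FiniteDimensional K W] (f : K[X]) (hf : Irreducible f)
    (A : Module.End K V) (B : Module.End K W) (hA : aeval A f = 0) (hB : aeval B f = 0)
    (hdim : finrank K V = finrank K W) : ∃ ψ : V ≃ₗ[K] W, ∀ v, ψ (A v) = B (ψ v) := by
  haveI : Fact (Irreducible f) := ⟨hf⟩
  let L := AdjoinRoot f
  let ρA : L →+* Module.End K V := (adjToEnd f A hA).toRingHom
  let ρB : L →+* Module.End K W := (adjToEnd f B hB).toRingHom
  letI : Module L V := Module.compHom V ρA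
  letI : Module L W := Module.compHom W ρB
  have hsV : ∀ (k : L) (v : V), k • v = (adjToEnd f A hA k) v := fun k v => rfl
  have hsW : ∀ (k : L) (w : W), k • w = (adjToEnd f B hB k) w := fun k w => rfl
  haveI : IsScalarTower K L V := ⟨fun c k v => by
    rw [hsV, hsV, map_smul, LinearMap.smul_apply]⟩
  haveI : IsScalarTower K L W := ⟨fun c k w => by
    rw [hsW, hsW, map_smul, LinearMap.smul_apply]⟩
  haveI : Module.Finite K L := (AdjoinRoot.powerBasis hf.ne_zero).finite
  have hKpos : 0 < finrank K L := Module.finrank_pos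
  have h1 : finrank K L * finrank L V = finrank K V := Module.finrank_mul_finrank K L V
  have h2 : finrank K L * finrank L W = finrank K W := Module.finrank_mul_finrank K L W
  have hfr : finrank L V = finrank L W :=
    Nat.eq_of_mul_eq_mul_left hKpos (h1.trans (hdim.trans h2.symm))
  haveI : Module.Finite L V := Module.Finite.right K L V
  haveI : Module.Finite L W := Module.Finite.right K L W
  let ψL : V ≃ₗ[L] W := LinearEquiv.ofFinrankEq V W hfr
  refine ⟨ψL.restrictScalars K, fun v => ?_⟩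
  have h3 : A v = (AdjoinRoot.root f : L) • v := by rw [hsV, adjToEnd_root]
  have h4 : ∀ w : W, B w = (AdjoinRoot.root f : L) • w := fun w => by rw [hsW, adjToEnd_root]
  rw [h3, h4]
  show ψL (_ • v) = _ • ψL v
  rw [map_smul]

theorem natDegree_dvd_finrank {V : Type*} [AddCommGroup V] [Module K V] [FiniteDimensional K V]
    (f : K[X]) (hf : Irreducible f) (A : Module.End K V) (hA : aeval A f = 0) :
    f.natDegree ∣ finrank K V := by
  haveI : Fact (Irreducible f) := ⟨hf⟩
  let L := AdjoinRoot f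
  let ρA : L →+* Module.End K V := (adjToEnd f A hA).toRingHom
  letI : Module L V := Module.compHom V ρA
  have hsV : ∀ (k : L) (v : V), k • v = (adjToEnd f A hA k) v := fun k v => rfl
  haveI : IsScalarTower K L V := ⟨fun c k v => by
    rw [hsV, hsV, map_smul, LinearMap.smul_apply]⟩
  haveI : Module.Finite K L := (AdjoinRoot.powerBasis hf.ne_zero).finite
  have h1 : finrank K L * finrank L V = finrank K V := Module.finrank_mul_finrank K L V
  have hdeg : finrank K L = f.natDegree := by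
    rw [(AdjoinRoot.powerBasis hf.ne_zero).finrank, AdjoinRoot.powerBasis_dim]
  rw [← hdeg, ← h1]
  exact dvd_mul_right _ _

theorem aeval_restrict {V : Type*} [AddCommGroup V] [Module K V] (A : Module.End K V)
    (p : Submodule K V) (hp : ∀ v ∈ p, A v ∈ p) (P : K[X]) (v : p) :
    ((aeval (A.restrict hp) P) v : V) = (aeval A P) v.1 := by
  induction P using Polynomial.induction_on with
  | C c => simp [Module.algebraMap_end_apply]
  | add P Q hP hQ => rw [map_add, map_add, LinearMap.add_apply, LinearMap.add_apply, Submodule.coe_add, hP, hQ]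
  | monomial k c _ =>
    rw [map_mul, map_mul, aeval_C, aeval_C, map_pow, map_pow, aeval_X, aeval_X,
      Module.End.mul_apply, Module.End.mul_apply, Module.algebraMap_end_apply,
      Module.algebraMap_end_apply, Submodule.coe_smul]
    congr 1
    rw [Module.End.pow_restrict]
    rfl

theorem natDegree_dvd_finrank_range {V : Type*} [AddCommGroup V] [Module K V]
    [FiniteDimensional K V] (A e : Module.End K V) (hee : e * e = e) (hc : Commute A e)
    (f : K[X]) (hf : Irreducible f) (hA : aeval A f * e = 0) :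
    f.natDegree ∣ finrank K (LinearMap.range e) := by
  have hinv : ∀ v ∈ LinearMap.range e, A v ∈ LinearMap.range e := by
    rintro _ ⟨w, rfl⟩
    exact ⟨A w, by rw [← Module.End.mul_apply, ← hc.eq, Module.End.mul_apply]⟩
  have hfix : ∀ v ∈ LinearMap.range e, e v = v := by
    rintro _ ⟨w, rfl⟩
    rw [← Module.End.mul_apply, hee]
  have hk : aeval (A.restrict hinv) f = 0 := by
    apply LinearMap.ext
    intro v
    apply Subtype.ext
    rw [aeval_restrict, LinearMap.zero_apply, Submodule.coe_zero, ← hfix v.1 v.2,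
      ← Module.End.mul_apply, hA, LinearMap.zero_apply]
  exact natDegree_dvd_finrank f hf (A.restrict hinv) hk

/-- conjugacy with two complementary invariant blocks -/
theorem conj_two {V W₁ W₂ : Type*} [AddCommGroup V] [Module K V] [FiniteDimensional K V]
    [AddCommGroup W₁] [Module K W₁] [FiniteDimensional K W₁]
    [AddCommGroup W₂] [Module K W₂] [FiniteDimensional K W₂]
    (A e₁ e₂ : Module.End K V) (hsum : e₁ + e₂ = 1) (h12 : e₁ * e₂ = 0) (h21 : e₂ * e₁ = 0)
    (hc1 : Commute A e₁) (hc2 : Commute A e₂)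
    (f₁ f₂ : K[X]) (hf₁ : Irreducible f₁) (hf₂ : Irreducible f₂)
    (hA1 : aeval A f₁ * e₁ = 0) (hA2 : aeval A f₂ * e₂ = 0)
    (B₁ : Module.End K W₁) (B₂ : Module.End K W₂) (hB1 : aeval B₁ f₁ = 0) (hB2 : aeval B₂ f₂ = 0)
    (hd1 : finrank K (LinearMap.range e₁) = finrank K W₁)
    (hd2 : finrank K (LinearMap.range e₂) = finrank K W₂) :
    ∃ ψ : V ≃ₗ[K] (W₁ × W₂), ∀ v, ψ (A v) = (B₁.prodMap B₂) (ψ v) := by
  have h11 : e₁ * e₁ = e₁ := by
    calc e₁ * e₁ = e₁ * (e₁ + e₂) := by rw [mul_add, h12, add_zero]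
      _ = e₁ := by rw [hsum, mul_one]
  have h22 : e₂ * e₂ = e₂ := by
    calc e₂ * e₂ = e₂ * (e₁ + e₂) := by rw [mul_add, h21, zero_add]
      _ = e₂ := by rw [hsum, mul_one]
  have hinv1 : ∀ v ∈ LinearMap.range e₁, A v ∈ LinearMap.range e₁ := by
    rintro _ ⟨w, rfl⟩
    exact ⟨A w, by rw [← Module.End.mul_apply, ← hc1.eq, Module.End.mul_apply]⟩
  have hinv2 : ∀ v ∈ LinearMap.range e₂, A v ∈ LinearMap.range e₂ := by
    rintro _ ⟨w, rfl⟩
    exact ⟨A w, by rw [← Module.End.mul_apply, ← hc2.eq, Module.End.mul_apply]⟩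
  have hfix1 : ∀ v ∈ LinearMap.range e₁, e₁ v = v := by
    rintro _ ⟨w, rfl⟩
    rw [← Module.End.mul_apply, h11]
  have hfix2 : ∀ v ∈ LinearMap.range e₂, e₂ v = v := by
    rintro _ ⟨w, rfl⟩
    rw [← Module.End.mul_apply, h22]
  have hk1 : aeval (A.restrict hinv1) f₁ = 0 := by
    apply LinearMap.ext
    intro v
    apply Subtype.ext
    rw [aeval_restrict, LinearMap.zero_apply, Submodule.coe_zero, ← hfix1 v.1 v.2,
      ← Module.End.mul_apply, hA1, LinearMap.zero_apply]
  have hk2 : aeval (A.restrict hinv2) f₂ = 0 := by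
    apply LinearMap.ext
    intro v
    apply Subtype.ext
    rw [aeval_restrict, LinearMap.zero_apply, Submodule.coe_zero, ← hfix2 v.1 v.2,
      ← Module.End.mul_apply, hA2, LinearMap.zero_apply]
  obtain ⟨ψ₁, hψ₁⟩ := conj_irr_lin f₁ hf₁ (A.restrict hinv1) B₁ hk1 hB1 hd1
  obtain ⟨ψ₂, hψ₂⟩ := conj_irr_lin f₂ hf₂ (A.restrict hinv2) B₂ hk2 hB2 hd2
  let ψl : V →ₗ[K] (W₁ × W₂) :=
    (ψ₁.toLinearMap.comp e₁.rangeRestrict).prod (ψ₂.toLinearMap.comp e₂.rangeRestrict)
  have hψl : ∀ v, ψl v = (ψ₁ (e₁.rangeRestrict v), ψ₂ (e₂.rangeRestrict v)) := fun v => rfl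
  have hdec : ∀ v, v = e₁ v + e₂ v := by
    intro v
    rw [← LinearMap.add_apply, hsum, Module.End.one_apply]
  have hinj : Function.Injective ψl := by
    rw [← LinearMap.ker_eq_bot, LinearMap.ker_eq_bot']
    intro v hv
    rw [hψl, Prod.mk_eq_zero] at hv
    have h1 : e₁.rangeRestrict v = 0 := ψ₁.map_eq_zero_iff.1 hv.1
    have h2 : e₂.rangeRestrict v = 0 := ψ₂.map_eq_zero_iff.1 hv.2
    have h1' : e₁ v = 0 := congrArg Subtype.val h1
    have h2' : e₂ v = 0 := congrArg Subtype.val h2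
    rw [hdec v, h1', h2', add_zero]
  have hsurj : Function.Surjective ψl := by
    rintro ⟨w₁, w₂⟩
    refine ⟨(ψ₁.symm w₁ : V) + (ψ₂.symm w₂ : V), ?_⟩
    rw [hψl]
    have a1 : e₁.rangeRestrict ((ψ₁.symm w₁ : V) + (ψ₂.symm w₂ : V)) = ψ₁.symm w₁ := by
      apply Subtype.ext
      show e₁ ((ψ₁.symm w₁ : V) + (ψ₂.symm w₂ : V)) = _
      rw [map_add, hfix1 _ (ψ₁.symm w₁).2]
      obtain ⟨u, hu⟩ := (ψ₂.symm w₂).2
      rw [← hu, ← Module.End.mul_apply, h12, LinearMap.zero_apply, add_zero]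
    have a2 : e₂.rangeRestrict ((ψ₁.symm w₁ : V) + (ψ₂.symm w₂ : V)) = ψ₂.symm w₂ := by
      apply Subtype.ext
      show e₂ ((ψ₁.symm w₁ : V) + (ψ₂.symm w₂ : V)) = _
      rw [map_add, hfix2 _ (ψ₂.symm w₂).2]
      obtain ⟨u, hu⟩ := (ψ₁.symm w₁).2
      rw [← hu, ← Module.End.mul_apply, h21, LinearMap.zero_apply, zero_add]
    rw [a1, a2, LinearEquiv.apply_symm_apply, LinearEquiv.apply_symm_apply]
  refine ⟨LinearEquiv.ofBijective ψl ⟨hinj, hsurj⟩, fun v => ?_⟩
  show ψl (A v) = (B₁.prodMap B₂) (ψl v)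
  rw [hψl, hψl, LinearMap.prodMap_apply]
  have b1 : e₁.rangeRestrict (A v) = (A.restrict hinv1) (e₁.rangeRestrict v) := by
    apply Subtype.ext
    show e₁ (A v) = A (e₁ v)
    rw [← Module.End.mul_apply, ← Module.End.mul_apply, hc1.eq]
  have b2 : e₂.rangeRestrict (A v) = (A.restrict hinv2) (e₂.rangeRestrict v) := by
    apply Subtype.ext
    show e₂ (A v) = A (e₂ v)
    rw [← Module.End.mul_apply, ← Module.End.mul_apply, hc2.eq]
  rw [b1, b2, hψ₁, hψ₂]

end conj

end Cfsg.Agent.H4PSUSpec
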