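import Mathlib
import Cfsg.Agent.Lib.Helper4.PSpSpecB
import Cfsg.Agent.Lib.Helper4.PSUSpecB

namespace Cfsg.Agent.H4PSUSpec

open Polynomial Matrix
open Cfsg.Agent.H4PSpSpec (rhoMat rhoMat_root rhoMat_injective)

section frob

variable {F : Type*} [Field F] (p a : ℕ) [Fact p.Prime] [CharP F p]

/-- Frobenius twist of polynomial evaluation in a commutative algebra of characteristic `p` -/
theorem aeval_frob_pow [Fintype F] (hF : Fintype.card F = (p ^ a) ^ 2) {R : Type*} [CommRing R]
    [Algebra F R] [CharP R p] (w : R) (P : F[X]) :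
    aeval (w ^ p ^ a) P = (aeval w (P.map (sig p a))) ^ p ^ a := by
  have h1 : (aeval w (P.map (sig p a))) ^ p ^ a =
      iterateFrobenius R p a (aeval w (P.map (sig p a))) := (iterateFrobenius_def p a _).symm
  have h2 : ((iterateFrobenius R p a).comp (algebraMap F R)).comp (sig p a) = algebraMap F R := by
    ext c
    simp only [RingHom.comp_apply]
    rw [iterateFrobenius_def, ← map_pow, ← sig_apply p a, sig_sig p a hF]
  rw [h1]
  conv_rhs => rw [Polynomial.aeval_def, Polynomial.hom_eval₂, Polynomial.eval₂_map, h2,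
    iterateFrobenius_def]
  rw [Polynomial.aeval_def]

end frob

section frobU

variable {F : Type*} [Field F] [Fintype F] (p a : ℕ) [Fact p.Prime] [CharP F p] {n : ℕ} [NeZero n]

/-- for a unitary `x` with irreducible minimal polynomial, `x⁻ᵠ` is a Frobenius conjugate of `x`
and the degree is odd -/
theorem frobU (hF : Fintype.card F = (p ^ a) ^ 2) (x : Matrix (Fin n) (Fin n) F)
    (hirr : Irreducible (minpoly F x)) (hx : x * hadj (sig p a) x = 1) {b : ℕ} (hb0 : 0 < b)
    (hxb : x ^ b = 1) :
    Odd (minpoly F x).natDegree ∧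
      ∃ i : ℕ, (x ^ (b - 1)) ^ p ^ a = x ^ (Fintype.card F ^ i) := by
  haveI : Fact (Irreducible (minpoly F x)) := ⟨hirr⟩
  set μ := minpoly F x with hμ
  let K := AdjoinRoot μ
  haveI : Module.Finite F K := (AdjoinRoot.powerBasis hirr.ne_zero).finite
  haveI : Finite K := Module.finite_of_finite F
  haveI : CharP K p := charP_of_injective_algebraMap (algebraMap F K).injective p
  have hdeg : Module.finrank F K = μ.natDegree := by
    rw [(AdjoinRoot.powerBasis hirr.ne_zero).finrank, AdjoinRoot.powerBasis_dim]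
  set r : K := AdjoinRoot.root μ with hr
  have hinj := rhoMat_injective x hirr
  have hρr : rhoMat x r = x := rhoMat_root x
  have hrb : r ^ b = 1 := by
    apply hinj
    rw [map_pow, hρr, hxb, map_one]
  -- the adjoint relation
  have hadjx := hadj_eq_pow (sig p a) hx hb0 hxb
  have hroot0 : aeval (x ^ (b - 1)) (μ.map (sig p a)) = 0 := by
    rw [← hadjx, ← hadj_aeval, minpoly.aeval, hadj_zero]
  have hroot1 : aeval (r ^ (b - 1)) (μ.map (sig p a)) = 0 := by
    apply hinj
    rw [← Polynomial.aeval_algHom_apply, map_pow, hρr, hroot0, map_zero]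
  have hroot : aeval ((r ^ (b - 1)) ^ p ^ a) μ = 0 := by
    rw [aeval_frob_pow p a hF, hroot1, zero_pow (pow_ne_zero _ (Fact.out : p.Prime).ne_zero)]
  let s : K →ₐ[F] K := AdjoinRoot.liftAlgHom μ (Algebra.ofId F K) ((r ^ (b - 1)) ^ p ^ a) (by
    have := hroot
    rw [Polynomial.aeval_def] at this
    exact this)
  have hsr : s r = (r ^ (b - 1)) ^ p ^ a := AdjoinRoot.liftAlgHom_root _ _ _ _
  obtain ⟨⟨j, hj⟩, hjs⟩ := (FiniteField.bijective_frobeniusAlgHom_pow F K).2 s
  simp only at hjs
  have hfpow : ∀ (i : ℕ) (y : K),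
      ((FiniteField.frobeniusAlgHom F K) ^ i) y = y ^ (Fintype.card F ^ i) := by
    intro i y
    rw [AlgHom.coe_pow, FiniteField.coe_frobeniusAlgHom, pow_iterate]
  have hrj : (r ^ (b - 1)) ^ p ^ a = r ^ (Fintype.card F ^ j) := by
    rw [← hsr, ← hjs, hfpow]
  have hr0 : r ≠ 0 := by
    intro h
    rw [h, zero_pow hb0.ne'] at hrb
    exact zero_ne_one hrb
  have hrinv : r ^ (b - 1) = r⁻¹ := by
    apply eq_inv_of_mul_eq_one_left
    rw [← pow_succ, Nat.sub_add_cancel hb0, hrb]
  constructor
  · -- s (s r) = r ^ Q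
    have hss : s (s r) = r ^ Fintype.card F := by
      have hy : (r ^ (b - 1)) ^ (b - 1) = r := by
        rw [hrinv, inv_pow, hrinv, inv_inv]
      have he : p ^ a * ((b - 1) * p ^ a) = (b - 1) * (p ^ a * p ^ a) := by ring
      rw [hsr, map_pow, map_pow, hsr, ← pow_mul, ← pow_mul, he, pow_mul, hy, hF, pow_two]
    have hss2 : s (s r) = r ^ (Fintype.card F ^ (2 * j)) := by
      rw [← hjs, hfpow, hfpow, ← pow_mul, ← pow_add, two_mul]
    have heq : (FiniteField.frobeniusAlgHom F K) ^ (2 * j) = (FiniteField.frobeniusAlgHom F K) ^ 1 := by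
      apply AdjoinRoot.algHom_ext
      rw [hfpow, hfpow, pow_one, ← hss2, hss]
    have hord : orderOf (FiniteField.frobeniusAlgHom F K) = μ.natDegree := by
      rw [← hdeg]; exact FiniteField.orderOf_frobeniusAlgHom F K
    have hdpos : 0 < μ.natDegree := Irreducible.natDegree_pos hirr
    have h1 : (FiniteField.frobeniusAlgHom F K) ^ (2 * j + (μ.natDegree - 1)) = 1 := by
      rw [pow_add, heq, ← pow_add, Nat.add_sub_cancel' hdpos, ← hord, pow_orderOf_eq_one]
    have h2 : μ.natDegree ∣ 2 * j + (μ.natDegree - 1) := by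
      have := orderOf_dvd_of_pow_eq_one h1
      rwa [hord] at this
    by_contra hodd
    rw [Nat.not_odd_iff_even] at hodd
    obtain ⟨c, hc⟩ := hodd
    obtain ⟨e, he⟩ := h2
    have h3 : μ.natDegree * e = 2 * (c * e) := by rw [hc]; ring
    omega
  · refine ⟨j, ?_⟩
    have := congrArg (rhoMat x) hrj
    rw [map_pow, map_pow, map_pow, hρr] at this
    exact this

end frobU

end Cfsg.Agent.H4PSUSpec
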