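import Mathlib
import Cfsg.Agent.Lib.Helper4.PSUSpecC
import Cfsg.Agent.Lib.Helper4.PSUSpecD
import Cfsg.Agent.Lib.Helper4.PSUSpecE

namespace Cfsg.Agent.H4PSUSpec

open Polynomial Matrix Module
open Cfsg.Agent.H4PSpSpec (nilp_pow_mul_idem)

universe u

section general

variable {F : Type u} [Field F]

/-- the element is hit by the torus `S`: some member has the same determinant and the same scalar
power relations -/
def Hits {n : ℕ} (S : Submonoid (Matrix (Fin n) (Fin n) F)) (x : Matrix (Fin n) (Fin n) F) : Prop :=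
  ∃ C ∈ S, C.det = x.det ∧ ∀ (j : ℕ) (l : F), C ^ j = l • 1 ↔ x ^ j = l • 1

theorem algEquiv_pow_eq_smul_iff {A B : Type*} [Ring A] [Ring B] [Algebra F A] [Algebra F B]
    (Θ : A ≃ₐ[F] B) (x : A) (j : ℕ) (l : F) : (Θ x) ^ j = l • 1 ↔ x ^ j = l • 1 := by
  rw [← map_pow]
  constructor
  · intro h
    apply Θ.injective
    rw [h, map_smul, map_one]
  · intro h
    rw [h, map_smul, map_one]

/-- transfer of polynomial identities along a root of the minimal polynomial -/
theorem transfer_root {n : ℕ} (x : Matrix (Fin n) (Fin n) F) {E : Type*} [Field E] [Algebra F E]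
    {θ : E} (hθ : aeval θ (minpoly F x) = 0) {P : F[X]} (hP : aeval x P = 0) : aeval θ P = 0 := by
  obtain ⟨R, rfl⟩ := minpoly.dvd F x hP
  rw [map_mul, hθ, zero_mul]

theorem trace_pow_char {L : Type*} [Field L] [Finite L] [Algebra F L] (p : ℕ) [Fact p.Prime]
    [CharP F p] (w : L) (m : ℕ) :
    Algebra.trace F L (w ^ p ^ m) = (Algebra.trace F L w) ^ p ^ m := by
  haveI : CharP L p := charP_of_injective_algebraMap (algebraMap F L).injective p
  apply (algebraMap F L).injective
  rw [FiniteField.algebraMap_trace_eq_sum_pow, map_pow (algebraMap F L),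
    FiniteField.algebraMap_trace_eq_sum_pow, sum_pow_char_pow]
  apply Finset.sum_congr rfl
  intro i _
  rw [← pow_mul, ← pow_mul, mul_comm]

theorem pow_q_odd [Fintype F] {q : ℕ} (hF : Fintype.card F = q ^ 2) {n : ℕ} (hn : Odd n) (c : F) :
    c ^ q ^ n = c ^ q := by
  obtain ⟨t, rfl⟩ := hn
  have h1 : q ^ (2 * t + 1) = (q ^ 2) ^ t * q := by rw [pow_succ, pow_mul]
  rw [h1, pow_mul, ← hF, FiniteField.pow_card_pow]

end general

section periodic

variable {E : Type*} [Field E] [Fintype E]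

/-- the parity argument: `θ^(q^j) = θ⁻¹` with `j` odd and `θ^(q^(2n)) = θ` with `n` odd give
`θ^(q^n) = θ⁻¹` -/
theorem inv_of_frob_odd {q : ℕ} {θ : E} {j n : ℕ} (hj : Odd j) (hn : Odd n)
    (h1 : θ ^ q ^ j = θ⁻¹) (h2 : θ ^ q ^ (2 * n) = θ) : θ ^ q ^ n = θ⁻¹ := by
  let f : E → E := fun y => y ^ q
  have hf : ∀ (k : ℕ) (y : E), f^[k] y = y ^ q ^ k := fun k y => congrFun (pow_iterate q k) y
  have hp1 : Function.IsPeriodicPt f (2 * j) θ := by
    show f^[2 * j] θ = θ
    rw [two_mul, Function.iterate_add_apply, hf, hf, h1, inv_pow, h1, inv_inv]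
  have hp2 : Function.IsPeriodicPt f (2 * n) θ := by
    show f^[2 * n] θ = θ
    rw [hf, h2]
  have hp3 := hp1.gcd hp2
  rw [Nat.gcd_mul_left] at hp3
  set g := Nat.gcd j n with hg
  obtain ⟨j', hj'⟩ : g ∣ j := Nat.gcd_dvd_left j n
  obtain ⟨n', hn'⟩ : g ∣ n := Nat.gcd_dvd_right j n
  have hgodd : Odd g := by
    rw [hn'] at hn
    exact (Nat.odd_mul.1 hn).1
  have hj'odd : Odd j' := by
    rw [hj'] at hj
    exact (Nat.odd_mul.1 hj).2
  have hn'odd : Odd n' := by
    rw [hn'] at hn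
    exact (Nat.odd_mul.1 hn).2
  have hper : ∀ t : ℕ, f^[2 * g * t] θ = θ := fun t => (hp3.mul_const t)
  rcases le_total n' j' with hle | hle
  · obtain ⟨t, ht⟩ : ∃ t, j' = n' + 2 * t := by
      obtain ⟨c1, hc1⟩ := hj'odd
      obtain ⟨c2, hc2⟩ := hn'odd
      exact ⟨c1 - c2, by omega⟩
    have hjn : j = n + 2 * g * t := by rw [hj', hn', ht]; ring
    have : f^[j] θ = f^[n] θ := by
      rw [hjn, Function.iterate_add_apply, hper]
    rw [← hf, ← this, hf, h1]
  · obtain ⟨t, ht⟩ : ∃ t, n' = j' + 2 * t := by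
      obtain ⟨c1, hc1⟩ := hj'odd
      obtain ⟨c2, hc2⟩ := hn'odd
      exact ⟨c2 - c1, by omega⟩
    have hjn : n = j + 2 * g * t := by rw [hj', hn', ht]; ring
    have : f^[n] θ = f^[j] θ := by
      rw [hjn, Function.iterate_add_apply, hper]
    rw [← hf, this, hf, h1]

end periodic

section torusOdd

variable {F : Type u} [Field F] [Fintype F] (p a : ℕ) [Fact p.Prime] [CharP F p]

theorem aeval_toLin' {n : ℕ} (x : Matrix (Fin n) (Fin n) F) (P : F[X]) :
    aeval (Matrix.toLin' x) P = Matrix.toLin' (aeval x P) := by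
  have := Polynomial.aeval_algHom_apply (Matrix.toLinAlgEquiv' : Matrix (Fin n) (Fin n) F ≃ₐ[F] _).toAlgHom x P
  exact this

theorem aeval_lmul {E : Type*} [Field E] [Algebra F E] (θ : E) (P : F[X]) :
    aeval (Algebra.lmul F E θ) P = Algebra.lmul F E (aeval θ P) :=
  Polynomial.aeval_algHom_apply (Algebra.lmul F E) θ P

theorem exists_torus_odd (hF : Fintype.card F = (p ^ a) ^ 2) {n : ℕ} [NeZero n] (hn : Odd n) :
    ∃ S : Submonoid (Matrix (Fin n) (Fin n) F), (∀ C ∈ S, C * hadj (sig p a) C = 1) ∧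
      (∀ C ∈ S, ∀ D ∈ S, Commute C D) ∧
      ∀ (x : Matrix (Fin n) (Fin n) F), x * hadj (sig p a) x = 1 → ∀ b : ℕ, 0 < b → x ^ b = 1 →
        Irreducible (minpoly F x) → Hits S x := by
  classical
  have hp : p.Prime := Fact.out
  let E := FiniteField.Extension F p n
  haveI : Fintype E := Fintype.ofFinite E
  haveI : CharP E p := charP_of_injective_algebraMap (algebraMap F E).injective p
  have hcardE : Fintype.card E = (p ^ a) ^ (2 * n) := by
    rw [Fintype.card_eq_nat_card, FiniteField.natCard_extension, Nat.card_eq_fintype_card, hF,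
      ← pow_mul]
  let τ : E →+* E := iterateFrobenius E p (a * n)
  have hτ : ∀ y : E, τ y = y ^ (p ^ a) ^ n := by
    intro y
    show iterateFrobenius E p (a * n) y = _
    rw [iterateFrobenius_def, pow_mul]
  have hττ : ∀ y : E, τ (τ y) = y := by
    intro y
    rw [hτ, hτ, ← pow_mul, ← pow_add, ← two_mul, ← hcardE, FiniteField.pow_card]
  have hτF : ∀ c : F, τ (algebraMap F E c) = algebraMap F E (sig p a c) := by
    intro c
    rw [hτ, ← map_pow, pow_q_odd hF hn, sig_apply]
  have hτsurj : Function.Surjective τ := fun y => ⟨τ y, hττ y⟩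
  have htrτ : ∀ w : E, Algebra.trace F E (τ w) = sig p a (Algebra.trace F E w) := by
    intro w
    show Algebra.trace F E (iterateFrobenius E p (a * n) w) = _
    rw [iterateFrobenius_def, trace_pow_char p w (a * n), pow_mul, pow_q_odd hF hn, sig_apply]
  let h : E → E → F := fun y z => Algebra.trace F E (y * τ z)
  have hh0 : ∀ y z, h y z = Algebra.trace F E (y * τ z) := fun y z => rfl
  have ha : ∀ y y' z, h (y + y') z = h y z + h y' z := by
    intro y y' z
    rw [hh0, hh0, hh0, add_mul, map_add]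
  have hs : ∀ (c : F) y z, h (c • y) z = c * h y z := by
    intro c y z
    rw [hh0, hh0, smul_mul_assoc, map_smul, smul_eq_mul]
  have hh : ∀ y z, h z y = sig p a (h y z) := by
    intro y z
    rw [hh0, hh0, ← htrτ, map_mul τ, hττ, mul_comm]
  have hnd : ∀ y, (∀ z, h y z = 0) → y = 0 := by
    intro y hy
    have h1 : ∀ z, Algebra.traceForm F E y z = 0 := by
      intro z
      obtain ⟨z', rfl⟩ := hτsurj z
      rw [Algebra.traceForm_apply]
      exact hy z'
    exact (traceForm_nondegenerate F E).1 _ h1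
  obtain ⟨Φ, hΦu, hΦd⟩ := abs_to_gu p a hF h ha hs hh hnd (FiniteField.finrank_extension F p n)
  let U : Submonoid E :=
    { carrier := {θ | θ * τ θ = 1}
      mul_mem' := by
        intro x y hx hy
        show x * y * τ (x * y) = 1
        rw [map_mul τ, mul_mul_mul_comm, show x * τ x = 1 from hx, show y * τ y = 1 from hy, one_mul]
      one_mem' := by simp }
  let g : E →ₐ[F] Matrix (Fin n) (Fin n) F := Φ.toAlgHom.comp (Algebra.lmul F E)
  have hg : ∀ θ, g θ = Φ (Algebra.lmul F E θ) := fun θ => rfl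
  refine ⟨U.map (g : E →* Matrix (Fin n) (Fin n) F), ?_, ?_, ?_⟩
  · rintro C ⟨θ, hθ, rfl⟩
    show g θ * hadj (sig p a) (g θ) = 1
    rw [hg]
    apply hΦu
    intro y z
    show h (θ * y) (θ * z) = h y z
    rw [hh0, hh0, map_mul τ]
    have : θ * y * (τ θ * τ z) = (θ * τ θ) * (y * τ z) := by ring
    rw [this, show θ * τ θ = 1 from hθ, one_mul]
  · rintro C ⟨θ₁, -, rfl⟩ D ⟨θ₂, -, rfl⟩
    show g θ₁ * g θ₂ = g θ₂ * g θ₁
    rw [← map_mul, ← map_mul, mul_comm]
  · intro x hx b hb0 hxb hirr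
    haveI : Fact (Irreducible (minpoly F x)) := ⟨hirr⟩
    set μ := minpoly F x with hμ
    -- degree divides n
    obtain ⟨hd, -⟩ := nilp_pow_mul_idem x 0 1 hirr ⟨1, by simp⟩ (Commute.zero_left x)
      (Commute.one_left x) (Commute.zero_left 1)
    rw [Matrix.rank_one, Fintype.card_fin] at hd
    let K := AdjoinRoot μ
    haveI : Module.Finite F K := (AdjoinRoot.powerBasis hirr.ne_zero).finite
    have hdeg : Module.finrank F K = μ.natDegree := by
      rw [(AdjoinRoot.powerBasis hirr.ne_zero).finrank, AdjoinRoot.powerBasis_dim]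
    obtain ⟨ι⟩ := FiniteField.nonempty_algHom_of_finrank_dvd (F := F) (K := K) (L := E)
      (by rw [FiniteField.finrank_extension, hdeg]; exact hd)
    set θ : E := ι (AdjoinRoot.root μ) with hθdef
    have hθ : aeval θ μ = 0 := by
      rw [hθdef, Polynomial.aeval_algHom_apply, AdjoinRoot.aeval_eq, AdjoinRoot.mk_self, map_zero]
    obtain ⟨-, i, hi⟩ := frobU p a hF x hirr hx hb0 hxb
    have hθb : θ ^ b = 1 := by
      have h1 : aeval x (X ^ b - 1 : F[X]) = 0 := by
        rw [map_sub, map_pow, aeval_X, map_one, hxb, sub_self]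
      have := transfer_root x hθ h1
      rw [map_sub, map_pow, aeval_X, map_one, sub_eq_zero] at this
      exact this
    have hθi : (θ ^ (b - 1)) ^ p ^ a = θ ^ (Fintype.card F ^ i) := by
      have h1 : aeval x ((X ^ (b - 1)) ^ p ^ a - X ^ (Fintype.card F ^ i) : F[X]) = 0 := by
        rw [map_sub, map_pow, map_pow, map_pow, aeval_X, hi, sub_self]
      have := transfer_root x hθ h1
      rw [map_sub, map_pow, map_pow, map_pow, aeval_X, sub_eq_zero] at this
      exact this
    have hθ0 : θ ≠ 0 := by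
      intro h0
      rw [h0, zero_pow hb0.ne'] at hθb
      exact zero_ne_one hθb
    have hθinv : θ ^ (b - 1) = θ⁻¹ := by
      apply eq_inv_of_mul_eq_one_left
      rw [← pow_succ, Nat.sub_add_cancel hb0, hθb]
    -- θ^(q^j) = θ⁻¹ for odd j
    have hθ2n : ∀ y : E, y ^ (p ^ a) ^ (2 * n) = y := by
      intro y
      rw [← hcardE, FiniteField.pow_card]
    have hn0 : 0 < n := Nat.pos_of_ne_zero (NeZero.ne n)
    have hj : θ ^ (p ^ a) ^ (2 * i + (2 * n - 1)) = θ⁻¹ := by
      have e1 : (p ^ a) ^ (2 * i + (2 * n - 1)) = (Fintype.card F ^ i) * (p ^ a) ^ (2 * n - 1) := by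
        rw [hF, ← pow_mul (p ^ a) 2 i, ← pow_add]
      have e2 : p ^ a * (p ^ a) ^ (2 * n - 1) = (p ^ a) ^ (2 * n) := by
        rw [← pow_succ', Nat.sub_add_cancel (by omega)]
      rw [e1, pow_mul, ← hθi, hθinv, ← pow_mul, e2, hθ2n]
    have hτθ : θ * τ θ = 1 := by
      rw [hτ, inv_of_frob_odd (q := p ^ a) (j := 2 * i + (2 * n - 1)) (n := n)
        ⟨i + n - 1, by omega⟩ hn hj (hθ2n θ), mul_inv_cancel₀ hθ0]
    -- conjugacy
    obtain ⟨ψ, hψ⟩ := conj_irr_lin μ hirr (Matrix.toLin' x) (Algebra.lmul F E θ)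
      (by rw [aeval_toLin', minpoly.aeval, map_zero]) (by rw [aeval_lmul, hθ, map_zero])
      (by rw [Module.finrank_fin_fun, FiniteField.finrank_extension])
    let Θ : Matrix (Fin n) (Fin n) F ≃ₐ[F] Matrix (Fin n) (Fin n) F :=
      (Matrix.toLinAlgEquiv' : Matrix (Fin n) (Fin n) F ≃ₐ[F] _).trans
        ((LinearEquiv.conjAlgEquiv F ψ).trans Φ)
    have hΘ1 : LinearEquiv.conjAlgEquiv F ψ (Matrix.toLin' x) = Algebra.lmul F E θ := by
      rw [LinearEquiv.conjAlgEquiv_apply]
      apply LinearMap.ext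
      intro e
      simp only [LinearMap.comp_apply, LinearEquiv.coe_coe]
      rw [hψ, LinearEquiv.apply_symm_apply]
    have hΘ : Θ x = g θ := by
      show Φ (LinearEquiv.conjAlgEquiv F ψ (Matrix.toLin' x)) = _
      rw [hΘ1, hg]
    refine ⟨g θ, ⟨θ, hτθ, rfl⟩, ?_, fun j l => ?_⟩
    · rw [hg, hΦd, ← hΘ1, LinearEquiv.conjAlgEquiv_apply]
      exact (LinearMap.det_conj (Matrix.toLin' x) ψ).trans (LinearMap.det_toLin' x)
    · rw [← hΘ]
      exact algEquiv_pow_eq_smul_iff Θ x j l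

end torusOdd

end Cfsg.Agent.H4PSUSpec
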