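import Mathlib
import Cfsg.Agent.Lib.Helper4.PSpSpecA
import Cfsg.Agent.Lib.Helper4.PSpSpecB
import Cfsg.Agent.Lib.Helper4.PSpSpecC

namespace Cfsg.Agent.H4PSpSpec

open Polynomial Matrix

section red

variable {F : Type*} [Field F] {l : Type*} [Fintype l] [DecidableEq l] [Nonempty l]

theorem adj_eq_pow {x : Matrix (l ⊕ l) (l ⊕ l) F} (hx : x * adj x = 1) {a : ℕ} (ha0 : 0 < a)
    (hxa : x ^ a = 1) : adj x = x ^ (a - 1) := by
  have h1 : adj x * x = 1 := mul_eq_one_comm.1 hx
  have h2 : x * x ^ (a - 1) = 1 := by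
    rw [← pow_succ', Nat.sub_add_cancel ha0, hxa]
  calc adj x = adj x * (x * x ^ (a - 1)) := by rw [h2, mul_one]
    _ = (adj x * x) * x ^ (a - 1) := by rw [mul_assoc]
    _ = x ^ (a - 1) := by rw [h1, one_mul]

theorem reducible_case (h2 : (2 : F) ≠ 0) (x : Matrix (l ⊕ l) (l ⊕ l) F) (hx : x * adj x = 1)
    {a : ℕ} (ha0 : 0 < a) (hxa : x ^ a = 1) (haF : (a : F) ≠ 0)
    (hred : ¬ Irreducible (minpoly F x)) :
    Good x ∨ ∃ (e₁ : Matrix (l ⊕ l) (l ⊕ l) F) (f₁ : F[X]), Irreducible f₁ ∧ e₁ * e₁ = e₁ ∧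
      e₁ + adj e₁ = 1 ∧ e₁ * adj e₁ = 0 ∧ aeval x f₁ * e₁ = 0 ∧
      (∀ y : Matrix (l ⊕ l) (l ⊕ l) F, Commute y x → Commute y e₁) := by
  have hint : IsIntegral F x := Matrix.isIntegral x
  obtain ⟨f₁, f₂, hμ, hc, hf₁, hf₂⟩ := exists_irreducible_coprime_factor (minpoly.ne_zero hint)
    (minpoly.not_isUnit F x) (squarefree_minpoly_of_pow x hxa haF) hred
  obtain ⟨E₁, E₂, hsum, hd1, hd2, hne1, hne2⟩ := exists_idem_poly x hμ hc hf₁.not_isUnit hf₂
  set e₁ := aeval x E₁ with he₁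
  set e₂ := aeval x E₂ with he₂
  have hs : e₁ + e₂ = 1 := by rw [he₁, he₂, ← map_add, hsum, map_one]
  have h12 : e₁ * e₂ = 0 := by
    rw [he₁, he₂, ← map_mul]
    exact aeval_eq_zero_of_dvd x hμ hc (hd2.mul_left _) (hd1.mul_right _)
  have h11 : e₁ * e₁ = e₁ := by
    calc e₁ * e₁ = e₁ * (e₁ + e₂) := by rw [mul_add, h12, add_zero]
      _ = e₁ := by rw [hs, mul_one]
  have hadjx := adj_eq_pow hx ha0 hxa
  set Q := E₁.comp (X ^ (a - 1)) with hQ
  have hadje : adj e₁ = aeval x Q := by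
    rw [he₁, adj_aeval, hadjx, hQ, aeval_comp, map_pow, aeval_X]
  have hcomm_e : ∀ y : Matrix (l ⊕ l) (l ⊕ l) F, Commute y x → Commute y e₁ :=
    fun y hy => commute_aeval' hy _
  have hcomm_ae : ∀ y : Matrix (l ⊕ l) (l ⊕ l) F, Commute y x → Commute y (adj e₁) := by
    intro y hy; rw [hadje]; exact commute_aeval' hy _
  have hee : Commute e₁ (adj e₁) := hcomm_ae e₁ (hcomm_e x (Commute.refl x)).symm
  have haa : adj e₁ * adj e₁ = adj e₁ := by rw [← adj_mul, h11]
  set c := e₁ * adj e₁ with hc_def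
  have hcc : c * c = c := by
    rw [hc_def]
    calc e₁ * adj e₁ * (e₁ * adj e₁) = e₁ * (adj e₁ * e₁) * adj e₁ := by
          simp only [mul_assoc]
      _ = e₁ * (e₁ * adj e₁) * adj e₁ := by rw [hee.eq]
      _ = (e₁ * e₁) * (adj e₁ * adj e₁) := by simp only [mul_assoc]
      _ = e₁ * adj e₁ := by rw [h11, haa]
  have hcpoly : c = aeval x (E₁ * Q) := by rw [hc_def, hadje, he₁, ← map_mul]
  have hce : c * e₁ = c := by
    rw [hc_def, mul_assoc, ← hee.eq, ← mul_assoc, h11]
  -- dichotomy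
  have hdvd : minpoly F x ∣ (E₁ * Q) * (E₁ * Q - 1) := by
    apply minpoly.dvd
    rw [map_mul, map_sub, map_one, ← hcpoly, mul_sub, mul_one, hcc, sub_self]
  have hf₁dvd : f₁ ∣ (E₁ * Q) * (E₁ * Q - 1) := (Dvd.intro _ hμ.symm).trans hdvd
  have hc01 : c = 0 ∨ c = e₁ := by
    rcases hf₁.prime.dvd_or_dvd hf₁dvd with h | h
    · left
      rw [← hce, hcpoly, he₁, ← map_mul]
      exact aeval_eq_zero_of_dvd x hμ hc (h.mul_right _) (hd1.mul_left _)
    · right
      have : c * e₁ - e₁ = 0 := by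
        have h3 : c * e₁ - e₁ = aeval x ((E₁ * Q - 1) * E₁) := by
          rw [map_mul, map_sub, map_one, ← hcpoly, sub_mul, one_mul]
        rw [h3]
        exact aeval_eq_zero_of_dvd x hμ hc (h.mul_right _) (hd1.mul_left _)
      rw [← hce]; exact sub_eq_zero.1 this
  have he1ne : e₁ ≠ 1 := by
    intro h
    apply hne2
    have : e₂ = 0 := by
      have := hs
      rw [h] at this
      exact add_eq_left.1 this
    exact this
  rcases hc01 with h0 | h1
  · -- orthogonal case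
    set e := e₁ + adj e₁ with he
    have hae1 : adj e₁ * e₁ = 0 := by rw [← hee.eq]; exact h0
    have heid : e * e = e := by
      rw [he, add_mul, mul_add, mul_add, h11, haa, hae1]
      rw [show e₁ * adj e₁ = 0 from h0]; simp
    have headj : adj e = e := by rw [he, adj_add, adj_adj, add_comm]
    have hene : e ≠ 0 := by
      intro h
      have : e * e₁ = e₁ := by rw [he, add_mul, h11, hae1, add_zero]
      rw [h, zero_mul] at this
      exact hne1 this.symm
    by_cases he1 : e = 1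
    · right
      refine ⟨e₁, f₁, hf₁, h11, he1, h0, ?_, hcomm_e⟩
      rw [he₁, ← map_mul]
      exact aeval_eq_zero_of_dvd x hμ hc (dvd_mul_right _ _) (hd1.mul_left _)
    · left
      exact good_of_idem h2 x e heid headj hene he1
        (fun y hy => (hcomm_e y hy).add_right (hcomm_ae y hy))
  · -- self-adjoint case
    left
    have hadj1 : adj e₁ = e₁ := by
      have h3 : adj c = c := by
        rw [hc_def, adj_mul, adj_adj, hee.eq]
      rw [h1] at h3
      have h4 : e₁ * adj e₁ = e₁ := h1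
      have h5 : e₁ * adj e₁ = adj e₁ := by
        have := congrArg adj h4
        rw [adj_mul, adj_adj] at this
        exact this
      rw [← h5, h4]
    exact good_of_idem h2 x e₁ h11 hadj1 hne1 he1ne hcomm_e

end red

end Cfsg.Agent.H4PSpSpec
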