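import Mathlib
import Cfsg.Agent.Lib.Helper4.PSpSpecD

namespace Cfsg.Agent.H4PSpSpec

open Polynomial Matrix

section idem

variable {F : Type*} [Field F] {ι : Type*} [Fintype ι] [DecidableEq ι]

theorem rank_add_rank_of_idem (e : Matrix ι ι F) (he : e * e = e) :
    e.rank + (1 - e).rank = Fintype.card ι := by
  have h1 : LinearMap.range (1 - e).mulVecLin = LinearMap.ker e.mulVecLin := by
    ext v
    simp only [LinearMap.mem_range, LinearMap.mem_ker, Matrix.mulVecLin_apply]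
    constructor
    · rintro ⟨w, rfl⟩
      rw [Matrix.mulVec_mulVec, mul_sub, mul_one, he, sub_self, Matrix.zero_mulVec]
    · intro hv
      refine ⟨v, ?_⟩
      rw [Matrix.sub_mulVec, Matrix.one_mulVec, hv, sub_zero]
  have h2 := LinearMap.finrank_range_add_finrank_ker e.mulVecLin
  rw [Module.finrank_fintype_fun_eq_card] at h2
  rw [← h2]
  show Module.finrank F (LinearMap.range e.mulVecLin) +
    Module.finrank F (LinearMap.range (1 - e).mulVecLin) = _
  rw [h1]

/-- powers of an element split along complementary commuting idempotents -/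
theorem idem_split_pow {R : Type*} [Ring R] {e₁ e₂ y₁ y₂ : R} (hs : e₁ + e₂ = 1)
    (h12 : e₁ * e₂ = 0) (h21 : e₂ * e₁ = 0) (h11 : e₁ * e₁ = e₁) (h22 : e₂ * e₂ = e₂)
    (c11 : Commute e₁ y₁) (c12 : Commute e₁ y₂) (c21 : Commute e₂ y₁) (c22 : Commute e₂ y₂)
    (k : ℕ) : (y₁ * e₁ + y₂ * e₂) ^ k = y₁ ^ k * e₁ + y₂ ^ k * e₂ := by
  induction k with
  | zero => simp [hs]
  | succ k ih =>
    rw [pow_succ, ih, add_mul, mul_add, mul_add]
    have t1 : y₁ ^ k * e₁ * (y₁ * e₁) = y₁ ^ (k + 1) * e₁ := by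
      rw [mul_assoc, ← mul_assoc e₁, c11.eq, mul_assoc y₁, h11, ← mul_assoc, ← pow_succ]
    have t2 : y₁ ^ k * e₁ * (y₂ * e₂) = 0 := by
      rw [mul_assoc, ← mul_assoc e₁, c12.eq, mul_assoc y₂, h12, mul_zero, mul_zero]
    have t3 : y₂ ^ k * e₂ * (y₁ * e₁) = 0 := by
      rw [mul_assoc, ← mul_assoc e₂, c21.eq, mul_assoc y₁, h21, mul_zero, mul_zero]
    have t4 : y₂ ^ k * e₂ * (y₂ * e₂) = y₂ ^ (k + 1) * e₂ := by
      rw [mul_assoc, ← mul_assoc e₂, c22.eq, mul_assoc y₂, h22, ← mul_assoc, ← pow_succ]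
    rw [t1, t2, t3, t4, add_zero, zero_add]

theorem idem_split_aeval {R : Type*} [Ring R] [Algebra F R] {e₁ e₂ y₁ y₂ : R} (hs : e₁ + e₂ = 1)
    (h12 : e₁ * e₂ = 0) (h21 : e₂ * e₁ = 0) (h11 : e₁ * e₁ = e₁) (h22 : e₂ * e₂ = e₂)
    (c11 : Commute e₁ y₁) (c12 : Commute e₁ y₂) (c21 : Commute e₂ y₁) (c22 : Commute e₂ y₂)
    (P : F[X]) : aeval (y₁ * e₁ + y₂ * e₂) P = aeval y₁ P * e₁ + aeval y₂ P * e₂ := by
  induction P using Polynomial.induction_on with
  | C c =>
    rw [aeval_C, aeval_C, aeval_C, ← mul_add, hs, mul_one]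
  | add p q hp hq =>
    rw [map_add, map_add, map_add, hp, hq]; noncomm_ring
  | monomial k c _ =>
    rw [map_mul, map_mul, map_mul, aeval_C, aeval_C, aeval_C, map_pow, map_pow, map_pow, aeval_X,
      aeval_X, aeval_X, idem_split_pow hs h12 h21 h11 h22 c11 c12 c21 c22, mul_add, mul_assoc,
      mul_assoc]

end idem

end Cfsg.Agent.H4PSpSpec

namespace Cfsg.Agent.H4PSpSpec

open Polynomial Matrix

section beta

variable {F : Type*} [Field F] [Fintype F] {l : Type*} [Fintype l] [DecidableEq l] [Nonempty l]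

theorem one_ne_neg_one_mat (h2 : (2 : F) ≠ 0) :
    (1 : Matrix (l ⊕ l) (l ⊕ l) F) ≠ -1 := by
  intro h
  have h3 : (2 : F) • (1 : Matrix (l ⊕ l) (l ⊕ l) F) = 0 := by
    rw [two_smul]
    nth_rewrite 2 [h]
    simp
  rcases smul_eq_zero.1 h3 with h | h
  · exact h2 h
  · exact one_ne_zero h

theorem type_beta (h2 : (2 : F) ≠ 0) (x u e₁ : Matrix (l ⊕ l) (l ⊕ l) F) (f₁ : F[X])
    (hx : x * adj x = 1) {a : ℕ} (ha0 : 0 < a) (hxa : x ^ a = 1) (hf₁ : Irreducible f₁)
    (h11 : e₁ * e₁ = e₁) (hsum : e₁ + adj e₁ = 1) (h12 : e₁ * adj e₁ = 0)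
    (hfe : aeval x f₁ * e₁ = 0)
    (hcomm : ∀ y : Matrix (l ⊕ l) (l ⊕ l) F, Commute y x → Commute y e₁)
    (hux : Commute u x) (hun : IsNilpotent (u - 1)) :
    Good x ∨ ∃ d m : ℕ, 0 < d ∧ d * m = Fintype.card l ∧ x ^ (Fintype.card F ^ d - 1) = 1 ∧
      ¬ 4 ∣ Fintype.card F ^ d - 1 ∧ (u - 1) ^ m = 0 := by
  set e₂ := adj e₁ with he₂
  set xi := adj x with hxi
  have hxi_pow : xi = x ^ (a - 1) := adj_eq_pow hx ha0 hxa
  have hxxi : x * xi = 1 := hx
  have hxix : xi * x = 1 := mul_eq_one_comm.1 hx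
  have he₂' : e₂ = 1 - e₁ := eq_sub_of_add_eq' hsum
  have h21 : e₂ * e₁ = 0 := by rw [he₂', sub_mul, one_mul, h11, sub_self]
  have h22 : e₂ * e₂ = e₂ := by rw [he₂, ← adj_mul, h11]
  -- commutation facts
  have cx : ∀ y : Matrix (l ⊕ l) (l ⊕ l) F, Commute y x → Commute y xi := by
    intro y hy; rw [hxi_pow]; exact hy.pow_right _
  have ce₂ : ∀ y : Matrix (l ⊕ l) (l ⊕ l) F, Commute y x → Commute y e₂ := by
    intro y hy; rw [he₂']; exact (Commute.one_right y).sub_right (hcomm y hy)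
  have c11 : Commute e₁ x := (hcomm x (Commute.refl x)).symm
  have c12 : Commute e₁ xi := (hcomm xi (cx x (Commute.refl x)).symm).symm
  have c21 : Commute e₂ x := (ce₂ x (Commute.refl x)).symm
  have c22 : Commute e₂ xi := (ce₂ xi (cx x (Commute.refl x)).symm).symm
  set x' := x * e₁ + xi * e₂ with hx'
  have cx' : ∀ y : Matrix (l ⊕ l) (l ⊕ l) F, Commute y x → Commute y x' := by
    intro y hy
    exact (hy.mul_right (hcomm y hy)).add_right ((cx y hy).mul_right (ce₂ y hy))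
  -- (β1)
  have hroot : aeval x' f₁ = 0 := by
    rw [hx', idem_split_aeval hsum h12 h21 h11 h22 c11 c12 c21 c22, hfe, zero_add]
    have h3 : adj (aeval x f₁ * e₁) = e₂ * aeval xi f₁ := by
      rw [adj_mul, adj_aeval]
    rw [hfe, adj_zero] at h3
    rw [← (commute_aeval' c22 f₁).eq, ← h3]
  -- (β2)
  have hirr' : Irreducible (minpoly F x') := by
    have hd : minpoly F x' ∣ f₁ := minpoly.dvd F x' hroot
    rcases (hf₁.dvd_iff).1 hd with h | h
    · exact absurd h (minpoly.not_isUnit F x')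
    · exact h.irreducible hf₁
  set d := (minpoly F x').natDegree with hd
  have hdpos : 0 < d := minpoly.natDegree_pos (Matrix.isIntegral x')
  -- ranks
  have hrank2 : e₂.rank = e₁.rank := rank_adj e₁
  have hrank : e₁.rank = Fintype.card l := by
    have := rank_add_rank_of_idem e₁ h11
    rw [← he₂', hrank2, Fintype.card_sum] at this
    omega
  -- (β3)
  set N := u - 1 with hN
  have cNx : Commute N x := (hux.sub_left (Commute.one_left x))
  have cNx' : Commute N x' := cx' N cNx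
  have cNe₁ : Commute N e₁ := hcomm N cNx
  have cNe₂ : Commute N e₂ := ce₂ N cNx
  obtain ⟨hdvd1, hz1⟩ := nilp_pow_mul_idem x' N e₁ hirr' hun cNx' (cx' e₁ c11) cNe₁
  obtain ⟨hdvd2, hz2⟩ := nilp_pow_mul_idem x' N e₂ hirr' hun cNx' (cx' e₂ c21) cNe₂
  rw [hrank2, hrank] at hz2
  rw [hrank] at hz1 hdvd1
  -- (β6)
  have hpow := pow_card_pow_of_irreducible x' hirr'
  rw [← hd] at hpow
  have hqpos : 0 < Fintype.card F ^ d := pow_pos Fintype.card_pos d
  have hsplit := idem_split_pow (R := Matrix (l ⊕ l) (l ⊕ l) F) hsum h12 h21 h11 h22 c11 c12 c21 c22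
    (Fintype.card F ^ d)
  rw [← hx', hpow] at hsplit
  rw [hx'] at hsplit
  obtain ⟨k, hk⟩ : ∃ k, Fintype.card F ^ d = k + 1 := Nat.exists_eq_succ_of_ne_zero hqpos.ne'
  have hk' : Fintype.card F ^ d - 1 = k := by omega
  rw [hk] at hsplit
  have hE1 : x ^ k * e₁ = e₁ := by
    have h3 := congrArg (· * e₁) hsplit
    simp only [add_mul, mul_assoc, h11, h21, mul_zero, add_zero] at h3
    -- h3 : x * e₁ = x ^ (k+1) * e₁
    have h4 := congrArg (xi * ·) h3
    simp only [← mul_assoc, hxix, one_mul] at h4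
    rw [pow_succ', ← mul_assoc, hxix, one_mul] at h4
    exact h4.symm
  have hE2 : x ^ k * e₂ = e₂ := by
    have h3 := congrArg (· * e₂) hsplit
    simp only [add_mul, mul_assoc, h22, h12, mul_zero, zero_add] at h3
    -- h3 : xi * e₂ = xi ^ (k+1) * e₂
    have h4 := congrArg (x * ·) h3
    simp only [← mul_assoc, hxxi, one_mul] at h4
    rw [pow_succ', ← mul_assoc, hxxi, one_mul] at h4
    -- h4 : e₂ = xi ^ k * e₂
    have h5 := congrArg (x ^ k * ·) h4
    simp only [← mul_assoc] at h5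
    rw [← (show Commute x xi from hxxi.trans hxix.symm).mul_pow, hxxi, one_pow, one_mul] at h5
    exact h5
  have hxq : x ^ k = 1 := by
    calc x ^ k = x ^ k * (e₁ + e₂) := by
          rw [hsum, mul_one]
      _ = 1 := by rw [mul_add, hE1, hE2, hsum]
  by_cases h4 : 4 ∣ k
  · left
    obtain ⟨P, hP⟩ := exists_sq_eq_neg_one x' hirr' (by rw [← hd, hk']; exact h4)
    set t' := aeval x' P with ht'
    have hadjx' : adj x' = x' := by
      rw [hx', adj_add, adj_mul, adj_mul, ← he₂, ← hxi, hxi, adj_adj, he₂, adj_adj, ← he₂, ← hxi,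
        c22.eq, c11.eq, add_comm]
    have hadjt' : adj t' = t' := by rw [ht', adj_aeval, hadjx']
    have ct1 : Commute t' e₁ := (commute_aeval' (cx' e₁ c11) P).symm
    have ct2 : Commute t' e₂ := (commute_aeval' (cx' e₂ c21) P).symm
    have hdiff : (e₁ - e₂) * (e₂ - e₁) = -1 := by
      rw [sub_mul, mul_sub, mul_sub, h12, h11, h22, h21, ← hsum]; abel
    have hdiff2 : (e₁ - e₂) * (e₁ - e₂) = 1 := by
      rw [sub_mul, mul_sub, mul_sub, h12, h11, h22, h21, ← hsum]; abel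
    have ctd : Commute t' (e₁ - e₂) := ct1.sub_right ct2
    refine ⟨t' * (e₁ - e₂), ?_, Or.inr ?_, ?_, ?_, ?_⟩
    · rw [adj_mul, adj_sub, adj_adj, ← he₂, hadjt']
      calc t' * (e₁ - e₂) * ((e₂ - e₁) * t') = t' * ((e₁ - e₂) * (e₂ - e₁)) * t' := by
            simp only [mul_assoc]
        _ = 1 := by rw [hdiff, mul_neg, mul_one, neg_mul, hP, neg_neg]
    · calc t' * (e₁ - e₂) * (t' * (e₁ - e₂)) = t' * ((e₁ - e₂) * t') * (e₁ - e₂) := by
            simp only [mul_assoc]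
        _ = t' * t' * ((e₁ - e₂) * (e₁ - e₂)) := by rw [← ctd.eq]; simp only [mul_assoc]
        _ = -1 := by rw [hP, hdiff2, mul_one]
    · intro h
      have h5 : t' * (e₁ - e₂) * (t' * (e₁ - e₂)) = -1 := by
        calc t' * (e₁ - e₂) * (t' * (e₁ - e₂)) = t' * ((e₁ - e₂) * t') * (e₁ - e₂) := by
              simp only [mul_assoc]
          _ = t' * t' * ((e₁ - e₂) * (e₁ - e₂)) := by rw [← ctd.eq]; simp only [mul_assoc]
          _ = -1 := by rw [hP, hdiff2, mul_one]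
      rw [h, one_mul] at h5
      exact one_ne_neg_one_mat h2 h5
    · intro h
      have h5 : t' * (e₁ - e₂) * (t' * (e₁ - e₂)) = -1 := by
        calc t' * (e₁ - e₂) * (t' * (e₁ - e₂)) = t' * ((e₁ - e₂) * t') * (e₁ - e₂) := by
              simp only [mul_assoc]
          _ = t' * t' * ((e₁ - e₂) * (e₁ - e₂)) := by rw [← ctd.eq]; simp only [mul_assoc]
          _ = -1 := by rw [hP, hdiff2, mul_one]
      rw [h, neg_mul_neg, one_mul] at h5
      exact one_ne_neg_one_mat h2 h5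
    · intro y hy
      exact (commute_aeval' (cx' y hy) P).mul_right ((hcomm y hy).sub_right (ce₂ y hy))
  · right
    refine ⟨d, Fintype.card l / d, hdpos, Nat.mul_div_cancel' hdvd1, by rw [hk']; exact hxq,
      by rw [hk']; exact h4, ?_⟩
    calc N ^ (Fintype.card l / d) = N ^ (Fintype.card l / d) * (e₁ + e₂) := by rw [hsum, mul_one]
      _ = 0 := by rw [mul_add, hz1, hz2, add_zero]

end beta

end Cfsg.Agent.H4PSpSpec
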