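import Mathlib
import Cfsg.Agent.Lib.Helper4.PSpSpecE
import Cfsg.Agent.Lib.Helper4.PSUSpecF

namespace Cfsg.Agent.H4PSUSpec

open Polynomial Matrix Module
open Cfsg.Agent.H4PSpSpec (nilp_pow_mul_idem rank_add_rank_of_idem commute_aeval')

universe u

section aux

variable {F : Type u} [Field F]

theorem irr_dvd_of_root {E : Type*} [Field E] [Algebra F E] {f P : F[X]} (hf : Irreducible f)
    {y : E} (hy : aeval y f = 0) (hP : aeval y P = 0) : f ∣ P := by
  have hint : IsIntegral F y := IsAlgebraic.isIntegral ⟨f, hf.ne_zero, hy⟩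
  have h1 : minpoly F y ∣ f := minpoly.dvd F y hy
  have h2 : Associated (minpoly F y) f :=
    Irreducible.associated_of_dvd (minpoly.irreducible hint) hf h1
  exact h2.symm.dvd.trans (minpoly.dvd F y hP)

end aux

section torusEven

variable {F : Type u} [Field F] [Fintype F] (p a : ℕ) [Fact p.Prime] [CharP F p]

theorem exists_torus_even (hF : Fintype.card F = (p ^ a) ^ 2) {n k : ℕ} [NeZero n] [NeZero k]
    (hn : n = 2 * k) :
    ∃ S : Submonoid (Matrix (Fin n) (Fin n) F), (∀ C ∈ S, C * hadj (sig p a) C = 1) ∧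
      (∀ C ∈ S, ∀ D ∈ S, Commute C D) ∧
      ∀ (x : Matrix (Fin n) (Fin n) F), x * hadj (sig p a) x = 1 → ∀ b : ℕ, 0 < b → x ^ b = 1 →
        (Irreducible (minpoly F x) ∨
          ∃ (e₁ : Matrix (Fin n) (Fin n) F) (f₁ : F[X]), Irreducible f₁ ∧ e₁ * e₁ = e₁ ∧
            e₁ + hadj (sig p a) e₁ = 1 ∧ e₁ * hadj (sig p a) e₁ = 0 ∧ aeval x f₁ * e₁ = 0 ∧
            Commute x e₁ ∧ f₁ ∣ minpoly F x) → Hits S x := by
  classical
  have hp : p.Prime := Fact.out
  have hσσ := sig_sig p a hF
  let E := FiniteField.Extension F p k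
  haveI : Fintype E := Fintype.ofFinite E
  haveI : CharP E p := charP_of_injective_algebraMap (algebraMap F E).injective p
  let φ : E →+* E := iterateFrobenius E p a
  have hφ : ∀ y : E, φ y = y ^ p ^ a := fun y => iterateFrobenius_def p a y
  have hφF : ∀ c : F, φ (algebraMap F E c) = algebraMap F E (sig p a c) := by
    intro c
    rw [hφ, ← map_pow, sig_apply]
  have hφsurj : Function.Surjective φ := Finite.injective_iff_surjective.1 φ.injective
  have htrφ : ∀ w : E, Algebra.trace F E (φ w) = sig p a (Algebra.trace F E w) := by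
    intro w
    rw [hφ, trace_pow_char p w a, sig_apply]
  have hφsmul : ∀ (c : F) (y : E), φ (c • y) = sig p a c • φ y := by
    intro c y
    rw [Algebra.smul_def, map_mul φ, hφF, Algebra.smul_def]
  let h : E × E → E × E → F := fun y z =>
    Algebra.trace F E (y.1 * φ z.2) + sig p a (Algebra.trace F E (z.1 * φ y.2))
  have hh0 : ∀ y z, h y z =
    Algebra.trace F E (y.1 * φ z.2) + sig p a (Algebra.trace F E (z.1 * φ y.2)) := fun y z => rfl
  have ha : ∀ y y' z, h (y + y') z = h y z + h y' z := by
    intro y y' z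
    rw [hh0, hh0, hh0, Prod.fst_add, Prod.snd_add, add_mul, map_add, map_add φ, mul_add, map_add,
      map_add]
    ring
  have hs : ∀ (c : F) y z, h (c • y) z = c * h y z := by
    intro c y z
    have e1 : Algebra.trace F E ((c • y).1 * φ z.2) = c * Algebra.trace F E (y.1 * φ z.2) := by
      rw [Prod.smul_fst, smul_mul_assoc, map_smul, smul_eq_mul]
    have e2 : Algebra.trace F E (z.1 * φ (c • y).2) =
        sig p a c * Algebra.trace F E (z.1 * φ y.2) := by
      rw [Prod.smul_snd, hφsmul, mul_smul_comm, map_smul, smul_eq_mul]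
    rw [hh0, hh0, e1, e2, map_mul (sig p a), hσσ]
    ring
  have hh : ∀ y z, h z y = sig p a (h y z) := by
    intro y z
    rw [hh0, hh0, map_add, hσσ, add_comm]
  have hnd : ∀ y, (∀ z, h y z = 0) → y = 0 := by
    intro y hy
    have h1 : y.1 = 0 := by
      have h2 : ∀ z, Algebra.traceForm F E y.1 z = 0 := by
        intro z
        obtain ⟨z', rfl⟩ := hφsurj z
        have := hy (0, z')
        rw [hh0] at this
        simp only [zero_mul, map_zero, add_zero] at this
        rw [Algebra.traceForm_apply]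
        exact this
      exact (traceForm_nondegenerate F E).1 _ h2
    have h3 : φ y.2 = 0 := by
      have h2 : ∀ z, Algebra.traceForm F E (φ y.2) z = 0 := by
        intro z
        have := hy (z, 0)
        rw [hh0] at this
        simp only [map_zero, mul_zero, zero_add] at this
        rw [Algebra.traceForm_apply, mul_comm]
        have h4 := congrArg (sig p a) this
        rw [hσσ, map_zero] at h4
        exact h4
      exact (traceForm_nondegenerate F E).1 _ h2
    have h5 : y.2 = 0 := by
      apply φ.injective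
      rw [h3, map_zero]
    exact Prod.ext h1 h5
  have hfin : finrank F (E × E) = n := by
    rw [Module.finrank_prod, FiniteField.finrank_extension, hn, two_mul]
  obtain ⟨Φ, hΦu, hΦd⟩ := abs_to_gu p a hF h ha hs hh hnd hfin
  let G : E × E →ₐ[F] Module.End F (E × E) :=
    (LinearMap.prodMapAlgHom F E E).comp (AlgHom.prodMap (Algebra.lmul F E) (Algebra.lmul F E))
  have hG : ∀ (y v : E × E), G y v = (y.1 * v.1, y.2 * v.2) := fun y v => rfl
  let g : E × E →ₐ[F] Matrix (Fin n) (Fin n) F := Φ.toAlgHom.comp G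
  have hg : ∀ y, g y = Φ (G y) := fun y => rfl
  let U : Submonoid (E × E) :=
    { carrier := {y | y.1 * φ y.2 = 1}
      mul_mem' := by
        intro x y hx hy
        show (x * y).1 * φ (x * y).2 = 1
        rw [Prod.fst_mul, Prod.snd_mul, map_mul φ, mul_mul_mul_comm,
          show x.1 * φ x.2 = 1 from hx, show y.1 * φ y.2 = 1 from hy, one_mul]
      one_mem' := by
        show (1 : E × E).1 * φ (1 : E × E).2 = 1
        simp }
  refine ⟨U.map (g : E × E →* Matrix (Fin n) (Fin n) F), ?_, ?_, ?_⟩
  · rintro C ⟨y, hy, rfl⟩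
    show g y * hadj (sig p a) (g y) = 1
    rw [hg]
    apply hΦu
    intro v w
    rw [hG, hG, hh0, hh0]
    simp only
    rw [map_mul φ, map_mul φ]
    have e1 : y.1 * v.1 * (φ y.2 * φ w.2) = (y.1 * φ y.2) * (v.1 * φ w.2) := by ring
    have e2 : y.1 * w.1 * (φ y.2 * φ v.2) = (y.1 * φ y.2) * (w.1 * φ v.2) := by ring
    rw [e1, e2, show y.1 * φ y.2 = 1 from hy, one_mul, one_mul]
  · rintro C ⟨y₁, -, rfl⟩ D ⟨y₂, -, rfl⟩
    show g y₁ * g y₂ = g y₂ * g y₁
    rw [← map_mul, ← map_mul, mul_comm]
  · intro x hx b hb0 hxb hcase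
    -- the key reduction
    have key : ∀ y : E × E, y ∈ U →
        (∃ ψ : (Fin n → F) ≃ₗ[F] E × E, ∀ v, ψ (Matrix.toLin' x v) = G y (ψ v)) →
        Hits (U.map (g : E × E →* Matrix (Fin n) (Fin n) F)) x := by
      rintro y hy ⟨ψ, hψ⟩
      let Θ : Matrix (Fin n) (Fin n) F ≃ₐ[F] Matrix (Fin n) (Fin n) F :=
        (Matrix.toLinAlgEquiv' : Matrix (Fin n) (Fin n) F ≃ₐ[F] _).trans
          ((LinearEquiv.conjAlgEquiv F ψ).trans Φ)
      have hΘ1 : LinearEquiv.conjAlgEquiv F ψ (Matrix.toLin' x) = G y := by
        rw [LinearEquiv.conjAlgEquiv_apply]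
        apply LinearMap.ext
        intro e
        simp only [LinearMap.comp_apply, LinearEquiv.coe_coe]
        rw [hψ, LinearEquiv.apply_symm_apply]
      have hΘ : Θ x = g y := by
        show Φ (LinearEquiv.conjAlgEquiv F ψ (Matrix.toLin' x)) = _
        rw [hΘ1, hg]
      refine ⟨g y, ⟨y, hy, rfl⟩, ?_, fun j l => ?_⟩
      · rw [hg, hΦd, ← hΘ1, LinearEquiv.conjAlgEquiv_apply]
        exact (LinearMap.det_conj (Matrix.toLin' x) ψ).trans (LinearMap.det_toLin' x)
      · rw [← hΘ]
        exact algEquiv_pow_eq_smul_iff Θ x j l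
    have haevalG : ∀ (y : E × E) (P : F[X]), aeval (G y) P = G (aeval y.1 P, aeval y.2 P) := by
      intro y P
      rw [Polynomial.aeval_algHom_apply, Polynomial.aeval_prod_apply]
    have hG0 : G (0, 0) = 0 := map_zero G
    have hadjx := hadj_eq_pow (sig p a) hx hb0 hxb
    -- Frobenius twist in E
    have hfrobE : ∀ (w : E) (P : F[X]), aeval (φ w) (P.map (sig p a)) = φ (aeval w P) := by
      intro w P
      rw [hφ, hφ, aeval_frob_pow p a hF w (P.map (sig p a)), Polynomial.map_map]
      have : (sig p a).comp (sig p a) = RingHom.id F := by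
        ext c; exact hσσ c
      rw [this, Polynomial.map_id]
    rcases hcase with hirr | ⟨e₁, f₁, hf₁, h11, hsum, h12, hfe, hce, hfμ⟩
    · -- type (a)
      set μ := minpoly F x with hμ
      obtain ⟨hodd, -⟩ := frobU p a hF x hirr hx hb0 hxb
      obtain ⟨hd, -⟩ := nilp_pow_mul_idem x 0 1 hirr ⟨1, by simp⟩ (Commute.zero_left x)
        (Commute.one_left x) (Commute.zero_left 1)
      rw [Matrix.rank_one, Fintype.card_fin] at hd
      have hd' : μ.natDegree ∣ 2 * k := by rw [← hn]; exact hd
      have hdk : μ.natDegree ∣ k :=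
        (Nat.Coprime.dvd_of_dvd_mul_left (Nat.Coprime.symm (Nat.coprime_two_left.2 hodd)) hd')
      haveI : Fact (Irreducible μ) := ⟨hirr⟩
      let K := AdjoinRoot μ
      haveI : Module.Finite F K := (AdjoinRoot.powerBasis hirr.ne_zero).finite
      have hdeg : Module.finrank F K = μ.natDegree := by
        rw [(AdjoinRoot.powerBasis hirr.ne_zero).finrank, AdjoinRoot.powerBasis_dim]
      obtain ⟨ι⟩ := FiniteField.nonempty_algHom_of_finrank_dvd (F := F) (K := K) (L := E)
        (by rw [FiniteField.finrank_extension, hdeg]; exact hdk)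
      set θ : E := ι (AdjoinRoot.root μ) with hθdef
      have hθ : aeval θ μ = 0 := by
        rw [hθdef, Polynomial.aeval_algHom_apply, AdjoinRoot.aeval_eq, AdjoinRoot.mk_self, map_zero]
      have hθb : θ ^ b = 1 := by
        have h1 : aeval x (X ^ b - 1 : F[X]) = 0 := by
          rw [map_sub, map_pow, aeval_X, map_one, hxb, sub_self]
        have := transfer_root x hθ h1
        rw [map_sub, map_pow, aeval_X, map_one, sub_eq_zero] at this
        exact this
      obtain ⟨θ', hθ'⟩ := hφsurj (θ ^ (b - 1))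
      have hU : (θ, θ') ∈ U := by
        show θ * φ θ' = 1
        rw [hθ', ← pow_succ', Nat.sub_add_cancel hb0, hθb]
      have hint' : IsIntegral F θ' := Algebra.IsIntegral.isIntegral θ'
      set g₂ := minpoly F θ' with hg₂
      have hg₂irr : Irreducible g₂ := minpoly.irreducible hint'
      -- g₂ kills x
      have hx2 : aeval x g₂ = 0 := by
        have h1 : aeval θ ((g₂.map (sig p a)).comp (X ^ (b - 1))) = 0 := by
          rw [aeval_comp, map_pow, aeval_X, ← hθ', hfrobE, minpoly.aeval, map_zero]
        have h2 : aeval x ((g₂.map (sig p a)).comp (X ^ (b - 1))) = 0 := by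
          obtain ⟨R, hR⟩ := irr_dvd_of_root hirr hθ h1
          rw [hR, map_mul, minpoly.aeval, zero_mul]
        rw [aeval_comp, map_pow, aeval_X, ← hadjx, ← hadj_aeval] at h2
        have := congrArg (hadj (sig p a)) h2
        rw [hadj_hadj _ hσσ, hadj_zero] at this
        exact this
      have hθ2 : aeval θ g₂ = 0 := transfer_root x hθ hx2
      apply key (θ, θ') hU
      apply conj_irr_lin g₂ hg₂irr (Matrix.toLin' x) (G (θ, θ'))
      · rw [aeval_toLin', hx2, map_zero]
      · rw [haevalG]
        simp only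
        rw [hθ2, minpoly.aeval, hG0]
      · rw [Module.finrank_fin_fun, hfin]
    · -- type (b)
      set e₂ := hadj (sig p a) e₁ with he₂def
      have he2 : e₂ = 1 - e₁ := eq_sub_of_add_eq' hsum
      have h21 : e₂ * e₁ = 0 := by rw [he2, sub_mul, one_mul, h11, sub_self]
      have hce2 : Commute x e₂ := by
        rw [he2]; exact (Commute.one_right x).sub_right hce
      have hr1 := rank_add_rank_of_idem e₁ h11
      have hr2 := rank_hadj p a hF e₁
      rw [← he2, Fintype.card_fin] at hr1
      have hrk1 : e₁.rank = k := by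
        have : e₂.rank = e₁.rank := hr2
        omega
      have hrk2 : e₂.rank = k := by rw [show e₂.rank = e₁.rank from hr2, hrk1]
      let T : Matrix (Fin n) (Fin n) F ≃ₐ[F] Module.End F (Fin n → F) := Matrix.toLinAlgEquiv'
      have hT : ∀ M, T M = Matrix.toLin' M := fun M => rfl
      have hTr : ∀ M : Matrix (Fin n) (Fin n) F,
          finrank F (LinearMap.range (T M)) = M.rank := by
        intro M
        rw [hT, Matrix.toLin'_apply']
        rfl
      have hTx1 : aeval (T x) f₁ * T e₁ = 0 := by
        rw [hT x, aeval_toLin', ← hT, ← map_mul, hfe, map_zero]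
      have hd1 : f₁.natDegree ∣ k := by
        have := natDegree_dvd_finrank_range (T x) (T e₁) (by rw [← map_mul, h11])
          (by
            show T x * T e₁ = T e₁ * T x
            rw [← map_mul, ← map_mul, hce.eq]) f₁ hf₁ hTx1
        rw [hTr, hrk1] at this
        exact this
      haveI : Fact (Irreducible f₁) := ⟨hf₁⟩
      let K := AdjoinRoot f₁
      haveI : Module.Finite F K := (AdjoinRoot.powerBasis hf₁.ne_zero).finite
      have hdeg : Module.finrank F K = f₁.natDegree := by
        rw [(AdjoinRoot.powerBasis hf₁.ne_zero).finrank, AdjoinRoot.powerBasis_dim]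
      obtain ⟨ι⟩ := FiniteField.nonempty_algHom_of_finrank_dvd (F := F) (K := K) (L := E)
        (by rw [FiniteField.finrank_extension, hdeg]; exact hd1)
      obtain ⟨y, hydef⟩ : ∃ y : E, y = ι (AdjoinRoot.root f₁) := ⟨_, rfl⟩
      have hy : aeval y f₁ = 0 := by
        rw [hydef, Polynomial.aeval_algHom_apply, AdjoinRoot.aeval_eq, AdjoinRoot.mk_self, map_zero]
      have hyb : y ^ b = 1 := by
        have h1 : aeval x (X ^ b - 1 : F[X]) = 0 := by
          rw [map_sub, map_pow, aeval_X, map_one, hxb, sub_self]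
        obtain ⟨R, hR⟩ := hfμ.trans (minpoly.dvd F x h1)
        have h2 : aeval y (X ^ b - 1 : F[X]) = 0 := by rw [hR, map_mul, hy, zero_mul]
        rw [map_sub, map_pow, aeval_X, map_one, sub_eq_zero] at h2
        exact h2
      obtain ⟨y', hy'⟩ := hφsurj (y ^ (b - 1))
      have hU : (y, y') ∈ U := by
        show y * φ y' = 1
        rw [hy', ← pow_succ', Nat.sub_add_cancel hb0, hyb]
      have hint' : IsIntegral F y' := Algebra.IsIntegral.isIntegral y'
      obtain ⟨g₂, hg₂⟩ : ∃ g₂ : F[X], g₂ = minpoly F y' := ⟨_, rfl⟩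
      have hg₂irr : Irreducible g₂ := by rw [hg₂]; exact minpoly.irreducible hint'
      have hy'2 : aeval y' g₂ = 0 := by rw [hg₂]; exact minpoly.aeval F y'
      have hx2 : aeval x g₂ * e₂ = 0 := by
        have h1 : aeval y ((g₂.map (sig p a)).comp (X ^ (b - 1))) = 0 := by
          rw [aeval_comp, map_pow, aeval_X, ← hy', hfrobE, hy'2, map_zero]
        obtain ⟨R, hR⟩ := irr_dvd_of_root hf₁ hy h1
        have h2 : aeval x ((g₂.map (sig p a)).comp (X ^ (b - 1))) * e₁ = 0 := by
          rw [hR, mul_comm f₁ R, map_mul, mul_assoc, hfe, mul_zero]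
        rw [aeval_comp, map_pow, aeval_X, ← hadjx, ← hadj_aeval] at h2
        have h3 := congrArg (hadj (sig p a)) h2
        rw [hadj_mul, hadj_hadj _ hσσ, hadj_zero] at h3
        have h4 : Commute (aeval x g₂) e₂ := by
          have : Commute e₂ x := hce2.symm
          exact (commute_aeval' this g₂).symm
        rw [h4.eq]
        exact h3
      apply key (y, y') hU
      have hTx2 : aeval (T x) g₂ * T e₂ = 0 := by
        rw [hT x, aeval_toLin', ← hT, ← map_mul, hx2, map_zero]
      have hfinE : finrank F E = k := FiniteField.finrank_extension F p k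
      have := conj_two (T x) (T e₁) (T e₂) (by rw [← map_add, hsum, map_one])
        (by rw [← map_mul, h12, map_zero]) (by rw [← map_mul, h21, map_zero])
        (by
          show T x * T e₁ = T e₁ * T x
          rw [← map_mul, ← map_mul, hce.eq])
        (by
          show T x * T e₂ = T e₂ * T x
          rw [← map_mul, ← map_mul, hce2.eq])
        f₁ g₂ hf₁ hg₂irr hTx1 hTx2 (Algebra.lmul F E y) (Algebra.lmul F E y')
        (by rw [aeval_lmul, hy, map_zero]) (by rw [aeval_lmul, hy'2, map_zero])
        (by rw [hTr, hrk1, hfinE]) (by rw [hTr, hrk2, hfinE])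
      obtain ⟨ψ, hψ⟩ := this
      exact ⟨ψ, fun v => hψ v⟩

end torusEven

end Cfsg.Agent.H4PSUSpec
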