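import Mathlib
import Cfsg.Agent.Lib.Helper14.Unitary3
import Cfsg.Agent.Lib.Helper4.PSUSpecG

namespace Cfsg.Agent.H4PSUSpec

open Polynomial Matrix Module
open Cfsg.Agent.H4PSpSpec (rank_add_rank_of_idem)

universe u

section torus

variable {F : Type u} [Field F] [Fintype F] (p a : ℕ) [Fact p.Prime] [CharP F p]

theorem no_type_b_odd (hF : Fintype.card F = (p ^ a) ^ 2) {n : ℕ} (hn : Odd n)
    (e₁ : Matrix (Fin n) (Fin n) F) (h11 : e₁ * e₁ = e₁)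
    (hsum : e₁ + hadj (sig p a) e₁ = 1) : False := by
  have he2 : hadj (sig p a) e₁ = 1 - e₁ := eq_sub_of_add_eq' hsum
  have hr1 := rank_add_rank_of_idem e₁ h11
  have hr2 := rank_hadj p a hF e₁
  rw [← he2, hr2, Fintype.card_fin] at hr1
  obtain ⟨k, hk⟩ := hn
  omega

theorem exists_torus (hF : Fintype.card F = (p ^ a) ^ 2) {n : ℕ} [NeZero n] :
    ∃ S : Submonoid (Matrix (Fin n) (Fin n) F), (∀ C ∈ S, C * hadj (sig p a) C = 1) ∧
      (∀ C ∈ S, ∀ D ∈ S, Commute C D) ∧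
      ∀ (x : Matrix (Fin n) (Fin n) F), x * hadj (sig p a) x = 1 → ∀ b : ℕ, 0 < b → x ^ b = 1 →
        (Irreducible (minpoly F x) ∨
          ∃ (e₁ : Matrix (Fin n) (Fin n) F) (f₁ : F[X]), Irreducible f₁ ∧ e₁ * e₁ = e₁ ∧
            e₁ + hadj (sig p a) e₁ = 1 ∧ e₁ * hadj (sig p a) e₁ = 0 ∧ aeval x f₁ * e₁ = 0 ∧
            Commute x e₁ ∧ f₁ ∣ minpoly F x) → Hits S x := by
  rcases Nat.even_or_odd' n with ⟨k, hk | hk⟩
  · haveI : NeZero k := ⟨by rintro rfl; exact NeZero.ne n (by omega)⟩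
    exact exists_torus_even p a hF hk
  · obtain ⟨S, h1, h2, h3⟩ := exists_torus_odd p a hF (n := n) ⟨k, hk⟩
    refine ⟨S, h1, h2, fun x hx b hb hxb hcase => ?_⟩
    rcases hcase with hirr | ⟨e₁, f₁, -, h11, hsum, -⟩
    · exact h3 x hx b hb hxb hirr
    · exact (no_type_b_odd p a hF ⟨k, hk⟩ e₁ h11 hsum).elim

end torus

section psu

variable {F : Type u} [Field F] [Fintype F] (p a : ℕ) [Fact p.Prime] [CharP F p] {n : ℕ}

local notation "SUn" => Cfsg.SU n F (p ^ a)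
local notation "PSUn" => Cfsg.PSU n F (p ^ a)

theorem su_uni (x : SUn) : x.1.val * hadj (sig p a) x.1.val = 1 :=
  (isUni_iff p a x.1.val).1 x.2

/-- build an element of `SU` from a unitary matrix of determinant one -/
def mkSU (M : Matrix (Fin n) (Fin n) F) (hM : M * hadj (sig p a) M = 1) (hd : M.det = 1) : SUn :=
  ⟨⟨M, hd⟩, (isUni_iff p a M).2 hM⟩

theorem mkSU_val (M : Matrix (Fin n) (Fin n) F) (hM : M * hadj (sig p a) M = 1) (hd : M.det = 1) :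
    (mkSU p a M hM hd).1.val = M := rfl

theorem su_coe_pow (x : SUn) (j : ℕ) : (x ^ j).1.val = x.1.val ^ j := by
  rw [SubgroupClass.coe_pow, Matrix.SpecialLinearGroup.coe_pow]

theorem su_coe_mul (x y : SUn) : (x * y).1.val = x.1.val * y.1.val := by
  rw [Subgroup.coe_mul, Matrix.SpecialLinearGroup.coe_mul]

theorem su_ext {x y : SUn} (h : x.1.val = y.1.val) : x = y :=
  Subtype.ext (Subtype.ext h)

theorem mk_pow_eq_one_iffU (hF : Fintype.card F = (p ^ a) ^ 2) (hn : 2 ≤ n) (x : SUn) (j : ℕ) :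
    ((QuotientGroup.mk x : PSUn) ^ j = 1) ↔
      ∃ l : F, x.1.val ^ j = l • (1 : Matrix (Fin n) (Fin n) F) := by
  classical
  rw [← QuotientGroup.mk_pow, QuotientGroup.eq_one_iff]
  constructor
  · intro hz
    obtain ⟨m, rfl⟩ : ∃ m, n = m + 2 := ⟨n - 2, by omega⟩
    have := Cfsg.Agent.Lib.Helper14.center_eq_scalar hF (x ^ j) hz
    refine ⟨(x ^ j).1.val 0 0, ?_⟩
    rw [← su_coe_pow, this]
    ext i k
    rw [Matrix.smul_apply, Matrix.one_apply, Matrix.diagonal_apply]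
    by_cases hik : i = k
    · rw [if_pos hik, if_pos hik, smul_eq_mul, mul_one]
      simp [Matrix.diagonal_apply]
    · rw [if_neg hik, if_neg hik, smul_zero]
  · rintro ⟨l, hl⟩
    rw [Subgroup.mem_center_iff]
    intro y
    apply su_ext
    rw [su_coe_mul, su_coe_mul, su_coe_pow, hl]
    rw [Matrix.mul_smul, Matrix.smul_mul, mul_one, one_mul]

/-- membership in the image of the fixed torus `S` -/
def IsTorU (S : Submonoid (Matrix (Fin n) (Fin n) F)) (c : PSUn) : Prop :=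
  ∃ x : SUn, x.1.val ∈ S ∧ (QuotientGroup.mk x : PSUn) = c

variable {p a}
variable {S : Submonoid (Matrix (Fin n) (Fin n) F)}

theorem IsTorU.mul {c₁ c₂ : PSUn} (h₁ : IsTorU p a S c₁) (h₂ : IsTorU p a S c₂) :
    IsTorU p a S (c₁ * c₂) := by
  obtain ⟨x₁, hx₁, rfl⟩ := h₁
  obtain ⟨x₂, hx₂, rfl⟩ := h₂
  refine ⟨x₁ * x₂, ?_, rfl⟩
  rw [su_coe_mul]
  exact S.mul_mem hx₁ hx₂

theorem IsTorU.one : IsTorU p a S (1 : PSUn) :=
  ⟨1, by
    show (1 : Matrix (Fin n) (Fin n) F) ∈ S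
    exact S.one_mem, rfl⟩

theorem IsTorU.pow {c : PSUn} (h : IsTorU p a S c) (k : ℕ) : IsTorU p a S (c ^ k) := by
  induction k with
  | zero => rw [pow_zero]; exact IsTorU.one
  | succ k ih => rw [pow_succ]; exact ih.mul h

theorem IsTorU.commute (hS : ∀ C ∈ S, ∀ D ∈ S, Commute C D) {c₁ c₂ : PSUn}
    (h₁ : IsTorU p a S c₁) (h₂ : IsTorU p a S c₂) : Commute c₁ c₂ := by
  obtain ⟨x₁, hx₁, rfl⟩ := h₁
  obtain ⟨x₂, hx₂, rfl⟩ := h₂
  have : x₁ * x₂ = x₂ * x₁ := by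
    apply su_ext
    rw [su_coe_mul, su_coe_mul]
    exact (hS _ hx₁ _ hx₂).eq
  show (QuotientGroup.mk x₁ : PSUn) * QuotientGroup.mk x₂ = QuotientGroup.mk x₂ * QuotientGroup.mk x₁
  rw [← QuotientGroup.mk_mul, ← QuotientGroup.mk_mul, this]

theorem IsTorU.exists_lcm (hS : ∀ C ∈ S, ∀ D ∈ S, Commute C D) {c₁ c₂ : PSUn}
    (h₁ : IsTorU p a S c₁) (h₂ : IsTorU p a S c₂) :
    ∃ c, IsTorU p a S c ∧ orderOf c = Nat.lcm (orderOf c₁) (orderOf c₂) := by
  refine ⟨_, (h₁.pow _).mul (h₂.pow _),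
    (h₁.commute hS h₂).orderOf_mul_pow_eq_lcm (orderOf_pos c₁).ne' (orderOf_pos c₂).ne'⟩

end psu

section decomp

variable {F : Type u} [Field F] [Fintype F] (p a : ℕ) [Fact p.Prime] [CharP F p] {n : ℕ} [NeZero n]

local notation "SUn" => Cfsg.SU n F (p ^ a)
local notation "PSUn" => Cfsg.PSU n F (p ^ a)

theorem elem_decompU (hF : Fintype.card F = (p ^ a) ^ 2) (hn : 2 ≤ n)
    (S : Submonoid (Matrix (Fin n) (Fin n) F)) (hSu : ∀ C ∈ S, C * hadj (sig p a) C = 1)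
    (hSh : ∀ (x : Matrix (Fin n) (Fin n) F), x * hadj (sig p a) x = 1 → ∀ b : ℕ, 0 < b →
      x ^ b = 1 → (Irreducible (minpoly F x) ∨
          ∃ (e₁ : Matrix (Fin n) (Fin n) F) (f₁ : F[X]), Irreducible f₁ ∧ e₁ * e₁ = e₁ ∧
            e₁ + hadj (sig p a) e₁ = 1 ∧ e₁ * hadj (sig p a) e₁ = 0 ∧ aeval x f₁ * e₁ = 0 ∧
            Commute x e₁ ∧ f₁ ∣ minpoly F x) → Hits S x)
    (g : PSUn) {r : ℕ} (hr : r.Prime) (hrn : ¬ r ∣ n) {ζ : F} (hζ : orderOf ζ = r)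
    (hζσ : ζ * sig p a ζ = 1) :
    (∃ z : PSUn, Commute g z ∧ orderOf z = r) ∨
    (∃ (u c : PSUn) (t : ℕ), IsTorU p a S c ∧ orderOf u = p ^ t ∧
      orderOf g = Nat.lcm (orderOf u) (orderOf c)) := by
  have hp : p.Prime := Fact.out
  obtain ⟨gh, rfl⟩ := QuotientGroup.mk_surjective g
  obtain ⟨e, m, hm, hN⟩ := Nat.exists_eq_pow_mul_and_not_dvd (orderOf_pos gh).ne' p hp.ne_one
  have hox : orderOf (gh ^ p ^ e) = m := by
    rw [orderOf_pow' _ (pow_ne_zero e hp.ne_zero), hN, Nat.gcd_mul_right_left,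
      Nat.mul_div_cancel_left _ (pow_pos hp.pos e)]
  obtain ⟨x, hxdef⟩ : ∃ x : SUn, x = gh ^ p ^ e := ⟨_, rfl⟩
  rw [← hxdef] at hox
  have hm0 : 0 < m := by rw [← hox]; exact orderOf_pos x
  have hXm : x.1.val ^ m = 1 := by
    rw [← su_coe_pow, ← hox, pow_orderOf_eq_one]
    rfl
  have hmF : (m : F) ≠ 0 := by
    rw [Ne, CharP.cast_eq_zero_iff F p]
    exact hm
  have hXg : x.1.val = gh.1.val ^ p ^ e := by rw [hxdef, su_coe_pow]
  -- the torus branch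
  have torus_branch : Hits S x.1.val →
      (∃ (u c : PSUn) (t : ℕ), IsTorU p a S c ∧ orderOf u = p ^ t ∧
        orderOf (QuotientGroup.mk gh : PSUn) = Nat.lcm (orderOf u) (orderOf c)) := by
    rintro ⟨C, hCS, hCd, hCj⟩
    obtain ⟨cs, hcs⟩ : ∃ cs : SUn, cs = mkSU p a C (hSu C hCS) (hCd.trans x.1.2) := ⟨_, rfl⟩
    have hcsv : cs.1.val = C := by rw [hcs]; rfl
    obtain ⟨c, hcdef⟩ : ∃ c : PSUn, c = QuotientGroup.mk cs := ⟨_, rfl⟩
    have hc : IsTorU p a S c := ⟨cs, by rw [hcsv]; exact hCS, hcdef.symm⟩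
    have hco : orderOf c = orderOf (QuotientGroup.mk x : PSUn) := by
      rw [orderOf_eq_orderOf_iff]
      intro j
      rw [hcdef, mk_pow_eq_one_iffU p a hF hn, mk_pow_eq_one_iffU p a hF hn, hcsv]
      constructor
      · rintro ⟨l, hl⟩; exact ⟨l, (hCj j l).1 hl⟩
      · rintro ⟨l, hl⟩; exact ⟨l, (hCj j l).2 hl⟩
    obtain ⟨g, hg⟩ : ∃ g : PSUn, g = QuotientGroup.mk gh := ⟨_, rfl⟩
    rw [← hg]
    have hco' : orderOf c = orderOf (g ^ p ^ e) := by rw [hco, hxdef, hg]; rfl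
    obtain ⟨A, hA⟩ : ∃ A : ℕ, A = orderOf g := ⟨_, rfl⟩
    have ha0 : A ≠ 0 := by rw [hA]; exact (orderOf_pos g).ne'
    have hs : orderOf (g ^ p ^ e) = A / Nat.gcd A (p ^ e) := by
      rw [hA]; exact orderOf_pow' _ (pow_ne_zero e hp.ne_zero)
    obtain ⟨t, -, ht⟩ := (Nat.dvd_prime_pow hp).1 (Nat.gcd_dvd_right A (p ^ e))
    have hsa : (A / Nat.gcd A (p ^ e)) ∣ A := Nat.div_dvd_of_dvd (Nat.gcd_dvd_left _ _)
    have hgpos : 0 < Nat.gcd A (p ^ e) := Nat.gcd_pos_of_pos_left _ (Nat.pos_of_ne_zero ha0)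
    have hspos : 0 < A / Nat.gcd A (p ^ e) :=
      Nat.div_pos (Nat.le_of_dvd (Nat.pos_of_ne_zero ha0) (Nat.gcd_dvd_left _ _)) hgpos
    have hou : orderOf (g ^ (A / Nat.gcd A (p ^ e))) = p ^ t := by
      rw [orderOf_pow' _ hspos.ne', ← hA, Nat.gcd_eq_right hsa, Nat.div_div_self
        (Nat.gcd_dvd_left _ _) ha0, ht]
    refine ⟨g ^ (A / Nat.gcd A (p ^ e)), c, t, hc, hou, ?_⟩
    rw [hou, hco', hs, ← hA]
    have hsm : (A / Nat.gcd A (p ^ e)) ∣ m := by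
      rw [← hs, ← hox]
      have : g ^ p ^ e = (QuotientGroup.mk' _) x := by rw [hg, hxdef]; rfl
      rw [this]
      exact orderOf_map_dvd _ _
    have hcop2 : Nat.Coprime (p ^ t) (A / Nat.gcd A (p ^ e)) := by
      apply Nat.Coprime.pow_left
      exact (Nat.Prime.coprime_iff_not_dvd hp).2 (fun h => hm (h.trans hsm))
    rw [hcop2.lcm_eq_mul, ← ht, Nat.mul_div_cancel' (Nat.gcd_dvd_left _ _)]
  by_cases hirr : Irreducible (minpoly F x.1.val)
  · right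
    exact torus_branch (hSh x.1.val (su_uni p a x) m hm0 hXm (Or.inl hirr))
  rcases reducible_caseU (sig p a) (sig_sig p a hF) hr hrn hζ hζσ x.1.val (su_uni p a x) hm0 hXm
    hmF hirr with ⟨z, hzu, hzd, hzr, hzs, hzc⟩ | hb
  · left
    obtain ⟨zs, hzs'⟩ : ∃ zs : SUn, zs = mkSU p a z hzu hzd := ⟨_, rfl⟩
    have hzsv : zs.1.val = z := by rw [hzs']; rfl
    refine ⟨QuotientGroup.mk zs, ?_, ?_⟩
    · have hcm : Commute gh.1.val x.1.val := by
        rw [hXg]; exact (Commute.refl _).pow_right _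
      have h1 : Commute gh zs := by
        apply su_ext
        rw [su_coe_mul, su_coe_mul, hzsv]
        exact (hzc _ hcm).eq
      exact h1.map (QuotientGroup.mk' _)
    · haveI : Fact r.Prime := ⟨hr⟩
      apply orderOf_eq_prime
      · rw [mk_pow_eq_one_iffU p a hF hn]
        exact ⟨1, by rw [hzsv, hzr, one_smul]⟩
      · intro h
        have h1 : (QuotientGroup.mk zs : PSUn) ^ 1 = 1 := by rw [pow_one, h]
        rw [mk_pow_eq_one_iffU p a hF hn] at h1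
        obtain ⟨l, hl⟩ := h1
        rw [pow_one, hzsv] at hl
        exact hzs ⟨l, hl⟩
  · right
    exact torus_branch (hSh x.1.val (su_uni p a x) m hm0 hXm (Or.inr hb))

end decomp

end Cfsg.Agent.H4PSUSpec
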