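import Mathlib

namespace Cfsg.Agent.H4PSpSpec

open Polynomial Matrix Module

section shift

variable (F : Type*) [Field F] (N : ℕ)

/-- powers of the shift matrix -/
def ShP (m : ℕ) : Matrix (Fin N) (Fin N) F :=
  Matrix.of fun i j => if (j : ℕ) = i + m then 1 else 0

/-- antidiagonal alternating Gram matrix -/
def GA : Matrix (Fin N) (Fin N) F :=
  Matrix.of fun i j => if (i : ℕ) + j + 1 = N then (-1) ^ (i : ℕ) else 0

variable {F N}

theorem ShP_apply (m : ℕ) (i j : Fin N) :
    ShP F N m i j = if (j : ℕ) = i + m then 1 else 0 := rfl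

theorem GA_apply (i j : Fin N) :
    GA F N i j = if (i : ℕ) + j + 1 = N then (-1) ^ (i : ℕ) else 0 := rfl

theorem ShP_zero : ShP F N 0 = 1 := by
  ext i j
  rw [ShP_apply, Matrix.one_apply]
  simp only [add_zero]
  by_cases h : i = j
  · rw [if_pos h, if_pos (by rw [h])]
  · rw [if_neg h, if_neg (fun h' => h (Fin.ext h'.symm))]

theorem ShP_mul (a b : ℕ) : ShP F N a * ShP F N b = ShP F N (a + b) := by
  ext i j
  rw [Matrix.mul_apply, ShP_apply]
  by_cases hC : (j : ℕ) = i + (a + b)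
  · rw [if_pos hC]
    have hk : (i : ℕ) + a < N := by have := j.2; omega
    rw [Finset.sum_eq_single (⟨i + a, hk⟩ : Fin N)]
    · rw [ShP_apply, ShP_apply, if_pos rfl, if_pos (by show (j : ℕ) = i + a + b; omega), mul_one]
    · intro l _ hl
      rw [ShP_apply, if_neg (fun h => hl (Fin.ext h)), zero_mul]
    · intro h; exact absurd (Finset.mem_univ _) h
  · rw [if_neg hC]
    apply Finset.sum_eq_zero
    intro l _
    rw [ShP_apply, ShP_apply]
    by_cases h1 : (l : ℕ) = i + a
    · rw [if_pos h1, if_neg (by omega), mul_zero]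
    · rw [if_neg h1, zero_mul]

theorem ShP_pow (m : ℕ) : (ShP F N 1) ^ m = ShP F N m := by
  induction m with
  | zero => rw [pow_zero, ShP_zero]
  | succ m ih => rw [pow_succ, ih, ShP_mul]

theorem ShP_eq_zero {m : ℕ} (hm : N ≤ m) : ShP F N m = 0 := by
  ext i j
  rw [ShP_apply, if_neg]
  · rfl
  · have := j.2; omega

theorem ShP_ne_zero {m : ℕ} (hm : m < N) : ShP F N m ≠ 0 := by
  intro h
  have := congrFun (congrFun h (⟨0, by omega⟩ : Fin N)) (⟨m, hm⟩ : Fin N)
  rw [ShP_apply, if_pos (by simp)] at this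
  simp at this

theorem ShP_transpose_mul_GA :
    (ShP F N 1)ᵀ * GA F N = -(GA F N * ShP F N 1) := by
  ext i j
  rw [Matrix.neg_apply, Matrix.mul_apply, Matrix.mul_apply]
  by_cases hij : (i : ℕ) + j = N
  · have hi : 1 ≤ (i : ℕ) := by have := j.2; omega
    have hj : 1 ≤ (j : ℕ) := by have := i.2; omega
    rw [Finset.sum_eq_single (⟨i - 1, by have := i.2; omega⟩ : Fin N),
      Finset.sum_eq_single (⟨j - 1, by have := j.2; omega⟩ : Fin N)]
    · rw [Matrix.transpose_apply, ShP_apply, GA_apply, GA_apply, ShP_apply,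
        if_pos (by show (i : ℕ) = (i - 1) + 1; omega),
        if_pos (by show (i : ℕ) - 1 + j + 1 = N; omega),
        if_pos (by show (i : ℕ) + (j - 1) + 1 = N; omega),
        if_pos (by show (j : ℕ) = (j - 1) + 1; omega), one_mul, mul_one]
      show (-1 : F) ^ ((i : ℕ) - 1) = -(-1) ^ (i : ℕ)
      obtain ⟨c, hc⟩ := Nat.exists_eq_add_of_le hi
      rw [hc, Nat.add_sub_cancel_left, pow_add, pow_one]
      ring
    · intro l _ hl
      rw [ShP_apply, if_neg, mul_zero]
      intro h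
      apply hl
      apply Fin.ext
      show (l : ℕ) = j - 1
      omega
    · intro h; exact absurd (Finset.mem_univ _) h
    · intro l _ hl
      rw [Matrix.transpose_apply, ShP_apply, if_neg, zero_mul]
      intro h
      apply hl
      apply Fin.ext
      show (l : ℕ) = i - 1
      omega
    · intro h; exact absurd (Finset.mem_univ _) h
  · rw [Finset.sum_eq_zero, Finset.sum_eq_zero, neg_zero]
    · intro l _
      rw [GA_apply, ShP_apply]
      by_cases h1 : (j : ℕ) = l + 1
      · rw [if_pos h1, if_neg (by omega), zero_mul]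
      · rw [if_neg h1, mul_zero]
    · intro l _
      rw [Matrix.transpose_apply, ShP_apply, GA_apply]
      by_cases h1 : (i : ℕ) = l + 1
      · rw [if_pos h1, if_neg (by omega), mul_zero]
      · rw [if_neg h1, zero_mul]

end shift

end Cfsg.Agent.H4PSpSpec

namespace Cfsg.Agent.H4PSpSpec

open Polynomial Matrix Module

section gram

variable {F : Type*} [Field F] {N : ℕ}

theorem GA_transpose (hN : Even N) : (GA F N)ᵀ = -GA F N := by
  ext i j
  rw [Matrix.transpose_apply, Matrix.neg_apply, GA_apply, GA_apply]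
  by_cases h : (i : ℕ) + j + 1 = N
  · rw [if_pos h, if_pos (by omega)]
    obtain ⟨c, hc⟩ := hN
    have hj : (j : ℕ) = 2 * c - 1 - i := by omega
    have hi : (i : ℕ) + 1 ≤ 2 * c := by omega
    rcases Nat.even_or_odd (i : ℕ) with he | ho
    · have hjo : Odd (j : ℕ) := by
        obtain ⟨a, ha⟩ := he
        exact ⟨c - 1 - a, by omega⟩
      rw [he.neg_one_pow, hjo.neg_one_pow]
    · have hje : Even (j : ℕ) := by
        obtain ⟨a, ha⟩ := ho
        exact ⟨c - 1 - a, by omega⟩
      rw [ho.neg_one_pow, hje.neg_one_pow, neg_neg]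
  · rw [if_neg h, if_neg (by omega), neg_zero]

theorem GA_mul_GA (hN : Even N) : GA F N * GA F N = -1 := by
  ext i j
  rw [Matrix.mul_apply, Matrix.neg_apply]
  have hi := i.2
  rw [Finset.sum_eq_single (⟨N - 1 - i, by omega⟩ : Fin N)]
  · rw [GA_apply, GA_apply, if_pos (by show (i : ℕ) + (N - 1 - i) + 1 = N; omega)]
    by_cases hij : i = j
    · subst hij
      rw [if_pos (by show (N - 1 - (i : ℕ)) + i + 1 = N; omega), Matrix.one_apply_eq, ← pow_add]
      have : (i : ℕ) + (N - 1 - i) = N - 1 := by omega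
      rw [this]
      obtain ⟨c, hc⟩ := hN
      have hodd : Odd (N - 1) := ⟨c - 1, by omega⟩
      exact hodd.neg_one_pow
    · rw [if_neg, Matrix.one_apply_ne hij, mul_zero, neg_zero]
      intro h
      apply hij
      apply Fin.ext
      have : (N - 1 - (i : ℕ)) + j + 1 = N := h
      omega
  · intro l _ hl
    rw [GA_apply, if_neg, zero_mul]
    intro h
    apply hl
    apply Fin.ext
    show (l : ℕ) = N - 1 - i
    omega
  · intro h; exact absurd (Finset.mem_univ _) h

theorem GA_alt (h2 : (2 : F) ≠ 0) (hN : Even N) (u : Fin N → F) :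
    u ⬝ᵥ (GA F N *ᵥ u) = 0 := by
  have h1 : u ⬝ᵥ (GA F N *ᵥ u) = -(u ⬝ᵥ (GA F N *ᵥ u)) := by
    conv_lhs => rw [← Matrix.vecMul_transpose, GA_transpose hN, Matrix.vecMul_neg,
      dotProduct_neg, dotProduct_comm, ← Matrix.dotProduct_mulVec]
  have h3 : (2 : F) * (u ⬝ᵥ (GA F N *ᵥ u)) = 0 := by
    rw [two_mul]
    nth_rewrite 1 [h1]
    exact neg_add_cancel _
  rcases mul_eq_zero.1 h3 with h | h
  · exact absurd h h2
  · exact h

theorem GA_nondeg (hN : Even N) (u : Fin N → F) (hu : ∀ v, u ⬝ᵥ (GA F N *ᵥ v) = 0) : u = 0 := by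
  have h1 : u ᵥ* GA F N = 0 := by
    funext j
    have := hu (Pi.single j 1)
    rw [Matrix.dotProduct_mulVec, dotProduct_single, mul_one] at this
    exact this
  have h2 : (u ᵥ* GA F N) ᵥ* GA F N = -u := by
    rw [Matrix.vecMul_vecMul, GA_mul_GA hN, Matrix.vecMul_neg, Matrix.vecMul_one]
  rw [h1, Matrix.zero_vecMul] at h2
  exact neg_eq_zero.1 h2.symm

end gram

end Cfsg.Agent.H4PSpSpec

namespace Cfsg.Agent.H4PSpSpec

open Polynomial Matrix Module

section cayley

variable (F : Type*) [Field F] (N : ℕ)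

/-- the inverse of `1 - Sh` -/
def Sgeo : Matrix (Fin N) (Fin N) F := ∑ i ∈ Finset.range N, (ShP F N 1) ^ i

/-- Cayley transform of the shift: a regular unipotent isometry of `GA` -/
def Tcay : Matrix (Fin N) (Fin N) F := (1 + ShP F N 1) * Sgeo F N

variable {F N}

theorem one_sub_mul_Sgeo : (1 - ShP F N 1) * Sgeo F N = 1 := by
  unfold Sgeo
  rw [mul_neg_geom_sum, ShP_pow, ShP_eq_zero le_rfl, sub_zero]

theorem Sgeo_mul_one_sub : Sgeo F N * (1 - ShP F N 1) = 1 := by
  unfold Sgeo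
  rw [geom_sum_mul_neg, ShP_pow, ShP_eq_zero le_rfl, sub_zero]

theorem commute_Sh_Sgeo : Commute (ShP F N 1) (Sgeo F N) := by
  unfold Sgeo
  exact Commute.sum_right _ _ _ (fun i _ => (Commute.refl _).pow_right i)

theorem Tcay_isometry : (Tcay F N)ᵀ * GA F N * Tcay F N = GA F N := by
  set Sh := ShP F N 1 with hSh
  set G := GA F N with hG
  set X := Shᵀ * G with hX
  have hskew : G * Sh = -X := by
    rw [hX, hSh, hG, ShP_transpose_mul_GA, neg_neg]
  have hPM : (1 + Sh)ᵀ * G * (1 + Sh) = (1 - Sh)ᵀ * G * (1 - Sh) := by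
    rw [Matrix.transpose_add, Matrix.transpose_sub, Matrix.transpose_one]
    have e1 : (1 + Shᵀ) * G * (1 + Sh) = G + G * Sh + X + X * Sh := by
      rw [add_mul, one_mul, add_mul, mul_add, mul_add, mul_one, mul_one, ← hX]
      abel
    have e2 : (1 - Shᵀ) * G * (1 - Sh) = G - G * Sh - X + X * Sh := by
      rw [sub_mul, one_mul, sub_mul, mul_sub, mul_sub, mul_one, mul_one, ← hX]
      abel
    rw [e1, e2, hskew]
    abel
  unfold Tcay
  rw [Matrix.transpose_mul]
  calc (Sgeo F N)ᵀ * (1 + Sh)ᵀ * G * ((1 + Sh) * Sgeo F N)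
      = (Sgeo F N)ᵀ * ((1 + Sh)ᵀ * G * (1 + Sh)) * Sgeo F N := by
        simp only [Matrix.mul_assoc]
    _ = (Sgeo F N)ᵀ * ((1 - Sh)ᵀ * G * (1 - Sh)) * Sgeo F N := by rw [hPM]
    _ = ((1 - Sh) * Sgeo F N)ᵀ * G * ((1 - Sh) * Sgeo F N) := by
        rw [Matrix.transpose_mul]; simp only [Matrix.mul_assoc]
    _ = G := by rw [one_sub_mul_Sgeo, Matrix.transpose_one, Matrix.one_mul, Matrix.mul_one]

theorem Tcay_sub_one : Tcay F N - 1 = (2 : F) • (ShP F N 1 * Sgeo F N) := by
  unfold Tcay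
  nth_rewrite 2 [← one_sub_mul_Sgeo (F := F) (N := N)]
  rw [← sub_mul, two_smul, ← add_mul]
  congr 1
  abel

theorem Tcay_pow_eq_one_iff [NeZero N] (p : ℕ) [Fact p.Prime] [CharP F p] (h2 : (2 : F) ≠ 0) (e : ℕ) :
    (Tcay F N) ^ (p ^ e) = 1 ↔ N ≤ p ^ e := by
  have hT : Tcay F N = 1 + (Tcay F N - 1) := by abel
  have hpow : (Tcay F N) ^ (p ^ e) = 1 + (Tcay F N - 1) ^ (p ^ e) := by
    nth_rewrite 1 [hT]
    rw [add_pow_char_pow_of_commute p e (Commute.one_left _), one_pow]
  have hN1 : (Tcay F N - 1) ^ (p ^ e) =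
      ((2 : F) ^ (p ^ e)) • (ShP F N (p ^ e) * (Sgeo F N) ^ (p ^ e)) := by
    rw [Tcay_sub_one, _root_.smul_pow, commute_Sh_Sgeo.mul_pow, ShP_pow]
  rw [hpow, hN1]
  constructor
  · intro h
    have h3 : ((2 : F) ^ (p ^ e)) • (ShP F N (p ^ e) * (Sgeo F N) ^ (p ^ e)) = 0 := by
      have := add_eq_left.1 h
      exact this
    rcases smul_eq_zero.1 h3 with h4 | h4
    · exact absurd h4 (pow_ne_zero _ h2)
    · have h5 : ShP F N (p ^ e) = 0 := by
        have := congrArg (· * (1 - ShP F N 1) ^ (p ^ e)) h4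
        simp only [zero_mul, mul_assoc] at this
        have hc : Commute (Sgeo F N) (1 - ShP F N 1) :=
          (Commute.one_right _).sub_right commute_Sh_Sgeo.symm
        rw [← hc.mul_pow, Sgeo_mul_one_sub, one_pow, mul_one] at this
        exact this
      by_contra hlt
      exact ShP_ne_zero (by omega) h5
  · intro h
    rw [ShP_eq_zero h, zero_mul, smul_zero, add_zero]

end cayley

end Cfsg.Agent.H4PSpSpec
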