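import Mathlib
import Cfsg.Agent.Lib.Helper4.PSpSpecH

namespace Cfsg.Agent.H4PSUSpec

open Polynomial Matrix Module
open Cfsg.Agent.H4PSpSpec (ShP ShP_apply ShP_mul ShP_pow ShP_eq_zero ShP_ne_zero)

section shiftform

variable {F : Type*} [Field F] (σ : F →+* F) {N : ℕ}

/-- the antidiagonal sesquilinear form -/
def hRev (x y : Fin N → F) : F := ∑ i, x i * σ (y (Fin.rev i))

theorem hRev_add_left (x x' y : Fin N → F) : hRev σ (x + x') y = hRev σ x y + hRev σ x' y := by
  unfold hRev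
  rw [← Finset.sum_add_distrib]
  apply Finset.sum_congr rfl
  intro i _
  rw [Pi.add_apply, add_mul]

theorem hRev_smul_left (c : F) (x y : Fin N → F) : hRev σ (c • x) y = c * hRev σ x y := by
  unfold hRev
  rw [Finset.mul_sum]
  apply Finset.sum_congr rfl
  intro i _
  rw [Pi.smul_apply, smul_eq_mul, mul_assoc]

theorem hRev_add_right (x y y' : Fin N → F) : hRev σ x (y + y') = hRev σ x y + hRev σ x y' := by
  unfold hRev
  rw [← Finset.sum_add_distrib]
  apply Finset.sum_congr rfl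
  intro i _
  rw [Pi.add_apply, map_add, mul_add]

theorem hRev_smul_right (c : F) (x y : Fin N → F) : hRev σ x (c • y) = σ c * hRev σ x y := by
  unfold hRev
  rw [Finset.mul_sum]
  apply Finset.sum_congr rfl
  intro i _
  rw [Pi.smul_apply, smul_eq_mul, map_mul]
  ring

theorem hRev_symm (hσ : ∀ c, σ (σ c) = c) (x y : Fin N → F) : hRev σ y x = σ (hRev σ x y) := by
  unfold hRev
  rw [map_sum, ← Equiv.sum_comp Fin.revPerm]
  apply Finset.sum_congr rfl
  intro i _
  rw [Fin.revPerm_apply, Fin.rev_rev, map_mul, hσ, mul_comm]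

theorem hRev_nondeg (x : Fin N → F) (h : ∀ y, hRev σ x y = 0) : x = 0 := by
  classical
  funext i
  have := h (Pi.single (Fin.rev i) 1)
  unfold hRev at this
  rw [Finset.sum_eq_single i] at this
  · rw [Pi.single_eq_same, map_one, mul_one] at this
    exact this
  · intro j _ hj
    rw [Pi.single_eq_of_ne (fun h => hj (Fin.rev_injective h)), map_zero, mul_zero]
  · intro h; exact absurd (Finset.mem_univ _) h

theorem ShP_rev (i j : Fin N) : ShP F N 1 (Fin.rev j) (Fin.rev i) = ShP F N 1 i j := by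
  rw [ShP_apply, ShP_apply, Fin.val_rev, Fin.val_rev]
  have hi := i.2
  have hj := j.2
  by_cases h : (j : ℕ) = i + 1
  · rw [if_pos h, if_pos (by omega)]
  · rw [if_neg h, if_neg (by omega)]

theorem ShP_map (m : ℕ) : (ShP F N m).map σ = ShP F N m := by
  ext i j
  rw [Matrix.map_apply, ShP_apply]
  split_ifs <;> simp

theorem hRev_shift (x y : Fin N → F) :
    hRev σ (ShP F N 1 *ᵥ x) y = hRev σ x (ShP F N 1 *ᵥ y) := by
  unfold hRev
  simp only [Matrix.mulVec, dotProduct, map_sum, map_mul, Finset.sum_mul, Finset.mul_sum]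
  rw [Finset.sum_comm]
  apply Finset.sum_congr rfl
  intro j _
  rw [← Equiv.sum_comp Fin.revPerm]
  apply Finset.sum_congr rfl
  intro i _
  rw [Fin.revPerm_apply, Fin.rev_rev]
  have h1 := ShP_rev (F := F) (Fin.rev i) j
  rw [Fin.rev_rev] at h1
  have : σ (ShP F N 1 (Fin.rev j) i) = ShP F N 1 (Fin.rev j) i := by
    rw [ShP_apply]; split_ifs <;> simp
  rw [this, h1]
  ring

theorem hRev_shift_pow (k : ℕ) (x y : Fin N → F) :
    hRev σ ((ShP F N 1) ^ k *ᵥ x) y = hRev σ x ((ShP F N 1) ^ k *ᵥ y) := by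
  induction k generalizing x y with
  | zero => rw [pow_zero, Matrix.one_mulVec, Matrix.one_mulVec]
  | succ k ih =>
    rw [pow_succ, ← Matrix.mulVec_mulVec, ih, hRev_shift, Matrix.mulVec_mulVec, ← pow_succ']
    rw [pow_succ]

theorem hRev_aeval (hσ : ∀ c, σ (σ c) = c) (P : F[X]) (x y : Fin N → F) :
    hRev σ (aeval (ShP F N 1) P *ᵥ x) y = hRev σ x (aeval (ShP F N 1) (P.map σ) *ᵥ y) := by
  induction P using Polynomial.induction_on' with
  | add P Q hP hQ =>
    rw [map_add, Polynomial.map_add, map_add, Matrix.add_mulVec, Matrix.add_mulVec, hRev_add_left,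
      hRev_add_right, hP, hQ]
  | monomial k c =>
    rw [Polynomial.map_monomial, Polynomial.aeval_monomial, Polynomial.aeval_monomial,
      ← Algebra.smul_def, ← Algebra.smul_def, Matrix.smul_mulVec, Matrix.smul_mulVec,
      hRev_smul_left, hRev_smul_right, hσ, hRev_shift_pow]

end shiftform

section cayleyU

variable {F : Type*} [Field F] (σ : F →+* F) (N : ℕ)

/-- the polynomial `1 + d X` -/
noncomputable def PA (d : F) : F[X] := 1 + C d * X

/-- the inverse of `1 + d X` modulo `X ^ N` -/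
noncomputable def QA (d : F) : F[X] := ∑ i ∈ Finset.range N, (-(C d * X)) ^ i

theorem PA_map (d : F) : (PA d).map σ = PA (σ d) := by
  unfold PA
  simp

theorem QA_map (d : F) : (QA N d).map σ = QA N (σ d) := by
  unfold QA
  simp [Polynomial.map_sum]

theorem aeval_PA_QA (d : F) : aeval (ShP F N 1) (PA d * QA N d) = 1 := by
  have h1 : PA d * QA N d = 1 - (-(C d * X)) ^ N := by
    unfold PA QA
    have := mul_neg_geom_sum (-(C d * X)) N
    rw [sub_neg_eq_add] at this
    exact this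
  rw [h1, map_sub, map_one, map_pow, map_neg, map_mul, aeval_C, aeval_X, ← Algebra.smul_def,
    neg_pow, _root_.smul_pow, ShP_pow, ShP_eq_zero le_rfl, smul_zero, mul_zero, sub_zero]

/-- the unitary regular unipotent -/
noncomputable def Ucay (c : F) : Matrix (Fin N) (Fin N) F :=
  aeval (ShP F N 1) (PA c * QA N (σ c))

theorem Ucay_isometry (hσ : ∀ c, σ (σ c) = c) (c : F) (x y : Fin N → F) :
    hRev σ (Ucay σ N c *ᵥ x) (Ucay σ N c *ᵥ y) = hRev σ x y := by
  unfold Ucay
  rw [hRev_aeval σ hσ, Matrix.mulVec_mulVec, ← map_mul, Polynomial.map_mul, PA_map, QA_map, hσ]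
  have : PA (σ c) * QA N c * (PA c * QA N (σ c)) =
      (PA c * QA N c) * (PA (σ c) * QA N (σ c)) := by ring
  rw [this, map_mul, aeval_PA_QA, aeval_PA_QA, one_mul, Matrix.one_mulVec]

theorem Ucay_sub_one (c : F) : Ucay σ N c - 1 =
    (c - σ c) • (ShP F N 1 * aeval (ShP F N 1) (QA N (σ c))) := by
  unfold Ucay
  rw [← aeval_PA_QA N (σ c)]
  rw [← map_sub, ← sub_mul]
  have : PA c - PA (σ c) = C (c - σ c) * X := by
    unfold PA; rw [map_sub]; ring
  rw [this, map_mul, map_mul, aeval_C, aeval_X, ← Algebra.smul_def, smul_mul_assoc]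

theorem Ucay_pow (p : ℕ) [Fact p.Prime] [CharP F p] [NeZero N] (c : F) (e : ℕ) :
    (Ucay σ N c) ^ (p ^ e) = 1 + ((c - σ c) ^ (p ^ e)) •
      (ShP F N (p ^ e) * (aeval (ShP F N 1) (QA N (σ c))) ^ (p ^ e)) := by
  have hT : Ucay σ N c = 1 + (Ucay σ N c - 1) := by abel
  have hcomm : Commute (ShP F N 1) (aeval (ShP F N 1) (QA N (σ c))) := by
    have : ShP F N 1 = aeval (ShP F N 1) (X : F[X]) := by rw [aeval_X]
    nth_rewrite 1 [this]
    show _ * _ = _ * _
    rw [← map_mul, ← map_mul, mul_comm]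
  nth_rewrite 1 [hT]
  rw [add_pow_char_pow_of_commute p e (Commute.one_left _), one_pow, Ucay_sub_one, _root_.smul_pow,
    hcomm.mul_pow, ShP_pow]

theorem Ucay_pow_eq_one (p : ℕ) [Fact p.Prime] [CharP F p] [NeZero N] (c : F) {e : ℕ}
    (h : N ≤ p ^ e) : (Ucay σ N c) ^ (p ^ e) = 1 := by
  rw [Ucay_pow, ShP_eq_zero h, zero_mul, smul_zero, add_zero]

theorem le_of_Ucay_pow_eq_one (p : ℕ) [Fact p.Prime] [CharP F p] [NeZero N] {c : F}
    (hc : c ≠ σ c) {e : ℕ} (h : (Ucay σ N c) ^ (p ^ e) = 1) : N ≤ p ^ e := by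
  rw [Ucay_pow] at h
  have h3 := add_eq_left.1 h
  rcases smul_eq_zero.1 h3 with h4 | h4
  · exact absurd h4 (pow_ne_zero _ (sub_ne_zero.2 hc))
  · have h5 : ShP F N (p ^ e) = 0 := by
      have := congrArg (· * (aeval (ShP F N 1) (PA (σ c))) ^ (p ^ e)) h4
      simp only [zero_mul, mul_assoc] at this
      have hc' : Commute (aeval (ShP F N 1) (QA N (σ c))) (aeval (ShP F N 1) (PA (σ c))) := by
        show _ * _ = _ * _
        rw [← map_mul, ← map_mul, mul_comm]
      rw [← hc'.mul_pow, ← map_mul, mul_comm, aeval_PA_QA, one_pow, mul_one] at this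
      exact this
    by_contra hlt
    exact ShP_ne_zero (by omega) h5

theorem Ucay_det (p : ℕ) [Fact p.Prime] [CharP F p] [NeZero N] (c : F) :
    (Ucay σ N c).det = 1 := by
  have hp : p.Prime := Fact.out
  have h1 : (Ucay σ N c) ^ (p ^ N) = 1 :=
    Ucay_pow_eq_one σ N p c (Nat.lt_pow_self hp.one_lt).le
  have h2 : (Ucay σ N c).det ^ (p ^ N) = 1 := by
    rw [← Matrix.det_pow, h1, Matrix.det_one]
  have h3 : ((Ucay σ N c).det - 1) ^ (p ^ N) = 0 := by
    rw [sub_pow_char_pow, h2, one_pow, sub_self]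
  exact sub_eq_zero.1 (pow_eq_zero_iff (pow_pos hp.pos N).ne' |>.1 h3)

end cayleyU

end Cfsg.Agent.H4PSUSpec
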