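import Mathlib
import Cfsg.Agent.Lib.Helper4.PSLSpecA
import Cfsg.Agent.Lib.Helper4.PSUSpecC
import Cfsg.Agent.Lib.Helper4.PSUSpecI

namespace Cfsg.Agent.H4PSUSpec

open Polynomial Matrix Module
open Cfsg.Agent.H4PSLSpec (exists_mul_add_dvd)

universe u

section unip

variable {F : Type u} [Field F] [Fintype F] (p a : ℕ) [Fact p.Prime] [CharP F p]

theorem exists_nonfixed (hF : Fintype.card F = (p ^ a) ^ 2) : ∃ c : F, c ≠ sig p a c := by
  have h2 := two_le_q p a hF
  obtain ⟨g, hord, -⟩ := exists_gen_units p a hF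
  refine ⟨(g : F), fun h => ?_⟩
  rw [sig_apply] at h
  have h1 : g ^ (p ^ a - 1) = 1 := by
    apply Units.ext
    rw [Units.val_pow_eq_pow_val, Units.val_one]
    have h3 : (g : F) ^ (p ^ a - 1) * g = 1 * g := by
      rw [← pow_succ, Nat.sub_add_cancel (by omega), one_mul, ← h]
    exact mul_right_cancel₀ g.ne_zero h3
  have h4 := orderOf_dvd_of_pow_eq_one h1
  rw [hord] at h4
  have h5 := Nat.le_of_dvd (by omega) h4
  have h6 : (p ^ a - 1) * 2 ≤ (p ^ a - 1) * (p ^ a + 1) := Nat.mul_le_mul_left _ (by omega)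
  omega

theorem exists_unip_pair (hF : Fintype.card F = (p ^ a) ^ 2) {n : ℕ} (hn : 2 ≤ n) {r : ℕ}
    (hr : r.Prime) (hrn : ¬ r ∣ n) {ζ : F} (hζ : orderOf ζ = r) (hζσ : ζ * sig p a ζ = 1) :
    ∃ u z : Matrix (Fin n) (Fin n) F, u * hadj (sig p a) u = 1 ∧ u.det = 1 ∧
      z * hadj (sig p a) z = 1 ∧ z.det = 1 ∧ Commute u z ∧ z ^ r = 1 ∧
      (¬ ∃ c : F, z = c • (1 : Matrix (Fin n) (Fin n) F)) ∧
      ∀ T : ℕ, (∃ l : F, u ^ (p ^ T) = l • (1 : Matrix (Fin n) (Fin n) F)) ↔ n - 1 ≤ p ^ T := by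
  classical
  have hp : p.Prime := Fact.out
  have hσσ := sig_sig p a hF
  obtain ⟨N, rfl⟩ : ∃ N, n = N + 1 := ⟨n - 1, by omega⟩
  haveI : NeZero N := ⟨by omega⟩
  obtain ⟨c, hc⟩ := exists_nonfixed p a hF
  obtain ⟨σ, hσdef⟩ : ∃ σ : F →+* F, σ = sig p a := ⟨_, rfl⟩
  rw [← hσdef] at hσσ hc hζσ ⊢
  let W := (Fin N → F) × F
  let h : W → W → F := fun v w => hRev σ v.1 w.1 + v.2 * σ w.2
  have hh0 : ∀ v w, h v w = hRev σ v.1 w.1 + v.2 * σ w.2 := fun _ _ => rfl
  have ha : ∀ v v' w, h (v + v') w = h v w + h v' w := by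
    intro v v' w
    rw [hh0, hh0, hh0, Prod.fst_add, Prod.snd_add, hRev_add_left, add_mul]
    ring
  have hs : ∀ (d : F) v w, h (d • v) w = d * h v w := by
    intro d v w
    rw [hh0, hh0, Prod.smul_fst, Prod.smul_snd, hRev_smul_left, smul_eq_mul]
    ring
  have hh : ∀ v w, h w v = σ (h v w) := by
    intro v w
    rw [hh0, hh0, map_add, map_mul, hσσ, hRev_symm σ hσσ v.1 w.1]
    ring
  have hnd : ∀ v, (∀ w, h v w = 0) → v = 0 := by
    intro v hv
    have h1 : v.1 = 0 := by
      apply hRev_nondeg σ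
      intro y
      have := hv (y, 0)
      rw [hh0] at this
      simpa using this
    have h2 : v.2 = 0 := by
      have := hv (0, 1)
      rw [hh0] at this
      simpa [hRev] using this
    exact Prod.ext h1 h2
  have hfin : finrank F W = N + 1 := by
    rw [Module.finrank_prod, Module.finrank_fin_fun, Module.finrank_self]
  have hΦ := abs_to_gu p a hF h ha hs (by rw [← hσdef]; exact hh) hnd hfin
  rw [← hσdef] at hΦ
  obtain ⟨Φ, hΦu, hΦd⟩ := hΦ
  obtain ⟨U, hU⟩ : ∃ U : Matrix (Fin N) (Fin N) F, U = Ucay σ N c := ⟨_, rfl⟩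
  let TW : Module.End F W := (Matrix.toLin' U).prodMap LinearMap.id
  obtain ⟨j, hj⟩ := exists_mul_add_dvd hr hrn N
  let R : Module.End F W := ((ζ ^ (j + 1)) • (LinearMap.id : (Fin N → F) →ₗ[F] _)).prodMap
    ((ζ ^ j) • (LinearMap.id : F →ₗ[F] F))
  have hTW : ∀ v, TW v = (U *ᵥ v.1, v.2) := fun v => rfl
  have hR : ∀ v, R v = (ζ ^ (j + 1) • v.1, ζ ^ j • v.2) := fun v => rfl
  have hζr : ζ ^ r = 1 := by rw [← hζ]; exact pow_orderOf_eq_one ζ
  have hnorm : ∀ k, ζ ^ k * σ (ζ ^ k) = 1 := by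
    intro k; rw [map_pow, ← mul_pow, hζσ, one_pow]
  have hTWpow : ∀ k v, (TW ^ k) v = (U ^ k *ᵥ v.1, v.2) := by
    intro k
    induction k with
    | zero => intro v; rw [pow_zero, pow_zero, Module.End.one_apply, Matrix.one_mulVec]
    | succ k ih =>
      intro v
      rw [pow_succ, Module.End.mul_apply, ih, hTW]
      simp only
      rw [Matrix.mulVec_mulVec, ← pow_succ]
  have hRpow : ∀ k v, (R ^ k) v = ((ζ ^ (j + 1)) ^ k • v.1, (ζ ^ j) ^ k • v.2) := by
    intro k
    induction k with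
    | zero => intro v; rw [pow_zero, pow_zero, pow_zero, Module.End.one_apply, one_smul, one_smul]
    | succ k ih =>
      intro v
      rw [pow_succ, Module.End.mul_apply, ih, hR]
      simp only
      rw [smul_smul, smul_smul, ← pow_succ, ← pow_succ]
  refine ⟨Φ TW, Φ R, ?_, ?_, ?_, ?_, ?_, ?_, ?_, ?_⟩
  · apply hΦu
    intro v w
    rw [hTW, hTW, hh0, hh0]
    simp only
    rw [hU, Ucay_isometry σ N hσσ]
  · rw [hΦd, LinearMap.det_prodMap, LinearMap.det_toLin', LinearMap.det_id, mul_one, hU,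
      Ucay_det σ N p c]
  · apply hΦu
    intro v w
    rw [hR, hR, hh0, hh0]
    simp only
    rw [hRev_smul_left, hRev_smul_right, smul_eq_mul, smul_eq_mul, map_mul]
    have e1 := hnorm (j + 1)
    have e2 := hnorm j
    linear_combination (hRev σ v.1 w.1) * e1 + (v.2 * σ w.2) * e2
  · rw [hΦd, LinearMap.det_prodMap, LinearMap.det_smul, LinearMap.det_smul, LinearMap.det_id,
      LinearMap.det_id, Module.finrank_fin_fun, Module.finrank_self, mul_one, mul_one, pow_one,
      ← pow_mul, ← pow_add]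
    obtain ⟨k, hk⟩ := hj
    have : (j + 1) * N + j = r * k := by rw [← hk]; ring
    rw [this, pow_mul, hζr, one_pow]
  · show Φ TW * Φ R = Φ R * Φ TW
    rw [← map_mul, ← map_mul]
    congr 1
    apply LinearMap.ext
    intro v
    rw [Module.End.mul_apply, Module.End.mul_apply, hTW, hR, hTW, hR]
    simp only
    rw [Matrix.mulVec_smul]
  · rw [← map_pow]
    have : R ^ r = 1 := by
      apply LinearMap.ext
      intro v
      rw [hRpow, Module.End.one_apply, ← pow_mul, ← pow_mul, mul_comm (j + 1), mul_comm j, pow_mul,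
        pow_mul, hζr, one_pow, one_pow, one_smul, one_smul]
    rw [this, map_one]
  · rintro ⟨d, hd⟩
    have h1 : R = d • 1 := by
      apply Φ.injective
      rw [hd, map_smul, map_one]
    have h2 : R (0, 1) = (d • (1 : Module.End F W)) (0, 1) := by rw [h1]
    rw [hR, LinearMap.smul_apply, Module.End.one_apply, Prod.smul_mk] at h2
    have h2' : ζ ^ j = d := by
      have := congrArg Prod.snd h2
      simpa using this
    have h3 : R (Pi.single (0 : Fin N) 1, 0) =
        (d • (1 : Module.End F W)) (Pi.single (0 : Fin N) 1, 0) := by rw [h1]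
    rw [hR, LinearMap.smul_apply, Module.End.one_apply, Prod.smul_mk] at h3
    have h4 : ζ ^ (j + 1) = d := by
      have := congrFun (congrArg Prod.fst h3) 0
      simpa using this
    have hζ0 : ζ ≠ 0 := by
      rintro rfl
      rw [zero_pow hr.ne_zero] at hζr
      exact zero_ne_one hζr
    have : ζ = 1 := by
      have h5 : ζ ^ j * ζ = ζ ^ j * 1 := by rw [← pow_succ, h4, mul_one, h2']
      exact mul_left_cancel₀ (pow_ne_zero j hζ0) h5
    rw [this, orderOf_one] at hζ
    exact hr.one_lt.ne' hζ.symm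
  · intro T
    rw [Nat.add_sub_cancel]
    constructor
    · rintro ⟨l, hl⟩
      have h1 : TW ^ (p ^ T) = l • 1 := by
        apply Φ.injective
        rw [map_pow, hl, map_smul, map_one]
      have h2 : (TW ^ (p ^ T)) (0, 1) = (l • (1 : Module.End F W)) (0, 1) := by rw [h1]
      rw [hTWpow, LinearMap.smul_apply, Module.End.one_apply, Prod.smul_mk] at h2
      have hl1 : l = 1 := by
        have := congrArg Prod.snd h2
        simpa using this.symm
      have h3 : U ^ (p ^ T) = 1 := by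
        apply Matrix.toLin'.injective
        apply LinearMap.ext
        intro x
        have h4 : (TW ^ (p ^ T)) (x, 0) = (l • (1 : Module.End F W)) (x, 0) := by rw [h1]
        rw [hTWpow, LinearMap.smul_apply, Module.End.one_apply, Prod.smul_mk, hl1, one_smul] at h4
        have h5 := congrArg Prod.fst h4
        simp only at h5
        rw [Matrix.toLin'_apply, h5, Matrix.toLin'_one, LinearMap.id_apply]
      rw [hU] at h3
      exact le_of_Ucay_pow_eq_one σ N p hc h3
    · intro hT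
      refine ⟨1, ?_⟩
      rw [one_smul, ← map_pow]
      have : TW ^ (p ^ T) = 1 := by
        apply LinearMap.ext
        intro v
        rw [hTWpow, hU, Ucay_pow_eq_one σ N p c hT, Matrix.one_mulVec, Module.End.one_apply]
      rw [this, map_one]

end unip

end Cfsg.Agent.H4PSUSpec
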