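import Mathlib
import Cfsg.Agent.Lib.Helper4.PSLSpecD
import Cfsg.Agent.Lib.Helper4.PSUSpecH
import Cfsg.Agent.Lib.Helper4.PSUSpecJ

namespace Cfsg.Agent.H4PSUSpec

open Polynomial Matrix Module

universe u

section gen

theorem lcm_pow_powU (p a b : ℕ) : Nat.lcm (p ^ a) (p ^ b) = p ^ max a b := by
  rcases le_total a b with h | h
  · rw [max_eq_right h]; exact Nat.lcm_eq_right (pow_dvd_pow p h)
  · rw [max_eq_left h]; exact Nat.lcm_eq_left (pow_dvd_pow p h)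

/-- absorbing `r` into a good element -/
theorem good_absorbU {G : Type*} [Group G] {g z : G} {r : ℕ} (hr : r.Prime) (hc : Commute g z)
    (hz : orderOf z = r) (hrg : ¬ r ∣ orderOf g) : orderOf (g * z) = Nat.lcm (orderOf g) r := by
  have hcop : Nat.Coprime (orderOf g) (orderOf z) := by
    rw [hz]; exact ((Nat.Prime.coprime_iff_not_dvd hr).2 hrg).symm
  rw [hc.orderOf_mul_eq_mul_orderOf_of_coprime hcop, hz]
  rw [hz] at hcop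
  exact hcop.lcm_eq_mul.symm

end gen

section assemble

variable {F : Type u} [Field F] [Fintype F] (p a : ℕ) [Fact p.Prime] [CharP F p] {n : ℕ} [NeZero n]

local notation "SUn" => Cfsg.SU n F (p ^ a)
local notation "PSUn" => Cfsg.PSU n F (p ^ a)

theorem exists_unip_goodU (hF : Fintype.card F = (p ^ a) ^ 2) (hn : 2 ≤ n) {r : ℕ} (hr : r.Prime)
    (hrn : ¬ r ∣ n) {ζ : F} (hζ : orderOf ζ = r) (hζσ : ζ * sig p a ζ = 1) :
    ∃ (h z : PSUn) (T : ℕ), Commute h z ∧ orderOf z = r ∧ orderOf h = p ^ T ∧ n - 1 ≤ p ^ T := by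
  have hp : p.Prime := Fact.out
  haveI : Fact r.Prime := ⟨hr⟩
  obtain ⟨u, z, huu, hud, hzu, hzd, hcomm, hzr, hzs, hT⟩ :=
    exists_unip_pair p a hF hn hr hrn hζ hζσ
  obtain ⟨us, hus⟩ : ∃ us : SUn, us = mkSU p a u huu hud := ⟨_, rfl⟩
  obtain ⟨zs, hzs'⟩ : ∃ zs : SUn, zs = mkSU p a z hzu hzd := ⟨_, rfl⟩
  have husv : us.1.val = u := by rw [hus]; rfl
  have hzsv : zs.1.val = z := by rw [hzs']; rfl
  have hc : Commute us zs := by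
    apply su_ext
    rw [su_coe_mul, su_coe_mul, husv, hzsv]
    exact hcomm.eq
  have hpow : (QuotientGroup.mk us : PSUn) ^ p ^ n = 1 := by
    rw [mk_pow_eq_one_iffU p a hF hn, husv]
    exact (hT n).2 (by have := Nat.lt_pow_self hp.one_lt (n := n); omega)
  obtain ⟨T, -, hTo⟩ := (Nat.dvd_prime_pow hp).1 (orderOf_dvd_of_pow_eq_one hpow)
  refine ⟨QuotientGroup.mk us, QuotientGroup.mk zs, T, hc.map (QuotientGroup.mk' _), ?_, hTo, ?_⟩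
  · apply orderOf_eq_prime
    · rw [mk_pow_eq_one_iffU p a hF hn]
      exact ⟨1, by rw [hzsv, hzr, one_smul]⟩
    · intro h
      have h1 : (QuotientGroup.mk zs : PSUn) ^ 1 = 1 := by rw [pow_one, h]
      rw [mk_pow_eq_one_iffU p a hF hn] at h1
      obtain ⟨l, hl⟩ := h1
      rw [pow_one, hzsv] at hl
      exact hzs ⟨l, hl⟩
  · have h1 : (QuotientGroup.mk us : PSUn) ^ p ^ T = 1 := by rw [← hTo]; exact pow_orderOf_eq_one _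
    rw [mk_pow_eq_one_iffU p a hF hn, husv] at h1
    exact (hT T).1 h1

theorem pow_eq_one_of_p_orderU (hF : Fintype.card F = (p ^ a) ^ 2) (hn : 2 ≤ n) (u : PSUn)
    {t T : ℕ} (hu : orderOf u = p ^ t) (hT : n ≤ p ^ T) : u ^ (p ^ T) = 1 := by
  obtain ⟨x, rfl⟩ := QuotientGroup.mk_surjective u
  have h1 : (QuotientGroup.mk x : PSUn) ^ (p ^ t) = 1 := by
    rw [← hu]; exact pow_orderOf_eq_one _
  obtain ⟨l, hl⟩ := (mk_pow_eq_one_iffU p a hF hn x _).1 h1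
  obtain ⟨ν, hν⟩ : ∃ ν : F, ν ^ p ^ t = l := by
    obtain ⟨ν, hν⟩ := (surjective_frobenius F p).iterate t l
    exact ⟨ν, by rw [← hν, iterate_frobenius]⟩
  obtain ⟨X, hX⟩ : ∃ X : Matrix (Fin n) (Fin n) F, X = x.1.val := ⟨_, rfl⟩
  rw [← hX] at hl
  have hcomm : Commute X (ν • (1 : Matrix (Fin n) (Fin n) F)) :=
    (Commute.one_right X).smul_right ν
  have hnil : (X - ν • (1 : Matrix (Fin n) (Fin n) F)) ^ p ^ t = 0 := by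
    rw [sub_pow_char_pow_of_commute _ _ hcomm, hl, _root_.smul_pow, one_pow, hν, sub_self]
  have hn0 : (X - ν • (1 : Matrix (Fin n) (Fin n) F)) ^ n = 0 :=
    Cfsg.Agent.H4PSLSpec.pow_card_eq_zero_of_isNilpotent ⟨_, hnil⟩
  have hP : (X - ν • (1 : Matrix (Fin n) (Fin n) F)) ^ p ^ T = 0 := by
    obtain ⟨k, hk⟩ := Nat.exists_eq_add_of_le hT
    rw [hk, pow_add, hn0, zero_mul]
  rw [mk_pow_eq_one_iffU p a hF hn]
  refine ⟨ν ^ p ^ T, ?_⟩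
  rw [sub_pow_char_pow_of_commute _ _ hcomm, sub_eq_zero] at hP
  rw [← hX, hP, _root_.smul_pow, one_pow]

theorem p_order_dvdU (hF : Fintype.card F = (p ^ a) ^ 2) (hn : 2 ≤ n) (u : PSUn) {t T : ℕ}
    (hu : orderOf u = p ^ t) (hT : n ≤ p ^ T) : p ^ t ∣ p ^ T := by
  rw [← hu]
  exact orderOf_dvd_of_pow_eq_one (pow_eq_one_of_p_orderU p a hF hn u hu hT)

theorem core3U (hF : Fintype.card F = (p ^ a) ^ 2) (hn : 2 ≤ n) {r : ℕ} (hr : r.Prime)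
    (hrn : ¬ r ∣ n) {ζ : F} (hζ : orderOf ζ = r) (hζσ : ζ * sig p a ζ = 1) (g₁ g₂ g₃ : PSUn) :
    ∃ h₁ h₂ h₃ : PSUn, Nat.lcm (orderOf h₁) (Nat.lcm (orderOf h₂) (orderOf h₃)) =
      Nat.lcm (Nat.lcm (orderOf g₁) (Nat.lcm (orderOf g₂) (orderOf g₃))) r := by
  by_cases hdvd : r ∣ Nat.lcm (orderOf g₁) (Nat.lcm (orderOf g₂) (orderOf g₃))
  · exact ⟨g₁, g₂, g₃, (Nat.lcm_eq_left hdvd).symm⟩
  have hr1 : ¬ r ∣ orderOf g₁ := fun h => hdvd (h.trans (Nat.dvd_lcm_left _ _))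
  have hr2 : ¬ r ∣ orderOf g₂ := fun h =>
    hdvd (h.trans ((Nat.dvd_lcm_left _ _).trans (Nat.dvd_lcm_right _ _)))
  have hr3 : ¬ r ∣ orderOf g₃ := fun h =>
    hdvd (h.trans ((Nat.dvd_lcm_right _ _).trans (Nat.dvd_lcm_right _ _)))
  obtain ⟨S, hSu, hSc, hSh⟩ := exists_torus p a hF (n := n)
  rcases elem_decompU p a hF hn S hSu hSh g₁ hr hrn hζ hζσ with
    ⟨z, hc, hz⟩ | ⟨u₁, c₁, t₁, hT₁, hu₁, ho₁⟩
  · refine ⟨g₁ * z, g₂, g₃, ?_⟩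
    rw [good_absorbU hr hc hz hr1]; ac_rfl
  rcases elem_decompU p a hF hn S hSu hSh g₂ hr hrn hζ hζσ with
    ⟨z, hc, hz⟩ | ⟨u₂, c₂, t₂, hT₂, hu₂, ho₂⟩
  · refine ⟨g₁, g₂ * z, g₃, ?_⟩
    rw [good_absorbU hr hc hz hr2]; ac_rfl
  rcases elem_decompU p a hF hn S hSu hSh g₃ hr hrn hζ hζσ with
    ⟨z, hc, hz⟩ | ⟨u₃, c₃, t₃, hT₃, hu₃, ho₃⟩
  · refine ⟨g₁, g₂, g₃ * z, ?_⟩
    rw [good_absorbU hr hc hz hr3]; ac_rfl
  obtain ⟨c₂₃, hT₂₃, hc₂₃⟩ := hT₂.exists_lcm hSc hT₃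
  obtain ⟨c, hT, hc⟩ := hT₁.exists_lcm hSc hT₂₃
  obtain ⟨_, ρ, _, -, hρ, -, -⟩ := exists_unip_goodU p a hF hn hr hrn hζ hζσ
  have hu : ∃ u : PSUn, orderOf u =
      Nat.lcm (orderOf u₁) (Nat.lcm (orderOf u₂) (orderOf u₃)) := by
    rw [hu₁, hu₂, hu₃, lcm_pow_powU, lcm_pow_powU]
    rcases max_choice t₁ (max t₂ t₃) with h | h
    · exact ⟨u₁, by rw [h, hu₁]⟩
    · rcases max_choice t₂ t₃ with h' | h'
      · exact ⟨u₂, by rw [h, h', hu₂]⟩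
      · exact ⟨u₃, by rw [h, h', hu₃]⟩
  obtain ⟨u, hu⟩ := hu
  refine ⟨u, c, ρ, ?_⟩
  rw [hu, hc, hc₂₃, hρ, ho₁, ho₂, ho₃]
  ac_rfl

theorem core2U (hF : Fintype.card F = (p ^ a) ^ 2) (hn : 2 ≤ n) {r : ℕ} (hr : r.Prime)
    (hrn : ¬ r ∣ n) (hrp : r ≠ p) {ζ : F} (hζ : orderOf ζ = r) (hζσ : ζ * sig p a ζ = 1)
    (hnp : ¬ ∃ j : ℕ, n - 1 = p ^ j) (g₁ g₂ : PSUn) :
    ∃ h₁ h₂ : PSUn, Nat.lcm (orderOf h₁) (orderOf h₂) =
      Nat.lcm (Nat.lcm (orderOf g₁) (orderOf g₂)) r := by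
  have hp : p.Prime := Fact.out
  by_cases hdvd : r ∣ Nat.lcm (orderOf g₁) (orderOf g₂)
  · exact ⟨g₁, g₂, (Nat.lcm_eq_left hdvd).symm⟩
  have hr1 : ¬ r ∣ orderOf g₁ := fun h => hdvd (h.trans (Nat.dvd_lcm_left _ _))
  have hr2 : ¬ r ∣ orderOf g₂ := fun h => hdvd (h.trans (Nat.dvd_lcm_right _ _))
  obtain ⟨S, hSu, hSc, hSh⟩ := exists_torus p a hF (n := n)
  rcases elem_decompU p a hF hn S hSu hSh g₁ hr hrn hζ hζσ with
    ⟨z, hc, hz⟩ | ⟨u₁, c₁, t₁, hT₁, hu₁, ho₁⟩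
  · refine ⟨g₁ * z, g₂, ?_⟩
    rw [good_absorbU hr hc hz hr1]; ac_rfl
  rcases elem_decompU p a hF hn S hSu hSh g₂ hr hrn hζ hζσ with
    ⟨z, hc, hz⟩ | ⟨u₂, c₂, t₂, hT₂, hu₂, ho₂⟩
  · refine ⟨g₁, g₂ * z, ?_⟩
    rw [good_absorbU hr hc hz hr2]; ac_rfl
  obtain ⟨c, hT, hc⟩ := hT₁.exists_lcm hSc hT₂
  obtain ⟨h0, ρ, T, hcomm, hρ, hh0, hTn⟩ := exists_unip_goodU p a hF hn hr hrn hζ hζσ
  have hTn' : n ≤ p ^ T := by
    rcases Nat.lt_or_ge (p ^ T) n with h | h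
    · exfalso; exact hnp ⟨T, by omega⟩
    · exact h
  have hu : ∃ (u : PSUn) (t : ℕ), orderOf u = p ^ t ∧
      p ^ t = Nat.lcm (orderOf u₁) (orderOf u₂) := by
    rw [hu₁, hu₂, lcm_pow_powU]
    rcases max_choice t₁ t₂ with h | h
    · exact ⟨u₁, t₁, hu₁, by rw [h]⟩
    · exact ⟨u₂, t₂, hu₂, by rw [h]⟩
  obtain ⟨u, t, hut, hu⟩ := hu
  have htT : t ≤ T := by
    have := p_order_dvdU p a hF hn u hut hTn'
    exact (Nat.pow_dvd_pow_iff_le_right hp.one_lt).1 this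
  have ho' : orderOf (h0 ^ p ^ (T - t)) = p ^ t := by
    rw [orderOf_pow' _ (pow_ne_zero _ hp.ne_zero), hh0,
      Nat.gcd_eq_right (pow_dvd_pow p (Nat.sub_le T t)),
      Nat.pow_div (Nat.sub_le T t) hp.pos, Nat.sub_sub_self htT]
  have hcomm' : Commute (h0 ^ p ^ (T - t)) ρ := hcomm.pow_left _
  have hrn' : ¬ r ∣ orderOf (h0 ^ p ^ (T - t)) := by
    rw [ho']
    intro h
    exact hrp ((Nat.prime_dvd_prime_iff_eq hr hp).1 (hr.dvd_of_dvd_pow h))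
  refine ⟨h0 ^ p ^ (T - t) * ρ, c, ?_⟩
  rw [good_absorbU hr hcomm' hρ hrn', ho', hu, hc, ho₁, ho₂]
  ac_rfl

end assemble

end Cfsg.Agent.H4PSUSpec
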