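import Mathlib
import Cfsg.Agent.Lib.Helper4.PSpSpecE
import Cfsg.Agent.Lib.Helper4.PSUSpecG

namespace Cfsg.Agent.H4PSUSpec

open Polynomial Matrix Module
open Cfsg.Agent.H4PSpSpec (nilp_pow_mul_idem rank_add_rank_of_idem commute_aeval')

universe u

section aux2

theorem mem_range_of_pow_card {F E : Type*} [Field F] [Fintype F] [Field E] [Algebra F E] {z : E}
    (h : z ^ Fintype.card F = z) : ∃ l : F, algebraMap F E l = z := by
  classical
  by_contra hne
  push Not at hne
  obtain ⟨P, hP⟩ : ∃ P : E[X], P = X ^ Fintype.card F - X := ⟨_, rfl⟩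
  have hP0 : P ≠ 0 := by rw [hP]; exact FiniteField.X_pow_card_sub_X_ne_zero E Fintype.one_lt_card
  have hdeg : P.natDegree = Fintype.card F := by
    rw [hP]; exact FiniteField.X_pow_card_sub_X_natDegree_eq E Fintype.one_lt_card
  let A : Finset E := insert z (Finset.univ.image (algebraMap F E))
  have hA : A.card = Fintype.card F + 1 := by
    rw [Finset.card_insert_of_notMem, Finset.card_image_of_injective _ (algebraMap F E).injective,
      Finset.card_univ]
    intro hz
    obtain ⟨l, -, hl⟩ := Finset.mem_image.1 hz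
    exact hne l hl
  have hsub : A ⊆ P.roots.toFinset := by
    intro w hw
    rw [Multiset.mem_toFinset, Polynomial.mem_roots hP0, Polynomial.IsRoot.def, hP, eval_sub,
      eval_pow, eval_X, sub_eq_zero]
    rcases Finset.mem_insert.1 hw with rfl | hw
    · exact h
    · obtain ⟨l, -, rfl⟩ := Finset.mem_image.1 hw
      rw [← map_pow, FiniteField.pow_card]
  have h1 := Finset.card_le_card hsub
  have h2 : P.roots.toFinset.card ≤ Fintype.card F :=
    (Multiset.toFinset_card_le _).trans ((Polynomial.card_roots' P).trans hdeg.le)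
  omega

end aux2

section torusEvenGen

variable {F : Type u} [Field F] [Fintype F] (p a : ℕ) [Fact p.Prime] [CharP F p]

theorem exists_torus_even_gen (hF : Fintype.card F = (p ^ a) ^ 2) {n k : ℕ} [NeZero n] [NeZero k]
    (hn : n = 2 * k) :
    ∃ (S : Submonoid (Matrix (Fin n) (Fin n) F)) (C₀ : Matrix (Fin n) (Fin n) F),
      (∀ C ∈ S, C * hadj (sig p a) C = 1) ∧
      (∀ C ∈ S, ∀ D ∈ S, Commute C D) ∧
      (∀ (x : Matrix (Fin n) (Fin n) F), x * hadj (sig p a) x = 1 → ∀ b : ℕ, 0 < b → x ^ b = 1 →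
        (Irreducible (minpoly F x) ∨
          ∃ (e₁ : Matrix (Fin n) (Fin n) F) (f₁ : F[X]), Irreducible f₁ ∧ e₁ * e₁ = e₁ ∧
            e₁ + hadj (sig p a) e₁ = 1 ∧ e₁ * hadj (sig p a) e₁ = 0 ∧ aeval x f₁ * e₁ = 0 ∧
            Commute x e₁ ∧ f₁ ∣ minpoly F x) → Hits S x) ∧
      C₀ ∈ S ∧ C₀.det = 1 ∧ (∀ C ∈ S, C.det = 1 → ∃ i : ℕ, C = C₀ ^ i) ∧
      (∀ j : ℕ, (∃ l : F, C₀ ^ j = l • (1 : Matrix (Fin n) (Fin n) F)) ↔
        ((p ^ a) ^ n - 1) ∣ (p ^ a + 1) ^ 2 * j) := by
  classical
  have hp : p.Prime := Fact.out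
  have hσσ := sig_sig p a hF
  let E := FiniteField.Extension F p k
  haveI : Fintype E := Fintype.ofFinite E
  haveI : CharP E p := charP_of_injective_algebraMap (algebraMap F E).injective p
  let φ : E →+* E := iterateFrobenius E p a
  have hφ : ∀ y : E, φ y = y ^ p ^ a := fun y => iterateFrobenius_def p a y
  have hφF : ∀ c : F, φ (algebraMap F E c) = algebraMap F E (sig p a c) := by
    intro c
    rw [hφ, ← map_pow, sig_apply]
  have hφsurj : Function.Surjective φ := Finite.injective_iff_surjective.1 φ.injective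
  have htrφ : ∀ w : E, Algebra.trace F E (φ w) = sig p a (Algebra.trace F E w) := by
    intro w
    rw [hφ, trace_pow_char p w a, sig_apply]
  have hφsmul : ∀ (c : F) (y : E), φ (c • y) = sig p a c • φ y := by
    intro c y
    rw [Algebra.smul_def, map_mul φ, hφF, Algebra.smul_def]
  let h : E × E → E × E → F := fun y z =>
    Algebra.trace F E (y.1 * φ z.2) + sig p a (Algebra.trace F E (z.1 * φ y.2))
  have hh0 : ∀ y z, h y z =
    Algebra.trace F E (y.1 * φ z.2) + sig p a (Algebra.trace F E (z.1 * φ y.2)) := fun y z => rfl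
  have ha : ∀ y y' z, h (y + y') z = h y z + h y' z := by
    intro y y' z
    rw [hh0, hh0, hh0, Prod.fst_add, Prod.snd_add, add_mul, map_add, map_add φ, mul_add, map_add,
      map_add]
    ring
  have hs : ∀ (c : F) y z, h (c • y) z = c * h y z := by
    intro c y z
    have e1 : Algebra.trace F E ((c • y).1 * φ z.2) = c * Algebra.trace F E (y.1 * φ z.2) := by
      rw [Prod.smul_fst, smul_mul_assoc, map_smul, smul_eq_mul]
    have e2 : Algebra.trace F E (z.1 * φ (c • y).2) =
        sig p a c * Algebra.trace F E (z.1 * φ y.2) := by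
      rw [Prod.smul_snd, hφsmul, mul_smul_comm, map_smul, smul_eq_mul]
    rw [hh0, hh0, e1, e2, map_mul (sig p a), hσσ]
    ring
  have hh : ∀ y z, h z y = sig p a (h y z) := by
    intro y z
    rw [hh0, hh0, map_add, hσσ, add_comm]
  have hnd : ∀ y, (∀ z, h y z = 0) → y = 0 := by
    intro y hy
    have h1 : y.1 = 0 := by
      have h2 : ∀ z, Algebra.traceForm F E y.1 z = 0 := by
        intro z
        obtain ⟨z', rfl⟩ := hφsurj z
        have := hy (0, z')
        rw [hh0] at this
        simp only [zero_mul, map_zero, add_zero] at this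
        rw [Algebra.traceForm_apply]
        exact this
      exact (traceForm_nondegenerate F E).1 _ h2
    have h3 : φ y.2 = 0 := by
      have h2 : ∀ z, Algebra.traceForm F E (φ y.2) z = 0 := by
        intro z
        have := hy (z, 0)
        rw [hh0] at this
        simp only [map_zero, mul_zero, zero_add] at this
        rw [Algebra.traceForm_apply, mul_comm]
        have h4 := congrArg (sig p a) this
        rw [hσσ, map_zero] at h4
        exact h4
      exact (traceForm_nondegenerate F E).1 _ h2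
    have h5 : y.2 = 0 := by
      apply φ.injective
      rw [h3, map_zero]
    exact Prod.ext h1 h5
  have hfin : finrank F (E × E) = n := by
    rw [Module.finrank_prod, FiniteField.finrank_extension, hn, two_mul]
  obtain ⟨Φ, hΦu, hΦd⟩ := abs_to_gu p a hF h ha hs hh hnd hfin
  let G : E × E →ₐ[F] Module.End F (E × E) :=
    (LinearMap.prodMapAlgHom F E E).comp (AlgHom.prodMap (Algebra.lmul F E) (Algebra.lmul F E))
  have hG : ∀ (y v : E × E), G y v = (y.1 * v.1, y.2 * v.2) := fun y v => rfl
  let g : E × E →ₐ[F] Matrix (Fin n) (Fin n) F := Φ.toAlgHom.comp G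
  have hg : ∀ y, g y = Φ (G y) := fun y => rfl
  let U : Submonoid (E × E) :=
    { carrier := {y | y.1 * φ y.2 = 1}
      mul_mem' := by
        intro x y hx hy
        show (x * y).1 * φ (x * y).2 = 1
        rw [Prod.fst_mul, Prod.snd_mul, map_mul φ, mul_mul_mul_comm,
          show x.1 * φ x.2 = 1 from hx, show y.1 * φ y.2 = 1 from hy, one_mul]
      one_mem' := by
        show (1 : E × E).1 * φ (1 : E × E).2 = 1
        simp }
  -- cyclic structure of the multiplicative group of `E`
  obtain ⟨ω, hω⟩ := IsCyclic.exists_generator (α := Eˣ)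
  have hq2 := two_le_q p a hF
  have hcardE : Fintype.card E = (p ^ a) ^ n := by
    rw [Fintype.card_eq_nat_card, FiniteField.natCard_extension, Nat.card_eq_fintype_card, hF,
      ← pow_mul, hn]
  have hordω : orderOf ω = (p ^ a) ^ n - 1 := by
    rw [orderOf_eq_card_of_forall_mem_zpowers hω, Nat.card_eq_fintype_card, Fintype.card_units,
      hcardE]
  have hgenω : ∀ y : E, y ≠ 0 → ∃ t : ℕ, y = (ω : E) ^ t := by
    intro y hy
    obtain ⟨t, ht⟩ := Subgroup.mem_zpowers_iff.1 (hω (Units.mk0 y hy))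
    refine ⟨(t % (orderOf ω : ℤ)).toNat, ?_⟩
    have h1 : Units.mk0 y hy = ω ^ (t % (orderOf ω : ℤ)).toNat := by
      rw [← ht, ← zpow_natCast, Int.toNat_of_nonneg (Int.emod_nonneg _ (by
        have := orderOf_pos ω; omega)), zpow_mod_orderOf]
    have h2 := congrArg Units.val h1
    rw [Units.val_mk0, Units.val_pow_eq_pow_val] at h2
    exact h2
  have hωpow : ∀ j : ℕ, (ω : E) ^ j = 1 ↔ ((p ^ a) ^ n - 1) ∣ j := by
    intro j
    rw [← hordω, orderOf_dvd_iff_pow_eq_one, ← Units.val_pow_eq_pow_val, Units.val_eq_one]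
  obtain ⟨q, hqdef⟩ : ∃ q : ℕ, q = p ^ a := ⟨_, rfl⟩
  have hFq : Fintype.card F = q ^ 2 := by rw [hqdef]; exact hF
  rw [← hqdef] at hq2 hcardE hordω hωpow ⊢
  have hq21 : 0 < q ^ 2 - 1 := by
    have : 2 ^ 2 ≤ q ^ 2 := Nat.pow_le_pow_left hq2 2
    omega
  obtain ⟨e, he⟩ : ∃ e, q ^ n - 1 = e * (q ^ 2 - 1) := by
    obtain ⟨c, hc⟩ := Nat.pow_sub_one_dvd_pow_sub_one q (⟨k, hn⟩ : 2 ∣ n)
    exact ⟨c, by rw [hc, mul_comm]⟩
  have hqq : (q + 1) * (q - 1) = q ^ 2 - 1 := by
    obtain ⟨c, rfl⟩ : ∃ c, q = c + 2 := ⟨q - 2, by omega⟩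
    have : (c + 2) ^ 2 = (c + 2 + 1) * (c + 1) + 1 := by ring
    have h2 : c + 2 - 1 = c + 1 := by omega
    rw [h2]
    omega
  have hMq : q ^ n - 1 = (q + 1) * (e * (q - 1)) := by
    rw [he, ← hqq]; ring
  have he0 : 0 < e * (q - 1) := by
    rcases Nat.eq_zero_or_pos (e * (q - 1)) with h | h
    · rw [h, mul_zero] at hMq
      have : 2 ^ n ≤ q ^ n := Nat.pow_le_pow_left hq2 n
      have : 2 ≤ 2 ^ n := by
        calc 2 = 2 ^ 1 := by norm_num
          _ ≤ 2 ^ n := Nat.pow_le_pow_right (by norm_num) (Nat.pos_of_ne_zero (NeZero.ne n))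
      omega
    · exact h
  have hnorm : ∀ y : E, algebraMap F E (Algebra.norm F y) = y ^ e := by
    intro y
    rw [FiniteField.algebraMap_norm_eq_pow, Nat.card_eq_fintype_card, Nat.card_eq_fintype_card,
      hcardE, hFq, he, Nat.mul_div_cancel _ hq21]
  have hnormφ : ∀ z : E, Algebra.norm F (φ z) = sig p a (Algebra.norm F z) := by
    intro z
    apply (algebraMap F E).injective
    rw [hnorm, ← hφF, hnorm, map_pow]
  have hGp : ∀ y : E × E, G y = (Algebra.lmul F E y.1).prodMap (Algebra.lmul F E y.2) :=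
    fun y => rfl
  have hdetg : ∀ y : E × E, (g y).det = Algebra.norm F y.1 * Algebra.norm F y.2 := by
    intro y
    rw [hg, hΦd, hGp, LinearMap.det_prodMap]
    rfl
  have hU1 : ∀ y : E × E, y ∈ U → y.1 * φ y.2 = 1 := fun y hy => hy
  have hdet1 : ∀ y : E × E, y ∈ U → ((g y).det = 1 ↔ y.1 ^ (e * (q - 1)) = 1) := by
    intro y hy
    have h1 := hU1 y hy
    have h2 : Algebra.norm F y.1 * sig p a (Algebra.norm F y.2) = 1 := by
      rw [← hnormφ, ← map_mul, h1, map_one]
    have hν0 : Algebra.norm F y.1 ≠ 0 := left_ne_zero_of_mul_eq_one h2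
    have h3 : Algebra.norm F y.2 = (sig p a (Algebra.norm F y.1))⁻¹ := by
      have h4 : sig p a (Algebra.norm F y.2) = (Algebra.norm F y.1)⁻¹ :=
        eq_inv_of_mul_eq_one_right h2
      have h5 := congrArg (sig p a) h4
      rw [hσσ, map_inv₀] at h5
      exact h5
    have hσν0 : sig p a (Algebra.norm F y.1) ≠ 0 := by
      rw [Ne, map_eq_zero]; exact hν0
    rw [hdetg, h3, mul_inv_eq_one₀ hσν0, sig_apply, ← hqdef]
    have h6 : y.1 ^ (e * (q - 1)) = algebraMap F E ((Algebra.norm F y.1) ^ (q - 1)) := by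
      rw [map_pow, hnorm, pow_mul]
    rw [h6]
    constructor
    · intro h
      have h7 : (Algebra.norm F y.1) ^ (q - 1) * Algebra.norm F y.1 = 1 * Algebra.norm F y.1 := by
        rw [← pow_succ, Nat.sub_add_cancel (by omega), one_mul, ← h]
      rw [mul_right_cancel₀ hν0 h7, map_one]
    · intro h
      have h7 : (Algebra.norm F y.1) ^ (q - 1) = 1 := by
        apply (algebraMap F E).injective
        rw [h, map_one]
      calc Algebra.norm F y.1 = (Algebra.norm F y.1) ^ (q - 1) * Algebra.norm F y.1 := by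
            rw [h7, one_mul]
        _ = (Algebra.norm F y.1) ^ q := by rw [← pow_succ, Nat.sub_add_cancel (by omega)]
  -- the generator of the determinant-one part
  obtain ⟨y₀, hy₀⟩ : ∃ y₀ : E, y₀ = (ω : E) ^ (q + 1) := ⟨_, rfl⟩
  have hy₀0 : y₀ ≠ 0 := by rw [hy₀]; exact pow_ne_zero _ ω.ne_zero
  obtain ⟨y₀', hy₀'⟩ := hφsurj y₀⁻¹
  have hU0 : (y₀, y₀') ∈ U := by
    show y₀ * φ y₀' = 1
    rw [hy₀', mul_inv_cancel₀ hy₀0]
  have hginj : Function.Injective g := by
    intro y z hyz
    have h1 : G y = G z := Φ.injective hyz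
    have h2 := congrArg (fun T : Module.End F (E × E) => T (1, 1)) h1
    simp only [hG, mul_one] at h2
    exact h2
  have hgsmul : ∀ l : F, g (algebraMap F E l, algebraMap F E l) =
      l • (1 : Matrix (Fin n) (Fin n) F) := by
    intro l
    have h1 : (algebraMap F E l, algebraMap F E l) = algebraMap F (E × E) l := rfl
    rw [h1, AlgHom.commutes, Algebra.algebraMap_eq_smul_one]
  refine ⟨U.map (g : E × E →* Matrix (Fin n) (Fin n) F), g (y₀, y₀'), ?_, ?_, ?_,
    ⟨(y₀, y₀'), hU0, rfl⟩, ?_, ?_, ?_⟩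
  · rintro C ⟨y, hy, rfl⟩
    show g y * hadj (sig p a) (g y) = 1
    rw [hg]
    apply hΦu
    intro v w
    rw [hG, hG, hh0, hh0]
    simp only
    rw [map_mul φ, map_mul φ]
    have e1 : y.1 * v.1 * (φ y.2 * φ w.2) = (y.1 * φ y.2) * (v.1 * φ w.2) := by ring
    have e2 : y.1 * w.1 * (φ y.2 * φ v.2) = (y.1 * φ y.2) * (w.1 * φ v.2) := by ring
    rw [e1, e2, show y.1 * φ y.2 = 1 from hy, one_mul, one_mul]
  · rintro C ⟨y₁, -, rfl⟩ D ⟨y₂, -, rfl⟩
    show g y₁ * g y₂ = g y₂ * g y₁
    rw [← map_mul, ← map_mul, mul_comm]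
  · intro x hx b hb0 hxb hcase
    -- the key reduction
    have key : ∀ y : E × E, y ∈ U →
        (∃ ψ : (Fin n → F) ≃ₗ[F] E × E, ∀ v, ψ (Matrix.toLin' x v) = G y (ψ v)) →
        Hits (U.map (g : E × E →* Matrix (Fin n) (Fin n) F)) x := by
      rintro y hy ⟨ψ, hψ⟩
      let Θ : Matrix (Fin n) (Fin n) F ≃ₐ[F] Matrix (Fin n) (Fin n) F :=
        (Matrix.toLinAlgEquiv' : Matrix (Fin n) (Fin n) F ≃ₐ[F] _).trans
          ((LinearEquiv.conjAlgEquiv F ψ).trans Φ)
      have hΘ1 : LinearEquiv.conjAlgEquiv F ψ (Matrix.toLin' x) = G y := by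
        rw [LinearEquiv.conjAlgEquiv_apply]
        apply LinearMap.ext
        intro e
        simp only [LinearMap.comp_apply, LinearEquiv.coe_coe]
        rw [hψ, LinearEquiv.apply_symm_apply]
      have hΘ : Θ x = g y := by
        show Φ (LinearEquiv.conjAlgEquiv F ψ (Matrix.toLin' x)) = _
        rw [hΘ1, hg]
      refine ⟨g y, ⟨y, hy, rfl⟩, ?_, fun j l => ?_⟩
      · rw [hg, hΦd, ← hΘ1, LinearEquiv.conjAlgEquiv_apply]
        exact (LinearMap.det_conj (Matrix.toLin' x) ψ).trans (LinearMap.det_toLin' x)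
      · rw [← hΘ]
        exact algEquiv_pow_eq_smul_iff Θ x j l
    have haevalG : ∀ (y : E × E) (P : F[X]), aeval (G y) P = G (aeval y.1 P, aeval y.2 P) := by
      intro y P
      rw [Polynomial.aeval_algHom_apply, Polynomial.aeval_prod_apply]
    have hG0 : G (0, 0) = 0 := map_zero G
    have hadjx := hadj_eq_pow (sig p a) hx hb0 hxb
    -- Frobenius twist in E
    have hfrobE : ∀ (w : E) (P : F[X]), aeval (φ w) (P.map (sig p a)) = φ (aeval w P) := by
      intro w P
      rw [hφ, hφ, aeval_frob_pow p a hF w (P.map (sig p a)), Polynomial.map_map]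
      have : (sig p a).comp (sig p a) = RingHom.id F := by
        ext c; exact hσσ c
      rw [this, Polynomial.map_id]
    rcases hcase with hirr | ⟨e₁, f₁, hf₁, h11, hsum, h12, hfe, hce, hfμ⟩
    · -- type (a)
      set μ := minpoly F x with hμ
      obtain ⟨hodd, -⟩ := frobU p a hF x hirr hx hb0 hxb
      obtain ⟨hd, -⟩ := nilp_pow_mul_idem x 0 1 hirr ⟨1, by simp⟩ (Commute.zero_left x)
        (Commute.one_left x) (Commute.zero_left 1)
      rw [Matrix.rank_one, Fintype.card_fin] at hd
      have hd' : μ.natDegree ∣ 2 * k := by rw [← hn]; exact hd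
      have hdk : μ.natDegree ∣ k :=
        (Nat.Coprime.dvd_of_dvd_mul_left (Nat.Coprime.symm (Nat.coprime_two_left.2 hodd)) hd')
      haveI : Fact (Irreducible μ) := ⟨hirr⟩
      let K := AdjoinRoot μ
      haveI : Module.Finite F K := (AdjoinRoot.powerBasis hirr.ne_zero).finite
      have hdeg : Module.finrank F K = μ.natDegree := by
        rw [(AdjoinRoot.powerBasis hirr.ne_zero).finrank, AdjoinRoot.powerBasis_dim]
      obtain ⟨ι⟩ := FiniteField.nonempty_algHom_of_finrank_dvd (F := F) (K := K) (L := E)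
        (by rw [FiniteField.finrank_extension, hdeg]; exact hdk)
      set θ : E := ι (AdjoinRoot.root μ) with hθdef
      have hθ : aeval θ μ = 0 := by
        rw [hθdef, Polynomial.aeval_algHom_apply, AdjoinRoot.aeval_eq, AdjoinRoot.mk_self, map_zero]
      have hθb : θ ^ b = 1 := by
        have h1 : aeval x (X ^ b - 1 : F[X]) = 0 := by
          rw [map_sub, map_pow, aeval_X, map_one, hxb, sub_self]
        have := transfer_root x hθ h1
        rw [map_sub, map_pow, aeval_X, map_one, sub_eq_zero] at this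
        exact this
      obtain ⟨θ', hθ'⟩ := hφsurj (θ ^ (b - 1))
      have hU : (θ, θ') ∈ U := by
        show θ * φ θ' = 1
        rw [hθ', ← pow_succ', Nat.sub_add_cancel hb0, hθb]
      have hint' : IsIntegral F θ' := Algebra.IsIntegral.isIntegral θ'
      set g₂ := minpoly F θ' with hg₂
      have hg₂irr : Irreducible g₂ := minpoly.irreducible hint'
      -- g₂ kills x
      have hx2 : aeval x g₂ = 0 := by
        have h1 : aeval θ ((g₂.map (sig p a)).comp (X ^ (b - 1))) = 0 := by
          rw [aeval_comp, map_pow, aeval_X, ← hθ', hfrobE, minpoly.aeval, map_zero]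
        have h2 : aeval x ((g₂.map (sig p a)).comp (X ^ (b - 1))) = 0 := by
          obtain ⟨R, hR⟩ := irr_dvd_of_root hirr hθ h1
          rw [hR, map_mul, minpoly.aeval, zero_mul]
        rw [aeval_comp, map_pow, aeval_X, ← hadjx, ← hadj_aeval] at h2
        have := congrArg (hadj (sig p a)) h2
        rw [hadj_hadj _ hσσ, hadj_zero] at this
        exact this
      have hθ2 : aeval θ g₂ = 0 := transfer_root x hθ hx2
      apply key (θ, θ') hU
      apply conj_irr_lin g₂ hg₂irr (Matrix.toLin' x) (G (θ, θ'))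
      · rw [aeval_toLin', hx2, map_zero]
      · rw [haevalG]
        simp only
        rw [hθ2, minpoly.aeval, hG0]
      · rw [Module.finrank_fin_fun, hfin]
    · -- type (b)
      set e₂ := hadj (sig p a) e₁ with he₂def
      have he2 : e₂ = 1 - e₁ := eq_sub_of_add_eq' hsum
      have h21 : e₂ * e₁ = 0 := by rw [he2, sub_mul, one_mul, h11, sub_self]
      have hce2 : Commute x e₂ := by
        rw [he2]; exact (Commute.one_right x).sub_right hce
      have hr1 := rank_add_rank_of_idem e₁ h11
      have hr2 := rank_hadj p a hF e₁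
      rw [← he2, Fintype.card_fin] at hr1
      have hrk1 : e₁.rank = k := by
        have : e₂.rank = e₁.rank := hr2
        omega
      have hrk2 : e₂.rank = k := by rw [show e₂.rank = e₁.rank from hr2, hrk1]
      let T : Matrix (Fin n) (Fin n) F ≃ₐ[F] Module.End F (Fin n → F) := Matrix.toLinAlgEquiv'
      have hT : ∀ M, T M = Matrix.toLin' M := fun M => rfl
      have hTr : ∀ M : Matrix (Fin n) (Fin n) F,
          finrank F (LinearMap.range (T M)) = M.rank := by
        intro M
        rw [hT, Matrix.toLin'_apply']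
        rfl
      have hTx1 : aeval (T x) f₁ * T e₁ = 0 := by
        rw [hT x, aeval_toLin', ← hT, ← map_mul, hfe, map_zero]
      have hd1 : f₁.natDegree ∣ k := by
        have := natDegree_dvd_finrank_range (T x) (T e₁) (by rw [← map_mul, h11])
          (by
            show T x * T e₁ = T e₁ * T x
            rw [← map_mul, ← map_mul, hce.eq]) f₁ hf₁ hTx1
        rw [hTr, hrk1] at this
        exact this
      haveI : Fact (Irreducible f₁) := ⟨hf₁⟩
      let K := AdjoinRoot f₁
      haveI : Module.Finite F K := (AdjoinRoot.powerBasis hf₁.ne_zero).finite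
      have hdeg : Module.finrank F K = f₁.natDegree := by
        rw [(AdjoinRoot.powerBasis hf₁.ne_zero).finrank, AdjoinRoot.powerBasis_dim]
      obtain ⟨ι⟩ := FiniteField.nonempty_algHom_of_finrank_dvd (F := F) (K := K) (L := E)
        (by rw [FiniteField.finrank_extension, hdeg]; exact hd1)
      obtain ⟨y, hydef⟩ : ∃ y : E, y = ι (AdjoinRoot.root f₁) := ⟨_, rfl⟩
      have hy : aeval y f₁ = 0 := by
        rw [hydef, Polynomial.aeval_algHom_apply, AdjoinRoot.aeval_eq, AdjoinRoot.mk_self, map_zero]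
      have hyb : y ^ b = 1 := by
        have h1 : aeval x (X ^ b - 1 : F[X]) = 0 := by
          rw [map_sub, map_pow, aeval_X, map_one, hxb, sub_self]
        obtain ⟨R, hR⟩ := hfμ.trans (minpoly.dvd F x h1)
        have h2 : aeval y (X ^ b - 1 : F[X]) = 0 := by rw [hR, map_mul, hy, zero_mul]
        rw [map_sub, map_pow, aeval_X, map_one, sub_eq_zero] at h2
        exact h2
      obtain ⟨y', hy'⟩ := hφsurj (y ^ (b - 1))
      have hU : (y, y') ∈ U := by
        show y * φ y' = 1
        rw [hy', ← pow_succ', Nat.sub_add_cancel hb0, hyb]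
      have hint' : IsIntegral F y' := Algebra.IsIntegral.isIntegral y'
      obtain ⟨g₂, hg₂⟩ : ∃ g₂ : F[X], g₂ = minpoly F y' := ⟨_, rfl⟩
      have hg₂irr : Irreducible g₂ := by rw [hg₂]; exact minpoly.irreducible hint'
      have hy'2 : aeval y' g₂ = 0 := by rw [hg₂]; exact minpoly.aeval F y'
      have hx2 : aeval x g₂ * e₂ = 0 := by
        have h1 : aeval y ((g₂.map (sig p a)).comp (X ^ (b - 1))) = 0 := by
          rw [aeval_comp, map_pow, aeval_X, ← hy', hfrobE, hy'2, map_zero]
        obtain ⟨R, hR⟩ := irr_dvd_of_root hf₁ hy h1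
        have h2 : aeval x ((g₂.map (sig p a)).comp (X ^ (b - 1))) * e₁ = 0 := by
          rw [hR, mul_comm f₁ R, map_mul, mul_assoc, hfe, mul_zero]
        rw [aeval_comp, map_pow, aeval_X, ← hadjx, ← hadj_aeval] at h2
        have h3 := congrArg (hadj (sig p a)) h2
        rw [hadj_mul, hadj_hadj _ hσσ, hadj_zero] at h3
        have h4 : Commute (aeval x g₂) e₂ := by
          have : Commute e₂ x := hce2.symm
          exact (commute_aeval' this g₂).symm
        rw [h4.eq]
        exact h3
      apply key (y, y') hU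
      have hTx2 : aeval (T x) g₂ * T e₂ = 0 := by
        rw [hT x, aeval_toLin', ← hT, ← map_mul, hx2, map_zero]
      have hfinE : finrank F E = k := FiniteField.finrank_extension F p k
      have := conj_two (T x) (T e₁) (T e₂) (by rw [← map_add, hsum, map_one])
        (by rw [← map_mul, h12, map_zero]) (by rw [← map_mul, h21, map_zero])
        (by
          show T x * T e₁ = T e₁ * T x
          rw [← map_mul, ← map_mul, hce.eq])
        (by
          show T x * T e₂ = T e₂ * T x
          rw [← map_mul, ← map_mul, hce2.eq])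
        f₁ g₂ hf₁ hg₂irr hTx1 hTx2 (Algebra.lmul F E y) (Algebra.lmul F E y')
        (by rw [aeval_lmul, hy, map_zero]) (by rw [aeval_lmul, hy'2, map_zero])
        (by rw [hTr, hrk1, hfinE]) (by rw [hTr, hrk2, hfinE])
      obtain ⟨ψ, hψ⟩ := this
      exact ⟨ψ, fun v => hψ v⟩
  · -- determinant of the generator
    rw [hdet1 _ hU0]
    show y₀ ^ (e * (q - 1)) = 1
    rw [hy₀, ← pow_mul, ← hMq]
    exact (hωpow _).2 dvd_rfl
  · -- every determinant-one element is a power of the generator
    rintro C ⟨y, hy, rfl⟩ hC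
    have hC' : (g y).det = 1 := hC
    rw [hdet1 y hy] at hC'
    have h1 := hU1 y hy
    have hy10 : y.1 ≠ 0 := left_ne_zero_of_mul_eq_one h1
    obtain ⟨t, ht⟩ := hgenω y.1 hy10
    rw [ht, ← pow_mul, hωpow, hMq] at hC'
    have h2 : (q + 1) ∣ t := by
      have h3 : (q + 1) * (e * (q - 1)) ∣ t * (e * (q - 1)) := hC'
      exact (Nat.mul_dvd_mul_iff_right he0).1 h3
    obtain ⟨i, hi⟩ := h2
    refine ⟨i, ?_⟩
    have e1 : y.1 = y₀ ^ i := by rw [ht, hi, pow_mul, ← hy₀]
    have e2 : y.2 = y₀' ^ i := by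
      apply φ.injective
      rw [map_pow, hy₀', inv_pow, ← e1]
      exact eq_inv_of_mul_eq_one_right h1
    have e3 : y = (y₀, y₀') ^ i := Prod.ext e1 e2
    show g y = g (y₀, y₀') ^ i
    rw [e3, map_pow]
  · -- scalar powers of the generator
    intro j
    have hpowj : g (y₀, y₀') ^ j = g (y₀ ^ j, y₀' ^ j) := by
      rw [← map_pow]; rfl
    constructor
    · rintro ⟨l, hl⟩
      rw [hpowj, ← hgsmul] at hl
      have h1 := hginj hl
      have h2 : y₀ ^ j = algebraMap F E l := congrArg Prod.fst h1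
      have h3 : y₀' ^ j = algebraMap F E l := congrArg Prod.snd h1
      have h4 : y₀ ^ j * φ (y₀' ^ j) = 1 := by
        rw [map_pow, ← mul_pow, hU1 _ hU0, one_pow]
      rw [h2, h3, hφF, ← map_mul, sig_apply, ← hqdef, ← pow_succ'] at h4
      have h5 : (y₀ ^ j) ^ (q + 1) = 1 := by
        rw [h2, ← map_pow, h4]
      rw [hy₀, ← pow_mul, ← pow_mul, hωpow] at h5
      have : (q + 1) * j * (q + 1) = (q + 1) ^ 2 * j := by ring
      have this2 : (q + 1) * (j * (q + 1)) = (q + 1) ^ 2 * j := by ring
      first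
        | (rw [this] at h5; exact h5)
        | (rw [this2] at h5; exact h5)
    · intro hd
      have h5 : (y₀ ^ j) ^ (q + 1) = 1 := by
        rw [hy₀, ← pow_mul, ← pow_mul, hωpow]
        have : (q + 1) * j * (q + 1) = (q + 1) ^ 2 * j := by ring
        have this2 : (q + 1) * (j * (q + 1)) = (q + 1) ^ 2 * j := by ring
        first
          | (rw [this]; exact hd)
          | (rw [this2]; exact hd)
      have h6 : (y₀ ^ j) ^ Fintype.card F = y₀ ^ j := by
        have h7 : q ^ 2 = (q + 1) * (q - 1) + 1 := by omega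
        rw [hFq, h7, pow_succ, pow_mul, h5, one_pow, one_mul]
      obtain ⟨l, hl⟩ := mem_range_of_pow_card h6
      refine ⟨l, ?_⟩
      have h8 : l ^ (q + 1) = 1 := by
        apply (algebraMap F E).injective
        rw [map_pow, hl, h5, map_one]
      have h9 : l * sig p a l = 1 := by
        rw [sig_apply, ← hqdef, ← pow_succ', h8]
      have hl0 : l ≠ 0 := left_ne_zero_of_mul_eq_one h9
      have h10 : y₀' ^ j = algebraMap F E l := by
        apply φ.injective
        rw [map_pow, hy₀', inv_pow, ← hl, hφF, ← map_inv₀]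
        congr 1
        exact (eq_inv_of_mul_eq_one_right h9).symm
      rw [hpowj, ← hgsmul, h10, ← hl]

end torusEvenGen

end Cfsg.Agent.H4PSUSpec
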