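import Mathlib
import Cfsg.Agent.Lib.Helper4.PSpSpecE
import Cfsg.Agent.Lib.Helper4.PSUSpecG

namespace Cfsg.Agent.H4PSUSpec

open Polynomial Matrix Module
open Cfsg.Agent.H4PSpSpec (rank_add_rank_of_idem commute_aeval' squarefree_minpoly_of_pow
  exists_idem_poly aeval_eq_zero_of_dvd)

universe u

section polyaux

variable {F : Type*} [Field F]

/-- a squarefree polynomial not dividing `P` has an irreducible factor not dividing `P` -/
theorem exists_irr_factor_not_dvd {μ P : F[X]} (hsq : Squarefree μ) (h : ¬ μ ∣ P) :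
    ∃ f : F[X], Irreducible f ∧ f ∣ μ ∧ ¬ f ∣ P := by
  classical
  have hμ0 : μ ≠ 0 := hsq.ne_zero
  obtain ⟨h', hh'⟩ : EuclideanDomain.gcd μ P ∣ μ := EuclideanDomain.gcd_dvd_left μ P
  have hnu : ¬ IsUnit h' := by
    intro hu
    apply h
    have h1 : μ ∣ EuclideanDomain.gcd μ P := by
      obtain ⟨w, hw⟩ := hu
      refine ⟨((w⁻¹ : F[X]ˣ) : F[X]), ?_⟩
      calc EuclideanDomain.gcd μ P
          = EuclideanDomain.gcd μ P * ((w : F[X]) * ((w⁻¹ : F[X]ˣ) : F[X])) := by
            rw [Units.mul_inv, mul_one]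
        _ = (EuclideanDomain.gcd μ P * h') * ((w⁻¹ : F[X]ˣ) : F[X]) := by rw [← hw, mul_assoc]
        _ = μ * ((w⁻¹ : F[X]ˣ) : F[X]) := by rw [← hh']
    exact h1.trans (EuclideanDomain.gcd_dvd_right μ P)
  have hh0 : h' ≠ 0 := by
    rintro rfl
    rw [mul_zero] at hh'
    exact hμ0 hh'
  obtain ⟨f, hf, hfd⟩ := WfDvdMonoid.exists_irreducible_factor hnu hh0
  refine ⟨f, hf, hfd.trans (Dvd.intro_left _ hh'.symm), fun hfP => ?_⟩
  have hfμ : f ∣ μ := hfd.trans (Dvd.intro_left _ hh'.symm)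
  have hfg : f ∣ EuclideanDomain.gcd μ P := EuclideanDomain.dvd_gcd hfμ hfP
  have h2 : f * f ∣ μ := by
    rw [hh']
    exact mul_dvd_mul hfg hfd
  exact hf.not_isUnit (hsq f h2)

end polyaux

section rankaux

variable {F : Type*} [Field F] {ι : Type*} [Fintype ι] [DecidableEq ι]

theorem rank_add_of_orth (e₁ e₂ : Matrix ι ι F) (h11 : e₁ * e₁ = e₁) (h22 : e₂ * e₂ = e₂)
    (h12 : e₁ * e₂ = 0) (h21 : e₂ * e₁ = 0) : (e₁ + e₂).rank = e₁.rank + e₂.rank := by
  have hsup : LinearMap.range (e₁ + e₂).mulVecLin =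
      LinearMap.range e₁.mulVecLin ⊔ LinearMap.range e₂.mulVecLin := by
    apply le_antisymm
    · rintro _ ⟨v, rfl⟩
      rw [Matrix.mulVecLin_apply, Matrix.add_mulVec]
      exact Submodule.add_mem_sup ⟨v, rfl⟩ ⟨v, rfl⟩
    · apply sup_le
      · rintro _ ⟨v, rfl⟩
        refine ⟨e₁.mulVec v, ?_⟩
        simp only [Matrix.mulVecLin_apply]
        rw [Matrix.mulVec_mulVec, add_mul, h11, h21, add_zero]
      · rintro _ ⟨v, rfl⟩
        refine ⟨e₂.mulVec v, ?_⟩
        simp only [Matrix.mulVecLin_apply]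
        rw [Matrix.mulVec_mulVec, add_mul, h12, h22, zero_add]
  have hinf : LinearMap.range e₁.mulVecLin ⊓ LinearMap.range e₂.mulVecLin = ⊥ := by
    rw [eq_bot_iff]
    rintro w ⟨⟨u, hu⟩, ⟨v, hv⟩⟩
    rw [Matrix.mulVecLin_apply] at hu hv
    have h1 : e₁.mulVec w = w := by
      rw [← hu, Matrix.mulVec_mulVec, h11]
    have h2 : e₁.mulVec w = 0 := by
      rw [← hv, Matrix.mulVec_mulVec, h12, Matrix.zero_mulVec]
    rw [Submodule.mem_bot, ← h1, h2]
  have := Submodule.finrank_sup_add_finrank_inf_eq (LinearMap.range e₁.mulVecLin)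
    (LinearMap.range e₂.mulVecLin)
  rw [hinf, finrank_bot, add_zero, ← hsup] at this
  exact this

theorem eq_zero_of_rank_eq_zero (M : Matrix ι ι F) (h : M.rank = 0) : M = 0 := by
  have h1 : LinearMap.range M.mulVecLin = ⊥ := Submodule.finrank_eq_zero.1 h
  have h2 : M.mulVecLin = 0 := LinearMap.range_eq_bot.1 h1
  ext i j
  have h3 := congrFun (congrArg (fun T => T (Pi.single j 1)) h2) i
  simp only [Matrix.mulVecLin_apply, LinearMap.zero_apply, Pi.zero_apply] at h3
  rw [Matrix.mulVec_single_one] at h3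
  exact h3

end rankaux

section frobfield

variable {F : Type*} [Field F] [Fintype F] (p a : ℕ) [Fact p.Prime] [CharP F p]

/-- the Frobenius argument of `frobU` inside the field `F[X]/f` -/
theorem frob_field (hF : Fintype.card F = (p ^ a) ^ 2) (f : F[X]) [Fact (Irreducible f)] {b : ℕ}
    (hb0 : 0 < b) (hrb : (AdjoinRoot.root f) ^ b = 1)
    (hroot1 : aeval ((AdjoinRoot.root f) ^ (b - 1)) (f.map (sig p a)) = 0) :
    Odd f.natDegree ∧ ∃ j : ℕ,
      ((AdjoinRoot.root f) ^ (b - 1)) ^ p ^ a = (AdjoinRoot.root f) ^ (Fintype.card F ^ j) := by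
  have hirr : Irreducible f := Fact.out
  let K := AdjoinRoot f
  haveI : Module.Finite F K := (AdjoinRoot.powerBasis hirr.ne_zero).finite
  haveI : Finite K := Module.finite_of_finite F
  haveI : CharP K p := charP_of_injective_algebraMap (algebraMap F K).injective p
  have hdeg : Module.finrank F K = f.natDegree := by
    rw [(AdjoinRoot.powerBasis hirr.ne_zero).finrank, AdjoinRoot.powerBasis_dim]
  set r : K := AdjoinRoot.root f with hr
  have hroot : aeval ((r ^ (b - 1)) ^ p ^ a) f = 0 := by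
    rw [aeval_frob_pow p a hF, hroot1, zero_pow (pow_ne_zero _ (Fact.out : p.Prime).ne_zero)]
  let s : K →ₐ[F] K := AdjoinRoot.liftAlgHom f (Algebra.ofId F K) ((r ^ (b - 1)) ^ p ^ a) (by
    have := hroot
    rw [Polynomial.aeval_def] at this
    exact this)
  have hsr : s r = (r ^ (b - 1)) ^ p ^ a := AdjoinRoot.liftAlgHom_root _ _ _ _
  obtain ⟨⟨j, hj⟩, hjs⟩ := (FiniteField.bijective_frobeniusAlgHom_pow F K).2 s
  simp only at hjs
  have hfpow : ∀ (i : ℕ) (y : K),
      ((FiniteField.frobeniusAlgHom F K) ^ i) y = y ^ (Fintype.card F ^ i) := by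
    intro i y
    rw [AlgHom.coe_pow, FiniteField.coe_frobeniusAlgHom, pow_iterate]
  have hrj : (r ^ (b - 1)) ^ p ^ a = r ^ (Fintype.card F ^ j) := by
    rw [← hsr, ← hjs, hfpow]
  have hr0 : r ≠ 0 := by
    intro h
    rw [h, zero_pow hb0.ne'] at hrb
    exact zero_ne_one hrb
  have hrinv : r ^ (b - 1) = r⁻¹ := by
    apply eq_inv_of_mul_eq_one_left
    rw [← pow_succ, Nat.sub_add_cancel hb0, hrb]
  constructor
  · have hss : s (s r) = r ^ Fintype.card F := by
      have hy : (r ^ (b - 1)) ^ (b - 1) = r := by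
        rw [hrinv, inv_pow, hrinv, inv_inv]
      have he : p ^ a * ((b - 1) * p ^ a) = (b - 1) * (p ^ a * p ^ a) := by ring
      rw [hsr, map_pow, map_pow, hsr, ← pow_mul, ← pow_mul, he, pow_mul, hy, hF, pow_two]
    have hss2 : s (s r) = r ^ (Fintype.card F ^ (2 * j)) := by
      rw [← hjs, hfpow, hfpow, ← pow_mul, ← pow_add, two_mul]
    have heq : (FiniteField.frobeniusAlgHom F K) ^ (2 * j) =
        (FiniteField.frobeniusAlgHom F K) ^ 1 := by
      apply AdjoinRoot.algHom_ext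
      rw [hfpow, hfpow, pow_one, ← hss2, hss]
    have hord : orderOf (FiniteField.frobeniusAlgHom F K) = f.natDegree := by
      rw [← hdeg]; exact FiniteField.orderOf_frobeniusAlgHom F K
    have hdpos : 0 < f.natDegree := Irreducible.natDegree_pos hirr
    have h1 : (FiniteField.frobeniusAlgHom F K) ^ (2 * j + (f.natDegree - 1)) = 1 := by
      rw [pow_add, heq, ← pow_add, Nat.add_sub_cancel' hdpos, ← hord, pow_orderOf_eq_one]
    have h2 : f.natDegree ∣ 2 * j + (f.natDegree - 1) := by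
      have := orderOf_dvd_of_pow_eq_one h1
      rwa [hord] at this
    by_contra hodd
    rw [Nat.not_odd_iff_even] at hodd
    obtain ⟨c, hc⟩ := hodd
    obtain ⟨e, he⟩ := h2
    have h3 : f.natDegree * e = 2 * (c * e) := by rw [hc]; ring
    omega
  · exact ⟨j, hrj⟩

end frobfield

section dich

variable {F : Type*} [Field F] {n : ℕ} [NeZero n] (σ : F →+* F)

/-- the primitive idempotent of an irreducible factor of the minimal polynomial of a unitary
element of finite order is either self-adjoint or orthogonal to its adjoint -/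
theorem idem_dichotomyU (hσ : ∀ c, σ (σ c) = c) (x : Matrix (Fin n) (Fin n) F)
    (hx : x * hadj σ x = 1) {a : ℕ} (ha0 : 0 < a) (hxa : x ^ a = 1)
    {f₁ f₂ : F[X]} (hμ : minpoly F x = f₁ * f₂) (hc : IsCoprime f₁ f₂) (hf₁ : Irreducible f₁)
    (hf₂ : ¬ IsUnit f₂) :
    ∃ e₁ : Matrix (Fin n) (Fin n) F, e₁ * e₁ = e₁ ∧ e₁ ≠ 0 ∧ aeval x f₁ * e₁ = 0 ∧ Commute x e₁ ∧
      Commute e₁ (hadj σ e₁) ∧ (e₁ * hadj σ e₁ = 0 ∨ hadj σ e₁ = e₁) := by
  obtain ⟨E₁, E₂, hsum, hd1, hd2, hne1, hne2⟩ := exists_idem_poly x hμ hc hf₁.not_isUnit hf₂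
  set e₁ := aeval x E₁ with he₁
  set e₂ := aeval x E₂ with he₂
  have hs : e₁ + e₂ = 1 := by rw [he₁, he₂, ← map_add, hsum, map_one]
  have h12 : e₁ * e₂ = 0 := by
    rw [he₁, he₂, ← map_mul]
    exact aeval_eq_zero_of_dvd x hμ hc (hd2.mul_left _) (hd1.mul_right _)
  have h11 : e₁ * e₁ = e₁ := by
    calc e₁ * e₁ = e₁ * (e₁ + e₂) := by rw [mul_add, h12, add_zero]
      _ = e₁ := by rw [hs, mul_one]
  have hadjx := hadj_eq_pow σ hx ha0 hxa
  set Q := (E₁.map σ).comp (X ^ (a - 1)) with hQ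
  have hadje : hadj σ e₁ = aeval x Q := by
    rw [he₁, hadj_aeval, hadjx, hQ, aeval_comp, map_pow, aeval_X]
  have hcomm_e : ∀ y : Matrix (Fin n) (Fin n) F, Commute y x → Commute y e₁ :=
    fun y hy => commute_aeval' hy _
  have hcomm_ae : ∀ y : Matrix (Fin n) (Fin n) F, Commute y x → Commute y (hadj σ e₁) := by
    intro y hy; rw [hadje]; exact commute_aeval' hy _
  have hee : Commute e₁ (hadj σ e₁) := hcomm_ae e₁ (hcomm_e x (Commute.refl x)).symm
  have haa : hadj σ e₁ * hadj σ e₁ = hadj σ e₁ := by rw [← hadj_mul, h11]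
  set c := e₁ * hadj σ e₁ with hc_def
  have hcc : c * c = c := by
    rw [hc_def]
    calc e₁ * hadj σ e₁ * (e₁ * hadj σ e₁) = e₁ * (hadj σ e₁ * e₁) * hadj σ e₁ := by
          simp only [mul_assoc]
      _ = e₁ * (e₁ * hadj σ e₁) * hadj σ e₁ := by rw [hee.eq]
      _ = (e₁ * e₁) * (hadj σ e₁ * hadj σ e₁) := by simp only [mul_assoc]
      _ = e₁ * hadj σ e₁ := by rw [h11, haa]
  have hcpoly : c = aeval x (E₁ * Q) := by rw [hc_def, hadje, he₁, ← map_mul]
  have hce : c * e₁ = c := by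
    rw [hc_def, mul_assoc, ← hee.eq, ← mul_assoc, h11]
  have hdvd : minpoly F x ∣ (E₁ * Q) * (E₁ * Q - 1) := by
    apply minpoly.dvd
    rw [map_mul, map_sub, map_one, ← hcpoly, mul_sub, mul_one, hcc, sub_self]
  have hf₁dvd : f₁ ∣ (E₁ * Q) * (E₁ * Q - 1) := (Dvd.intro _ hμ.symm).trans hdvd
  have hc01 : c = 0 ∨ c = e₁ := by
    rcases hf₁.prime.dvd_or_dvd hf₁dvd with h | h
    · left
      rw [← hce, hcpoly, he₁, ← map_mul]
      exact aeval_eq_zero_of_dvd x hμ hc (h.mul_right _) (hd1.mul_left _)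
    · right
      have : c * e₁ - e₁ = 0 := by
        have h3 : c * e₁ - e₁ = aeval x ((E₁ * Q - 1) * E₁) := by
          rw [map_mul, map_sub, map_one, ← hcpoly, sub_mul, one_mul]
        rw [h3]
        exact aeval_eq_zero_of_dvd x hμ hc (h.mul_right _) (hd1.mul_left _)
      rw [← hce]; exact sub_eq_zero.1 this
  refine ⟨e₁, h11, hne1, ?_, hcomm_e x (Commute.refl x), hee, ?_⟩
  · rw [he₁, ← map_mul]
    exact aeval_eq_zero_of_dvd x hμ hc (dvd_mul_right _ _) (hd1.mul_left _)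
  · rcases hc01 with h0 | h1
    · exact Or.inl h0
    · right
      have h4 : e₁ * hadj σ e₁ = e₁ := h1
      have h5 : e₁ * hadj σ e₁ = hadj σ e₁ := by
        have := congrArg (hadj σ) h4
        rw [hadj_mul, hadj_hadj σ hσ] at this
        exact this
      rw [← h5, h4]

end dich

section typeprim

variable {F : Type u} [Field F] [Fintype F] (p a : ℕ) [Fact p.Prime] [CharP F p]

/-- a unitary element whose order involves a suitable primitive prime divisor is of type (a) or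
(b) for the half-dimensional torus -/
theorem type_of_primU (hF : Fintype.card F = (p ^ a) ^ 2) {n k : ℕ} [NeZero n] (hn : n = 2 * k)
    (x : Matrix (Fin n) (Fin n) F) (hx : x * hadj (sig p a) x = 1) {b : ℕ} (hb0 : 0 < b)
    (hxb : x ^ b = 1) (hbF : (b : F) ≠ 0) {ℓ : ℕ} (hℓ : ℓ.Prime) (hℓb : ℓ ∣ b)
    (hxℓ : x ^ (b / ℓ) ≠ 1)
    (H1 : ∀ m, ℓ ∣ (p ^ a) ^ (2 * m) - 1 → k ∣ m)
    (H2 : Odd k → ∀ j, ¬ ℓ ∣ (p ^ a) ^ (2 * j) + p ^ a) :
    Irreducible (minpoly F x) ∨
      ∃ (e₁ : Matrix (Fin n) (Fin n) F) (f₁ : F[X]), Irreducible f₁ ∧ e₁ * e₁ = e₁ ∧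
        e₁ + hadj (sig p a) e₁ = 1 ∧ e₁ * hadj (sig p a) e₁ = 0 ∧ aeval x f₁ * e₁ = 0 ∧
        Commute x e₁ ∧ f₁ ∣ minpoly F x := by
  classical
  by_cases hirr : Irreducible (minpoly F x)
  · exact Or.inl hirr
  right
  have hσσ := sig_sig p a hF
  have hsq := squarefree_minpoly_of_pow x hxb hbF
  have hnd : ¬ minpoly F x ∣ X ^ (b / ℓ) - 1 := by
    intro hd
    apply hxℓ
    obtain ⟨R, hR⟩ := hd
    have h1 : aeval x (X ^ (b / ℓ) - 1 : F[X]) = 0 := by
      rw [hR, map_mul, minpoly.aeval, zero_mul]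
    rw [map_sub, map_pow, aeval_X, map_one, sub_eq_zero] at h1
    exact h1
  obtain ⟨f, hf, hfμ, hfn⟩ := exists_irr_factor_not_dvd hsq hnd
  obtain ⟨f₂, hμ⟩ := hfμ
  have hc : IsCoprime f f₂ := by
    rcases hf.isCoprime_or_dvd f₂ with h | ⟨g, rfl⟩
    · exact h
    · exfalso
      have : IsUnit f := hsq f ⟨g, by rw [hμ]; ring⟩
      exact hf.not_isUnit this
  have hf₂ : ¬ IsUnit f₂ := by
    intro h2
    apply hirr
    obtain ⟨w, rfl⟩ := h2
    rw [hμ]
    exact (irreducible_mul_units w).2 hf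
  obtain ⟨e₁, h11, hne, hfe, hce, hee, hdich⟩ :=
    idem_dichotomyU (sig p a) hσσ x hx hb0 hxb hμ hc hf hf₂
  haveI : Fact (Irreducible f) := ⟨hf⟩
  let K := AdjoinRoot f
  haveI : Module.Finite F K := (AdjoinRoot.powerBasis hf.ne_zero).finite
  haveI : Finite K := Module.finite_of_finite F
  haveI : Fintype K := Fintype.ofFinite K
  have hdeg : Module.finrank F K = f.natDegree := by
    rw [(AdjoinRoot.powerBasis hf.ne_zero).finrank, AdjoinRoot.powerBasis_dim]
  obtain ⟨r, hr⟩ : ∃ r : K, r = AdjoinRoot.root f := ⟨_, rfl⟩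
  have hrf : ∀ P : F[X], f ∣ P → aeval r P = 0 := by
    rintro P ⟨R, rfl⟩
    rw [hr, map_mul, AdjoinRoot.aeval_eq, AdjoinRoot.mk_self, zero_mul]
  have hrb : r ^ b = 1 := by
    have h1 : aeval x (X ^ b - 1 : F[X]) = 0 := by
      rw [map_sub, map_pow, aeval_X, map_one, hxb, sub_self]
    have h2 := hrf _ ((Dvd.intro _ hμ.symm : f ∣ minpoly F x).trans (minpoly.dvd F x h1))
    rw [map_sub, map_pow, aeval_X, map_one, sub_eq_zero] at h2
    exact h2
  have hrℓ : r ^ (b / ℓ) ≠ 1 := by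
    intro h
    apply hfn
    rw [← AdjoinRoot.mk_eq_zero, map_sub, map_pow, AdjoinRoot.mk_X, map_one, ← hr, h, sub_self]
  have hℓord : ℓ ∣ orderOf r := by
    by_contra hnd
    have hcop : Nat.Coprime (orderOf r) ℓ :=
      Nat.Coprime.symm ((Nat.Prime.coprime_iff_not_dvd hℓ).2 hnd)
    have h1 : orderOf r ∣ b := orderOf_dvd_of_pow_eq_one hrb
    obtain ⟨c, hc⟩ := hℓb
    have h2 : orderOf r ∣ c := by
      rw [hc] at h1
      exact hcop.dvd_of_dvd_mul_left h1
    apply hrℓ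
    rw [hc, Nat.mul_div_cancel_left _ hℓ.pos]
    exact orderOf_dvd_iff_pow_eq_one.1 h2
  have hcardK : Fintype.card K = ((p ^ a) ^ 2) ^ f.natDegree := by
    rw [← hdeg, ← hF]
    exact Module.card_eq_pow_finrank (K := F) (V := K)
  have hr0 : r ≠ 0 := by
    intro h
    rw [h, zero_pow hb0.ne'] at hrb
    exact zero_ne_one hrb
  have hordK : orderOf r ∣ (p ^ a) ^ (2 * f.natDegree) - 1 := by
    apply orderOf_dvd_of_pow_eq_one
    rw [pow_mul, ← hcardK]
    exact FiniteField.pow_card_sub_one_eq_one r hr0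
  have hkm : k ∣ f.natDegree := H1 _ (hℓord.trans hordK)
  -- the rank of `e₁`
  let T : Matrix (Fin n) (Fin n) F ≃ₐ[F] Module.End F (Fin n → F) := Matrix.toLinAlgEquiv'
  have hT : ∀ M, T M = Matrix.toLin' M := fun M => rfl
  have hTr : ∀ M : Matrix (Fin n) (Fin n) F,
      finrank F (LinearMap.range (T M)) = M.rank := by
    intro M
    rw [hT, Matrix.toLin'_apply']
    rfl
  have hTx1 : aeval (T x) f * T e₁ = 0 := by
    rw [hT x, aeval_toLin', ← hT, ← map_mul, hfe, map_zero]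
  have hρ : f.natDegree ∣ e₁.rank := by
    have := natDegree_dvd_finrank_range (T x) (T e₁) (by rw [← map_mul, h11])
      (by
        show T x * T e₁ = T e₁ * T x
        rw [← map_mul, ← map_mul, hce.eq]) f hf hTx1
    rw [hTr] at this
    exact this
  have hρ0 : 0 < e₁.rank := by
    rcases Nat.eq_zero_or_pos e₁.rank with h | h
    · exact (hne (eq_zero_of_rank_eq_zero e₁ h)).elim
    · exact h
  rcases hdich with h0 | hsd
  · -- not self-adjoint: type (b)
    obtain ⟨e₂, he₂⟩ : ∃ e₂, e₂ = hadj (sig p a) e₁ := ⟨_, rfl⟩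
    rw [← he₂] at h0 hee
    have h21 : e₂ * e₁ = 0 := by rw [← hee.eq]; exact h0
    have h22 : e₂ * e₂ = e₂ := by rw [he₂, ← hadj_mul, h11]
    have hr2 : e₂.rank = e₁.rank := by rw [he₂]; exact rank_hadj p a hF e₁
    have hadd := rank_add_of_orth e₁ e₂ h11 h22 h0 h21
    have heid : (e₁ + e₂) * (e₁ + e₂) = e₁ + e₂ := by
      rw [add_mul, mul_add, mul_add, h11, h22, h0, h21, add_zero, zero_add]
    have hrk := rank_add_rank_of_idem (e₁ + e₂) heid
    rw [Fintype.card_fin, hadd, hr2] at hrk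
    have hk_le : k ≤ e₁.rank := Nat.le_of_dvd hρ0 (hkm.trans hρ)
    have h0r : (1 - (e₁ + e₂)).rank = 0 := by omega
    have hsum : e₁ + e₂ = 1 := by
      have := eq_zero_of_rank_eq_zero _ h0r
      exact (sub_eq_zero.1 this).symm
    refine ⟨e₁, f, hf, h11, ?_, ?_, hfe, hce, Dvd.intro _ hμ.symm⟩
    · rw [← he₂]; exact hsum
    · rw [← he₂]; exact h0
  · -- self-adjoint: impossible
    exfalso
    have hadjx := hadj_eq_pow (sig p a) hx hb0 hxb
    obtain ⟨P, hP⟩ : ∃ P : F[X], P = (f.map (sig p a)).comp (X ^ (b - 1)) := ⟨_, rfl⟩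
    have hPe : aeval x P * e₁ = 0 := by
      have h1 := congrArg (hadj (sig p a)) hfe
      rw [hadj_mul, hsd, hadj_aeval, hadjx, hadj_zero] at h1
      have h2 : aeval x P = aeval (x ^ (b - 1)) (f.map (sig p a)) := by
        rw [hP, aeval_comp, map_pow, aeval_X]
      have h3 : Commute (aeval x P) e₁ := (commute_aeval' hce.symm P).symm
      rw [h3.eq, h2]
      exact h1
    have hfP : f ∣ P := by
      rcases hf.isCoprime_or_dvd P with ⟨u, v, huv⟩ | h
      · exfalso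
        apply hne
        have h1 : aeval x (u * f + v * P) * e₁ = e₁ := by rw [huv, map_one, one_mul]
        rw [map_add, map_mul, map_mul, add_mul, mul_assoc, mul_assoc, hfe, hPe, mul_zero, mul_zero,
          add_zero] at h1
        exact h1.symm
      · exact h
    have hroot1 : aeval ((AdjoinRoot.root f) ^ (b - 1)) (f.map (sig p a)) = 0 := by
      have h1 := hrf P hfP
      rw [hP, aeval_comp, map_pow, aeval_X, hr] at h1
      exact h1
    have hrb' : (AdjoinRoot.root f) ^ b = 1 := by rw [← hr]; exact hrb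
    obtain ⟨hodd, j, hj⟩ := frob_field p a hF f hb0 hrb' hroot1
    rw [← hr] at hj
    have hkodd : Odd k := Odd.of_dvd_nat hodd hkm
    have h1 : r ^ ((p ^ a) ^ (2 * j) + p ^ a) = 1 := by
      rw [pow_add, pow_mul, ← hF, ← hj, ← mul_pow, ← pow_succ, Nat.sub_add_cancel hb0, hrb,
        one_pow]
    exact H2 hkodd j (hℓord.trans (orderOf_dvd_of_pow_eq_one h1))

end typeprim

end Cfsg.Agent.H4PSUSpec
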