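import Mathlib
import Cfsg.Agent.Lib.Helper19.Zsigmondy
import Cfsg.Agent.Lib.Helper4.PSUSpecH
import Cfsg.Agent.Lib.Helper4.PSUSpecL
import Cfsg.Agent.Lib.Helper4.PSUSpecM

namespace Cfsg.Agent.H4PSUSpec

open Polynomial Matrix Module
open Cfsg.Agent.Lib.Helper19.Zsigmondy (IsPrim dvd_pow_sub_one_iff)

universe u

section nt

/-- the geometric sum `1 + q² + ⋯ + q^(2(k-1))` -/
def S2 (q k : ℕ) : ℕ := ∑ i ∈ Finset.range k, (q ^ 2) ^ i

theorem S2_mul (q k : ℕ) (hq : 1 ≤ q) : S2 q k * (q ^ 2 - 1) + 1 = q ^ (2 * k) := by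
  have h1 : 1 ≤ q ^ 2 := Nat.one_le_pow _ _ hq
  have := geom_sum_mul_add (q ^ 2 - 1) k
  rw [Nat.sub_add_cancel h1] at this
  rw [S2, this, pow_mul]

theorem qq_eq (q : ℕ) (hq : 1 ≤ q) : q ^ 2 - 1 = (q + 1) * (q - 1) := by
  obtain ⟨c, rfl⟩ : ∃ c, q = c + 1 := ⟨q - 1, by omega⟩
  have h1 : (c + 1) ^ 2 = (c + 1 + 1) * c + 1 := by ring
  rw [Nat.add_sub_cancel, h1, Nat.add_sub_cancel]

/-- `q^(2k) - 1 = (q+1) * ((q-1) * S2 q k)` -/
theorem pow_sub_one_eq (q k : ℕ) (hq : 1 ≤ q) :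
    q ^ (2 * k) - 1 = (q + 1) * ((q - 1) * S2 q k) := by
  rw [← S2_mul q k hq, Nat.add_sub_cancel, qq_eq q hq]
  ring

theorem S2_cast {R : Type*} [CommRing R] (q k : ℕ) (h : ((q : R)) ^ 2 = 1) :
    ((S2 q k : ℕ) : R) = (k : R) := by
  rw [S2, Nat.cast_sum]
  have : ∀ i ∈ Finset.range k, (((q ^ 2) ^ i : ℕ) : R) = 1 := by
    intro i _
    rw [Nat.cast_pow, Nat.cast_pow, h, one_pow]
  rw [Finset.sum_congr rfl this, Finset.sum_const, Finset.card_range, nsmul_eq_mul, mul_one]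

theorem q_cast (q : ℕ) : ((q : ℕ) : ZMod (q + 1)) = -1 := by
  have h1 : ((q + 1 : ℕ) : ZMod (q + 1)) = 0 := ZMod.natCast_self (q + 1)
  rw [Nat.cast_add, Nat.cast_one] at h1
  exact eq_neg_of_add_eq_zero_left h1

/-- `(q-1) * S2 q k + 2k` is divisible by `q+1` -/
theorem M_add_dvd (q k : ℕ) (hq : 1 ≤ q) : (q + 1) ∣ (q - 1) * S2 q k + 2 * k := by
  rw [← ZMod.natCast_eq_zero_iff, Nat.cast_add, Nat.cast_mul, Nat.cast_mul,
    S2_cast q k (by rw [q_cast]; ring), Nat.cast_sub hq, q_cast]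
  push_cast
  ring

theorem gcd_M (q k : ℕ) (hq : 1 ≤ q) :
    Nat.gcd ((q - 1) * S2 q k) (q + 1) = Nat.gcd (2 * k) (q + 1) := by
  have h := M_add_dvd q k hq
  apply Nat.dvd_antisymm
  · apply Nat.dvd_gcd
    · have h1 : Nat.gcd ((q - 1) * S2 q k) (q + 1) ∣ (q - 1) * S2 q k + 2 * k :=
        (Nat.gcd_dvd_right _ _).trans h
      exact (Nat.dvd_add_right (Nat.gcd_dvd_left _ _)).1 h1
    · exact Nat.gcd_dvd_right _ _
  · apply Nat.dvd_gcd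
    · have h1 : Nat.gcd (2 * k) (q + 1) ∣ (q - 1) * S2 q k + 2 * k :=
        (Nat.gcd_dvd_right _ _).trans h
      exact (Nat.dvd_add_left (Nat.gcd_dvd_left _ _)).1 h1
    · exact Nat.gcd_dvd_right _ _

theorem S2_odd (q k : ℕ) (hq : Odd q) (hk : Odd k) : Odd (S2 q k) := by
  have h1 : ((q : ℕ) : ZMod 2) ^ 2 = 1 := by
    have : ((q : ℕ) : ZMod 2) = 1 := (ZMod.natCast_eq_one_iff_odd).2 hq
    rw [this, one_pow]
  have h2 := S2_cast (R := ZMod 2) q k h1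
  rw [(ZMod.natCast_eq_one_iff_odd).2 hk] at h2
  exact (ZMod.natCast_eq_one_iff_odd).1 h2

/-- for `D ∣ n` with `n` even, `D ∣ n/2` iff the `2`-part of `D` is smaller than that of `n` -/
theorem dvd_half_iff {D n : ℕ} (hn0 : n ≠ 0) (hD : D ∣ n) (k : ℕ) (hnk : n = 2 * k) :
    D ∣ k ↔ padicValNat 2 D < padicValNat 2 n := by
  haveI : Fact (Nat.Prime 2) := ⟨Nat.prime_two⟩
  obtain ⟨m, hm⟩ := hD
  have hD0 : D ≠ 0 := by rintro rfl; rw [zero_mul] at hm; exact hn0 hm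
  have hm0 : m ≠ 0 := by rintro rfl; rw [mul_zero] at hm; exact hn0 hm
  have hv : padicValNat 2 n = padicValNat 2 D + padicValNat 2 m := by
    rw [hm, padicValNat.mul hD0 hm0]
  constructor
  · rintro ⟨c, hc⟩
    have h1 : D * m = D * (2 * c) := by rw [← hm, hnk, hc]; ring
    have h2 : m = 2 * c := Nat.eq_of_mul_eq_mul_left (Nat.pos_of_ne_zero hD0) h1
    have h3 : 1 ≤ padicValNat 2 m := one_le_padicValNat_of_dvd hm0 ⟨c, h2⟩
    omega
  · intro h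
    have h3 : 1 ≤ padicValNat 2 m := by omega
    obtain ⟨c, hc⟩ := dvd_of_one_le_padicValNat h3
    refine ⟨c, ?_⟩
    have h1 : 2 * k = 2 * (D * c) := by rw [← hnk, hm, hc]; ring
    exact Nat.eq_of_mul_eq_mul_left (by norm_num) h1

theorem padicValNat_gcd_two {n c : ℕ} (hn : n ≠ 0) (hc : c ≠ 0) :
    padicValNat 2 (Nat.gcd n c) = min (padicValNat 2 n) (padicValNat 2 c) := by
  have h := Nat.factorization_gcd hn hc
  have h2 := congrArg (fun f => f 2) h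
  simp only [Finsupp.inf_apply] at h2
  rw [Nat.factorization_def _ Nat.prime_two, Nat.factorization_def _ Nat.prime_two,
    Nat.factorization_def _ Nat.prime_two] at h2
  exact h2

/-- the arithmetic criterion, `k` even -/
theorem crit_even (q t : ℕ) (hq : 1 ≤ q) (ht : 0 < t) :
    ((q ^ (2 * t) + 1) * Nat.gcd ((q - 1) * S2 q (2 * t)) (q + 1) ∣ (q - 1) * S2 q (2 * t)) ↔
      padicValNat 2 (q + 1) < padicValNat 2 (2 * (2 * t)) := by
  have hA := pow_sub_one_eq q (2 * t) hq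
  have hB := pow_sub_one_eq q t hq
  have hq1 : 1 ≤ q ^ (2 * t) := Nat.one_le_pow _ _ hq
  -- `M = N * R`
  have hMR : (q - 1) * S2 q (2 * t) = (q ^ (2 * t) + 1) * ((q - 1) * S2 q t) := by
    have h1 : q ^ (2 * (2 * t)) - 1 = (q ^ (2 * t) + 1) * (q ^ (2 * t) - 1) := by
      obtain ⟨c, hc⟩ : ∃ c, q ^ (2 * t) = c + 1 := ⟨q ^ (2 * t) - 1, by omega⟩
      have h2 : q ^ (2 * (2 * t)) = (q ^ (2 * t)) ^ 2 := by rw [← pow_mul]; ring_nf
      rw [h2, hc, Nat.add_sub_cancel]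
      have h3 : (c + 1) ^ 2 = (c + 1 + 1) * c + 1 := by ring
      rw [h3, Nat.add_sub_cancel]
    rw [hA, hB] at h1
    have h4 : (q + 1) * ((q - 1) * S2 q (2 * t)) =
        (q + 1) * ((q ^ (2 * t) + 1) * ((q - 1) * S2 q t)) := by
      rw [h1]; ring
    exact Nat.eq_of_mul_eq_mul_left (by omega) h4
  rw [gcd_M q (2 * t) hq]
  have hN0 : 0 < q ^ (2 * t) + 1 := by omega
  have hn0 : 2 * (2 * t) ≠ 0 := by omega
  have hD : Nat.gcd (2 * (2 * t)) (q + 1) ∣ 2 * (2 * t) := Nat.gcd_dvd_left _ _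
  have hstep1 : ((q ^ (2 * t) + 1) * Nat.gcd (2 * (2 * t)) (q + 1) ∣ (q - 1) * S2 q (2 * t)) ↔
      Nat.gcd (2 * (2 * t)) (q + 1) ∣ (q - 1) * S2 q t := by
    rw [hMR]
    exact Nat.mul_dvd_mul_iff_left hN0
  have hstep2 : Nat.gcd (2 * (2 * t)) (q + 1) ∣ (q - 1) * S2 q t ↔
      Nat.gcd (2 * (2 * t)) (q + 1) ∣ 2 * t := by
    have h1 : Nat.gcd (2 * (2 * t)) (q + 1) ∣ (q - 1) * S2 q t + 2 * t :=
      (Nat.gcd_dvd_right _ _).trans (M_add_dvd q t hq)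
    constructor
    · intro h
      exact (Nat.dvd_add_right h).1 h1
    · intro h
      exact (Nat.dvd_add_left h).1 h1
  rw [hstep1, hstep2, dvd_half_iff hn0 hD (2 * t) rfl, padicValNat_gcd_two hn0 (by omega)]
  omega

/-- the arithmetic criterion, `k` odd: never satisfied -/
theorem crit_odd (q k : ℕ) (hq : Odd q) (hq2 : 2 ≤ q) (hk : Odd k) :
    ¬ ((q ^ k - 1) * Nat.gcd ((q - 1) * S2 q k) (q + 1) ∣ (q - 1) * S2 q k) := by
  have hq1 : 1 ≤ q := hq.pos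
  intro h
  rw [gcd_M q k hq1] at h
  have h2 : 2 ∣ Nat.gcd (2 * k) (q + 1) := by
    apply Nat.dvd_gcd (Dvd.intro _ rfl)
    obtain ⟨c, hc⟩ := hq
    exact ⟨c + 1, by omega⟩
  have h3 : (q - 1) ∣ q ^ k - 1 := Nat.sub_one_dvd_pow_sub_one q k
  have h4 : (q - 1) * 2 ∣ (q - 1) * S2 q k := (mul_dvd_mul h3 h2).trans h
  have h0 : 0 < q - 1 := by omega
  have h5 : 2 ∣ S2 q k := (Nat.mul_dvd_mul_iff_left h0).1 h4
  have h6 := S2_odd q k hq hk
  rw [← Nat.not_even_iff_odd] at h6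
  exact h6 (even_iff_two_dvd.2 h5)

end nt

section prim

theorem isPrim_dvd {a n r m : ℕ} (ha : 0 < a) (hn : 0 < n) (h : IsPrim a n r)
    (hm : r ∣ a ^ m - 1) : n ∣ m := by
  obtain ⟨hr, h1, h2⟩ := h
  haveI : Fact r.Prime := ⟨hr⟩
  have e1 : ((a : ZMod r)) ^ n = 1 := (dvd_pow_sub_one_iff ha).1 h1
  have e2 : ((a : ZMod r)) ^ m = 1 := (dvd_pow_sub_one_iff ha).1 hm
  have hord : orderOf (a : ZMod r) = n := by
    rw [orderOf_eq_iff hn]
    refine ⟨e1, fun j hj hj0 hj1 => ?_⟩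
    exact h2 j hj0 hj ((dvd_pow_sub_one_iff ha).2 hj1)
  rw [← hord]
  exact orderOf_dvd_of_pow_eq_one e2

/-- hypothesis `H2` from a primitive prime divisor of `q^k - 1`, `k` odd -/
theorem isPrim_H2 {q k ℓ : ℕ} (hq : Odd q) (hk : Odd k) (hk2 : 2 ≤ k) (h : IsPrim q k ℓ) (j : ℕ) :
    ¬ ℓ ∣ q ^ (2 * j) + q := by
  obtain ⟨hr, h1, h2⟩ := h
  haveI : Fact ℓ.Prime := ⟨hr⟩
  have hq0 : 0 < q := hq.pos
  intro hd
  have e1 : ((q : ZMod ℓ)) ^ k = 1 := (dvd_pow_sub_one_iff hq0).1 h1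
  have e2 : ((q : ZMod ℓ)) ^ (2 * j) = -(q : ZMod ℓ) := by
    rw [← ZMod.natCast_eq_zero_iff, Nat.cast_add, Nat.cast_pow] at hd
    exact eq_neg_of_add_eq_zero_left hd
  have e3 : (1 : ZMod ℓ) = -1 := by
    calc (1 : ZMod ℓ) = (((q : ZMod ℓ)) ^ k) ^ (2 * j) := by rw [e1, one_pow]
      _ = (((q : ZMod ℓ)) ^ (2 * j)) ^ k := by rw [← pow_mul, ← pow_mul, mul_comm]
      _ = -1 := by rw [e2, hk.neg_pow, e1]
  have e4 : ((2 : ℕ) : ZMod ℓ) = 0 := by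
    have : (1 : ZMod ℓ) + 1 = 0 := by
      nth_rewrite 2 [e3]
      exact add_neg_cancel 1
    rw [Nat.cast_ofNat, ← one_add_one_eq_two]
    exact this
  rw [ZMod.natCast_eq_zero_iff] at e4
  have hℓ2 : ℓ = 2 := (Nat.prime_dvd_prime_iff_eq hr Nat.prime_two).1 e4
  apply h2 1 Nat.one_pos (by omega)
  rw [hℓ2, pow_one]
  obtain ⟨c, hc⟩ := hq
  exact ⟨c, by omega⟩

end prim

section arith

/-- the order computation inside the cyclic torus -/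
theorem torus_arith {N D i M Q j : ℕ} (hQ : 0 < Q) (hM0 : 0 < M) (hM : M = N * D * i)
    (hD : D = Nat.gcd M Q) : (Q * M ∣ Q ^ 2 * (i * j)) ↔ N ∣ j := by
  have hi0 : 0 < i := by
    rcases Nat.eq_zero_or_pos i with h | h
    · rw [h, mul_zero] at hM; omega
    · exact h
  have hD0 : 0 < D := by
    rcases Nat.eq_zero_or_pos D with h | h
    · rw [h, mul_zero, zero_mul] at hM; omega
    · exact h
  obtain ⟨Q', hQ'⟩ : D ∣ Q := hD ▸ Nat.gcd_dvd_right M Q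
  constructor
  · intro h
    have h1 : Q * M ∣ Q * (Q * (i * j)) := by
      have : Q ^ 2 * (i * j) = Q * (Q * (i * j)) := by ring
      rwa [this] at h
    have h2 : M ∣ Q * (i * j) := (Nat.mul_dvd_mul_iff_left hQ).1 h1
    have h3 : i * (N * D) ∣ i * (Q * j) := by
      have e1 : M = i * (N * D) := by rw [hM]; ring
      have e2 : Q * (i * j) = i * (Q * j) := by ring
      rwa [e1, e2] at h2
    have h4 : N * D ∣ Q * j := (Nat.mul_dvd_mul_iff_left hi0).1 h3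
    have h5 : D * N ∣ D * (Q' * j) := by
      have e1 : N * D = D * N := by ring
      have e2 : Q * j = D * (Q' * j) := by rw [hQ']; ring
      rwa [e1, e2] at h4
    have h6 : N ∣ Q' * j := (Nat.mul_dvd_mul_iff_left hD0).1 h5
    have hcop : Nat.Coprime N Q' := by
      have h7 : Nat.gcd N Q' * D ∣ Nat.gcd M Q := by
        apply Nat.dvd_gcd
        · rw [hM]
          exact (Nat.mul_dvd_mul_right (Nat.gcd_dvd_left N Q') D).trans (Dvd.intro _ rfl)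
        · rw [hQ', mul_comm D Q']
          exact Nat.mul_dvd_mul_right (Nat.gcd_dvd_right N Q') D
      rw [← hD] at h7
      have h8 : Nat.gcd N Q' * D ∣ 1 * D := by rwa [one_mul]
      have h9 : Nat.gcd N Q' ∣ 1 := (Nat.mul_dvd_mul_iff_right hD0).1 h8
      exact Nat.dvd_one.1 h9
    exact hcop.dvd_of_dvd_mul_left h6
  · rintro ⟨j', rfl⟩
    refine ⟨Q' * j', ?_⟩
    rw [hM, hQ']
    ring

end arith

section psulevel

variable {F : Type u} [Field F] [Fintype F] (p a : ℕ) [Fact p.Prime] [CharP F p]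

local notation "SUn" => Cfsg.SU _ F (p ^ a)

/-- existence of an element of order `N` in the image of the cyclic torus -/
theorem half_torus_existsU (hF : Fintype.card F = (p ^ a) ^ 2) {n k : ℕ} [NeZero n] [NeZero k]
    (hn : n = 2 * k) {M N : ℕ} (hM : (p ^ a) ^ n - 1 = (p ^ a + 1) * M) (hM0 : 0 < M)
    (hND : N * Nat.gcd M (p ^ a + 1) ∣ M) :
    ∃ g : Cfsg.PSU n F (p ^ a), orderOf g = N := by
  obtain ⟨S, C₀, hSu, -, -, hC₀S, hC₀det, -, hscal⟩ := exists_torus_even_gen p a hF hn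
  have hn2 : 2 ≤ n := by
    have := Nat.pos_of_ne_zero (NeZero.ne k)
    omega
  obtain ⟨i, hi⟩ := hND
  have hCi : (C₀ ^ i) * hadj (sig p a) (C₀ ^ i) = 1 := hSu _ (S.pow_mem hC₀S i)
  have hdi : (C₀ ^ i).det = 1 := by rw [Matrix.det_pow, hC₀det, one_pow]
  refine ⟨QuotientGroup.mk (mkSU p a (C₀ ^ i) hCi hdi), ?_⟩
  have hiff : ∀ j : ℕ, (QuotientGroup.mk (mkSU p a (C₀ ^ i) hCi hdi) : Cfsg.PSU n F (p ^ a)) ^ j = 1 ↔
      N ∣ j := by
    intro j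
    rw [mk_pow_eq_one_iffU p a hF hn2, mkSU_val, ← pow_mul, hscal, hM]
    exact torus_arith (Nat.succ_pos _) hM0 hi rfl
  exact Nat.dvd_antisymm (orderOf_dvd_of_pow_eq_one ((hiff N).2 dvd_rfl))
    ((hiff _).1 (pow_orderOf_eq_one _))

/-- necessity: an element of order `N` forces the arithmetic condition -/
theorem half_torus_necU (hF : Fintype.card F = (p ^ a) ^ 2) {n k : ℕ} [NeZero n] [NeZero k]
    (hn : n = 2 * k) {M N : ℕ} (hM : (p ^ a) ^ n - 1 = (p ^ a + 1) * M) (hN0 : 0 < N)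
    (hNp : ¬ p ∣ N) {ℓ : ℕ} (hℓ : ℓ.Prime) (hℓN : ℓ ∣ N) (hℓq : ¬ ℓ ∣ p ^ a + 1)
    (H1 : ∀ m, ℓ ∣ (p ^ a) ^ (2 * m) - 1 → k ∣ m)
    (H2 : Odd k → ∀ j, ¬ ℓ ∣ (p ^ a) ^ (2 * j) + p ^ a)
    (g : Cfsg.PSU n F (p ^ a)) (hg : orderOf g = N) :
    N * Nat.gcd M (p ^ a + 1) ∣ M := by
  have hp : p.Prime := Fact.out
  obtain ⟨S, C₀, hSu, -, hShits, hC₀S, hC₀det, hgen, hscal⟩ := exists_torus_even_gen p a hF hn
  have hn2 : 2 ≤ n := by
    have := Nat.pos_of_ne_zero (NeZero.ne k)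
    omega
  have hq2 := two_le_q p a hF
  have ha0 : a ≠ 0 := by
    rintro rfl
    rw [pow_zero] at hq2
    omega
  obtain ⟨x, rfl⟩ := QuotientGroup.mk_surjective g
  have hx := su_uni p a x
  have hdet : x.1.val.det = 1 := x.1.2
  obtain ⟨x₀, hx₀⟩ : ∃ x₀ : Matrix (Fin n) (Fin n) F, x₀ = x.1.val := ⟨_, rfl⟩
  rw [← hx₀] at hx hdet
  have hpowiff : ∀ j : ℕ, (QuotientGroup.mk x : Cfsg.PSU n F (p ^ a)) ^ j = 1 ↔
      ∃ l : F, x₀ ^ j = l • (1 : Matrix (Fin n) (Fin n) F) := by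
    intro j
    rw [mk_pow_eq_one_iffU p a hF hn2, hx₀]
  -- the scalar
  obtain ⟨lam, hlam⟩ := (hpowiff N).1 (by rw [← hg]; exact pow_orderOf_eq_one _)
  have hcomm : Commute x₀ (hadj (sig p a) x₀) := by
    show x₀ * hadj (sig p a) x₀ = hadj (sig p a) x₀ * x₀
    rw [hx, mul_eq_one_comm.1 hx]
  have hlamu : lam * sig p a lam = 1 := by
    have h1 : x₀ ^ N * hadj (sig p a) (x₀ ^ N) = 1 := by
      rw [hadj_pow, ← hcomm.mul_pow, hx, one_pow]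
    rw [hlam, hadj_smul, hadj_one, smul_mul_smul_comm, mul_one] at h1
    have h2 := congrFun (congrFun h1 ⟨0, Nat.pos_of_ne_zero (NeZero.ne n)⟩)
      ⟨0, Nat.pos_of_ne_zero (NeZero.ne n)⟩
    rw [Matrix.smul_apply, Matrix.one_apply_eq, smul_eq_mul, mul_one] at h2
    exact h2
  have hlamq : lam ^ (p ^ a + 1) = 1 := by
    rw [pow_succ', ← sig_apply]
    exact hlamu
  obtain ⟨b, hb⟩ : ∃ b : ℕ, b = N * (p ^ a + 1) := ⟨_, rfl⟩
  have hb0 : 0 < b := by rw [hb]; exact Nat.mul_pos hN0 (Nat.succ_pos _)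
  have hxb : x₀ ^ b = 1 := by
    rw [hb, pow_mul, hlam, _root_.smul_pow, one_pow, hlamq, one_smul]
  have hbF : (b : F) ≠ 0 := by
    rw [Ne, CharP.cast_eq_zero_iff F p, hb]
    intro h
    rcases hp.dvd_mul.1 h with h | h
    · exact hNp h
    · have h1 : p ∣ p ^ a := dvd_pow_self p ha0
      have h2 : p ∣ 1 := (Nat.dvd_add_right h1).1 h
      exact hp.one_lt.ne' (Nat.dvd_one.1 h2)
  have hℓb : ℓ ∣ b := by rw [hb]; exact hℓN.mul_right _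
  have hxℓ : x₀ ^ (b / ℓ) ≠ 1 := by
    intro h
    obtain ⟨N', hN'⟩ := hℓN
    have h1 : b / ℓ = N' * (p ^ a + 1) := by
      rw [hb, hN', mul_assoc, Nat.mul_div_cancel_left _ hℓ.pos]
    have h2 : (QuotientGroup.mk x : Cfsg.PSU n F (p ^ a)) ^ (b / ℓ) = 1 :=
      (hpowiff _).2 ⟨1, by rw [h, one_smul]⟩
    have h3 : N ∣ b / ℓ := by rw [← hg]; exact orderOf_dvd_of_pow_eq_one h2
    rw [h1, hN'] at h3
    have hN'0 : 0 < N' := by
      rcases Nat.eq_zero_or_pos N' with h0 | h0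
      · rw [h0, mul_zero] at hN'; omega
      · exact h0
    have h4 : N' * ℓ ∣ N' * (p ^ a + 1) := by rwa [mul_comm ℓ N'] at h3
    exact hℓq ((Nat.mul_dvd_mul_iff_left hN'0).1 h4)
  have hcase := type_of_primU p a hF hn x₀ hx hb0 hxb hbF hℓ hℓb hxℓ H1 H2
  obtain ⟨C, hCS, hCdet, hCj⟩ := hShits x₀ hx b hb0 hxb hcase
  rw [hdet] at hCdet
  obtain ⟨i, hi⟩ := hgen C hCS hCdet
  -- the test exponent
  obtain ⟨j₀, hj₀⟩ : Nat.gcd M (p ^ a + 1) ∣ M := Nat.gcd_dvd_left _ _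
  obtain ⟨Q', hQ'⟩ : Nat.gcd M (p ^ a + 1) ∣ p ^ a + 1 := Nat.gcd_dvd_right _ _
  have h1 : ∃ l : F, C₀ ^ (i * j₀) = l • (1 : Matrix (Fin n) (Fin n) F) := by
    rw [hscal, hM]
    refine ⟨Q' * i, ?_⟩
    have e1 : (p ^ a + 1) ^ 2 * (i * j₀) = (p ^ a + 1) * (p ^ a + 1) * (i * j₀) := by ring
    rw [e1]
    nth_rewrite 2 [hQ']
    nth_rewrite 2 [hj₀]
    ring
  obtain ⟨l, hl⟩ := h1
  rw [pow_mul, ← hi] at hl
  have h2 : (QuotientGroup.mk x : Cfsg.PSU n F (p ^ a)) ^ j₀ = 1 :=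
    (hpowiff j₀).2 ⟨l, (hCj j₀ l).1 hl⟩
  have h3 : N ∣ j₀ := by rw [← hg]; exact orderOf_dvd_of_pow_eq_one h2
  obtain ⟨c, hc⟩ := h3
  refine ⟨c, ?_⟩
  conv_lhs => rw [hj₀, hc]
  ring

end psulevel

end Cfsg.Agent.H4PSUSpec
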