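import Mathlib
import Cfsg.Agent.Lib.Helper4.PSpSpecE

namespace Cfsg.Agent.H4PSpSpec

open Polynomial Matrix

section alpha

variable {F : Type*} [Field F] [Fintype F] {l : Type*} [Fintype l] [DecidableEq l] [Nonempty l]

/-- if the inverse of `x` (irreducible minimal polynomial) is again a root, it is a Frobenius power -/
theorem exists_frob_of_root (x : Matrix (l ⊕ l) (l ⊕ l) F) (hirr : Irreducible (minpoly F x))
    {a : ℕ} (ha0 : 0 < a) (hxa : x ^ a = 1) (haodd : Odd a) (hx1 : x ≠ 1)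
    (hroot : aeval (x ^ (a - 1)) (minpoly F x) = 0) :
    ∃ d : ℕ, 0 < d ∧ (minpoly F x).natDegree = 2 * d ∧ x ^ (a - 1) = x ^ (Fintype.card F ^ d) := by
  haveI : Fact (Irreducible (minpoly F x)) := ⟨hirr⟩
  set μ := minpoly F x with hμ
  let K := AdjoinRoot μ
  haveI : Module.Finite F K := (AdjoinRoot.powerBasis hirr.ne_zero).finite
  haveI : Finite K := Module.finite_of_finite F
  have hdeg : Module.finrank F K = μ.natDegree := by
    rw [(AdjoinRoot.powerBasis hirr.ne_zero).finrank, AdjoinRoot.powerBasis_dim]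
  set r : K := AdjoinRoot.root μ with hr
  have hinj := rhoMat_injective x hirr
  have hρr : rhoMat x r = x := rhoMat_root x
  have hra : r ^ a = 1 := by
    apply hinj
    rw [map_pow, hρr, hxa, map_one]
  have hroot' : aeval (r ^ (a - 1)) μ = 0 := by
    apply hinj
    rw [← Polynomial.aeval_algHom_apply, map_pow, hρr, hroot, map_zero]
  let σ : K →ₐ[F] K := AdjoinRoot.liftAlgHom μ (Algebra.ofId F K) (r ^ (a - 1)) (by
    have := hroot'
    rw [Polynomial.aeval_def] at this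
    exact this)
  have hσr : σ r = r ^ (a - 1) := AdjoinRoot.liftAlgHom_root _ _ _ _
  obtain ⟨⟨j, hj⟩, hjσ⟩ := (FiniteField.bijective_frobeniusAlgHom_pow F K).2 σ
  simp only at hjσ
  have hσpow : ∀ (i : ℕ) (y : K), ((FiniteField.frobeniusAlgHom F K) ^ i) y = y ^ (Fintype.card F ^ i) := by
    intro i y
    rw [AlgHom.coe_pow, FiniteField.coe_frobeniusAlgHom, pow_iterate]
  have hrj : r ^ (a - 1) = r ^ (Fintype.card F ^ j) := by
    rw [← hσr, ← hjσ, hσpow]
  have hr0 : r ≠ 0 := by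
    intro h
    rw [h, zero_pow ha0.ne'] at hra
    exact zero_ne_one hra
  have hrinv : r ^ (a - 1) = r⁻¹ := by
    apply eq_inv_of_mul_eq_one_left
    rw [← pow_succ, Nat.sub_add_cancel ha0, hra]
  -- σ² = 1
  have hσσ : σ * σ = 1 := by
    apply AdjoinRoot.algHom_ext
    rw [AlgHom.mul_apply, AlgHom.one_apply, hσr, map_pow, hσr, hrinv, inv_pow, hrinv, inv_inv]
  have hφ : (FiniteField.frobeniusAlgHom F K) ^ (2 * j) = 1 := by
    rw [two_mul, pow_add, hjσ, hσσ]
  have hdvd : μ.natDegree ∣ 2 * j := by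
    rw [← hdeg, ← FiniteField.orderOf_frobeniusAlgHom F K]
    exact orderOf_dvd_of_pow_eq_one hφ
  have hj0 : j ≠ 0 := by
    rintro rfl
    rw [pow_zero, pow_one, hrinv] at hrj
    have hr2 : r * r = 1 := by
      nth_rewrite 1 [← hrj]
      exact inv_mul_cancel₀ hr0
    obtain ⟨b, hb⟩ := haodd
    have hr1 : r = 1 := by
      have : r ^ a = r := by
        rw [hb, pow_succ, pow_mul, pow_two, hr2, one_pow, one_mul]
      rw [← this, hra]
    apply hx1
    rw [← hρr, hr1, map_one]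
  rw [hdeg] at hj
  have hD : μ.natDegree = 2 * j := by
    obtain ⟨c, hc⟩ := hdvd
    have hc1 : c = 1 := by
      rcases c with _ | _ | c
      · omega
      · rfl
      · exfalso
        have : μ.natDegree * (c + 1 + 1) ≥ μ.natDegree * 2 := Nat.mul_le_mul_left _ (by omega)
        omega
    rw [hc, hc1, mul_one]
  refine ⟨j, Nat.pos_of_ne_zero hj0, hD, ?_⟩
  have := congrArg (rhoMat x) hrj
  rw [map_pow, map_pow, hρr] at this
  exact this

theorem type_alpha (h2 : (2 : F) ≠ 0) (x u : Matrix (l ⊕ l) (l ⊕ l) F)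
    (hx : x * adj x = 1) {a : ℕ} (ha0 : 0 < a) (hxa : x ^ a = 1) (haodd : Odd a)
    (hirr : Irreducible (minpoly F x)) (hx1 : x ≠ 1)
    (hux : Commute u x) (hun : IsNilpotent (u - 1)) :
    Good x ∨ ∃ d m : ℕ, 0 < d ∧ d * m = Fintype.card l ∧ x ^ (Fintype.card F ^ d + 1) = 1 ∧
      ¬ 4 ∣ Fintype.card F ^ d + 1 ∧ (u - 1) ^ m = 0 := by
  have hadjx : adj x = x ^ (a - 1) := adj_eq_pow hx ha0 hxa
  have hroot : aeval (x ^ (a - 1)) (minpoly F x) = 0 := by
    rw [← hadjx, ← adj_aeval, minpoly.aeval, adj_zero]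
  obtain ⟨d, hd0, hD, hxd⟩ := exists_frob_of_root x hirr ha0 hxa haodd hx1 hroot
  have hxq : x ^ (Fintype.card F ^ d + 1) = 1 := by
    rw [pow_succ, ← hxd, ← pow_succ, Nat.sub_add_cancel ha0, hxa]
  -- L1
  set N := u - 1 with hN
  have cNx : Commute N x := (hux.sub_left (Commute.one_left x))
  obtain ⟨hdvd, hz⟩ := nilp_pow_mul_idem x N 1 hirr hun cNx (Commute.one_left x)
    (Commute.one_right N)
  rw [Matrix.rank_one, Fintype.card_sum, hD, mul_one] at hz
  rw [Matrix.rank_one, Fintype.card_sum, hD] at hdvd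
  have hdl : d ∣ Fintype.card l := by
    obtain ⟨c, hc⟩ := hdvd
    exact ⟨c, by nlinarith⟩
  have hm : (Fintype.card l + Fintype.card l) / (2 * d) = Fintype.card l / d := by
    rw [← two_mul, Nat.mul_div_mul_left _ _ (by norm_num : 0 < 2)]
  rw [hm] at hz
  by_cases h4 : 4 ∣ Fintype.card F ^ d + 1
  · left
    have h4' : 4 ∣ Fintype.card F ^ (minpoly F x).natDegree - 1 := by
      rw [hD, pow_mul']
      have h5 : (Fintype.card F ^ d) ^ 2 - 1 = (Fintype.card F ^ d + 1) * (Fintype.card F ^ d - 1) := by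
        have : 1 ≤ Fintype.card F ^ d := Nat.one_le_pow _ _ Fintype.card_pos
        rw [← Nat.sq_sub_sq, one_pow]
      rw [h5]
      exact h4.mul_right _
    obtain ⟨P, hP⟩ := exists_sq_eq_neg_one x hirr h4'
    set t := aeval x P with ht
    have hadjt : adj t = t ^ (Fintype.card F ^ d) := by
      rw [ht, adj_aeval, hadjx, hxd, aeval_pow_card_pow]
    have ht4 : t ^ 4 = 1 := by
      have : t ^ 4 = (t * t) * (t * t) := by noncomm_ring
      rw [this, hP]; simp
    obtain ⟨c, hc⟩ := h4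
    have hc0 : c ≠ 0 := by
      rintro rfl
      omega
    have hq3 : Fintype.card F ^ d = 4 * (c - 1) + 3 := by omega
    have htq : t ^ (Fintype.card F ^ d) = t ^ 3 := by
      rw [hq3, pow_add, pow_mul, ht4, one_pow, one_mul]
    have htt : t * adj t = 1 := by
      rw [hadjt, htq, ← pow_succ', ht4]
    refine ⟨t, htt, Or.inr hP, ?_, ?_, ?_⟩
    · intro h
      rw [h, one_mul] at hP
      exact one_ne_neg_one_mat h2 hP
    · intro h
      rw [h, neg_mul_neg, one_mul] at hP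
      exact one_ne_neg_one_mat h2 hP
    · intro y hy
      exact commute_aeval' hy P
  · right
    refine ⟨d, Fintype.card l / d, hd0, Nat.mul_div_cancel' hdl, hxq, h4, ?_⟩
    exact hz

end alpha

end Cfsg.Agent.H4PSpSpec

namespace Cfsg.Agent.H4PSpSpec

open Polynomial Matrix

section struct

variable {F : Type*} [Field F] [Fintype F] {l : Type*} [Fintype l] [DecidableEq l] [Nonempty l]

theorem struct (h2 : (2 : F) ≠ 0) (x u : Matrix (l ⊕ l) (l ⊕ l) F)
    (hx : x * adj x = 1) {a : ℕ} (ha0 : 0 < a) (hxa : x ^ a = 1) (haodd : Odd a)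
    (haF : (a : F) ≠ 0) (hux : Commute u x) (hun : IsNilpotent (u - 1)) :
    Good x ∨ x = 1 ∨ ∃ d m : ℕ, 0 < d ∧ d * m = Fintype.card l ∧
      ((x ^ (Fintype.card F ^ d - 1) = 1 ∧ ¬ 4 ∣ Fintype.card F ^ d - 1) ∨
        (x ^ (Fintype.card F ^ d + 1) = 1 ∧ ¬ 4 ∣ Fintype.card F ^ d + 1)) ∧ (u - 1) ^ m = 0 := by
  by_cases hirr : Irreducible (minpoly F x)
  · by_cases hx1 : x = 1
    · exact Or.inr (Or.inl hx1)
    · rcases type_alpha h2 x u hx ha0 hxa haodd hirr hx1 hux hun with h | ⟨d, m, hd, hdm, hxq, h4, hu⟩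
      · exact Or.inl h
      · exact Or.inr (Or.inr ⟨d, m, hd, hdm, Or.inr ⟨hxq, h4⟩, hu⟩)
  · rcases reducible_case h2 x hx ha0 hxa haF hirr with h | ⟨e₁, f₁, hf₁, h11, hsum, h12, hfe, hcomm⟩
    · exact Or.inl h
    · rcases type_beta h2 x u e₁ f₁ hx ha0 hxa hf₁ h11 hsum h12 hfe hcomm hux hun with
        h | ⟨d, m, hd, hdm, hxq, h4, hu⟩
      · exact Or.inl h
      · exact Or.inr (Or.inr ⟨d, m, hd, hdm, Or.inl ⟨hxq, h4⟩, hu⟩)

end struct

end Cfsg.Agent.H4PSpSpec
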