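import Mathlib
import Cfsg.Agent.Lib.Helper22.UniBlkC

namespace Cfsg.Agent.H4PSpSpec

open Polynomial Matrix Module

universe u v

section transfer

variable {F : Type u} [Field F]

/-- from an abstract isometry (any universe) of a nondegenerate alternating space to a symplectic matrix -/
theorem abs_to_sp {W : Type v} [AddCommGroup W] [Module F W] [FiniteDimensional F W]
    (β : LinearMap.BilinForm F W) (halt : ∀ x, β x x = 0)
    (hnd : ∀ x, (∀ y, β x y = 0) → x = 0) (T : End F W)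
    (hinv : ∀ x y, β (T x) (T y) = β x y) (k : ℕ) (hdim : finrank F W = 2 * k) :
    ∃ A : Matrix (Fin k ⊕ Fin k) (Fin k ⊕ Fin k) F, A ∈ Matrix.symplecticGroup (Fin k) F ∧
      ∀ (j : ℕ) (c : F), (A ^ j = c • 1 ↔ T ^ j = c • 1) := by
  -- transport to `Fin (2k) → F`
  let ψ : W ≃ₗ[F] (Fin (2 * k) → F) := (Module.finBasisOfFinrankEq F W hdim).equivFun
  let W' := Fin (2 * k) → F
  let β' : LinearMap.BilinForm F W' := β.compl₁₂ ψ.symm.toLinearMap ψ.symm.toLinearMap
  have hβ' : ∀ x y, β' x y = β (ψ.symm x) (ψ.symm y) := fun x y => rfl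
  let T' : End F W' := ψ.conj T
  have hT' : ∀ x, T' x = ψ (T (ψ.symm x)) := fun x => by
    show (ψ.conj T) x = _
    rw [LinearEquiv.conj_apply]; rfl
  obtain ⟨A, φ, hA, -, hφ⟩ := Cfsg.Agent.Lib.Helper22.UniBlk.exists_sp_matrix (F := F) (W := W')
    β' (fun x => by rw [hβ']; exact halt _)
    (fun x hx => by
      have : ψ.symm x = 0 := hnd _ (fun y => by
        have := hx (ψ y)
        rw [hβ', LinearEquiv.symm_apply_apply] at this
        exact this)
      simpa using this)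
    T' (fun x y => by
      rw [hβ', hβ', hT', hT', LinearEquiv.symm_apply_apply, LinearEquiv.symm_apply_apply, hinv])
    k (by rw [Module.finrank_fintype_fun_eq_card, Fintype.card_fin])
  refine ⟨A, hA, ?_⟩
  intro j c
  let χ : W ≃ₗ[F] (Fin k ⊕ Fin k → F) := ψ.trans φ
  have hχ : ∀ x, Matrix.toLin' A (χ x) = χ (T x) := by
    intro x
    show Matrix.toLin' A (φ (ψ x)) = φ (ψ (T x))
    rw [hφ, hT', LinearEquiv.symm_apply_apply]
  have hpow : ∀ (j : ℕ) x, Matrix.toLin' (A ^ j) (χ x) = χ ((T ^ j) x) := by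
    intro j
    induction j with
    | zero => intro x; simp
    | succ j ih =>
      intro x
      rw [pow_succ, Matrix.toLin'_mul, LinearMap.comp_apply, hχ, ih, pow_succ, Module.End.mul_apply]
  constructor
  · intro h
    apply LinearMap.ext
    intro x
    apply χ.injective
    rw [← hpow, h]
    simp
  · intro h
    apply Matrix.toLin'.injective
    apply LinearMap.ext
    intro y
    obtain ⟨x, rfl⟩ := χ.surjective y
    rw [hpow, h]
    simp

end transfer

end Cfsg.Agent.H4PSpSpec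

namespace Cfsg.Agent.H4PSpSpec

open Polynomial Matrix Module

universe u

section blocksum

variable {F : Type u} [Field F]

theorem prodMap_pow'' {W₁ W₂ : Type*} [AddCommGroup W₁] [Module F W₁] [AddCommGroup W₂] [Module F W₂]
    (T₁ : W₁ →ₗ[F] W₁) (T₂ : W₂ →ₗ[F] W₂) (k : ℕ) :
    (T₁.prodMap T₂) ^ k = (T₁ ^ k).prodMap (T₂ ^ k) := by
  induction k with
  | zero => rw [pow_zero, pow_zero, pow_zero, LinearMap.prodMap_one]
  | succ k ih => rw [pow_succ, pow_succ, pow_succ, ih, LinearMap.prodMap_mul]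

theorem toLin'_pow_eq_smul_iff {ι : Type*} [Fintype ι] [DecidableEq ι] (A : Matrix ι ι F) (j : ℕ)
    (c : F) : (Matrix.toLin' A) ^ j = c • (1 : End F (ι → F)) ↔ A ^ j = c • 1 := by
  have h1 : (Matrix.toLin' A) ^ j = Matrix.toLin' (A ^ j) := by
    induction j with
    | zero => simp [Module.End.one_eq_id]
    | succ j ih => rw [pow_succ, pow_succ, Matrix.toLin'_mul, ih]; rfl
  have h2 : c • (1 : End F (ι → F)) = Matrix.toLin' (c • (1 : Matrix ι ι F)) := by
    rw [map_smul, Matrix.toLin'_one]; rfl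
  rw [h1, h2]
  exact Matrix.toLin'.injective.eq_iff

theorem sp_block_sum {k₁ k₂ : ℕ} (A₁ : Matrix (Fin k₁ ⊕ Fin k₁) (Fin k₁ ⊕ Fin k₁) F)
    (h₁ : A₁ ∈ Matrix.symplecticGroup (Fin k₁) F)
    (A₂ : Matrix (Fin k₂ ⊕ Fin k₂) (Fin k₂ ⊕ Fin k₂) F)
    (h₂ : A₂ ∈ Matrix.symplecticGroup (Fin k₂) F) :
    ∃ A : Matrix (Fin (k₁ + k₂) ⊕ Fin (k₁ + k₂)) (Fin (k₁ + k₂) ⊕ Fin (k₁ + k₂)) F,
      A ∈ Matrix.symplecticGroup (Fin (k₁ + k₂)) F ∧
      ∀ (j : ℕ) (c : F), (A ^ j = c • 1 ↔ (A₁ ^ j = c • 1 ∧ A₂ ^ j = c • 1)) := by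
  let W₁ := Fin k₁ ⊕ Fin k₁ → F
  let W₂ := Fin k₂ ⊕ Fin k₂ → F
  let β : LinearMap.BilinForm F (W₁ × W₂) :=
    (Cfsg.Agent.Lib.Helper15.sympBilin k₁ (F := F)).compl₁₂ (LinearMap.fst F W₁ W₂) (LinearMap.fst F W₁ W₂) +
      (Cfsg.Agent.Lib.Helper15.sympBilin k₂ (F := F)).compl₁₂ (LinearMap.snd F W₁ W₂) (LinearMap.snd F W₁ W₂)
  have hβ : ∀ x y, β x y = Cfsg.sympForm k₁ F x.1 y.1 + Cfsg.sympForm k₂ F x.2 y.2 := by
    intro x y
    show Cfsg.Agent.Lib.Helper15.sympBilin k₁ x.1 y.1 + Cfsg.Agent.Lib.Helper15.sympBilin k₂ x.2 y.2 = _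
    rw [Cfsg.Agent.Lib.Helper15.sympBilin_apply, Cfsg.Agent.Lib.Helper15.sympBilin_apply]
  let T : End F (W₁ × W₂) := (Matrix.toLin' A₁).prodMap (Matrix.toLin' A₂)
  obtain ⟨A, hA, hAT⟩ := abs_to_sp β
    (fun x => by
      rw [hβ, Cfsg.Agent.Lib.Helper5.sympForm_self, Cfsg.Agent.Lib.Helper5.sympForm_self, add_zero])
    (fun x hx => by
      have hx1 : x.1 = 0 := by
        by_contra hne
        obtain ⟨a, ha⟩ := Cfsg.Agent.Lib.Helper5.sympForm_nondeg x.1 hne
        apply ha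
        have := hx (a, 0)
        rw [hβ] at this
        simpa [Cfsg.sympForm] using this
      have hx2 : x.2 = 0 := by
        by_contra hne
        obtain ⟨a, ha⟩ := Cfsg.Agent.Lib.Helper5.sympForm_nondeg x.2 hne
        apply ha
        have := hx (0, a)
        rw [hβ] at this
        simpa [Cfsg.sympForm] using this
      exact Prod.ext hx1 hx2)
    T
    (fun x y => by
      rw [hβ, hβ]
      show Cfsg.sympForm k₁ F (Matrix.toLin' A₁ x.1) (Matrix.toLin' A₁ y.1) +
        Cfsg.sympForm k₂ F (Matrix.toLin' A₂ x.2) (Matrix.toLin' A₂ y.2) = _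
      rw [Matrix.toLin'_apply, Matrix.toLin'_apply, Matrix.toLin'_apply, Matrix.toLin'_apply,
        Cfsg.Agent.Lib.Helper5.sympForm_mulVec_of_mem h₁,
        Cfsg.Agent.Lib.Helper5.sympForm_mulVec_of_mem h₂])
    (k₁ + k₂)
    (by
      rw [Module.finrank_prod, Module.finrank_fintype_fun_eq_card,
        Module.finrank_fintype_fun_eq_card, Fintype.card_sum, Fintype.card_sum, Fintype.card_fin,
        Fintype.card_fin]
      ring)
  refine ⟨A, hA, ?_⟩
  intro j c
  rw [hAT, ← toLin'_pow_eq_smul_iff A₁, ← toLin'_pow_eq_smul_iff A₂]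
  show ((Matrix.toLin' A₁).prodMap (Matrix.toLin' A₂)) ^ j = _ ↔ _
  rw [prodMap_pow'']
  constructor
  · intro h
    constructor
    · apply LinearMap.ext
      intro x
      have := congrArg (fun f => (f (x, 0)).1) h
      simpa using this
    · apply LinearMap.ext
      intro x
      have := congrArg (fun f => (f (0, x)).2) h
      simpa using this
  · rintro ⟨h1, h2⟩
    rw [h1, h2]
    apply LinearMap.ext
    intro x
    simp

end blocksum

end Cfsg.Agent.H4PSpSpec
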