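import Mathlib
import Cfsg.Agent.Lib.Helper4.PSpSpecG
import Cfsg.Agent.Lib.Helper4.PSpSpecH

namespace Cfsg.Agent.H4PSpSpec

open Polynomial Matrix Module

universe u

section hasord

variable (F : Type u) [Field F]

/-- `Sp_{2k}(F)` has an element of order exactly `N` -/
def HasOrd (k N : ℕ) : Prop :=
  ∃ A : Matrix (Fin k ⊕ Fin k) (Fin k ⊕ Fin k) F, A ∈ Matrix.symplecticGroup (Fin k) F ∧
    ∀ j : ℕ, A ^ j = 1 ↔ N ∣ j

variable {F}

theorem hasOrd_one (k : ℕ) : HasOrd F k 1 :=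
  ⟨1, one_mem _, fun j => by simp⟩

theorem HasOrd.of_dvd {k N M : ℕ} (h : HasOrd F k N) (hN : 0 < N) (hM : M ∣ N) : HasOrd F k M := by
  obtain ⟨A, hA, hj⟩ := h
  obtain ⟨c, hc⟩ := hM
  have hc0 : 0 < c := by
    rcases Nat.eq_zero_or_pos c with rfl | h
    · omega
    · exact h
  refine ⟨A ^ c, pow_mem hA c, ?_⟩
  intro j
  rw [← pow_mul, hj, hc]
  constructor
  · intro h
    exact (Nat.mul_dvd_mul_iff_right hc0).1 (by rwa [mul_comm c j] at h)
  · intro h
    rw [mul_comm c j]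
    exact Nat.mul_dvd_mul_right h c

theorem exists_unip (p : ℕ) [Fact p.Prime] [CharP F p] (h2 : (2 : F) ≠ 0) (k : ℕ) (hk : 1 ≤ k)
    (s : ℕ) (hs1 : 2 * k ≤ p ^ s) (hs2 : ∀ s', 2 * k ≤ p ^ s' → s ≤ s') :
    HasOrd F k (p ^ s) := by
  haveI : NeZero (2 * k) := ⟨by omega⟩
  have hp : p.Prime := Fact.out
  have hev : Even (2 * k) := even_two_mul k
  let β : LinearMap.BilinForm F (Fin (2 * k) → F) := Matrix.toLinearMap₂' F (GA F (2 * k))
  have hβ : ∀ u v, β u v = u ⬝ᵥ (GA F (2 * k) *ᵥ v) := fun u v =>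
    Matrix.toLinearMap₂'_apply' _ _ _
  obtain ⟨A, hA, hAT⟩ := abs_to_sp β (fun x => by rw [hβ]; exact GA_alt h2 hev x)
    (fun x hx => GA_nondeg hev x (fun v => by rw [← hβ]; exact hx v))
    (Matrix.toLin' (Tcay F (2 * k)))
    (fun x y => by
      rw [hβ, hβ, Matrix.toLin'_apply, Matrix.toLin'_apply]
      rw [← Matrix.vecMul_transpose (Tcay F (2 * k)) x, ← Matrix.dotProduct_mulVec,
        Matrix.mulVec_mulVec, Matrix.mulVec_mulVec, Tcay_isometry])
    k (by rw [Module.finrank_fintype_fun_eq_card, Fintype.card_fin])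
  refine ⟨A, hA, ?_⟩
  -- order of Tcay
  have hs0 : s ≠ 0 := by
    rintro rfl
    rw [pow_zero] at hs1
    omega
  obtain ⟨s', rfl⟩ := Nat.exists_eq_succ_of_ne_zero hs0
  have hord : orderOf (Tcay F (2 * k)) = p ^ (s' + 1) := by
    apply orderOf_eq_prime_pow
    · rw [Tcay_pow_eq_one_iff p h2]
      intro h
      have := hs2 s' h
      omega
    · rw [Tcay_pow_eq_one_iff p h2]
      exact hs1
  intro j
  have := hAT j 1
  rw [one_smul, one_smul] at this
  rw [this]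
  have h3 := toLin'_pow_eq_smul_iff (Tcay F (2 * k)) j 1
  rw [one_smul, one_smul] at h3
  rw [h3, ← hord, orderOf_dvd_iff_pow_eq_one]

end hasord

end Cfsg.Agent.H4PSpSpec
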