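import Mathlib
import Cfsg.Agent.Lib.Helper4.PSpSpecI

namespace Cfsg.Agent.H4PSpSpec

open Polynomial Matrix Module

universe u

section torusplus

variable {F : Type u} [Field F]

theorem fromBlocks_diag_pow {d : ℕ} (C D : Matrix (Fin d) (Fin d) F) (j : ℕ) :
    (Matrix.fromBlocks C 0 0 D) ^ j = Matrix.fromBlocks (C ^ j) 0 0 (D ^ j) := by
  induction j with
  | zero => simp [Matrix.fromBlocks_one]
  | succ j ih =>
    rw [pow_succ, ih, Matrix.fromBlocks_multiply, pow_succ, pow_succ]
    simp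

variable [Fintype F]

theorem exists_gen_ext (p : ℕ) [Fact p.Prime] [CharP F p] (d : ℕ) [NeZero d] :
    ∃ ξ : FiniteField.Extension F p d, ξ ≠ 0 ∧ ∀ j : ℕ, ξ ^ j = 1 ↔ (Fintype.card F ^ d - 1) ∣ j := by
  classical
  let K := FiniteField.Extension F p d
  haveI : Fintype K := Fintype.ofFinite K
  obtain ⟨g, hg⟩ := IsCyclic.exists_generator (α := Kˣ)
  have hord : orderOf g = Fintype.card F ^ d - 1 := by
    rw [orderOf_eq_card_of_forall_mem_zpowers hg, Nat.card_eq_fintype_card, Fintype.card_units,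
      Fintype.card_eq_nat_card, FiniteField.natCard_extension, Nat.card_eq_fintype_card]
  refine ⟨(g : K), g.ne_zero, fun j => ?_⟩
  rw [← hord, orderOf_dvd_iff_pow_eq_one, ← Units.val_pow_eq_pow_val, Units.val_eq_one]

theorem exists_torus_plus (p : ℕ) [Fact p.Prime] [CharP F p] (d : ℕ) (hd : 0 < d) :
    HasOrd F d (Fintype.card F ^ d - 1) := by
  classical
  haveI : NeZero d := ⟨by omega⟩
  let K := FiniteField.Extension F p d
  obtain ⟨ξ, hξ0, hξ⟩ := exists_gen_ext (F := F) p d
  let b : Module.Basis (Fin d) F K :=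
    Module.finBasisOfFinrankEq F _ (FiniteField.finrank_extension F p d)
  let C := Algebra.leftMulMatrix b ξ
  let Ci := Algebra.leftMulMatrix b ξ⁻¹
  have hCCi : C * Ci = 1 := by
    show Algebra.leftMulMatrix b ξ * Algebra.leftMulMatrix b ξ⁻¹ = 1
    rw [← map_mul, mul_inv_cancel₀ hξ0, map_one]
  refine ⟨Matrix.fromBlocks C 0 0 Ciᵀ, ?_, ?_⟩
  · rw [SymplecticGroup.mem_iff]
    show Matrix.fromBlocks C 0 0 Ciᵀ * Matrix.fromBlocks 0 (-1) 1 0 *
      (Matrix.fromBlocks C 0 0 Ciᵀ)ᵀ = Matrix.fromBlocks 0 (-1) 1 0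
    rw [Matrix.fromBlocks_transpose, Matrix.fromBlocks_multiply, Matrix.fromBlocks_multiply]
    simp only [Matrix.transpose_zero, Matrix.mul_zero, Matrix.zero_mul, add_zero, zero_add,
      Matrix.mul_one, Matrix.transpose_transpose, Matrix.mul_neg, Matrix.neg_mul]
    rw [hCCi, ← Matrix.transpose_mul, hCCi, Matrix.transpose_one, neg_zero]
  · intro j
    rw [fromBlocks_diag_pow, ← Matrix.fromBlocks_one, Matrix.fromBlocks_inj, ← hξ j]
    have h1 : C ^ j = Algebra.leftMulMatrix b (ξ ^ j) := (map_pow _ _ _).symm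
    have h2 : Ci ^ j = Algebra.leftMulMatrix b ((ξ ^ j)⁻¹) := by
      rw [← inv_pow]; exact (map_pow _ _ _).symm
    constructor
    · rintro ⟨h, -, -, -⟩
      rw [h1] at h
      apply Algebra.leftMulMatrix_injective b
      rw [h, map_one]
    · intro h
      refine ⟨by rw [h1, h, map_one], rfl, rfl, ?_⟩
      rw [← Matrix.transpose_pow, h2, h, inv_one, map_one, Matrix.transpose_one]

end torusplus

section torusminus

variable {F : Type u} [Field F] [Fintype F]

theorem exists_torus_minus (p : ℕ) [Fact p.Prime] [CharP F p] (h2 : (2 : F) ≠ 0) (d : ℕ)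
    (hd : 0 < d) : HasOrd F d (Fintype.card F ^ d + 1) := by
  classical
  haveI : NeZero (2 * d) := ⟨by omega⟩
  let E := FiniteField.Extension F p (2 * d)
  haveI : Fintype E := Fintype.ofFinite E
  set q := Fintype.card F with hq
  have hq1 : 1 < q := Fintype.one_lt_card
  have hqd1 : 1 < q ^ d := Nat.one_lt_pow (by omega) hq1
  obtain ⟨ξ, hξ0, hξ⟩ := exists_gen_ext (F := F) p (2 * d)
  have hcardE : Fintype.card E = q ^ (2 * d) := by
    rw [Fintype.card_eq_nat_card, FiniteField.natCard_extension, Nat.card_eq_fintype_card]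
  let σ : E ≃ₐ[F] E := (FiniteField.Extension.frob F p (2 * d)) ^ d
  have hσ : ∀ x : E, σ x = x ^ (q ^ d) := by
    intro x
    show ((FiniteField.Extension.frob F p (2 * d)) ^ d) x = _
    rw [FiniteField.Extension.frob_iterate_apply, Nat.card_eq_fintype_card]
  have hσσ : ∀ x : E, σ (σ x) = x := by
    intro x
    rw [hσ, hσ, ← pow_mul, ← pow_add, ← two_mul, ← hcardE, FiniteField.pow_card]
  have hfac : q ^ (2 * d) - 1 = (q ^ d - 1) * (q ^ d + 1) := by
    have : q ^ (2 * d) = q ^ d * q ^ d := by rw [two_mul, pow_add]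
    rw [this]
    have h1 : 1 ≤ q ^ d := by omega
    zify [h1, Nat.one_le_iff_ne_zero.2 (Nat.mul_ne_zero (by omega : q ^ d ≠ 0) (by omega : q ^ d ≠ 0))]
    ring
  -- θ
  let θ : E := ξ - σ ξ
  have hθ : σ θ = -θ := by
    show σ (ξ - σ ξ) = -(ξ - σ ξ)
    rw [map_sub, hσσ]; ring
  have hθ0 : θ ≠ 0 := by
    intro h
    have h1 : σ ξ = ξ := (sub_eq_zero.1 h).symm
    rw [hσ] at h1
    have h3 : ξ ^ (q ^ d - 1) = 1 := by
      have h4 : ξ ^ (q ^ d - 1) * ξ = 1 * ξ := by
        rw [← pow_succ, one_mul, Nat.sub_add_cancel (by omega), h1]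
      exact mul_right_cancel₀ hξ0 h4
    have h5 := (hξ _).1 h3
    rw [hfac] at h5
    have h6 := Nat.le_of_dvd (by omega) h5
    have h7 : (q ^ d - 1) * 2 ≤ (q ^ d - 1) * (q ^ d + 1) := Nat.mul_le_mul_left _ (by omega)
    omega
  -- c
  let c : E := ξ ^ (q ^ d - 1)
  have hcσ : c * σ c = 1 := by
    rw [hσ]
    show ξ ^ (q ^ d - 1) * (ξ ^ (q ^ d - 1)) ^ (q ^ d) = 1
    rw [← pow_mul, ← pow_add, hξ]
    rw [hfac]
    exact ⟨1, by ring⟩
  have hcj : ∀ j : ℕ, c ^ j = 1 ↔ (q ^ d + 1) ∣ j := by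
    intro j
    show (ξ ^ (q ^ d - 1)) ^ j = 1 ↔ _
    rw [← pow_mul, hξ, hfac]
    exact Nat.mul_dvd_mul_iff_left (by omega)
  -- the form
  let β : LinearMap.BilinForm F E := LinearMap.mk₂ F (fun a b => Algebra.trace F E (θ * a * σ b))
    (fun a a' b => by rw [mul_add, add_mul, map_add])
    (fun r a b => by
      rw [mul_smul_comm, smul_mul_assoc, map_smul])
    (fun a b b' => by rw [map_add, mul_add, map_add])
    (fun r a b => by
      rw [map_smul, mul_smul_comm, map_smul])
  have hβ : ∀ a b, β a b = Algebra.trace F E (θ * a * σ b) := fun a b => rfl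
  have halt : ∀ x, β x x = 0 := by
    intro x
    rw [hβ]
    have h1 : σ (θ * x * σ x) = -(θ * x * σ x) := by
      rw [map_mul, map_mul, hθ, hσσ]; ring
    have h3 : Algebra.trace F E (σ (θ * x * σ x)) = Algebra.trace F E (θ * x * σ x) :=
      Algebra.trace_eq_of_algEquiv σ _
    rw [h1, map_neg] at h3
    have h4 : (2 : F) * Algebra.trace F E (θ * x * σ x) = 0 := by
      rw [two_mul]
      nth_rewrite 1 [← h3]
      exact neg_add_cancel _
    rcases mul_eq_zero.1 h4 with h | h
    · exact absurd h h2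
    · exact h
  have hnd : ∀ x, (∀ y, β x y = 0) → x = 0 := by
    intro x hx
    have h1 : ∀ z, Algebra.traceForm F E (θ * x) z = 0 := by
      intro z
      have := hx (σ z)
      rw [hβ, hσσ] at this
      rw [Algebra.traceForm_apply]
      exact this
    have hnd := traceForm_nondegenerate F E
    have h5 : θ * x = 0 := hnd.1 _ h1
    rcases mul_eq_zero.1 h5 with h | h
    · exact absurd h hθ0
    · exact h
  obtain ⟨A, hA, hAT⟩ := abs_to_sp β halt hnd (Algebra.lmul F E c)
    (fun x y => by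
      rw [hβ, hβ]
      show Algebra.trace F E (θ * (c * x) * σ (c * y)) = _
      have : θ * (c * x) * σ (c * y) = (c * σ c) * (θ * x * σ y) := by
        rw [map_mul σ c y]; ring
      rw [this, hcσ, one_mul])
    d (by rw [FiniteField.finrank_extension])
  refine ⟨A, hA, ?_⟩
  intro j
  have := hAT j 1
  rw [one_smul, one_smul] at this
  rw [this, ← map_pow, ← hcj j]
  constructor
  · intro h
    apply Algebra.lmul_injective (R := F) (A := E)
    rw [h, map_one]
  · intro h
    rw [h, map_one]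

end torusminus

end Cfsg.Agent.H4PSpSpec
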