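import Mathlib
import Cfsg.Agent.S0246
import Cfsg.Agent.Lib.Helper4.PSpSpecF
import Cfsg.Agent.Lib.Helper4.PSpSpecJ

namespace Cfsg.Agent.H4PSpSpec

open Polynomial Matrix Module

universe u

section psp

variable {F : Type u} [Field F] {n : ℕ}

local notation "Spn" => Matrix.symplecticGroup (Fin n) F
local notation "PSpn" => Cfsg.PSp n F

theorem one_ne_neg_one_mat' {ι : Type*} [Fintype ι] [DecidableEq ι] [Nonempty ι] (h2 : (2 : F) ≠ 0) :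
    (1 : Matrix ι ι F) ≠ -1 := by
  intro h
  have h3 : (2 : F) • (1 : Matrix ι ι F) = 0 := by
    rw [two_smul]
    nth_rewrite 2 [h]
    simp
  rcases smul_eq_zero.1 h3 with h | h
  · exact h2 h
  · exact one_ne_zero h

/-- transfer of power relations from `PSp` to `Sp` -/
theorem mk_pow_eq_one (hn : 1 ≤ n) (A : Spn) (j : ℕ)
    (h : (QuotientGroup.mk A : PSpn) ^ j = 1) : A.1 ^ j = 1 ∨ A.1 ^ j = -1 := by
  rw [← QuotientGroup.mk_pow, QuotientGroup.eq_one_iff] at h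
  have := Cfsg.Agent.S0246.center_scalar n hn (A ^ j) h
  rwa [SubmonoidClass.coe_pow] at this

theorem neg_one_mem_center : (⟨-1, SymplecticGroup.neg_mem (one_mem _)⟩ : Spn) ∈
    Subgroup.center Spn := by
  rw [Subgroup.mem_center_iff]
  intro g
  apply Subtype.ext
  show (g : Matrix (Fin n ⊕ Fin n) (Fin n ⊕ Fin n) F) * (-1) =
    (-1) * (g : Matrix (Fin n ⊕ Fin n) (Fin n ⊕ Fin n) F)
  simp

theorem exists_of_hasOrd (hn : 1 ≤ n) {N : ℕ} (h : HasOrd F n N) :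
    ∃ g : PSpn, ∀ j, g ^ j = 1 → N ∣ 2 * j := by
  obtain ⟨A, hA, hj⟩ := h
  refine ⟨QuotientGroup.mk ⟨A, hA⟩, fun j h => ?_⟩
  have h1 : A ^ (2 * j) = 1 := by
    rw [mul_comm, pow_mul]
    rcases mk_pow_eq_one hn ⟨A, hA⟩ j h with h | h
    · show (A ^ j) ^ 2 = 1
      rw [h, one_pow]
    · show (A ^ j) ^ 2 = 1
      rw [h]; simp
  exact (hj _).1 h1

theorem exists_combo (h2 : (2 : F) ≠ 0) {k₁ k₂ : ℕ} (hk₁ : 1 ≤ k₁) (hk₂ : 1 ≤ k₂)
    (hk : k₁ + k₂ = n) {P a : ℕ} (hP : Odd P) (ha : Odd a) (h₁ : HasOrd F k₁ P)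
    (h₂ : HasOrd F k₂ a) :
    ∃ g : PSpn, ∀ j, g ^ j = 1 → Nat.lcm P (2 * a) ∣ j := by
  subst hk
  obtain ⟨A₁, hA₁, hj₁⟩ := h₁
  obtain ⟨A₂, hA₂, hj₂⟩ := h₂
  obtain ⟨A, hA, hAj⟩ := sp_block_sum A₁ hA₁ (-A₂) (SymplecticGroup.neg_mem hA₂)
  haveI : Nonempty (Fin k₁) := ⟨⟨0, by omega⟩⟩
  haveI : Nonempty (Fin k₂) := ⟨⟨0, by omega⟩⟩
  have hodd_dvd : ∀ {N j : ℕ}, Odd N → N ∣ 2 * j → N ∣ j := by
    intro N j hN h
    exact (Nat.Coprime.dvd_of_dvd_mul_left (Nat.Coprime.symm (Nat.coprime_two_left.2 hN)) h)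
  refine ⟨QuotientGroup.mk ⟨A, hA⟩, fun j h => ?_⟩
  rcases mk_pow_eq_one (by omega) ⟨A, hA⟩ j h with h | h
  · have h' : A ^ j = (1 : F) • 1 := by rw [one_smul]; exact h
    obtain ⟨e1, e2⟩ := (hAj j 1).1 h'
    rw [one_smul] at e1 e2
    have d1 : P ∣ j := (hj₁ j).1 e1
    rcases Nat.even_or_odd j with hev | hod
    · rw [hev.neg_pow] at e2
      have d2 : a ∣ j := (hj₂ j).1 e2
      have d3 : 2 * a ∣ j :=
        Nat.Coprime.mul_dvd_of_dvd_of_dvd (Nat.coprime_two_left.2 ha) hev.two_dvd d2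
      exact Nat.lcm_dvd d1 d3
    · exfalso
      rw [hod.neg_pow] at e2
      have e3 : A₂ ^ j = -1 := by rw [← e2, neg_neg]
      have e4 : A₂ ^ (2 * j) = 1 := by
        rw [mul_comm, pow_mul, e3]; simp
      have d2 : a ∣ j := hodd_dvd ha ((hj₂ _).1 e4)
      have e5 := (hj₂ j).2 d2
      rw [e3] at e5
      exact one_ne_neg_one_mat' h2 e5.symm
  · exfalso
    have h' : A ^ j = (-1 : F) • 1 := by rw [neg_smul, one_smul]; exact h
    obtain ⟨e1, -⟩ := (hAj j (-1)).1 h'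
    rw [neg_smul, one_smul] at e1
    have e4 : A₁ ^ (2 * j) = 1 := by
      rw [mul_comm, pow_mul, e1]; simp
    have d2 : P ∣ j := hodd_dvd hP ((hj₁ _).1 e4)
    have e5 := (hj₁ j).2 d2
    rw [e1] at e5
    exact one_ne_neg_one_mat' h2 e5.symm

end psp

end Cfsg.Agent.H4PSpSpec
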