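import Mathlib
import Cfsg.Agent.Lib.Helper4.PSpSpecK

namespace Cfsg.Agent.H4PSpSpec

open Polynomial Matrix Module

universe u

section lifts

variable {F : Type u} [Field F] {n : ℕ}

local notation "Spn" => Matrix.symplecticGroup (Fin n) F
local notation "PSpn" => Cfsg.PSp n F

theorem pow_lift {g : Spn} {K : ℕ} (h : g.1 ^ K = 1) : (QuotientGroup.mk g : PSpn) ^ K = 1 := by
  rw [← QuotientGroup.mk_pow]
  have : g ^ K = 1 := by
    apply Subtype.ext
    rw [SubmonoidClass.coe_pow, h]; rfl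
  rw [this]; rfl

/-- an odd-order element of `PSp` lifts to an element of `Sp` killed by the same exponent -/
theorem exists_lift_odd (hn : 1 ≤ n) (g : PSpn) {N : ℕ} (hN : Odd N) (hg : g ^ N = 1) :
    ∃ x : Spn, (QuotientGroup.mk x : PSpn) = g ∧ x.1 ^ N = 1 := by
  obtain ⟨x₀, rfl⟩ := QuotientGroup.mk_surjective g
  rcases mk_pow_eq_one hn x₀ N hg with h | h
  · exact ⟨x₀, rfl, h⟩
  · refine ⟨x₀ * ⟨-1, SymplecticGroup.neg_mem (one_mem _)⟩, ?_, ?_⟩
    · rw [QuotientGroup.mk_mul, (QuotientGroup.eq_one_iff _).2 neg_one_mem_center, mul_one]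
    · show (x₀.1 * (-1)) ^ N = 1
      rw [mul_neg, mul_one, hN.neg_pow, h, neg_neg]

theorem pow_card_eq_zero_of_isNilpotent' {ι : Type*} [Fintype ι] [DecidableEq ι]
    {M : Matrix ι ι F} (h : IsNilpotent M) : M ^ Fintype.card ι = 0 := by
  have h1 := Matrix.isNilpotent_charpoly_sub_pow_of_isNilpotent h
  have h2 : M.charpoly = X ^ Fintype.card ι := by
    have := h1.eq_zero
    exact sub_eq_zero.1 this
  have h3 := Matrix.aeval_self_charpoly M
  rw [h2, map_pow, aeval_X] at h3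
  exact h3

theorem unip_pow_eq_one {ι : Type*} [Fintype ι] [DecidableEq ι] [Nonempty ι] (p : ℕ) [Fact p.Prime]
    [CharP F p] {u : Matrix ι ι F} {m s : ℕ} (hu : (u - 1) ^ m = 0) (hs : m ≤ p ^ s) :
    u ^ p ^ s = 1 := by
  have h1 : (u - 1) ^ p ^ s = 0 := by
    obtain ⟨k, hk⟩ := Nat.exists_eq_add_of_le hs
    rw [hk, pow_add, hu, zero_mul]
  rw [sub_pow_char_pow_of_commute _ _ (Commute.one_right u), one_pow, sub_eq_zero] at h1
  exact h1

theorem nilp_of_pow_eq_one {ι : Type*} [Fintype ι] [DecidableEq ι] [Nonempty ι] (p : ℕ)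
    [Fact p.Prime] [CharP F p] {u : Matrix ι ι F} {e : ℕ} (hu : u ^ p ^ e = 1) :
    IsNilpotent (u - 1) := by
  refine ⟨p ^ e, ?_⟩
  rw [sub_pow_char_pow_of_commute _ _ (Commute.one_right u), one_pow, hu, sub_self]

theorem exists_min_pow (p : ℕ) (hp : 2 ≤ p) (K : ℕ) :
    ∃ s, K ≤ p ^ s ∧ ∀ s', K ≤ p ^ s' → s ≤ s' := by
  classical
  have hex : ∃ s, K ≤ p ^ s := ⟨K, (Nat.lt_pow_self hp).le⟩
  exact ⟨Nat.find hex, Nat.find_spec hex, fun s' h => Nat.find_min' hex h⟩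

end lifts

end Cfsg.Agent.H4PSpSpec
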