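import Mathlib
import Cfsg.Agent.Lib.Helper4.PSpSpecL

namespace Cfsg.Agent.H4PSpSpec

open Polynomial Matrix Module

universe u

section classify

variable {F : Type u} [Field F] [Fintype F] {n : ℕ}

local notation "Spn" => Matrix.symplecticGroup (Fin n) F
local notation "PSpn" => Cfsg.PSp n F

instance instFinitePSp : Finite (Cfsg.PSp n F) := by
  unfold Cfsg.PSp
  infer_instance

theorem exists_of_dvd_orderOf {G : Type*} [Group G] [Finite G] (g : G) {D : ℕ}
    (h : D ∣ orderOf g) : ∃ g' : G, orderOf g' = D :=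
  ⟨_, orderOf_pow_orderOf_div (orderOf_pos g).ne' h⟩

/-- a `Good` witness yields an element of twice the order -/
theorem typeR_of_good (hn : 1 ≤ n) (x g : Spn) (hgx : Commute g.1 x.1) (hgood : Good x.1)
    (hodd : Odd (orderOf (QuotientGroup.mk g : PSpn))) :
    ∃ h : PSpn, orderOf h = 2 * orderOf (QuotientGroup.mk g : PSpn) := by
  obtain ⟨t, ht, htt, ht1, htn1, hcomm⟩ := hgood
  let T : Spn := ⟨t, mem_symplectic_iff.2 ht⟩
  have hTg : Commute g T := by
    have := hcomm g.1 hgx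
    show g * T = T * g
    apply Subtype.ext
    exact this.eq
  have hz2 : (QuotientGroup.mk T : PSpn) ^ 2 = 1 := by
    rw [← QuotientGroup.mk_pow, QuotientGroup.eq_one_iff]
    have hT2 : ((T ^ 2 : Spn) : Matrix (Fin n ⊕ Fin n) (Fin n ⊕ Fin n) F) = t * t := by
      rw [SubmonoidClass.coe_pow, pow_two]
    rcases htt with h | h
    · have : T ^ 2 = 1 := Subtype.ext (by rw [hT2, h]; rfl)
      rw [this]; exact one_mem _
    · have : T ^ 2 = ⟨-1, SymplecticGroup.neg_mem (one_mem _)⟩ := Subtype.ext (by rw [hT2, h])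
      rw [this]; exact neg_one_mem_center
  have hz1 : (QuotientGroup.mk T : PSpn) ≠ 1 := by
    intro h
    rw [QuotientGroup.eq_one_iff] at h
    rcases Cfsg.Agent.S0246.center_scalar n hn T h with h | h
    · exact ht1 h
    · exact htn1 h
  have hz : orderOf (QuotientGroup.mk T : PSpn) = 2 := orderOf_eq_prime hz2 hz1
  have hc : Commute (QuotientGroup.mk g : PSpn) (QuotientGroup.mk T) := by
    show (QuotientGroup.mk g : PSpn) * QuotientGroup.mk T = QuotientGroup.mk T * QuotientGroup.mk g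
    rw [← QuotientGroup.mk_mul, ← QuotientGroup.mk_mul, hTg.eq]
  refine ⟨QuotientGroup.mk g * QuotientGroup.mk T, ?_⟩
  rw [hc.orderOf_mul_eq_mul_orderOf_of_coprime (by rw [hz]; exact (Nat.coprime_two_right.2 hodd)),
    hz, mul_comm]

/-- the torus order attached to `(q, n)` -/
def Qn (q n : ℕ) : ℕ := if 4 ∣ q ^ n - 1 then q ^ n + 1 else q ^ n - 1

theorem dvd_Qn {q n N : ℕ} (hq : Odd q)
    (h : (N ∣ q ^ n - 1 ∧ ¬ 4 ∣ q ^ n - 1) ∨ (N ∣ q ^ n + 1 ∧ ¬ 4 ∣ q ^ n + 1)) : N ∣ Qn q n := by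
  unfold Qn
  have hodd : Odd (q ^ n) := hq.pow
  rcases h with ⟨h1, h2⟩ | ⟨h1, h2⟩
  · rw [if_neg h2]; exact h1
  · have : 4 ∣ q ^ n - 1 := by
      obtain ⟨k, hk⟩ := hodd
      rw [hk] at h2 ⊢
      omega
    rw [if_pos this]; exact h1

theorem hasOrd_Qn (p : ℕ) [Fact p.Prime] [CharP F p] (h2 : (2 : F) ≠ 0) (hn : 0 < n) :
    HasOrd F n (Qn (Fintype.card F) n) := by
  unfold Qn
  split_ifs
  · exact exists_torus_minus p h2 n hn
  · exact exists_torus_plus p n hn

theorem Qn_pos {q n : ℕ} (hq : 2 ≤ q) (hn : 0 < n) : 0 < Qn q n := by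
  unfold Qn
  have : 1 < q ^ n := Nat.one_lt_pow (by omega) (by omega)
  split_ifs <;> omega

/-- the classification of odd-order elements -/
theorem elem_class (p : ℕ) [Fact p.Prime] [CharP F p] (h2 : (2 : F) ≠ 0)
    (hqodd : Odd (Fintype.card F)) (hn : 2 ≤ n) (g : PSpn) (hodd : Odd (orderOf g)) :
    (∃ h : PSpn, orderOf h = 2 * orderOf g) ∨ (∃ e, orderOf g = p ^ e) ∨
      orderOf g ∣ Qn (Fintype.card F) n := by
  classical
  have hp : p.Prime := Fact.out
  haveI : Nonempty (Fin n) := ⟨⟨0, by omega⟩⟩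
  set N := orderOf g with hN
  have hNpos : 0 < N := orderOf_pos g
  obtain ⟨ĝ, hĝ, hĝN⟩ := exists_lift_odd (by omega) g hodd (pow_orderOf_eq_one g)
  obtain ⟨e, a, hpa, hNe⟩ := Nat.exists_eq_pow_mul_and_not_dvd hNpos.ne' p hp.ne_one
  have ha0 : 0 < a := by
    rcases Nat.eq_zero_or_pos a with h | h
    · rw [h, mul_zero] at hNe; omega
    · exact h
  have haodd : Odd a := by
    rw [hNe] at hodd
    exact (Nat.odd_mul.1 hodd).2
  have haF : (a : F) ≠ 0 := by
    rw [Ne, CharP.cast_eq_zero_iff F p]; exact hpa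
  have hpodd : Odd p := by
    rcases hp.eq_two_or_odd' with h | h
    · exfalso
      apply h2
      have := CharP.cast_eq_zero F p
      rw [h] at this
      exact_mod_cast this
    · exact h
  set x : Matrix (Fin n ⊕ Fin n) (Fin n ⊕ Fin n) F := ĝ.1 ^ p ^ e with hx
  set u : Matrix (Fin n ⊕ Fin n) (Fin n ⊕ Fin n) F := ĝ.1 ^ a with hu
  have hxa : x ^ a = 1 := by rw [hx, ← pow_mul, ← hNe]; exact hĝN
  have hup : u ^ p ^ e = 1 := by rw [hu, ← pow_mul, mul_comm, ← hNe]; exact hĝN
  have hxmem : x ∈ Matrix.symplecticGroup (Fin n) F := pow_mem ĝ.2 _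
  have hxadj : x * adj x = 1 := mem_symplectic_iff.1 hxmem
  have hux : Commute u x := (Commute.refl ĝ.1).pow_pow _ _
  have hun : IsNilpotent (u - 1) := nilp_of_pow_eq_one p hup
  have hgx : Commute ĝ.1 x := (Commute.refl ĝ.1).pow_right _
  -- consequences of power relations
  have hdvd_of : ∀ K : ℕ, ĝ.1 ^ K = 1 → N ∣ K := by
    intro K hK
    rw [hN, ← hĝ]
    exact orderOf_dvd_of_pow_eq_one (pow_lift hK)
  rcases struct h2 x u hxadj ha0 hxa haodd haF hux hun with hgood | hx1 | ⟨d, m, hd, hdm, hxq, hum⟩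
  · left
    have := typeR_of_good (by omega) ⟨x, hxmem⟩ ĝ hgx hgood (by rw [hĝ]; exact hodd)
    rw [hĝ] at this
    exact this
  · right; left
    have h1 : N ∣ p ^ e := hdvd_of _ hx1
    obtain ⟨e', -, he'⟩ := (Nat.dvd_prime_pow hp).1 h1
    exact ⟨e', he'⟩
  · rw [Fintype.card_fin] at hdm
    rcases Nat.lt_or_ge m 2 with hm | hm
    · -- m = 1
      have hm1 : m = 1 := by
        rcases Nat.eq_zero_or_pos m with h | h
        · rw [h, mul_zero] at hdm; omega
        · omega
      subst hm1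
      rw [mul_one] at hdm
      subst hdm
      right; right
      rw [pow_one, sub_eq_zero] at hum
      have h1 : N ∣ a := hdvd_of _ hum
      have hcop : Nat.Coprime N (p ^ e) := by
        apply Nat.Coprime.pow_right
        apply Nat.Coprime.coprime_dvd_left h1
        exact (Nat.Coprime.symm ((Nat.Prime.coprime_iff_not_dvd hp).2 hpa))
      apply dvd_Qn hqodd
      rcases hxq with ⟨hxq, h4⟩ | ⟨hxq, h4⟩
      · left
        refine ⟨?_, h4⟩
        rw [hx, ← pow_mul] at hxq
        exact hcop.dvd_of_dvd_mul_left (hdvd_of _ hxq)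
      · right
        refine ⟨?_, h4⟩
        rw [hx, ← pow_mul] at hxq
        exact hcop.dvd_of_dvd_mul_left (hdvd_of _ hxq)
    · -- m ≥ 2 : replace
      left
      obtain ⟨m', rfl⟩ : ∃ m', m = m' + 2 := ⟨m - 2, by omega⟩
      set k₁ := d * (m' + 1) with hk₁
      have hk₁pos : 1 ≤ k₁ := Nat.mul_pos hd (by omega)
      have hksum : k₁ + d = n := by rw [hk₁, ← hdm]; ring
      obtain ⟨s, hs1, hs2⟩ := exists_min_pow p hp.two_le (2 * k₁)
      have hU : HasOrd F k₁ (p ^ s) := exists_unip p h2 k₁ hk₁pos s hs1 hs2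
      have hms : m' + 2 ≤ p ^ s := by
        have : m' + 2 ≤ 2 * k₁ := by
          have : m' + 1 ≤ k₁ := by rw [hk₁]; exact Nat.le_mul_of_pos_left _ hd
          omega
        omega
      have hups : u ^ p ^ s = 1 := unip_pow_eq_one p hum hms
      -- the semisimple part
      obtain ⟨Q, hQ0, hQ, hxQ⟩ : ∃ Q : ℕ, 0 < Q ∧ HasOrd F d Q ∧ x ^ Q = 1 := by
        have hq1 : 1 < Fintype.card F ^ d := Nat.one_lt_pow (by omega) Fintype.one_lt_card
        rcases hxq with ⟨hxq, -⟩ | ⟨hxq, -⟩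
        · exact ⟨_, by omega, exists_torus_plus p d hd, hxq⟩
        · exact ⟨_, by omega, exists_torus_minus p h2 d hd, hxq⟩
      set a' := Nat.gcd a Q with ha'
      have hxa' : x ^ a' = 1 := pow_gcd_eq_one.2 ⟨hxa, hxQ⟩
      have ha'a : a' ∣ a := Nat.gcd_dvd_left _ _
      have ha'odd : Odd a' := by
        obtain ⟨c, hc⟩ := ha'a
        rw [hc] at haodd
        exact (Nat.odd_mul.1 haodd).1
      have hT : HasOrd F d a' := hQ.of_dvd hQ0 (Nat.gcd_dvd_right _ _)
      obtain ⟨h, hh⟩ := exists_combo (n := n) h2 hk₁pos hd hksum (hpodd.pow) ha'odd hU hT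
      have hlcm : Nat.lcm (p ^ s) (2 * a') ∣ orderOf h := hh _ (pow_orderOf_eq_one h)
      -- N ∣ p^s * a'
      have hN1 : N ∣ p ^ e * a' := hdvd_of _ (by rw [pow_mul]; exact hxa')
      have hN2 : N ∣ a * p ^ s := hdvd_of _ (by rw [pow_mul]; exact hups)
      have haa' : a ∣ a' := by
        rw [hNe] at hN1
        exact Nat.dvd_of_mul_dvd_mul_left (pow_pos hp.pos e) hN1
      have hpes : p ^ e ∣ p ^ s := by
        rw [hNe, mul_comm a] at hN2
        exact Nat.dvd_of_mul_dvd_mul_right ha0 hN2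
      have h2N : 2 * N ∣ orderOf h := by
        refine dvd_trans ?_ hlcm
        rw [hNe]
        have hcop : Nat.Coprime (p ^ e) (2 * a) := by
          apply Nat.Coprime.pow_left
          apply Nat.Coprime.mul_right
          · exact (Nat.coprime_two_right.2 hpodd)
          · exact (Nat.Prime.coprime_iff_not_dvd hp).2 hpa
        have : 2 * (p ^ e * a) = p ^ e * (2 * a) := by ring
        rw [this]
        apply hcop.mul_dvd_of_dvd_of_dvd
        · exact hpes.trans (Nat.dvd_lcm_left _ _)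
        · exact (Nat.mul_dvd_mul_left 2 haa').trans (Nat.dvd_lcm_right _ _)
      exact exists_of_dvd_orderOf h h2N

end classify

end Cfsg.Agent.H4PSpSpec
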