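import Mathlib
import Cfsg.Agent.Lib.Helper4.PSpSpecM

namespace Cfsg.Agent.H4PSpSpec

open Polynomial Matrix Module

universe u

section assemble

variable {F : Type u} [Field F] [Fintype F] {n : ℕ}

local notation "Spn" => Matrix.symplecticGroup (Fin n) F
local notation "PSpn" => Cfsg.PSp n F

theorem exists_involution (h2 : (2 : F) ≠ 0) (hn : 2 ≤ n) : ∃ z : PSpn, orderOf z = 2 := by
  obtain ⟨k, rfl⟩ : ∃ k, n = k + 1 := ⟨n - 1, by omega⟩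
  obtain ⟨h, hh⟩ := exists_combo (n := k + 1) (F := F) h2 (by omega : 1 ≤ k) (le_refl 1) rfl
    odd_one odd_one (hasOrd_one k) (hasOrd_one 1)
  have h1 := hh _ (pow_orderOf_eq_one h)
  rw [Nat.lcm_one_left, mul_one] at h1
  exact exists_of_dvd_orderOf h h1

theorem unip_replace (p : ℕ) [Fact p.Prime] [CharP F p] (h2 : (2 : F) ≠ 0) (hn : 2 ≤ n)
    (hnp : ¬ ∃ j : ℕ, 2 * n - 1 = p ^ j) (g : PSpn) {e : ℕ} (hg : orderOf g = p ^ e) :
    ∃ h : PSpn, orderOf h = 2 * orderOf g := by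
  classical
  have hp : p.Prime := Fact.out
  haveI : Nonempty (Fin n) := ⟨⟨0, by omega⟩⟩
  have hpodd : Odd p := by
    rcases hp.eq_two_or_odd' with h | h
    · exfalso
      apply h2
      have := CharP.cast_eq_zero F p
      rw [h] at this
      exact_mod_cast this
    · exact h
  obtain ⟨ĝ, hĝ, hĝN⟩ := exists_lift_odd (by omega) g (hpodd.pow (n := e))
    (by rw [← hg]; exact pow_orderOf_eq_one g)
  obtain ⟨k, rfl⟩ : ∃ k, n = k + 1 := ⟨n - 1, by omega⟩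
  obtain ⟨s, hs1, hs2⟩ := exists_min_pow p hp.two_le (2 * k)
  have hU : HasOrd F k (p ^ s) := exists_unip p h2 k (by omega) s hs1 hs2
  have hs3 : 2 * (k + 1) ≤ p ^ s := by
    have hodd : Odd (p ^ s) := hpodd.pow
    have hne : 2 * (k + 1) - 1 ≠ p ^ s := fun h => hnp ⟨s, h⟩
    obtain ⟨c, hc⟩ := hodd
    omega
  have hnil : IsNilpotent (ĝ.1 - 1) := nilp_of_pow_eq_one p hĝN
  have hnil2 := pow_card_eq_zero_of_isNilpotent' hnil
  rw [Fintype.card_sum, Fintype.card_fin] at hnil2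
  have hps : ĝ.1 ^ p ^ s = 1 := unip_pow_eq_one p hnil2 (by omega)
  have hdvd : orderOf g ∣ p ^ s := by
    rw [← hĝ]
    exact orderOf_dvd_of_pow_eq_one (pow_lift hps)
  obtain ⟨h, hh⟩ := exists_combo (n := k + 1) (F := F) h2 (by omega : 1 ≤ k) (le_refl 1) rfl
    (hpodd.pow (n := s)) odd_one hU (hasOrd_one 1)
  have h1 := hh _ (pow_orderOf_eq_one h)
  rw [mul_one] at h1
  have h3 : 2 * orderOf g ∣ orderOf h := by
    refine dvd_trans ?_ h1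
    have hcop : Nat.Coprime 2 (orderOf g) := by
      rw [hg]; exact Nat.coprime_two_left.2 hpodd.pow
    exact hcop.mul_dvd_of_dvd_of_dvd (Nat.dvd_lcm_right _ _) (hdvd.trans (Nat.dvd_lcm_left _ _))
  exact exists_of_dvd_orderOf h h3

theorem exists_torus_elem (p : ℕ) [Fact p.Prime] [CharP F p] (h2 : (2 : F) ≠ 0) (hn : 2 ≤ n)
    {D : ℕ} (hD : Odd D) (hDQ : D ∣ Qn (Fintype.card F) n) : ∃ c : PSpn, orderOf c = D := by
  obtain ⟨c, hc⟩ := exists_of_hasOrd (by omega) (hasOrd_Qn (F := F) (n := n) p h2 (by omega))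
  have h1 := hc _ (pow_orderOf_eq_one c)
  have h3 : D ∣ orderOf c :=
    (Nat.Coprime.dvd_of_dvd_mul_left (Nat.Coprime.symm (Nat.coprime_two_left.2 hD))
      (hDQ.trans h1))
  exact exists_of_dvd_orderOf c h3

theorem lcm_two_of_odd {a : ℕ} (ha : Odd a) : 2 * a = Nat.lcm a 2 := by
  rw [Nat.Coprime.lcm_eq_mul (Nat.coprime_two_right.2 ha), mul_comm]

theorem lcm_pow_pow' (p a b : ℕ) : Nat.lcm (p ^ a) (p ^ b) = p ^ max a b := by
  rcases le_total a b with h | h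
  · rw [max_eq_right h]; exact Nat.lcm_eq_right (pow_dvd_pow p h)
  · rw [max_eq_left h]; exact Nat.lcm_eq_left (pow_dvd_pow p h)

/-- decomposition of non-`R` elements into a unipotent and a torus part -/
theorem elem_decomp' (p : ℕ) [Fact p.Prime] [CharP F p] (h2 : (2 : F) ≠ 0)
    (hqodd : Odd (Fintype.card F)) (hn : 2 ≤ n) (g : PSpn) (hodd : Odd (orderOf g)) :
    (∃ h : PSpn, orderOf h = 2 * orderOf g) ∨
      ∃ (u : PSpn) (t D : ℕ), orderOf u = p ^ t ∧ D ∣ Qn (Fintype.card F) n ∧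
        orderOf g = Nat.lcm (orderOf u) D := by
  rcases elem_class p h2 hqodd hn g hodd with h | ⟨e, he⟩ | h
  · exact Or.inl h
  · exact Or.inr ⟨g, e, 1, he, one_dvd _, (Nat.lcm_one_right _).symm⟩
  · exact Or.inr ⟨1, 0, orderOf g, by rw [orderOf_one, pow_zero], h, by
      rw [orderOf_one, Nat.lcm_one_left]⟩

theorem core3' (p : ℕ) [Fact p.Prime] [CharP F p] (h2 : (2 : F) ≠ 0)
    (hqodd : Odd (Fintype.card F)) (hn : 2 ≤ n) (g₁ g₂ g₃ : PSpn) :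
    ∃ h₁ h₂ h₃ : PSpn, Nat.lcm (orderOf h₁) (Nat.lcm (orderOf h₂) (orderOf h₃)) =
      Nat.lcm (Nat.lcm (orderOf g₁) (Nat.lcm (orderOf g₂) (orderOf g₃))) 2 := by
  by_cases hdvd : 2 ∣ Nat.lcm (orderOf g₁) (Nat.lcm (orderOf g₂) (orderOf g₃))
  · exact ⟨g₁, g₂, g₃, (Nat.lcm_eq_left hdvd).symm⟩
  have hr1 : Odd (orderOf g₁) := by
    rw [← Nat.not_even_iff_odd, even_iff_two_dvd]
    exact fun h => hdvd (h.trans (Nat.dvd_lcm_left _ _))
  have hr2 : Odd (orderOf g₂) := by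
    rw [← Nat.not_even_iff_odd, even_iff_two_dvd]
    exact fun h => hdvd (h.trans ((Nat.dvd_lcm_left _ _).trans (Nat.dvd_lcm_right _ _)))
  have hr3 : Odd (orderOf g₃) := by
    rw [← Nat.not_even_iff_odd, even_iff_two_dvd]
    exact fun h => hdvd (h.trans ((Nat.dvd_lcm_right _ _).trans (Nat.dvd_lcm_right _ _)))
  rcases elem_decomp' p h2 hqodd hn g₁ hr1 with ⟨h, hh⟩ | ⟨u₁, t₁, D₁, hu₁, hD₁, ho₁⟩
  · refine ⟨h, g₂, g₃, ?_⟩
    rw [hh, lcm_two_of_odd hr1]; ac_rfl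
  rcases elem_decomp' p h2 hqodd hn g₂ hr2 with ⟨h, hh⟩ | ⟨u₂, t₂, D₂, hu₂, hD₂, ho₂⟩
  · refine ⟨g₁, h, g₃, ?_⟩
    rw [hh, lcm_two_of_odd hr2]; ac_rfl
  rcases elem_decomp' p h2 hqodd hn g₃ hr3 with ⟨h, hh⟩ | ⟨u₃, t₃, D₃, hu₃, hD₃, ho₃⟩
  · refine ⟨g₁, g₂, h, ?_⟩
    rw [hh, lcm_two_of_odd hr3]; ac_rfl
  have hDodd : ∀ {g : PSpn} {U D : ℕ}, Odd (orderOf g) → orderOf g = Nat.lcm U D → Odd D := by
    intro g U D hg h
    rw [h] at hg
    obtain ⟨c, hc⟩ := Nat.dvd_lcm_right U D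
    rw [hc] at hg
    exact (Nat.odd_mul.1 hg).1
  have hD₁o := hDodd hr1 ho₁
  have hD₂o := hDodd hr2 ho₂
  have hD₃o := hDodd hr3 ho₃
  have hDdvd : Nat.lcm D₁ (Nat.lcm D₂ D₃) ∣ Qn (Fintype.card F) n :=
    Nat.lcm_dvd hD₁ (Nat.lcm_dvd hD₂ hD₃)
  have hDodd' : Odd (Nat.lcm D₁ (Nat.lcm D₂ D₃)) := by
    rw [← Nat.not_even_iff_odd, even_iff_two_dvd]
    intro h
    rcases (Nat.Prime.dvd_lcm Nat.prime_two).1 h with h | h
    · exact (Nat.not_even_iff_odd.2 hD₁o) (even_iff_two_dvd.2 h)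
    · rcases (Nat.Prime.dvd_lcm Nat.prime_two).1 h with h | h
      · exact (Nat.not_even_iff_odd.2 hD₂o) (even_iff_two_dvd.2 h)
      · exact (Nat.not_even_iff_odd.2 hD₃o) (even_iff_two_dvd.2 h)
  obtain ⟨c, hc⟩ := exists_torus_elem (F := F) (n := n) p h2 hn hDodd' hDdvd
  obtain ⟨z, hz⟩ := exists_involution (F := F) (n := n) h2 hn
  have hu : ∃ u : PSpn, orderOf u =
      Nat.lcm (orderOf u₁) (Nat.lcm (orderOf u₂) (orderOf u₃)) := by
    rw [hu₁, hu₂, hu₃, lcm_pow_pow', lcm_pow_pow']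
    rcases max_choice t₁ (max t₂ t₃) with h | h
    · exact ⟨u₁, by rw [h, hu₁]⟩
    · rcases max_choice t₂ t₃ with h' | h'
      · exact ⟨u₂, by rw [h, h', hu₂]⟩
      · exact ⟨u₃, by rw [h, h', hu₃]⟩
  obtain ⟨u, hu⟩ := hu
  refine ⟨u, c, z, ?_⟩
  rw [hu, hc, hz, ho₁, ho₂, ho₃]
  ac_rfl

theorem core2' (p : ℕ) [Fact p.Prime] [CharP F p] (h2 : (2 : F) ≠ 0)
    (hqodd : Odd (Fintype.card F)) (hn : 2 ≤ n) (hnp : ¬ ∃ j : ℕ, 2 * n - 1 = p ^ j)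
    (g₁ g₂ : PSpn) :
    ∃ h₁ h₂ : PSpn, Nat.lcm (orderOf h₁) (orderOf h₂) =
      Nat.lcm (Nat.lcm (orderOf g₁) (orderOf g₂)) 2 := by
  by_cases hdvd : 2 ∣ Nat.lcm (orderOf g₁) (orderOf g₂)
  · exact ⟨g₁, g₂, (Nat.lcm_eq_left hdvd).symm⟩
  have hr1 : Odd (orderOf g₁) := by
    rw [← Nat.not_even_iff_odd, even_iff_two_dvd]
    exact fun h => hdvd (h.trans (Nat.dvd_lcm_left _ _))
  have hr2 : Odd (orderOf g₂) := by
    rw [← Nat.not_even_iff_odd, even_iff_two_dvd]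
    exact fun h => hdvd (h.trans (Nat.dvd_lcm_right _ _))
  have hcls : ∀ g : PSpn, Odd (orderOf g) →
      (∃ h : PSpn, orderOf h = 2 * orderOf g) ∨ orderOf g ∣ Qn (Fintype.card F) n := by
    intro g hg
    rcases elem_class p h2 hqodd hn g hg with h | ⟨e, he⟩ | h
    · exact Or.inl h
    · exact Or.inl (unip_replace p h2 hn hnp g he)
    · exact Or.inr h
  rcases hcls g₁ hr1 with ⟨h, hh⟩ | hD₁
  · refine ⟨h, g₂, ?_⟩
    rw [hh, lcm_two_of_odd hr1]; ac_rfl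
  rcases hcls g₂ hr2 with ⟨h, hh⟩ | hD₂
  · refine ⟨g₁, h, ?_⟩
    rw [hh, lcm_two_of_odd hr2]; ac_rfl
  have hDodd' : Odd (Nat.lcm (orderOf g₁) (orderOf g₂)) := by
    rw [← Nat.not_even_iff_odd, even_iff_two_dvd]
    exact hdvd
  obtain ⟨c, hc⟩ := exists_torus_elem (F := F) (n := n) p h2 hn hDodd' (Nat.lcm_dvd hD₁ hD₂)
  obtain ⟨z, hz⟩ := exists_involution (F := F) (n := n) h2 hn
  exact ⟨c, z, by rw [hc, hz]⟩

end assemble

end Cfsg.Agent.H4PSpSpec
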