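import Mathlib
import Cfsg.Agent.Lib.Helper4.Supersolvable2
import Cfsg.Agent.Lib.Helper1.Hall

set_option autoImplicit false

namespace Cfsg.Agent.Lib.Helper4
open Cfsg
universe u

theorem hasSubgroupOfEveryOrder_of_isSupersolvable_aux : ∀ (n : ℕ) (G : Type u) [Group G] [Finite G],
    Nat.card G = n → IsSupersolvable G → ∀ d : ℕ, d ∣ Nat.card G → ∃ H : Subgroup G, Nat.card H = d := by
  intro n
  induction n using Nat.strong_induction_on with
  | _ n ih =>
  intro G _ _ hn hG d hd
  rcases subsingleton_or_nontrivial G with hs | hnt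
  · refine ⟨⊥, ?_⟩
    rw [Nat.card_unique, Nat.dvd_one] at hd
    rw [Subgroup.card_bot, hd]
  obtain ⟨N, hN, hNp⟩ := exists_normal_prime_card_of_isSupersolvable hG
  have hcard : Nat.card G = Nat.card (G ⧸ N) * Nat.card N :=
    Subgroup.card_eq_card_quotient_mul_card_subgroup N
  have hlt : Nat.card (G ⧸ N) < n := by
    rw [← hn, hcard]
    have : 0 < Nat.card (G ⧸ N) := Nat.card_pos
    have := hNp.one_lt
    nlinarith
  have hQ := isSupersolvable_quotient hG N
  by_cases hpd : Nat.card N ∣ d
  · obtain ⟨d', rfl⟩ := hpd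
    have hd' : d' ∣ Nat.card (G ⧸ N) := by
      rw [hcard, mul_comm (Nat.card (G ⧸ N))] at hd
      exact Nat.dvd_of_mul_dvd_mul_left hNp.pos hd
    obtain ⟨H', hH'⟩ := ih _ hlt (G ⧸ N) rfl hQ d' hd'
    refine ⟨H'.comap (QuotientGroup.mk' N), ?_⟩
    rw [Cfsg.Agent.Lib.Helper1.card_comap_mk', hH', mul_comm]
  · have hcop : Nat.Coprime d (Nat.card N) := ((Nat.Prime.coprime_iff_not_dvd hNp).mpr hpd).symm
    have hd' : d ∣ Nat.card (G ⧸ N) := by
      rw [hcard] at hd
      exact hcop.dvd_of_dvd_mul_right hd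
    obtain ⟨H', hH'⟩ := ih _ hlt (G ⧸ N) rfl hQ d hd'
    have hK : Nat.card (H'.comap (QuotientGroup.mk' N)) = d * Nat.card N := by
      rw [Cfsg.Agent.Lib.Helper1.card_comap_mk', hH']
    by_cases hKtop : H'.comap (QuotientGroup.mk' N) = ⊤
    · rw [hKtop, Subgroup.card_top] at hK
      have hidx : N.index = d := by
        have := N.card_mul_index
        rw [hK, mul_comm] at this
        exact Nat.eq_of_mul_eq_mul_right hNp.pos this
      obtain ⟨H, hH⟩ := Subgroup.exists_right_complement'_of_coprime (N := N)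
        (by rw [hidx]; exact hcop.symm)
      refine ⟨H, ?_⟩
      have := hH.card_mul_card
      rw [hK, mul_comm] at this
      exact Nat.eq_of_mul_eq_mul_right hNp.pos this
    · set K := H'.comap (QuotientGroup.mk' N) with hKdef
      have hKlt : Nat.card K < n := by
        rw [← hn]
        exact Cfsg.Agent.Lib.Helper1.card_lt_of_ne_top hKtop
      obtain ⟨H'', hH''⟩ := ih _ hKlt K rfl (isSupersolvable_subgroup hG K) d
        (by rw [hK]; exact dvd_mul_right _ _)
      refine ⟨H''.map K.subtype, ?_⟩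
      rw [Subgroup.card_map_of_injective K.subtype_injective, hH'']

theorem hasSubgroupOfEveryOrder_of_isSupersolvable {G : Type u} [Group G] [Finite G]
    (hG : IsSupersolvable G) : HasSubgroupOfEveryOrder G :=
  hasSubgroupOfEveryOrder_of_isSupersolvable_aux _ G rfl hG

end Cfsg.Agent.Lib.Helper4
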