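import Mathlib
import Cfsg.Agent.Lib.Helper4.SupersolvableCLT
import Cfsg.Agent.Lib.Helper4.SupersolvableOrder
import Cfsg.Agent.Lib.Helper1.Hall

set_option autoImplicit false

namespace Cfsg.Agent.Lib.Helper4
open Cfsg
universe u v

theorem isSupersolvable_of_commGroup_aux : ∀ (n : ℕ) (A : Type u) [CommGroup A] [Finite A],
    Nat.card A = n → IsSupersolvable A := by
  intro n
  induction n using Nat.strong_induction_on with
  | _ n ih =>
  intro A _ _ hn
  rcases subsingleton_or_nontrivial A with hs | hnt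
  · exact isSupersolvable_of_subsingleton
  obtain ⟨g, hg⟩ := exists_ne (1 : A)
  have hne : Subgroup.zpowers g ≠ ⊥ := by rwa [Ne, Subgroup.zpowers_eq_bot]
  have hlt : Nat.card (A ⧸ Subgroup.zpowers g) < n := by
    rw [← hn]; exact card_quotient_lt_of_ne_bot' _ hne
  have := ih _ hlt (A ⧸ Subgroup.zpowers g) rfl
  exact isSupersolvable_of_cyclic_normal (Subgroup.zpowers g) this

theorem isSupersolvable_of_commGroup (A : Type u) [CommGroup A] [Finite A] : IsSupersolvable A :=
  isSupersolvable_of_commGroup_aux _ A rfl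

theorem hall_decomp (g a : ℕ) (hg : g ≠ 0) (ha : a ≠ 0) (hA : ∀ p : ℕ, p.Prime → p ∣ a → p ∣ g)
    (hexp : ∀ p : ℕ, p.Prime → p ∣ g → a.factorization p + 1 = g.factorization p) :
    ∀ d : ℕ, d ∣ g * a → ∃ m b : ℕ, d = m * b ∧ m ∣ g ∧ Nat.Coprime m (g / m) ∧ b ∣ a := by
  intro d
  induction d using Nat.recOnPosPrimePosCoprime with
  | zero =>
    intro h
    rw [zero_dvd_iff] at h
    exact absurd h (Nat.mul_ne_zero hg ha)
  | one =>
    intro _
    exact ⟨1, 1, rfl, one_dvd _, Nat.coprime_one_left _, one_dvd _⟩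
  | prime_pow p k hp hk =>
    intro hd
    have hk' : k ≤ (g * a).factorization p :=
      (hp.pow_dvd_iff_le_factorization (Nat.mul_ne_zero hg ha)).mp hd
    rw [Nat.factorization_mul hg ha, Finsupp.add_apply] at hk'
    by_cases hke : k ≤ a.factorization p
    · refine ⟨1, p ^ k, (one_mul _).symm, one_dvd _, Nat.coprime_one_left _, ?_⟩
      exact (hp.pow_dvd_iff_le_factorization ha).mpr hke
    · push Not at hke
      have hpg : p ∣ g := by
        by_contra hpg
        have h1 : g.factorization p = 0 := Nat.factorization_eq_zero_of_not_dvd hpg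
        have h2 : a.factorization p = 0 :=
          Nat.factorization_eq_zero_of_not_dvd (fun h => hpg (hA p hp h))
        omega
      have hf := hexp p hp hpg
      refine ⟨p ^ g.factorization p, p ^ (k - g.factorization p), ?_, Nat.ordProj_dvd g p, ?_, ?_⟩
      · rw [← pow_add]; congr 1; omega
      · exact (Nat.coprime_ordCompl hp hg).pow_left _
      · exact (hp.pow_dvd_iff_le_factorization ha).mpr (by omega)
  | coprime d1 d2 _ _ hcop ih1 ih2 =>
    intro hd
    obtain ⟨m1, b1, rfl, hm1, hc1, hb1⟩ := ih1 ((Dvd.intro _ rfl).trans hd)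
    obtain ⟨m2, b2, rfl, hm2, hc2, hb2⟩ := ih2 ((Dvd.intro_left _ rfl).trans hd)
    have hcm : Nat.Coprime m1 m2 :=
      Nat.Coprime.coprime_dvd_left (Dvd.intro _ rfl) (Nat.Coprime.coprime_dvd_right (Dvd.intro _ rfl) hcop)
    have hcb : Nat.Coprime b1 b2 :=
      Nat.Coprime.coprime_dvd_left (Dvd.intro_left _ rfl) (Nat.Coprime.coprime_dvd_right (Dvd.intro_left _ rfl) hcop)
    have hmg : m1 * m2 ∣ g := hcm.mul_dvd_of_dvd_of_dvd hm1 hm2
    refine ⟨m1 * m2, b1 * b2, by ring, hmg, ?_, hcb.mul_dvd_of_dvd_of_dvd hb1 hb2⟩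
    obtain ⟨t, ht⟩ := hmg
    have hm1pos : 0 < m1 := Nat.pos_of_ne_zero (fun h => by rw [h, zero_dvd_iff] at hm1; exact hg hm1)
    have hm2pos : 0 < m2 := Nat.pos_of_ne_zero (fun h => by rw [h, zero_dvd_iff] at hm2; exact hg hm2)
    have e0 : g / (m1 * m2) = t := by
      rw [ht]; exact Nat.mul_div_cancel_left t (Nat.mul_pos hm1pos hm2pos)
    have e1 : g / m1 = m2 * t := by
      rw [ht, mul_assoc]; exact Nat.mul_div_cancel_left _ hm1pos
    have e2 : g / m2 = m1 * t := by
      rw [ht, mul_comm m1 m2, mul_assoc]; exact Nat.mul_div_cancel_left _ hm2pos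
    rw [e0]
    rw [e1] at hc1
    rw [e2] at hc2
    exact Nat.Coprime.mul_left (hc1.coprime_dvd_right (Dvd.intro_left _ rfl))
      (hc2.coprime_dvd_right (Dvd.intro_left _ rfl))

end Cfsg.Agent.Lib.Helper4

namespace Cfsg.Agent.Lib.Helper4
open Cfsg
universe u v

theorem hasSubgroupOfEveryOrder_prod_of_solvable {G : Type u} {A : Type v} [Group G] [CommGroup A]
    [Finite G] [Finite A] [Group.IsSolvable G]
    (hA : ∀ p : ℕ, p.Prime → p ∣ Nat.card A → p ∣ Nat.card G)
    (hexp : ∀ p : ℕ, p.Prime → p ∣ Nat.card G →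
      (Nat.card A).factorization p + 1 = (Nat.card G).factorization p) :
    HasSubgroupOfEveryOrder (G × A) := by
  intro d hd
  rw [Nat.card_prod] at hd
  obtain ⟨m, b, rfl, hm, hcop, hb⟩ := hall_decomp (Nat.card G) (Nat.card A) Nat.card_pos.ne'
    Nat.card_pos.ne' hA hexp d hd
  obtain ⟨H, hH⟩ := Cfsg.Agent.Lib.Helper1.hall_exists _ G rfl m (Nat.card G / m)
    (Nat.mul_div_cancel' hm).symm hcop
  obtain ⟨B, hB⟩ := hasSubgroupOfEveryOrder_of_isSupersolvable (isSupersolvable_of_commGroup A) b hb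
  refine ⟨H.prod B, ?_⟩
  rw [Nat.card_congr (Subgroup.prodEquiv H B).toEquiv, Nat.card_prod, hH, hB]

end Cfsg.Agent.Lib.Helper4
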