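import Mathlib
import Cfsg.Agent.Lib.Helper4.PslU5

set_option autoImplicit false
set_option linter.style.haveILetI false
set_option linter.unusedSectionVars false

namespace Cfsg.Agent.Lib.Helper4

open Subgroup

universe u v

set_option maxRecDepth 100000 in
theorem plu_dec17 : ∀ s : Fin 8, ∀ a b : ZMod 17, PluGood 17 8 6 s a b →
    (s : ℕ) = 8 - 1 ∧ b = a * 6 ∧ (-a) ^ 8 = 1 := by decide +kernel

/-- A generator of the squares modulo `17`. -/
def plu_k17 : (ZMod 17)ˣ := ⟨2, 9, by decide, by decide⟩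

theorem plu_k17_order : orderOf plu_k17 = 8 := by
  rw [orderOf_eq_iff (by norm_num)]
  refine ⟨by apply Units.ext; decide, ?_⟩
  intro m hm hm0 h1
  have h2 := congrArg Units.val h1
  rw [Units.val_pow_eq_pow_val, Units.val_one] at h2
  have h3 : ((plu_k17 : (ZMod 17)ˣ) : ZMod 17) = 2 := rfl
  rw [h3] at h2
  interval_cases m <;> revert h2 <;> decide

/-- Any two finite simple groups of order `2448` are isomorphic. -/
theorem s2448_mulEquiv {G : Type u} [Group G] [Finite G] [IsSimpleGroup G]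
    {H : Type v} [Group H] [Finite H] [IsSimpleGroup H]
    (h : Nat.card G = 2448) (h' : Nat.card H = 2448) : Nonempty (G ≃* H) := by
  have hdiv : ∀ d ∈ Nat.divisors ((17 + 1) * 8), d % 17 = 1 → d = 1 ∨ d = 17 + 1 := by decide
  have hn : (3 : ZMod 17) ^ 8 ≠ 1 := by decide
  have hninv : (3 : ZMod 17) * 6 = 1 := by decide
  haveI : Fact (Nat.Prime 17) := ⟨by norm_num⟩
  have hyp : PslHyp G 17 8 := pslHyp_of_simple (by norm_num) (by norm_num) (by rw [h]) hdiv
  have hyp' : PslHyp H 17 8 := pslHyp_of_simple (by norm_num) (by norm_num) (by rw [h']) hdiv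
  exact pslu_mulEquiv hyp hyp' plu_k17 plu_k17_order 3 6 hn hninv plu_dec17

end Cfsg.Agent.Lib.Helper4
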