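import Mathlib
import Cfsg.Agent.Lib.Helper4.PslU5

set_option autoImplicit false
set_option linter.style.haveILetI false
set_option linter.unusedSectionVars false

namespace Cfsg.Agent.Lib.Helper4

open Subgroup

universe u v

set_option maxRecDepth 100000 in
theorem plu_dec23_lo : ∀ s : Fin 10, ∀ a b : ZMod 23, PluGood 23 11 14 s a b →
    ((s : ℕ) = 11 - 1 ∧ b = a * 14 ∧ (-a) ^ 11 = 1) := by decide +kernel

set_option maxRecDepth 100000 in
theorem plu_dec23_a0 : ∀ b : ZMod 23, PluGood 23 11 14 10 0 b →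
    (b = 0 * 14 ∧ (-0 : ZMod 23) ^ 11 = 1) := by decide +kernel

set_option maxRecDepth 100000 in
theorem plu_dec23_a1 : ∀ b : ZMod 23, PluGood 23 11 14 10 1 b →
    (b = 1 * 14 ∧ (-1 : ZMod 23) ^ 11 = 1) := by decide +kernel

set_option maxRecDepth 100000 in
theorem plu_dec23_a2 : ∀ b : ZMod 23, PluGood 23 11 14 10 2 b →
    (b = 2 * 14 ∧ (-2 : ZMod 23) ^ 11 = 1) := by decide +kernel

set_option maxRecDepth 100000 in
theorem plu_dec23_a3 : ∀ b : ZMod 23, PluGood 23 11 14 10 3 b →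
    (b = 3 * 14 ∧ (-3 : ZMod 23) ^ 11 = 1) := by decide +kernel

set_option maxRecDepth 100000 in
theorem plu_dec23_a4 : ∀ b : ZMod 23, PluGood 23 11 14 10 4 b →
    (b = 4 * 14 ∧ (-4 : ZMod 23) ^ 11 = 1) := by decide +kernel

set_option maxRecDepth 100000 in
theorem plu_dec23_a5 : ∀ b : ZMod 23, PluGood 23 11 14 10 5 b →
    (b = 5 * 14 ∧ (-5 : ZMod 23) ^ 11 = 1) := by decide +kernel

set_option maxRecDepth 100000 in
theorem plu_dec23_a6 : ∀ b : ZMod 23, PluGood 23 11 14 10 6 b →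
    (b = 6 * 14 ∧ (-6 : ZMod 23) ^ 11 = 1) := by decide +kernel

set_option maxRecDepth 100000 in
theorem plu_dec23_a7 : ∀ b : ZMod 23, PluGood 23 11 14 10 7 b →
    (b = 7 * 14 ∧ (-7 : ZMod 23) ^ 11 = 1) := by decide +kernel

set_option maxRecDepth 100000 in
theorem plu_dec23_a8 : ∀ b : ZMod 23, PluGood 23 11 14 10 8 b →
    (b = 8 * 14 ∧ (-8 : ZMod 23) ^ 11 = 1) := by decide +kernel

set_option maxRecDepth 100000 in
theorem plu_dec23_a9 : ∀ b : ZMod 23, PluGood 23 11 14 10 9 b →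
    (b = 9 * 14 ∧ (-9 : ZMod 23) ^ 11 = 1) := by decide +kernel

set_option maxRecDepth 100000 in
theorem plu_dec23_a10 : ∀ b : ZMod 23, PluGood 23 11 14 10 10 b →
    (b = 10 * 14 ∧ (-10 : ZMod 23) ^ 11 = 1) := by decide +kernel

set_option maxRecDepth 100000 in
theorem plu_dec23_a11 : ∀ b : ZMod 23, PluGood 23 11 14 10 11 b →
    (b = 11 * 14 ∧ (-11 : ZMod 23) ^ 11 = 1) := by decide +kernel

set_option maxRecDepth 100000 in
theorem plu_dec23_a12 : ∀ b : ZMod 23, PluGood 23 11 14 10 12 b →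
    (b = 12 * 14 ∧ (-12 : ZMod 23) ^ 11 = 1) := by decide +kernel

set_option maxRecDepth 100000 in
theorem plu_dec23_a13 : ∀ b : ZMod 23, PluGood 23 11 14 10 13 b →
    (b = 13 * 14 ∧ (-13 : ZMod 23) ^ 11 = 1) := by decide +kernel

set_option maxRecDepth 100000 in
theorem plu_dec23_a14 : ∀ b : ZMod 23, PluGood 23 11 14 10 14 b →
    (b = 14 * 14 ∧ (-14 : ZMod 23) ^ 11 = 1) := by decide +kernel

set_option maxRecDepth 100000 in
theorem plu_dec23_a15 : ∀ b : ZMod 23, PluGood 23 11 14 10 15 b →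
    (b = 15 * 14 ∧ (-15 : ZMod 23) ^ 11 = 1) := by decide +kernel

set_option maxRecDepth 100000 in
theorem plu_dec23_a16 : ∀ b : ZMod 23, PluGood 23 11 14 10 16 b →
    (b = 16 * 14 ∧ (-16 : ZMod 23) ^ 11 = 1) := by decide +kernel

set_option maxRecDepth 100000 in
theorem plu_dec23_a17 : ∀ b : ZMod 23, PluGood 23 11 14 10 17 b →
    (b = 17 * 14 ∧ (-17 : ZMod 23) ^ 11 = 1) := by decide +kernel

set_option maxRecDepth 100000 in
theorem plu_dec23_a18 : ∀ b : ZMod 23, PluGood 23 11 14 10 18 b →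
    (b = 18 * 14 ∧ (-18 : ZMod 23) ^ 11 = 1) := by decide +kernel

set_option maxRecDepth 100000 in
theorem plu_dec23_a19 : ∀ b : ZMod 23, PluGood 23 11 14 10 19 b →
    (b = 19 * 14 ∧ (-19 : ZMod 23) ^ 11 = 1) := by decide +kernel

set_option maxRecDepth 100000 in
theorem plu_dec23_a20 : ∀ b : ZMod 23, PluGood 23 11 14 10 20 b →
    (b = 20 * 14 ∧ (-20 : ZMod 23) ^ 11 = 1) := by decide +kernel

set_option maxRecDepth 100000 in
theorem plu_dec23_a21 : ∀ b : ZMod 23, PluGood 23 11 14 10 21 b →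
    (b = 21 * 14 ∧ (-21 : ZMod 23) ^ 11 = 1) := by decide +kernel

set_option maxRecDepth 100000 in
theorem plu_dec23_a22 : ∀ b : ZMod 23, PluGood 23 11 14 10 22 b →
    (b = 22 * 14 ∧ (-22 : ZMod 23) ^ 11 = 1) := by decide +kernel

theorem plu_dec23 : ∀ s : Fin 11, ∀ a b : ZMod 23, PluGood 23 11 14 s a b →
    (s : ℕ) = 11 - 1 ∧ b = a * 14 ∧ (-a) ^ 11 = 1 := by
  intro s
  induction s using Fin.lastCases with
  | cast s => exact plu_dec23_lo s
  | last =>
    intro a b h
    refine ⟨rfl, ?_⟩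
    fin_cases a
    · exact plu_dec23_a0 b h
    · exact plu_dec23_a1 b h
    · exact plu_dec23_a2 b h
    · exact plu_dec23_a3 b h
    · exact plu_dec23_a4 b h
    · exact plu_dec23_a5 b h
    · exact plu_dec23_a6 b h
    · exact plu_dec23_a7 b h
    · exact plu_dec23_a8 b h
    · exact plu_dec23_a9 b h
    · exact plu_dec23_a10 b h
    · exact plu_dec23_a11 b h
    · exact plu_dec23_a12 b h
    · exact plu_dec23_a13 b h
    · exact plu_dec23_a14 b h
    · exact plu_dec23_a15 b h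
    · exact plu_dec23_a16 b h
    · exact plu_dec23_a17 b h
    · exact plu_dec23_a18 b h
    · exact plu_dec23_a19 b h
    · exact plu_dec23_a20 b h
    · exact plu_dec23_a21 b h
    · exact plu_dec23_a22 b h

/-- A generator of the squares modulo `23`. -/
def plu_k23 : (ZMod 23)ˣ := ⟨2, 12, by decide, by decide⟩

theorem plu_k23_order : orderOf plu_k23 = 11 := by
  rw [orderOf_eq_iff (by norm_num)]
  refine ⟨by apply Units.ext; decide, ?_⟩
  intro m hm hm0 h1
  have h2 := congrArg Units.val h1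
  rw [Units.val_pow_eq_pow_val, Units.val_one] at h2
  have h3 : ((plu_k23 : (ZMod 23)ˣ) : ZMod 23) = 2 := rfl
  rw [h3] at h2
  interval_cases m <;> revert h2 <;> decide

/-- Any two finite simple groups of order `6072` are isomorphic. -/
theorem s6072_mulEquiv {G : Type u} [Group G] [Finite G] [IsSimpleGroup G]
    {H : Type v} [Group H] [Finite H] [IsSimpleGroup H]
    (h : Nat.card G = 6072) (h' : Nat.card H = 6072) : Nonempty (G ≃* H) := by
  have hdiv : ∀ d ∈ Nat.divisors ((23 + 1) * 11), d % 23 = 1 → d = 1 ∨ d = 23 + 1 := by decide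
  have hn : (5 : ZMod 23) ^ 11 ≠ 1 := by decide
  have hninv : (5 : ZMod 23) * 14 = 1 := by decide
  haveI : Fact (Nat.Prime 23) := ⟨by norm_num⟩
  have hyp : PslHyp G 23 11 := pslHyp_of_simple (by norm_num) (by norm_num) (by rw [h]) hdiv
  have hyp' : PslHyp H 23 11 := pslHyp_of_simple (by norm_num) (by norm_num) (by rw [h']) hdiv
  exact pslu_mulEquiv hyp hyp' plu_k23 plu_k23_order 5 14 hn hninv plu_dec23

end Cfsg.Agent.Lib.Helper4
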