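import Mathlib

set_option autoImplicit false
set_option linter.style.haveILetI false
set_option linter.unusedSectionVars false

namespace Cfsg.Agent.Lib.Helper4

open Subgroup

/-- The projective line over `𝔽_q`. -/
abbrev PL (q : ℕ) := Option (ZMod q)

section Defs

variable (q : ℕ)

/-- Translation `z ↦ z + c`. -/
def pluX (c : ZMod q) : Equiv.Perm (PL q) := Equiv.optionCongr (Equiv.addRight c)

theorem pluX_none (c : ZMod q) : pluX q c none = none := rfl
theorem pluX_some (c z : ZMod q) : pluX q c (some z) = some (z + c) := rfl
theorem pluX_apply (c : ZMod q) (l : PL q) : pluX q c l = Option.map (fun z => z + c) l := by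
  cases l <;> rfl

theorem pluX_add (c d : ZMod q) : pluX q (c + d) = pluX q d * pluX q c := by
  ext l
  cases l with
  | none => rfl
  | some z => rw [Equiv.Perm.mul_apply, pluX_some, pluX_some, pluX_some, add_assoc]

theorem pluX_zero : pluX q 0 = 1 := by
  ext l
  cases l with
  | none => rfl
  | some z => rw [pluX_some, add_zero]; rfl

theorem pluX_natCast (n : ℕ) : pluX q (n : ZMod q) = pluX q 1 ^ n := by
  induction n with
  | zero => rw [Nat.cast_zero, pluX_zero, pow_zero]
  | succ n ih => rw [Nat.cast_succ, pluX_add, ih, pow_succ']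

theorem pluX_mem_zpowers [NeZero q] (c : ZMod q) : pluX q c ∈ zpowers (pluX q 1) := by
  rw [← ZMod.natCast_zmod_val c, pluX_natCast]
  exact Subgroup.pow_mem _ (mem_zpowers _) _

/-- Multiplication `z ↦ m z` by a unit. -/
def pluM : (ZMod q)ˣ →* Equiv.Perm (PL q) where
  toFun m := Equiv.optionCongr (Units.mulLeft m)
  map_one' := by
    ext l
    cases l with
    | none => rfl
    | some z => simp
  map_mul' m₁ m₂ := by
    ext l
    cases l with
    | none => rfl
    | some z => simp [mul_assoc]

theorem pluM_none (m : (ZMod q)ˣ) : pluM q m none = none := rfl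
theorem pluM_some (m : (ZMod q)ˣ) (z : ZMod q) : pluM q m (some z) = some ((m : ZMod q) * z) := rfl
theorem pluM_apply (m : (ZMod q)ˣ) (l : PL q) :
    pluM q m l = Option.map (fun z => (m : ZMod q) * z) l := by
  cases l <;> rfl

theorem pluM_injective : Function.Injective (pluM q) := by
  intro m₁ m₂ h
  have h1 := congrArg (fun σ : Equiv.Perm (PL q) => σ (some 1)) h
  simp only [pluM_some, mul_one, Option.some.injEq] at h1
  exact Units.ext h1

/-- The function underlying the inversion `z ↦ -1/z`. -/
def pluT0f : PL q → PL q
  | none => some 0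
  | some z => if z = 0 then none else some (-(z ^ (q - 2)))

/-- The candidate function for an involution swapping `0` and `∞`. -/
def pluF (r : ℕ) (ninv : ZMod q) (s : ℕ) (a b : ZMod q) : PL q → PL q
  | none => some 0
  | some z => if z = 0 then none else if z ^ r = 1 then some (a * z ^ s)
      else some (b * (z * ninv) ^ s)

/-- The two-point stabilizer word attached to `d`. -/
def pluPi (f : PL q → PL q) (d : ZMod q) (l : PL q) : PL q :=
  Option.map (fun z => z + -((f (some d)).getD 0))
    (f (Option.map (fun z => z + d)
      (f (Option.map (fun z => z + (f (some (-d))).getD 0) (f l)))))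

/-- The decidable consistency condition. -/
def PluGood [NeZero q] (r : ℕ) (ninv : ZMod q) (s : ℕ) (a b : ZMod q) : Prop :=
  (∀ l : PL q, pluF q r ninv s a b (pluF q r ninv s a b l) = l) ∧
  ∀ d : ZMod q, d ≠ 0 →
    ((pluPi q (pluF q r ninv s a b) d (some 1)).getD 0) ^ r = 1 ∧
    ∀ l : PL q, pluPi q (pluF q r ninv s a b) d l =
      Option.map (fun z => (pluPi q (pluF q r ninv s a b) d (some 1)).getD 0 * z) l

instance [NeZero q] (r : ℕ) (ninv : ZMod q) (s : ℕ) (a b : ZMod q) :
    Decidable (PluGood q r ninv s a b) := by
  unfold PluGood; infer_instance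

end Defs

end Cfsg.Agent.Lib.Helper4
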