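import Mathlib
import Cfsg.Prelude.Def_Transfer
import Cfsg.Prelude.Def_Solvable
import Cfsg.Prelude.Def_Local
import Cfsg.Agent.Lib.Helper13.R3Defs
import Cfsg.Agent.Lib.Helper4.R3PAIR

/-! S4404 leaf CLOSE (helper4): `le_of_meet_of` (over RED and DICH given as hypotheses). -/

set_option autoImplicit false

namespace Cfsg.Agent.Lib.Helper4.R3CLOSE

open Pointwise Cfsg.Agent.Lib.Helper13.R3 Cfsg.Agent.Lib.Helper4.R3PAIR

section close

variable {H : Type*} [Group H] {M : Type*} [CommGroup M] [Finite M] [MulDistribMulAction H M]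

/-- the three planes cannot be distributed on a nontrivial splitting -/
theorem no_split (P P' P'' U U' : Subgroup M) (hU' : U' ≠ ⊥) (hUU' : U ⊓ U' = ⊥)
    (hsup : U ⊔ U' = P ⊔ P' ⊔ P'') (hmeet : P ⊓ P' ≠ ⊥) (hm : P'' ⊓ (P ⊔ P') ≠ ⊥)
    (d' : P' ≤ U ∨ P' ≤ U') (d'' : P'' ≤ U ∨ P'' ≤ U') (hPU : P ≤ U) : False := by
  have h' : P' ≤ U := by
    rcases d' with h | h
    · exact h
    · exfalso
      apply hmeet
      rw [eq_bot_iff, ← hUU']
      exact inf_le_inf hPU h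
  have h'' : P'' ≤ U := by
    rcases d'' with h | h
    · exact h
    · exfalso
      apply hm
      rw [eq_bot_iff, ← hUU', inf_comm U U']
      exact inf_le_inf h (sup_le hPU h')
  apply hU'
  have hle : U' ≤ U := le_trans le_sup_right (hsup ▸ sup_le (sup_le hPU h') h'')
  rw [eq_bot_iff, ← hUU']
  exact le_inf hle le_rfl

/-- CLOSE over RED and DICH -/
theorem le_of_meet_of
    (hRED : ∀ S : Set H, (∀ y ∈ S, IsRoot M y) → Nat.card ↥(⨆ y ∈ S, cSub M y) = 16 →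
      ∃ U U' : Subgroup M, U ≠ ⊥ ∧ U' ≠ ⊥ ∧ U ⊓ U' = ⊥ ∧ U ⊔ U' = ⨆ y ∈ S, cSub M y ∧
        (∀ y ∈ S, ∀ u ∈ U, y • u ∈ U) ∧ (∀ y ∈ S, ∀ u ∈ U', y • u ∈ U'))
    (hDICH : ∀ y : H, IsRoot M y → ∀ U U' : Subgroup M, U ⊓ U' = ⊥ →
      (∀ u ∈ U, y • u ∈ U) → (∀ u ∈ U', y • u ∈ U') → cSub M y ≤ U ⊔ U' →
      (cSub M y ≤ U ∧ ∀ u ∈ U', y • u = u) ∨ (cSub M y ≤ U' ∧ ∀ u ∈ U, y • u = u))
    (y y' y'' : H) (hy : IsRoot M y) (hy' : IsRoot M y') (hy'' : IsRoot M y'')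
    (hne : cSub M y ≠ cSub M y') (hmeet : cSub M y ⊓ cSub M y' ≠ ⊥)
    (hm : cSub M y'' ⊓ (cSub M y ⊔ cSub M y') ≠ ⊥) : cSub M y'' ≤ cSub M y ⊔ cSub M y' := by
  by_contra hcon
  -- cardinalities
  have hnle : ¬ cSub M y ≤ cSub M y' := by
    intro h
    exact hne (Subgroup.eq_of_le_of_card_ge h (by rw [hy.2, hy'.2]))
  have h2 : Nat.card ↥(cSub M y ⊓ cSub M y') = 2 := card_inf_eq_two _ _ hy.2 hmeet hnle
  have h8 : Nat.card ↥(cSub M y ⊔ cSub M y') = 8 := by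
    have h := card_sup_mul_card_inf (cSub M y) (cSub M y')
    rw [h2, hy.2, hy'.2] at h
    omega
  have h2' : Nat.card ↥(cSub M y'' ⊓ (cSub M y ⊔ cSub M y')) = 2 :=
    card_inf_eq_two _ _ hy''.2 hm hcon
  have h16 : Nat.card ↥(cSub M y'' ⊔ (cSub M y ⊔ cSub M y')) = 16 := by
    have h := card_sup_mul_card_inf (cSub M y'') (cSub M y ⊔ cSub M y')
    rw [h2', hy''.2, h8] at h
    omega
  have hsup : (⨆ z ∈ ({y, y', y''} : Set H), cSub M z) = cSub M y ⊔ cSub M y' ⊔ cSub M y'' := by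
    rw [iSup_insert, iSup_insert, iSup_singleton, sup_assoc]
  have hcard : Nat.card ↥(⨆ z ∈ ({y, y', y''} : Set H), cSub M z) = 16 := by
    rw [hsup, sup_comm]
    exact h16
  have hroots : ∀ z ∈ ({y, y', y''} : Set H), IsRoot M z := by
    rintro z (rfl | rfl | rfl)
    · exact hy
    · exact hy'
    · exact hy''
  obtain ⟨U, U', hU, hU', hUU', hsupU, hinvU, hinvU'⟩ := hRED {y, y', y''} hroots hcard
  rw [hsup] at hsupU
  have hymem : y ∈ ({y, y', y''} : Set H) := Set.mem_insert _ _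
  have hy'mem : y' ∈ ({y, y', y''} : Set H) := Set.mem_insert_of_mem _ (Set.mem_insert _ _)
  have hy''mem : y'' ∈ ({y, y', y''} : Set H) :=
    Set.mem_insert_of_mem _ (Set.mem_insert_of_mem _ rfl)
  have hP : cSub M y ≤ U ⊔ U' := hsupU ▸ le_trans le_sup_left le_sup_left
  have hP' : cSub M y' ≤ U ⊔ U' := hsupU ▸ le_trans le_sup_right le_sup_left
  have hP'' : cSub M y'' ≤ U ⊔ U' := hsupU ▸ le_sup_right
  have d : cSub M y ≤ U ∨ cSub M y ≤ U' :=
    (hDICH y hy U U' hUU' (hinvU y hymem) (hinvU' y hymem) hP).imp And.left And.left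
  have d' : cSub M y' ≤ U ∨ cSub M y' ≤ U' :=
    (hDICH y' hy' U U' hUU' (hinvU y' hy'mem) (hinvU' y' hy'mem) hP').imp And.left And.left
  have d'' : cSub M y'' ≤ U ∨ cSub M y'' ≤ U' :=
    (hDICH y'' hy'' U U' hUU' (hinvU y'' hy''mem) (hinvU' y'' hy''mem) hP'').imp And.left And.left
  rcases d with h | h
  · exact no_split _ _ _ U U' hU' hUU' hsupU hmeet hm d' d'' h
  · exact no_split _ _ _ U' U hU (inf_comm U U' ▸ hUU') (sup_comm U U' ▸ hsupU) hmeet hm d'.symm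
      d''.symm h

end close

end Cfsg.Agent.Lib.Helper4.R3CLOSE
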