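import Mathlib
import Cfsg.Prelude.Def_Blocks
import Cfsg.Agent.Lib.Helper4.RealExtDefs
import Cfsg.Agent.Lib.Helper4.RealExtE2Core

/-!
# S4580 leaf (E2) (helper4): the concrete local step in `L = P C_G(P)`, from the abstract core
`eq_principal_core` and the group theory leaf (E1) (taken as a hypothesis `hE1` here).
-/

set_option autoImplicit false

namespace Cfsg.Agent.Lib.Helper4.RealExt

open Cfsg Cfsg.Agent.CharLib
open scoped ComplexConjugate

universe u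
variable {G : Type u} [Group G] [Finite G]

/-- An odd power of an element normalizing a Sylow `2`-subgroup `P` lies in `P`. -/
theorem exists_odd_pow_mem (P : Sylow 2 G) (n : G)
    (hn : n ∈ Subgroup.normalizer ((P : Subgroup G) : Set G)) :
    ∃ m : ℕ, Odd m ∧ n ^ m ∈ (P : Subgroup G) := by
  classical
  haveI : Fact (Nat.Prime 2) := ⟨Nat.prime_two⟩
  have ho : orderOf n ≠ 0 := (orderOf_pos n).ne'
  set a := (orderOf n).factorization 2 with ha
  set m := orderOf n / 2 ^ a with hm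
  have hmodd : Odd m := by
    rw [← Nat.not_even_iff_odd, even_iff_two_dvd]
    exact Nat.not_dvd_ordCompl Nat.prime_two ho
  have hmul : 2 ^ a * m = orderOf n := Nat.ordProj_mul_ordCompl_eq_self (orderOf n) 2
  have hpow : (n ^ m) ^ 2 ^ a = 1 := by
    rw [← pow_mul, mul_comm, hmul, pow_orderOf_eq_one]
  have hpg : IsPGroup 2 (Subgroup.zpowers (n ^ m)) := by
    rintro ⟨x, hx⟩
    obtain ⟨k, rfl⟩ := Subgroup.mem_zpowers_iff.1 hx
    refine ⟨a, Subtype.ext ?_⟩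
    show ((n ^ m) ^ k) ^ 2 ^ a = 1
    rw [← zpow_natCast, ← zpow_mul, mul_comm, zpow_mul, zpow_natCast, hpow, one_zpow]
  have h1 : n ^ m ∈ Subgroup.zpowers (n ^ m) ⊓ Subgroup.normalizer ((P : Subgroup G) : Set G) :=
    ⟨Subgroup.mem_zpowers _, Subgroup.pow_mem _ hn m⟩
  have h2 : n ^ m ∈ Subgroup.zpowers (n ^ m) ⊓ (P : Subgroup G) := by
    rw [← hpg.inf_normalizer_sylow P]
    exact h1
  exact ⟨m, hmodd, h2.2⟩

/-- (E2), abstract in the subgroup `L ≥ P` (to avoid `set`). -/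
theorem eq_principal_aux (M : Ideal AlgInt) (hM : IsPModular 2 M) (P : Sylow 2 G)
    (L : Subgroup G) (hPL : (P : Subgroup G) ≤ L)
    (K : Subgroup L) [K.Normal] (hKodd : Odd (Nat.card K)) (hKidx : ∃ k : ℕ, K.index = 2 ^ k)
    (hinner : ∀ l : L, ∃ u ∈ K, ∀ x ∈ K, l * x * l⁻¹ = u * x * u⁻¹)
    (hnL : ∀ n ∈ Subgroup.normalizer ((P : Subgroup G) : Set G), ∀ x : L, n * (x : G) * n⁻¹ ∈ L)
    (hnK : ∀ n ∈ Subgroup.normalizer ((P : Subgroup G) : Set G), ∀ x : L, x ∈ K →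
      ∀ hx : n * (x : G) * n⁻¹ ∈ L, (⟨n * (x : G) * n⁻¹, hx⟩ : L) ∈ K)
    (b : Set (IrrCharacter L)) (hb : IsPBlock M b) (n : G)
    (hn : n ∈ Subgroup.normalizer ((P : Subgroup G) : Set G))
    (h : ∀ θ ∈ b, ∃ θ' ∈ cbar '' b, ∀ x : L, ∀ hx : n * (x : G) * n⁻¹ ∈ L,
      (θ' : L → ℂ) x = (θ : L → ℂ) ⟨n * (x : G) * n⁻¹, hx⟩) :
    b = principalBlock M L := by
  classical
  haveI : Fintype L := Fintype.ofFinite L
  haveI : Fintype K := Fintype.ofFinite K
  have hninv : n⁻¹ ∈ Subgroup.normalizer ((P : Subgroup G) : Set G) := Subgroup.inv_mem _ hn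
  have hnN : n ∈ Subgroup.normalizer (L : Set G) := by
    rw [Subgroup.mem_normalizer_iff]
    intro x
    constructor
    · intro hx
      exact hnL n hn ⟨x, hx⟩
    · intro hx
      have h1 := hnL n⁻¹ hninv ⟨n * x * n⁻¹, hx⟩
      have e : n⁻¹ * (n * x * n⁻¹) * n⁻¹⁻¹ = x := by group
      rw [show ((⟨n * x * n⁻¹, hx⟩ : L) : G) = n * x * n⁻¹ from rfl, e] at h1
      exact h1
  let c : MulAut L := L.normalizerMonoidHom ⟨n, hnN⟩
  have hc : ∀ x : L, ((c x : L) : G) = n * (x : G) * n⁻¹ := fun x => rfl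
  obtain ⟨m, hm, hmP⟩ := exists_odd_pow_mem P n hn
  have hmL : n ^ m ∈ L := hPL hmP
  have hcm : ∀ x : L, ((((c ^ m) x : L)) : G) = n ^ m * (x : G) * (n ^ m)⁻¹ := by
    intro x
    have e : c ^ m = L.normalizerMonoidHom (⟨n, hnN⟩ ^ m) := (map_pow _ _ _).symm
    rw [e]
    rfl
  have hcK : ∀ x : L, x ∈ K ↔ c x ∈ K := by
    intro x
    constructor
    · intro hx
      exact hnK n hn x hx _
    · intro hx
      have h1 : n⁻¹ * ((c x : L) : G) * n⁻¹⁻¹ ∈ L := hnL n⁻¹ hninv (c x)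
      have h2 := hnK n⁻¹ hninv (c x) hx h1
      have e : (⟨n⁻¹ * ((c x : L) : G) * n⁻¹⁻¹, h1⟩ : L) = x := by
        apply Subtype.ext
        show n⁻¹ * ((c x : L) : G) * n⁻¹⁻¹ = x
        rw [hc]
        group
      rwa [e] at h2
  exact eq_principal_core M hM K hKodd hKidx hinner c hcK m hm ⟨n ^ m, hmL⟩
    (fun x _ => Subtype.ext (hcm x)) b hb
    (fun θ hθ => by
      obtain ⟨θ', h1, h2⟩ := h θ hθ
      exact ⟨θ', h1, fun x => h2 x (hnL n hn x)⟩)

end Cfsg.Agent.Lib.Helper4.RealExt
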