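import Mathlib
import Cfsg.Prelude.Def_Blocks
import Cfsg.Agent.Lib.Helper4.RealExtDefs
import Cfsg.Agent.Lib.Helper4.RealExtE2
import Cfsg.Agent.Lib.Helper20.RealExtA
import Cfsg.Agent.Lib.Helper2.RealExtB
import Cfsg.Agent.Lib.Helper9.RealExtC
import Cfsg.Agent.Lib.Helper17.RealExtD
import Cfsg.Agent.Lib.Helper22.RealExtE1
import Cfsg.Agent.Lib.Helper6.FirstMain
import Cfsg.Agent.Lib.Helper6.SylowBlockCount
import Cfsg.Agent.S0973
import Cfsg.Agent.S0936

/-!
# S4580 spine (helper4): the principal block is the only real `2`-block of maximal defect, and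
real odd-degree characters of normal subgroups that extend have an extension in `B₀(2)`.
Leaves: (A) helper20, (B) helper2, (C) helper9, (D) helper17, (E1) helper22, (E2) helper4.
-/

set_option autoImplicit false

namespace Cfsg.Agent.Lib.Helper4.RealExt

open Cfsg Cfsg.Agent.CharLib Cfsg.Agent.Lib.Helper6
open scoped ComplexConjugate

universe u
variable {G : Type u} [Group G] [Finite G]

/-- (E2) in the planner's shape. -/
theorem eq_principal_of_conj_eq_cbar (M : Ideal AlgInt) (hM : IsPModular 2 M) (P : Sylow 2 G)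
    (b : Set (IrrCharacter ↥((P : Subgroup G) ⊔ Subgroup.centralizer ((P : Subgroup G) : Set G))))
    (hb : IsPBlock M b) (n : G) (hn : n ∈ Subgroup.normalizer ((P : Subgroup G) : Set G))
    (h : ∀ θ ∈ b, ∃ θ' ∈ cbar '' b,
      ∀ x : ↥((P : Subgroup G) ⊔ Subgroup.centralizer ((P : Subgroup G) : Set G)),
      ∀ hx : n * (x : G) * n⁻¹ ∈
        (P : Subgroup G) ⊔ Subgroup.centralizer ((P : Subgroup G) : Set G),
      (θ' : ↥((P : Subgroup G) ⊔ Subgroup.centralizer ((P : Subgroup G) : Set G)) → ℂ) x =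
        (θ : ↥((P : Subgroup G) ⊔ Subgroup.centralizer ((P : Subgroup G) : Set G)) → ℂ)
          ⟨n * (x : G) * n⁻¹, hx⟩) :
    b = principalBlock M ↥((P : Subgroup G) ⊔ Subgroup.centralizer ((P : Subgroup G) : Set G)) := by
  obtain ⟨K, hKn, hKodd, hKidx, hinner, hnL, hnK⟩ :=
    Cfsg.Agent.Lib.Helper22.RealExt.exists_normal_two_complement P
  exact eq_principal_aux M hM P _ le_sup_left K hKodd hKidx hinner hnL hnK b hb n hn h

/-- CLAIM A (Brauer): the principal block is the only real 2-block of maximal defect. -/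
theorem mem_principal_of_sameBlock_cbar (M : Ideal AlgInt) (hM : IsPModular 2 M)
    (χ : IrrCharacter G) (hodd : Odd (charDegree (χ : G → ℂ)))
    (h : SameBlock M (χ : G → ℂ) ((cbar χ : IrrCharacter G) : G → ℂ)) :
    χ ∈ principalBlock M G := by
  classical
  haveI : Fact (Nat.Prime 2) := ⟨Nat.prime_two⟩
  haveI hprime : M.IsPrime := hM.2.1.isPrime
  obtain ⟨P⟩ : Nonempty (Sylow 2 G) := inferInstance
  set B := blockOf M (χ : G → ℂ) with hB
  have hBblk : IsPBlock M B := ⟨χ, rfl⟩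
  have hdeg : ¬ 2 ∣ charDegree (χ : G → ℂ) := by
    rw [← even_iff_two_dvd, Nat.not_even_iff_odd]; exact hodd
  have hD : IsDefectGroup 2 M B (P : Subgroup G) :=
    Cfsg.Agent.Lib.Helper17.RealExt.exists_sylow_induced 2 M hM χ hdeg P
  obtain ⟨⟨b, -, hbB⟩, hconj⟩ := Cfsg.Agent.S0973.result 2 M hM B hBblk (P : Subgroup G) hD
  -- the conjugate block also induces `B`
  have hBbar : cbar '' B = B := by
    rw [hB, Cfsg.Agent.Lib.Helper20.RealExt.cbar_image_blockOf]
    apply isPBlock_eq_of_mem ⟨cbar χ, rfl⟩ ⟨χ, rfl⟩ (mem_blockOf_self (cbar χ))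
    exact h
  have hbbar : IsInducedBlock M _ (cbar '' b) B := by
    have := Cfsg.Agent.Lib.Helper20.RealExt.isInducedBlock_cbar M _ hbB
    rwa [hBbar] at this
  obtain ⟨n, hn, hnb⟩ := hconj b (cbar '' b) hbB hbbar
  have hbprin := eq_principal_of_conj_eq_cbar M hM P b hbB.1 n hn hnb
  -- third main theorem
  have h3 := (Cfsg.Agent.S0936.result 2 M hM _ b ⟨B, hbB⟩).2 hbprin
  have hBprin : B = principalBlock M G := Cfsg.Agent.Lib.Helper6.isInducedBlock_unique hbB h3
  rw [← hBprin, hB]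
  exact mem_blockOf_self χ

/-- S4580 itself. -/
theorem exists_extension_mem_principal_two (N : Subgroup G) [N.Normal] (M : Ideal AlgInt)
    (hM : IsPModular 2 M) (θ : IrrCharacter N) (hreal : ∀ n : N, ((θ : N → ℂ) n).im = 0)
    (hodd : Odd (charDegree (θ : N → ℂ)))
    (hext : ∃ η : IrrCharacter G, ∀ n : N, (η : G → ℂ) n = (θ : N → ℂ) n) :
    ∃ η : IrrCharacter G, (∀ n : N, (η : G → ℂ) n = (θ : N → ℂ) n) ∧ η ∈ principalBlock M G := by
  obtain ⟨η, hη⟩ := hext
  obtain ⟨η', ν, k, hη', hν1, hν, hconj⟩ :=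
    Cfsg.Agent.Lib.Helper9.RealExt.exists_extension_twist N θ hreal η hη
  refine ⟨η', hη', ?_⟩
  apply mem_principal_of_sameBlock_cbar M hM η'
  · have h1 : (η' : G → ℂ) 1 = (θ : N → ℂ) 1 := by
      have := hη' 1
      rwa [Subgroup.coe_one] at this
    unfold charDegree at hodd ⊢
    rw [h1]
    exact hodd
  · exact Cfsg.Agent.Lib.Helper2.RealExt.sameBlock_of_twist M hM η' (cbar η') ν k hν1 hν
      (fun g => by rw [cbar_apply]; exact hconj g)

end Cfsg.Agent.Lib.Helper4.RealExt
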