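import Mathlib
import Cfsg.Agent.Lib.Helper13.PSL2Spectrum

set_option autoImplicit false
set_option linter.unusedSectionVars false
set_option linter.style.haveILetI false

namespace Cfsg.Agent.H4Ree

open Matrix

/-- semidirect product of an additive group by a group acting on it. -/
@[ext] structure SD (V Γ : Type*) [AddCommGroup V] [Group Γ] [DistribMulAction Γ V] where
  v : V
  h : Γ

namespace SD

variable {V Γ : Type*} [AddCommGroup V] [Group Γ] [DistribMulAction Γ V]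

instance : Mul (SD V Γ) := ⟨fun a b => ⟨a.v + a.h • b.v, a.h * b.h⟩⟩
instance : One (SD V Γ) := ⟨⟨0, 1⟩⟩
instance : Inv (SD V Γ) := ⟨fun a => ⟨-(a.h⁻¹ • a.v), a.h⁻¹⟩⟩

@[simp] theorem mul_v (a b : SD V Γ) : (a * b).v = a.v + a.h • b.v := rfl
@[simp] theorem mul_h (a b : SD V Γ) : (a * b).h = a.h * b.h := rfl
@[simp] theorem one_v : (1 : SD V Γ).v = 0 := rfl
@[simp] theorem one_h : (1 : SD V Γ).h = 1 := rfl
@[simp] theorem inv_v (a : SD V Γ) : (a⁻¹).v = -(a.h⁻¹ • a.v) := rfl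
@[simp] theorem inv_h (a : SD V Γ) : (a⁻¹).h = a.h⁻¹ := rfl

instance : Group (SD V Γ) where
  mul_assoc a b c := by
    ext
    · simp [smul_add, mul_smul, add_assoc]
    · simp [mul_assoc]
  one_mul a := by ext <;> simp
  mul_one a := by ext <;> simp
  inv_mul_cancel a := by ext <;> simp

/-- projection to the acting group. -/
def snd : SD V Γ →* Γ where
  toFun a := a.h
  map_one' := rfl
  map_mul' _ _ := rfl

/-- the acting group inside the semidirect product. -/
def inr : Γ →* SD V Γ where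
  toFun h := ⟨0, h⟩
  map_one' := rfl
  map_mul' _ _ := by ext <;> simp

theorem inr_injective : Function.Injective (inr : Γ →* SD V Γ) := by
  intro a b h
  exact congrArg SD.h h

theorem orderOf_inr (γ : Γ) : orderOf (inr γ : SD V Γ) = orderOf γ :=
  orderOf_injective (inr : Γ →* SD V Γ) inr_injective γ

theorem trans_pow (w : V) (k : ℕ) : (⟨w, 1⟩ : SD V Γ) ^ k = ⟨k • w, 1⟩ := by
  induction k with
  | zero => ext <;> simp
  | succ k ih =>
    rw [pow_succ, ih]
    ext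
    · simp [add_smul]
    · simp

theorem pow_h (a : SD V Γ) (k : ℕ) : (a ^ k).h = a.h ^ k := map_pow snd a k

theorem conj_trans (w : V) (a : SD V Γ) :
    (⟨w, 1⟩ : SD V Γ) * a * (⟨w, 1⟩ : SD V Γ)⁻¹ = ⟨a.v + w - a.h • w, a.h⟩ := by
  ext
  · simp only [mul_v, mul_h, inv_v, one_smul, inv_one, one_mul, smul_neg]
    abel
  · simp

theorem orderOf_of_fpf (a : SD V Γ) (w : V) (hw : w - a.h • w = -a.v) :
    orderOf a = orderOf a.h := by
  have h1 : (⟨w, 1⟩ : SD V Γ) * a * (⟨w, 1⟩ : SD V Γ)⁻¹ = inr a.h := by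
    rw [conj_trans]
    ext
    · show a.v + w - a.h • w = 0
      rw [add_sub_assoc, hw, add_neg_cancel]
    · rfl
  rw [← orderOf_inr (V := V) a.h, ← h1]
  exact (MulEquiv.orderOf_eq (MulAut.conj (⟨w, 1⟩ : SD V Γ)) a).symm

instance [Finite V] [Finite Γ] : Finite (SD V Γ) :=
  Finite.of_injective (fun a : SD V Γ => (a.v, a.h)) (by
    intro a b hab
    simp only [Prod.mk.injEq] at hab
    exact SD.ext hab.1 hab.2)

/-- If `a.h ^ k = 1` and `V` has exponent `p` then `a ^ (p k) = 1`. -/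
theorem pow_mul_eq_one (p : ℕ) (hexp : ∀ w : V, p • w = 0) (a : SD V Γ) (k : ℕ)
    (hk : a.h ^ k = 1) : a ^ (k * p) = 1 := by
  have h1 : a ^ k = ⟨(a ^ k).v, 1⟩ := by
    ext
    · rfl
    · rw [pow_h, hk]
  rw [pow_mul, h1, trans_pow, hexp]
  rfl

/-- the kernel of the projection is a `p`-group. -/
theorem isPGroup_ker (p : ℕ) [Fact p.Prime] (hexp : ∀ w : V, p • w = 0) :
    IsPGroup p (snd : SD V Γ →* Γ).ker := by
  rintro ⟨a, ha⟩
  refine ⟨1, ?_⟩
  have ha' : a.h = 1 := ha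
  apply Subtype.ext
  have h1 : a = ⟨a.v, 1⟩ := by ext <;> simp [ha']
  show a ^ (p ^ 1) = 1
  rw [pow_one, h1, trans_pow, hexp]
  rfl

theorem ker_ne_bot [Nontrivial V] : (snd : SD V Γ →* Γ).ker ≠ ⊥ := by
  obtain ⟨w, hw⟩ := exists_ne (0 : V)
  intro h
  have h1 : (⟨w, 1⟩ : SD V Γ) ∈ (snd : SD V Γ →* Γ).ker := rfl
  rw [h, Subgroup.mem_bot] at h1
  exact hw (congrArg SD.v h1)

end SD

end Cfsg.Agent.H4Ree
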