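import Mathlib
import Cfsg.Agent.Lib.Helper13.PSL2Spectrum
import Cfsg.Agent.Lib.Helper4.ReeSD

set_option autoImplicit false
set_option linter.unusedSectionVars false
set_option linter.style.haveILetI false

namespace Cfsg.Agent.H4Ree

open Matrix Cfsg.Agent.Lib.Helper13

section act

variable {F : Type*} [Field F] [CharP F 3]

local notation "M2" => Matrix (Fin 2) (Fin 2) F

instance fact3 : Fact (Nat.Prime 3) := ⟨Nat.prime_three⟩

/-- the Frobenius twist, transposed. -/
noncomputable def tw (g : M2) : M2 := (g.map (frobenius F 3))ᵀ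

theorem tw_mul (g h : M2) : tw (g * h) = tw h * tw g := by
  unfold tw
  rw [Matrix.map_mul, Matrix.transpose_mul]

theorem tw_one : tw (1 : M2) = 1 := by
  unfold tw
  rw [Matrix.map_one _ (map_zero _) (map_one _), Matrix.transpose_one]

theorem tw_smul_one (r : F) : tw (r • (1 : M2)) = (r ^ 3) • (1 : M2) := by
  unfold tw
  ext i j
  fin_cases i <;> fin_cases j <;> simp [frobenius_def]

theorem tw_det (g : M2) : (tw g).det = (g.det) ^ 3 := by
  unfold tw
  rw [Matrix.det_transpose]
  have := RingHom.map_det (frobenius F 3) g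
  rw [frobenius_def] at this
  rw [this]
  rfl

theorem tw_trace (g : M2) : tw g 0 0 + tw g 1 1 = (g 0 0 + g 1 1) ^ 3 := by
  unfold tw
  simp only [Matrix.transpose_apply, Matrix.map_apply, frobenius_def]
  rw [add_pow_char]

/-- the action of `SL₂` on `2 × 2` matrices `X ↦ g X φ(g)ᵀ`. -/
noncomputable def rhoSL : SpecialLinearGroup (Fin 2) F →* AddMonoid.End M2 where
  toFun g := (AddMonoidHom.mulLeft (g : M2)).comp (AddMonoidHom.mulRight (tw (g : M2)))
  map_one' := by
    ext X : 1
    have h1 : ((1 : SpecialLinearGroup (Fin 2) F) : M2) = 1 := rfl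
    show ((1 : SpecialLinearGroup (Fin 2) F) : M2) * (X * tw ((1 : SpecialLinearGroup (Fin 2) F) : M2)) = X
    rw [h1, tw_one, Matrix.mul_one, Matrix.one_mul]
  map_mul' g h := by
    ext X : 1
    show ((g * h : SpecialLinearGroup (Fin 2) F) : M2) * (X * tw ((g * h : SpecialLinearGroup (Fin 2) F) : M2)) =
      (g : M2) * (((h : M2) * (X * tw (h : M2))) * tw (g : M2))
    have hm : ((g * h : SpecialLinearGroup (Fin 2) F) : M2) = (g : M2) * (h : M2) := rfl
    rw [hm, tw_mul]
    simp only [Matrix.mul_assoc]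

theorem rhoSL_apply (g : SpecialLinearGroup (Fin 2) F) (X : M2) :
    rhoSL g X = (g : M2) * (X * tw (g : M2)) := rfl

theorem center_le_ker :
    Subgroup.center (SpecialLinearGroup (Fin 2) F) ≤ (rhoSL (F := F)).ker := by
  intro z hz
  obtain ⟨r, hr⟩ := scalar_of_mem_center z hz
  have hdet := z.2
  rw [hr, Matrix.det_smul, Matrix.det_one, mul_one, Fintype.card_fin] at hdet
  rw [MonoidHom.mem_ker]
  ext X : 1
  rw [rhoSL_apply, hr, tw_smul_one]
  simp only [smul_mul_assoc, mul_smul_comm, Matrix.one_mul, Matrix.mul_one, smul_smul]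
  have : r ^ 3 * r = 1 := by
    have : r ^ 3 * r = (r ^ 2) ^ 2 := by ring
    rw [this, hdet, one_pow]
  rw [this, one_smul]
  rfl

/-- the induced action of `PSL₂`. -/
noncomputable def rhoPSL : ProjectiveSpecialLinearGroup (Fin 2) F →* AddMonoid.End M2 :=
  QuotientGroup.lift _ rhoSL center_le_ker

theorem rhoPSL_mk (g : SpecialLinearGroup (Fin 2) F) (X : M2) :
    rhoPSL (QuotientGroup.mk g : ProjectiveSpecialLinearGroup (Fin 2) F) X =
      (g : M2) * (X * tw (g : M2)) := rfl

/-- the acting group `Z₂ × PSL₂(F)`. -/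
def Gam (F : Type*) [Field F] := ℤˣ × ProjectiveSpecialLinearGroup (Fin 2) F

instance : Group (Gam F) := inferInstanceAs (Group (ℤˣ × ProjectiveSpecialLinearGroup (Fin 2) F))

instance [Finite F] : Finite (Gam F) := by
  haveI : Finite (SpecialLinearGroup (Fin 2) F) := Subtype.finite
  haveI : Finite (ProjectiveSpecialLinearGroup (Fin 2) F) :=
    Quotient.finite _
  exact inferInstanceAs (Finite (ℤˣ × ProjectiveSpecialLinearGroup (Fin 2) F))

/-- the action hom. -/
noncomputable def rhoGam : Gam F →* AddMonoid.End M2 :=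
  MonoidHom.noncommCoprod (DistribMulAction.toAddMonoidEnd ℤˣ M2) rhoPSL (by
    intro u x
    ext X : 1
    show u • (rhoPSL x X) = rhoPSL x (u • X)
    rw [Units.smul_def, Units.smul_def, map_zsmul])

noncomputable instance : DistribMulAction (Gam F) M2 := DistribMulAction.compHom M2 rhoGam

/-- constructor. -/
def Gam.mk (u : ℤˣ) (x : ProjectiveSpecialLinearGroup (Fin 2) F) : Gam F := (u, x)

theorem smul_mk (u : ℤˣ) (g : SpecialLinearGroup (Fin 2) F) (X : M2) :
    (Gam.mk u (QuotientGroup.mk g) : Gam F) • X = u • ((g : M2) * (X * tw (g : M2))) := rfl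

/-- the key algebra lemma: `A X B = e X` with `A, B` of determinant one forces
`(e tr B - tr A) X = 0`. -/
theorem key_alg (A B X : M2) (e τ σ : F) (he : e * e = 1)
    (hA : A * A = τ • A - 1) (hB : B * B = σ • B - 1) (h : A * X * B = e • X) :
    (e * σ - τ) • X = 0 := by
  have hA' : (τ • (1 : M2) - A) * A = 1 := by
    rw [sub_mul, hA, smul_mul_assoc, Matrix.one_mul]
    abel
  have hB' : B * (σ • (1 : M2) - B) = 1 := by
    rw [mul_sub, hB, mul_smul_comm, Matrix.mul_one]
    abel
  have h1 : X * B = e • ((τ • (1 : M2) - A) * X) := by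
    have : (τ • (1 : M2) - A) * (A * X * B) = (τ • (1 : M2) - A) * (e • X) := by rw [h]
    rw [← Matrix.mul_assoc, ← Matrix.mul_assoc, hA', Matrix.one_mul, mul_smul_comm] at this
    exact this
  have h2 : A * X = e • (X * (σ • (1 : M2) - B)) := by
    have : (A * X * B) * (σ • (1 : M2) - B) = (e • X) * (σ • (1 : M2) - B) := by rw [h]
    rw [Matrix.mul_assoc, hB', Matrix.mul_one, smul_mul_assoc] at this
    exact this
  rw [mul_sub, mul_smul_comm, Matrix.mul_one, h1, smul_sub, smul_smul, smul_smul, he,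
    one_smul, sub_mul, smul_mul_assoc, Matrix.one_mul] at h2
  have h3 : (e * σ) • X - τ • X = 0 := by
    have : A * X = (e * σ) • X - (τ • X - A * X) := h2
    have h4 : (e * σ) • X - τ • X = A * X - A * X := by
      nth_rewrite 1 [this]
      abel
    rw [h4, sub_self]
  rw [sub_smul]
  exact h3

theorem unit_cast_mul_self (u : ℤˣ) : (((u : ℤ) : F)) * ((u : ℤ) : F) = 1 := by
  rcases Int.units_eq_one_or u with rfl | rfl <;> simp

theorem unit_smul_eq (u : ℤˣ) (X : M2) : u • X = ((u : ℤ) : F) • X := by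
  rcases Int.units_eq_one_or u with rfl | rfl <;> simp [Units.smul_def]

/-- fixed points are trivial unless `tr g = ε (tr g)³`. -/
theorem fixed_eq_zero (u : ℤˣ) (g : SpecialLinearGroup (Fin 2) F) (X : M2)
    (hτ : ((u : ℤ) : F) * ((g : M2) 0 0 + (g : M2) 1 1) ^ 3 ≠ (g : M2) 0 0 + (g : M2) 1 1)
    (hX : (Gam.mk u (QuotientGroup.mk g) : Gam F) • X = X) : X = 0 := by
  rw [smul_mk, unit_smul_eq] at hX
  set e : F := ((u : ℤ) : F) with he
  have hee : e * e = 1 := unit_cast_mul_self u
  have h : (g : M2) * X * tw (g : M2) = e • X := by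
    have : e • (e • ((g : M2) * (X * tw (g : M2)))) = e • X := by rw [hX]
    rw [smul_smul, hee, one_smul, ← Matrix.mul_assoc] at this
    exact this
  have hA := cayley_hamilton_two (g : M2) g.2
  have hdB : (tw (g : M2)).det = 1 := by rw [tw_det, g.2, one_pow]
  have hB := cayley_hamilton_two (tw (g : M2)) hdB
  rw [tw_trace] at hB
  have := key_alg (g : M2) (tw (g : M2)) X e _ _ hee hA hB h
  rcases smul_eq_zero.mp this with h0 | h0
  · exact absurd (sub_eq_zero.mp h0) hτ
  · exact h0

end act

end Cfsg.Agent.H4Ree
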