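import Mathlib
import Cfsg.Agent.Lib.Helper13.PSL2Spectrum
import Cfsg.Agent.Lib.Helper4.ReeSD
import Cfsg.Agent.Lib.Helper4.ReeAct

set_option autoImplicit false
set_option linter.unusedSectionVars false
set_option linter.style.haveILetI false

namespace Cfsg.Agent.H4Ree

open Matrix Cfsg.Agent.Lib.Helper13

section orders

variable {F : Type*} [Field F] [CharP F 3] [Fintype F]

local notation "M2" => Matrix (Fin 2) (Fin 2) F

theorem Gam.pow_eq_one (γ : Gam F) (k : ℕ) (h1 : γ.1 ^ k = 1) (h2 : γ.2 ^ k = 1) : γ ^ k = 1 :=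
  Prod.ext h1 h2

theorem Gam.orderOf_eq (γ : Gam F) : orderOf γ = Nat.lcm (orderOf γ.1) (orderOf γ.2) :=
  Prod.orderOf γ

theorem three_smul_M2 (X : M2) : 3 • X = 0 := by
  rw [← Nat.cast_smul_eq_nsmul F]
  have : ((3 : ℕ) : F) = 0 := CharP.cast_eq_zero F 3
  rw [this, zero_smul]

theorem orderOf_unit_dvd_two (u : ℤˣ) : orderOf u ∣ 2 :=
  orderOf_dvd_of_pow_eq_one (by rw [pow_two]; exact Int.units_mul_self u)

/-- all element orders. -/
theorem orderOf_dvd_cases (hq : Fintype.card F % 8 = 3) (a : SD M2 (Gam F)) :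
    orderOf a ∣ 6 ∨ orderOf a ∣ 9 ∨ orderOf a ∣ Fintype.card F - 1 ∨
      orderOf a ∣ (Fintype.card F + 1) / 2 := by
  obtain ⟨B, γ⟩ := a
  obtain ⟨u, x⟩ := γ
  obtain ⟨g, rfl⟩ := QuotientGroup.mk_surjective x
  show orderOf (⟨B, Gam.mk u (QuotientGroup.mk g)⟩ : SD M2 (Gam F)) ∣ 6 ∨
    orderOf (⟨B, Gam.mk u (QuotientGroup.mk g)⟩ : SD M2 (Gam F)) ∣ 9 ∨
    orderOf (⟨B, Gam.mk u (QuotientGroup.mk g)⟩ : SD M2 (Gam F)) ∣ Fintype.card F - 1 ∨
    orderOf (⟨B, Gam.mk u (QuotientGroup.mk g)⟩ : SD M2 (Gam F)) ∣ (Fintype.card F + 1) / 2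
  set τ := (g : M2) 0 0 + (g : M2) 1 1 with hτ
  set e : F := ((u : ℤ) : F) with he
  have hgcd : Nat.gcd 2 (Fintype.card F - 1) = 2 := by
    apply Nat.gcd_eq_left
    omega
  by_cases hcase : e * τ ^ 3 = τ
  · -- special elements
    have h3 := three_smul_M2 (F := F)
    by_cases hτ0 : τ = 0
    · left
      have hg2 : (g : M2) * (g : M2) = -1 := by
        rw [cayley_hamilton_two (g : M2) g.2, ← hτ, hτ0, zero_smul, zero_sub]
      have hx2 : (QuotientGroup.mk g : ProjectiveSpecialLinearGroup (Fin 2) F) ^ 2 = 1 := by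
        rw [mk_pow_eq_one_iff]
        exact ⟨-1, by rw [pow_two, hg2, neg_smul, one_smul]⟩
      have hγ : (Gam.mk u (QuotientGroup.mk g) : Gam F) ^ 2 = 1 :=
        Gam.pow_eq_one _ 2 (by show u ^ 2 = 1; rw [pow_two]; exact Int.units_mul_self u) hx2
      exact orderOf_dvd_of_pow_eq_one
        (SD.pow_mul_eq_one 3 h3 (⟨B, Gam.mk u (QuotientGroup.mk g)⟩ : SD M2 (Gam F)) 2 hγ)
    · have hτ2 : e * τ ^ 2 = 1 := by
        have : τ * (e * τ ^ 2 - 1) = 0 := by linear_combination hcase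
        rcases mul_eq_zero.mp this with h | h
        · exact absurd h hτ0
        · exact sub_eq_zero.mp h
      rcases Int.units_eq_one_or u with rfl | rfl
      · right; left
        have he1 : e = 1 := by simp [he]
        rw [he1, one_mul] at hτ2
        have hg2 := cayley_hamilton_two (g : M2) g.2
        rw [← hτ] at hg2
        have hg3 : (g : M2) ^ 3 = (-τ) • (1 : M2) := by
          rw [pow_succ, pow_two, hg2, sub_mul, smul_mul_assoc, hg2, Matrix.one_mul, smul_sub,
            smul_smul, ← pow_two, hτ2, one_smul]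
          rw [neg_smul]
          abel
        have hx3 : (QuotientGroup.mk g : ProjectiveSpecialLinearGroup (Fin 2) F) ^ 3 = 1 := by
          rw [mk_pow_eq_one_iff]
          exact ⟨-τ, hg3⟩
        have hγ : (Gam.mk 1 (QuotientGroup.mk g) : Gam F) ^ 3 = 1 :=
          Gam.pow_eq_one _ 3 (by show (1 : ℤˣ) ^ 3 = 1; rw [one_pow]) hx3
        exact orderOf_dvd_of_pow_eq_one
          (SD.pow_mul_eq_one 3 h3 (⟨B, Gam.mk 1 (QuotientGroup.mk g)⟩ : SD M2 (Gam F)) 3 hγ)
      · exfalso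
        have he1 : e = -1 := by simp [he]
        rw [he1] at hτ2
        have hsq : IsSquare (-1 : F) := ⟨τ, by linear_combination hτ2⟩
        rw [FiniteField.isSquare_neg_one_iff] at hsq
        omega
  · -- generic elements: conjugate into the complement
    have hinj : Function.Injective
        (fun X : M2 => X - (Gam.mk u (QuotientGroup.mk g) : Gam F) • X) := by
      intro X Y hXY
      simp only at hXY
      have h0 : (Gam.mk u (QuotientGroup.mk g) : Gam F) • (X - Y) = X - Y := by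
        rw [smul_sub]
        have : X - Y = (Gam.mk u (QuotientGroup.mk g) : Gam F) • X -
            (Gam.mk u (QuotientGroup.mk g) : Gam F) • Y := by
          have h9 := hXY
          rw [sub_eq_sub_iff_sub_eq_sub] at h9
          exact h9
        exact this.symm
      have := fixed_eq_zero u g (X - Y) hcase h0
      exact sub_eq_zero.mp this
    have hsurj := Finite.surjective_of_injective hinj
    obtain ⟨w, hw⟩ := hsurj (-B)
    have hord := SD.orderOf_of_fpf (⟨B, Gam.mk u (QuotientGroup.mk g)⟩ : SD M2 (Gam F)) w hw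
    rw [hord, Gam.orderOf_eq]
    have hu := orderOf_unit_dvd_two u
    have hx := PSL2_orderOf_dvd 3 (QuotientGroup.mk g : ProjectiveSpecialLinearGroup (Fin 2) F)
    rw [hgcd] at hx
    show Nat.lcm (orderOf u) (orderOf (QuotientGroup.mk g : ProjectiveSpecialLinearGroup (Fin 2) F)) ∣ 6 ∨ _
    rcases hx with hx | hx | hx
    · left
      exact Nat.lcm_dvd (hu.trans (by norm_num)) (hx.trans (by norm_num))
    · right; right; left
      have h2 : (2 : ℕ) ∣ Fintype.card F - 1 := by omega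
      have h3 : (Fintype.card F - 1) / 2 ∣ Fintype.card F - 1 := Nat.div_dvd_of_dvd h2
      exact Nat.lcm_dvd (hu.trans h2) (hx.trans h3)
    · right; right; right
      have h2 : (2 : ℕ) ∣ (Fintype.card F + 1) / 2 := by omega
      exact Nat.lcm_dvd (hu.trans h2) hx

theorem orderOf_neg_one_unit : orderOf (-1 : ℤˣ) = 2 := by
  apply orderOf_eq_prime
  · decide
  · decide

theorem orderOf_inr_mk (u : ℤˣ) (x : ProjectiveSpecialLinearGroup (Fin 2) F) :
    orderOf (SD.inr (Gam.mk u x) : SD M2 (Gam F)) = Nat.lcm (orderOf u) (orderOf x) := by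
  rw [SD.orderOf_inr, Gam.orderOf_eq]
  rfl

theorem exists_orderOf_six : ∃ a : SD M2 (Gam F), orderOf a = 6 := by
  obtain ⟨x, hx⟩ := exists_orderOf_eq_char (F := F) 3
  refine ⟨SD.inr (Gam.mk (-1) x), ?_⟩
  rw [orderOf_inr_mk, hx, orderOf_neg_one_unit]
  rfl

theorem exists_orderOf_split (hq : Fintype.card F % 8 = 3) (h4 : 4 ≤ Fintype.card F) :
    ∃ a : SD M2 (Gam F), orderOf a = Fintype.card F - 1 := by
  have hgcd : Nat.gcd 2 (Fintype.card F - 1) = 2 := by
    apply Nat.gcd_eq_left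
    omega
  obtain ⟨x, hx⟩ := exists_orderOf_eq_split (F := F) 3 h4
  rw [hgcd] at hx
  refine ⟨SD.inr (Gam.mk (-1) x), ?_⟩
  rw [orderOf_inr_mk, hx, orderOf_neg_one_unit]
  have hodd : Nat.Coprime 2 ((Fintype.card F - 1) / 2) := by
    rw [Nat.coprime_two_left, Nat.odd_iff]
    omega
  rw [hodd.lcm_eq_mul]
  omega

theorem exists_orderOf_nonsplit (hq : Fintype.card F % 8 = 3) :
    ∃ a : SD M2 (Gam F), orderOf a = (Fintype.card F + 1) / 2 := by
  have hgcd : Nat.gcd 2 (Fintype.card F - 1) = 2 := by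
    apply Nat.gcd_eq_left
    omega
  obtain ⟨x, hx⟩ := exists_orderOf_eq_nonsplit (F := F) 3
  rw [hgcd] at hx
  refine ⟨SD.inr (Gam.mk 1 x), ?_⟩
  rw [orderOf_inr_mk, hx, orderOf_one, Nat.lcm_one_left]

theorem exists_orderOf_nine : ∃ a : SD M2 (Gam F), orderOf a = 9 := by
  set γ : Gam F := Gam.mk 1 (QuotientGroup.mk (tSL (1 : F))) with hγ
  set E : M2 := !![0, 0; 0, 1] with hE
  refine ⟨⟨E, γ⟩, ?_⟩
  have hγ3 : γ ^ 3 = 1 := by
    apply Gam.pow_eq_one
    · show (1 : ℤˣ) ^ 3 = 1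
      rw [one_pow]
    · show (QuotientGroup.mk (tSL (1 : F)) : ProjectiveSpecialLinearGroup (Fin 2) F) ^ 3 = 1
      rw [← QuotientGroup.mk_pow, tSL_pow]
      have : ((3 : ℕ) : F) = 0 := CharP.cast_eq_zero F 3
      rw [this, zero_mul, tSL_zero]
      rfl
  have h9 : (⟨E, γ⟩ : SD M2 (Gam F)) ^ (3 ^ (1 + 1)) = 1 := by
    have := SD.pow_mul_eq_one 3 (three_smul_M2 (F := F)) (⟨E, γ⟩ : SD M2 (Gam F)) 3 hγ3
    exact this
  have h3 : ¬ (⟨E, γ⟩ : SD M2 (Gam F)) ^ (3 ^ 1) = 1 := by
    intro h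
    have hv := congrArg SD.v h
    rw [pow_one, pow_succ, pow_two] at hv
    simp only [SD.mul_v, SD.mul_h, SD.one_v] at hv
    rw [mul_smul] at hv
    have hs : ∀ X : M2, γ • X = (tSL (1 : F) : M2) * (X * tw (tSL (1 : F) : M2)) := by
      intro X
      rw [hγ, smul_mk, one_smul]
    have htw : tw (tSL (1 : F) : M2) = !![1, 0; 1, 1] := by
      unfold tw
      ext i j
      fin_cases i <;> fin_cases j <;> simp [frobenius_def]
    simp only [hs] at hv
    rw [htw, tSL_coe, hE] at hv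
    have h00 := congrFun (congrFun hv 0) 0
    simp at h00
    have h3F : ((3 : ℕ) : F) = 0 := CharP.cast_eq_zero F 3
    have : (1 : F) = 0 := by
      have h3' : (3 : F) = 0 := by exact_mod_cast h3F
      linear_combination 2 * h3' - h00
    exact one_ne_zero this
  have := orderOf_eq_prime_pow h3 h9
  rw [this]
  norm_num

/-- the maximal element orders. -/
theorem max_orders (hq : Fintype.card F % 8 = 3) (h27 : 27 ≤ Fintype.card F)
    (h3 : 3 ∣ Fintype.card F) :
    {n : ℕ | n ∈ Set.range (orderOf : SD M2 (Gam F) → ℕ) ∧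
      ∀ m ∈ Set.range (orderOf : SD M2 (Gam F) → ℕ), n ∣ m → m = n} =
      ({6, 9, Fintype.card F - 1, (Fintype.card F + 1) / 2} : Set ℕ) := by
  set q := Fintype.card F with hqdef
  obtain ⟨a6, ha6⟩ := exists_orderOf_six (F := F)
  obtain ⟨a9, ha9⟩ := exists_orderOf_nine (F := F)
  obtain ⟨aC, haC⟩ := exists_orderOf_split (F := F) hq (by omega)
  obtain ⟨aD, haD⟩ := exists_orderOf_nonsplit (F := F) hq
  obtain ⟨k3, hk3⟩ := h3
  -- incomparability facts
  have f1 : ∀ n N : ℕ, n ∈ ({6, 9, q - 1, (q + 1) / 2} : Set ℕ) →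
      N ∈ ({6, 9, q - 1, (q + 1) / 2} : Set ℕ) → n ∣ N → n = N := by
    intro n N hn hN hdvd
    simp only [Set.mem_insert_iff, Set.mem_singleton_iff] at hn hN
    rcases hn with rfl | rfl | rfl | rfl <;> rcases hN with rfl | rfl | rfl | rfl
    all_goals first
      | rfl
      | (exfalso; obtain ⟨c, hc⟩ := hdvd; omega)
      | (exfalso
         have hle := Nat.le_of_dvd (by omega) hdvd
         omega)
      | (exfalso
         have hD2 : (q + 1) / 2 ∣ q + 1 := Nat.div_dvd_of_dvd (by omega)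
         have h5 : (q + 1) / 2 ∣ (q + 1) - (q - 1) := Nat.dvd_sub hD2 hdvd
         have h6 : (q + 1) - (q - 1) = 2 := by omega
         rw [h6] at h5
         have hle := Nat.le_of_dvd (by norm_num) h5
         omega)
  ext n
  simp only [Set.mem_ofPred_eq, Set.mem_range]
  constructor
  · rintro ⟨⟨a, rfl⟩, hmax⟩
    rcases orderOf_dvd_cases hq a with h | h | h | h
    · have := hmax 6 ⟨a6, ha6⟩ h
      rw [← this]; simp
    · have := hmax 9 ⟨a9, ha9⟩ h
      rw [← this]; simp
    · have := hmax (q - 1) ⟨aC, haC⟩ h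
      rw [← this]; simp
    · have := hmax ((q + 1) / 2) ⟨aD, haD⟩ h
      rw [← this]; simp
  · intro hn
    have hex : ∃ y : SD M2 (Gam F), orderOf y = n := by
      simp only [Set.mem_insert_iff, Set.mem_singleton_iff] at hn
      rcases hn with rfl | rfl | rfl | rfl
      · exact ⟨a6, ha6⟩
      · exact ⟨a9, ha9⟩
      · exact ⟨aC, haC⟩
      · exact ⟨aD, haD⟩
    refine ⟨hex, ?_⟩
    rintro m ⟨b, rfl⟩ hdvd
    rcases orderOf_dvd_cases hq b with h | h | h | h
    · have e := f1 n 6 hn (by simp) (hdvd.trans h)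
      rw [e] at hdvd ⊢
      exact Nat.dvd_antisymm h hdvd
    · have e := f1 n 9 hn (by simp) (hdvd.trans h)
      rw [e] at hdvd ⊢
      exact Nat.dvd_antisymm h hdvd
    · have e := f1 n (q - 1) hn (by simp) (hdvd.trans h)
      rw [e] at hdvd ⊢
      exact Nat.dvd_antisymm h hdvd
    · have e := f1 n ((q + 1) / 2) hn (by simp) (hdvd.trans h)
      rw [e] at hdvd ⊢
      exact Nat.dvd_antisymm h hdvd

end orders

end Cfsg.Agent.H4Ree
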