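import Mathlib

set_option autoImplicit false
set_option linter.style.haveILetI false

namespace Cfsg.Agent.H4S2513


open Matrix

section two
variable {F : Type*} [Field F] [Fintype F]

theorem eq_zero_or_one_of_card_two (hF : Fintype.card F = 2) (r : F) : r = 0 ∨ r = 1 := by
  classical
  by_contra hcon
  push Not at hcon
  have h3 : ({0, 1, r} : Finset F).card = 3 := by
    rw [Finset.card_insert_of_notMem, Finset.card_insert_of_notMem, Finset.card_singleton]
    · simpa using hcon.2.symm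
    · simp only [Finset.mem_insert, Finset.mem_singleton, not_or]
      exact ⟨zero_ne_one, hcon.1.symm⟩
  have := Finset.card_le_univ ({0, 1, r} : Finset F)
  omega

theorem unit_eq_one_of_card_two (hF : Fintype.card F = 2) {r : F} (hr : r ≠ 0) : r = 1 :=
  (eq_zero_or_one_of_card_two hF r).resolve_left hr

variable (n : ℕ)

theorem center_SL_eq_bot (hF : Fintype.card F = 2) (hn : 1 ≤ n) :
    Subgroup.center (Matrix.SpecialLinearGroup (Fin n) F) = ⊥ := by
  rw [eq_bot_iff]
  intro A hA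
  rw [Matrix.SpecialLinearGroup.mem_center_iff] at hA
  obtain ⟨r, hr, hA⟩ := hA
  have hr0 : r ≠ 0 := by
    rintro rfl
    rw [Fintype.card_fin, zero_pow (by omega)] at hr
    exact zero_ne_one hr
  have hr1 := unit_eq_one_of_card_two hF hr0
  subst hr1
  rw [Subgroup.mem_bot]
  ext i j
  rw [← hA]
  simp

/-- `SL(n,2) ≃* GL(V)`. -/
noncomputable def slEquiv (hF : Fintype.card F = 2) :
    Matrix.SpecialLinearGroup (Fin n) F ≃* ((Fin n → F) ≃ₗ[F] (Fin n → F)) :=
  MulEquiv.ofBijective Matrix.SpecialLinearGroup.toLin' ⟨Matrix.SpecialLinearGroup.toLin'_injective, by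
    intro g
    have hdet : (LinearMap.toMatrix' (g : (Fin n → F) →ₗ[F] (Fin n → F))).det = 1 := by
      apply unit_eq_one_of_card_two hF
      have := LinearEquiv.isUnit_det' g
      rw [← LinearMap.det_toMatrix'] at this
      exact this.ne_zero
    refine ⟨⟨LinearMap.toMatrix' (g : (Fin n → F) →ₗ[F] (Fin n → F)), hdet⟩, ?_⟩
    apply LinearEquiv.toLinearMap_injective
    change Matrix.toLin' (LinearMap.toMatrix' (g : (Fin n → F) →ₗ[F] (Fin n → F))) = _
    simp⟩

/-- `PSL(n,2) ≃* GL(V)`. -/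
noncomputable def pslEquiv (hF : Fintype.card F = 2) (hn : 1 ≤ n) :
    Matrix.ProjectiveSpecialLinearGroup (Fin n) F ≃* ((Fin n → F) ≃ₗ[F] (Fin n → F)) :=
  ((QuotientGroup.quotientMulEquivOfEq (center_SL_eq_bot n hF hn)).trans
    QuotientGroup.quotientBot).trans (slEquiv n hF)

end two



theorem card_dvd_of_free {G X : Type*} [Group G] [MulAction G X] [Finite G] [Finite X]
    (hfree : ∀ (g : G) (x : X), g • x = x → g = 1) : Nat.card G ∣ Nat.card X := by
  classical
  haveI : Fintype G := Fintype.ofFinite G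
  haveI : Fintype X := Fintype.ofFinite X
  haveI : Fintype (MulAction.orbitRel.Quotient G X) := Fintype.ofFinite _
  rw [Nat.card_eq_fintype_card, Nat.card_eq_fintype_card,
    MulAction.card_eq_sum_card_group_div_card_stabilizer G X]
  apply Finset.dvd_sum
  intro ω _
  have h1 : MulAction.stabilizer G (Quotient.out ω) = ⊥ := by
    rw [eq_bot_iff]
    intro g hg
    rw [Subgroup.mem_bot]
    exact hfree g _ (MulAction.mem_stabilizer_iff.mp hg)
  have h2 : Fintype.card (MulAction.stabilizer G (Quotient.out ω)) = 1 := by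
    rw [Fintype.card_eq_one_iff]
    refine ⟨1, ?_⟩
    rintro ⟨g, hg⟩
    rw [h1, Subgroup.mem_bot] at hg
    subst hg
    rfl
  rw [h2, Nat.div_one]



section bound
variable {F V : Type*} [Field F] [Fintype F] [AddCommGroup V] [Module F V] [Module.Finite F V]

/-- the points moved by `z`, as a sub-action of `⟨h⟩`, where `z` is a power of `h` -/
def movedSub (h z : V ≃ₗ[F] V) (hz : z ∈ Subgroup.zpowers h) :
    SubMulAction (Subgroup.zpowers h) V where
  carrier := {v | z v ≠ v}
  smul_mem' := by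
    rintro ⟨g, hg⟩ v hv
    simp only [Set.mem_ofPred_eq] at hv ⊢
    intro hcon
    apply hv
    have hcomm : z * g = g * z := by
      obtain ⟨i, rfl⟩ := hz
      obtain ⟨j, rfl⟩ := hg
      exact ((Commute.refl h).zpow_zpow i j).eq
    have h1 : g (z v) = g v := by
      have : (z * g) v = g v := hcon
      rw [hcomm] at this
      exact this
    exact g.injective h1

theorem prime_pow_order_bound (hF : Fintype.card F = 2) (h : V ≃ₗ[F] V) (r e : ℕ)
    (hr : r.Prime) (hr2 : r ≠ 2) (he : 1 ≤ e) (ho : orderOf h = r ^ e) :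
    ∃ d, 1 ≤ d ∧ d ≤ Module.finrank F V ∧ r ^ e ∣ 2 ^ d - 1 := by
  classical
  haveI : Finite V := Module.finite_of_finite F
  set z : V ≃ₗ[F] V := h ^ (r ^ (e - 1)) with hzdef
  have hzmem : z ∈ Subgroup.zpowers h := ⟨((r ^ (e - 1) : ℕ) : ℤ), by simp only [zpow_natCast, hzdef]⟩
  have hz1 : z ≠ 1 := by
    intro h1
    have : orderOf h ∣ r ^ (e - 1) := orderOf_dvd_of_pow_eq_one h1
    rw [ho] at this
    have h2 := (Nat.pow_dvd_pow_iff_le_right hr.one_lt).mp this
    omega
  -- the fixed space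
  let U : Submodule F V := LinearMap.ker ((z : V →ₗ[F] V) - LinearMap.id)
  have hU : ∀ v, v ∈ U ↔ z v = v := by
    intro v
    simp only [U, LinearMap.mem_ker, LinearMap.sub_apply, LinearMap.id_apply, sub_eq_zero]
    rfl
  have hUtop : U ≠ ⊤ := by
    intro htop
    apply hz1
    ext v
    have : v ∈ U := htop ▸ Submodule.mem_top
    exact (hU v).mp this
  have hu := Submodule.finrank_lt hUtop
  set n := Module.finrank F V with hn
  set u := Module.finrank F U with hu'
  have hcF : Nat.card F = 2 := by rw [Nat.card_eq_fintype_card, hF]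
  have hcV : Nat.card V = 2 ^ n := by
    rw [Module.natCard_eq_pow_finrank (K := F), hcF]
  have hcU : Nat.card U = 2 ^ u := by
    rw [Module.natCard_eq_pow_finrank (K := F), hcF]
  -- the action
  let X := movedSub h z hzmem
  have hXc : Nat.card X = 2 ^ n - 2 ^ u := by
    have h1 : (X : Set V) = (U : Set V)ᶜ := by
      ext v
      simp only [Set.mem_compl_iff, SetLike.mem_coe, hU]
      rfl
    have h2 := Set.ncard_add_ncard_compl (U : Set V)
    rw [← h1, ← Nat.card_coe_set_eq, ← Nat.card_coe_set_eq, hcV] at h2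
    have h3 : Nat.card (U : Set V) = 2 ^ u := hcU
    have h4 : Nat.card (X : Set V) = Nat.card X := rfl
    omega
  have hfree : ∀ (g : Subgroup.zpowers h) (x : X), g • x = x → g = 1 := by
    rintro ⟨g, hg⟩ ⟨v, hv⟩ hgx
    have hgv : g • v = v := congrArg Subtype.val hgx
    have hzv : z v ≠ v := hv
    -- the period of v under h
    have hp1 : MulAction.period h v ∣ r ^ e := by
      rw [← MulAction.pow_smul_eq_iff_period_dvd, ← ho, pow_orderOf_eq_one, one_smul]
    obtain ⟨a, ha, hpa⟩ := (Nat.dvd_prime_pow hr).mp hp1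
    have hae : a = e := by
      by_contra hne
      have : a ≤ e - 1 := by omega
      apply hzv
      have h3 : MulAction.period h v ∣ r ^ (e - 1) := by
        rw [hpa]; exact pow_dvd_pow r this
      exact MulAction.pow_smul_eq_iff_period_dvd.mpr h3
    obtain ⟨i, rfl⟩ := hg
    have h4 : ((MulAction.period h v : ℕ) : ℤ) ∣ i :=
      MulAction.zpow_smul_eq_iff_period_dvd.mp hgv
    rw [hpa, hae, ← ho] at h4
    have : h ^ i = 1 := orderOf_dvd_iff_zpow_eq_one.mp h4
    exact Subtype.ext this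
  haveI : Finite (V ≃ₗ[F] V) := Finite.of_injective (fun g => (g : V → V)) DFunLike.coe_injective
  have hdiv := card_dvd_of_free hfree
  rw [Nat.card_zpowers, ho, hXc] at hdiv
  refine ⟨n - u, by omega, by omega, ?_⟩
  have h5 : 2 ^ n - 2 ^ u = 2 ^ u * (2 ^ (n - u) - 1) := by
    rw [Nat.mul_sub, mul_one, ← pow_add]
    congr 2
    omega
  rw [h5] at hdiv
  have hcop : Nat.Coprime (r ^ e) (2 ^ u) := by
    apply Nat.Coprime.pow
    rw [Nat.coprime_primes hr Nat.prime_two]
    exact hr2
  exact hcop.dvd_of_dvd_mul_left hdiv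

end bound



section transport
variable {F : Type*} [Field F]

/-- `HasOrd F a x`: `GL(F^a)` has an element of order `x`. -/
def HasOrd (F : Type*) [Field F] (a x : ℕ) : Prop :=
  ∃ g : (Fin a → F) ≃ₗ[F] (Fin a → F), orderOf g = x

/-- conjugation by a linear equivalence -/
def autCongr {W W' : Type*} [AddCommGroup W] [Module F W] [AddCommGroup W'] [Module F W']
    (e : W ≃ₗ[F] W') : (W ≃ₗ[F] W) ≃* (W' ≃ₗ[F] W') where
  toFun g := e.symm.trans (g.trans e)
  invFun g := e.trans (g.trans e.symm)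
  left_inv g := by ext; simp
  right_inv g := by ext; simp
  map_mul' g g' := by ext; simp [LinearEquiv.mul_apply]

theorem hasOrd_of_linearEquiv {W : Type*} [AddCommGroup W] [Module F W] [Module.Finite F W]
    (g : W ≃ₗ[F] W) : HasOrd F (Module.finrank F W) (orderOf g) := by
  let e : W ≃ₗ[F] (Fin (Module.finrank F W) → F) :=
    LinearEquiv.ofFinrankEq _ _ (by rw [Module.finrank_fin_fun])
  exact ⟨autCongr e g, (autCongr e).orderOf_eq g⟩

theorem HasOrd.exists_linearEquiv {W : Type*} [AddCommGroup W] [Module F W] [Module.Finite F W]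
    {x : ℕ} (h : HasOrd F (Module.finrank F W) x) : ∃ g : W ≃ₗ[F] W, orderOf g = x := by
  obtain ⟨g, hg⟩ := h
  let e : W ≃ₗ[F] (Fin (Module.finrank F W) → F) :=
    LinearEquiv.ofFinrankEq _ _ (by rw [Module.finrank_fin_fun])
  exact ⟨(autCongr e).symm g, by rw [(autCongr e).symm.orderOf_eq g, hg]⟩

theorem HasOrd.of_dvd {a x y : ℕ} (h : HasOrd F a x) (hx : x ≠ 0) (hy : y ∣ x) : HasOrd F a y := by
  obtain ⟨g, rfl⟩ := h
  exact ⟨g ^ (orderOf g / y), orderOf_pow_orderOf_div hx hy⟩

theorem hasOrd_one (a : ℕ) : HasOrd F a 1 := ⟨1, orderOf_one⟩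

/-- block sum -/
def prodHom (W₁ W₂ : Type*) [AddCommGroup W₁] [Module F W₁] [AddCommGroup W₂] [Module F W₂] :
    (W₁ ≃ₗ[F] W₁) × (W₂ ≃ₗ[F] W₂) →* ((W₁ × W₂) ≃ₗ[F] (W₁ × W₂)) where
  toFun p := p.1.prodCongr p.2
  map_one' := by ext <;> simp
  map_mul' p q := by ext <;> simp [LinearEquiv.mul_apply]

theorem prodHom_injective (W₁ W₂ : Type*) [AddCommGroup W₁] [Module F W₁] [AddCommGroup W₂]
    [Module F W₂] : Function.Injective (prodHom (F := F) W₁ W₂) := by
  rintro ⟨g₁, g₂⟩ ⟨g₁', g₂'⟩ h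
  have h1 : ∀ w : W₁ × W₂, (prodHom W₁ W₂ (g₁, g₂)) w = (prodHom W₁ W₂ (g₁', g₂')) w := by
    intro w; rw [h]
  refine Prod.ext ?_ ?_
  · ext w
    have := congrArg Prod.fst (h1 (w, 0))
    simpa [prodHom] using this
  · ext w
    have := congrArg Prod.snd (h1 (0, w))
    simpa [prodHom] using this

theorem HasOrd.add {a b x y : ℕ} (h1 : HasOrd F a x) (h2 : HasOrd F b y) :
    HasOrd F (a + b) (Nat.lcm x y) := by
  obtain ⟨g₁, rfl⟩ := h1
  obtain ⟨g₂, rfl⟩ := h2
  have h3 := hasOrd_of_linearEquiv (prodHom (F := F) (Fin a → F) (Fin b → F) (g₁, g₂))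
  rw [orderOf_injective _ (prodHom_injective _ _), Prod.orderOf] at h3
  simpa using h3

end transport

section singer
variable {F : Type*} [Field F] [Fintype F]

theorem hasOrd_singer (hF : Fintype.card F = 2) (a : ℕ) (ha : 1 ≤ a) : HasOrd F a (2 ^ a - 1) := by
  classical
  haveI : Fact (Nat.Prime 2) := ⟨Nat.prime_two⟩
  let e : ZMod 2 ≃+* F := ZMod.ringEquivOfPrime F Nat.prime_two hF
  let K := GaloisField 2 a
  letI : Algebra F K := ((algebraMap (ZMod 2) K).comp (e.symm : F →+* ZMod 2)).toAlgebra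
  haveI : Finite K := inferInstance
  haveI : Module.Finite F K := Module.Finite.of_finite
  have hcK : Nat.card K = 2 ^ a := GaloisField.card 2 a (by omega)
  have hcF : Nat.card F = 2 := by rw [Nat.card_eq_fintype_card, hF]
  have hfr : Module.finrank F K = a := by
    have h1 := Module.natCard_eq_pow_finrank (K := F) (V := K)
    rw [hcK, hcF] at h1
    exact (Nat.pow_right_injective (le_refl 2) h1).symm
  obtain ⟨ζ, hζ⟩ := IsCyclic.exists_generator (α := Kˣ)
  have hoζ : orderOf ζ = 2 ^ a - 1 := by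
    rw [orderOf_eq_card_of_forall_mem_zpowers hζ, Nat.card_units, hcK]
  let φ : Kˣ →* (K ≃ₗ[F] K) := DistribMulAction.toModuleAut F K
  have hφ : Function.Injective φ := by
    intro u u' h
    have h1 : φ u 1 = φ u' 1 := by rw [h]
    have h2 : (u : K) * 1 = (u' : K) * 1 := h1
    rw [mul_one, mul_one] at h2
    exact Units.ext h2
  have h3 := hasOrd_of_linearEquiv (φ ζ)
  rw [orderOf_injective φ hφ, hoζ, hfr] at h3
  exact h3

end singer



section arith

theorem prime_pow_dvd_lcm {p e x y : ℕ} (hp : p.Prime) (h : p ^ e ∣ Nat.lcm x y) :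
    p ^ e ∣ x ∨ p ^ e ∣ y := by
  rcases eq_or_ne x 0 with rfl | hx
  · left; exact dvd_zero _
  rcases eq_or_ne y 0 with rfl | hy
  · right; exact dvd_zero _
  rw [hp.pow_dvd_iff_le_factorization (Nat.lcm_ne_zero hx hy), Nat.factorization_lcm hx hy] at h
  rw [hp.pow_dvd_iff_le_factorization hx, hp.pow_dvd_iff_le_factorization hy]
  simpa using h

theorem prime_pow_dvd_finset_lcm {ι : Type*} {p e : ℕ} (hp : p.Prime) (he : 1 ≤ e)
    (s : Finset ι) (g : ι → ℕ) (h : p ^ e ∣ s.lcm g) : ∃ i ∈ s, p ^ e ∣ g i := by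
  classical
  induction s using Finset.induction_on with
  | empty =>
    rw [Finset.lcm_empty, Nat.dvd_one] at h
    have := Nat.one_lt_pow (by omega) hp.one_lt (n := e)
    omega
  | insert a s ha ih =>
    rw [Finset.lcm_insert] at h
    rcases prime_pow_dvd_lcm hp h with h1 | h1
    · exact ⟨a, Finset.mem_insert_self _ _, h1⟩
    · obtain ⟨i, hi, hd⟩ := ih h1
      exact ⟨i, Finset.mem_insert_of_mem hi, hd⟩

end arith

section pack
variable {G : Type*} [Group G] [Finite G]

theorem exists_orderOf_eq_prime_pow {k : ℕ} (f : Fin k → G) {p e : ℕ} (hp : p.Prime)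
    (h : p ^ e ∣ orderOf f) : ∃ x : G, orderOf x = p ^ e := by
  rcases Nat.eq_zero_or_pos e with rfl | he
  · exact ⟨1, by simp⟩
  rw [Pi.orderOf] at h
  obtain ⟨i, -, hi⟩ := prime_pow_dvd_finset_lcm hp he _ _ h
  exact ⟨f i ^ (orderOf (f i) / p ^ e), orderOf_pow_orderOf_div (orderOf_pos _).ne' hi⟩

omit [Finite G] in
theorem spec_mono {k k' : ℕ} (h : k ≤ k') :
    Set.range (orderOf : (Fin k → G) → ℕ) ⊆ Set.range (orderOf : (Fin k' → G) → ℕ) := by
  rintro _ ⟨g, rfl⟩
  refine ⟨fun i => if hi : i.val < k then g ⟨i.val, hi⟩ else 1, ?_⟩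
  rw [orderOf_eq_orderOf_iff]
  intro m
  constructor
  · intro h1
    funext j
    have := congrFun h1 ⟨j.val, by omega⟩
    simpa using this
  · intro h1
    funext i
    by_cases hi : i.val < k
    · have := congrFun h1 ⟨i.val, hi⟩
      simpa [hi] using this
    · simp [hi]

/-- the abstract packing argument -/
theorem pack (n : ℕ) (c : ℕ → ℕ)
    (hbound : ∀ (x : G) (r e : ℕ), r.Prime → r ≠ 2 → 1 ≤ e → orderOf x = r ^ e →
      ∃ d, 1 ≤ d ∧ d ≤ n ∧ r ^ e ∣ 2 ^ d - 1)
    (hreal : ∀ j, 2 * j < n → c j ≠ 0 ∧ ∃ x : G, orderOf x = c j)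
    (hslot : ∀ d, 1 ≤ d → d ≤ n → ∃ j, 2 * j < n ∧ 2 ^ d - 1 ∣ c j)
    {k : ℕ} (f : Fin k → G) : ∃ g : Fin ((n + 3) / 2) → G, orderOf g = orderOf f := by
  classical
  set N := orderOf f with hN
  have hNpos : 0 < N := orderOf_pos f
  -- the components
  have hx : ∀ j, 2 * j < n → ∃ x : G, orderOf x = Nat.gcd N (c j) := by
    intro j hj
    obtain ⟨hc, x, hx⟩ := hreal j hj
    refine ⟨x ^ (orderOf x / Nat.gcd N (c j)), orderOf_pow_orderOf_div (hx ▸ hc) ?_⟩
    rw [hx]; exact Nat.gcd_dvd_right _ _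
  choose x hx using hx
  obtain ⟨y, hy⟩ := exists_orderOf_eq_prime_pow f Nat.prime_two (Nat.ordProj_dvd N 2)
  let g : Fin ((n + 3) / 2) → G := fun j => if h : 2 * j.val < n then x j.val h else y
  refine ⟨g, ?_⟩
  apply Nat.dvd_antisymm
  · apply orderOf_dvd_of_pow_eq_one
    funext j
    rw [Pi.pow_apply, Pi.one_apply, ← orderOf_dvd_iff_pow_eq_one]
    by_cases h : 2 * j.val < n
    · simp only [g, h, dite_true, hx]
      exact Nat.gcd_dvd_left _ _
    · simp only [g, h, dite_false, hy]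
      exact Nat.ordProj_dvd N 2
  · rw [Nat.dvd_iff_prime_pow_dvd_dvd]
    intro p e hp hpe
    rcases eq_or_ne p 2 with rfl | hp2
    · -- the 2-part
      have hj0 : (n + 1) / 2 < (n + 3) / 2 := by omega
      have h1 : g ⟨(n + 1) / 2, hj0⟩ = y := by
        have : ¬ 2 * ((n + 1) / 2) < n := by omega
        simp only [g, this, dite_false]
      have h2 : 2 ^ e ∣ orderOf (g ⟨(n + 1) / 2, hj0⟩) := by
        rw [h1, hy]
        apply pow_dvd_pow
        exact (hp.pow_dvd_iff_le_factorization hNpos.ne').mp hpe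
      exact h2.trans (orderOf_apply_dvd_orderOf _)
    · rcases Nat.eq_zero_or_pos e with rfl | he
      · simp
      obtain ⟨z, hz⟩ := exists_orderOf_eq_prime_pow f hp hpe
      obtain ⟨d, hd1, hdn, hd⟩ := hbound z p e hp hp2 he hz
      obtain ⟨j, hj, hjd⟩ := hslot d hd1 hdn
      have hjk : j < (n + 3) / 2 := by omega
      have h1 : g ⟨j, hjk⟩ = x j hj := by
        simp only [g, hj, dite_true]
      have h2 : p ^ e ∣ orderOf (g ⟨j, hjk⟩) := by
        rw [h1, hx]
        exact Nat.dvd_gcd hpe (hd.trans hjd)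
      exact h2.trans (orderOf_apply_dvd_orderOf _)

end pack


section final
variable {F : Type*} [Field F] [Fintype F]

/-- slot orders -/
def slotOrd (n j : ℕ) : ℕ := if j = 0 then 2 ^ n - 1 else Nat.lcm (2 ^ j - 1) (2 ^ (n - j) - 1)

theorem two_pow_sub_one_pos {a : ℕ} (ha : 1 ≤ a) : 1 ≤ 2 ^ a - 1 := by
  have := Nat.one_lt_two_pow (n := a) (by omega)
  omega

theorem slotOrd_ne_zero {n j : ℕ} (hj : 2 * j < n) : slotOrd n j ≠ 0 := by
  unfold slotOrd
  split_ifs with h
  · have := two_pow_sub_one_pos (a := n) (by omega); omega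
  · apply Nat.lcm_ne_zero
    · have := two_pow_sub_one_pos (a := j) (by omega); omega
    · have := two_pow_sub_one_pos (a := n - j) (by omega); omega

theorem hasOrd_slotOrd (hF : Fintype.card F = 2) {n j : ℕ} (hj : 2 * j < n) :
    HasOrd F n (slotOrd n j) := by
  unfold slotOrd
  split_ifs with h
  · exact hasOrd_singer hF n (by omega)
  · have h1 := (hasOrd_singer hF j (by omega)).add (hasOrd_singer hF (n - j) (by omega))
    have h2 : j + (n - j) = n := by omega
    rw [h2] at h1
    exact h1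

theorem slot_exists {n d : ℕ} (hd1 : 1 ≤ d) (hdn : d ≤ n) :
    ∃ j, 2 * j < n ∧ 2 ^ d - 1 ∣ slotOrd n j := by
  rcases eq_or_ne d n with rfl | hne
  · exact ⟨0, by omega, by simp [slotOrd]⟩
  rcases eq_or_ne (2 * d) n with h2 | h2
  · refine ⟨0, by omega, ?_⟩
    simp only [slotOrd, if_true]
    have := Nat.sub_dvd_pow_sub_pow (2 ^ d) 1 2
    rw [one_pow, ← pow_mul, mul_comm, h2] at this
    exact this
  by_cases h3 : 2 * d < n
  · refine ⟨d, h3, ?_⟩
    have : d ≠ 0 := by omega
    simp only [slotOrd, this, if_false]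
    exact Nat.dvd_lcm_left _ _
  · refine ⟨n - d, by omega, ?_⟩
    have : n - d ≠ 0 := by omega
    simp only [slotOrd, this, if_false]
    have h4 : n - (n - d) = d := by omega
    rw [h4]
    exact Nat.dvd_lcm_right _ _

theorem main (hF : Fintype.card F = 2) (n k : ℕ) (hn : 2 ≤ n) (hk : (n + 3) / 2 ≤ k) :
    Set.range (orderOf : (Fin k → Matrix.ProjectiveSpecialLinearGroup (Fin n) F) → ℕ) =
      Set.range (orderOf : (Fin ((n + 3) / 2) →
        Matrix.ProjectiveSpecialLinearGroup (Fin n) F) → ℕ) := by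
  classical
  let Φ := pslEquiv (F := F) n hF (by omega)
  haveI : Finite (Fin n → F) := inferInstance
  haveI : Finite ((Fin n → F) ≃ₗ[F] (Fin n → F)) :=
    Finite.of_injective (fun g => (g : (Fin n → F) → (Fin n → F))) DFunLike.coe_injective
  haveI : Finite (Matrix.ProjectiveSpecialLinearGroup (Fin n) F) :=
    Finite.of_equiv _ Φ.symm.toEquiv
  apply Set.Subset.antisymm
  · rintro _ ⟨f, rfl⟩
    refine pack n (slotOrd n) ?_ ?_ ?_ f
    · intro x r e hr hr2 he hx
      have := prime_pow_order_bound hF (Φ x) r e hr hr2 he (by rw [Φ.orderOf_eq, hx])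
      rw [Module.finrank_fin_fun] at this
      exact this
    · intro j hj
      refine ⟨slotOrd_ne_zero hj, ?_⟩
      obtain ⟨g, hg⟩ := hasOrd_slotOrd hF hj
      exact ⟨Φ.symm g, by rw [Φ.symm.orderOf_eq, hg]⟩
    · intro d hd1 hdn
      exact slot_exists hd1 hdn
  · exact spec_mono hk

end final

end Cfsg.Agent.H4S2513
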