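import Mathlib
import Cfsg.Agent.Lib.Helper4.OT2

set_option autoImplicit false

namespace Cfsg.Agent.Lib.Helper4.S43

open Cfsg.Agent.Lib.Helper4.OT SemidirectProduct

section generic

variable (T M : Type*) [Group T] [AddCommGroup M] [DistribMulAction T M]

/-- the hom `T →* MulAut (Multiplicative M)` of a distributive action. -/
def phiOf : T →* MulAut (Multiplicative M) :=
  (MulAutMultiplicative M).symm.toMonoidHom.comp (DistribMulAction.toAddAut T M)

variable {T M}

theorem phiOf_apply (t : T) (n : Multiplicative M) :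
    Multiplicative.toAdd (phiOf T M t n) = t • Multiplicative.toAdd n := rfl

theorem Lp_phiOf (t : T) (n : Multiplicative M) (d : ℕ) :
    Multiplicative.toAdd (Lp (phiOf T M) t n d) =
      ∑ i ∈ Finset.range d, t ^ i • Multiplicative.toAdd n := by
  induction d with
  | zero => simp [Lp]
  | succ d ih =>
    rw [Lp, toAdd_mul, phiOf_apply, ih, Finset.sum_range_succ', pow_zero, one_smul,
      Finset.smul_sum, add_comm]
    congr 1
    apply Finset.sum_congr rfl
    intro j _
    rw [smul_smul, pow_succ']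

variable (T M) in
/-- the semidirect product `M ⋊ T`. -/
abbrev SD := Multiplicative M ⋊[phiOf T M] T

theorem SD_pow_eq_one_iff (x : SD T M) (d : ℕ) :
    x ^ d = 1 ↔ x.right ^ d = 1 ∧
      ∑ i ∈ Finset.range d, x.right ^ i • Multiplicative.toAdd x.left = 0 := by
  rw [sd_pow_eq_one_iff, ← Lp_phiOf]
  constructor
  · rintro ⟨h1, h2⟩
    exact ⟨h1, by rw [h2]; rfl⟩
  · rintro ⟨h1, h2⟩
    exact ⟨h1, Multiplicative.toAdd.injective (by rw [h2]; rfl)⟩

theorem sum_pow_smul_mul (t : T) (m : M) (a q : ℕ) :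
    ∑ i ∈ Finset.range (a * q), t ^ i • m =
      ∑ j ∈ Finset.range a, t ^ j • ∑ i ∈ Finset.range q, (t ^ a) ^ i • m := by
  induction q with
  | zero => simp
  | succ q ih =>
    rw [Nat.mul_succ, Finset.sum_range_add, ih]
    simp_rw [Finset.sum_range_succ, smul_add]
    rw [Finset.sum_add_distrib]
    congr 1
    apply Finset.sum_congr rfl
    intro j _
    rw [smul_smul, ← pow_mul, ← pow_add, add_comm]

theorem sum_pow_smul_conj (k t : T) (m : M) (d : ℕ) :
    ∑ i ∈ Finset.range d, (k⁻¹ * t * k) ^ i • m =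
      k⁻¹ • ∑ i ∈ Finset.range d, t ^ i • (k • m) := by
  rw [Finset.smul_sum]
  apply Finset.sum_congr rfl
  intro i _
  have : ∀ i : ℕ, (k⁻¹ * t * k) ^ i = k⁻¹ * t ^ i * k := by
    intro i
    induction i with
    | zero => simp
    | succ i ih => rw [pow_succ, ih, pow_succ]; group
  rw [this, smul_smul, smul_smul]

theorem order_eq_of' {G : Type*} [Monoid G] {g : G} {n : ℕ} (ms : List ℕ) (hn : 0 < n)
    (h1 : g ^ n = 1) (h2 : ∀ m ∈ ms, g ^ m ≠ 1)
    (h3 : ∀ d ∈ n.divisors, d = n ∨ ∃ m ∈ ms, d ∣ m) : orderOf g = n := by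
  have hd : orderOf g ∈ n.divisors :=
    Nat.mem_divisors.mpr ⟨orderOf_dvd_of_pow_eq_one h1, hn.ne'⟩
  rcases h3 _ hd with h | ⟨m, hm, hdm⟩
  · exact h
  · exact absurd (orderOf_dvd_iff_pow_eq_one.mp hdm) (h2 m hm)

theorem exists_orderOf_eq_of_dvd' {G : Type*} [Monoid G] {g : G} {n d : ℕ} (hn : 0 < n)
    (h : orderOf g = n) (hd : d ∣ n) : ∃ g' : G, orderOf g' = d := by
  obtain ⟨e, rfl⟩ := hd
  have he0 : 0 < e := Nat.pos_of_ne_zero (by rintro rfl; simp at hn)
  refine ⟨g ^ e, ?_⟩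
  rw [orderOf_pow_of_dvd he0.ne' (by rw [h]; exact dvd_mul_left e d), h,
    Nat.mul_div_cancel _ he0]

end generic

/-- the field with 81 elements. -/
def K : Type := GaloisField 3 4

noncomputable instance : Field K := inferInstanceAs (Field (GaloisField 3 4))
instance : Finite K := inferInstanceAs (Finite (GaloisField 3 4))
noncomputable instance : Fintype K := Fintype.ofFinite K
instance : CharP K 3 := inferInstanceAs (CharP (GaloisField 3 4) 3)

theorem card_K : Fintype.card K = 81 := by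
  have := GaloisField.card 3 4 (by norm_num)
  rw [← Nat.card_eq_fintype_card]
  exact this

theorem pow81 (x : K) : x ^ 81 = x := by
  have := FiniteField.pow_card x
  rwa [card_K] at this

instance : Finite (K ≃+* K) :=
  Finite.of_injective (fun σ : K ≃+* K => (σ : K → K)) DFunLike.coe_injective

/-- 5th roots of unity. -/
noncomputable abbrev Mu5 : Subgroup Kˣ := rootsOfUnity 5 K

/-- Frobenius automorphism. -/
noncomputable def frobE : K ≃+* K := frobeniusEquiv K 3

theorem frobE_apply (x : K) : frobE x = x ^ 3 := by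
  simp [frobE, frobeniusEquiv_apply, frobenius_def]

/-- the Galois group. -/
noncomputable abbrev Phi4 : Subgroup (K ≃+* K) := Subgroup.zpowers frobE

theorem mul_apply' (σ τ : K ≃+* K) (x : K) : (σ * τ) x = σ (τ x) := rfl
theorem one_apply' (x : K) : (1 : K ≃+* K) x = x := rfl

/-- the action of the Galois group on roots of unity. -/
noncomputable def psiAct (σ : Phi4) (l : Mu5) : Mu5 :=
  ⟨Units.map ((σ : K ≃+* K) : K →* K) l.1, by
    have h := l.2
    rw [mem_rootsOfUnity] at h ⊢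
    rw [← map_pow, h, map_one]⟩

theorem psiAct_coe (σ : Phi4) (l : Mu5) : (((psiAct σ l : Mu5) : Kˣ) : K) = (σ : K ≃+* K) (l : Kˣ) := rfl

/-- the action hom. -/
noncomputable def psi : Phi4 →* MulAut Mu5 :=
  mkPhi psiAct
    (fun σ a b => by
      apply Subtype.ext; apply Units.ext
      simp [psiAct_coe])
    (fun σ τ a => by
      apply Subtype.ext; apply Units.ext
      simp [psiAct_coe])
    (fun a => by
      apply Subtype.ext; apply Units.ext
      simp [psiAct_coe])

theorem psi_apply (σ : Phi4) (l : Mu5) : psi σ l = psiAct σ l := rfl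

/-- the Frobenius group of order 20. -/
noncomputable abbrev H20 := Mu5 ⋊[psi] Phi4

noncomputable instance : SMul H20 K := ⟨fun h x => ((h.left : Kˣ) : K) * (h.right : K ≃+* K) x⟩

theorem smul_def (h : H20) (x : K) : h • x = ((h.left : Kˣ) : K) * (h.right : K ≃+* K) x := rfl

noncomputable instance : DistribMulAction H20 K where
  one_smul x := by simp [smul_def]
  mul_smul g h x := by
    simp only [smul_def, mul_left, mul_right, psi_apply, Subgroup.coe_mul, Units.val_mul, psiAct_coe,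
      mul_apply', map_mul]
    ring
  smul_zero h := by simp [smul_def]
  smul_add h x y := by simp [smul_def, mul_add]


/-- Frobenius powers. -/
noncomputable def F1 : K →+* K := frobenius K 3
noncomputable def F2 : K →+* K := F1.comp F1
noncomputable def F3 : K →+* K := F1.comp F2

theorem F1_apply (x : K) : F1 x = x ^ 3 := rfl
theorem F2_apply (x : K) : F2 x = x ^ 9 := by
  show (x ^ 3) ^ 3 = x ^ 9
  ring
theorem F3_apply (x : K) : F3 x = x ^ 27 := by
  show ((x ^ 3) ^ 3) ^ 3 = x ^ 27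
  ring

theorem pow243 (x : K) : x ^ 243 = x ^ 3 := by
  calc x ^ 243 = (x ^ 81) ^ 3 := by ring
    _ = x ^ 3 := by rw [pow81]
theorem pow729 (x : K) : x ^ 729 = x ^ 9 := by
  calc x ^ 729 = (x ^ 81) ^ 9 := by ring
    _ = x ^ 9 := by rw [pow81]

@[simp] theorem F1F1 (x : K) : F1 (F1 x) = F2 x := rfl
@[simp] theorem F1F2 (x : K) : F1 (F2 x) = F3 x := rfl
@[simp] theorem F1F3 (x : K) : F1 (F3 x) = x := by
  rw [F3_apply, F1_apply, ← pow_mul]; exact pow81 x
@[simp] theorem F2F1 (x : K) : F2 (F1 x) = F3 x := rfl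
@[simp] theorem F2F2 (x : K) : F2 (F2 x) = x := by
  rw [F2_apply, F2_apply, ← pow_mul]; exact pow81 x
@[simp] theorem F2F3 (x : K) : F2 (F3 x) = F1 x := by
  rw [F3_apply, F2_apply, F1_apply, ← pow_mul]; exact pow243 x
@[simp] theorem F3F1 (x : K) : F3 (F1 x) = x := by
  rw [F3_apply, F1_apply, ← pow_mul]; exact pow81 x
@[simp] theorem F3F2 (x : K) : F3 (F2 x) = F1 x := by
  rw [F3_apply, F2_apply, F1_apply, ← pow_mul]; exact pow243 x
@[simp] theorem F3F3 (x : K) : F3 (F3 x) = F2 x := by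
  rw [F3_apply, F3_apply, F2_apply, ← pow_mul]; exact pow729 x

/-- the module `X`. -/
abbrev X := Fin 2 → K
/-- the module `V`. -/
abbrev V := Fin 6 → K

/-- the unipotent action of `X` on `V`. -/
noncomputable def rho (a : X) (v : V) : V :=
  ![v 0, v 1 + F2 (v 0) * F3 (a 0), v 2 + F2 (v 0) * F3 (a 1),
    v 3 + F3 (v 0) * F2 (a 0), v 4 + F3 (v 0) * F2 (a 1),
    v 5 + F2 (v 1 * F1 (a 1) - v 2 * F1 (a 0)) + F1 (a 0 * v 4 - a 1 * v 3)
      + v 0 * (F1 (a 0) * F3 (a 1) - F1 (a 1) * F3 (a 0))]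

theorem rho_zero (v : V) : rho 0 v = v := by
  ext i
  fin_cases i <;> simp [rho]

theorem rho_add (a b : X) (v : V) : rho (a + b) v = rho a (rho b v) := by
  ext i
  fin_cases i <;> simp [rho] <;> ring

theorem rho_vadd (a : X) (v w : V) : rho a (v + w) = rho a v + rho a w := by
  ext i
  fin_cases i <;> simp [rho] <;> ring

theorem rho_vzero (a : X) : rho a 0 = 0 := by
  ext i
  fin_cases i <;> simp [rho]


theorem left_pow5 (h : H20) : (((h.left : Mu5) : Kˣ) : K) ^ 5 = 1 := by
  have h1 := h.left.2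
  rw [mem_rootsOfUnity] at h1
  have h2 := congrArg (fun u : Kˣ => (u : K)) h1
  simpa using h2

theorem smul_rho (h : H20) (a : X) (v : V) : h • rho a v = rho (h • a) (h • v) := by
  have hl := left_pow5 h
  set l : K := ((h.left : Kˣ) : K) with hldef
  set s : K ≃+* K := (h.right : K ≃+* K) with hsdef
  have h36 : l ^ 36 = l := by
    calc l ^ 36 = (l ^ 5) ^ 7 * l := by ring
      _ = l := by rw [hl]; ring
  have h6 : l ^ 6 = l := by
    calc l ^ 6 = (l ^ 5) * l := by ring
      _ = l := by rw [hl]; ring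
  have h31 : l ^ 31 = l := by
    calc l ^ 31 = (l ^ 5) ^ 6 * l := by ring
      _ = l := by rw [hl]; ring
  ext i
  fin_cases i
  · simp [rho, smul_def]
  · simp [rho, smul_def, F1_apply, F2_apply, F3_apply, ← hldef, ← hsdef]
    linear_combination (-(s (v 0) ^ 9 * s (a 0) ^ 27)) * h36
  · simp [rho, smul_def, F1_apply, F2_apply, F3_apply, ← hldef, ← hsdef]
    linear_combination (-(s (v 0) ^ 9 * s (a 1) ^ 27)) * h36
  · simp [rho, smul_def, F1_apply, F2_apply, F3_apply, ← hldef, ← hsdef]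
    linear_combination (-(s (v 0) ^ 27 * s (a 0) ^ 9)) * h36
  · simp [rho, smul_def, F1_apply, F2_apply, F3_apply, ← hldef, ← hsdef]
    linear_combination (-(s (v 0) ^ 27 * s (a 1) ^ 9)) * h36
  · simp [rho, smul_def, F1_apply, F2_apply, F3_apply, ← hldef, ← hsdef]
    linear_combination (-((s (v 1) * s (a 1) ^ 3 - s (v 2) * s (a 0) ^ 3) ^ 9)) * h36
      + (-((s (a 0) * s (v 4) - s (a 1) * s (v 3)) ^ 3)) * h6
      + (-(s (v 0) * (s (a 0) ^ 3 * s (a 1) ^ 27 - s (a 1) ^ 3 * s (a 0) ^ 27))) * h31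


/-- the group `X ⋊ H20`. -/
noncomputable abbrev Y := SD H20 X

noncomputable instance : SMul Y V :=
  ⟨fun y v => rho (Multiplicative.toAdd y.left) (y.right • v)⟩

theorem Y_smul_def (y : Y) (v : V) :
    y • v = rho (Multiplicative.toAdd y.left) (y.right • v) := rfl

noncomputable instance : DistribMulAction Y V where
  one_smul v := by
    rw [Y_smul_def, one_left, one_right, one_smul, toAdd_one, rho_zero]
  mul_smul y z v := by
    rw [Y_smul_def, Y_smul_def, Y_smul_def, mul_left, mul_right, toAdd_mul, phiOf_apply, rho_add,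
      mul_smul, smul_rho]
  smul_zero y := by rw [Y_smul_def, smul_zero, rho_vzero]
  smul_add y v w := by rw [Y_smul_def, smul_add, rho_vadd]; rfl

/-- the solvable group. -/
noncomputable abbrev G := SD Y V


instance : Group.IsSolvable Mu5 := inferInstance
instance : Group.IsSolvable Phi4 := inferInstance
instance : Group.IsSolvable H20 := sd_solvable psi
instance : Group.IsSolvable Y := sd_solvable _
instance : Group.IsSolvable G := sd_solvable _
instance : Finite H20 := inferInstance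
instance : Finite Y := inferInstance
instance : Finite G := inferInstance


theorem frobE_pow_apply (n : ℕ) (x : K) : (frobE ^ n) x = x ^ 3 ^ n := by
  induction n generalizing x with
  | zero => simp
  | succ n ih =>
    rw [pow_succ, mul_apply', ih, frobE_apply, ← pow_mul, pow_succ, mul_comm]

theorem frobE_pow4 : frobE ^ 4 = 1 := by
  ext x
  rw [frobE_pow_apply, one_apply']
  exact pow81 x

theorem Phi4_cases (σ : Phi4) : (σ : K ≃+* K) = 1 ∨ (σ : K ≃+* K) = frobE ∨
    (σ : K ≃+* K) = frobE ^ 2 ∨ (σ : K ≃+* K) = frobE ^ 3 := by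
  obtain ⟨k, hk⟩ := Subgroup.mem_zpowers_iff.mp σ.2
  have h4 : frobE ^ (4 : ℤ) = 1 := by
    have := frobE_pow4
    exact_mod_cast this
  rw [zpow_eq_zpow_emod k h4] at hk
  have h0 : 0 ≤ k % 4 := Int.emod_nonneg _ (by norm_num)
  have h1 : k % 4 < 4 := Int.emod_lt_of_pos _ (by norm_num)
  set r := k % 4 with hr
  rw [← hk]
  interval_cases r
  · left; simp
  · right; left; simp
  · right; right; left; exact_mod_cast rfl
  · right; right; right; exact_mod_cast rfl


theorem Lp_one {N T : Type*} [Group N] [Group T] (φ : T →* MulAut N) (n : N) (d : ℕ) :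
    Lp φ 1 n d = n ^ d := by
  induction d with
  | zero => simp [Lp]
  | succ d ih => rw [Lp, ih, map_one, MulAut.one_apply, pow_succ']

/-- scalar part. -/
noncomputable def lam (h : H20) : K := ((h.left : Kˣ) : K)
/-- Galois part. -/
noncomputable def sig (h : H20) : K ≃+* K := (h.right : K ≃+* K)

theorem smul_def' (h : H20) (x : K) : h • x = lam h * sig h x := rfl

theorem lam_pow5 (h : H20) : lam h ^ 5 = 1 := left_pow5 h

theorem H20_ext {g h : H20} (h1 : lam g = lam h) (h2 : sig g = sig h) : g = h := by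
  apply SemidirectProduct.ext
  · apply Subtype.ext; apply Units.ext; exact h1
  · apply Subtype.ext; exact h2

theorem lam_one : lam 1 = 1 := rfl
theorem sig_one : sig 1 = 1 := rfl
theorem lam_mul (g h : H20) : lam (g * h) = lam g * sig g (lam h) := rfl
theorem sig_mul (g h : H20) : sig (g * h) = sig g * sig h := rfl

theorem H20_pow5 (h : H20) (hσ : sig h = 1) : h ^ 5 = 1 := by
  have hr : h.right = 1 := Subtype.ext hσ
  rw [sd_pow_eq_one_iff, hr, one_pow, Lp_one]
  refine ⟨rfl, ?_⟩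
  apply Subtype.ext
  have h1 := h.left.2
  rw [mem_rootsOfUnity] at h1
  exact h1

theorem coe_Lp4 (σ : Phi4) (l : Mu5) :
    (((Lp psi σ l 4 : Mu5) : Kˣ) : K) =
      (l : Kˣ) * (σ : K ≃+* K) ((l : Kˣ) * (σ : K ≃+* K) ((l : Kˣ) * (σ : K ≃+* K) (l : Kˣ))) := by
  simp [Lp, psi_apply, psiAct_coe]

theorem H20_pow4 (h : H20) (hσ : sig h ≠ 1) : h ^ 4 = 1 := by
  have hl := lam_pow5 h
  rw [sd_pow_eq_one_iff]
  constructor
  · apply Subtype.ext
    rw [Subgroup.coe_pow, Subgroup.coe_one]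
    rcases Phi4_cases h.right with h1 | h1 | h1 | h1
    · exact absurd h1 hσ
    · rw [h1, frobE_pow4]
    · rw [h1, ← pow_mul, mul_comm, pow_mul, frobE_pow4, one_pow]
    · rw [h1, ← pow_mul, mul_comm, pow_mul, frobE_pow4, one_pow]
  · apply Subtype.ext; apply Units.ext
    rw [coe_Lp4]
    show lam h * sig h (lam h * sig h (lam h * sig h (lam h))) = 1
    rcases Phi4_cases h.right with h1 | h1 | h1 | h1
    · exact absurd h1 hσ
    · have : sig h = frobE := h1
      rw [this]
      simp only [frobE_apply]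
      calc lam h * (lam h * (lam h * lam h ^ 3) ^ 3) ^ 3 = (lam h ^ 5) ^ 8 := by ring
        _ = 1 := by rw [hl, one_pow]
    · have : sig h = frobE ^ 2 := h1
      rw [this]
      simp only [frobE_pow_apply]
      calc lam h * (lam h * (lam h * lam h ^ 3 ^ 2) ^ 3 ^ 2) ^ 3 ^ 2 = (lam h ^ 5) ^ 164 := by ring
        _ = 1 := by rw [hl, one_pow]
    · have : sig h = frobE ^ 3 := h1
      rw [this]
      simp only [frobE_pow_apply]
      calc lam h * (lam h * (lam h * lam h ^ 3 ^ 3) ^ 3 ^ 3) ^ 3 ^ 3 = (lam h ^ 5) ^ 4088 := by ring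
        _ = 1 := by rw [hl, one_pow]


theorem three_eq_zero : (3 : K) = 0 := by
  have := CharP.cast_eq_zero K 3
  exact_mod_cast this

theorem three_nsmul_X (a : X) : 3 • a = 0 := by
  ext j
  simp only [Pi.smul_apply, Pi.zero_apply, nsmul_eq_mul]
  have := three_eq_zero
  push_cast
  rw [this, zero_mul]

theorem three_nsmul_V (v : V) : 3 • v = 0 := by
  ext j
  simp only [Pi.smul_apply, Pi.zero_apply, nsmul_eq_mul]
  have := three_eq_zero
  push_cast
  rw [this, zero_mul]

theorem Y_pow3 (y : Y) (h1 : y.right = 1) : y ^ 3 = 1 := by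
  rw [SD_pow_eq_one_iff, h1, one_pow]
  refine ⟨rfl, ?_⟩
  simp only [one_pow, one_smul, Finset.sum_const, Finset.card_range]
  exact three_nsmul_X _

/-- the norm of `a`. -/
noncomputable def nrm (y : Y) : X := ∑ i ∈ Finset.range 4, y.right ^ i • Multiplicative.toAdd y.left

theorem Y_pow4 (y : Y) (hσ : sig y.right ≠ 1) :
    y ^ 4 = inl (Multiplicative.ofAdd (nrm y)) := by
  apply SemidirectProduct.ext
  · rw [(sd_pow _ y 4).2, left_inl]
    apply Multiplicative.toAdd.injective
    rw [Lp_phiOf]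
    rfl
  · rw [(sd_pow _ y 4).1, right_inl, H20_pow4 _ hσ]

theorem nrm_fixed (y : Y) (hσ : sig y.right ≠ 1) : y.right • nrm y = nrm y := by
  have h4 := H20_pow4 _ hσ
  unfold nrm
  rw [Finset.smul_sum]
  simp only [smul_smul, ← pow_succ']
  rw [Finset.sum_range_succ' (fun i => y.right ^ i • Multiplicative.toAdd y.left) 3]
  rw [Finset.sum_range_succ (fun i => y.right ^ (i + 1) • Multiplicative.toAdd y.left) 3]
  rw [h4, pow_zero]


/-- the quadratic invariant. -/
noncomputable def Q (a : X) : K := F1 (a 0) * F3 (a 1) - F1 (a 1) * F3 (a 0)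

theorem Q_eq_zero (a : X) (μ : K) (h0 : F2 (a 0) = μ * a 0) (h1 : F2 (a 1) = μ * a 1) : Q a = 0 := by
  have : Q a = F1 (a 0 * F2 (a 1) - a 1 * F2 (a 0)) := by
    simp only [Q, map_sub, map_mul, F1F2]
  rw [this, h0, h1]
  have : a 0 * (μ * a 1) - a 1 * (μ * a 0) = 0 := by ring
  rw [this, map_zero]

theorem fixed_imp (h : H20) (hσ : sig h ≠ 1) (a : X) (hfix : h • a = a) :
    ∃ μ : K, F2 (a 0) = μ * a 0 ∧ F2 (a 1) = μ * a 1 := by
  have hl := lam_pow5 h
  have e : ∀ j, lam h * sig h (a j) = a j := fun j => congrFun hfix j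
  rcases Phi4_cases h.right with h1 | h1 | h1 | h1
  · exact absurd h1 hσ
  · have hs : sig h = frobE := h1
    simp only [hs, frobE_apply] at e
    have key : ∀ x : K, lam h * x ^ 3 = x → F2 x = lam h * x := by
      intro x e
      have e3 : x ^ 3 = lam h ^ 3 * x ^ 9 := by
        calc x ^ 3 = (lam h * x ^ 3) ^ 3 := by rw [e]
          _ = lam h ^ 3 * x ^ 9 := by ring
      calc F2 x = x ^ 9 := F2_apply _
        _ = lam h ^ 5 * x ^ 9 := by rw [hl]; ring
        _ = lam h ^ 2 * (lam h ^ 3 * x ^ 9) := by ring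
        _ = lam h ^ 2 * x ^ 3 := by rw [← e3]
        _ = lam h * (lam h * x ^ 3) := by ring
        _ = lam h * x := by rw [e]
    exact ⟨lam h, key _ (e 0), key _ (e 1)⟩
  · have hs : sig h = frobE ^ 2 := h1
    simp only [hs, frobE_pow_apply] at e
    have key : ∀ x : K, lam h * x ^ 3 ^ 2 = x → F2 x = lam h ^ 4 * x := by
      intro x e
      calc F2 x = x ^ 9 := F2_apply _
        _ = lam h ^ 5 * x ^ 9 := by rw [hl]; ring
        _ = lam h ^ 4 * (lam h * x ^ 3 ^ 2) := by ring
        _ = lam h ^ 4 * x := by rw [e]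
    exact ⟨lam h ^ 4, key _ (e 0), key _ (e 1)⟩
  · have hs : sig h = frobE ^ 3 := h1
    simp only [hs, frobE_pow_apply] at e
    have key : ∀ x : K, lam h * x ^ 3 ^ 3 = x → F2 x = lam h ^ 2 * x := by
      intro x e
      have e27 : x ^ 27 = lam h ^ 2 * x ^ 9 := by
        calc x ^ 27 = (lam h * x ^ 3 ^ 3) ^ 27 := by rw [e]
          _ = (lam h ^ 5) ^ 5 * lam h ^ 2 * x ^ 729 := by ring
          _ = lam h ^ 2 * x ^ 9 := by rw [hl, pow729]; ring
      calc F2 x = x ^ 9 := F2_apply _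
        _ = lam h ^ 5 * x ^ 9 := by rw [hl]; ring
        _ = lam h ^ 2 * (lam h * (lam h ^ 2 * x ^ 9)) := by ring
        _ = lam h ^ 2 * (lam h * x ^ 27) := by rw [← e27]
        _ = lam h ^ 2 * (lam h * x ^ 3 ^ 3) := by norm_num
        _ = lam h ^ 2 * x := by rw [e]
    exact ⟨lam h ^ 2, key _ (e 0), key _ (e 1)⟩

theorem rho_0 (a : X) (v : V) : rho a v 0 = v 0 := rfl
theorem rho_1 (a : X) (v : V) : rho a v 1 = v 1 + F2 (v 0) * F3 (a 0) := rfl
theorem rho_2 (a : X) (v : V) : rho a v 2 = v 2 + F2 (v 0) * F3 (a 1) := rfl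
theorem rho_3 (a : X) (v : V) : rho a v 3 = v 3 + F3 (v 0) * F2 (a 0) := rfl
theorem rho_4 (a : X) (v : V) : rho a v 4 = v 4 + F3 (v 0) * F2 (a 1) := rfl
theorem rho_5 (a : X) (v : V) : rho a v 5 =
    v 5 + F2 (v 1 * F1 (a 1) - v 2 * F1 (a 0)) + F1 (a 0 * v 4 - a 1 * v 3)
      + v 0 * (F1 (a 0) * F3 (a 1) - F1 (a 1) * F3 (a 0)) := rfl

theorem V_ext {v w : V} (h0 : v 0 = w 0) (h1 : v 1 = w 1) (h2 : v 2 = w 2) (h3 : v 3 = w 3)
    (h4 : v 4 = w 4) (h5 : v 5 = w 5) : v = w := by
  ext j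
  fin_cases j <;> assumption

theorem inl_smul (b : X) (v : V) : (inl (Multiplicative.ofAdd b) : Y) • v = rho b v := by
  rw [Y_smul_def, left_inl, right_inl, one_smul]
  rfl

theorem sum3_rho (b : X) (v : V) :
    ∑ i ∈ Finset.range 3, (inl (Multiplicative.ofAdd b) : Y) ^ i • v =
      ![0, 0, 0, 0, 0, 2 * v 0 * Q b] := by
  have h3 := three_eq_zero
  have e1 : ∀ i : ℕ, (inl (Multiplicative.ofAdd b) : Y) ^ i = inl (Multiplicative.ofAdd (i • b)) := by
    intro i
    rw [← map_pow, ← ofAdd_nsmul]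
  simp only [e1, inl_smul, Finset.sum_range_succ, Finset.sum_range_zero, zero_add, zero_smul,
    one_smul, rho_zero, two_nsmul]
  apply V_ext
  · simp only [Pi.add_apply, rho_0, Matrix.cons_val]
    linear_combination (v 0) * h3
  · simp only [Pi.add_apply, rho_1, Matrix.cons_val, map_add]
    linear_combination (v 1 + F2 (v 0) * F3 (b 0)) * h3
  · simp only [Pi.add_apply, rho_2, Matrix.cons_val, map_add]
    linear_combination (v 2 + F2 (v 0) * F3 (b 1)) * h3
  · simp only [Pi.add_apply, rho_3, Matrix.cons_val, map_add]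
    linear_combination (v 3 + F3 (v 0) * F2 (b 0)) * h3
  · simp only [Pi.add_apply, rho_4, Matrix.cons_val, map_add]
    linear_combination (v 4 + F3 (v 0) * F2 (b 1)) * h3
  · simp only [Pi.add_apply, rho_5, Matrix.cons_val, map_add, map_sub, map_mul, Q, F2F1]
    linear_combination (v 5 + F2 (v 1) * F3 (b 1) - F2 (v 2) * F3 (b 0)
      + F1 (b 0) * F1 (v 4) - F1 (b 1) * F1 (v 3)
      + v 0 * (F1 (b 0) * F3 (b 1) - F1 (b 1) * F3 (b 0))) * h3


theorem inr_smul (h : H20) (w : V) : (inr h : Y) • w = h • w := by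
  rw [Y_smul_def, left_inr, right_inr, toAdd_one, rho_zero]

theorem pow_smul_of_sig_one (h : H20) (hσ : sig h = 1) (i : ℕ) (x : K) :
    h ^ i • x = lam h ^ i * x := by
  induction i with
  | zero => simp
  | succ i ih =>
    rw [pow_succ', mul_smul, ih, smul_def', hσ, one_apply']
    ring

theorem geom5 (l : K) (h5 : l ^ 5 = 1) (h1 : l ≠ 1) : ∑ i ∈ Finset.range 5, l ^ i = 0 := by
  have := geom_sum_mul l 5
  rw [h5, sub_self] at this
  rcases mul_eq_zero.mp this with h | h
  · exact h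
  · exact absurd (sub_eq_zero.mp h) h1

theorem conj_pow {T : Type*} [Group T] (k t : T) (d : ℕ) : (k⁻¹ * t * k) ^ d = k⁻¹ * t ^ d * k := by
  induction d with
  | zero => simp
  | succ d ih => rw [pow_succ, ih, pow_succ]; group

theorem Y_conj (y : Y) (hσ : sig y.right = 1) (hl : lam y.right ≠ 1) :
    y = (inl (Multiplicative.ofAdd ((lam y.right - 1)⁻¹ • Multiplicative.toAdd y.left)) : Y)⁻¹ *
      inr y.right * inl (Multiplicative.ofAdd ((lam y.right - 1)⁻¹ • Multiplicative.toAdd y.left)) := by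
  have hne : lam y.right - 1 ≠ 0 := sub_ne_zero.mpr hl
  apply SemidirectProduct.ext
  · apply Multiplicative.toAdd.injective
    simp only [mul_left, mul_right, inv_left, inv_right, left_inl, right_inl, left_inr, right_inr,
      map_one, inv_one, one_mul, mul_one, MulAut.one_apply, toAdd_mul, toAdd_inv, toAdd_ofAdd,
      phiOf_apply]
    ext j
    simp only [Pi.add_apply, Pi.neg_apply, Pi.smul_apply, smul_def', hσ, one_apply', smul_eq_mul]
    change Multiplicative.toAdd y.left j = _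
    field_simp
    ring
  · simp


theorem G_cert (g : G) : ∃ d ∈ ({9, 5, 12} : Finset ℕ), g ^ d = 1 := by
  set y : Y := g.right with hy
  set v : V := Multiplicative.toAdd g.left with hv
  by_cases hσ : sig y.right = 1
  · by_cases hl : lam y.right = 1
    · -- y.right = 1
      have h1 : y.right = 1 := H20_ext (by rw [hl, lam_one]) (by rw [hσ, sig_one])
      have h3 : y ^ 3 = 1 := Y_pow3 y h1
      refine ⟨9, by decide, ?_⟩
      rw [SD_pow_eq_one_iff]
      refine ⟨?_, ?_⟩
      · calc y ^ 9 = (y ^ 3) ^ 3 := by rw [← pow_mul]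
          _ = 1 := by rw [h3, one_pow]
      · rw [show (9 : ℕ) = 3 * 3 from rfl, sum_pow_smul_mul, h3]
        simp only [one_pow, one_smul, Finset.sum_const, Finset.card_range, three_nsmul_V, smul_zero]
    · -- order 5
      refine ⟨5, by decide, ?_⟩
      have h5 : y.right ^ 5 = 1 := H20_pow5 _ hσ
      set k : Y := inl (Multiplicative.ofAdd ((lam y.right - 1)⁻¹ • Multiplicative.toAdd y.left))
        with hk
      have hc : y = k⁻¹ * inr y.right * k := Y_conj y hσ hl
      rw [SD_pow_eq_one_iff]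
      refine ⟨?_, ?_⟩
      · change y ^ 5 = 1
        rw [hc, conj_pow, ← map_pow, h5, map_one]
        group
      · change ∑ i ∈ Finset.range 5, y ^ i • v = 0
        rw [hc, sum_pow_smul_conj]
        have : ∑ i ∈ Finset.range 5, (inr y.right : Y) ^ i • (k • v) = 0 := by
          have e : ∀ i : ℕ, (inr y.right : Y) ^ i • (k • v) = (lam y.right ^ i) • (k • v) := by
            intro i
            rw [← map_pow, inr_smul]
            ext j
            rw [Pi.smul_apply, pow_smul_of_sig_one _ hσ, Pi.smul_apply, smul_eq_mul]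
          simp only [e]
          rw [← Finset.sum_smul, geom5 _ (lam_pow5 _) hl, zero_smul]
        rw [this, smul_zero]
  · refine ⟨12, by decide, ?_⟩
    have h4 : y ^ 4 = inl (Multiplicative.ofAdd (nrm y)) := Y_pow4 y hσ
    obtain ⟨μ, hμ0, hμ1⟩ := fixed_imp y.right hσ (nrm y) (nrm_fixed y hσ)
    have hQ : Q (nrm y) = 0 := Q_eq_zero _ μ hμ0 hμ1
    rw [SD_pow_eq_one_iff]
    refine ⟨?_, ?_⟩
    · change y ^ 12 = 1
      calc y ^ 12 = (y ^ 4) ^ 3 := by rw [← pow_mul]
        _ = 1 := by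
          rw [h4, ← map_pow, ← ofAdd_nsmul, three_nsmul_X, ofAdd_zero, map_one]
    · change ∑ i ∈ Finset.range 12, y ^ i • v = 0
      rw [show (12 : ℕ) = 4 * 3 from rfl, sum_pow_smul_mul, h4, sum3_rho, hQ]
      have : (![0, 0, 0, 0, 0, 2 * v 0 * 0] : V) = 0 := by
        apply V_ext <;> simp
      rw [this]
      simp only [smul_zero, Finset.sum_const_zero]


theorem exists_zeta : ∃ ζ : K, ζ ^ 5 = 1 ∧ ζ ≠ 1 := by
  haveI : Fact (Nat.Prime 5) := ⟨by norm_num⟩
  classical
  have hc : Nat.card Kˣ = 80 := by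
    rw [Nat.card_eq_fintype_card, Fintype.card_units, card_K]
  obtain ⟨u, hu⟩ := exists_prime_orderOf_dvd_card' 5 (G := Kˣ) (by rw [hc]; norm_num)
  refine ⟨(u : K), ?_, ?_⟩
  · have := pow_orderOf_eq_one u
    rw [hu] at this
    have h2 := congrArg (fun v : Kˣ => (v : K)) this
    simpa using h2
  · intro h
    have : u = 1 := Units.ext h
    rw [this, orderOf_one] at hu
    norm_num at hu

/-- the Galois part as a hom. -/
noncomputable def sigHom : H20 →* (K ≃+* K) := (Subgroup.subtype Phi4).comp rightHom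

theorem sigHom_apply (h : H20) : sigHom h = sig h := rfl

theorem two_ne_zero_K : (2 : K) ≠ 0 := by
  intro h
  have h3 := three_eq_zero
  have : (1 : K) = 0 := by linear_combination h3 - h
  exact one_ne_zero this

theorem zeta_ne_zero (ζ : K) (h5 : ζ ^ 5 = 1) : ζ ≠ 0 := by
  rintro rfl
  simp at h5

/-- the element of order 5 of `H20`. -/
noncomputable def hz (ζ : K) (h5 : ζ ^ 5 = 1) : H20 :=
  ⟨⟨Units.mk0 ζ (zeta_ne_zero ζ h5), by
    rw [mem_rootsOfUnity]
    apply Units.ext
    simpa using h5⟩, 1⟩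

theorem lam_hz (ζ : K) (h5 : ζ ^ 5 = 1) : lam (hz ζ h5) = ζ := rfl
theorem sig_hz (ζ : K) (h5 : ζ ^ 5 = 1) : sig (hz ζ h5) = 1 := rfl

theorem orderOf_hz (ζ : K) (h5 : ζ ^ 5 = 1) (h1 : ζ ≠ 1) : orderOf (hz ζ h5) = 5 := by
  haveI : Fact (Nat.Prime 5) := ⟨by norm_num⟩
  apply orderOf_eq_prime
  · exact H20_pow5 _ (sig_hz ζ h5)
  · intro h
    have := congrArg lam h
    rw [lam_hz, lam_one] at this
    exact h1 this

theorem exists_order5 : ∃ g : G, orderOf g = 5 := by
  obtain ⟨ζ, h5, h1⟩ := exists_zeta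
  refine ⟨inr (inr (hz ζ h5)), ?_⟩
  rw [orderOf_injective (inr : Y →* G) inr_injective, orderOf_injective (inr : H20 →* Y) inr_injective]
  exact orderOf_hz ζ h5 h1


theorem G_pow9 (g : G) (h1 : g.right.right = 1) : g ^ 9 = 1 := by
  have h3 : g.right ^ 3 = 1 := Y_pow3 g.right h1
  rw [SD_pow_eq_one_iff]
  refine ⟨?_, ?_⟩
  · calc g.right ^ 9 = (g.right ^ 3) ^ 3 := by rw [← pow_mul]
      _ = 1 := by rw [h3, one_pow]
  · rw [show (9 : ℕ) = 3 * 3 from rfl, sum_pow_smul_mul, h3]
    simp only [one_pow, one_smul, Finset.sum_const, Finset.card_range, three_nsmul_V, smul_zero]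

theorem exists_order9 : ∃ g : G, orderOf g = 9 := by
  obtain ⟨ζ, h5, h1⟩ := exists_zeta
  have hz0 := zeta_ne_zero ζ h5
  let a0 : X := ![1, ζ]
  let v0 : V := ![1, 0, 0, 0, 0, 0]
  let g : G := ⟨Multiplicative.ofAdd v0, inl (Multiplicative.ofAdd a0)⟩
  refine ⟨g, ?_⟩
  have hQ : Q a0 ≠ 0 := by
    have e : Q a0 = ζ ^ 2 - ζ ^ 3 := by
      simp only [Q, a0, Matrix.cons_val_zero, Matrix.cons_val_one, F1_apply, F3_apply, one_pow,
        one_mul, mul_one]
      calc ζ ^ 27 - ζ ^ 3 = (ζ ^ 5) ^ 5 * ζ ^ 2 - ζ ^ 3 := by ring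
        _ = ζ ^ 2 - ζ ^ 3 := by rw [h5]; ring
    rw [e]
    intro h
    have h2 : ζ ^ 2 * (1 - ζ) = 0 := by linear_combination h
    rcases mul_eq_zero.mp h2 with h3 | h3
    · exact hz0 (pow_eq_zero_iff (by norm_num) |>.mp h3)
    · exact h1 (sub_eq_zero.mp h3).symm
  have e9 : (9 : ℕ) = 3 ^ (1 + 1) := rfl
  rw [e9]
  apply orderOf_eq_prime_pow
  · rw [pow_one, SD_pow_eq_one_iff]
    rintro ⟨-, h⟩
    change ∑ i ∈ Finset.range 3, (inl (Multiplicative.ofAdd a0) : Y) ^ i • v0 = 0 at h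
    rw [sum3_rho] at h
    have h5' := congrFun h 5
    simp only [Matrix.cons_val, Pi.zero_apply, v0] at h5'
    rcases mul_eq_zero.mp h5' with h6 | h6
    · rcases mul_eq_zero.mp h6 with h7 | h7
      · exact two_ne_zero_K h7
      · exact one_ne_zero h7
    · exact hQ h6
  · rw [← e9]
    exact G_pow9 g rfl


/-- the Frobenius element of `H20`. -/
noncomputable def hphi : H20 := ⟨1, ⟨frobE, Subgroup.mem_zpowers frobE⟩⟩

theorem lam_hphi : lam hphi = 1 := rfl
theorem sig_hphi : sig hphi = frobE := rfl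

theorem frobE_sq_ne_one : frobE ^ 2 ≠ 1 := by
  obtain ⟨ζ, h5, h1⟩ := exists_zeta
  have hz0 := zeta_ne_zero ζ h5
  intro h
  have h2 := congrArg (fun σ : K ≃+* K => σ ζ) h
  simp only [frobE_pow_apply, one_apply'] at h2
  have h3 : ζ ^ 4 = ζ := by
    calc ζ ^ 4 = ζ ^ 5 * ζ ^ 4 := by rw [h5, one_mul]
      _ = ζ ^ 3 ^ 2 := by ring
      _ = ζ := h2
  have h4 : ζ * (ζ ^ 3 - 1) = 0 := by linear_combination h3
  rcases mul_eq_zero.mp h4 with h6 | h6
  · exact hz0 h6
  · have h7 : ζ ^ 3 = 1 := sub_eq_zero.mp h6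
    apply h1
    calc ζ = ζ ^ 5 * ζ := by rw [h5, one_mul]
      _ = (ζ ^ 3) ^ 2 := by ring
      _ = 1 := by rw [h7, one_pow]

theorem exists_order12 : ∃ g : G, orderOf g = 12 := by
  let a1 : X := ![1, 0]
  let y : Y := ⟨Multiplicative.ofAdd a1, hphi⟩
  refine ⟨inr y, ?_⟩
  rw [orderOf_injective (inr : Y →* G) inr_injective]
  have hσ : sig y.right ≠ 1 := by
    change frobE ≠ 1
    intro h
    apply frobE_sq_ne_one
    rw [h, one_pow]
  have hfix : hphi • a1 = a1 := by
    ext j
    rw [Pi.smul_apply, smul_def', lam_hphi, sig_hphi, frobE_apply, one_mul]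
    fin_cases j <;> simp [a1]
  have hpow : ∀ i : ℕ, hphi ^ i • a1 = a1 := by
    intro i
    induction i with
    | zero => simp
    | succ i ih => rw [pow_succ, mul_smul, hfix, ih]
  have hn : nrm y = a1 := by
    unfold nrm
    change ∑ i ∈ Finset.range 4, hphi ^ i • a1 = a1
    simp only [hpow, Finset.sum_const, Finset.card_range]
    rw [show (4 : ℕ) = 3 + 1 from rfl, add_smul, three_nsmul_X, zero_add, one_smul]
  have h4 : y ^ 4 = inl (Multiplicative.ofAdd a1) := by rw [Y_pow4 y hσ, hn]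
  apply order_eq_of' [4, 6] (by norm_num)
  · calc y ^ 12 = (y ^ 4) ^ 3 := by rw [← pow_mul]
      _ = 1 := by rw [h4, ← map_pow, ← ofAdd_nsmul, three_nsmul_X, ofAdd_zero, map_one]
  · intro m hm
    simp only [List.mem_cons, List.mem_nil_iff, or_false] at hm
    rcases hm with rfl | rfl
    · rw [h4]
      intro h
      have h2 := congrArg (fun z : Y => Multiplicative.toAdd z.left 0) h
      simp [a1] at h2
    · intro h
      have h2 := congrArg (fun z : Y => sigHom z.right) h
      simp only [(sd_pow _ y 6).1, map_pow, one_right, map_one] at h2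
      change frobE ^ 6 = 1 at h2
      apply frobE_sq_ne_one
      calc frobE ^ 2 = frobE ^ 6 * (frobE ^ 4)⁻¹ := by group
        _ = 1 := by rw [h2, frobE_pow4]; simp
  · decide

/-- the spectrum. -/
def Spec : Finset ℕ := {1, 2, 3, 4, 5, 6, 9, 12}

theorem range_orderOf_G : Set.range (orderOf : G → ℕ) = ↑Spec := by
  ext n
  simp only [Set.mem_range, Finset.mem_coe]
  constructor
  · rintro ⟨g, rfl⟩
    obtain ⟨d, hd, h1⟩ := G_cert g
    have h2 : orderOf g ∣ d := orderOf_dvd_of_pow_eq_one h1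
    have h3 : ∀ d ∈ ({9, 5, 12} : Finset ℕ), ∀ e ∈ Nat.divisors d, e ∈ Spec := by decide
    exact h3 d hd _ (Nat.mem_divisors.mpr ⟨h2, by
      rintro rfl
      simp at hd⟩)
  · intro hn
    obtain ⟨g5, h5⟩ := exists_order5
    obtain ⟨g9, h9⟩ := exists_order9
    obtain ⟨g12, h12⟩ := exists_order12
    have h3 : ∀ n ∈ Spec, n ∣ 5 ∨ n ∣ 9 ∨ n ∣ 12 := by decide
    rcases h3 n hn with h | h | h
    · exact exists_orderOf_eq_of_dvd' (by norm_num) h5 h
    · exact exists_orderOf_eq_of_dvd' (by norm_num) h9 h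
    · exact exists_orderOf_eq_of_dvd' (by norm_num) h12 h

end Cfsg.Agent.Lib.Helper4.S43
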