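import Mathlib
import Cfsg.Prelude.Def_Classical

set_option autoImplicit false

namespace Cfsg.Agent.Lib.Helper4.S43P

open Matrix Polynomial

/-- reindex a 4×4 matrix. -/
def mk4 (M : Matrix (Fin 4) (Fin 4) (ZMod 3)) : Matrix (Fin 2 ⊕ Fin 2) (Fin 2 ⊕ Fin 2) (ZMod 3) :=
  M.submatrix finSumFinEquiv finSumFinEquiv

def A5 : Matrix (Fin 4) (Fin 4) (ZMod 3) := !![0, 0, 2, 0; 0, 2, 0, 2; 1, 1, 0, 1; 0, 1, 1, 0]
def A12 : Matrix (Fin 4) (Fin 4) (ZMod 3) := !![0, 0, 2, 0; 0, 2, 0, 2; 1, 0, 0, 0; 0, 0, 0, 2]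
def A9 : Matrix (Fin 4) (Fin 4) (ZMod 3) := !![0, 0, 0, 1; 0, 0, 1, 1; 1, 2, 2, 1; 2, 0, 0, 2]
def B1 : Matrix (Fin 4) (Fin 4) (ZMod 3) := !![1, 0, 1, 0; 0, 1, 0, 0; 0, 0, 1, 0; 0, 0, 0, 1]
def B4 : Matrix (Fin 4) (Fin 4) (ZMod 3) := !![1, 0, 0, 0; 0, 1, 0, 0; 0, 1, 1, 0; 1, 0, 0, 1]
def B6 : Matrix (Fin 4) (Fin 4) (ZMod 3) := !![1, 0, 0, 1; 0, 1, 1, 0; 0, 0, 1, 0; 0, 0, 0, 1]

theorem A5_mem : mk4 A5 ∈ symplecticGroup (Fin 2) (ZMod 3) := by
  rw [SymplecticGroup.mem_iff]; decide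
theorem A9_mem : mk4 A9 ∈ symplecticGroup (Fin 2) (ZMod 3) := by
  rw [SymplecticGroup.mem_iff]; decide
theorem A12_mem : mk4 A12 ∈ symplecticGroup (Fin 2) (ZMod 3) := by
  rw [SymplecticGroup.mem_iff]; decide
theorem B1_mem : mk4 B1 ∈ symplecticGroup (Fin 2) (ZMod 3) := by
  rw [SymplecticGroup.mem_iff]; decide
theorem B4_mem : mk4 B4 ∈ symplecticGroup (Fin 2) (ZMod 3) := by
  rw [SymplecticGroup.mem_iff]; decide
theorem B6_mem : mk4 B6 ∈ symplecticGroup (Fin 2) (ZMod 3) := by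
  rw [SymplecticGroup.mem_iff]; decide

theorem A5_pow : mk4 A5 ^ 5 = 1 := by decide
theorem A9_pow : mk4 A9 ^ 9 = 1 := by decide
theorem A12_pow : mk4 A12 ^ 12 = 1 := by decide
theorem A5_nc : mk4 B1 * mk4 A5 ^ 1 ≠ mk4 A5 ^ 1 * mk4 B1 := by decide
theorem A9_nc : mk4 B1 * mk4 A9 ^ 3 ≠ mk4 A9 ^ 3 * mk4 B1 := by decide
theorem A12_nc4 : mk4 B4 * mk4 A12 ^ 4 ≠ mk4 A12 ^ 4 * mk4 B4 := by decide
theorem A12_nc6 : mk4 B6 * mk4 A12 ^ 6 ≠ mk4 A12 ^ 6 * mk4 B6 := by decide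

theorem order_eq_of'' {G : Type*} [Monoid G] {g : G} {n : ℕ} (ms : List ℕ) (hn : 0 < n)
    (h1 : g ^ n = 1) (h2 : ∀ m ∈ ms, g ^ m ≠ 1)
    (h3 : ∀ d ∈ n.divisors, d = n ∨ ∃ m ∈ ms, d ∣ m) : orderOf g = n := by
  have hd : orderOf g ∈ n.divisors :=
    Nat.mem_divisors.mpr ⟨orderOf_dvd_of_pow_eq_one h1, hn.ne'⟩
  rcases h3 _ hd with h | ⟨m, hm, hdm⟩
  · exact h
  · exact absurd (orderOf_dvd_iff_pow_eq_one.mp hdm) (h2 m hm)

theorem exists_orderOf_eq_of_dvd'' {G : Type*} [Monoid G] {g : G} {n d : ℕ} (hn : 0 < n)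
    (h : orderOf g = n) (hd : d ∣ n) : ∃ g' : G, orderOf g' = d := by
  obtain ⟨e, rfl⟩ := hd
  have he0 : 0 < e := Nat.pos_of_ne_zero (by rintro rfl; simp at hn)
  refine ⟨g ^ e, ?_⟩
  rw [orderOf_pow_of_dvd he0.ne' (by rw [h]; exact dvd_mul_left e d), h,
    Nat.mul_div_cancel _ he0]

section charpoly

variable {F : Type*} [Field F]

theorem charpoly_reverse_of_symp (M : Matrix (Fin 2 ⊕ Fin 2) (Fin 2 ⊕ Fin 2) F)
    (hM : M ∈ symplecticGroup (Fin 2) F) : M.charpoly.reverse = M.charpoly := by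
  have hdet : M.det = 1 := SymplecticGroup.det_eq_one hM
  have hunit : IsUnit M := by
    rw [Matrix.isUnit_iff_isUnit_det, hdet]
    exact isUnit_one
  have h1 := Matrix.charpoly_inv M hunit
  rw [hdet, Ring.inverse_one, map_one, mul_one] at h1
  have hc : Fintype.card (Fin 2 ⊕ Fin 2) = 4 := by simp
  rw [hc] at h1
  have h4 : ((-1 : F[X]) ^ 4) = 1 := by norm_num
  rw [h4, one_mul] at h1
  rw [Matrix.reverse_charpoly, ← h1, SymplecticGroup.inv_eq_symplectic_inv M hM]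
  have hJ' : J (Fin 2) F * (-J (Fin 2) F) = 1 := by
    rw [mul_neg, J_squared, neg_neg]
  rw [Matrix.charpoly_mul_comm, ← Matrix.mul_assoc, hJ', Matrix.one_mul, Matrix.charpoly_transpose]

theorem charpoly_form (M : Matrix (Fin 2 ⊕ Fin 2) (Fin 2 ⊕ Fin 2) F)
    (hM : M ∈ symplecticGroup (Fin 2) F) : ∃ a b : F,
      M.charpoly = X ^ 4 + C a * X ^ 3 + C b * X ^ 2 + C a * X + 1 := by
  have hrev := charpoly_reverse_of_symp M hM
  have hdet : M.det = 1 := SymplecticGroup.det_eq_one hM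
  have hc : Fintype.card (Fin 2 ⊕ Fin 2) = 4 := by simp
  have hdeg : M.charpoly.natDegree = 4 := by rw [Matrix.charpoly_natDegree_eq_dim, hc]
  have hmon : M.charpoly.Monic := Matrix.charpoly_monic M
  have h4 : M.charpoly.coeff 4 = 1 := by
    have := hmon.coeff_natDegree
    rwa [hdeg] at this
  have h0 : M.charpoly.coeff 0 = 1 := by
    have := Matrix.det_eq_sign_charpoly_coeff M
    rw [hdet, hc] at this
    have e : ((-1 : F) ^ 4) = 1 := by norm_num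
    rw [e, one_mul] at this
    exact this.symm
  have h13 : M.charpoly.coeff 1 = M.charpoly.coeff 3 := by
    have := Polynomial.coeff_reverse M.charpoly 1
    rw [hrev, hdeg] at this
    rw [this]
    rfl
  refine ⟨M.charpoly.coeff 3, M.charpoly.coeff 2, ?_⟩
  ext n
  rcases Nat.lt_or_ge n 5 with h | h
  · interval_cases n
    · simp [h0, coeff_X, coeff_one]
    · simp [h13, coeff_one]
    · simp [coeff_one]
    · simp [coeff_one]
    · simp [h4, coeff_one]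
  · rw [Polynomial.coeff_eq_zero_of_natDegree_lt (by rw [hdeg]; omega)]
    have hn1 : n ≠ 4 := by omega
    have hn2 : n ≠ 3 := by omega
    have hn3 : n ≠ 2 := by omega
    have hn4 : n ≠ 1 := by omega
    have hn5 : n ≠ 0 := by omega
    simp [coeff_X_pow, coeff_X, coeff_one, hn1, hn2, hn3, hn5, Polynomial.coeff_C_mul]
    intro h1
    omega

theorem pow_of_poly (M : Matrix (Fin 2 ⊕ Fin 2) (Fin 2 ⊕ Fin 2) F) (m : ℕ) (q : F[X])
    (h : X ^ m - 1 = M.charpoly * q) : M ^ m = 1 := by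
  have := congrArg (aeval M) h
  simp only [map_sub, map_pow, aeval_X, map_one, map_mul, Matrix.aeval_self_charpoly, zero_mul] at this
  exact sub_eq_zero.mp this

theorem pow_of_poly' (M : Matrix (Fin 2 ⊕ Fin 2) (Fin 2 ⊕ Fin 2) F) (m : ℕ) (q : F[X])
    (h : X ^ m + 1 = M.charpoly * q) : M ^ m = -1 := by
  have := congrArg (aeval M) h
  simp only [map_add, map_pow, aeval_X, map_one, map_mul, Matrix.aeval_self_charpoly, zero_mul] at this
  exact eq_neg_of_add_eq_zero_left this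

theorem symp_pow [Fintype F] (hF : Fintype.card F = 3)
    (M : Matrix (Fin 2 ⊕ Fin 2) (Fin 2 ⊕ Fin 2) F) (hM : M ∈ symplecticGroup (Fin 2) F) :
    ∃ m ∈ ({4, 5, 6, 9, 12} : Finset ℕ), M ^ m = 1 ∨ M ^ m = -1 := by
  obtain ⟨a, b, hp⟩ := charpoly_form M hM
  have h3 : (3 : F) = 0 := by
    have := Nat.cast_card_eq_zero F
    rw [hF] at this
    exact_mod_cast this
  have h3X : (3 : F[X]) = 0 := by
    have : (3 : F[X]) = C (3 : F) := (map_ofNat C 3).symm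
    rw [this, h3, map_zero]
  have tri : ∀ x : F, x = 0 ∨ x = 1 ∨ x = -1 := by
    classical
    intro x
    have h10 : (1 : F) ≠ 0 := one_ne_zero
    have hm10 : (-1 : F) ≠ 0 := neg_ne_zero.mpr one_ne_zero
    have hm11 : (-1 : F) ≠ 1 := by
      intro h
      have : (1 : F) = 0 := by linear_combination h3 + h
      exact one_ne_zero this
    have hcard : ({0, 1, -1} : Finset F).card = 3 := by
      rw [Finset.card_insert_of_notMem, Finset.card_insert_of_notMem, Finset.card_singleton]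
      · simp [hm11.symm]
      · simp [h10.symm, hm10.symm]
    have huniv : ({0, 1, -1} : Finset F) = Finset.univ := by
      apply Finset.eq_univ_of_card
      rw [hcard, hF]
    have := Finset.mem_univ x
    rw [← huniv] at this
    simpa using this
  rcases tri a with rfl | rfl | rfl <;> rcases tri b with rfl | rfl | rfl
  · -- (0,0)
    refine ⟨4, by decide, Or.inr (pow_of_poly' M 4 1 ?_)⟩
    rw [hp]; simp only [map_zero, map_one, map_neg]; ring
  · -- (0,1)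
    refine ⟨6, by decide, Or.inl (pow_of_poly M 6 (-1 + X ^ 2) ?_)⟩
    rw [hp]; simp only [map_zero, map_one, map_neg]; ring
  · -- (0,-1)
    refine ⟨6, by decide, Or.inr (pow_of_poly' M 6 (1 + X ^ 2) ?_)⟩
    rw [hp]; simp only [map_zero, map_one, map_neg]; ring
  · -- (1,0)
    refine ⟨9, by decide, Or.inr (pow_of_poly' M 9 (-2 + 2 * X - 2 * X ^ 2 + X ^ 3 - X ^ 4 + X ^ 5) ?_)⟩
    rw [hp]; simp only [map_zero, map_one, map_neg]
    linear_combination (1 + X ^ 3) * h3X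
  · -- (1,1)
    refine ⟨5, by decide, Or.inl (pow_of_poly M 5 (-1 + X) ?_)⟩
    rw [hp]; simp only [map_zero, map_one, map_neg]; ring
  · -- (1,-1)
    refine ⟨12, by decide, Or.inl (pow_of_poly M 12
      (56 - 32 * X + 19 * X ^ 2 - 11 * X ^ 3 + 6 * X ^ 4 - 4 * X ^ 5 + 2 * X ^ 6 - X ^ 7 + X ^ 8) ?_)⟩
    rw [hp]; simp only [map_zero, map_one, map_neg]
    linear_combination (-19 - 8 * X + 23 * X ^ 2 - 32 * X ^ 3) * h3X
  · -- (-1,0)
    refine ⟨9, by decide, Or.inl (pow_of_poly M 9 (2 + 2 * X + 2 * X ^ 2 + X ^ 3 + X ^ 4 + X ^ 5) ?_)⟩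
    rw [hp]; simp only [map_zero, map_one, map_neg]
    linear_combination (-1 + X ^ 3) * h3X
  · -- (-1,1)
    refine ⟨5, by decide, Or.inr (pow_of_poly' M 5 (1 + X) ?_)⟩
    rw [hp]; simp only [map_zero, map_one, map_neg]; ring
  · -- (-1,-1)
    refine ⟨12, by decide, Or.inl (pow_of_poly M 12
      (56 + 32 * X + 19 * X ^ 2 + 11 * X ^ 3 + 6 * X ^ 4 + 4 * X ^ 5 + 2 * X ^ 6 + X ^ 7 + X ^ 8) ?_)⟩
    rw [hp]; simp only [map_zero, map_one, map_neg]
    linear_combination (-19 + 8 * X + 23 * X ^ 2 + 32 * X ^ 3) * h3X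

end charpoly

section psp

variable {F : Type*} [Field F]

/-- transport to `F`. -/
def toSp (ι : ZMod 3 →+* F) (A : Matrix (Fin 2 ⊕ Fin 2) (Fin 2 ⊕ Fin 2) (ZMod 3))
    (hA : A ∈ symplecticGroup (Fin 2) (ZMod 3)) : symplecticGroup (Fin 2) F :=
  ⟨A.map ι, SymplecticGroup.map_mem hA ι⟩

theorem toSp_pow (ι : ZMod 3 →+* F) (A : Matrix (Fin 2 ⊕ Fin 2) (Fin 2 ⊕ Fin 2) (ZMod 3))
    (hA : A ∈ symplecticGroup (Fin 2) (ZMod 3)) (k : ℕ) :
    ((toSp ι A hA ^ k : symplecticGroup (Fin 2) F) : Matrix (Fin 2 ⊕ Fin 2) (Fin 2 ⊕ Fin 2) F) =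
      (A ^ k).map ι := by
  rw [SubmonoidClass.coe_pow]
  exact (map_pow ι.mapMatrix A k).symm

theorem toSp_pow_eq_one (ι : ZMod 3 →+* F) (A : Matrix (Fin 2 ⊕ Fin 2) (Fin 2 ⊕ Fin 2) (ZMod 3))
    (hA : A ∈ symplecticGroup (Fin 2) (ZMod 3)) (k : ℕ) (h : A ^ k = 1) : toSp ι A hA ^ k = 1 := by
  apply Subtype.ext
  rw [toSp_pow, h]
  exact map_one ι.mapMatrix

theorem toSp_not_center (ι : ZMod 3 →+* F) (hι : Function.Injective ι)
    (A B : Matrix (Fin 2 ⊕ Fin 2) (Fin 2 ⊕ Fin 2) (ZMod 3))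
    (hA : A ∈ symplecticGroup (Fin 2) (ZMod 3)) (hB : B ∈ symplecticGroup (Fin 2) (ZMod 3)) (k : ℕ)
    (h : B * A ^ k ≠ A ^ k * B) :
    toSp ι A hA ^ k ∉ Subgroup.center (symplecticGroup (Fin 2) F) := by
  intro hc
  rw [Subgroup.mem_center_iff] at hc
  have h1 := congrArg (fun z : symplecticGroup (Fin 2) F =>
    (z : Matrix (Fin 2 ⊕ Fin 2) (Fin 2 ⊕ Fin 2) F)) (hc (toSp ι B hB))
  simp only [Submonoid.coe_mul, toSp_pow] at h1
  change B.map ι * (A ^ k).map ι = (A ^ k).map ι * B.map ι at h1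
  rw [← Matrix.map_mul, ← Matrix.map_mul] at h1
  exact h (Matrix.map_injective hι h1)

/-- the spectrum. -/
def SpecP : Finset ℕ := {1, 2, 3, 4, 5, 6, 9, 12}

theorem orderOf_mem_SpecP [Fintype F] (hF : Fintype.card F = 3) (x : Cfsg.PSp 2 F) :
    orderOf x ∈ SpecP := by
  induction x using QuotientGroup.induction_on with
  | H A =>
    obtain ⟨m, hm, h⟩ := symp_pow hF A.1 A.2
    have h1 : ((A : Cfsg.PSp 2 F)) ^ m = 1 := by
      rw [← QuotientGroup.mk_pow, QuotientGroup.eq_one_iff, Subgroup.mem_center_iff]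
      intro g
      apply Subtype.ext
      rw [Submonoid.coe_mul, Submonoid.coe_mul, SubmonoidClass.coe_pow]
      rcases h with h | h
      · rw [h, Matrix.mul_one, Matrix.one_mul]
      · rw [h, Matrix.mul_neg, Matrix.neg_mul, Matrix.mul_one, Matrix.one_mul]
    have h2 : orderOf (A : Cfsg.PSp 2 F) ∣ m := orderOf_dvd_of_pow_eq_one h1
    have h3 : ∀ d ∈ ({4, 5, 6, 9, 12} : Finset ℕ), ∀ e ∈ Nat.divisors d, e ∈ SpecP := by decide
    exact h3 m hm _ (Nat.mem_divisors.mpr ⟨h2, by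
      rintro rfl
      simp at hm⟩)

theorem range_orderOf_PSp [Fintype F] (hF : Fintype.card F = 3) :
    Set.range (orderOf : Cfsg.PSp 2 F → ℕ) = ↑SpecP := by
  let e : ZMod 3 ≃+* F := ZMod.ringEquivOfPrime F Nat.prime_three hF
  let ι : ZMod 3 →+* F := e.toRingHom
  have hι : Function.Injective ι := e.injective
  ext n
  simp only [Set.mem_range, Finset.mem_coe]
  constructor
  · rintro ⟨x, rfl⟩
    exact orderOf_mem_SpecP hF x
  · intro hn
    have o5 : orderOf ((toSp ι (mk4 A5) A5_mem : symplecticGroup (Fin 2) F) : Cfsg.PSp 2 F) = 5 := by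
      have : Fact (Nat.Prime 5) := ⟨by norm_num⟩
      apply orderOf_eq_prime
      · rw [← QuotientGroup.mk_pow, toSp_pow_eq_one ι _ _ 5 A5_pow]; rfl
      · intro h
        rw [QuotientGroup.eq_one_iff] at h
        have := toSp_not_center ι hι (mk4 A5) (mk4 B1) A5_mem B1_mem 1 A5_nc
        rw [pow_one] at this
        exact this h
    have o9 : orderOf ((toSp ι (mk4 A9) A9_mem : symplecticGroup (Fin 2) F) : Cfsg.PSp 2 F) = 9 := by
      have : Fact (Nat.Prime 3) := ⟨by norm_num⟩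
      have e9 : (9 : ℕ) = 3 ^ (1 + 1) := rfl
      rw [e9]
      apply orderOf_eq_prime_pow
      · rw [pow_one, ← QuotientGroup.mk_pow, QuotientGroup.eq_one_iff]
        exact toSp_not_center ι hι (mk4 A9) (mk4 B1) A9_mem B1_mem 3 A9_nc
      · rw [← e9, ← QuotientGroup.mk_pow, toSp_pow_eq_one ι _ _ 9 A9_pow]; rfl
    have o12 : orderOf ((toSp ι (mk4 A12) A12_mem : symplecticGroup (Fin 2) F) : Cfsg.PSp 2 F) = 12 := by
      apply order_eq_of'' [4, 6] (by norm_num)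
      · rw [← QuotientGroup.mk_pow, toSp_pow_eq_one ι _ _ 12 A12_pow]; rfl
      · intro m hm
        simp only [List.mem_cons, List.mem_nil_iff, or_false] at hm
        rcases hm with rfl | rfl
        · rw [← QuotientGroup.mk_pow, Ne, QuotientGroup.eq_one_iff]
          exact toSp_not_center ι hι (mk4 A12) (mk4 B4) A12_mem B4_mem 4 A12_nc4
        · rw [← QuotientGroup.mk_pow, Ne, QuotientGroup.eq_one_iff]
          exact toSp_not_center ι hι (mk4 A12) (mk4 B6) A12_mem B6_mem 6 A12_nc6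
      · decide
    have h3 : ∀ n ∈ SpecP, n ∣ 5 ∨ n ∣ 9 ∨ n ∣ 12 := by decide
    rcases h3 n hn with h | h | h
    · exact exists_orderOf_eq_of_dvd'' (by norm_num) o5 h
    · exact exists_orderOf_eq_of_dvd'' (by norm_num) o9 h
    · exact exists_orderOf_eq_of_dvd'' (by norm_num) o12 h

end psp

end Cfsg.Agent.Lib.Helper4.S43P
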