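import Mathlib
import Cfsg.Agent.Lib.Helper8.ThTwoA
import Cfsg.Agent.Lib.Helper8.ThTwoE

/-!
# SF market (S2752), leaf `dual`: the contragredient module of a faithful elementary abelian `2`-module

`V' := V →* ℤˣ`, `(g • φ) v = φ (g⁻¹ • v)`.
-/

set_option autoImplicit false
universe u v
open Cfsg Cfsg.Agent.Lib.Helper8.ThTwo

namespace Cfsg.Agent.Lib.Helper4.SFLeaf

namespace DualAux

/-- `ℤ` has enough square roots of unity. -/
theorem hasEnough_int_two : HasEnoughRootsOfUnity ℤ 2 where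
  prim := ⟨-1, IsPrimitiveRoot.neg_one 0 (by norm_num)⟩
  cyc := inferInstance

section
variable {Γ : Type u} {V : Type v} [Group Γ] [CommGroup V] [MulDistribMulAction Γ V]

/-- The contragredient action on characters. -/
@[reducible] def dualAction : MulDistribMulAction Γ (V →* ℤˣ) where
  smul g φ := φ.comp (MulDistribMulAction.toMonoidHom V g⁻¹)
  one_smul φ := by
    ext v
    show ((φ (((1 : Γ)⁻¹) • v) : ℤˣ) : ℤ) = φ v
    rw [inv_one, one_smul]
  mul_smul g h φ := by
    ext v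
    show ((φ (((g * h)⁻¹) • v) : ℤˣ) : ℤ) = φ (h⁻¹ • g⁻¹ • v)
    rw [mul_inv_rev, mul_smul]
  smul_mul g φ ψ := by
    ext v
    rfl
  smul_one g := by
    ext v
    rfl

theorem dualAction_apply (g : Γ) (φ : V →* ℤˣ) (v : V) :
    (letI := dualAction (Γ := Γ) (V := V); g • φ) v = φ (g⁻¹ • v) := rfl

end

section
variable {Γ : Type u} {V : Type v} [Group Γ] [CommGroup V] [Finite V] [MulDistribMulAction Γ V]

theorem hasEnough_exponent (hV2 : ∀ v : V, v ^ 2 = 1) :
    HasEnoughRootsOfUnity ℤ (Monoid.exponent V) := by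
  haveI := hasEnough_int_two
  exact HasEnoughRootsOfUnity.of_dvd ℤ (Monoid.exponent_dvd_of_forall_pow_eq_one hV2)

theorem char_sq (hV2 : ∀ v : V, v ^ 2 = 1) (φ : V →* ℤˣ) : φ ^ 2 = 1 := by
  ext v
  have : (φ ^ 2) v = 1 := by
    rw [MonoidHom.pow_apply, ← map_pow, hV2, map_one]
  rw [this]
  rfl

theorem dual_faithful (hV2 : ∀ v : V, v ^ 2 = 1)
    (hfaith : ∀ g : Γ, (∀ v : V, g • v = v) → g = 1) (g : Γ)
    (hg : ∀ φ : V →* ℤˣ, (letI := dualAction (Γ := Γ) (V := V); g • φ) = φ) : g = 1 := by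
  haveI := hasEnough_exponent (V := V) hV2
  have h1 : g⁻¹ = 1 := by
    apply hfaith
    intro v
    rw [← CommGroup.forall_apply_eq_apply_iff (G := V) (M := ℤ)]
    intro φ
    have := hg φ
    have h2 := congrArg (fun ψ : V →* ℤˣ => ψ v) this
    exact h2
  rwa [inv_eq_one] at h1

theorem mem_fixSub_dual_iff (A : Subgroup Γ) (φ : V →* ℤˣ) :
    (letI := dualAction (Γ := Γ) (V := V); φ ∈ fixSub (V := V →* ℤˣ) A) ↔
      ∀ w ∈ commSub (V := V) A, φ w = 1 := by
  constructor
  · intro h w hw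
    have hle : commSub (V := V) A ≤ φ.ker := by
      unfold commSub
      rw [Subgroup.closure_le]
      rintro w ⟨x, hx, u, rfl⟩
      show φ (u⁻¹ * x • u) = 1
      have h1 := h x⁻¹ (A.inv_mem hx)
      have h2 : φ ((x⁻¹)⁻¹ • u) = φ u := congrArg (fun ψ : V →* ℤˣ => ψ u) h1
      rw [inv_inv] at h2
      rw [map_mul, map_inv, h2, inv_mul_cancel]
    exact hle hw
  · intro h a ha
    ext v
    show ((φ (a⁻¹ • v) : ℤˣ) : ℤ) = φ v
    have h1 : φ (v⁻¹ * a⁻¹ • v) = 1 := by
      apply h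
      apply Subgroup.subset_closure
      exact ⟨a⁻¹, A.inv_mem ha, v, rfl⟩
    rw [map_mul, map_inv, inv_mul_eq_one] at h1
    rw [h1]

theorem card_fixSub_dual (hV2 : ∀ v : V, v ^ 2 = 1) (A : Subgroup Γ) :
    (letI := dualAction (Γ := Γ) (V := V); Nat.card ↥(fixSub (V := V →* ℤˣ) A)) *
      Nat.card ↥(commSub (V := V) A) = Nat.card V := by
  haveI := hasEnough_exponent (V := V) hV2
  have hEq : (letI := dualAction (Γ := Γ) (V := V); fixSub (V := V →* ℤˣ) A) =
      (MonoidHom.domRestrictHom (commSub (V := V) A) ℤˣ).ker := by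
    ext φ
    rw [mem_fixSub_dual_iff, MonoidHom.mem_ker, MonoidHom.domRestrictHom_apply,
      MonoidHom.domRestrict_eq_one_iff]
  rw [hEq, CommGroup.card_domRestrictHom_ker (M := ℤ)]
  exact (Subgroup.card_eq_card_quotient_mul_card_subgroup _).symm

end

end DualAux

section module
variable {Γ : Type u} {V : Type v} [Group Γ] [Finite Γ] [Group V] [Finite V] [MulDistribMulAction Γ V]

/-- **dual** (contragredient module). -/
theorem dual (hVc : ∀ a b : V, a * b = b * a) (hV2 : ∀ v : V, v ^ 2 = 1)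
    (hfaith : ∀ g : Γ, (∀ v : V, g • v = v) → g = 1) :
    ∃ (V' : Type v) (_ : Group V') (_ : Finite V') (_ : MulDistribMulAction Γ V'),
      (∀ a b : V', a * b = b * a) ∧ (∀ v : V', v ^ 2 = 1) ∧
      (∀ g : Γ, (∀ v : V', g • v = v) → g = 1) ∧ Nat.card V' = Nat.card V ∧
      ∀ A : Subgroup Γ, Nat.card ↥(fixSub (V := V') A) * Nat.card ↥(commSub (V := V) A) = Nat.card V := by
  letI iC : CommGroup V := { ‹Group V› with mul_comm := hVc }
  haveI := DualAux.hasEnough_exponent (V := V) hV2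
  refine ⟨V →* ℤˣ, inferInstance, ?_, DualAux.dualAction (Γ := Γ) (V := V), ?_, ?_, ?_, ?_, ?_⟩
  · exact Nat.finite_of_card_ne_zero (by
      rw [CommGroup.card_monoidHom_of_hasEnoughRootsOfUnity V ℤ]
      exact Nat.card_pos.ne')
  · intro a b
    exact mul_comm a b
  · intro φ
    exact DualAux.char_sq hV2 φ
  · intro g hg
    exact DualAux.dual_faithful (Γ := Γ) (V := V) hV2 hfaith g hg
  · exact CommGroup.card_monoidHom_of_hasEnoughRootsOfUnity V ℤ
  · intro A
    exact DualAux.card_fixSub_dual (Γ := Γ) (V := V) hV2 A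

end module

end Cfsg.Agent.Lib.Helper4.SFLeaf
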