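import Mathlib
import Cfsg.Agent.Lib.Helper16.SLMinDefs
import Cfsg.Agent.Lib.Helper13.SLMinW
import Cfsg.Agent.Lib.Helper10.SLMinStage
import Cfsg.Agent.Lib.Helper24.SLMinC1Rel
import Cfsg.Agent.Lib.Helper25.SLMinSym3

/-!
# S2332, stage 0: the two Levi-diagonal symmetry inputs (sub-leaves (S2) and (X1) of C1)

* `stage0_hMix_eq1` : `|J| = 1`, `q ∉ {2, 4}`: mixing by `diag(c, c, c⁻²)`, `c³ ≠ 1`;
* `stage0_hSym_eq2` : `|J| = 2`, `q ≥ 4`: rank-2 exclusion orbit from the torus and `rx`.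
-/

set_option autoImplicit false
set_option linter.unusedVariables false

namespace Cfsg.Agent.Lib.Helper4.SLMin

open Matrix Module Cfsg.Agent.Lib.Helper16.SLMin Cfsg.Agent.Lib.Helper13.SLMin

section diag

variable {F : Type*} [Field F] {ι' : Type*} [Fintype ι'] [DecidableEq ι']

/-- the diagonal element of `GL ι' F` with unit entries `d` -/
def dg (d : ι' → Fˣ) : GL ι' F :=
  ⟨diagonal (fun i => (d i : F)), diagonal (fun i => ((d i)⁻¹ : Fˣ)),
    by rw [diagonal_mul_diagonal, ← diagonal_one]; congr 1; ext i; simp,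
    by rw [diagonal_mul_diagonal, ← diagonal_one]; congr 1; ext i; simp⟩

theorem dg_coe (d : ι' → Fˣ) : (dg d : Matrix ι' ι' F) = diagonal (fun i => (d i : F)) := rfl

theorem dg_inv_coe (d : ι' → Fˣ) :
    ((dg d)⁻¹ : GL ι' F) = dg (fun i => (d i)⁻¹) := by
  apply Units.ext
  rfl

theorem det_dg (d : ι' → Fˣ) : (dg d : Matrix ι' ι' F).det = ∏ i, (d i : F) := by
  rw [dg_coe, det_diagonal]

/-- conjugating the radical by a Levi-diagonal element -/
theorem levi_dg_rad (d : ι' → Fˣ) (r : ι' → F) :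
    levi (dg d) * rad r * (levi (dg d))⁻¹ =
      rad (fun i => (∏ j, (d j : F))⁻¹ * (r i * ((d i)⁻¹ : Fˣ))) := by
  rw [levi_rad, det_dg, dg_inv_coe, dg_coe]
  congr 1
  ext i
  rw [Pi.smul_apply, vecMul_diagonal, smul_eq_mul]

end diag

section diag2
variable {F : Type*} [Field F] {J : Type*} [Fintype J] [DecidableEq J]

theorem dg_conj_rad (d : Unit ⊕ J → Fˣ) (w : J → F) :
    dg d * SpecialLinearGroup.toGL (rad w) * (dg d)⁻¹ =
      SpecialLinearGroup.toGL (rad (fun j => (d (Sum.inl ()) : F) * (w j * ((d (Sum.inr j))⁻¹ : Fˣ)))) := by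
  apply Units.ext
  rw [Units.val_mul, Units.val_mul, dg_inv_coe, dg_coe, dg_coe]
  rw [SpecialLinearGroup.coe_GL_coe_matrix, SpecialLinearGroup.coe_GL_coe_matrix, rad_coe, rad_coe]
  ext i j
  rw [mul_diagonal, diagonal_mul]
  rcases i with i | i <;> rcases j with j | j
  · simp
  · simp [mul_assoc]
  · simp
  · by_cases h : i = j
    · subst h; simp
    · simp [h]

theorem levi_dg_rb (d : Unit ⊕ J → Fˣ) (w : J → F) :
    levi (dg d) * rb w * (levi (dg d))⁻¹ =
      rb (fun j => (d (Sum.inl ()) : F) * (w j * ((d (Sum.inr j))⁻¹ : Fˣ))) := by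
  unfold rb
  rw [emb_eq_levi, emb_eq_levi, ← map_inv, ← map_mul, ← map_mul, dg_conj_rad]

end diag2

section bd
variable {F : Type*} [Field F] {J : Type*} [Fintype J] [DecidableEq J]

/-- block diagonal `diag(a; h)` in `GL (Unit ⊕ J) F` -/
def bd (a : Fˣ) (h : GL J F) : GL (Unit ⊕ J) F :=
  ⟨fromBlocks ((a : F) • (1 : Matrix Unit Unit F)) 0 0 (h : Matrix J J F),
   fromBlocks (((a⁻¹ : Fˣ) : F) • (1 : Matrix Unit Unit F)) 0 0 ((h⁻¹ : GL J F) : Matrix J J F),
   by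
    rw [fromBlocks_multiply, ← fromBlocks_one]
    congr 1
    · simp [smul_smul]
    · simp
    · simp
    · simp [← Units.val_mul],
   by
    rw [fromBlocks_multiply, ← fromBlocks_one]
    congr 1
    · simp [smul_smul]
    · simp
    · simp
    · simp [← Units.val_mul]⟩

theorem bd_coe (a : Fˣ) (h : GL J F) : (bd a h : Matrix (Unit ⊕ J) (Unit ⊕ J) F) =
    fromBlocks ((a : F) • (1 : Matrix Unit Unit F)) 0 0 (h : Matrix J J F) := rfl

theorem bd_inv_coe (a : Fˣ) (h : GL J F) : (((bd a h)⁻¹ : GL (Unit ⊕ J) F) : Matrix (Unit ⊕ J) (Unit ⊕ J) F) =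
    fromBlocks (((a⁻¹ : Fˣ) : F) • (1 : Matrix Unit Unit F)) 0 0 ((h⁻¹ : GL J F) : Matrix J J F) := rfl

theorem det_bd (a : Fˣ) (h : GL J F) :
    (bd a h : Matrix (Unit ⊕ J) (Unit ⊕ J) F).det = (a : F) * (h : Matrix J J F).det := by
  rw [bd_coe, det_fromBlocks_zero₂₁, det_smul, det_one, Fintype.card_unit, pow_one, mul_one]

/-- conjugation of `ra` by `levi (bd a h)` -/
theorem levi_bd_ra (a : Fˣ) (h : GL J F) (r : J → F) :
    levi (bd a h) * ra r * (levi (bd a h))⁻¹ =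
      ra ((((a : F) * (h : Matrix J J F).det)⁻¹) • (r ᵥ* ((h⁻¹ : GL J F) : Matrix J J F))) := by
  unfold ra
  rw [levi_rad, det_bd, bd_inv_coe]
  congr 1
  ext i
  rcases i with i | i
  · simp [vecMul, dotProduct, fromBlocks]
  · simp [vecMul, dotProduct, fromBlocks]

theorem bd_conj_rad (a : Fˣ) (h : GL J F) (w : J → F) :
    bd a h * SpecialLinearGroup.toGL (rad w) * (bd a h)⁻¹ =
      SpecialLinearGroup.toGL (rad ((a : F) • (w ᵥ* ((h⁻¹ : GL J F) : Matrix J J F)))) := by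
  apply Units.ext
  rw [Units.val_mul, Units.val_mul, bd_inv_coe, bd_coe,
    SpecialLinearGroup.coe_GL_coe_matrix, SpecialLinearGroup.coe_GL_coe_matrix, rad_coe, rad_coe,
    fromBlocks_multiply, fromBlocks_multiply]
  have hh : (h : Matrix J J F) * ((h⁻¹ : GL J F) : Matrix J J F) = 1 := by
    rw [← Units.val_mul, mul_inv_cancel, Units.val_one]
  congr 1
  · simp [smul_smul]
  · ext i j
    simp [replicateRow, Matrix.mul_apply, vecMul, dotProduct, Finset.mul_sum, mul_assoc]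
  · simp
  · simp [hh]

/-- conjugation of `rb` by `levi (bd a h)` -/
theorem levi_bd_rb (a : Fˣ) (h : GL J F) (w : J → F) :
    levi (bd a h) * rb w * (levi (bd a h))⁻¹ =
      rb ((a : F) • (w ᵥ* ((h⁻¹ : GL J F) : Matrix J J F))) := by
  unfold rb
  rw [emb_eq_levi, emb_eq_levi, ← map_inv, ← map_mul, ← map_mul, bd_conj_rad]

end bd

section wtmove

variable {F : Type*} [Field F] [Fintype F] [DecidableEq F] {M : Type*} [AddCommGroup M]
  [Module ℂ M] [FiniteDimensional ℂ M] {J : Type*} [Fintype J] [DecidableEq J]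
  (ρ : Representation ℂ (SpecialLinearGroup (Unit ⊕ (Unit ⊕ J)) F) M)

theorem map_rho_top {H : Type*} [Group H] (σ : Representation ℂ H M) (g : H) :
    Submodule.map (σ g) (⊤ : Submodule ℂ M) = ⊤ := by
  rw [Submodule.map_top, LinearMap.range_eq_top]
  intro m
  refine ⟨σ g⁻¹ m, ?_⟩
  show (σ g * σ g⁻¹) m = m
  rw [← map_mul, mul_inv_cancel, map_one]
  rfl

theorem GL_inv_mul_coe (h : GL J F) :
    ((h⁻¹ : GL J F) : Matrix J J F) * (h : Matrix J J F) = 1 := by
  rw [← Units.val_mul, inv_mul_cancel, Units.val_one]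

theorem GL_mul_inv_coe (h : GL J F) :
    (h : Matrix J J F) * ((h⁻¹ : GL J F) : Matrix J J F) = 1 := by
  rw [← Units.val_mul, mul_inv_cancel, Units.val_one]

theorem GL_det_ne_zero (h : GL J F) : (h : Matrix J J F).det ≠ 0 :=
  ((Matrix.isUnit_iff_isUnit_det _).mp h.isUnit).ne_zero

theorem dot_aux (h : GL J F) (v r : J → F) :
    ((h : Matrix J J F) *ᵥ v) ⬝ᵥ (r ᵥ* ((h⁻¹ : GL J F) : Matrix J J F)) = v ⬝ᵥ r := by
  calc ((h : Matrix J J F) *ᵥ v) ⬝ᵥ (r ᵥ* ((h⁻¹ : GL J F) : Matrix J J F))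
      = (r ᵥ* ((h⁻¹ : GL J F) : Matrix J J F)) ⬝ᵥ ((h : Matrix J J F) *ᵥ v) := dotProduct_comm _ _
    _ = r ⬝ᵥ (((h⁻¹ : GL J F) : Matrix J J F) *ᵥ ((h : Matrix J J F) *ᵥ v)) :=
        (dotProduct_mulVec r _ _).symm
    _ = r ⬝ᵥ v := by rw [mulVec_mulVec, GL_inv_mul_coe, one_mulVec]
    _ = v ⬝ᵥ r := dotProduct_comm _ _

/-- how `levi (bd a h)` moves the weight spaces of `ra` -/
theorem map_wt_ra_bd (a : Fˣ) (h : GL J F) (v : J → F) :
    Submodule.map (ρ (levi (bd a h))) (wt ρ (ra (F := F) (J := J)) v) =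
      wt ρ (ra (F := F) (J := J)) (((a : F) * (h : Matrix J J F).det) • ((h : Matrix J J F) *ᵥ v)) := by
  have hne : (a : F) * (h : Matrix J J F).det ≠ 0 := mul_ne_zero a.ne_zero (GL_det_ne_zero h)
  refine map_wt_of_conj ρ ra ra (levi (bd a h))
    (fun r => (((a : F) * (h : Matrix J J F).det)⁻¹) • (r ᵥ* ((h⁻¹ : GL J F) : Matrix J J F)))
    ?_ (fun r => levi_bd_ra a h r) v _ ?_
  · intro y
    refine ⟨((a : F) * (h : Matrix J J F).det) • (y ᵥ* (h : Matrix J J F)), ?_⟩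
    simp only
    rw [smul_vecMul, vecMul_vecMul, GL_mul_inv_coe, vecMul_one, smul_smul, inv_mul_cancel₀ hne,
      one_smul]
  · intro r
    rw [smul_dotProduct, dotProduct_smul, smul_smul, mul_inv_cancel₀ hne, one_smul]
    exact (dot_aux h v r).symm

/-- how `levi (bd a h)` moves the weight spaces of `rb` -/
theorem map_wt_rb_bd (a : Fˣ) (h : GL J F) (w : J → F) :
    Submodule.map (ρ (levi (bd a h))) (wt ρ (rb (F := F) (J := J)) w) =
      wt ρ (rb (F := F) (J := J)) ((((a⁻¹ : Fˣ) : F)) • ((h : Matrix J J F) *ᵥ w)) := by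
  refine map_wt_of_conj ρ rb rb (levi (bd a h))
    (fun r => (a : F) • (r ᵥ* ((h⁻¹ : GL J F) : Matrix J J F)))
    ?_ (fun r => levi_bd_rb a h r) w _ ?_
  · intro y
    refine ⟨((a⁻¹ : Fˣ) : F) • (y ᵥ* (h : Matrix J J F)), ?_⟩
    simp only
    rw [smul_vecMul, vecMul_vecMul, GL_mul_inv_coe, vecMul_one, smul_smul]
    simp
  · intro r
    rw [smul_dotProduct, dotProduct_smul, smul_smul]
    have : ((a⁻¹ : Fˣ) : F) * (a : F) = 1 := by simp
    rw [this, one_smul]
    exact (dot_aux h w r).symm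

end wtmove

section hmat
variable {F : Type*} [Field F] {J : Type*} [Fintype J] [DecidableEq J]

/-- `1 + (c - 1) v ψᵀ`: multiplies `v` by `c` and fixes `ker ψ` (when `ψ v = 1`) -/
def hmat (v ψ : J → F) (c : F) : Matrix J J F := 1 + (c - 1) • vecMulVec v ψ

theorem hmat_one (v ψ : J → F) : hmat v ψ 1 = 1 := by
  unfold hmat; simp

theorem hmat_mul {v ψ : J → F} (hψv : ψ ⬝ᵥ v = 1) (c c' : F) :
    hmat v ψ c * hmat v ψ c' = hmat v ψ (c * c') := by
  unfold hmat
  rw [Matrix.add_mul, Matrix.mul_add, Matrix.mul_add, Matrix.one_mul, Matrix.mul_one,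
    Matrix.one_mul, Matrix.smul_mul, Matrix.mul_smul, vecMulVec_mul_vecMulVec, hψv, one_smul,
    smul_smul, add_assoc, ← add_smul, ← add_smul]
  congr 2
  ring

theorem hmat_mulVec_self {v ψ : J → F} (hψv : ψ ⬝ᵥ v = 1) (c : F) :
    hmat v ψ c *ᵥ v = c • v := by
  unfold hmat
  rw [Matrix.add_mulVec, Matrix.one_mulVec, Matrix.smul_mulVec, vecMulVec_mulVec, hψv]
  ext j
  simp
  ring

theorem hmat_mulVec_ker {v ψ w : J → F} (hψw : ψ ⬝ᵥ w = 0) (c : F) :
    hmat v ψ c *ᵥ w = w := by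
  unfold hmat
  rw [Matrix.add_mulVec, Matrix.one_mulVec, Matrix.smul_mulVec, vecMulVec_mulVec, hψw]
  ext j
  simp

theorem det_hmat {v ψ : J → F} (hψv : ψ ⬝ᵥ v = 1) (c : F) : (hmat v ψ c).det = c := by
  unfold hmat
  rw [← smul_vecMulVec, vecMulVec_eq Unit, det_one_add_replicateCol_mul_replicateRow,
    dotProduct_smul, hψv]
  simp

/-- `hmat` as an element of `GL` -/
def hGL {v ψ : J → F} (hψv : ψ ⬝ᵥ v = 1) (c : Fˣ) : GL J F :=
  ⟨hmat v ψ (c : F), hmat v ψ ((c⁻¹ : Fˣ) : F),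
    by rw [hmat_mul hψv, ← Units.val_mul, mul_inv_cancel, Units.val_one, hmat_one],
    by rw [hmat_mul hψv, ← Units.val_mul, inv_mul_cancel, Units.val_one, hmat_one]⟩

theorem hGL_coe {v ψ : J → F} (hψv : ψ ⬝ᵥ v = 1) (c : Fˣ) :
    (hGL hψv c : Matrix J J F) = hmat v ψ (c : F) := rfl

end hmat

section units
variable {F : Type*} [Field F] [Fintype F]

theorem exists_unit_pow_ne_one (k : ℕ) (hk : ¬ (Fintype.card F - 1) ∣ k) :
    ∃ c : Fˣ, c ^ k ≠ 1 := by
  classical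
  by_contra hcon
  push Not at hcon
  obtain ⟨g, hg⟩ := IsCyclic.exists_generator (α := Fˣ)
  have h1 : orderOf g = Fintype.card Fˣ := by
    rw [orderOf_eq_card_of_forall_mem_zpowers hg, Nat.card_eq_fintype_card]
  rw [Fintype.card_units] at h1
  apply hk
  rw [← h1]
  exact orderOf_dvd_of_pow_eq_one (hcon g)

end units

section main
variable {F : Type*} [Field F] [Fintype F] [DecidableEq F] {M : Type*} [AddCommGroup M]
  [Module ℂ M] [FiniteDimensional ℂ M] {J : Type*} [Fintype J] [DecidableEq J]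
  (ρ : Representation ℂ (SpecialLinearGroup (Unit ⊕ (Unit ⊕ J)) F) M)

/-- the torus symmetry `d(v, w) = d(v, c² w)` -/
theorem finrank_torus (v w : J → F) (hvw : LinearIndependent F ![v, w]) (c : Fˣ) :
    finrank ℂ ↥((⊤ : Submodule ℂ M) ⊓ wt ρ (ra (F := F) (J := J)) v ⊓
        wt ρ (rb (F := F) (J := J)) (((c : F) ^ 2) • w)) =
      finrank ℂ ↥((⊤ : Submodule ℂ M) ⊓ wt ρ (ra (F := F) (J := J)) v ⊓
        wt ρ (rb (F := F) (J := J)) w) := by
  have hwv : LinearIndependent F ![w, v] := LinearIndependent.pair_symm_iff.mp hvw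
  obtain ⟨ψ, hψw, hψv⟩ := Cfsg.Agent.Lib.Helper25.SLMin.exists_dot_functional w v hwv
  set h : GL J F := hGL hψv c with hh
  set a : Fˣ := (c⁻¹) ^ 2 with ha
  have hdet : (h : Matrix J J F).det = (c : F) := by rw [hh, hGL_coe, det_hmat hψv]
  have hv : (h : Matrix J J F) *ᵥ v = (c : F) • v := by rw [hh, hGL_coe, hmat_mulVec_self hψv]
  have hw : (h : Matrix J J F) *ᵥ w = w := by rw [hh, hGL_coe, hmat_mulVec_ker hψw]
  have hcne : (c : F) ≠ 0 := c.ne_zero
  have e1 : ((a : F) * (h : Matrix J J F).det) • ((h : Matrix J J F) *ᵥ v) = v := by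
    rw [hdet, hv, smul_smul, ha]
    have : ((((c⁻¹) ^ 2 : Fˣ) : F)) * (c : F) * (c : F) = 1 := by
      push_cast
      field_simp
    rw [this, one_smul]
  have e2 : (((a⁻¹ : Fˣ) : F)) • ((h : Matrix J J F) *ᵥ w) = ((c : F) ^ 2) • w := by
    have h3 : (((((c⁻¹) ^ 2 : Fˣ))⁻¹ : Fˣ) : F) = (c : F) ^ 2 := by
      rw [← Units.val_pow_eq_pow_val, inv_pow, inv_inv]
    rw [hw, ha, h3]
  have key := map_wt_ra_bd ρ a h v
  have key2 := map_wt_rb_bd ρ a h w
  rw [e1] at key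
  rw [e2] at key2
  rw [← finrank_map_rho ρ (levi (bd a h))
    ((⊤ : Submodule ℂ M) ⊓ wt ρ (ra (F := F) (J := J)) v ⊓ wt ρ (rb (F := F) (J := J)) w),
    map_rho_inf, map_rho_inf, map_rho_top, key, key2]

/-- the `rx`-shift symmetry `d(v, w - t v) = d(v, w)` -/
theorem finrank_rx_shift (t : F) (v w : J → F) :
    finrank ℂ ↥((⊤ : Submodule ℂ M) ⊓ wt ρ (ra (F := F) (J := J)) v ⊓
        wt ρ (rb (F := F) (J := J)) (w - t • v)) =
      finrank ℂ ↥((⊤ : Submodule ℂ M) ⊓ wt ρ (ra (F := F) (J := J)) v ⊓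
        wt ρ (rb (F := F) (J := J)) w) :=
  (Cfsg.Agent.Lib.Helper10.SLMin.finrank_shift ρ (rx (F := F) (J := J)) ra rb
    (fun t v => Cfsg.Agent.Lib.Helper24.SLMin.rx_ra_comm t v)
    (fun t w => Cfsg.Agent.Lib.Helper24.SLMin.rx_rb_conj t w)
    (⊤ : Submodule ℂ M) (fun _ _ _ => Submodule.mem_top) t v w).symm

/-- **(S2)** rank-2 exclusion input for `|J| = 2`, `q ≥ 4`. -/
theorem stage0_hSym_eq2 (h2 : Fintype.card J = 2) (hq : 4 ≤ Fintype.card F)
    (hm1 : ∀ u : Unit ⊕ J → F, u ≠ 0 →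
      finrank ℂ ↥(wt ρ (rad (F := F) (ι' := Unit ⊕ J)) u) = 1) :
    ∀ v w : J → F, LinearIndependent F ![v, w] → ∃ S : Finset (J → F),
      Fintype.card F < S.card ∧ ∀ w' ∈ S,
        finrank ℂ ↥((⊤ : Submodule ℂ M) ⊓ wt ρ (ra (F := F) (J := J)) v ⊓
          wt ρ (rb (F := F) (J := J)) w') =
        finrank ℂ ↥((⊤ : Submodule ℂ M) ⊓ wt ρ ra v ⊓ wt ρ rb w) := by
  classical
  intro v w hvw
  obtain ⟨c, hc⟩ : ∃ c : Fˣ, c ^ 2 ≠ 1 := by
    apply exists_unit_pow_ne_one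
    intro hdvd
    have := Nat.le_of_dvd (by norm_num) hdvd
    omega
  have hc' : (c : F) ^ 2 ≠ 1 := by
    intro h
    apply hc
    apply Units.ext
    rw [Units.val_pow_eq_pow_val, h, Units.val_one]
  have hind := LinearIndependent.pair_iff.mp hvw
  have hv0 : v ≠ 0 := by
    rintro rfl
    have := hind 1 0 (by simp)
    exact one_ne_zero this.1
  have inj1 : Function.Injective (fun t : F => w - t • v) := by
    intro s t hst
    simp only at hst
    have h3 : (t - s) • v + (0 : F) • w = 0 := by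
      rw [zero_smul, add_zero, sub_smul]
      have := sub_eq_zero.mpr hst
      rw [sub_sub_sub_cancel_left] at this
      exact this
    have := (hind _ _ h3).1
    exact (sub_eq_zero.mp this).symm
  have inj2 : Function.Injective (fun t : F => ((c : F) ^ 2) • w - t • v) := by
    intro s t hst
    simp only at hst
    have h3 : (t - s) • v + (0 : F) • w = 0 := by
      rw [zero_smul, add_zero, sub_smul]
      have := sub_eq_zero.mpr hst
      rw [sub_sub_sub_cancel_left] at this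
      exact this
    have := (hind _ _ h3).1
    exact (sub_eq_zero.mp this).symm
  set S1 : Finset (J → F) := Finset.univ.image (fun t : F => w - t • v) with hS1
  set S2 : Finset (J → F) := Finset.univ.image (fun t : F => ((c : F) ^ 2) • w - t • v) with hS2
  have hdisj : Disjoint S1 S2 := by
    rw [Finset.disjoint_left]
    intro y hy1 hy2
    obtain ⟨s, -, rfl⟩ := Finset.mem_image.mp hy1
    obtain ⟨t, -, ht⟩ := Finset.mem_image.mp hy2
    have h3 : (s - t) • v + ((c : F) ^ 2 - 1) • w = 0 := by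
      have := sub_eq_zero.mpr ht
      rw [sub_smul, sub_smul, one_smul]
      rw [← this]
      abel
    have := (hind _ _ h3).2
    exact hc' (sub_eq_zero.mp this)
  refine ⟨S1 ∪ S2, ?_, ?_⟩
  · rw [Finset.card_union_of_disjoint hdisj, hS1, hS2, Finset.card_image_of_injective _ inj1,
      Finset.card_image_of_injective _ inj2, Finset.card_univ]
    have : 0 < Fintype.card F := Fintype.card_pos
    omega
  · intro w' hw'
    rcases Finset.mem_union.mp hw' with h | h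
    · obtain ⟨t, -, rfl⟩ := Finset.mem_image.mp h
      exact finrank_rx_shift ρ t v w
    · obtain ⟨t, -, rfl⟩ := Finset.mem_image.mp h
      rw [finrank_rx_shift ρ t v]
      exact finrank_torus ρ v w hvw c

/-- conjugation of `rx` by `levi (bd a h)` -/
theorem levi_bd_rx (a : Fˣ) (h : GL J F) (t : Unit → F) :
    levi (bd a h) * rx (J := J) t * (levi (bd a h))⁻¹ =
      rx (((((a : F) * (h : Matrix J J F).det)⁻¹) * ((a⁻¹ : Fˣ) : F)) • t) := by
  unfold rx
  rw [levi_rad, det_bd, bd_inv_coe]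
  congr 1
  ext i
  rcases i with i | i
  · simp [vecMul, dotProduct, fromBlocks, mul_assoc]
    left
    exact mul_comm _ _
  · simp [vecMul, dotProduct, fromBlocks]

theorem map_wt_rx_bd (a : Fˣ) (h : GL J F)
    (hk : (((a : F) * (h : Matrix J J F).det)⁻¹) * ((a⁻¹ : Fˣ) : F) = 1) (u : Unit → F) :
    Submodule.map (ρ (levi (bd a h))) (wt ρ (rx (F := F) (J := J)) u) =
      wt ρ (rx (F := F) (J := J)) u := by
  refine map_wt_of_conj ρ rx rx (levi (bd a h)) id Function.surjective_id ?_ u u (fun r => rfl)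
  intro r
  rw [levi_bd_rx, hk, one_smul]
  rfl

/-- **(X1)** mixing input for `|J| = 1`, `q ∉ {2, 4}`. -/
theorem stage0_hMix_eq1 (h1 : Fintype.card J = 1) (hq2 : Fintype.card F ≠ 2)
    (hq4 : Fintype.card F ≠ 4) :
    ∀ a : Unit → F, a ≠ 0 → ∀ w : J → F, w ≠ 0 →
      ∃ (g : SpecialLinearGroup (Unit ⊕ (Unit ⊕ J)) F) (w' : J → F), w' ≠ w ∧
        Submodule.map (ρ g) ((⊤ : Submodule ℂ M) ⊓ wt ρ (rx (F := F) (J := J)) a ⊓
          wt ρ (ra (F := F) (J := J)) 0) =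
          (⊤ : Submodule ℂ M) ⊓ wt ρ rx a ⊓ wt ρ ra 0 ∧
        Submodule.map (ρ g) ((⊤ : Submodule ℂ M) ⊓ wt ρ (ra (F := F) (J := J)) 0 ⊓
          wt ρ (rb (F := F) (J := J)) w) =
          (⊤ : Submodule ℂ M) ⊓ wt ρ ra 0 ⊓ wt ρ rb w' := by
  classical
  intro a _ w hw
  obtain ⟨c, hc⟩ : ∃ c : Fˣ, c ^ 3 ≠ 1 := by
    apply exists_unit_pow_ne_one
    intro hdvd
    have hle := Nat.le_of_dvd (by norm_num) hdvd
    have h2 : 2 ≤ Fintype.card F := Fintype.one_lt_card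
    have : Fintype.card F - 1 = 1 ∨ Fintype.card F - 1 = 2 ∨ Fintype.card F - 1 = 3 := by omega
    rcases this with h | h | h
    · omega
    · rw [h] at hdvd; norm_num at hdvd
    · omega
  have hcF : (c : F) ≠ 0 := c.ne_zero
  set h : GL J F := dg (fun _ : J => (c⁻¹) ^ 2) with hh
  have hdet : (h : Matrix J J F).det = (((c⁻¹) ^ 2 : Fˣ) : F) := by
    rw [hh, det_dg, Finset.prod_const, Finset.card_univ, h1, pow_one]
  have hmv : ∀ u : J → F, (h : Matrix J J F) *ᵥ u = (((c⁻¹) ^ 2 : Fˣ) : F) • u := by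
    intro u
    ext j
    rw [hh, dg_coe, mulVec_diagonal, Pi.smul_apply, smul_eq_mul]
  have hk : (((c : F) * (h : Matrix J J F).det)⁻¹) * ((c⁻¹ : Fˣ) : F) = 1 := by
    rw [hdet]
    push_cast
    field_simp
  refine ⟨levi (bd c h), (((c⁻¹ : Fˣ) : F) * (((c⁻¹) ^ 2 : Fˣ) : F)) • w, ?_, ?_, ?_⟩
  · intro heq
    have h3 : ((((c⁻¹ : Fˣ) : F) * (((c⁻¹) ^ 2 : Fˣ) : F)) - 1) • w = 0 := by
      rw [sub_smul, one_smul, heq, sub_self]
    rcases smul_eq_zero.mp h3 with h4 | h4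
    · apply hc
      apply Units.ext
      have h5 : ((c⁻¹ : Fˣ) : F) * (((c⁻¹) ^ 2 : Fˣ) : F) = 1 := sub_eq_zero.mp h4
      push_cast at h5 ⊢
      field_simp at h5
      exact h5.symm
    · exact hw h4
  · rw [map_rho_inf, map_rho_inf, map_rho_top, map_wt_rx_bd ρ c h hk, map_wt_ra_bd, mulVec_zero,
      smul_zero]
  · rw [map_rho_inf, map_rho_inf, map_rho_top, map_wt_ra_bd, mulVec_zero, smul_zero,
      map_wt_rb_bd, hmv, smul_smul]

end main

end Cfsg.Agent.Lib.Helper4.SLMin
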