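import Mathlib
import Cfsg.Prelude.Def_ClassicalGeometry
import Cfsg.Prelude.Def_GeometricClasses
import Cfsg.Agent.Lib.Helper2.SOTDefs
import Cfsg.Agent.Lib.Helper2.SOTGDefs
import Cfsg.Agent.Lib.Helper25.SpTK
import Cfsg.Agent.Lib.Helper4.SOTS

/-!
S5666: shared linear algebra for the model `V = A ⊗ B` with the form `fV G`:
columns `col v l`, fibre spaces `TB W = W ⊗ B`, the nilpotents `NA x`, skew-symmetry and
nondegeneracy of `fV G`, dimensions of `perpV G W`, `Rs x`, `gim g W`, `TB W`.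
-/

set_option autoImplicit false
set_option linter.unusedSectionVars false
set_option linter.unusedVariables false

namespace Cfsg.Agent.Lib.Helper4.SOTLeaf
open Matrix Module
open Cfsg.Agent.Lib.Helper25.Tens Cfsg.Agent.Lib.Helper25.SpT Cfsg.Agent.Lib.Helper19.OSub
open Cfsg.Agent.Lib.Helper2.SOT
open scoped Kronecker

variable {F : Type*} [Field F] {a b : ℕ} {G : Matrix (Fin b) (Fin b) F}

/-! ### columns -/

/-- the `l`-th column (an element of `A`) of a vector of `A ⊗ B` -/
def col (v : Idx a b → F) (l : Fin b) : Fin a → F := fun i => v (i, l)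

lemma col_apply (v : Idx a b → F) (l : Fin b) (i : Fin a) : col v l i = v (i, l) := rfl

lemma col_add (v w : Idx a b → F) (l : Fin b) : col (v + w) l = col v l + col w l := rfl

lemma col_sub (v w : Idx a b → F) (l : Fin b) : col (v - w) l = col v l - col w l := rfl

lemma col_smul (c : F) (v : Idx a b → F) (l : Fin b) : col (c • v) l = c • col v l := rfl

lemma col_neg (v : Idx a b → F) (l : Fin b) : col (-v) l = - col v l := rfl

lemma col_zero (l : Fin b) : col (0 : Idx a b → F) l = 0 := rfl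

lemma col_pt (x : Fin a → F) (y : Fin b → F) (l : Fin b) : col (pt x y) l = y l • x := by
  ext i
  simp only [col, pt, Pi.smul_apply, smul_eq_mul, mul_comm]

lemma ext_col {v w : Idx a b → F} (h : ∀ l, col v l = col w l) : v = w := by
  ext ⟨i, l⟩
  exact congrFun (h l) i

lemma pt_neg_right (x : Fin a → F) (y : Fin b → F) : pt x (-y) = - pt x y := by
  ext p
  simp [pt]

lemma pt_neg_left (x : Fin a → F) (y : Fin b → F) : pt (-x) y = - pt x y := by
  ext p
  simp [pt]

/-- the action of `A ⊗ 1` on columns -/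
lemma kron_one_mulVec (A : Matrix (Fin a) (Fin a) F) (v : Idx a b → F) (l : Fin b) :
    col ((A ⊗ₖ (1 : Matrix (Fin b) (Fin b) F)) *ᵥ v) l = A *ᵥ col v l := by
  ext i
  simp only [col, Matrix.mulVec, dotProduct, Matrix.kroneckerMap_apply, Fintype.sum_prod_type,
    Matrix.one_apply]
  apply Finset.sum_congr rfl
  intro i' _
  rw [Finset.sum_eq_single l]
  · simp
  · intro l' _ hl'
    simp [Ne.symm hl']
  · simp

/-- the action of `A ⊗ (κ • 1)` on columns -/
lemma kron_smul_one_mulVec (A : Matrix (Fin a) (Fin a) F) (κ : F) (v : Idx a b → F) (l : Fin b) :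
    col ((A ⊗ₖ (κ • (1 : Matrix (Fin b) (Fin b) F))) *ᵥ v) l = κ • (A *ᵥ col v l) := by
  rw [Matrix.kronecker_smul, Matrix.smul_mulVec, col_smul, kron_one_mulVec]

/-! ### the nilpotents `NA x` -/

lemma col_NA_mulVec (x : Fin a → F) (v : Idx a b → F) (l : Fin b) :
    col ((NA x : Matrix (Idx a b) (Idx a b) F) *ᵥ v) l = sf (col v l) x • x := by
  unfold NA
  rw [kron_one_mulVec, Matrix.vecMulVec_mulVec, sfv_dot]
  ext i
  simp [mul_comm]

lemma NA_mulVec_eq_pt (x : Fin a → F) (v : Idx a b → F) :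
    (NA x : Matrix (Idx a b) (Idx a b) F) *ᵥ v = pt x (fun l => sf (col v l) x) := by
  apply ext_col
  intro l
  rw [col_NA_mulVec, col_pt]

lemma NA_mulVec_mem_Rs (x : Fin a → F) (v : Idx a b → F) :
    (NA x : Matrix (Idx a b) (Idx a b) F) *ᵥ v ∈ Rs x := by
  rw [mem_Rs]
  exact ⟨_, (NA_mulVec_eq_pt x v).symm⟩

lemma mv_kA (x : Fin a → F) (c : F) (v : Idx a b → F) :
    mv (kA x c : GL (Idx a b) F) v = v + c • ((NA x : Matrix (Idx a b) (Idx a b) F) *ᵥ v) := by
  unfold mv
  rw [kA_val, Matrix.add_mulVec, Matrix.one_mulVec, Matrix.smul_mulVec]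

/-! ### the form `fV G` -/

lemma fV_pt_right (G : Matrix (Fin b) (Fin b) F) (v : Idx a b → F) (x : Fin a → F)
    (y : Fin b → F) : fV G v (pt x y) = ∑ l, sf (col v l) x * (G *ᵥ y) l := by
  unfold fV
  rw [kron_mulVec_pt]
  simp only [dotProduct, pt, Fintype.sum_prod_type, sf, col]
  rw [Finset.sum_comm]
  apply Finset.sum_congr rfl
  intro l _
  rw [Finset.sum_mul]
  apply Finset.sum_congr rfl
  intro i _
  ring

lemma fV_skew (hG : Gᵀ = G) (v w : Idx a b → F) : fV G v w = - fV G w v := by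
  have hJ : (Jm a ⊗ₖ G : Matrix (Idx a b) (Idx a b) F)ᵀ = - (Jm a ⊗ₖ G) := by
    ext ⟨i, k⟩ ⟨j, l⟩
    have h1 : G l k = G k l := by
      conv_rhs => rw [← hG]
      rfl
    simp only [Matrix.transpose_apply, Matrix.kroneckerMap_apply, Matrix.neg_apply]
    rw [Jm_swap a i j, h1]
    ring
  unfold fV
  rw [Matrix.dotProduct_mulVec, dotProduct_comm, ← Matrix.mulVec_transpose, hJ, Matrix.neg_mulVec,
    dotProduct_neg]

lemma fV_self (hG : Gᵀ = G) (h2 : (2 : F) ≠ 0) (v : Idx a b → F) : fV G v v = 0 := by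
  have h := fV_skew (a := a) hG v v
  have h' : (2 : F) * fV G v v = 0 := by
    rw [two_mul]
    nth_rewrite 1 [h]
    exact neg_add_cancel _
  rcases mul_eq_zero.mp h' with h0 | h0
  · exact absurd h0 h2
  · exact h0

lemma Jm_mul_Jm (ea : Even a) : (Jm a : Matrix (Fin a) (Fin a) F) * Jm a = -1 := by
  ext i k
  rw [Matrix.mul_apply, Finset.sum_eq_single (pr ea i)]
  · by_cases hik : k = i
    · subst hik
      rw [Jm_swap a k (pr ea k), Matrix.neg_apply, Matrix.one_apply_eq, Jm_pr]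
      split_ifs <;> simp
    · have : k ≠ pr ea (pr ea i) := by rwa [pr_pr]
      rw [Jm_eq_zero_of_ne ea (pr ea i) k this, mul_zero, Matrix.neg_apply,
        Matrix.one_apply_ne (Ne.symm hik), neg_zero]
  · intro j _ hj
    rw [Jm_eq_zero_of_ne ea i j hj, zero_mul]
  · intro hn
    exact absurd (Finset.mem_univ _) hn

lemma Jm_det_ne_zero (ea : Even a) : (Jm a : Matrix (Fin a) (Fin a) F).det ≠ 0 := by
  apply Matrix.det_ne_zero_of_left_inverse (B := - Jm a)
  rw [Matrix.neg_mul, Jm_mul_Jm ea, neg_neg]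

lemma kron_det_ne_zero (ea : Even a) (hG : G.det ≠ 0) :
    (Jm a ⊗ₖ G : Matrix (Idx a b) (Idx a b) F).det ≠ 0 := by
  rw [Matrix.det_kronecker]
  exact mul_ne_zero (pow_ne_zero _ (Jm_det_ne_zero ea)) (pow_ne_zero _ hG)

/-- `fV G` as a bilinear form of Mathlib -/
noncomputable def BfV (a : ℕ) (G : Matrix (Fin b) (Fin b) F) : LinearMap.BilinForm F (Idx a b → F) :=
  Matrix.toBilin' (Jm a ⊗ₖ G : Matrix (Idx a b) (Idx a b) F)

lemma BfV_apply (G : Matrix (Fin b) (Fin b) F) (v w : Idx a b → F) :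
    BfV a G v w = fV G v w := by
  unfold BfV fV
  rw [Matrix.toBilin'_apply']

lemma BfV_nondeg (ea : Even a) (hG : G.det ≠ 0) : (BfV a G).Nondegenerate := by
  unfold BfV
  rw [Matrix.nondegenerate_toBilin'_iff]
  exact Matrix.nondegenerate_of_det_ne_zero (kron_det_ne_zero ea hG)

/-- nondegeneracy of `fV G` -/
lemma fV_nondeg (ea : Even a) (hG : G.det ≠ 0) (v : Idx a b → F) (hv : ∀ w, fV G v w = 0) :
    v = 0 := by
  have h := (BfV_nondeg (a := a) ea hG).1
  apply h v
  intro w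
  rw [BfV_apply]
  exact hv w

lemma perpV_eq_orthogonal (hsymm : Gᵀ = G) (W : Submodule F (Idx a b → F)) :
    perpV G W = (BfV a G).orthogonal W := by
  ext v
  rw [mem_perpV, LinearMap.BilinForm.mem_orthogonal_iff]
  constructor
  · intro h w hw
    rw [BfV_apply, fV_skew hsymm, h w hw, neg_zero]
  · intro h w hw
    have := h w hw
    rw [BfV_apply] at this
    rw [fV_skew hsymm, this, neg_zero]

/-- the dimension of an orthogonal complement -/
theorem finrank_perpV (ea : Even a) (hsymm : Gᵀ = G) (hG : G.det ≠ 0)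
    (W : Submodule F (Idx a b → F)) :
    finrank F (perpV G W) = a * b - finrank F W := by
  rw [perpV_eq_orthogonal hsymm, LinearMap.BilinForm.finrank_orthogonal (BfV_nondeg ea hG)]
  congr 1
  rw [Module.finrank_fintype_fun_eq_card, Fintype.card_prod, Fintype.card_fin, Fintype.card_fin]

lemma perpV_sup (G : Matrix (Fin b) (Fin b) F) (W W' : Submodule F (Idx a b → F)) :
    perpV G (W ⊔ W') = perpV G W ⊓ perpV G W' := by
  ext v
  rw [Submodule.mem_inf, mem_perpV, mem_perpV, mem_perpV]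
  constructor
  · intro h
    exact ⟨fun w hw => h w (Submodule.mem_sup_left hw), fun w hw => h w (Submodule.mem_sup_right hw)⟩
  · rintro ⟨h1, h2⟩ w hw
    obtain ⟨w1, hw1, w2, hw2, rfl⟩ := Submodule.mem_sup.mp hw
    rw [fV_add_right, h1 w1 hw1, h2 w2 hw2, add_zero]

lemma perpV_anti (G : Matrix (Fin b) (Fin b) F) {W W' : Submodule F (Idx a b → F)} (h : W ≤ W') :
    perpV G W' ≤ perpV G W := fun v hv w hw => hv w (h hw)

/-- membership in `R_x^⊥` by columns -/
lemma sf_col_eq_zero_of_perp (hG : G.det ≠ 0) (x : Fin a → F) (u : Idx a b → F)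
    (hu : u ∈ perpV G (Rs x)) (l : Fin b) : sf (col u l) x = 0 := by
  have hGinv : G * G⁻¹ = 1 := Matrix.mul_nonsing_inv G (Ne.isUnit hG)
  have h1 := hu (pt x (G⁻¹ *ᵥ Pi.single l 1)) (mem_Rs.mpr ⟨_, rfl⟩)
  rw [fV_pt_right, Matrix.mulVec_mulVec, hGinv, Matrix.one_mulVec] at h1
  rw [Finset.sum_eq_single l] at h1
  · simpa using h1
  · intro l' _ hl'
    simp [hl']
  · intro hn
    exact absurd (Finset.mem_univ _) hn

lemma mem_perpV_Rs_iff (hG : G.det ≠ 0) (x : Fin a → F) (u : Idx a b → F) :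
    u ∈ perpV G (Rs x) ↔ ∀ l, sf (col u l) x = 0 := by
  constructor
  · exact fun hu l => sf_col_eq_zero_of_perp hG x u hu l
  · intro h w hw
    obtain ⟨y, rfl⟩ := mem_Rs.mp hw
    rw [fV_pt_right]
    apply Finset.sum_eq_zero
    intro l _
    rw [h l, zero_mul]

/-- `N_x` vanishes on `R_x^⊥` -/
lemma NA_mulVec_eq_zero_of_perp (hG : G.det ≠ 0) (x : Fin a → F) (u : Idx a b → F)
    (hu : u ∈ perpV G (Rs x)) : (NA x : Matrix (Idx a b) (Idx a b) F) *ᵥ u = 0 := by
  apply ext_col
  intro l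
  rw [col_NA_mulVec, sf_col_eq_zero_of_perp hG x u hu l, zero_smul, col_zero]

/-- `R_x ⊆ R_x^⊥` -/
lemma Rs_le_perpV (G : Matrix (Fin b) (Fin b) F) (x : Fin a → F) : Rs x ≤ perpV G (Rs (b := b) x) := by
  intro v hv w hw
  obtain ⟨y, rfl⟩ := mem_Rs.mp hv
  obtain ⟨y', rfl⟩ := mem_Rs.mp hw
  rw [fV_pt, sf_self, zero_mul]

/-! ### dimensions -/

lemma ptR_injective {x : Fin a → F} (hx : x ≠ 0) : Function.Injective (ptR (b := b) x) := by
  rw [← LinearMap.ker_eq_bot, LinearMap.ker_eq_bot']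
  intro y hy
  rw [ptR_apply, pt_eq_zero_iff] at hy
  rcases hy with h | h
  · exact absurd h hx
  · exact h

lemma finrank_Rs {x : Fin a → F} (hx : x ≠ 0) : finrank F (Rs (b := b) x) = b := by
  unfold Rs
  rw [LinearMap.finrank_range_of_inj (ptR_injective hx), Module.finrank_fin_fun]

lemma finrank_Rs_le (x : Fin a → F) : finrank F (Rs (b := b) x) ≤ b := by
  unfold Rs
  calc finrank F (LinearMap.range (ptR (b := b) x)) ≤ finrank F (Fin b → F) :=
        LinearMap.finrank_range_le _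
    _ = b := Module.finrank_fin_fun F

lemma finrank_gim (g : GL (Idx a b) F) (W : Submodule F (Idx a b → F)) :
    finrank F (gim g W) = finrank F W := by
  unfold gim
  have hinj : Function.Injective (Matrix.toLin' (g : Matrix (Idx a b) (Idx a b) F)) := by
    intro v w hvw
    rw [Matrix.toLin'_apply, Matrix.toLin'_apply] at hvw
    exact mv_injective g hvw
  exact (Submodule.equivMapOfInjective _ hinj W).finrank_eq.symm

lemma finrank_Rpp (g : GL (Idx a b) F) {x' : Fin a → F} (hx' : x' ≠ 0) :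
    finrank F (Rpp g x') = b := by
  unfold Rpp
  rw [finrank_gim, finrank_Rs hx']

lemma finrank_Rpp_le (g : GL (Idx a b) F) (x' : Fin a → F) :
    finrank F (Rpp g x') ≤ b := by
  unfold Rpp
  rw [finrank_gim]
  exact finrank_Rs_le x'

lemma mv_mem_Rpp (g : GL (Idx a b) F) (x' : Fin a → F) (y : Fin b → F) :
    mv g (pt x' y) ∈ Rpp g x' := by
  unfold Rpp
  rw [mem_gim]
  exact ⟨pt x' y, mem_Rs.mpr ⟨y, rfl⟩, rfl⟩

/-! ### fibre spaces `W ⊗ B` -/

/-- `W ⊗ B`: the vectors all of whose columns lie in `W` -/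
def TB (b : ℕ) (W : Submodule F (Fin a → F)) : Submodule F (Idx a b → F) where
  carrier := {v | ∀ l, col v l ∈ W}
  add_mem' {u v} hu hv l := by
    rw [col_add]
    exact W.add_mem (hu l) (hv l)
  zero_mem' l := by
    rw [col_zero]
    exact W.zero_mem
  smul_mem' c v hv l := by
    rw [col_smul]
    exact W.smul_mem c (hv l)

lemma mem_TB {W : Submodule F (Fin a → F)} {v : Idx a b → F} :
    v ∈ TB b W ↔ ∀ l, col v l ∈ W := Iff.rfl

lemma pt_mem_TB {W : Submodule F (Fin a → F)} {x : Fin a → F} (hx : x ∈ W) (y : Fin b → F) :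
    pt x y ∈ TB b W := by
  intro l
  rw [col_pt]
  exact W.smul_mem _ hx

/-- `W ⊗ B ≅ W^b` -/
def TBequiv (b : ℕ) (W : Submodule F (Fin a → F)) : TB b W ≃ₗ[F] (Fin b → W) where
  toFun v := fun l => ⟨col v.1 l, v.2 l⟩
  map_add' u v := by
    funext l
    apply Subtype.ext
    rfl
  map_smul' c v := by
    funext l
    apply Subtype.ext
    rfl
  invFun f := ⟨fun p => (f p.2 : Fin a → F) p.1, fun l => by
    have : col (fun p : Idx a b => (f p.2 : Fin a → F) p.1) l = (f l : Fin a → F) := rfl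
    rw [this]
    exact (f l).2⟩
  left_inv v := by
    apply Subtype.ext
    funext p
    rfl
  right_inv f := by
    funext l
    apply Subtype.ext
    rfl

lemma finrank_TB (b : ℕ) (W : Submodule F (Fin a → F)) :
    finrank F (TB b W) = finrank F W * b := by
  rw [(TBequiv b W).finrank_eq, Module.finrank_pi_fintype, Finset.sum_const, Finset.card_univ,
    Fintype.card_fin, smul_eq_mul, mul_comm]

end Cfsg.Agent.Lib.Helper4.SOTLeaf
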