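import Mathlib
import Cfsg.Prelude.Def_ClassicalGeometry
import Cfsg.Prelude.Def_GeometricClasses
import Cfsg.Agent.Lib.Helper2.SOTDefs
import Cfsg.Agent.Lib.Helper2.SOTGDefs
import Cfsg.Agent.Lib.Helper4.SOTBasic

/-!
S5666 part (GA), leaves C (`stab_of_commute`) and A5lin (`kp_two`) (helper2's market).
-/

set_option autoImplicit false
set_option linter.unusedSectionVars false
set_option linter.unusedVariables false

namespace Cfsg.Agent.Lib.Helper4.SOTLeaf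
open Matrix Module
open Cfsg.Agent.Lib.Helper25.Tens Cfsg.Agent.Lib.Helper25.SpT Cfsg.Agent.Lib.Helper19.OSub
open Cfsg.Agent.Lib.Helper2.SOT
open scoped Kronecker

variable {F : Type*} [Field F] [Fintype F] {a b : ℕ} {G : Matrix (Fin b) (Fin b) F}
  {M : Subgroup (GL (Idx a b) F)}

/-- (C) an element commuting with the root group `X_{x₄}` stabilises `x₄ ⊗ B`. -/
theorem stab_of_commute (ea : Even a) (x₄ : Fin a → F) (hx₄ : x₄ ≠ 0) (t : GL (Idx a b) F)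
    (hc : ∀ c : F, Commute (kA x₄ c : GL (Idx a b) F) t) :
    ∀ y : Fin b → F, ∃ y' : Fin b → F, mv t (pt x₄ y) = pt x₄ y' := by
  intro y
  -- `t` commutes with `N_{x₄}`
  have hcomm : ∀ v, mv t ((NA x₄ : Matrix (Idx a b) (Idx a b) F) *ᵥ v) =
      (NA x₄ : Matrix (Idx a b) (Idx a b) F) *ᵥ (mv t v) := by
    intro v
    have h1 : mv ((kA x₄ 1 : GL (Idx a b) F) * t) v = mv (t * (kA x₄ 1 : GL (Idx a b) F)) v := by
      rw [(hc 1).eq]
    rw [mv_mul, mv_mul, mv_kA, mv_kA, one_smul, one_smul, mv_add] at h1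
    exact (add_left_cancel h1).symm
  -- `x₄ ⊗ y = N_{x₄} (x* ⊗ y)`
  obtain ⟨z, hz⟩ := exists_sf_ne_zero ea hx₄
  have hz' : sf z x₄ ≠ 0 := by
    rw [sf_skew]
    exact neg_ne_zero.mpr hz
  have h2 : pt x₄ y = (NA x₄ : Matrix (Idx a b) (Idx a b) F) *ᵥ pt ((sf z x₄)⁻¹ • z) y := by
    rw [NA_mulVec_pt, sf_smul_left, inv_mul_cancel₀ hz', one_smul]
  rw [h2, hcomm]
  obtain ⟨y', hy'⟩ := mem_Rs.mp (NA_mulVec_mem_Rs x₄ (mv t (pt ((sf z x₄)⁻¹ • z) y)))
  exact ⟨y', hy'.symm⟩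

/-- fibres over independent vectors meet trivially -/
lemma Rs_inf_Rs_eq_bot (x₁ x₂ : Fin a → F) (hli : LinearIndependent F ![x₁, x₂]) :
    Rs (b := b) x₁ ⊓ Rs x₂ = ⊥ := by
  rw [eq_bot_iff]
  intro v hv
  rw [Submodule.mem_inf] at hv
  obtain ⟨y, hy⟩ := mem_Rs.mp hv.1
  obtain ⟨y', hy'⟩ := mem_Rs.mp hv.2
  rw [Submodule.mem_bot]
  rw [LinearIndependent.pair_iff] at hli
  have hy0 : y = 0 := by
    funext l
    have h1 : col (pt x₁ y) l = col (pt x₂ y') l := by rw [hy, hy']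
    rw [col_pt, col_pt] at h1
    have h2 : y l • x₁ + (- y' l) • x₂ = 0 := by
      rw [h1, neg_smul, add_neg_cancel]
    exact (hli _ _ h2).1
  rw [← hy, hy0, pt_zero_right]

/-- (A5-lin) the intersections of a `b`-dimensional space with two independent fibres cannot both be
large -/
theorem kp_two (x₁ x₂ x' : Fin a → F) (hli : LinearIndependent F ![x₁, x₂]) (g : GL (Idx a b) F) :
    finrank F (Kp x₁ g x') + finrank F (Kp x₂ g x') ≤ b := by
  have hdisj : Kp x₁ g x' ⊓ Kp x₂ g x' = ⊥ := by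
    rw [eq_bot_iff]
    intro v hv
    rw [Submodule.mem_inf] at hv
    have h1 : v ∈ Rs (b := b) x₁ ⊓ Rs x₂ := ⟨hv.1.1, hv.2.1⟩
    rwa [Rs_inf_Rs_eq_bot x₁ x₂ hli] at h1
  have hle : Kp x₁ g x' ⊔ Kp x₂ g x' ≤ Rpp g x' :=
    sup_le inf_le_right inf_le_right
  have h1 := Submodule.finrank_sup_add_finrank_inf_eq (Kp x₁ g x') (Kp x₂ g x')
  rw [hdisj, finrank_bot, add_zero] at h1
  rw [← h1]
  exact le_trans (Submodule.finrank_mono hle) (finrank_Rpp_le g x')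

end Cfsg.Agent.Lib.Helper4.SOTLeaf
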