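import Mathlib
import Cfsg.Prelude.Def_ClassicalGeometry
import Cfsg.Prelude.Def_GeometricClasses
import Cfsg.Agent.Lib.Helper2.SOTDefs
import Cfsg.Agent.Lib.Helper2.SOTGDefs
import Cfsg.Agent.Lib.Helper4.SOTBasic

/-!
S5666 part (GA), leaf E (`ending`, plan §3 Step 6, helper2's market): in the opposite case the
element `b₀ = α'' ⊗ 1` produces `x₄ ≠ 0` with `X_{x₄}` commuting with `g X_{x'} g⁻¹`.
-/

set_option autoImplicit false
set_option linter.unusedSectionVars false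
set_option linter.unusedVariables false

namespace Cfsg.Agent.Lib.Helper4.SOTLeaf
open Matrix Module
open Cfsg.Agent.Lib.Helper25.Tens Cfsg.Agent.Lib.Helper25.SpT Cfsg.Agent.Lib.Helper19.OSub
open Cfsg.Agent.Lib.Helper2.SOT
open scoped Kronecker

variable {F : Type*} [Field F] [Fintype F] {a b : ℕ} {G : Matrix (Fin b) (Fin b) F}
  {M : Subgroup (GL (Idx a b) F)}

/-- the action of a conjugate of a root element -/
lemma mv_conj_kA' (g : GL (Idx a b) F) (x : Fin a → F) (c : F) (v : Idx a b → F) :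
    mv (g * kA x c * g⁻¹) v =
      v + c • mv g ((NA x : Matrix (Idx a b) (Idx a b) F) *ᵥ mv g⁻¹ v) := by
  rw [mv_mul, mv_mul, mv_kA, mv_add, mv_mv_inv, mv_smul]

/-- two nilpotents annihilating each other: the root elements commute -/
lemma commute_of_annihilate (g : GL (Idx a b) F) (x₄ x' : Fin a → F)
    (h1 : ∀ v, (NA x₄ : Matrix (Idx a b) (Idx a b) F) *ᵥ
      mv g ((NA x' : Matrix (Idx a b) (Idx a b) F) *ᵥ mv g⁻¹ v) = 0)
    (h2 : ∀ v, (NA x' : Matrix (Idx a b) (Idx a b) F) *ᵥ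
      mv g⁻¹ ((NA x₄ : Matrix (Idx a b) (Idx a b) F) *ᵥ v) = 0) (c c' : F) :
    Commute (kA x₄ c : GL (Idx a b) F) (g * kA x' c' * g⁻¹) := by
  apply gl_ext
  intro v
  have e1 := h1 v
  have e2 := h2 v
  have l1 : mv (kA x₄ c * (g * kA x' c' * g⁻¹)) v =
      v + c' • mv g ((NA x' : Matrix (Idx a b) (Idx a b) F) *ᵥ mv g⁻¹ v) +
        c • ((NA x₄ : Matrix (Idx a b) (Idx a b) F) *ᵥ v) := by
    rw [mv_mul (kA x₄ c) (g * kA x' c' * g⁻¹) v, mv_conj_kA' g x' c' v,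
      mv_kA x₄ c (v + c' • mv g ((NA x' : Matrix (Idx a b) (Idx a b) F) *ᵥ mv g⁻¹ v)),
      Matrix.mulVec_add, Matrix.mulVec_smul, e1, smul_zero, add_zero]
  have l2 : mv (g * kA x' c' * g⁻¹ * kA x₄ c) v =
      v + c • ((NA x₄ : Matrix (Idx a b) (Idx a b) F) *ᵥ v) +
        c' • mv g ((NA x' : Matrix (Idx a b) (Idx a b) F) *ᵥ mv g⁻¹ v) := by
    rw [mv_mul (g * kA x' c' * g⁻¹) (kA x₄ c) v, mv_kA x₄ c v,
      mv_conj_kA' g x' c' (v + c • ((NA x₄ : Matrix (Idx a b) (Idx a b) F) *ᵥ v)),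
      mv_add g⁻¹, mv_smul g⁻¹, Matrix.mulVec_add, Matrix.mulVec_smul, e2, smul_zero, add_zero]
  rw [l1, l2]
  abel

/-- the functional `sf · x` -/
def sfL (x : Fin a → F) : (Fin a → F) →ₗ[F] F where
  toFun u := sf u x
  map_add' u u' := sf_add_left u u' x
  map_smul' c u := sf_smul_left c u x

lemma sfL_apply (x u : Fin a → F) : sfL x u = sf u x := rfl

lemma finrank_ker_sfL (ea : Even a) {x : Fin a → F} (hx : x ≠ 0) :
    finrank F (LinearMap.ker (sfL x)) + 1 = a := by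
  have hne : sfL x ≠ 0 := by
    intro h0
    obtain ⟨z, hz⟩ := exists_sf_ne_zero ea hx
    apply hz
    rw [sf_skew]
    have : sfL x z = 0 := by rw [h0]; rfl
    rw [sfL_apply] at this
    rw [this, neg_zero]
  have := Module.Dual.finrank_ker_add_one_of_ne_zero hne
  rw [this, Module.finrank_fin_fun]

/-- (E) plan Step 6. -/
theorem ending (h : MCtx a b G M) (h4 : 4 ≤ a) (x x' : Fin a → F) (hx : x ≠ 0) (hx' : x' ≠ 0)
    (g : GL (Idx a b) F) (hg : g ∈ M) (hK : Kp x g x' = ⊥) (b₀ : GL (Idx a b) F)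
    (hbK : b₀ ∈ KG a b F) (hbS : b₀ ∈ SpV G) (hfix : ∀ v ∈ Yp G x g x', mv b₀ v = v)
    (hneg : ∀ y : Fin b → F, mv b₀ (pt x y) = - pt x y) :
    ∃ x₄ : Fin a → F, x₄ ≠ 0 ∧ ∀ c c' : F,
      Commute (kA x₄ c : GL (Idx a b) F) (g * kA x' c' * g⁻¹) := by
  have hb0 : 0 < b := by have := h.hb; omega
  have hgS : g ∈ SpV G := h.le_sp hg
  -- Step A: `b₀ = α ⊗ β`
  obtain ⟨α, β, hαβ⟩ := (mem_KG_iff b₀).mp hbK
  have hmvpt : ∀ (u : Fin a → F) (y : Fin b → F), mv b₀ (pt u y) =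
      pt ((α : Matrix (Fin a) (Fin a) F) *ᵥ u) ((β : Matrix (Fin b) (Fin b) F) *ᵥ y) := by
    intro u y
    show (b₀ : Matrix (Idx a b) (Idx a b) F) *ᵥ pt u y = _
    rw [hαβ, kron_mulVec_pt]
  -- Step B: `β` is the scalar `κ`, `κ • α x = -x`
  obtain ⟨i₀, hi₀⟩ := Function.ne_iff.mp hx
  have hi₀' : x i₀ ≠ 0 := hi₀
  have hentry : ∀ (y : Fin b → F) (i : Fin a) (l : Fin b),
      ((α : Matrix (Fin a) (Fin a) F) *ᵥ x) i * ((β : Matrix (Fin b) (Fin b) F) *ᵥ y) l =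
        -(x i * y l) := by
    intro y i l
    have := congrFun (hneg y) (i, l)
    rw [hmvpt] at this
    simpa [pt] using this
  set ax := (α : Matrix (Fin a) (Fin a) F) *ᵥ x with hax
  have hax0 : ax i₀ ≠ 0 := by
    intro h0
    have := hentry (Pi.single ⟨0, hb0⟩ 1) i₀ ⟨0, hb0⟩
    rw [h0, zero_mul] at this
    simp at this
    exact hi₀' this
  set κ : F := -(x i₀) / ax i₀ with hκ
  have hκ0 : κ ≠ 0 := div_ne_zero (neg_ne_zero.mpr hi₀') hax0
  have hβ : ∀ y : Fin b → F, (β : Matrix (Fin b) (Fin b) F) *ᵥ y = κ • y := by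
    intro y
    funext l
    have := hentry y i₀ l
    rw [Pi.smul_apply, smul_eq_mul, hκ]
    field_simp
    linear_combination this
  have hβmat : (β : Matrix (Fin b) (Fin b) F) = κ • (1 : Matrix (Fin b) (Fin b) F) := by
    ext l l'
    have := congrFun (hβ (Pi.single l' 1)) l
    rw [Matrix.mulVec_single_one] at this
    simpa [Matrix.one_apply, Pi.single_apply] using this
  have hαx : κ • ax = -x := by
    funext i
    have := hentry (Pi.single ⟨0, hb0⟩ 1) i ⟨0, hb0⟩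
    rw [hβ] at this
    simp only [Pi.smul_apply, Pi.single_eq_same, smul_eq_mul, mul_one] at this
    rw [Pi.smul_apply, smul_eq_mul, Pi.neg_apply, mul_comm]
    exact this
  -- Step C: the isometry `A'' = κ • α`
  set A'' : (Fin a → F) →ₗ[F] (Fin a → F) :=
    κ • Matrix.toLin' (α : Matrix (Fin a) (Fin a) F) with hA''
  have hA''app : ∀ u, A'' u = κ • ((α : Matrix (Fin a) (Fin a) F) *ᵥ u) := by
    intro u
    rw [hA'', LinearMap.smul_apply, Matrix.toLin'_apply]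
  have hA''x : A'' x = -x := by rw [hA''app, ← hax, hαx]
  have hcol : ∀ (v : Idx a b → F) (l : Fin b), col (mv b₀ v) l = A'' (col v l) := by
    intro v l
    show col ((b₀ : Matrix (Idx a b) (Idx a b) F) *ᵥ v) l = _
    rw [hαβ, hβmat, kron_smul_one_mulVec, hA''app]
  have hiso : ∀ u u' : Fin a → F, sf (A'' u) (A'' u') = sf u u' := by
    intro u u'
    obtain ⟨y, y', hyy'⟩ := exists_fB_ne_zero h.nd hb0
    have h1 := (mem_SpV.mp hbS) (pt u y) (pt u' y')
    rw [hmvpt, hmvpt, fV_pt, fV_pt, hβ, hβ, fB_smul_left, fB_smul_right] at h1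
    rw [hA''app, hA''app, sf_smul_left, sf_smul_right]
    have h2 : (κ * (κ * sf ((α : Matrix (Fin a) (Fin a) F) *ᵥ u)
        ((α : Matrix (Fin a) (Fin a) F) *ᵥ u'))) * fB G y y' = sf u u' * fB G y y' := by
      rw [← h1]
      ring
    exact mul_right_cancel₀ hyy' h2
  -- Step D: the fixed space `Φ` of `A''`
  set Φ : Submodule F (Fin a → F) := LinearMap.ker (A'' - LinearMap.id) with hΦ
  have hmemΦ : ∀ u, u ∈ Φ ↔ A'' u = u := by
    intro u
    rw [hΦ, LinearMap.mem_ker, LinearMap.sub_apply, LinearMap.id_apply, sub_eq_zero]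
  have hΦperp : ∀ u ∈ Φ, sf u x = 0 := by
    intro u hu
    have h1 := hiso u x
    rw [(hmemΦ u).mp hu, hA''x, sf_neg_right] at h1
    have h2 : (2 : F) * sf u x = 0 := by linear_combination -h1
    rcases mul_eq_zero.mp h2 with h0 | h0
    · exact absurd h0 h.two
    · exact h0
  have hxΦ : x ∉ Φ := by
    intro hxm
    have h1 := (hmemΦ x).mp hxm
    rw [hA''x] at h1
    apply hx
    funext i
    have h2 := congrFun h1 i
    rw [Pi.neg_apply] at h2
    have h3 : (2 : F) * x i = 0 := by linear_combination -h2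
    rcases mul_eq_zero.mp h3 with h0 | h0
    · exact absurd h0 h.two
    · exact h0
  have hΦlt : Φ < LinearMap.ker (sfL x) := by
    rw [lt_iff_le_and_ne]
    refine ⟨fun u hu => ?_, ?_⟩
    · rw [LinearMap.mem_ker, sfL_apply]
      exact hΦperp u hu
    · intro heq
      apply hxΦ
      rw [heq, LinearMap.mem_ker, sfL_apply, sf_self]
  have hΦdim : finrank F Φ + 2 ≤ a := by
    have h1 := Submodule.finrank_lt_finrank_of_lt hΦlt
    have h2 := finrank_ker_sfL h.ea hx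
    omega
  -- Step E: `Y = Φ ⊗ B`
  have hYle : Yp G x g x' ≤ TB b Φ := by
    intro v hv l
    rw [hmemΦ, ← hcol, hfix v hv]
  have hYdim : finrank F (Yp G x g x') = a * b - 2 * b := by
    have h1 : Yp G x g x' = perpV G (Rs x ⊔ Rpp g x') := by
      unfold Yp
      rw [perpV_sup]
    rw [h1, finrank_perpV h.ea h.symm h.nd]
    have h2 := Submodule.finrank_sup_add_finrank_inf_eq (Rs (b := b) x) (Rpp g x')
    have h3 : Rs (b := b) x ⊓ Rpp g x' = ⊥ := hK
    rw [h3, finrank_bot, add_zero, finrank_Rs hx, finrank_Rpp g hx'] at h2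
    rw [h2]
    congr 1
    ring
  have hTBdim : finrank F (TB b Φ) = finrank F Φ * b := finrank_TB b Φ
  have hab : a * b - 2 * b = (a - 2) * b := by
    rw [Nat.sub_mul]
  have hle1 : (a - 2) * b ≤ finrank F Φ * b := by
    rw [← hab, ← hYdim, ← hTBdim]
    exact Submodule.finrank_mono hYle
  have hΦge : a - 2 ≤ finrank F Φ := Nat.le_of_mul_le_mul_right hle1 hb0
  have hYeq : Yp G x g x' = TB b Φ := by
    apply Submodule.eq_of_le_of_finrank_le hYle
    rw [hTBdim, hYdim, hab]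
    apply Nat.mul_le_mul_right
    omega
  have hΦpos : 0 < finrank F Φ := by omega
  obtain ⟨⟨x₄, hx₄Φ⟩, hx₄ne⟩ := Module.finrank_pos_iff_exists_ne_zero.mp hΦpos
  have hx₄ : x₄ ≠ 0 := by
    intro h0
    apply hx₄ne
    apply Subtype.ext
    exact h0
  -- Step F: `x₄ ⊗ B ⊆ Y`
  have hptY : ∀ y : Fin b → F, pt x₄ y ∈ Yp G x g x' := by
    intro y
    rw [hYeq]
    exact pt_mem_TB hx₄Φ y
  refine ⟨x₄, hx₄, fun c c' => ?_⟩
  -- Step G: the two nilpotents annihilate each other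
  apply commute_of_annihilate
  · intro v
    apply NA_mulVec_eq_zero_of_perp h.nd
    intro w hw
    obtain ⟨y, rfl⟩ := mem_Rs.mp hw
    obtain ⟨y₁, hy₁⟩ := mem_Rs.mp
      (NA_mulVec_mem_Rs x' (mv g⁻¹ v))
    rw [← hy₁, fV_skew h.symm]
    have h1 : pt x₄ y ∈ perpV G (Rpp g x') := (hptY y).2
    rw [h1 _ (mv_mem_Rpp g x' y₁), neg_zero]
  · intro v
    apply NA_mulVec_eq_zero_of_perp h.nd
    intro w hw
    obtain ⟨y, rfl⟩ := mem_Rs.mp hw
    obtain ⟨y₀, hy₀⟩ := mem_Rs.mp (NA_mulVec_mem_Rs x₄ v)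
    rw [← hy₀]
    have h1 : pt x₄ y₀ ∈ perpV G (Rpp g x') := (hptY y₀).2
    have h2 := (mem_SpV.mp hgS) (mv g⁻¹ (pt x₄ y₀)) (pt x' y)
    rw [mv_mv_inv] at h2
    rw [← h2]
    exact h1 _ (mv_mem_Rpp g x' y)

end Cfsg.Agent.Lib.Helper4.SOTLeaf
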