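/-
helper4: S2282, base case n = 3, q even: three conjugate regular unipotents of `UJ σ 3` whose
closure contains every unitary transvection.  u = x(α,γ), w = J u J, u₃ = T_f(t) u T_f(t);
u² = T_e(a) is a transvection, s = u² w² is a torus element with eigenvector p = e + t f,
u₃² = T_p(a), conjugation by s fills the root group of p; chord closure gives e; then `endgame3`.
-/
import Mathlib
import Cfsg.Agent.Lib.Helper4.SU3Mat

set_option autoImplicit false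

namespace Cfsg.Agent.Lib.Helper4.SU3

open Matrix Cfsg.Agent.Lib.Helper16.FusSU

variable {K : Type*} [Field K] (σ : K →+* K)

/-- upper unitriangular elements -/
def xM (α γ : K) : Matrix (Fin 3) (Fin 3) K := !![1, α, γ; 0, 1, σ α; 0, 0, 1]

/-- lower unitriangular elements -/
def yM (α γ : K) : Matrix (Fin 3) (Fin 3) K := !![1, 0, 0; σ α, 1, 0; γ, α, 1]

/-- the antidiagonal permutation matrix -/
def Jc : Matrix (Fin 3) (Fin 3) K := !![0, 0, 1; 0, 1, 0; 1, 0, 0]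

theorem det_xM (α γ : K) : (xM σ α γ).det = 1 := by
  simp [xM, det_fin_three]

theorem det_yM (α γ : K) : (yM σ α γ).det = 1 := by
  simp [yM, det_fin_three]

/-- `x(α,γ)` as an element of `SL₃` -/
def xS (α γ : K) : SpecialLinearGroup (Fin 3) K := ⟨xM σ α γ, det_xM σ α γ⟩

/-- `y(α,γ)` as an element of `SL₃` -/
def yS (α γ : K) : SpecialLinearGroup (Fin 3) K := ⟨yM σ α γ, det_yM σ α γ⟩

variable {σ}

theorem xS_mem (hσ : ∀ x, σ (σ x) = x) (h2 : (2 : K) = 0) {α γ : K} (h : γ + σ γ = α * σ α) :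
    xS σ α γ ∈ UJ σ 3 := by
  rw [mem_UJ]
  show xM σ α γ * adj σ (xM σ α γ) = 1
  rw [adj3]
  have h2' : ∀ x : K, x + x = 0 := fun x => by rw [← two_mul, h2, zero_mul]
  ext i j
  fin_cases i <;> fin_cases j <;>
    simp [xM, Matrix.mul_apply, Fin.sum_univ_three, hσ, h2']
  linear_combination h + (α * σ α) * h2

theorem yS_mem (hσ : ∀ x, σ (σ x) = x) (h2 : (2 : K) = 0) {α γ : K} (h : γ + σ γ = α * σ α) :
    yS σ α γ ∈ UJ σ 3 := by
  rw [mem_UJ]
  show yM σ α γ * adj σ (yM σ α γ) = 1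
  rw [adj3]
  have h2' : ∀ x : K, x + x = 0 := fun x => by rw [← two_mul, h2, zero_mul]
  ext i j
  fin_cases i <;> fin_cases j <;>
    simp [yM, Matrix.mul_apply, Fin.sum_univ_three, hσ, h2']
  linear_combination h + (α * σ α) * h2

theorem xS_coe (α γ : K) : ((xS σ α γ : SpecialLinearGroup (Fin 3) K) : Matrix (Fin 3) (Fin 3) K) =
    xM σ α γ := rfl

theorem yS_coe (α γ : K) : ((yS σ α γ : SpecialLinearGroup (Fin 3) K) : Matrix (Fin 3) (Fin 3) K) =
    yM σ α γ := rfl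

theorem xS_sq (h2 : (2 : K) = 0) (α γ : K) : xS σ α γ * xS σ α γ = xS σ 0 (α * σ α) := by
  have h2' : ∀ x : K, x + x = 0 := fun x => by rw [← two_mul, h2, zero_mul]
  apply Subtype.ext
  rw [Matrix.SpecialLinearGroup.coe_mul, xS_coe, xS_coe]
  ext i j
  fin_cases i <;> fin_cases j <;>
    simp [xM, Matrix.mul_apply, Fin.sum_univ_three, h2']
  linear_combination (h2' γ)

theorem yS_sq (h2 : (2 : K) = 0) (α γ : K) : yS σ α γ * yS σ α γ = yS σ 0 (α * σ α) := by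
  have h2' : ∀ x : K, x + x = 0 := fun x => by rw [← two_mul, h2, zero_mul]
  apply Subtype.ext
  rw [Matrix.SpecialLinearGroup.coe_mul, yS_coe, yS_coe]
  ext i j
  fin_cases i <;> fin_cases j <;>
    simp [yM, Matrix.mul_apply, Fin.sum_univ_three, h2']
  linear_combination (h2' γ)

theorem xS_zero_eq_TJm (c : K) : xM σ 0 c = TJm σ (eV : Fin 3 → K) c := by
  rw [TJm_three]
  ext i j
  fin_cases i <;> fin_cases j <;> simp [xM, eV]

theorem yS_zero_eq_TJm (c : K) : yM σ 0 c = TJm σ (fV : Fin 3 → K) c := by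
  rw [TJm_three]
  ext i j
  fin_cases i <;> fin_cases j <;> simp [yM, fV]

theorem det_Jc (h2 : (2 : K) = 0) : (Jc : Matrix (Fin 3) (Fin 3) K).det = 1 := by
  simp [Jc, det_fin_three]
  linear_combination -h2

/-- the Weyl element (characteristic 2) -/
def JcS (h2 : (2 : K) = 0) : SpecialLinearGroup (Fin 3) K := ⟨Jc, det_Jc h2⟩

theorem JcS_mem (h2 : (2 : K) = 0) : JcS h2 ∈ UJ σ 3 := by
  rw [mem_UJ]
  show (Jc : Matrix (Fin 3) (Fin 3) K) * adj σ Jc = 1
  rw [adj3]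
  ext i j
  fin_cases i <;> fin_cases j <;> simp [Jc, Matrix.mul_apply, Fin.sum_univ_three]

theorem JcS_conj (h2 : (2 : K) = 0) (α γ : K) : JcS h2 * xS σ α γ = yS σ α γ * JcS h2 := by
  apply Subtype.ext
  rw [Matrix.SpecialLinearGroup.coe_mul, Matrix.SpecialLinearGroup.coe_mul]
  show (Jc : Matrix (Fin 3) (Fin 3) K) * xM σ α γ = yM σ α γ * Jc
  ext i j
  fin_cases i <;> fin_cases j <;> simp [Jc, xM, yM, Matrix.mul_apply, Fin.sum_univ_three]

theorem yS_zero_zero : yS σ 0 (0 : K) = 1 := by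
  apply Subtype.ext
  show yM σ 0 0 = 1
  ext i j
  fin_cases i <;> fin_cases j <;> simp [yM]


theorem xM_mulVec (α γ : K) (v : Fin 3 → K) :
    xM σ α γ *ᵥ v = ![v 0 + α * v 1 + γ * v 2, v 1 + σ α * v 2, v 2] := by
  ext i
  fin_cases i <;> simp [xM, Matrix.mulVec, dotProduct, Fin.sum_univ_three]

theorem yM_mulVec (α γ : K) (v : Fin 3 → K) :
    yM σ α γ *ᵥ v = ![v 0, σ α * v 0 + v 1, γ * v 0 + α * v 1 + v 2] := by
  ext i
  fin_cases i <;> simp [yM, Matrix.mulVec, dotProduct, Fin.sum_univ_three]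

/-- `x(α,γ)` is regular unipotent when `α ≠ 0` -/
theorem xM_sub_one_sq (α γ : K) :
    (xM σ α γ - 1) ^ 2 = !![0, 0, α * σ α; 0, 0, 0; 0, 0, 0] := by
  rw [pow_two]
  ext i j
  fin_cases i <;> fin_cases j <;>
    simp [xM, Matrix.mul_apply, Fin.sum_univ_three]

theorem xM_sub_one_cube (α γ : K) : (xM σ α γ - 1) ^ 3 = 0 := by
  rw [pow_succ, xM_sub_one_sq]
  ext i j
  fin_cases i <;> fin_cases j <;>
    simp [xM, Matrix.mul_apply, Fin.sum_univ_three]

theorem xM_regular {α γ : K} (hα : α * σ α ≠ 0) :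
    IsNilpotent (xM σ α γ - 1) ∧ (xM σ α γ - 1) ^ 2 ≠ 0 := by
  refine ⟨⟨3, xM_sub_one_cube α γ⟩, ?_⟩
  rw [xM_sub_one_sq]
  intro h
  have := congrFun (congrFun h 0) 2
  simp at this
  exact hα (by simpa using this)


/-- **S2282, `n = 3`, `q` even: the core.**  `ζ` generates the fixed field of `σ` multiplicatively,
`t⁴ ζ = 1`, `t` fixed, `t ≠ 1`, `N(α) = Tr(γ) = t + t⁻¹`. -/
theorem su3_even_core (hσ : ∀ x, σ (σ x) = x) (h2 : (2 : K) = 0) {ζ t α γ : K}
    (hgen : ∀ y : K, y ≠ 0 → σ y = y → ∃ k : ℕ, y = ζ ^ (k + 1))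
    (ht : t ^ 4 * ζ = 1) (hst : σ t = t) (ht1 : t ≠ 1)
    (hα : α * σ α = t + t⁻¹) (hγ : γ + σ γ = t + t⁻¹) (v : Fin 3 → K) (hv : hJ σ v v = 0) :
    v ∈ Rt (σ := σ) (Subgroup.closure
      {xS σ α γ, JcS h2 * xS σ α γ * (JcS h2)⁻¹, yS σ 0 t * xS σ α γ * (yS σ 0 t)⁻¹}) := by
  have h2' : ∀ x : K, x + x = 0 := fun x => by rw [← two_mul, h2, zero_mul]
  have hneg : ∀ x : K, -x = x := fun x => by
    rw [neg_eq_iff_add_eq_zero]; exact h2' x
  have ht0 : t ≠ 0 := by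
    rintro rfl
    simp at ht
  set a : K := t + t⁻¹ with ha
  have ha0 : a ≠ 0 := by
    intro h
    apply ht1
    have h1 : (t + 1) ^ 2 = 0 := by
      have : t * a = 0 := by rw [h, mul_zero]
      rw [ha, mul_add, mul_inv_cancel₀ ht0] at this
      linear_combination this + t * h2
    have := pow_eq_zero_iff (two_ne_zero) |>.1 h1
    linear_combination this - h2
  have hσa : σ a = a := by rw [ha, map_add, map_inv₀, hst]
  have hα0 : α ≠ 0 := by
    rintro rfl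
    rw [zero_mul] at hα
    exact ha0 hα.symm
  have hγ0 : γ ≠ 0 := by
    rintro rfl
    rw [map_zero, add_zero] at hγ
    exact ha0 hγ.symm
  have hu : xS σ α γ ∈ UJ σ 3 := xS_mem hσ h2 (hγ.trans hα.symm)
  have hg : JcS h2 ∈ UJ σ 3 := JcS_mem h2
  have hh : yS σ 0 t ∈ UJ σ 3 := yS_mem hσ h2 (by rw [hst, h2' t, zero_mul])
  have hw : JcS h2 * xS σ α γ * (JcS h2)⁻¹ = yS σ α γ := by
    rw [JcS_conj, mul_inv_cancel_right]
  set X := Subgroup.closure
      {xS σ α γ, JcS h2 * xS σ α γ * (JcS h2)⁻¹, yS σ 0 t * xS σ α γ * (yS σ 0 t)⁻¹} with hXdef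
  have huX : xS σ α γ ∈ X := Subgroup.subset_closure (by simp)
  have hwX : yS σ α γ ∈ X := by
    rw [← hw]; exact Subgroup.subset_closure (by simp)
  have hu3X : yS σ 0 t * xS σ α γ * (yS σ 0 t)⁻¹ ∈ X := Subgroup.subset_closure (by simp)
  have hX : X ≤ UJ σ 3 := by
    rw [hXdef, Subgroup.closure_le]
    intro x hx
    simp only [Set.mem_insert_iff, Set.mem_singleton_iff] at hx
    rcases hx with rfl | rfl | rfl
    · exact hu
    · exact (UJ σ 3).mul_mem ((UJ σ 3).mul_mem hg hu) ((UJ σ 3).inv_mem hg)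
    · exact (UJ σ 3).mul_mem ((UJ σ 3).mul_mem hh hu) ((UJ σ 3).inv_mem hh)
  -- the two transvections
  have hTe : xS σ 0 a ∈ X := by
    have := X.mul_mem huX huX
    rwa [xS_sq h2, hα] at this
  have hTf : yS σ 0 a ∈ X := by
    have := X.mul_mem hwX hwX
    rwa [yS_sq h2, hα] at this
  -- the vector p
  set p : Fin 3 → K := ![1, 0, t] with hp
  have hpp : hJ σ p p = 0 := by
    rw [hJ_three]
    simp [hp, hst, h2']
  have hTp : ∃ x ∈ X, ((x : SpecialLinearGroup (Fin 3) K) : Matrix (Fin 3) (Fin 3) K) =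
      TJm σ p a := by
    refine ⟨(yS σ 0 t * xS σ α γ * (yS σ 0 t)⁻¹) * (yS σ 0 t * xS σ α γ * (yS σ 0 t)⁻¹),
      X.mul_mem hu3X hu3X, ?_⟩
    have e : (yS σ 0 t * xS σ α γ * (yS σ 0 t)⁻¹) * (yS σ 0 t * xS σ α γ * (yS σ 0 t)⁻¹) =
        yS σ 0 t * xS σ 0 a * (yS σ 0 t)⁻¹ := by
      have e2 : xS σ 0 a = xS σ α γ * xS σ α γ := by rw [xS_sq h2, hα]
      rw [e2]
      group
    rw [e, Matrix.SpecialLinearGroup.coe_mul, Matrix.SpecialLinearGroup.coe_mul, xS_coe,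
      xS_zero_eq_TJm, conj_TJm hh, yS_coe, yM_mulVec]
    congr 1
    ext i
    fin_cases i <;> simp [eV, hp]
  -- the torus element
  have hsX : xS σ 0 a * yS σ 0 a ∈ X := X.mul_mem hTe hTf
  have hsp : ((xS σ 0 a * yS σ 0 a : SpecialLinearGroup (Fin 3) K) :
      Matrix (Fin 3) (Fin 3) K) *ᵥ p = (t⁻¹ ^ 2) • p := by
    rw [Matrix.SpecialLinearGroup.coe_mul, xS_coe, yS_coe, ← Matrix.mulVec_mulVec, yM_mulVec,
      xM_mulVec]
    ext i
    fin_cases i
    · simp [hp, ha]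
      field_simp
      linear_combination (2 * t ^ 2 + t ^ 4) * h2
    · simp [hp]
    · simp [hp, ha]
      field_simp
      linear_combination h2' (t ^ 2)
  have hζ : ζ = t⁻¹ ^ 2 * σ (t⁻¹ ^ 2) := by
    rw [map_pow, map_inv₀, hst]
    field_simp
    linear_combination ht
  have hstep : ∀ c : K, (∃ x ∈ X, ((x : SpecialLinearGroup (Fin 3) K) :
      Matrix (Fin 3) (Fin 3) K) = TJm σ p c) → ∃ x ∈ X, ((x : SpecialLinearGroup (Fin 3) K) :
      Matrix (Fin 3) (Fin 3) K) = TJm σ p (ζ * c) := by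
    rintro c ⟨x, hx, hxe⟩
    refine ⟨(xS σ 0 a * yS σ 0 a) * x * (xS σ 0 a * yS σ 0 a)⁻¹,
      X.mul_mem (X.mul_mem hsX hx) (X.inv_mem hsX), ?_⟩
    rw [Matrix.SpecialLinearGroup.coe_mul, Matrix.SpecialLinearGroup.coe_mul (xS σ 0 a * yS σ 0 a) x,
      hxe, conj_TJm (hX hsX), hsp, TJm_smul, hζ]
  have hpow : ∀ k : ℕ, ∃ x ∈ X, ((x : SpecialLinearGroup (Fin 3) K) :
      Matrix (Fin 3) (Fin 3) K) = TJm σ p (ζ ^ k * a) := by
    intro k
    induction k with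
    | zero => simpa using hTp
    | succ k ih =>
      have := hstep _ ih
      rwa [← mul_assoc, ← pow_succ'] at this
  have hpR : p ∈ Rt (σ := σ) X := by
    refine ⟨hpp, ?_⟩
    intro c hc
    rw [hneg] at hc
    by_cases hc0 : c = 0
    · refine ⟨1, X.one_mem, ?_⟩
      rw [hc0]
      simp [TJm]
    · have h1 : σ (c / a) = c / a := by rw [map_div₀, hc, hσa]
      obtain ⟨k, hk⟩ := hgen (c / a) (div_ne_zero hc0 ha0) h1
      have : c = ζ ^ (k + 1) * a := by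
        rw [← hk]; field_simp
      rw [this]
      exact hpow (k + 1)
  -- the vector e
  have heR : (eV : Fin 3 → K) ∈ Rt (σ := σ) X := by
    have hp' := Rt_ap hX hTe hpR
    rw [xS_coe, xM_mulVec] at hp'
    have hc1 : σ ((a * t ^ 2)⁻¹) = -(a * t ^ 2)⁻¹ := by
      rw [hneg, map_inv₀, map_mul, map_pow, hσa, hst]
    have := Rt_chord hX hp' hpR _ hc1
    have e : (![p 0 + 0 * p 1 + a * p 2, p 1 + σ 0 * p 2, p 2] : Fin 3 → K) +
        ((a * t ^ 2)⁻¹ * hJ σ ![p 0 + 0 * p 1 + a * p 2, p 1 + σ 0 * p 2, p 2] p) • p =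
        (a * t) • (eV : Fin 3 → K) := by
      have hh' : hJ σ ![p 0 + 0 * p 1 + a * p 2, p 1 + σ 0 * p 2, p 2] p = a * t ^ 2 := by
        rw [hJ_three]
        simp [hp, hst]
        linear_combination t * h2' 1 * 0 + h2' t
      rw [hh', inv_mul_cancel₀ (mul_ne_zero ha0 (pow_ne_zero 2 ht0)), one_smul]
      ext i
      fin_cases i
      · simp [hp, eV]
        linear_combination h2' 1
      · simp [hp, eV]
      · simp [hp, eV, h2']
    rw [e] at this
    have h3 := Rt_smul hσ (a * t)⁻¹ this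
    rwa [smul_smul, inv_mul_cancel₀ (mul_ne_zero ha0 ht0), one_smul] at h3
  -- two points
  have hP1 : Pt σ (α / σ γ) γ⁻¹ ∈ Rt (σ := σ) X := by
    have h1 := Rt_ap hX hwX heR
    rw [yS_coe, yM_mulVec] at h1
    have h3 := Rt_smul hσ γ⁻¹ h1
    have e : γ⁻¹ • (![(eV : Fin 3 → K) 0, σ α * (eV : Fin 3 → K) 0 + (eV : Fin 3 → K) 1,
        γ * (eV : Fin 3 → K) 0 + α * (eV : Fin 3 → K) 1 + (eV : Fin 3 → K) 2] : Fin 3 → K) =
        Pt σ (α / σ γ) γ⁻¹ := by
      ext i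
      fin_cases i
      · simp [Pt, eV]
      · simp [Pt, eV, hσ]
        field_simp
      · simp [Pt, eV, hγ0]
    rwa [e] at h3
  have hP2 : Pt σ (α / σ γ + α) (γ⁻¹ + α * σ (α / σ γ) + γ) ∈ Rt (σ := σ) X := by
    have h1 := Rt_ap hX huX hP1
    rw [xS_coe, xM_mulVec] at h1
    have e : (![Pt σ (α / σ γ) γ⁻¹ 0 + α * Pt σ (α / σ γ) γ⁻¹ 1 + γ * Pt σ (α / σ γ) γ⁻¹ 2,
        Pt σ (α / σ γ) γ⁻¹ 1 + σ α * Pt σ (α / σ γ) γ⁻¹ 2, Pt σ (α / σ γ) γ⁻¹ 2] : Fin 3 → K) =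
        Pt σ (α / σ γ + α) (γ⁻¹ + α * σ (α / σ γ) + γ) := by
      ext i
      fin_cases i <;> simp [Pt]
    rwa [e] at h1
  have hne : ∃ z, σ z ≠ z := by
    refine ⟨γ, fun h => ha0 ?_⟩
    rw [← hγ, h, h2']
  exact endgame3 hσ hX hne heR hP1 hP2 (by
    intro h
    apply hα0
    linear_combination -h) v hv

end Cfsg.Agent.Lib.Helper4.SU3
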