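/-
helper4: S2282, base case n = 3, q even (q ≥ 4): the finite-field instantiation of `su3_even_core`
and the statement in the shape of helper23's `frozen_of_UJ`.
-/
import Mathlib
import Cfsg.Agent.Lib.Helper4.SU3Even
import Cfsg.Agent.Lib.Helper8.SUField
import Cfsg.Agent.Lib.Helper23.SUBridge2

set_option autoImplicit false

namespace Cfsg.Agent.Lib.Helper4.SU3

open Matrix Cfsg.Agent.Lib.Helper16.FusSU
open Cfsg.Agent.Lib.Helper5.HermBridge (frobHom)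
open Cfsg.Agent.Lib.Helper8.SUField

variable {F : Type*} [Field F] [Fintype F]

/-- the field data of the even core -/
theorem exists_even_data (q : ℕ) (hF : Fintype.card F = q ^ 2) (h2 : (2 : F) = 0) (hq : q ≠ 2) :
    ∃ ζ t α γ : F, (∀ y : F, y ≠ 0 → y ^ q = y → ∃ k : ℕ, y = ζ ^ (k + 1)) ∧
      t ^ 4 * ζ = 1 ∧ t ^ q = t ∧ t ≠ 1 ∧ α * α ^ q = t + t⁻¹ ∧ γ + γ ^ q = t + t⁻¹ := by
  classical
  have hq2 := two_le_q hF
  have hev := q_even_of_two_eq_zero hF h2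
  have hq3 : 3 ≤ q := by
    rcases hev with ⟨r, hr⟩
    omega
  obtain ⟨ζ, hζ0, hζq, hζ⟩ := exists_fixed_gen hF
  have hζ1 : ζ ≠ 1 := by
    intro h1
    obtain ⟨g, hg0, hord, hgen⟩ := exists_gen (F := F)
    have hN : (g * g ^ q) ^ q = g * g ^ q := norm_fixed hF g
    obtain ⟨k, hk⟩ := hζ (g * g ^ q) (mul_ne_zero hg0 (pow_ne_zero _ hg0)) hN
    rw [h1, one_pow] at hk
    have h2 : g ^ (q + 1) = 1 := by rw [pow_succ', hk]
    have hdvd : Fintype.card F - 1 ∣ q + 1 := by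
      rw [← hord]
      exact orderOf_dvd_of_pow_eq_one h2
    have hle := Nat.le_of_dvd (by omega) hdvd
    rw [hF] at hle
    have : q * 3 ≤ q ^ 2 := by
      rw [sq]
      exact Nat.mul_le_mul_left q hq3
    omega
  obtain ⟨a₁, ha₁q, ha₁⟩ := exists_sqrt_fixed hF h2 ζ⁻¹ (fixed_inv hζq)
  obtain ⟨t, htq, ht⟩ := exists_sqrt_fixed hF h2 a₁ ha₁q
  have ht4 : t ^ 4 * ζ = 1 := by
    have : t ^ 4 = ζ⁻¹ := by
      rw [show (4 : ℕ) = 2 * 2 by norm_num, pow_mul, ht, ha₁]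
    rw [this, inv_mul_cancel₀ hζ0]
  have ht1 : t ≠ 1 := by
    rintro rfl
    apply hζ1
    simpa using ht4
  have ht0 : t ≠ 0 := by
    rintro rfl
    simp at ht4
  have hfix : (t + t⁻¹) ^ q = t + t⁻¹ := by
    rw [add_pow_q hF, fixed_inv htq, htq]
  obtain ⟨α, hα⟩ := exists_norm_eq_fixed hF (t + t⁻¹) hfix
  obtain ⟨γ, hγ⟩ := exists_trace_eq hF (t + t⁻¹) hfix
  exact ⟨ζ, t, α, γ, hζ, ht4, htq, ht1, hα, hγ⟩

/-- **S2282, `n = 3`, `q` even, `q ≥ 4`**, in the antidiagonal model, in the shape of helper23's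
`SUBridge.frozen_of_UJ` -/
theorem core3_even (q : ℕ) (hF : Fintype.card F = q ^ 2) (h2 : (2 : F) = 0) (hq : q ≠ 2) :
    ∃ u g h : ↥(UJ (frobHom hF) 3),
      (IsNilpotent (((u : Matrix.SpecialLinearGroup (Fin 3) F) : Matrix (Fin 3) (Fin 3) F) - 1) ∧
        (((u : Matrix.SpecialLinearGroup (Fin 3) F) : Matrix (Fin 3) (Fin 3) F) - 1) ^ (3 - 1)
          ≠ 0) ∧
      Subgroup.closure ({u, g * u * g⁻¹, h * u * h⁻¹} : Set ↥(UJ (frobHom hF) 3)) = ⊤ := by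
  obtain ⟨ζ, t, α, γ, hgen, ht4, htq, ht1, hα, hγ⟩ := exists_even_data q hF h2 hq
  have hσ : ∀ x, frobHom hF (frobHom hF x) = x := frob_invol hF
  have h2' : ∀ x : F, x + x = 0 := fun x => by rw [← two_mul, h2, zero_mul]
  have ht0 : t ≠ 0 := by
    rintro rfl
    simp at ht4
  have ha0 : t + t⁻¹ ≠ 0 := by
    intro h
    apply ht1
    have h1 : (t + 1) ^ 2 = 0 := by
      have : t * (t + t⁻¹) = 0 := by rw [h, mul_zero]
      rw [mul_add, mul_inv_cancel₀ ht0] at this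
      linear_combination this + t * h2
    have := pow_eq_zero_iff (two_ne_zero) |>.1 h1
    linear_combination this - h2
  have hα' : α * frobHom hF α = t + t⁻¹ := hα
  have hγ' : γ + frobHom hF γ = t + t⁻¹ := hγ
  have hst : frobHom hF t = t := htq
  have hu : xS (frobHom hF) α γ ∈ UJ (frobHom hF) 3 := xS_mem hσ h2 (hγ'.trans hα'.symm)
  have hg : JcS h2 ∈ UJ (frobHom hF) 3 := JcS_mem h2
  have hh : yS (frobHom hF) 0 t ∈ UJ (frobHom hF) 3 :=
    yS_mem hσ h2 (by rw [hst, h2' t, zero_mul])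
  refine ⟨⟨xS (frobHom hF) α γ, hu⟩, ⟨JcS h2, hg⟩, ⟨yS (frobHom hF) 0 t, hh⟩, ?_, ?_⟩
  · exact xM_regular (by rw [hα']; exact ha0)
  · apply Cfsg.Agent.Lib.Helper23.SUBridge.closure_eq_top_of_Rt_all hF (le_refl 3)
      (fun h => hq h.2)
    intro v hv
    have hmap : (Subgroup.closure ({⟨xS (frobHom hF) α γ, hu⟩,
        ⟨JcS h2, hg⟩ * ⟨xS (frobHom hF) α γ, hu⟩ * (⟨JcS h2, hg⟩ : ↥(UJ (frobHom hF) 3))⁻¹,
        ⟨yS (frobHom hF) 0 t, hh⟩ * ⟨xS (frobHom hF) α γ, hu⟩ *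
          (⟨yS (frobHom hF) 0 t, hh⟩ : ↥(UJ (frobHom hF) 3))⁻¹} :
        Set ↥(UJ (frobHom hF) 3))).map (UJ (frobHom hF) 3).subtype =
        Subgroup.closure {xS (frobHom hF) α γ, JcS h2 * xS (frobHom hF) α γ * (JcS h2)⁻¹,
          yS (frobHom hF) 0 t * xS (frobHom hF) α γ * (yS (frobHom hF) 0 t)⁻¹} := by
      rw [MonoidHom.map_closure]
      congr 1
      simp [Set.image_insert_eq]
    rw [hmap]
    exact su3_even_core hσ h2 hgen ht4 hst ht1 hα' hγ' v hv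

end Cfsg.Agent.Lib.Helper4.SU3
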