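/-
helper4: S2282, the case n = 3 (q ≠ 2) of the frozen statement: helper2's odd core + helper4's even
core, through helper23's bridge `frozen_of_UJ`.
-/
import Mathlib
import Cfsg.Agent.Lib.Helper4.SU3EvenFin
import Cfsg.Agent.Lib.Helper2.SU3OddCore

set_option autoImplicit false

namespace Cfsg.Agent.Lib.Helper4.SU3

open Matrix

variable {F : Type*} [Field F] [Fintype F]

/-- **S2282 for `n = 3`** -/
theorem s2282_three (q : ℕ) (hF : Fintype.card F = q ^ 2) (hq : q ≠ 2) :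
    ∃ u g h : ↥(Cfsg.SU 3 F q), (IsNilpotent (((u : Matrix.SpecialLinearGroup (Fin 3) F) : Matrix (Fin 3) (Fin 3) F) - 1) ∧ (((u : Matrix.SpecialLinearGroup (Fin 3) F) : Matrix (Fin 3) (Fin 3) F) - 1) ^ (3 - 1) ≠ 0) ∧
      Subgroup.closure ({u, g * u * g⁻¹, h * u * h⁻¹} : Set ↥(Cfsg.SU 3 F q)) = ⊤ := by
  by_cases h2 : (2 : F) = 0
  · exact Cfsg.Agent.Lib.Helper23.SUBridge.frozen_of_UJ q hF 3 (core3_even q hF h2 hq)
  · exact Cfsg.Agent.Lib.Helper23.SUBridge.frozen_of_UJ q hF 3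
      (Cfsg.Agent.Lib.Helper2.SU3OddC.core3_odd q hF h2)

end Cfsg.Agent.Lib.Helper4.SU3
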