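import Mathlib
import Cfsg.Prelude.Def_LieClassical
import Cfsg.Agent.Lib.Helper4.SU6FDefs

/-!
# SUnMax sub-market SU6F, leaf (F8) `cone_field` + `cone` core (helper4)

`cone_core` = `cone` with the leaf (F4) `coords` as a hypothesis.
-/

set_option autoImplicit false
set_option linter.unusedSectionVars false
set_option linter.unusedVariables false

namespace Cfsg.Agent.Lib.Helper4.SU6FLeaf
open Matrix Cfsg.Agent.Lib.Helper4.SU6F

section field
variable {E : Type*} [Field E]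

/-- the arithmetic of the field with 64 elements that we need -/
theorem field64 (hcE : Nat.card E = 64) :
    (∀ x : E, x + x = 0) ∧ (∀ x : E, x ^ 64 = x) ∧ (∀ x y : E, (x + y) ^ 8 = x ^ 8 + y ^ 8) := by
  have hfin : Finite E := Nat.finite_of_card_ne_zero (by rw [hcE]; norm_num)
  have : Fintype E := Fintype.ofFinite E
  have hcard : Fintype.card E = 64 := by rw [← Nat.card_eq_fintype_card, hcE]
  have hchar : CharP E 2 := by
    obtain ⟨p, hp⟩ := CharP.exists E
    have hpp : p.Prime := CharP.char_is_prime E p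
    have h64 : ((64 : ℕ) : E) = 0 := by rw [← hcard]; exact Nat.cast_card_eq_zero E
    have hdvd : p ∣ 2 ^ 6 := by
      have := (CharP.cast_eq_zero_iff E p 64).mp h64
      norm_num
      exact this
    have : p = 2 := (Nat.prime_dvd_prime_iff_eq hpp Nat.prime_two).mp (hpp.dvd_of_dvd_pow hdvd)
    rwa [this] at hp
  refine ⟨?_, ?_, ?_⟩
  · intro x
    have h2 : (2 : E) = 0 := by exact_mod_cast CharP.cast_eq_zero E 2
    linear_combination x * h2
  · intro x
    have := FiniteField.pow_card x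
    rwa [hcard] at this
  · intro x y
    have := add_pow_char_pow (R := E) (p := 2) (n := 3) x y
    norm_num at this
    exact this

/-- (F8a) the field lemma -/
theorem cone_field (hcE : Nat.card E = 64) (a b c d : E) (h1 : a * b ^ 8 + b * a ^ 8 = 0)
    (h2 : c * d ^ 8 + d * c ^ 8 = 0) (h3 : a * d ^ 8 + b * c ^ 8 = 1) :
    ∃ μ : E, μ ≠ 0 ∧ (a / μ) ^ 8 = a / μ ∧ (b / μ) ^ 8 = b / μ ∧ (c / μ) ^ 8 = c / μ ∧ (d / μ) ^ 8 = d / μ := by
  obtain ⟨h2x, h64, hadd⟩ := field64 hcE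
  have hneg : ∀ x y : E, x + y = 0 → x = y := by
    intro x y h
    have := h2x y
    linear_combination h - this
  -- `E₀` is a subfield
  have hmul : ∀ x y : E, x ^ 8 = x → y ^ 8 = y → (x * y) ^ 8 = x * y := by
    intro x y hx hy
    rw [mul_pow, hx, hy]
  have hinv : ∀ x : E, x ^ 8 = x → x⁻¹ ^ 8 = x⁻¹ := by
    intro x hx
    rw [inv_pow, hx]
  have hdiv : ∀ x y : E, x ^ 8 = x → y ^ 8 = y → (x / y) ^ 8 = x / y := by
    intro x y hx hy
    rw [div_pow, hx, hy]
  have hsum : ∀ x y : E, x ^ 8 = x → y ^ 8 = y → (x + y) ^ 8 = x + y := by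
    intro x y hx hy
    rw [hadd, hx, hy]
  have h88 : ∀ x : E, (x ^ 8) ^ 8 = x := by
    intro x
    rw [← pow_mul]
    exact h64 x
  -- the norm
  have hnorm : ∀ z : E, (z * z ^ 8) ^ 8 = z * z ^ 8 := by
    intro z
    rw [mul_pow, h88, mul_comm]
  -- `y τz ∈ E₀ ⟹ y / z ∈ E₀`
  have hB : ∀ y z : E, z ≠ 0 → (y * z ^ 8) ^ 8 = y * z ^ 8 → (y / z) ^ 8 = y / z := by
    intro y z hz hyz
    have : y / z = (y * z ^ 8) / (z * z ^ 8) := by
      field_simp
    rw [this]
    exact hdiv _ _ hyz (hnorm z)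
  -- from the hypotheses
  have hab : (a * b ^ 8) ^ 8 = a * b ^ 8 := by
    rw [mul_pow, h88, mul_comm]
    exact (hneg _ _ h1).symm
  have hba : (b * a ^ 8) ^ 8 = b * a ^ 8 := by
    rw [mul_pow, h88, mul_comm]
    exact hneg _ _ h1
  have hcd : (c * d ^ 8) ^ 8 = c * d ^ 8 := by
    rw [mul_pow, h88, mul_comm]
    exact (hneg _ _ h2).symm
  have hdc : (d * c ^ 8) ^ 8 = d * c ^ 8 := by
    rw [mul_pow, h88, mul_comm]
    exact hneg _ _ h2
  have hone : ((1 : E)) ^ 8 = 1 := one_pow 8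
  have hzero : ((0 : E)) ^ 8 = 0 := by norm_num
  by_cases ha : a = 0
  · -- `μ = b`
    have hb : b ≠ 0 := by
      intro hb
      rw [ha, hb] at h3
      simp at h3
    have hbc : b * c ^ 8 = 1 := by
      rw [ha, zero_mul, zero_add] at h3
      exact h3
    have hc0 : c ≠ 0 := by
      intro hc0
      rw [hc0] at hbc
      simp at hbc
    have hbc' : (b / c) ^ 8 = b / c := hB b c hc0 (by rw [hbc, one_pow])
    have hcb : (c / b) ^ 8 = c / b := by
      have : c / b = (b / c)⁻¹ := by rw [inv_div]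
      rw [this]
      exact hinv _ hbc'
    refine ⟨b, hb, ?_, ?_, hcb, ?_⟩
    · rw [ha, zero_div]
      exact hzero
    · rw [div_self hb]
      exact hone
    · have hd' : (d / c) ^ 8 = d / c := hB d c hc0 hdc
      have : d / b = (d / c) * (c / b) := by field_simp
      rw [this]
      exact hmul _ _ hd' hcb
  · -- `μ = a`
    have hβ : (b / a) ^ 8 = b / a := hB b a ha hba
    refine ⟨a, ha, ?_, hβ, ?_, ?_⟩
    · rw [div_self ha]
      exact hone
    · by_cases hc0 : c = 0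
      · rw [hc0, zero_div]
        exact hzero
      · have hδ : (d / c) ^ 8 = d / c := hB d c hc0 hdc
        -- `a c^8 (δ + β) = 1`
        have hkey : a * c ^ 8 * (d / c + b / a) = 1 := by
          have e1 : a * d ^ 8 = a * c ^ 8 * (d / c) := by
            have : d ^ 8 = c ^ 8 * (d / c) := by
              rw [← hδ, div_pow]
              field_simp
            rw [this, mul_assoc]
          have e2 : b * c ^ 8 = a * c ^ 8 * (b / a) := by field_simp
          rw [mul_add, ← e1, ← e2]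
          exact h3
        have hsne : d / c + b / a ≠ 0 := by
          intro h0
          rw [h0, mul_zero] at hkey
          exact zero_ne_one hkey
        have hac : a * c ^ 8 = (d / c + b / a)⁻¹ := eq_inv_of_mul_eq_one_left hkey
        have hac8 : (a * c ^ 8) ^ 8 = a * c ^ 8 := by
          rw [hac]
          exact hinv _ (hsum _ _ hδ hβ)
        have h' : (a / c) ^ 8 = a / c := hB a c hc0 hac8
        have : c / a = (a / c)⁻¹ := by rw [inv_div]
        rw [this]
        exact hinv _ h'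
    · by_cases hc0 : c = 0
      · -- `a d^8 = 1`
        have had : a * d ^ 8 = 1 := by
          rw [hc0] at h3
          simpa using h3
        have hd0 : d ≠ 0 := by
          intro hd0
          rw [hd0] at had
          simp at had
        have h' : (a / d) ^ 8 = a / d := hB a d hd0 (by rw [had, one_pow])
        have : d / a = (a / d)⁻¹ := by rw [inv_div]
        rw [this]
        exact hinv _ h'
      · have hδ : (d / c) ^ 8 = d / c := hB d c hc0 hdc
        have hkey : a * c ^ 8 * (d / c + b / a) = 1 := by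
          have e1 : a * d ^ 8 = a * c ^ 8 * (d / c) := by
            have : d ^ 8 = c ^ 8 * (d / c) := by
              rw [← hδ, div_pow]
              field_simp
            rw [this, mul_assoc]
          have e2 : b * c ^ 8 = a * c ^ 8 * (b / a) := by field_simp
          rw [mul_add, ← e1, ← e2]
          exact h3
        have hsne : d / c + b / a ≠ 0 := by
          intro h0
          rw [h0, mul_zero] at hkey
          exact zero_ne_one hkey
        have hac : a * c ^ 8 = (d / c + b / a)⁻¹ := eq_inv_of_mul_eq_one_left hkey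
        have hac8 : (a * c ^ 8) ^ 8 = a * c ^ 8 := by
          rw [hac]
          exact hinv _ (hsum _ _ hδ hβ)
        have h' : (a / c) ^ 8 = a / c := hB a c hc0 hac8
        have hca : (c / a) ^ 8 = c / a := by
          have : c / a = (a / c)⁻¹ := by rw [inv_div]
          rw [this]
          exact hinv _ h'
        have : d / a = (d / c) * (c / a) := by field_simp
        rw [this]
        exact hmul _ _ hδ hca

end field

variable {F : Type*} [Field F] [Fintype F]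
variable {E : Type*} [Field E] [Algebra F E] {ρ : E →ₐ[F] Matrix (Fin 6) (Fin 6) F}
  {h : (Fin 6 → F) → (Fin 6 → F) → E} {u w : Fin 6 → F}

/-- (F8b) `g V₀ ⊆ ρ μ V₀`, with (F4) `coords` as a hypothesis -/
theorem cone_core (hco : ∀ v : Fin 6 → F, v = ρ (h v w) *ᵥ u + ρ (h v u) *ᵥ w)
    (hc : FCtx ρ) (hh : HForm ρ h) (hy : Hyp h u w) (g : Matrix (Fin 6) (Fin 6) F) (α : E →ₐ[F] E)
    (hgρ : ∀ x : E, ρ (α x) * g = g * ρ x)
    (hgh : ∀ v v' : Fin 6 → F, h (g *ᵥ v) (g *ᵥ v') = α (h v v')) :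
    ∃ μ : E, μ ≠ 0 ∧ ∀ v, V0 h u w v → ∃ v₀, V0 h u w v₀ ∧ g *ᵥ v = ρ μ *ᵥ v₀ := by
  obtain ⟨h2x, h64, hadd⟩ := field64 hc.cardE
  obtain ⟨a, ha⟩ : ∃ a, a = h (g *ᵥ u) w := ⟨_, rfl⟩
  obtain ⟨b, hb⟩ : ∃ b, b = h (g *ᵥ u) u := ⟨_, rfl⟩
  obtain ⟨c, hc'⟩ : ∃ c, c = h (g *ᵥ w) w := ⟨_, rfl⟩
  obtain ⟨d, hd⟩ : ∃ d, d = h (g *ᵥ w) u := ⟨_, rfl⟩
  have hgu : g *ᵥ u = ρ a *ᵥ u + ρ b *ᵥ w := by rw [ha, hb]; exact hco _
  have hgw : g *ᵥ w = ρ c *ᵥ u + ρ d *ᵥ w := by rw [hc', hd]; exact hco _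
  -- expansion of `h (ρ x u + ρ y w) v'`
  have hexp : ∀ (x y : E) (v' : Fin 6 → F), h (ρ x *ᵥ u + ρ y *ᵥ w) v' = x * h v' u ^ 8 + y * h v' w ^ 8 := by
    intro x y v'
    rw [hh.add_left, hh.smul_left, hh.smul_left, hh.herm v' u, hh.herm v' w]
  have h1 : a * b ^ 8 + b * a ^ 8 = 0 := by
    have e := hgh u u
    rw [hy.uu, map_zero] at e
    have e2 := hexp a b (g *ᵥ u)
    rw [← hgu, e, ← hb, ← ha] at e2
    exact e2.symm
  have h2 : c * d ^ 8 + d * c ^ 8 = 0 := by
    have e := hgh w w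
    rw [hy.ww, map_zero] at e
    have e2 := hexp c d (g *ᵥ w)
    rw [← hgw, e, ← hd, ← hc'] at e2
    exact e2.symm
  have h3 : a * d ^ 8 + b * c ^ 8 = 1 := by
    have e := hgh u w
    rw [hy.uw, map_one] at e
    have e2 := hexp a b (g *ᵥ w)
    rw [← hgu, e, ← hd, ← hc'] at e2
    exact e2.symm
  obtain ⟨μ, hμ0, hμa, hμb, hμc, hμd⟩ := cone_field hc.cardE a b c d h1 h2 h3
  refine ⟨μ, hμ0, ?_⟩
  intro v hv
  have hμμ : ρ μ * ρ μ⁻¹ = 1 := by rw [← map_mul, mul_inv_cancel₀ hμ0, map_one]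
  refine ⟨ρ μ⁻¹ *ᵥ (g *ᵥ v), ?_, ?_⟩
  swap
  · rw [Matrix.mulVec_mulVec, hμμ, Matrix.one_mulVec]
  -- `g v = ρ (α x) (g u) + ρ (α y) (g w)`
  obtain ⟨x, hx⟩ : ∃ x, x = h v w := ⟨_, rfl⟩
  obtain ⟨y, hy'⟩ : ∃ y, y = h v u := ⟨_, rfl⟩
  have hx8 : x ^ 8 = x := by rw [hx]; exact hv.1
  have hy8 : y ^ 8 = y := by rw [hy']; exact hv.2
  have hαx : (α x) ^ 8 = α x := by rw [← map_pow, hx8]
  have hαy : (α y) ^ 8 = α y := by rw [← map_pow, hy8]
  have hgv : g *ᵥ v = ρ (α x) *ᵥ (g *ᵥ u) + ρ (α y) *ᵥ (g *ᵥ w) := by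
    have hv' : v = ρ x *ᵥ u + ρ y *ᵥ w := by rw [hx, hy']; exact hco v
    rw [Matrix.mulVec_mulVec, Matrix.mulVec_mulVec, hgρ, hgρ, ← Matrix.mulVec_mulVec, ← Matrix.mulVec_mulVec,
      ← Matrix.mulVec_add, ← hv']
  have hval : ∀ v' : Fin 6 → F, h (ρ μ⁻¹ *ᵥ (g *ᵥ v)) v' =
      α x * (h (g *ᵥ u) v' / μ) + α y * (h (g *ᵥ w) v' / μ) := by
    intro v'
    rw [hh.smul_left, hgv, hh.add_left, hh.smul_left, hh.smul_left]
    field_simp
  have hmul : ∀ s t : E, s ^ 8 = s → t ^ 8 = t → (s * t) ^ 8 = s * t := by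
    intro s t hs ht
    rw [mul_pow, hs, ht]
  refine ⟨?_, ?_⟩
  · rw [hval w, ← ha, ← hc', hadd, hmul _ _ hαx hμa, hmul _ _ hαy hμc]
  · rw [hval u, ← hb, ← hd, hadd, hmul _ _ hαx hμb, hmul _ _ hαy hμd]

end Cfsg.Agent.Lib.Helper4.SU6FLeaf
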