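import Mathlib
import Cfsg.Prelude.Def_LieClassical
import Cfsg.Agent.Lib.Helper4.SU6FDefs
import Cfsg.Agent.Lib.Helper27.AschKF3
import Cfsg.Agent.Lib.Helper1.AFAdj
import Cfsg.Agent.Lib.Helper15.AschUDefs

/-!
# SUnMax sub-market SU6F, leaf (F1) `exists_ctx` (helper4): the model `E ≅ K` with the adjoint `x ↦ x ^ 8`.
-/

set_option autoImplicit false
set_option linter.unusedSectionVars false
set_option linter.unusedVariables false

namespace Cfsg.Agent.Lib.Helper4.SU6FLeaf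
open Matrix Cfsg.Agent.Lib.Helper4.SU6F

/-- an involutory ring automorphism `τ ≠ 1` of a finite field `E`: `|E| = p ^ (2 j)` and `τ x = x ^ p ^ j` -/
theorem involution_eq_pow {E : Type*} [Field E] [Finite E] (τ : E →+* E) (hτ2 : ∀ x, τ (τ x) = x)
    (hne : ∃ x, τ x ≠ x) :
    ∃ p j : ℕ, p.Prime ∧ Nat.card E = p ^ (2 * j) ∧ ∀ x, τ x = x ^ p ^ j := by
  classical
  have : Fintype E := Fintype.ofFinite E
  obtain ⟨p, hchar⟩ := CharP.exists E
  have hp : Fact p.Prime := ⟨CharP.char_is_prime E p⟩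
  letI aE : Algebra (ZMod p) E := ZMod.algebra E p
  let τe : E ≃+* E := RingEquiv.ofRingHom τ τ (RingHom.ext hτ2) (RingHom.ext hτ2)
  let τa : E ≃ₐ[ZMod p] E := AlgEquiv.ofRingEquiv (f := τe) (fun x => by
    have h : (τe : E →+* E).comp (algebraMap (ZMod p) E) = algebraMap (ZMod p) E := Subsingleton.elim _ _
    exact RingHom.congr_fun h x)
  have hτa : ∀ x, τa x = τ x := fun x => rfl
  obtain ⟨N, hN⟩ : ∃ N, N = Module.finrank (ZMod p) E := ⟨_, rfl⟩
  obtain ⟨⟨j, hjlt⟩, hj⟩ := (FiniteField.bijective_frobeniusAlgEquivOfAlgebraic_pow (ZMod p) E).2 τa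
  rw [← hN] at hjlt
  change FiniteField.frobeniusAlgEquivOfAlgebraic (ZMod p) E ^ j = τa at hj
  have hj' : ∀ x : E, τ x = x ^ p ^ j := by
    intro x
    have h1 : (FiniteField.frobeniusAlgEquivOfAlgebraic (ZMod p) E ^ j) x = τa x := by rw [hj]
    rw [hτa, AlgEquiv.coe_pow, FiniteField.coe_frobeniusAlgEquivOfAlgebraic_iterate, ZMod.card] at h1
    exact h1.symm
  have hord := FiniteField.orderOf_frobeniusAlgEquivOfAlgebraic (ZMod p) E
  have hsq : (FiniteField.frobeniusAlgEquivOfAlgebraic (ZMod p) E) ^ (2 * j) = 1 := by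
    rw [mul_comm, pow_mul, hj]
    ext x
    change τ (τ x) = x
    exact hτ2 x
  have hdvd : N ∣ 2 * j := by
    rw [hN, ← hord]
    exact orderOf_dvd_of_pow_eq_one hsq
  obtain ⟨x₀, hx₀⟩ := hne
  have hj0 : j ≠ 0 := by
    intro h0
    apply hx₀
    rw [hj', h0, pow_zero, pow_one]
  have h2j : 2 * j = N := by
    obtain ⟨k, hk⟩ := hdvd
    have hk1 : k = 1 := by
      rcases Nat.lt_or_ge k 1 with h | h
      · have : k = 0 := by omega
        subst this
        omega
      · rcases Nat.lt_or_ge k 2 with h' | h'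
        · omega
        · have : N * 2 ≤ N * k := Nat.mul_le_mul_left N h'
          omega
    rw [hk, hk1, mul_one]
  refine ⟨p, j, hp.out, ?_, hj'⟩
  rw [h2j, hN, Nat.card_eq_fintype_card, Module.card_eq_pow_finrank (K := ZMod p) (V := E), ZMod.card]

universe u
variable {F : Type u} [Field F] [Fintype F]

/-- the standard hermitian form of `F_4^n` is an `RForm` for the Frobenius -/
theorem rform_two (hF : Fintype.card F = 2 ^ 2) (n : ℕ) :
    ∃ σ : F ≃+* F, (∀ a, σ a = a ^ 2) ∧ (∃ c, σ c ≠ c) ∧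
      Cfsg.Agent.Lib.Helper15.AschForm.RForm (σ : F →+* F) 1 (Cfsg.hermForm n F 2) := by
  obtain ⟨σ, h1, h2, h3⟩ := Cfsg.Agent.Lib.Helper15.AschU.exists_sigma hF
  refine ⟨σ, h3, ?_, Cfsg.Agent.Lib.Helper15.AschU.hermForm_rform σ h2 h3⟩
  by_contra hcon
  push Not at hcon
  exact h1 (RingEquiv.ext hcon)

theorem exists_ctx (hF : Fintype.card F = 2 ^ 2) {K : Subalgebra F (Matrix (Fin 6) (Fin 6) F)}
    (hK : Cfsg.Geo.IsFieldSubalgebra 3 K) (hadj : Cfsg.Geo.IsAdjointClosedFor (Cfsg.hermForm 6 F 2) K) :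
    ∃ (E : Type u) (_ : Field E) (_ : Algebra F E) (ρ : E →ₐ[F] Matrix (Fin 6) (Fin 6) F),
      FCtx ρ ∧ ρ.range = K := by
  classical
  obtain ⟨σ, hσpow, hσne, hf⟩ := rform_two hF 6
  obtain ⟨E, fE, aE, ρ, hinj, hrange, hfr⟩ :=
    Cfsg.Agent.Lib.Helper27.AschKF3.exists_model 3 (by norm_num) K hK
  have hfin : Finite E := Finite.of_injective ρ hinj
  have hmemK : ∀ x : E, ρ x ∈ K := fun x => by rw [← hrange]; exact ⟨x, rfl⟩
  have hex : ∀ x : E, ∃ y : E, Cfsg.Agent.Lib.Helper15.AschForm.IsAdj (Cfsg.hermForm 6 F 2) (ρ x) (ρ y) := by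
    intro x
    obtain ⟨k', hk', hkk⟩ := hadj (ρ x) (hmemK x)
    rw [← hrange] at hk'
    obtain ⟨y, rfl⟩ := hk'
    exact ⟨y, hkk⟩
  choose τ hτ using hex
  have huniq : ∀ (x y : E), Cfsg.Agent.Lib.Helper15.AschForm.IsAdj (Cfsg.hermForm 6 F 2) (ρ x) (ρ y) → τ x = y := by
    intro x y h
    exact hinj (Cfsg.Agent.Lib.Helper1.AFLeaf.isAdj_unique hf (hτ x) h)
  have h1 : τ 1 = 1 := by
    apply huniq
    rw [map_one]
    exact Cfsg.Agent.Lib.Helper1.AFLeaf.isAdj_one
  have hmul : ∀ x y, τ (x * y) = τ x * τ y := by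
    intro x y
    apply huniq
    rw [map_mul, mul_comm (τ x) (τ y), map_mul]
    exact Cfsg.Agent.Lib.Helper1.AFLeaf.isAdj_mul (hτ x) (hτ y)
  have hadd : ∀ x y, τ (x + y) = τ x + τ y := by
    intro x y
    apply huniq
    rw [map_add, map_add]
    exact Cfsg.Agent.Lib.Helper1.AFLeaf.isAdj_add hf (hτ x) (hτ y)
  let τm : E →* E := { toFun := τ, map_one' := h1, map_mul' := hmul }
  let τr : E →+* E := RingHom.mk' τm hadd
  have hτr : ∀ x, τr x = τ x := fun x => rfl
  have hτ2 : ∀ x, τr (τr x) = x := by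
    intro x
    rw [hτr, hτr]
    apply huniq
    exact Cfsg.Agent.Lib.Helper1.AFLeaf.isAdj_symm hf (hτ x)
  have hτF : ∀ c : F, τr (algebraMap F E c) = algebraMap F E (σ c) := by
    intro c
    rw [hτr]
    apply huniq
    rw [AlgHom.commutes, AlgHom.commutes, Algebra.algebraMap_eq_smul_one, Algebra.algebraMap_eq_smul_one]
    exact Cfsg.Agent.Lib.Helper1.AFLeaf.isAdj_smul hf Cfsg.Agent.Lib.Helper1.AFLeaf.isAdj_one c
  have hne : ∃ x, τr x ≠ x := by
    obtain ⟨c, hc⟩ := hσne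
    refine ⟨algebraMap F E c, ?_⟩
    rw [hτF]
    intro h
    exact hc ((algebraMap F E).injective h)
  have hcardE : Nat.card E = 64 := by
    have : Fintype E := Fintype.ofFinite E
    rw [Nat.card_eq_fintype_card, Module.card_eq_pow_finrank (K := F) (V := E), hfr, hF]
    norm_num
  obtain ⟨p, j, hp, hcard, hpow⟩ := involution_eq_pow τr hτ2 hne
  -- `p ^ (2 j) = 64`
  rw [hcardE] at hcard
  have hp2 : p = 2 := by
    have hdvd : p ∣ 64 := by
      rw [hcard]
      apply dvd_pow_self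
      intro h0
      rw [h0, pow_zero] at hcard
      omega
    have : p ∣ 2 ^ 6 := by norm_num; exact hdvd
    exact (Nat.prime_dvd_prime_iff_eq hp Nat.prime_two).mp (hp.dvd_of_dvd_pow this)
  subst hp2
  have hj3 : j = 3 := by
    have h64 : (2 : ℕ) ^ 6 = 2 ^ (2 * j) := by rw [← hcard]; norm_num
    have := Nat.pow_right_injective (le_refl 2) h64
    omega
  subst hj3
  refine ⟨E, fE, aE, ρ, ⟨by rw [hF]; norm_num, hcardE, hinj, ?_⟩, hrange⟩
  intro x
  have hx8 : x ^ 8 = τ x := by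
    have := hpow x
    rw [hτr] at this
    rw [this]
    norm_num
  rw [hx8]
  -- the adjoint is the conjugate transpose
  have hadjx := hτ x
  have hct : Cfsg.Agent.Lib.Helper15.AschForm.IsAdj (Cfsg.hermForm 6 F 2) (ρ x)
      (((ρ x).map (fun a : F => a ^ 2))ᵀ) := by
    intro a b
    unfold Cfsg.hermForm
    simp only [Matrix.mulVec, dotProduct, Matrix.transpose_apply, Matrix.map_apply]
    have hsq : ∀ s : Finset (Fin 6), ∀ g : Fin 6 → F, (∑ i ∈ s, g i) ^ 2 = ∑ i ∈ s, g i ^ 2 := by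
      intro s g
      have := map_sum (σ : F →+* F) g s
      simp only [RingEquiv.coe_toRingHom, hσpow] at this
      exact this
    have h4 : ∀ c : F, (c ^ 2) ^ 2 = c := by
      intro c
      rw [← hσpow, ← hσpow]
      exact hf.invol c
    simp_rw [hsq, mul_pow, h4, Finset.sum_mul, Finset.mul_sum]
    rw [Finset.sum_comm]
    apply Finset.sum_congr rfl
    intro i _
    apply Finset.sum_congr rfl
    intro k _
    ring
  exact Cfsg.Agent.Lib.Helper1.AFLeaf.isAdj_unique hf hadjx hct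

end Cfsg.Agent.Lib.Helper4.SU6FLeaf
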