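import Mathlib
import Cfsg.Prelude.Def_LieClassical
import Cfsg.Agent.Lib.Helper4.SU6FDefs
import Cfsg.Agent.Lib.Helper4.SU6FCtx
import Cfsg.Agent.Lib.Helper4.SU6FCone
import Cfsg.Agent.Lib.Helper1.SU6FHForm
import Cfsg.Agent.Lib.Helper1.SU6FHyp
import Cfsg.Agent.Lib.Helper1.SU6FNorm
import Cfsg.Agent.Lib.Helper2.SU6FForm
import Cfsg.Agent.Lib.Helper17.SU6FBasis
import Cfsg.Agent.Lib.Helper26.SU6FNorm9
import Cfsg.Agent.Lib.Helper26.SU6FGen

/-!
# SUnMax stage 2, leaf E3d `su6_two_field_le_symp` (helper4): the assembly of the sub-market SU6F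
(`notes/SUnMax_E3d_leaves.lean`): `N_{SU_6(2)}(F_64) = (3 × SL_2(8)) : 3 ≤ 3 × Sp_6(2)`.
Leaves: F1, F8 helper4; F2, F3, F4, F7 helper1; F5 helper17; F6 helper2; F9, F10, F11, F12 helper26.
-/

set_option autoImplicit false
set_option linter.unusedSectionVars false
set_option linter.unusedVariables false

namespace Cfsg.Agent.Lib.Helper4.SUMLeaf
open Matrix Cfsg.Agent.Lib.Helper4.SU6F
open Cfsg.Agent.Lib.Helper4.SU6FLeaf (exists_ctx cone_core)
open Cfsg.Agent.Lib.Helper1.SU6FLeaf (exists_hform exists_hyperbolic coords normalizer_semilinear)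
open Cfsg.Agent.Lib.Helper2.SU6FLeaf (form_rational form_alternating)
open Cfsg.Agent.Lib.Helper17.SU6FLeaf (exists_rational_basis)
open Cfsg.Agent.Lib.Helper26.SU6FLeaf (det_rho decomp_of_norm det_eq_one_of_rational mem_subfieldSubgroup_of_rational exists_F2)

universe u
variable {F : Type u} [Field F] [Fintype F]
variable {E : Type*} [Field E] [Algebra F E] {ρ : E →ₐ[F] Matrix (Fin 6) (Fin 6) F}
  {h : (Fin 6 → F) → (Fin 6 → F) → E} {u w : Fin 6 → F}

/-! ## the assembly (helper4) -/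

omit [Fintype F] in
/-- `V₀` is stable under `E₀` -/
theorem V0_smul (hh : HForm ρ h) {κ : E} (hκ : κ ^ 8 = κ) {v : Fin 6 → F} (hv : V0 h u w v) :
    V0 h u w (ρ κ *ᵥ v) := by
  refine ⟨?_, ?_⟩
  · rw [hh.smul_left, mul_pow, hκ, hv.1]
  · rw [hh.smul_left, mul_pow, hκ, hv.2]

/-- E3d: `N_{SU_6(2)}(F_64) ≤ 3 × Sp_6(2)` -/
theorem su6_two_field_le_symp (hF : Fintype.card F = 2 ^ 2) {K : Subalgebra F (Matrix (Fin 6) (Fin 6) F)}
    (hK : Cfsg.Geo.IsFieldSubalgebra 3 K) (hadj : Cfsg.Geo.IsAdjointClosedFor (Cfsg.hermForm 6 F 2) K) :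
    ∃ (F₀ : Subfield F) (P : GL (Fin 6) F) (ζ : F), Fintype.card F = Nat.card F₀ ^ 2 ∧ ζ ≠ 0 ∧ ζ + ζ ^ 2 = 0 ∧
      Cfsg.Geo.IsFormRationalStructure (Cfsg.hermForm 6 F 2) F₀ ζ P ∧
      (∀ u : Fin 6 → F, (∀ i, u i ∈ F₀) → Cfsg.hermForm 6 F 2 ((P : Matrix (Fin 6) (Fin 6) F) *ᵥ u)
        ((P : Matrix (Fin 6) (Fin 6) F) *ᵥ u) = 0) ∧
      Cfsg.Geo.subalgebraNormalizer K ⊓ (Cfsg.GU 6 F 2 ⊓ Cfsg.Geo.specialLinear (Fin 6) F) ≤
        Cfsg.Geo.subfieldSubgroup F₀ P := by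
  classical
  have hcF : Fintype.card F = 4 := by rw [hF]; norm_num
  obtain ⟨E, fE, aE, ρ, hc, hrange⟩ := exists_ctx hF hK hadj
  obtain ⟨h, hh⟩ := exists_hform hc
  obtain ⟨u, w, hy⟩ := exists_hyperbolic hc hh
  obtain ⟨P, hP⟩ := exists_rational_basis hc hh hy
  obtain ⟨F₀, hF₀, hcard₀⟩ := exists_F2 hcF
  have hrat : ∀ r : Fin 6 → F, (∀ i, r i ∈ F₀) → Rat r := fun r hr i => (hF₀ _).mp (hr i)
  have hV0 : ∀ r : Fin 6 → F, (∀ i, r i ∈ F₀) → V0 h u w ((P : Matrix (Fin 6) (Fin 6) F) *ᵥ r) :=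
    fun r hr => (hP _).mpr ⟨r, hrat r hr, rfl⟩
  have h2 : (2 : F) = 0 := by
    have hchar : CharP F 2 := by
      have h4 : ((4 : ℕ) : F) = 0 := by rw [← hcF]; exact Nat.cast_card_eq_zero F
      obtain ⟨p, hp⟩ := CharP.exists F
      have hpp : p.Prime := (CharP.char_is_prime_or_zero F p).resolve_right (by
        intro h0
        subst h0
        have := (CharP.cast_eq_zero_iff F 0 4).mp h4
        omega)
      have hdvd : p ∣ 4 := (CharP.cast_eq_zero_iff F p 4).mp h4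
      have : p = 2 := by
        have hle : p ≤ 4 := Nat.le_of_dvd (by norm_num) hdvd
        interval_cases p <;> first | rfl | (exfalso; revert hpp; decide) | omega
      rwa [this] at hp
    exact_mod_cast CharP.cast_eq_zero F 2
  refine ⟨F₀, P, 1, by rw [hcF, hcard₀]; norm_num, one_ne_zero, ?_, ?_, ?_, ?_⟩
  · rw [one_pow]
    linear_combination h2
  · intro r r' hr hr'
    rw [one_mul, hF₀]
    exact form_rational hc hh hy _ _ (hV0 r hr) (hV0 r' hr')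
  · intro r hr
    exact form_alternating hc hh hy _ (hV0 r hr)
  · rintro g ⟨hgK, hgU, hgS⟩
    rw [← hrange] at hgK
    obtain ⟨α, hα1, hα2⟩ := normalizer_semilinear hc hh g hgK hgU
    have hgg : ((g⁻¹ : GL (Fin 6) F) : Matrix (Fin 6) (Fin 6) F) * (g : Matrix (Fin 6) (Fin 6) F) = 1 := by
      rw [← Units.val_mul, inv_mul_cancel, Units.val_one]
    have hgρ : ∀ x : E, ρ (α x) * (g : Matrix (Fin 6) (Fin 6) F) = (g : Matrix (Fin 6) (Fin 6) F) * ρ x := by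
      intro x
      rw [hα1, Matrix.mul_assoc, hgg, Matrix.mul_one]
    obtain ⟨μ, hμ0, hμ⟩ := cone_core (coords hc hh hy) hc hh hy (g : Matrix (Fin 6) (Fin 6) F) α hgρ hα2
    have hμμ : ρ μ⁻¹ * ρ μ = 1 := by rw [← map_mul, inv_mul_cancel₀ hμ0, map_one]
    have hdetg : (g : Matrix (Fin 6) (Fin 6) F).det = 1 := by
      have h0 : (Matrix.GeneralLinearGroup.det : GL (Fin 6) F →* Fˣ) g = 1 := hgS
      have h' := congrArg (fun x : Fˣ => (x : F)) h0
      simpa using h'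
    -- `g₀ = ρ μ⁻¹ g` preserves `V₀`
    have hdet0 : (ρ μ⁻¹ * (g : Matrix (Fin 6) (Fin 6) F)).det = 1 := by
      apply det_eq_one_of_rational hcF P
      · rw [Matrix.det_mul, hdetg, mul_one]
        intro h0
        have := congrArg Matrix.det hμμ
        rw [Matrix.det_mul, h0, zero_mul, Matrix.det_one] at this
        exact zero_ne_one this
      · intro r hr
        obtain ⟨v₀, hv₀, hgv⟩ := hμ _ ((hP _).mpr ⟨r, hr, rfl⟩)
        obtain ⟨r', hr', hv₀'⟩ := (hP v₀).mp hv₀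
        refine ⟨r', hr', ?_⟩
        rw [← Matrix.mulVec_mulVec, hgv, Matrix.mulVec_mulVec, hμμ, Matrix.one_mulVec, hv₀']
    have hdetμ : (ρ μ).det = 1 := by
      rw [Matrix.det_mul, hdetg, mul_one] at hdet0
      have := congrArg Matrix.det hμμ
      rw [Matrix.det_mul, hdet0, one_mul, Matrix.det_one] at this
      exact this
    rw [det_rho hc hh hy μ] at hdetμ
    obtain ⟨l, κ, hl, hκ0, hκ, hμeq⟩ := decomp_of_norm hcF hc.cardE μ hdetμ
    apply mem_subfieldSubgroup_of_rational F₀ hF₀ P g l hl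
    intro r hr
    obtain ⟨v₀, hv₀, hgv⟩ := hμ _ ((hP _).mpr ⟨r, hr, rfl⟩)
    obtain ⟨r', hr', hv'⟩ := (hP _).mp (V0_smul (u := u) (w := w) hh hκ hv₀)
    refine ⟨r', hr', ?_⟩
    rw [hgv, hμeq, map_mul, AlgHom.commutes, Algebra.algebraMap_eq_smul_one, Matrix.smul_mul, Matrix.one_mul,
      Matrix.smul_mulVec, hv']

end Cfsg.Agent.Lib.Helper4.SUMLeaf
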