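import Mathlib
import Cfsg.Agent.Lib.Helper4.SUMT
import Cfsg.Agent.Lib.Helper4.SLMP6

/-!
SUnMax market (helper4): leaf P6 `not_su_le_symplType`.
-/

set_option autoImplicit false
set_option linter.unusedSectionVars false
set_option linter.unusedVariables false

namespace Cfsg.Agent.Lib.Helper4.SUMLeaf

open Cfsg.Geo Matrix Module Cfsg.Agent.Lib.Helper4.SUM
open Cfsg.Agent.Lib.Helper5.HermBridge Cfsg.Agent.Lib.Helper5.UForm
open scoped commutatorElement

variable {n : ℕ} {F : Type*} [Field F] [Fintype F] {q : ℕ}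

/-- powers of a unitary transvection with isotropic centre -/
theorem ut_pow_mulVec (hF : Fintype.card F = q ^ 2) {v : Fin n → F} (hv : Cfsg.hermForm n F q v v = 0) (c : F)
    (x : Fin n → F) (m : ℕ) :
    (Cfsg.unitaryTransvection n q v c) ^ m *ᵥ x = x + ((m : F) * (c * Cfsg.hermForm n F q x v)) • v := by
  have hf := herm_unitary (n := n) hF
  induction m with
  | zero => simp
  | succ m ih =>
    rw [pow_succ', ← Matrix.mulVec_mulVec, ih, ut_mulVec, hf.add_left, hf.smul_left, hv, mul_zero, add_zero,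
      add_assoc, ← add_smul]
    congr 2
    push_cast
    ring

/-- an element of `GL` commuting with `SU_n(q)` is a scalar -/
theorem mem_scalars_of_su_le_centralizer (hF : Fintype.card F = q ^ 2) (hn : 3 ≤ n) (x : GL (Fin n) F)
    (h : SUg n F q ≤ Subgroup.centralizer {x}) : x ∈ scalars (Fin n) F := by
  obtain ⟨c, hc⟩ := (su_absIrr hF hn).2 (x : Matrix (Fin n) (Fin n) F) (by
    rintro _ ⟨g, hg, rfl⟩
    have h1 := h hg
    rw [Subgroup.mem_centralizer_iff] at h1
    have h2 := h1 x rfl
    have h3 := congrArg (fun g : GL (Fin n) F => (g : Matrix (Fin n) (Fin n) F)) h2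
    simpa only [Units.val_mul] using h3)
  exact Cfsg.Agent.Lib.Helper4.SLMLeaf.mem_scalars_of_smul_one x c hc

/-- P6. -/
theorem not_su_le_symplType (hF : Fintype.card F = q ^ 2) (hn : 3 ≤ n) (h32 : ¬ (n = 3 ∧ q = 2)) {r p : ℕ}
    {R : Subgroup (GL (Fin n) F)} (hR : IsSymplecticTypeGroup r R) (habs : ActsAbsolutelyIrreducibly (matrixSet R))
    (hsim : R ≤ similarityGroup (Cfsg.hermForm n F q)) (hrp : r ≠ p) (hchar : CharP F p) :
    ¬ SUg n F q ≤ subgroupNormalizer R := by
  intro hle
  have hf := herm_unitary (n := n) hF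
  have hnormR : ∀ g ∈ SUg n F q, ∀ x ∈ R, g * x * g⁻¹ ∈ R := by
    intro g hg x hx
    have := hle hg
    unfold subgroupNormalizer at this
    rw [Subgroup.mem_normalizer_iff] at this
    exact (this x).1 hx
  have hR1norm : ∀ g ∈ SUg n F q, ∀ x ∈ R ⊓ SUg n F q, g * x * g⁻¹ ∈ R ⊓ SUg n F q := by
    intro g hg x hx
    exact ⟨hnormR g hg x hx.1, Subgroup.mul_mem _ (Subgroup.mul_mem _ hg hx.2) (Subgroup.inv_mem _ hg)⟩
  rcases su_normal_sub hF hn h32 (R ⊓ SUg n F q) inf_le_right hR1norm with h1 | h1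
  · -- `SU ≤ R`: a transvection has order `p`
    have hSUR : SUg n F q ≤ R := by rw [← h1]; exact inf_le_left
    obtain ⟨v, hv0, hv⟩ := exists_isotropic (n := n) hF (by omega)
    obtain ⟨κ, hκ0, hκ⟩ := exists_skew hF
    obtain ⟨t, ht, htM⟩ := tv_mem hF hv hκ
    obtain ⟨k, hk⟩ := hR.pGroup ⟨t, hSUR ht⟩
    have hk' : (t : GL (Fin n) F) ^ (r ^ k) = 1 := by
      have := congrArg (fun y : R => (y : GL (Fin n) F)) hk
      simpa using this
    have hk'' : (t : Matrix (Fin n) (Fin n) F) ^ (r ^ k) = 1 := by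
      have := congrArg (fun y : GL (Fin n) F => (y : Matrix (Fin n) (Fin n) F)) hk'
      simpa using this
    obtain ⟨x, hx⟩ := (hf.nondegenerate v hv0).1
    have h2 := ut_pow_mulVec hF hv κ x (r ^ k)
    rw [← htM, hk'', Matrix.one_mulVec] at h2
    have h3 : (((r ^ k : ℕ) : F) * (κ * Cfsg.hermForm n F q x v)) • v = 0 := by
      have := h2.symm
      rwa [add_eq_left] at this
    rcases smul_eq_zero.mp h3 with h4 | h4
    · rcases mul_eq_zero.mp h4 with h5 | h5
      · haveI := hchar
        rw [CharP.cast_eq_zero_iff F p] at h5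
        have hp : p.Prime := by
          rcases CharP.char_is_prime_or_zero F p with hp | hp
          · exact hp
          · exfalso
            haveI : CharP F 0 := by rw [← hp]; exact hchar
            haveI : CharZero F := CharP.charP_to_charZero F
            exact not_finite F
        have h03 := hp.dvd_of_dvd_pow h5
        exact hrp ((Nat.prime_dvd_prime_iff_eq hp hR.prime).1 h03).symm
      · exact absurd h5 (mul_ne_zero hκ0 hx)
    · exact hv0 h4
  · -- `R ⊓ SU` is scalar: then `R` is scalar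
    have hRs : R ≤ scalars (Fin n) F := by
      intro x hx
      apply mem_scalars_of_su_le_centralizer hF hn
      apply Cfsg.Agent.Lib.Helper4.SLMLeaf.le_centralizer_of_comm_scalars (su_perfect hF hn h32)
      intro g hg
      apply h1
      constructor
      · have h2 := hnormR g hg x⁻¹ (R.inv_mem hx)
        have e : x * g * x⁻¹ * g⁻¹ = x * (g * x⁻¹ * g⁻¹) := by group
        rw [e]
        exact R.mul_mem hx h2
      · apply Subgroup.mul_mem _ _ (Subgroup.inv_mem _ hg)
        rw [mem_SUg_iff]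
        obtain ⟨hgiso, hgdet⟩ := (mem_SUg_iff g).1 hg
        obtain ⟨c, hc⟩ := hsim hx
        constructor
        · intro u w
          have hxx : (x : Matrix (Fin n) (Fin n) F) * ((x⁻¹ : GL (Fin n) F) : Matrix (Fin n) (Fin n) F) = 1 := by
            rw [← Units.val_mul, mul_inv_cancel, Units.val_one]
          rw [Units.val_mul, Units.val_mul, ← Matrix.mulVec_mulVec, ← Matrix.mulVec_mulVec, ← Matrix.mulVec_mulVec,
            ← Matrix.mulVec_mulVec, hc, hgiso, ← hc, Matrix.mulVec_mulVec, Matrix.mulVec_mulVec, hxx,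
            Matrix.one_mulVec, Matrix.one_mulVec]
        · rw [Units.val_mul, Units.val_mul, Matrix.det_mul, Matrix.det_mul, hgdet, mul_one, ← Matrix.det_mul,
            ← Units.val_mul, mul_inv_cancel, Units.val_one, Matrix.det_one]
    exact Cfsg.Agent.Lib.Helper4.SLMLeaf.not_irr_of_le_scalars (by omega) hRs habs.1

end Cfsg.Agent.Lib.Helper4.SUMLeaf
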