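import Cfsg.Agent.Lib.Helper4.SUMDefs
import Cfsg.Agent.Lib.Helper4.SUMT
import Cfsg.Agent.Lib.Helper4.SUMP3
import Cfsg.Agent.Lib.Helper4.SUMP6
import Cfsg.Agent.Lib.Helper1.SUMN4
import Cfsg.Agent.Lib.Helper1.SUMN5
import Cfsg.Agent.Lib.Helper1.SUMP5
import Cfsg.Agent.Lib.Helper26.SUMP4
import Cfsg.Agent.Lib.Helper26.SUMP7
import Cfsg.Agent.Lib.Helper23.SUMQ1
import Cfsg.Agent.Lib.Helper26.SUMP2
import Cfsg.Agent.Lib.Helper23.SUMQ2

/-!
# SU_n maximal subgroups (helper4): the refined theorem `uconcl_of_uasch` from Aschbacher's theorem S5663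
Plan: notes/SUnMax_plan.md
-/

set_option autoImplicit false
set_option linter.unusedSectionVars false
set_option linter.unusedVariables false
set_option linter.style.haveILetI false

open scoped commutatorElement

namespace Cfsg.Agent.Lib.Helper4.SUMMain

open Cfsg.Geo Matrix Module Cfsg.Agent.Lib.Helper4.SUM
open Cfsg.Agent.Lib.Helper4.SUMLeaf (mem_SUg_iff ut_mulVec tv_mem su_le_of_tv su_perfect su_normal_sub su_absIrr exists_isotropic exists_skew not_su_le_field not_su_le_symplType)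
open Cfsg.Agent.Lib.Helper1.SUMLeaf (uc6_three uc6_five uc6_seven uc6_eleven uc6_four uc6_le_GU not_su_le_subfield_odd not_su_le_subfield_orth not_su_le_subfield_symp)
open Cfsg.Agent.Lib.Helper26.SUMLeaf (not_su_le_tensor not_su_le_tensorWreath_two not_su_le_dec)
open Cfsg.Agent.Lib.Helper23.SUMLeaf (planes_two_u tensor_two_u)

variable {n : ℕ} {F : Type*} [Field F] [Fintype F] {q : ℕ}

/-- glue: a maximal `H ≤ X` with `SU ⊄ X` is `X ⊓ SU` -/
theorem eq_inf_of_maximal {H X : Subgroup (GL (Fin n) F)} (hH : IsMaximalIn (SUg n F q) H)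
    (hle : H ≤ X) (hX : ¬ SUg n F q ≤ X) : H = X ⊓ SUg n F q := by
  rcases hH.2 (X ⊓ SUg n F q) (le_inf hle hH.1.le) inf_le_right with h | h
  · exact h.symm
  · exfalso
    apply hX
    rw [← h]
    exact inf_le_left

/-- P1: `SU` stabilises no proper non-zero subspace -/
theorem not_su_le_subspace (hF : Fintype.card F = q ^ 2) (hn : 3 ≤ n) {W : Submodule F (Fin n → F)}
    (h0 : W ≠ ⊥) (h1 : W ≠ ⊤) : ¬ SUg n F q ≤ subspaceStabilizer W := by
  intro hle
  have hirr := (su_absIrr (n := n) (q := q) hF hn).1 W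
  have : W = ⊥ ∨ W = ⊤ := by
    apply hirr
    rintro s ⟨g, hg, rfl⟩
    rintro _ ⟨v, hv, rfl⟩
    have := hle hg
    exact (this v).1 hv
  rcases this with h | h
  · exact h0 h
  · exact h1 h

/-- the whole space is not totally singular -/
theorem ts_ne_top (hn : 1 ≤ n) {W : Submodule F (Fin n → F)}
    (hW : IsTotallySingularFor (Cfsg.hermForm n F q) W) : W ≠ ⊤ := by
  rintro rfl
  have h := hW (Pi.single ⟨0, by omega⟩ 1) trivial (Pi.single ⟨0, by omega⟩ 1) trivial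
  unfold Cfsg.hermForm at h
  rw [Finset.sum_eq_single ⟨0, by omega⟩] at h
  · simp at h
  · intro b _ hb
    simp [Pi.single_eq_of_ne hb]
  · intro h'
    exact absurd (Finset.mem_univ _) h'

theorem nd_ne_top {W : Submodule F (Fin n → F)} (h : 2 * finrank F W < n) : W ≠ ⊤ := by
  rintro rfl
  rw [finrank_top, Module.finrank_fin_fun] at h
  omega

theorem card_wreath {n m t : ℕ} (e : Fin n ≃ (Fin t → Fin m)) : n = m ^ t := by
  have := Fintype.card_congr e
  simpa only [Fintype.card_fin, Fintype.card_pi, Finset.prod_const, Finset.card_univ] using this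

theorem card_tensor {n n₁ n₂ : ℕ} (e : Fin n ≃ Fin n₁ × Fin n₂) : n = n₁ * n₂ := by
  have := Fintype.card_congr e
  simpa only [Fintype.card_fin, Fintype.card_prod] using this

/-- `m ^ t` with `m ≥ 3`, `t ≥ 2` below 27 has `t = 2` -/
theorem wreath_two {m t n : ℕ} (hm : 3 ≤ m) (ht : 2 ≤ t) (h : n = m ^ t) (hn : n < 27) : t = 2 := by
  by_contra hcon
  have h1 : 3 ^ 3 ≤ m ^ 3 := Nat.pow_le_pow_left hm 3
  have h2 : m ^ 3 ≤ m ^ t := Nat.pow_le_pow_right (by omega) (by omega)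
  omega

/-- properness of every good member -/
theorem not_su_le_of_good (hF : Fintype.card F = q ^ 2) (hn : 3 ≤ n) (hn27 : n < 27) (h32 : ¬ (n = 3 ∧ q = 2))
    {X : Subgroup (GL (Fin n) F)} (hX : UGood n F q X) : ¬ SUg n F q ≤ X := by
  rcases hX with ⟨W, h0, hW, rfl⟩ | ⟨W, h0, hW, hdim, rfl⟩ | ⟨t, k, D, hD, -, -, rfl⟩ | ⟨k, D, hk, hD, hts, -, rfl⟩ |
    ⟨F₀, r, P, hr, hodd, hc, hP, rfl⟩ | ⟨F₀, P, hq, hc, hP, -, rfl⟩ | ⟨F₀, P, ζ, he, hc, hζ0, hζ, hP, hiso, rfl⟩ |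
    ⟨r, R, p, e, k, hR, habs, hsim, hrp, hmin, hcase, -, rfl⟩ | ⟨r, K, hr, hodd, hK, hadj, -, -, -, rfl⟩ |
    ⟨n₁, n₂, e, P, f₁, f₂, h1, h2, hf₁, hf₂, hT, -, rfl⟩ | ⟨k, t, e, P, f₁, hk, ht, hne, hf₁, hT, rfl⟩
  · exact not_su_le_subspace hF hn h0 (ts_ne_top (by omega) hW)
  · exact not_su_le_subspace hF hn h0 (nd_ne_top hdim)
  · exact not_su_le_dec hF hn h32 hD.decomp
  · exact not_su_le_dec hF hn h32 hD
  · exact not_su_le_subfield_odd hF hn h32 F₀ hr hodd hc P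
  · exact not_su_le_subfield_orth hF hn h32 F₀ P hq hc hP
  · exact not_su_le_subfield_symp hF hn h32 F₀ P ζ hc hζ0 hζ hP hiso
  · exact not_su_le_symplType hF hn h32 hR habs hsim hrp hmin.2.1
  · exact not_su_le_field hF hn h32 hr hK
  · exact not_su_le_tensor hF (by omega) e P h1 (by omega)
  · have ht2 := wreath_two hk ht (card_wreath e) hn27
    subst ht2
    exact not_su_le_tensorWreath_two hF hn h32 e P (by omega)

/-- a maximal `H` inside a good `X` -/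
theorem uconcl_of_le_good (hF : Fintype.card F = q ^ 2) (hn : 3 ≤ n) (hn27 : n < 27) (h32 : ¬ (n = 3 ∧ q = 2))
    {H X : Subgroup (GL (Fin n) F)} (hH : IsMaximalIn (SUg n F q) H) (hX : UGood n F q X) (hle : H ≤ X) :
    UConcl n F q H :=
  Or.inl ⟨X, hX, eq_inf_of_maximal hH hle (not_su_le_of_good hF hn hn27 h32 hX)⟩

theorem two_le_q (hF : Fintype.card F = q ^ 2) : 2 ≤ q := by
  have h1 : 1 < Fintype.card F := Fintype.one_lt_card
  rw [hF] at h1
  by_contra hcon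
  have : q = 0 ∨ q = 1 := by omega
  rcases this with rfl | rfl <;> simp at h1

/-- the refined theorem, with the exceptional small cases (`n ≤ 6`) as hypotheses -/
theorem uconcl_of_uasch_gen (hF : Fintype.card F = q ^ 2) (hn : 3 ≤ n) (hn27 : n < 27) (h32 : ¬ (n = 3 ∧ q = 2))
    {H : Subgroup (GL (Fin n) F)} (hH : IsMaximalIn (SUg n F q) H)
    (hE1 : ((n = 3 ∧ q = 5) ∨ (n = 4 ∧ q = 3) ∨ (n = 6 ∧ q = 2)) → ∀ (t : ℕ) (D : Fin t → Submodule F (Fin n → F)),
      IsNondegenerateMDecomposition (Cfsg.hermForm n F q) 1 D → H ≤ decompositionStabilizer D → UConcl n F q H)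
    (hE2 : n = 4 → q < 4 → ∀ (k : ℕ) (D : Fin 2 → Submodule F (Fin n → F)), 2 * k = n → IsMDecomposition k D →
      (∀ i, IsTotallySingularFor (Cfsg.hermForm n F q) (D i)) → H ≤ decompositionStabilizer D → UConcl n F q H)
    (hE3 : ((n = 3 ∧ (q = 3 ∨ q = 5)) ∨ (n = 5 ∧ q = 2) ∨ (n = 6 ∧ q = 2)) →
      ∀ (r : ℕ) (K : Subalgebra F (Matrix (Fin n) (Fin n) F)), r.Prime → Odd r → IsFieldSubalgebra r K →
      IsAdjointClosedFor (Cfsg.hermForm n F q) K → H ≤ subalgebraNormalizer K → UConcl n F q H)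
    (hE4 : n = 3 → q < 7 → ∀ (F₀ : Subfield F) (P : GL (Fin n) F), Odd q → Fintype.card F = Nat.card F₀ ^ 2 →
      IsFormRationalStructure (Cfsg.hermForm n F q) F₀ 1 P → H ≤ subfieldSubgroup F₀ P → UConcl n F q H)
    (hE5 : n = 3 → q < 11 → ∀ (r : ℕ) (R : Subgroup (GL (Fin n) F)) (p e k : ℕ), IsSymplecticTypeGroup r R →
      ActsAbsolutelyIrreducibly (matrixSet R) → R ≤ similarityGroup (Cfsg.hermForm n F q) → r ≠ p →
      IsMinimalFieldFor (Nat.card (Subgroup.center R)) p e F →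
      ((Odd r ∧ Nat.card (Subgroup.center R) = r ∧ 1 ≤ k ∧ Nat.card R = r ^ (1 + 2 * k)) ∨
       (r = 2 ∧ e = 2 ∧ Nat.card (Subgroup.center R) = 4 ∧ Nat.card R = 2 ^ (2 + 2 * k))) →
      H ≤ subgroupNormalizer R → UConcl n F q H)
    (hA : UAsch n F q H) : UConcl n F q H := by
  have hq2 := two_le_q hF
  rcases hA with ⟨M, hM, hle⟩ | hres
  swap
  · exact Or.inr hres
  -- lines
  have hlines : ∀ (t : ℕ) (D : Fin t → Submodule F (Fin n → F)),
      IsNondegenerateMDecomposition (Cfsg.hermForm n F q) 1 D → H ≤ decompositionStabilizer D → UConcl n F q H := by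
    intro t D hD hle'
    by_cases hc : (n = 3 ∧ q = 5) ∨ (n = 4 ∧ q = 3) ∨ (n = 6 ∧ q = 2)
    · exact hE1 hc t D hD hle'
    · refine uconcl_of_le_good hF hn hn27 h32 hH (Or.inr (Or.inr (Or.inl ⟨t, 1, D, hD, ?_, ?_, rfl⟩))) hle'
      · intro _
        refine ⟨fun h => hc (Or.inl h), fun h => hc (Or.inr (Or.inl h)), fun h => hc (Or.inr (Or.inr h))⟩
      · intro h
        omega
  unfold InUnitaryClass InUnitaryPartialClass at hM
  dsimp only at hM
  rcases hM with (⟨W, h0, hW, rfl⟩ | ⟨W, h0, hW, hdim, rfl⟩ | ⟨t, k, D, hD, rfl⟩ | ⟨k, D, hk, hD, hts, rfl⟩ |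
    ⟨F₀, r, P, hr, hodd, hc, hP, rfl⟩ | ⟨F₀, P, hq, hc, hP, rfl⟩ | ⟨F₀, P, ζ, he, hc, hζ0, hζ, hP, hiso, rfl⟩ |
    ⟨r, R, p, e, k, hR, habs, hsim, hrp, hmin, hcase, rfl⟩) | ⟨r, K, hr, hodd, hK, hadj, rfl⟩ |
    ⟨n₁, n₂, e, P, f₁, f₂, h1, h2, hf₁, hf₂, hT, rfl⟩ | ⟨k, t, e, P, f₁, hk, ht, hne, hf₁, hT, rfl⟩
  · exact uconcl_of_le_good hF hn hn27 h32 hH (Or.inl ⟨W, h0, hW, rfl⟩) (hle.trans inf_le_left)
  · exact uconcl_of_le_good hF hn hn27 h32 hH (Or.inr (Or.inl ⟨W, h0, hW, hdim, rfl⟩)) (hle.trans inf_le_left)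
  · -- non-degenerate decompositions
    by_cases hk1 : k = 1
    · subst hk1
      exact hlines t D hD (hle.trans inf_le_left)
    · by_cases hk2 : k = 2 ∧ q = 2
      · obtain ⟨rfl, hq⟩ := hk2
        obtain ⟨t', D', hD', hle'⟩ := planes_two_u hF hq hD
        exact hlines t' D' hD' (hle.trans hle')
      · refine uconcl_of_le_good hF hn hn27 h32 hH (Or.inr (Or.inr (Or.inl ⟨t, k, D, hD, ?_, ?_, rfl⟩)))
          (hle.trans inf_le_left)
        · intro h
          exact absurd h hk1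
        · intro h
          by_contra hcon
          exact hk2 ⟨h, by omega⟩
  · -- two totally singular subspaces
    by_cases hc : n = 4 ∧ q < 4
    · exact hE2 hc.1 hc.2 k D hk hD hts (hle.trans inf_le_left)
    · refine uconcl_of_le_good hF hn hn27 h32 hH (Or.inr (Or.inr (Or.inr (Or.inl ⟨k, D, hk, hD, hts, ?_, rfl⟩))))
        (hle.trans inf_le_left)
      intro h
      by_contra hcon
      exact hc ⟨h, by omega⟩
  · exact uconcl_of_le_good hF hn hn27 h32 hH (Or.inr (Or.inr (Or.inr (Or.inr (Or.inl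
      ⟨F₀, r, P, hr, hodd, hc, hP, rfl⟩))))) (hle.trans inf_le_left)
  · by_cases hc' : n = 3 ∧ q < 7
    · exact hE4 hc'.1 hc'.2 F₀ P hq hc hP (hle.trans inf_le_left)
    · refine uconcl_of_le_good hF hn hn27 h32 hH (Or.inr (Or.inr (Or.inr (Or.inr (Or.inr (Or.inl
        ⟨F₀, P, hq, hc, hP, ?_, rfl⟩)))))) (hle.trans inf_le_left)
      intro h
      by_contra hcon
      exact hc' ⟨h, by omega⟩
  · exact uconcl_of_le_good hF hn hn27 h32 hH (Or.inr (Or.inr (Or.inr (Or.inr (Or.inr (Or.inr (Or.inl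
      ⟨F₀, P, ζ, he, hc, hζ0, hζ, hP, hiso, rfl⟩))))))) (hle.trans inf_le_left)
  · by_cases hc' : n = 3 ∧ q < 11
    · exact hE5 hc'.1 hc'.2 r R p e k hR habs hsim hrp hmin hcase (hle.trans inf_le_left)
    · refine uconcl_of_le_good hF hn hn27 h32 hH (Or.inr (Or.inr (Or.inr (Or.inr (Or.inr (Or.inr (Or.inr (Or.inl
        ⟨r, R, p, e, k, hR, habs, hsim, hrp, hmin, hcase, ?_, rfl⟩)))))))) (hle.trans inf_le_left)
      intro h
      by_contra hcon
      exact hc' ⟨h, by omega⟩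
  · by_cases hc' : (n = 3 ∧ (q = 3 ∨ q = 5)) ∨ (n = 5 ∧ q = 2) ∨ (n = 6 ∧ q = 2)
    · exact hE3 hc' r K hr hodd hK hadj (hle.trans inf_le_left)
    · refine uconcl_of_le_good hF hn hn27 h32 hH (Or.inr (Or.inr (Or.inr (Or.inr (Or.inr (Or.inr (Or.inr (Or.inr (Or.inl
        ⟨r, K, hr, hodd, hK, hadj, fun h => hc' (Or.inl h), fun h => hc' (Or.inr (Or.inl h)),
          fun h => hc' (Or.inr (Or.inr h)), rfl⟩))))))))) (hle.trans inf_le_left)
  · -- tensor products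
    by_cases h22 : n₁ = 2 ∧ q = 2
    · obtain ⟨hn1, hq⟩ := h22
      subst hn1
      obtain ⟨D', hD', hle'⟩ := tensor_two_u hF hq (by omega) e P f₁ f₂ hf₁ hf₂ hT
      refine uconcl_of_le_good hF hn hn27 h32 hH (Or.inr (Or.inr (Or.inl ⟨2, n₂, D', hD', ?_, ?_, rfl⟩)))
        (hle.trans hle')
      · intro h
        omega
      · intro h
        omega
    · refine uconcl_of_le_good hF hn hn27 h32 hH (Or.inr (Or.inr (Or.inr (Or.inr (Or.inr (Or.inr (Or.inr (Or.inr (Or.inr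
        (Or.inl ⟨n₁, n₂, e, P, f₁, f₂, h1, h2, hf₁, hf₂, hT, ?_, rfl⟩)))))))))) (hle.trans inf_le_left)
      intro h
      by_contra hcon
      exact h22 ⟨h, by omega⟩
  · exact uconcl_of_le_good hF hn hn27 h32 hH (Or.inr (Or.inr (Or.inr (Or.inr (Or.inr (Or.inr (Or.inr (Or.inr (Or.inr
      (Or.inr ⟨k, t, e, P, f₁, hk, ht, hne, hf₁, hT, rfl⟩)))))))))) (hle.trans inf_le_left)

/-- the refined theorem for `7 ≤ n < 27` -/
theorem uconcl_of_uasch (hF : Fintype.card F = q ^ 2) (hn : 7 ≤ n) (hn27 : n < 27) {H : Subgroup (GL (Fin n) F)}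
    (hH : IsMaximalIn (SUg n F q) H) (hA : UAsch n F q H) : UConcl n F q H :=
  uconcl_of_uasch_gen hF (by omega) hn27 (by omega) hH (fun h => by omega) (fun h => by omega) (fun h => by omega)
    (fun h => by omega) (fun h => by omega) hA

end Cfsg.Agent.Lib.Helper4.SUMMain
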