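import Cfsg.Agent.Lib.Helper4.SUMRows

set_option autoImplicit false
set_option linter.unusedSectionVars false
set_option linter.unusedVariables false

namespace Cfsg.Agent.Lib.Helper4.SUMRow11

open Cfsg Cfsg.Geo Matrix Module Cfsg.Agent.Lib.Helper4.SUM Cfsg.Agent.Lib.Helper4.SUMMain Cfsg.Agent.Lib.Helper4.SUMRows
open Cfsg.Agent.Lib.Helper4.SUMLeaf (mem_SUg_iff ut_mulVec tv_mem su_le_of_tv su_perfect su_normal_sub su_absIrr exists_isotropic exists_skew not_su_le_field not_su_le_symplType)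
open Cfsg.Agent.Lib.Helper1.SUMLeaf (uc6_three uc6_five uc6_seven uc6_eleven uc6_four uc6_le_GU not_su_le_subfield_odd not_su_le_subfield_orth not_su_le_subfield_symp)
open Cfsg.Agent.Lib.Helper26.SUMLeaf (not_su_le_tensor not_su_le_tensorWreath_two not_su_le_dec)
open Cfsg.Agent.Lib.Helper23.SUMLeaf (planes_two_u tensor_two_u)
open Cfsg.Agent.Lib.Helper27.SLMLeaf (field_dvd mdec_card)

theorem row11 {F : Type*} [Field F] [Fintype F] (q : ℕ) (h5663 : S5663At 11 F q) (hF : Fintype.card F = q ^ 2) (H : Subgroup (Matrix.GeneralLinearGroup (Fin 11) F)) (hH : Cfsg.Geo.IsMaximalIn (Cfsg.GU 11 F q ⊓ Cfsg.Geo.specialLinear (Fin 11) F) H) :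
    (∃ W : Submodule F (Fin 11 → F), W ≠ ⊥ ∧ Cfsg.Geo.IsTotallySingularFor (Cfsg.hermForm 11 F q) W ∧ H = Cfsg.Geo.subspaceStabilizer W ⊓ (Cfsg.GU 11 F q ⊓ Cfsg.Geo.specialLinear (Fin 11) F)) ∨
    (∃ W : Submodule F (Fin 11 → F), W ≠ ⊥ ∧ Cfsg.Geo.IsNondegenerateOn (Cfsg.hermForm 11 F q) W ∧ 2 * Module.finrank F W < 11 ∧ H = Cfsg.Geo.subspaceStabilizer W ⊓ (Cfsg.GU 11 F q ⊓ Cfsg.Geo.specialLinear (Fin 11) F)) ∨
    (∃ D : Fin 11 → Submodule F (Fin 11 → F), Cfsg.Geo.IsNondegenerateMDecomposition (Cfsg.hermForm 11 F q) 1 D ∧ H = Cfsg.Geo.decompositionStabilizer D ⊓ (Cfsg.GU 11 F q ⊓ Cfsg.Geo.specialLinear (Fin 11) F)) ∨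
    (∃ K : Subalgebra F (Matrix (Fin 11) (Fin 11) F), Cfsg.Geo.IsFieldSubalgebra 11 K ∧ Cfsg.Geo.IsAdjointClosedFor (Cfsg.hermForm 11 F q) K ∧ H = Cfsg.Geo.subalgebraNormalizer K ⊓ (Cfsg.GU 11 F q ⊓ Cfsg.Geo.specialLinear (Fin 11) F)) ∨
    (∃ (F₀ : Subfield F) (r : ℕ) (P : Matrix.GeneralLinearGroup (Fin 11) F), r.Prime ∧ Odd r ∧ Fintype.card F = Nat.card F₀ ^ r ∧ Cfsg.Geo.IsFormRationalStructure (Cfsg.hermForm 11 F q) F₀ 1 P ∧ H = Cfsg.Geo.subfieldSubgroup F₀ P ⊓ (Cfsg.GU 11 F q ⊓ Cfsg.Geo.specialLinear (Fin 11) F)) ∨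
    (Odd q ∧ ∃ (F₀ : Subfield F) (P : Matrix.GeneralLinearGroup (Fin 11) F), Fintype.card F = Nat.card F₀ ^ 2 ∧ Cfsg.Geo.IsFormRationalStructure (Cfsg.hermForm 11 F q) F₀ 1 P ∧ H = Cfsg.Geo.subfieldSubgroup F₀ P ⊓ (Cfsg.GU 11 F q ⊓ Cfsg.Geo.specialLinear (Fin 11) F)) ∨
    (∃ (p : ℕ) (R : Subgroup (Matrix.GeneralLinearGroup (Fin 11) F)), p.Prime ∧ CharP F p ∧ ((q = p ∧ p % 11 = 10) ∨ (q = p ^ 5 ∧ (p % 11 = 2 ∨ p % 11 = 6 ∨ p % 11 = 7 ∨ p % 11 = 8))) ∧ Cfsg.Geo.IsSymplecticTypeGroup 11 R ∧ Cfsg.Geo.ActsAbsolutelyIrreducibly (Cfsg.Geo.matrixSet R) ∧ R ≤ Cfsg.GU 11 F q ∧ Nat.card R = 1331 ∧ Nat.card (Subgroup.center R) = 11 ∧ H = Cfsg.Geo.subgroupNormalizer R ⊓ (Cfsg.GU 11 F q ⊓ Cfsg.Geo.specialLinear (Fin 11) F)) ∨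
    Cfsg.Geo.InUnitaryResidualClass H := by
  rcases uconcl hF (by norm_num) (by norm_num) h5663 hH with ⟨X, hX, rfl⟩ | hres
  swap
  · exact Or.inr (Or.inr (Or.inr (Or.inr (Or.inr (Or.inr (Or.inr (hres)))))))
  rcases hX with ⟨W, h0, hW, rfl⟩ | ⟨W, h0, hW, hdim, rfl⟩ | ⟨t, k, D, hD, hc1, hc2, rfl⟩ | ⟨k, D, hk, hD, hts, -, rfl⟩ |
    ⟨F₀, r, P, hr, hodd, hc, hP, rfl⟩ | ⟨F₀, P, hq, hc, hP, -, rfl⟩ | ⟨F₀, P, ζ, he, hc, hζ0, hζ, hP, hiso, rfl⟩ |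
    ⟨r, R, p, e, k, hR, habs, hsim, hrp, hmin, hcase, -, rfl⟩ | ⟨r, K, hr, hodd, hK, hadj, -, -, -, rfl⟩ |
    ⟨n₁, n₂, e, P, f₁, f₂, h1, h2, hf₁, hf₂, hT, hc, rfl⟩ | ⟨k, t, e, P, f₁, hk, ht, hne, hf₁, hT, rfl⟩
  · exact Or.inl ⟨W, h0, hW, rfl⟩
  · exact Or.inr (Or.inl ⟨W, h0, hW, hdim, rfl⟩)
  · have htm := mdec_card hD.decomp
    have ht2 := hD.decomp.two_le
    have hm0 := hD.decomp.pos
    have hcases : (t = 11 ∧ k = 1) := by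
      have ht : t ≤ 11 := by nlinarith
      interval_cases t <;> omega
    rcases hcases with ⟨rfl, rfl⟩
    exact Or.inr (Or.inr (Or.inl ⟨D, hD, rfl⟩))
  · omega
  · exact Or.inr (Or.inr (Or.inr (Or.inr (Or.inl ⟨F₀, r, P, hr, hodd, hc, hP, rfl⟩))))
  · exact Or.inr (Or.inr (Or.inr (Or.inr (Or.inr (Or.inl ⟨hq, F₀, P, hc, hP, rfl⟩)))))
  · exact absurd he (by decide)
  · have hpow := uc6_pow (by norm_num) hR habs hcase
    obtain ⟨rfl, rfl⟩ := pow_eq_prime_pow (p := 11) (a := 1) hR.prime (by norm_num) (by norm_num)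
      (by rw [← hpow]; norm_num)
    rcases hcase with ⟨hodd, hcen, -, hcard⟩ | ⟨h2, -⟩
    swap
    · omega
    rw [hcen] at hmin
    exact Or.inr (Or.inr (Or.inr (Or.inr (Or.inr (Or.inr (Or.inl ⟨p, R, hmin.1, hmin.2.1, uc6_eleven hF hmin, hR, habs, uc6_le_GU hF (by norm_num) hR hodd hsim hmin, by rw [hcard]; norm_num, hcen, rfl⟩))))))
  · have hdvd := field_dvd (by norm_num) hK
    have hcases : r = 11 := by
      have hle : r ≤ 11 := Nat.le_of_dvd (by norm_num) hdvd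
      interval_cases r <;> first | omega | (exfalso; revert hr hdvd hodd; decide)
    subst hcases
    exact Or.inr (Or.inr (Or.inr (Or.inl ⟨K, hK, hadj, rfl⟩)))
  · have hcard := card_tensor e
    exfalso
    have hn1 : n₁ ≤ 11 := by nlinarith
    interval_cases n₁ <;> omega
  · have hcard := card_wreath e
    obtain rfl := wreath_two hk ht hcard (by norm_num)
    exfalso
    have hk3 : k ≤ 3 := by nlinarith
    interval_cases k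
    omega

end Cfsg.Agent.Lib.Helper4.SUMRow11
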