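import Cfsg.Agent.Lib.Helper4.SUMMain
import Cfsg.Agent.Lib.Helper27.SLMN1
import Cfsg.Agent.Lib.Helper27.SLMN2
import Cfsg.Agent.Lib.Helper27.AschA7L2
import Cfsg.Agent.Lib.Helper12.AschBurnside
import Cfsg.Agent.Lib.Helper15.AschA7B
import Cfsg.Agent.Lib.Lead.SLMClassTwo
import Cfsg.Agent.Lib.Lead.SLMC6Pow

/-!
# SU_n maximal subgroups (helper4): glue with S5663 and the numerics used by the rows
-/

set_option autoImplicit false
set_option linter.unusedSectionVars false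
set_option linter.unusedVariables false
set_option linter.style.haveILetI false

open scoped commutatorElement

namespace Cfsg.Agent.Lib.Helper4.SUMRows

open Cfsg.Geo Matrix Module Cfsg.Agent.Lib.Helper4.SUM Cfsg.Agent.Lib.Helper4.SUMMain
open Cfsg.Agent.Lib.Helper4.SUMLeaf (mem_SUg_iff ut_mulVec tv_mem su_le_of_tv su_perfect su_normal_sub su_absIrr exists_isotropic exists_skew not_su_le_field not_su_le_symplType)
open Cfsg.Agent.Lib.Helper1.SUMLeaf (uc6_three uc6_five uc6_seven uc6_eleven uc6_four uc6_le_GU not_su_le_subfield_odd not_su_le_subfield_orth not_su_le_subfield_symp)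
open Cfsg.Agent.Lib.Helper26.SUMLeaf (not_su_le_tensor not_su_le_tensorWreath_two not_su_le_dec)
open Cfsg.Agent.Lib.Helper23.SUMLeaf (planes_two_u tensor_two_u)

variable {n : ℕ} {F : Type*} [Field F] [Fintype F] {q : ℕ}

theorem uasch_of_maximal (hF : Fintype.card F = q ^ 2) (hn : 3 ≤ n) (h32 : ¬ (n = 3 ∧ q = 2))
    (h5663 : S5663At n F q) {H : Subgroup (GL (Fin n) F)} (hH : IsMaximalIn (SUg n F q) H) : UAsch n F q H := by
  apply h5663 H hH.1.le
  intro hcon
  change H ⊔ (scalars (Fin n) F ⊓ SUg n F q) = SUg n F q at hcon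
  have hzc : ∀ z ∈ scalars (Fin n) F, ∀ y : GL (Fin n) F, z * y = y * z := by
    intro z hz y
    obtain ⟨c, hc⟩ := (mem_scalars_iff z).1 hz
    apply Units.ext
    rw [Units.val_mul, Units.val_mul, hc, Matrix.smul_mul, Matrix.mul_smul, Matrix.one_mul, Matrix.mul_one]
  haveI hZn : (scalars (Fin n) F ⊓ SUg n F q).Normal := by
    refine ⟨fun z hz g => ?_⟩
    have : g * z * g⁻¹ = z := by
      rw [← hzc z hz.1 g]
      group
    rw [this]
    exact hz
  have hmem : ∀ g ∈ SUg n F q, ∃ h ∈ H, ∃ z ∈ scalars (Fin n) F ⊓ SUg n F q, h * z = g := by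
    intro g hg
    rw [← hcon] at hg
    have : g ∈ ((H ⊔ (scalars (Fin n) F ⊓ SUg n F q) : Subgroup (GL (Fin n) F)) : Set (GL (Fin n) F)) := hg
    rw [Subgroup.mul_normal] at this
    obtain ⟨h, hh, z, hz, rfl⟩ := this
    exact ⟨h, hh, z, hz, rfl⟩
  have hcomm : ⁅SUg n F q, SUg n F q⁆ ≤ H := by
    rw [Subgroup.commutator_le]
    intro a ha b hb
    obtain ⟨h1, hh1, z1, hz1, rfl⟩ := hmem a ha
    obtain ⟨h2, hh2, z2, hz2, rfl⟩ := hmem b hb
    have : ⁅h1 * z1, h2 * z2⁆ = ⁅h1, h2⁆ := by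
      rw [commutatorElement_def, commutatorElement_def, _root_.mul_inv_rev, _root_.mul_inv_rev]
      have e1 := hzc z1 hz1.1
      have e2 := hzc z2 hz2.1
      have e1' : ∀ y : GL (Fin n) F, z1⁻¹ * y = y * z1⁻¹ := fun y => by
        calc z1⁻¹ * y = z1⁻¹ * y * z1⁻¹ * z1 := by group
          _ = z1 * (z1⁻¹ * y * z1⁻¹) := (e1 _).symm
          _ = y * z1⁻¹ := by group
      calc h1 * z1 * (h2 * z2) * (z1⁻¹ * h1⁻¹) * (z2⁻¹ * h2⁻¹)
          = h1 * (z1 * h2) * (z2 * z1⁻¹) * h1⁻¹ * (z2⁻¹ * h2⁻¹) := by group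
        _ = h1 * (h2 * z1) * (z1⁻¹ * z2) * h1⁻¹ * (z2⁻¹ * h2⁻¹) := by rw [e1 h2, e1' z2]
        _ = h1 * h2 * (z2 * h1⁻¹) * (z2⁻¹ * h2⁻¹) := by group
        _ = h1 * h2 * (h1⁻¹ * z2) * (z2⁻¹ * h2⁻¹) := by rw [e2 h1⁻¹]
        _ = h1 * h2 * h1⁻¹ * h2⁻¹ := by group
    rw [this]
    exact H.mul_mem (H.mul_mem (H.mul_mem hh1 hh2) (H.inv_mem hh1)) (H.inv_mem hh2)
  rw [su_perfect hF hn h32] at hcomm
  exact absurd hH.1 (not_lt_of_ge hcomm)

/-- `UConcl` for a maximal subgroup, `7 ≤ n < 27` -/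
theorem uconcl (hF : Fintype.card F = q ^ 2) (hn : 7 ≤ n) (hn27 : n < 27) (h5663 : S5663At n F q)
    {H : Subgroup (GL (Fin n) F)} (hH : IsMaximalIn (SUg n F q) H) : UConcl n F q H :=
  uconcl_of_uasch hF hn hn27 hH (uasch_of_maximal hF (by omega) (by omega) h5663 hH)

/-- `|R| = n² |Z(R)|` for an absolutely irreducible symplectic-type group with `|Z(R)| = exp R` -/
theorem uc6_card (hn : 3 ≤ n) {r : ℕ} {R : Subgroup (GL (Fin n) F)} (hR : IsSymplecticTypeGroup r R)
    (habs : ActsAbsolutelyIrreducibly (matrixSet R))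
    (hZ : Nat.card (Subgroup.center R) = Monoid.exponent R) :
    Nat.card R = n * n * Nat.card (Subgroup.center R) := by
  have habs' : Cfsg.Agent.Lib.Helper20.Asch.AbsIrr R := habs
  have hcl := Cfsg.Agent.Lib.Lead.SLMClassTwo.comm_mem_center hR.prime hR.pGroup hR.cyclic_of_characteristic hZ
  have hcomm : ⁅R, R⁆ ≤ scalars (Fin n) F := by
    rw [Subgroup.commutator_le]
    intro x hx y hy
    have h1 := hcl ⟨x, hx⟩ ⟨y, hy⟩
    have h2 := (Cfsg.Agent.Lib.Helper15.AschA7Leaf.mem_center_iff_scalar habs' _).mp h1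
    rw [commutatorElement_def]
    exact h2
  exact Cfsg.Agent.Lib.Helper27.AschA7Leaf.card_eq_sq_mul (by omega) habs'
    (Cfsg.Agent.Lib.Helper12.AschLeaf.burnside habs') hcomm

/-- the degree of a class-6 group: `n = r ^ k` -/
theorem uc6_pow (hn : 3 ≤ n) {r e k : ℕ} {R : Subgroup (GL (Fin n) F)} (hR : IsSymplecticTypeGroup r R)
    (habs : ActsAbsolutelyIrreducibly (matrixSet R))
    (hcase : (Odd r ∧ Nat.card (Subgroup.center R) = r ∧ 1 ≤ k ∧ Nat.card R = r ^ (1 + 2 * k)) ∨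
       (r = 2 ∧ e = 2 ∧ Nat.card (Subgroup.center R) = 4 ∧ Nat.card R = 2 ^ (2 + 2 * k))) : n = r ^ k := by
  have hexp := hR.exponent_eq
  rcases hcase with ⟨hodd, hcen, -, hcard⟩ | ⟨rfl, -, hcen, hcard⟩
  · have hg : Nat.gcd 2 r = 1 := Nat.coprime_two_left.mpr hodd
    have hZ : Nat.card (Subgroup.center R) = Monoid.exponent R := by
      rw [hexp, hg, mul_one, hcen]
    have h := uc6_card hn hR habs hZ
    rw [hcard, hcen] at h
    refine Cfsg.Agent.Lib.Lead.SLMLeaf.eq_pow_of_sq ?_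
    have hr0 : 0 < r := hR.prime.pos
    have : r ^ (1 + 2 * k) = r ^ (2 * k) * r := by rw [add_comm, pow_succ]
    rw [this] at h
    exact (Nat.eq_of_mul_eq_mul_right hr0 h).symm
  · have hZ : Nat.card (Subgroup.center R) = Monoid.exponent R := by
      rw [hexp, hcen]; rfl
    have h := uc6_card hn hR habs hZ
    rw [hcard, hcen] at h
    refine Cfsg.Agent.Lib.Lead.SLMLeaf.eq_pow_of_sq ?_
    have : 2 ^ (2 + 2 * k) = 2 ^ (2 * k) * 4 := by rw [add_comm, pow_add]; norm_num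
    rw [this] at h
    exact (Nat.eq_of_mul_eq_mul_right (by norm_num) h).symm

theorem prime_of_pow_eq {r k p a : ℕ} (hr : r.Prime) (hp : p.Prime) (ha : a ≠ 0) (h : p ^ a = r ^ k) : r = p := by
  have hk : k ≠ 0 := by
    rintro rfl
    rw [pow_zero] at h
    have := Nat.one_lt_pow ha hp.one_lt
    omega
  have : r ∣ p ^ a := by rw [h]; exact dvd_pow_self r hk
  exact (Nat.prime_dvd_prime_iff_eq hr hp).1 (hr.dvd_of_dvd_pow this)

theorem pow_eq_prime_pow {r k p a : ℕ} (hr : r.Prime) (hp : p.Prime) (ha : a ≠ 0) (h : p ^ a = r ^ k) :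
    r = p ∧ k = a := by
  have h1 := prime_of_pow_eq hr hp ha h
  subst h1
  exact ⟨rfl, (Nat.pow_right_injective hr.two_le h).symm⟩

/-- a prime power `r ^ k` is not `6`, `10`, `12` -/
theorem pow_ne_6 {r k : ℕ} (hr : r.Prime) : r ^ k ≠ 6 := by
  intro h
  have hk : k ≠ 0 := by rintro rfl; simp at h
  have hd : r ∣ 6 := by rw [← h]; exact dvd_pow_self r hk
  have hle : r ≤ 6 := Nat.le_of_dvd (by norm_num) hd
  have h2 : 2 ≤ r := hr.two_le
  have hk3 : k < 3 := by
    by_contra hcon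
    have : 2 ^ 3 ≤ r ^ k := le_trans (Nat.pow_le_pow_left h2 3) (Nat.pow_le_pow_right (by omega) (by omega))
    omega
  interval_cases r <;> interval_cases k <;> first | (exfalso; revert h; norm_num; done) | (exfalso; revert hr; norm_num; done)

theorem pow_ne_10 {r k : ℕ} (hr : r.Prime) : r ^ k ≠ 10 := by
  intro h
  have hk : k ≠ 0 := by rintro rfl; simp at h
  have hd : r ∣ 10 := by rw [← h]; exact dvd_pow_self r hk
  have hle : r ≤ 10 := Nat.le_of_dvd (by norm_num) hd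
  have h2 : 2 ≤ r := hr.two_le
  have hk4 : k < 4 := by
    by_contra hcon
    have : 2 ^ 4 ≤ r ^ k := le_trans (Nat.pow_le_pow_left h2 4) (Nat.pow_le_pow_right (by omega) (by omega))
    omega
  interval_cases r <;> interval_cases k <;> first | (exfalso; revert h; norm_num; done) | (exfalso; revert hr; norm_num; done)

theorem pow_ne_12 {r k : ℕ} (hr : r.Prime) : r ^ k ≠ 12 := by
  intro h
  have hk : k ≠ 0 := by rintro rfl; simp at h
  have hd : r ∣ 12 := by rw [← h]; exact dvd_pow_self r hk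
  have hle : r ≤ 12 := Nat.le_of_dvd (by norm_num) hd
  have h2 : 2 ≤ r := hr.two_le
  have hk4 : k < 4 := by
    by_contra hcon
    have : 2 ^ 4 ≤ r ^ k := le_trans (Nat.pow_le_pow_left h2 4) (Nat.pow_le_pow_right (by omega) (by omega))
    omega
  interval_cases r <;> interval_cases k <;> first | (exfalso; revert h; norm_num; done) | (exfalso; revert hr; norm_num; done)

end Cfsg.Agent.Lib.Helper4.SUMRows
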