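import Cfsg.Agent.Lib.Helper4.SUMRows

/-!
# SU_n maximal subgroups (helper4): the small dimensions n = 3, 4, 5, 6 (stage 2/3), common part
-/

set_option autoImplicit false
set_option linter.unusedSectionVars false
set_option linter.unusedVariables false
set_option linter.style.haveILetI false

namespace Cfsg.Agent.Lib.Helper4.SUMSmall

open Cfsg.Geo Matrix Module Cfsg.Agent.Lib.Helper4.SUM Cfsg.Agent.Lib.Helper4.SUMMain Cfsg.Agent.Lib.Helper4.SUMRows
open Cfsg.Agent.Lib.Helper4.SUMLeaf (mem_SUg_iff ut_mulVec tv_mem su_le_of_tv su_perfect su_normal_sub su_absIrr exists_isotropic exists_skew not_su_le_field not_su_le_symplType)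
open Cfsg.Agent.Lib.Helper1.SUMLeaf (uc6_three uc6_five uc6_seven uc6_eleven uc6_four uc6_le_GU not_su_le_subfield_odd not_su_le_subfield_orth not_su_le_subfield_symp)
open Cfsg.Agent.Lib.Helper26.SUMLeaf (not_su_le_tensor not_su_le_tensorWreath_two not_su_le_dec)
open Cfsg.Agent.Lib.Helper23.SUMLeaf (planes_two_u tensor_two_u)
open Cfsg.Agent.Lib.Helper27.SLMLeaf (field_dvd mdec_card)

variable {n : ℕ} {F : Type*} [Field F] [Fintype F] {q : ℕ}

/-- a maximal `H` inside a non-maximal member does not exist -/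
theorem uconcl_of_not_max {H X : Subgroup (GL (Fin n) F)} (hH : IsMaximalIn (SUg n F q) H) (hle : H ≤ X)
    (hX : ¬ SUg n F q ≤ X) (hnm : ¬ IsMaximalIn (SUg n F q) (X ⊓ SUg n F q)) : UConcl n F q H := by
  exfalso
  have := eq_inf_of_maximal hH hle hX
  rw [this] at hH
  exact hnm hH

end Cfsg.Agent.Lib.Helper4.SUMSmall
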