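import Cfsg.Agent.Lib.Helper4.SUMSmall
import Cfsg.Agent.Lib.Helper10.SU33Main
import Cfsg.Agent.Lib.Helper10.SU35Main
import Cfsg.Agent.Lib.Helper12.SU3Fr
import Cfsg.Agent.Lib.Helper23.SU3O5Main
import Cfsg.Agent.Lib.Helper8.SU3.LeafOrth3
import Cfsg.Agent.Lib.Helper1.SU3C6

/-!
# SU_n maximal subgroups (helper4): the small dimensions n = 3, 4, 5, 6 (stage 2/3), n = 3
-/

set_option autoImplicit false
set_option linter.unusedSectionVars false
set_option linter.unusedVariables false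
set_option linter.style.haveILetI false

namespace Cfsg.Agent.Lib.Helper4.SUMU3

open Cfsg.Geo Matrix Module Cfsg.Agent.Lib.Helper4.SUM Cfsg.Agent.Lib.Helper4.SUMMain Cfsg.Agent.Lib.Helper4.SUMRows
open Cfsg.Agent.Lib.Helper4.SUMLeaf (mem_SUg_iff ut_mulVec tv_mem su_le_of_tv su_perfect su_normal_sub su_absIrr exists_isotropic exists_skew not_su_le_field not_su_le_symplType)
open Cfsg.Agent.Lib.Helper1.SUMLeaf (uc6_three uc6_five uc6_seven uc6_eleven uc6_four uc6_le_GU not_su_le_subfield_odd not_su_le_subfield_orth not_su_le_subfield_symp)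
open Cfsg.Agent.Lib.Helper26.SUMLeaf (not_su_le_tensor not_su_le_tensorWreath_two not_su_le_dec)
open Cfsg.Agent.Lib.Helper23.SUMLeaf (planes_two_u tensor_two_u)
open Cfsg.Agent.Lib.Helper27.SLMLeaf (field_dvd mdec_card)
open Cfsg.Agent.Lib.Helper4.SUMSmall

variable {n : ℕ} {F : Type*} [Field F] [Fintype F] {q : ℕ}

/-- `UConcl` for `n = 3`, `q ≥ 3` -/
theorem uconcl3_of (hF : Fintype.card F = q ^ 2) (hq : 3 ≤ q) (h5663 : S5663At 3 F q)
    (hframe5 : q = 5 → ∀ D : Fin 3 → Submodule F (Fin 3 → F), IsNondegenerateMDecomposition (Cfsg.hermForm 3 F q) 1 D →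
      ¬ IsMaximalIn (SUg 3 F q) (decompositionStabilizer D ⊓ SUg 3 F q))
    (horth : (q = 3 ∨ q = 5) → ∀ (F₀ : Subfield F) (P : GL (Fin 3) F), Fintype.card F = Nat.card F₀ ^ 2 →
      IsFormRationalStructure (Cfsg.hermForm 3 F q) F₀ 1 P →
      ¬ IsMaximalIn (SUg 3 F q) (subfieldSubgroup F₀ P ⊓ SUg 3 F q))
    (hc6 : q = 5 → ∀ R : Subgroup (GL (Fin 3) F), IsSymplecticTypeGroup 3 R → ActsAbsolutelyIrreducibly (matrixSet R) →
      R ≤ similarityGroup (Cfsg.hermForm 3 F q) → Nat.card R = 27 → Nat.card (Subgroup.center R) = 3 →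
      ¬ IsMaximalIn (SUg 3 F q) (subgroupNormalizer R ⊓ SUg 3 F q))
    {H : Subgroup (GL (Fin 3) F)}
    (hH : IsMaximalIn (SUg 3 F q) H) : UConcl 3 F q H := by
  have h32 : ¬ ((3 : ℕ) = 3 ∧ q = 2) := by omega
  refine uconcl_of_uasch_gen hF (by norm_num) (by norm_num) h32 hH ?_ (fun h => by omega) ?_ ?_ ?_
    (uasch_of_maximal hF (by norm_num) h32 h5663 hH)
  · intro hc t D hD hle
    have hq5 : q = 5 := by omega
    have htm := mdec_card hD.decomp
    obtain rfl : t = 3 := by omega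
    exact uconcl_of_not_max hH hle (not_su_le_dec hF (by norm_num) h32 hD.decomp) (hframe5 hq5 D hD)
  · intro hc r K hr hodd hK hadj hle
    have hdvd := field_dvd (by norm_num) hK
    have hr3 : r = 3 := by
      have hle : r ≤ 3 := Nat.le_of_dvd (by norm_num) hdvd
      interval_cases r <;> first | omega | (exfalso; revert hr hdvd hodd; decide)
    subst hr3
    have hq35 : q = 3 ∨ q = 5 := by omega
    rcases hq35 with rfl | rfl
    · exact uconcl_of_not_max hH hle (not_su_le_field hF (by norm_num) h32 hr hK) (Cfsg.Agent.Lib.Helper10.SUMLeaf.su3_three_field_not_max hF hK hadj)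
    · exact uconcl_of_not_max hH hle (not_su_le_field hF (by norm_num) h32 hr hK) (Cfsg.Agent.Lib.Helper10.SUMLeaf.su3_five_field_not_max hF hK hadj)
  · intro _ hq7 F₀ P hodd hc hP hle
    have hq35 : q = 3 ∨ q = 5 := by
      obtain ⟨m, hm⟩ := hodd
      omega
    exact uconcl_of_not_max hH hle (not_su_le_subfield_orth hF (by norm_num) h32 F₀ P hodd hc hP)
      (horth hq35 F₀ P hc hP)
  · intro _ hq11 r R p e k hR habs hsim hrp hmin hcase hle
    have hpow := uc6_pow (by norm_num) hR habs hcase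
    obtain ⟨rfl, rfl⟩ := pow_eq_prime_pow (p := 3) (a := 1) hR.prime (by norm_num) (by norm_num)
      (by rw [← hpow]; norm_num)
    rcases hcase with ⟨-, hcen, -, hcard⟩ | ⟨h2, -⟩
    swap
    · omega
    rw [hcen] at hmin
    have h3 := uc6_three hF hmin
    have hp := hmin.1
    have hq5 : q = 5 := by
      obtain ⟨hqp, hmod⟩ := h3
      subst hqp
      interval_cases q <;> first | omega | (exfalso; revert hp; norm_num)
    exact uconcl_of_not_max hH hle (not_su_le_symplType hF (by norm_num) h32 hR habs hsim hrp hmin.2.1)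
      (hc6 hq5 R hR habs hsim (by rw [hcard]; norm_num) hcen)

/-- `UConcl` for `n = 3`, `q ≥ 3` -/
theorem uconcl3 (hF : Fintype.card F = q ^ 2) (hq : 3 ≤ q) (h5663 : S5663At 3 F q) {H : Subgroup (GL (Fin 3) F)}
    (hH : IsMaximalIn (SUg 3 F q) H) : UConcl 3 F q H := by
  refine uconcl3_of hF hq h5663 ?_ ?_ ?_ hH
  · intro hq5 D hD
    subst hq5
    exact Cfsg.Agent.Lib.Helper12.SUMLeaf.su3_five_frame_not_max hF D hD
  · intro hq35 F₀ P hc hP
    rcases hq35 with rfl | rfl
    · exact Cfsg.Agent.Lib.Helper8.SUMLeaf.su3_three_orth_not_max hF F₀ P hc hP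
    · exact Cfsg.Agent.Lib.Helper23.SUMLeaf.su3_five_orth_not_max hF F₀ P hc hP
  · intro hq5 R hR habs hsim hcard hcen
    subst hq5
    exact Cfsg.Agent.Lib.Helper1.SUMLeaf.su3_five_c6_not_max hF hR habs hsim hcard hcen

end Cfsg.Agent.Lib.Helper4.SUMU3
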