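import Cfsg.Agent.Lib.Helper4.SUMSmall
import Cfsg.Agent.Lib.Helper7.SUM2Tspair
import Cfsg.Agent.Lib.Helper22.SUM2Frame

/-!
# SU_n maximal subgroups (helper4): the small dimensions n = 3, 4, 5, 6 (stage 2/3), n = 4
-/

set_option autoImplicit false
set_option linter.unusedSectionVars false
set_option linter.unusedVariables false
set_option linter.style.haveILetI false

namespace Cfsg.Agent.Lib.Helper4.SUMU4

open Cfsg.Geo Matrix Module Cfsg.Agent.Lib.Helper4.SUM Cfsg.Agent.Lib.Helper4.SUMMain Cfsg.Agent.Lib.Helper4.SUMRows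
open Cfsg.Agent.Lib.Helper4.SUMLeaf (mem_SUg_iff ut_mulVec tv_mem su_le_of_tv su_perfect su_normal_sub su_absIrr exists_isotropic exists_skew not_su_le_field not_su_le_symplType)
open Cfsg.Agent.Lib.Helper1.SUMLeaf (uc6_three uc6_five uc6_seven uc6_eleven uc6_four uc6_le_GU not_su_le_subfield_odd not_su_le_subfield_orth not_su_le_subfield_symp)
open Cfsg.Agent.Lib.Helper26.SUMLeaf (not_su_le_tensor not_su_le_tensorWreath_two not_su_le_dec)
open Cfsg.Agent.Lib.Helper23.SUMLeaf (planes_two_u tensor_two_u)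
open Cfsg.Agent.Lib.Helper27.SLMLeaf (field_dvd mdec_card)
open Cfsg.Agent.Lib.Helper4.SUMSmall

variable {n : ℕ} {F : Type*} [Field F] [Fintype F] {q : ℕ}

/-- `UConcl` for `n = 4` -/
theorem uconcl4_of (hF : Fintype.card F = q ^ 2) (h5663 : S5663At 4 F q)
    (hframe : q = 3 → ∀ D : Fin 4 → Submodule F (Fin 4 → F), IsNondegenerateMDecomposition (Cfsg.hermForm 4 F q) 1 D →
      ¬ IsMaximalIn (SUg 4 F q) (decompositionStabilizer D ⊓ SUg 4 F q)) {H : Subgroup (GL (Fin 4) F)}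
    (hH : IsMaximalIn (SUg 4 F q) H) : UConcl 4 F q H := by
  have h32 : ¬ ((4 : ℕ) = 3 ∧ q = 2) := by omega
  have hq2 := two_le_q hF
  refine uconcl_of_uasch_gen hF (by norm_num) (by norm_num) h32 hH ?_ ?_ (fun h => by omega) (fun h => by omega)
    (fun h => by omega) (uasch_of_maximal hF (by norm_num) h32 h5663 hH)
  · intro hc t D hD hle
    have hq3 : q = 3 := by omega
    have htm := mdec_card hD.decomp
    obtain rfl : t = 4 := by omega
    exact uconcl_of_not_max hH hle (not_su_le_dec hF (by norm_num) h32 hD.decomp) (hframe hq3 D hD)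
  · intro _ hq4 k D hk hD hts hle
    have hq23 : q = 2 ∨ q = 3 := by omega
    obtain rfl : k = 2 := by omega
    rcases hq23 with rfl | rfl
    · obtain ⟨F₀, P, ζ, hc', hζ0, hζ, hP, hiso, hle'⟩ := Cfsg.Agent.Lib.Helper7.SUMLeaf.su4_two_tspair_le_symp hF D hD hts
      exact uconcl_of_le_good hF (by norm_num) (by norm_num) h32 hH (Or.inr (Or.inr (Or.inr (Or.inr (Or.inr (Or.inr (Or.inl
        ⟨F₀, P, ζ, by decide, hc', hζ0, hζ, hP, hiso, rfl⟩))))))) ((le_inf hle hH.1.le).trans hle')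
    · obtain ⟨F₀, P, ζ, hc', hζ0, hζ, hP, hiso, hle'⟩ := Cfsg.Agent.Lib.Helper7.SUMLeaf.su4_three_tspair_le_symp hF D hD hts
      exact uconcl_of_le_good hF (by norm_num) (by norm_num) h32 hH (Or.inr (Or.inr (Or.inr (Or.inr (Or.inr (Or.inr (Or.inl
        ⟨F₀, P, ζ, by decide, hc', hζ0, hζ, hP, hiso, rfl⟩))))))) ((le_inf hle hH.1.le).trans hle')

/-- `UConcl` for `n = 4` -/
theorem uconcl4 (hF : Fintype.card F = q ^ 2) (h5663 : S5663At 4 F q) {H : Subgroup (GL (Fin 4) F)}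
    (hH : IsMaximalIn (SUg 4 F q) H) : UConcl 4 F q H := by
  refine uconcl4_of hF h5663 ?_ hH
  intro hq D hD
  subst hq
  exact Cfsg.Agent.Lib.Helper22.SUMLeaf.su4_three_frame_not_max hF D hD

end Cfsg.Agent.Lib.Helper4.SUMU4
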