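import Cfsg.Agent.Lib.Helper4.SUMSmall
import Cfsg.Agent.Lib.Helper10.SU5Main

/-!
# SU_n maximal subgroups (helper4): the small dimensions n = 3, 4, 5, 6 (stage 2/3), n = 5
-/

set_option autoImplicit false
set_option linter.unusedSectionVars false
set_option linter.unusedVariables false
set_option linter.style.haveILetI false

namespace Cfsg.Agent.Lib.Helper4.SUMU5

open Cfsg.Geo Matrix Module Cfsg.Agent.Lib.Helper4.SUM Cfsg.Agent.Lib.Helper4.SUMMain Cfsg.Agent.Lib.Helper4.SUMRows
open Cfsg.Agent.Lib.Helper4.SUMLeaf (mem_SUg_iff ut_mulVec tv_mem su_le_of_tv su_perfect su_normal_sub su_absIrr exists_isotropic exists_skew not_su_le_field not_su_le_symplType)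
open Cfsg.Agent.Lib.Helper1.SUMLeaf (uc6_three uc6_five uc6_seven uc6_eleven uc6_four uc6_le_GU not_su_le_subfield_odd not_su_le_subfield_orth not_su_le_subfield_symp)
open Cfsg.Agent.Lib.Helper26.SUMLeaf (not_su_le_tensor not_su_le_tensorWreath_two not_su_le_dec)
open Cfsg.Agent.Lib.Helper23.SUMLeaf (planes_two_u tensor_two_u)
open Cfsg.Agent.Lib.Helper27.SLMLeaf (field_dvd mdec_card)
open Cfsg.Agent.Lib.Helper4.SUMSmall

variable {n : ℕ} {F : Type*} [Field F] [Fintype F] {q : ℕ}

/-- `UConcl` for `n = 5` -/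
theorem uconcl5 (hF : Fintype.card F = q ^ 2) (h5663 : S5663At 5 F q) {H : Subgroup (GL (Fin 5) F)}
    (hH : IsMaximalIn (SUg 5 F q) H) : UConcl 5 F q H := by
  have h32 : ¬ ((5 : ℕ) = 3 ∧ q = 2) := by omega
  refine uconcl_of_uasch_gen hF (by norm_num) (by norm_num) h32 hH (fun h => by omega) (fun h => by omega) ?_
    (fun h => by omega) (fun h => by omega) (uasch_of_maximal hF (by norm_num) h32 h5663 hH)
  intro hc r K hr hodd hK hadj hle
  obtain rfl : q = 2 := by omega
  have hdvd := field_dvd (by norm_num) hK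
  have hr5 : r = 5 := by
    have hle : r ≤ 5 := Nat.le_of_dvd (by norm_num) hdvd
    interval_cases r <;> first | omega | (exfalso; revert hr hdvd hodd; decide)
  subst hr5
  exact uconcl_of_not_max hH hle (not_su_le_field hF (by norm_num) h32 hr hK) (Cfsg.Agent.Lib.Helper10.SUMLeaf.su5_two_field_not_max hF hK hadj)

end Cfsg.Agent.Lib.Helper4.SUMU5
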