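import Cfsg.Agent.Lib.Helper4.SUMSmall
import Cfsg.Agent.Lib.Helper10.SU6Q2
import Cfsg.Agent.Lib.Helper4.SU6FMain

/-!
# SU_n maximal subgroups (helper4): the small dimensions n = 3, 4, 5, 6 (stage 2/3), n = 6
-/

set_option autoImplicit false
set_option linter.unusedSectionVars false
set_option linter.unusedVariables false
set_option linter.style.haveILetI false

namespace Cfsg.Agent.Lib.Helper4.SUMU6

open Cfsg.Geo Matrix Module Cfsg.Agent.Lib.Helper4.SUM Cfsg.Agent.Lib.Helper4.SUMMain Cfsg.Agent.Lib.Helper4.SUMRows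
open Cfsg.Agent.Lib.Helper4.SUMLeaf (mem_SUg_iff ut_mulVec tv_mem su_le_of_tv su_perfect su_normal_sub su_absIrr exists_isotropic exists_skew not_su_le_field not_su_le_symplType)
open Cfsg.Agent.Lib.Helper1.SUMLeaf (uc6_three uc6_five uc6_seven uc6_eleven uc6_four uc6_le_GU not_su_le_subfield_odd not_su_le_subfield_orth not_su_le_subfield_symp)
open Cfsg.Agent.Lib.Helper26.SUMLeaf (not_su_le_tensor not_su_le_tensorWreath_two not_su_le_dec)
open Cfsg.Agent.Lib.Helper23.SUMLeaf (planes_two_u tensor_two_u)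
open Cfsg.Agent.Lib.Helper27.SLMLeaf (field_dvd mdec_card)
open Cfsg.Agent.Lib.Helper4.SUMSmall

variable {n : ℕ} {F : Type*} [Field F] [Fintype F] {q : ℕ}

/-- `UConcl` for `n = 6` -/
theorem uconcl6 (hF : Fintype.card F = q ^ 2) (h5663 : S5663At 6 F q) {H : Subgroup (GL (Fin 6) F)}
    (hH : IsMaximalIn (SUg 6 F q) H) : UConcl 6 F q H := by
  have h32 : ¬ ((6 : ℕ) = 3 ∧ q = 2) := by omega
  refine uconcl_of_uasch_gen hF (by norm_num) (by norm_num) h32 hH ?_ (fun h => by omega) ?_ (fun h => by omega)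
    (fun h => by omega) (uasch_of_maximal hF (by norm_num) h32 h5663 hH)
  · intro hc t D hD hle
    obtain rfl : q = 2 := by omega
    have htm := mdec_card hD.decomp
    obtain rfl : t = 6 := by omega
    exact uconcl_of_not_max hH hle (not_su_le_dec hF (by norm_num) h32 hD.decomp)
      (Cfsg.Agent.Lib.Helper10.SUMLeaf.su6_two_frame_not_max hF D hD)
  · intro hc r K hr hodd hK hadj hle
    obtain rfl : q = 2 := by omega
    have hdvd := field_dvd (by norm_num) hK
    have hr3 : r = 3 := by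
      have hle : r ≤ 6 := Nat.le_of_dvd (by norm_num) hdvd
      interval_cases r <;> first | omega | (exfalso; revert hr hdvd hodd; decide)
    subst hr3
    obtain ⟨F₀, P, ζ, hc', hζ0, hζ, hP, hiso, hle'⟩ := Cfsg.Agent.Lib.Helper4.SUMLeaf.su6_two_field_le_symp hF hK hadj
    exact uconcl_of_le_good hF (by norm_num) (by norm_num) h32 hH (Or.inr (Or.inr (Or.inr (Or.inr (Or.inr (Or.inr (Or.inl
      ⟨F₀, P, ζ, by decide, hc', hζ0, hζ, hP, hiso, rfl⟩))))))) ((le_inf hle hH.1.le).trans hle')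

end Cfsg.Agent.Lib.Helper4.SUMU6
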