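/-
helper4: S2281, Siegel skeleton, Lemma C (odd characteristic, n ≥ 3).
No element `fromBlocks (1 + (A-1)^2) K 0 c'` of the Siegel parabolic of Sp_2n (so `c' * cᵀ = 1`)
commutes with a regular unipotent `fromBlocks A B 0 A'` (`A' * Aᵀ = 1`) of that parabolic.
See notes/S2281_siegel_odd_helper4.md.
-/
import Mathlib
import Cfsg.Agent.Lib.Helper26.RegSpC

set_option autoImplicit false

namespace Cfsg.Agent.Lib.Helper4.Siegel

open Matrix

variable {F : Type*} [Field F] {n : ℕ}

/-- the pure ring-theoretic core: `N` nilpotent, `R` arbitrary, `Nt` plays the role of `Nᵀ`. -/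
theorem lemmaC_core (h2 : (2 : F) ≠ 0) (N R Nt : Matrix (Fin n) (Fin n) F)
    (hN : N ^ n = 0)
    (hb : (1 + N) * R * (1 + Nt) = R)
    (hc : (1 + N * N) * R * (1 + Nt * Nt) = R) :
    N * N * R = 0 := by
  -- A R Nt = - N R
  have h1 : (1 + N) * R * Nt = -(N * R) := by
    have e : (1 + N) * R * (1 + Nt) = (1 + N) * R + (1 + N) * R * Nt := by
      rw [Matrix.mul_add, Matrix.mul_one]
    rw [e] at hb
    have : (1 + N) * R * Nt = R - (1 + N) * R := by
      rw [eq_sub_iff_add_eq, add_comm]; exact hb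
    rw [this, Matrix.add_mul, Matrix.one_mul]; abel
  -- A A R Nt Nt = N N R
  have h2' : (1 + N) * (1 + N) * R * Nt * Nt = N * N * R := by
    have e1 : (1 + N) * (1 + N) * R * Nt * Nt = (1 + N) * ((1 + N) * R * Nt) * Nt := by
      simp only [Matrix.mul_assoc]
    rw [e1, h1]
    have e2 : (1 + N) * -(N * R) * Nt = -(N * ((1 + N) * R * Nt)) := by
      have cm : (1 + N) * N = N * (1 + N) := by
        rw [Matrix.add_mul, Matrix.mul_add, Matrix.one_mul, Matrix.mul_one]
      rw [Matrix.mul_neg, Matrix.neg_mul, ← Matrix.mul_assoc, cm]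
      simp only [Matrix.mul_assoc]
    rw [e2, h1, Matrix.mul_neg, neg_neg, Matrix.mul_assoc]
  -- A A R = c (A A + N N) R
  have h3 : (1 + N) * (1 + N) * R = (1 + N * N) * ((1 + N) * (1 + N) + N * N) * R := by
    have cm : (1 + N) * (1 + N) * (1 + N * N) = (1 + N * N) * ((1 + N) * (1 + N)) := by
      noncomm_ring
    have aux : ∀ AA cc NN : Matrix (Fin n) (Fin n) F, AA * cc = cc * AA →
        AA * R * Nt * Nt = NN * R → cc * R * (1 + Nt * Nt) = R →
        AA * R = cc * (AA + NN) * R := by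
      intro AA cc NN cm h hc
      have e : cc * (AA + NN) * R = cc * (AA * R) + cc * (AA * R * Nt * Nt) := by
        rw [h, Matrix.mul_assoc, Matrix.add_mul, Matrix.mul_add]
      rw [e]
      conv_lhs => rw [← hc]
      rw [Matrix.mul_add (cc * R), Matrix.mul_one, Matrix.mul_add]
      congr 1
      · rw [← Matrix.mul_assoc, cm, Matrix.mul_assoc]
      · calc AA * (cc * R * (Nt * Nt)) = (AA * cc) * R * Nt * Nt := by
              simp only [Matrix.mul_assoc]
          _ = cc * AA * R * Nt * Nt := by rw [cm]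
          _ = cc * (AA * R * Nt * Nt) := by simp only [Matrix.mul_assoc]
    exact aux _ _ _ cm h2' hc
  -- 2 N^2 (1 + N + N^2) R = 0
  have h4 : ((1 + N * N) * ((1 + N) * (1 + N) + N * N) - (1 + N) * (1 + N)) * R = 0 := by
    rw [Matrix.sub_mul, ← h3, sub_self]
  have h5 : (1 + N * N) * ((1 + N) * (1 + N) + N * N) - (1 + N) * (1 + N)
      = (2 : F) • (N * N * (1 + N + N * N)) := by
    rw [two_smul]; noncomm_ring
  rw [h5, Matrix.smul_mul] at h4
  have h6 : N * N * (1 + N + N * N) * R = 0 := by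
    rcases smul_eq_zero.1 h4 with h | h
    · exact absurd h h2
    · exact h
  -- V = T V with T = -(N (1+N))
  set V := N * N * R with hV
  have h7 : V = (-(N * (1 + N))) * V := by
    have : N * N * (1 + N + N * N) * R = V + N * (1 + N) * V := by
      rw [hV]; simp only [Matrix.mul_assoc, Matrix.mul_add, Matrix.add_mul, Matrix.mul_one,
        Matrix.one_mul]; abel
    rw [this] at h6
    rw [Matrix.neg_mul]
    exact eq_neg_of_add_eq_zero_left h6
  have h8 : ∀ m : ℕ, V = (-(N * (1 + N))) ^ m * V := by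
    intro m
    induction m with
    | zero => rw [pow_zero, Matrix.one_mul]
    | succ m ih => rw [pow_succ, Matrix.mul_assoc, ← h7]; exact ih
  have h9 : (-(N * (1 + N))) ^ n = 0 := by
    have cm : Commute N (1 + N) := (Commute.one_right N).add_right (Commute.refl N)
    rw [neg_pow, cm.mul_pow, hN, Matrix.zero_mul, mul_zero]
  rw [h8 n, h9, Matrix.zero_mul]

/-- **Lemma C**. -/
theorem lemmaC (h2 : (2 : F) ≠ 0) (hn : 3 ≤ n)
    (A B A' K c' : Matrix (Fin n) (Fin n) F)
    (hAA' : A' * Aᵀ = 1)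
    (hN : (A - 1) ^ n = 0) (hN' : (A' - 1) ^ n = 0)
    (hreg : (fromBlocks A B 0 A' - 1) ^ (2 * n - 1) ≠ 0)
    (hcc' : c' * (1 + (A - 1) ^ 2)ᵀ = 1)
    (hcomm : fromBlocks (1 + (A - 1) ^ 2) K 0 c' * fromBlocks A B 0 A'
      = fromBlocks A B 0 A' * fromBlocks (1 + (A - 1) ^ 2) K 0 c') : False := by
  obtain ⟨N, rfl⟩ : ∃ N, A = 1 + N := ⟨A - 1, by abel⟩
  have hN1 : (1 + N : Matrix (Fin n) (Fin n) F) - 1 = N := by abel
  rw [hN1] at hN hcc' hcomm
  set U := fromBlocks (1 + N) B 0 A' with hU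
  set C := fromBlocks (1 + N ^ 2) K 0 c' with hC
  have hsub : U - 1 = fromBlocks N B 0 (A' - 1) := by
    rw [hU, ← fromBlocks_one, sub_eq_add_neg, fromBlocks_neg, fromBlocks_add, neg_zero, add_zero,
      add_zero, ← sub_eq_add_neg, ← sub_eq_add_neg, hN1]
  set R := ∑ i ∈ Finset.range n, N ^ i * B * (A' - 1) ^ (n - 1 - i) with hR
  have hDn : (U - 1) ^ n = fromBlocks 0 R 0 0 := by
    rw [hsub, Cfsg.Agent.Lib.Helper26.RegSp.fromBlocks_upper_pow, hN, hN']
  -- regularity
  have hNR : N ^ (n - 1) * R ≠ 0 := by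
    intro h0
    apply hreg
    have e : 2 * n - 1 = (n - 1) + n := by omega
    rw [e, pow_add, hDn, hsub, Cfsg.Agent.Lib.Helper26.RegSp.fromBlocks_upper_pow,
      fromBlocks_multiply]
    simp only [Matrix.mul_zero, Matrix.zero_mul, add_zero, h0]
    exact fromBlocks_zero
  -- U commutes with (U-1)^n
  have hUc : U * (U - 1) ^ n = (U - 1) ^ n * U :=
    (((Commute.refl U).sub_right (Commute.one_right U)).pow_right n).eq
  have hAR : (1 + N) * R = R * A' := by
    rw [hDn, hU, fromBlocks_multiply, fromBlocks_multiply] at hUc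
    have := congrArg Matrix.toBlocks₁₂ hUc
    simpa using this
  have hCc : C * (U - 1) ^ n = (U - 1) ^ n * C := by
    have : Commute C U := hcomm
    exact ((this.sub_right (Commute.one_right C)).pow_right n).eq
  have hcR : (1 + N ^ 2) * R = R * c' := by
    rw [hDn, hC, fromBlocks_multiply, fromBlocks_multiply] at hCc
    have := congrArg Matrix.toBlocks₁₂ hCc
    simpa using this
  have hb : (1 + N) * R * (1 + Nᵀ) = R := by
    have : (1 + N : Matrix (Fin n) (Fin n) F)ᵀ = 1 + Nᵀ := by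
      rw [Matrix.transpose_add, Matrix.transpose_one]
    rw [hAR, ← this, Matrix.mul_assoc, hAA', Matrix.mul_one]
  have hc : (1 + N * N) * R * (1 + Nᵀ * Nᵀ) = R := by
    have : (1 + N ^ 2 : Matrix (Fin n) (Fin n) F)ᵀ = 1 + Nᵀ * Nᵀ := by
      rw [Matrix.transpose_add, Matrix.transpose_one, pow_two, Matrix.transpose_mul]
    rw [← pow_two, hcR, ← this, Matrix.mul_assoc, hcc', Matrix.mul_one]
  have hV := lemmaC_core h2 N R Nᵀ hN hb hc
  apply hNR
  have e : n - 1 = (n - 3) + 2 := by omega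
  rw [e, pow_add, pow_two, Matrix.mul_assoc, hV, Matrix.mul_zero]

end Cfsg.Agent.Lib.Helper4.Siegel
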