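import Mathlib

namespace Cfsg.Agent.H4Sour

open Matrix

variable {F : Type*} [Field F]

/-- `Good X A`: `A` is a product of two `GL`-conjugates of `X`. -/
def Good (X A : Matrix (Fin 3) (Fin 3) F) : Prop :=
  ∃ B C U V : Matrix (Fin 3) (Fin 3) F, IsUnit U.det ∧ IsUnit V.det ∧ A = B * C ∧
    B * U = U * X ∧ C * V = V * X

theorem Good.conj {X A N P : Matrix (Fin 3) (Fin 3) F} (hP : IsUnit P.det) (h : A * P = P * N)
    (hN : Good X N) : Good X A := by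
  obtain ⟨B, C, U, V, hU, hV, hN, hB, hC⟩ := hN
  have hA : A = P * N * P⁻¹ := by
    rw [← h, Matrix.mul_assoc, Matrix.mul_nonsing_inv _ hP, Matrix.mul_one]
  refine ⟨P * B * P⁻¹, P * C * P⁻¹, P * U, P * V, ?_, ?_, ?_, ?_, ?_⟩
  · rw [det_mul]; exact hP.mul hU
  · rw [det_mul]; exact hP.mul hV
  · rw [hA, hN]
    simp only [Matrix.mul_assoc]
    rw [Matrix.nonsing_inv_mul_cancel_left _ _ hP]
  · simp only [Matrix.mul_assoc]
    rw [Matrix.nonsing_inv_mul_cancel_left _ _ hP, hB]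
  · simp only [Matrix.mul_assoc]
    rw [Matrix.nonsing_inv_mul_cancel_left _ _ hP, hC]

/-- lower triangular with distinct diagonal entries is diagonalisable -/
theorem lower_conj (d1 d2 d3 x y z : F) (h12 : d1 ≠ d2) (h13 : d1 ≠ d3) (h23 : d2 ≠ d3) :
    ∃ R : Matrix (Fin 3) (Fin 3) F, IsUnit R.det ∧
      !![d1, 0, 0; x, d2, 0; y, z, d3] * R = R * !![d1, 0, 0; 0, d2, 0; 0, 0, d3] := by
  have e12 : d1 - d2 ≠ 0 := sub_ne_zero.mpr h12
  have e13 : d1 - d3 ≠ 0 := sub_ne_zero.mpr h13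
  have e23 : d2 - d3 ≠ 0 := sub_ne_zero.mpr h23
  refine ⟨!![1, 0, 0; x / (d1 - d2), 1, 0; (y + z * (x / (d1 - d2))) / (d1 - d3), z / (d2 - d3), 1],
    ?_, ?_⟩
  · simp [Matrix.det_fin_three]
  · ext i j
    fin_cases i <;> fin_cases j <;> simp [Matrix.mul_apply, Fin.sum_univ_three] <;> field_simp <;> ring

theorem upper_conj (d1 d2 d3 x y z : F) (h12 : d1 ≠ d2) (h13 : d1 ≠ d3) (h23 : d2 ≠ d3) :
    ∃ R : Matrix (Fin 3) (Fin 3) F, IsUnit R.det ∧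
      !![d1, x, y; 0, d2, z; 0, 0, d3] * R = R * !![d1, 0, 0; 0, d3, 0; 0, 0, d2] := by
  have e12 : d2 - d1 ≠ 0 := sub_ne_zero.mpr h12.symm
  have e13 : d3 - d1 ≠ 0 := sub_ne_zero.mpr h13.symm
  have e23 : d3 - d2 ≠ 0 := sub_ne_zero.mpr h23.symm
  refine ⟨!![1, (x * (z / (d3 - d2)) + y) / (d3 - d1), x / (d2 - d1); 0, z / (d3 - d2), 1; 0, 1, 0],
    ?_, ?_⟩
  · simp [Matrix.det_fin_three]
  · ext i j
    fin_cases i <;> fin_cases j <;> simp [Matrix.mul_apply, Fin.sum_univ_three] <;> field_simp <;> ring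


/-- the product of a unit lower triangular and a unit upper triangular matrix is good -/
theorem good_LU (ζ : F) (h0 : ζ ≠ 0) (h1 : ζ ≠ 1) (h2 : ζ ^ 2 ≠ 1) (l1 l2 l3 u1 u2 u3 : F) :
    Good !![1, 0, 0; 0, ζ, 0; 0, 0, ζ⁻¹]
      (!![1, 0, 0; l1, 1, 0; l2, l3, 1] * !![1, u1, u2; 0, 1, u3; 0, 0, 1]) := by
  have hz1 : (1 : F) ≠ ζ⁻¹ := by
    intro h; apply h1; have := congrArg (· * ζ) h; simp [h0] at this; exact this
  have hz2 : ζ ≠ ζ⁻¹ := by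
    intro h; apply h2; have := congrArg (· * ζ) h; simp [h0] at this; rw [pow_two]; exact this
  obtain ⟨R, hR, hRe⟩ := lower_conj 1 ζ ζ⁻¹ l1 l2 (l3 * ζ) (Ne.symm h1) hz1 hz2
  obtain ⟨S, hS, hSe⟩ := upper_conj 1 ζ⁻¹ ζ u1 u2 (ζ⁻¹ * u3) hz1 (Ne.symm h1) hz2.symm
  refine ⟨!![1, 0, 0; l1, ζ, 0; l2, l3 * ζ, ζ⁻¹], !![1, u1, u2; 0, ζ⁻¹, ζ⁻¹ * u3; 0, 0, ζ], R, S, hR, hS,
    ?_, hRe, hSe⟩
  ext i j
  fin_cases i <;> fin_cases j <;> simp [Matrix.mul_apply, Fin.sum_univ_three] <;> field_simp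


theorem good_stage3 (ζ : F) (h0 : ζ ≠ 0) (h1 : ζ ≠ 1) (h2 : ζ ^ 2 ≠ 1) (a b c d e f : F)
    (hg : d - b ≠ 0) (hdet : f * (c - a) - e * (d - b) = 1) :
    Good !![1, 0, 0; 0, ζ, 0; 0, 0, ζ⁻¹] !![1, a, b; 1, c, d; 0, e, f] := by
  have hP : IsUnit (!![1, 0, 0; 0, 0, d - b; 0, 1, f - 1] : Matrix (Fin 3) (Fin 3) F).det := by
    simp [Matrix.det_fin_three]
    intro h; exact hg (by linear_combination -h)
  refine Good.conj hP ?_ (good_LU ζ h0 h1 h2 (-(f - 1) / (d - b)) (1 / (d - b)) 1 b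
    ((d - b) * a + (f - 1) * b) ((d - b) * e + (f - 1) * (1 - c + a)))
  ext i j
  fin_cases i <;> fin_cases j <;> simp [Matrix.mul_apply, Fin.sum_univ_three] <;> field_simp <;>
    first
    | linear_combination (0 : F) * hdet
    | linear_combination (d - b) * hdet
    | linear_combination (-(d - b) * (1 - f)) * hdet


theorem good_stage2 (ζ : F) (h0 : ζ ≠ 0) (h1 : ζ ≠ 1) (h2 : ζ ^ 2 ≠ 1) (a b c d e f : F)
    (hdet : f * (c - a) - e * (d - b) = 1) :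
    Good !![1, 0, 0; 0, ζ, 0; 0, 0, ζ⁻¹] !![1, a, b; 1, c, d; 0, e, f] := by
  by_cases hg : d - b = 0
  · have hf : f ≠ 0 := by
      intro hf; rw [hf, hg] at hdet; simp at hdet
    have hP : IsUnit (!![1, 0, 1; 0, 1, 0; 0, 0, 1] : Matrix (Fin 3) (Fin 3) F).det := by
      simp [Matrix.det_fin_three]
    refine Good.conj hP ?_ (good_stage3 ζ h0 h1 h2 (a - e) (b + 1 - f) c (d + 1) e f ?_ ?_)
    · ext i j
      fin_cases i <;> fin_cases j <;> simp [Matrix.mul_apply, Fin.sum_univ_three] <;> ring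
    · intro h; apply hf; linear_combination h - hg
    · linear_combination hdet
  · exact good_stage3 ζ h0 h1 h2 a b c d e f hg hdet


theorem exists_indep (A : Matrix (Fin 3) (Fin 3) F) (hA : ¬ ∃ c : F, A = c • (1 : Matrix (Fin 3) (Fin 3) F)) :
    ∃ v : Fin 3 → F, LinearIndependent F ![v, A *ᵥ v] := by
  by_contra h
  push Not at h
  have h' : ∀ v, ¬ LinearIndependent F ![v, (Matrix.toLin' A) v] := by
    intro v; simpa using h v
  obtain ⟨a, ha⟩ := LinearMap.exists_eq_smul_id_of_forall_notLinearIndependent h'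
  apply hA
  refine ⟨a, ?_⟩
  apply Matrix.toLin'.injective
  rw [ha]
  ext v i
  simp

theorem stage1 (A : Matrix (Fin 3) (Fin 3) F) (hA : ¬ ∃ c : F, A = c • (1 : Matrix (Fin 3) (Fin 3) F))
    (t : F) :
    ∃ P N : Matrix (Fin 3) (Fin 3) F, IsUnit P.det ∧ A * P = P * N ∧ N 0 0 = t ∧ N 1 0 = 1 ∧
      N 2 0 = 0 := by
  obtain ⟨v, hv⟩ := exists_indep A hA
  have hvw : LinearIndependent F ![v, A *ᵥ v - t • v] := by
    rw [LinearIndependent.pair_iff] at hv ⊢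
    intro s r hsr
    have := hv (s - r * t) r (by rw [← hsr]; module)
    obtain ⟨h1, h2⟩ := this
    subst h2
    simpa using h1
  obtain ⟨x, hx⟩ := exists_linearIndependent_snoc_of_lt_finrank hvw (by simp)
  have hQ : IsUnit (Matrix.of (Fin.snoc ![v, A *ᵥ v - t • v] x : Fin 3 → Fin 3 → F)) :=
    Matrix.linearIndependent_rows_iff_isUnit.mp hx
  obtain ⟨P, hPdef⟩ : ∃ P : Matrix (Fin 3) (Fin 3) F,
    P = (Matrix.of (Fin.snoc ![v, A *ᵥ v - t • v] x : Fin 3 → Fin 3 → F))ᵀ := ⟨_, rfl⟩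
  have hP : IsUnit P.det := by
    rw [hPdef, Matrix.det_transpose]
    exact (Matrix.isUnit_iff_isUnit_det _).mp hQ
  have hcol : A *ᵥ v = P *ᵥ ![t, 1, 0] := by
    rw [hPdef]
    ext i
    simp [Matrix.mulVec, dotProduct, Fin.sum_univ_three]
    ring
  have hcol0 : ∀ M : Matrix (Fin 3) (Fin 3) F, ∀ i, M i 0 = (M *ᵥ Pi.single 0 1) i := by
    intro M i; simp
  have hPv : P *ᵥ Pi.single 0 1 = v := by
    rw [hPdef]; ext i; simp [Matrix.mulVec, dotProduct, Fin.sum_univ_three]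
  have hN : (P⁻¹ * A * P) *ᵥ Pi.single 0 1 = ![t, 1, 0] := by
    rw [Matrix.mul_assoc, ← Matrix.mulVec_mulVec, ← Matrix.mulVec_mulVec, hPv, hcol,
      Matrix.mulVec_mulVec, Matrix.nonsing_inv_mul _ hP, Matrix.one_mulVec]
  refine ⟨P, P⁻¹ * A * P, hP, ?_, ?_, ?_, ?_⟩
  · rw [Matrix.mul_assoc, Matrix.mul_nonsing_inv_cancel_left _ _ hP]
  · rw [hcol0 (P⁻¹ * A * P) 0, hN]; rfl
  · rw [hcol0 (P⁻¹ * A * P) 1, hN]; rfl
  · rw [hcol0 (P⁻¹ * A * P) 2, hN]; rfl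


theorem det_eq_of_conj {A N P : Matrix (Fin 3) (Fin 3) F} (hP : IsUnit P.det) (h : A * P = P * N) :
    N.det = A.det := by
  have := congrArg Matrix.det h
  rw [det_mul, det_mul] at this
  have hP0 : P.det ≠ 0 := hP.ne_zero
  apply mul_left_cancel₀ hP0
  rw [← this]; ring

theorem good_of_nonscalar (ζ : F) (h0 : ζ ≠ 0) (h1 : ζ ≠ 1) (h2 : ζ ^ 2 ≠ 1)
    (A : Matrix (Fin 3) (Fin 3) F) (hdet : A.det = 1)
    (hA : ¬ ∃ c : F, A = c • (1 : Matrix (Fin 3) (Fin 3) F)) :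
    Good !![1, 0, 0; 0, ζ, 0; 0, 0, ζ⁻¹] A := by
  obtain ⟨P, N, hP, hPN, h00, h10, h20⟩ := stage1 A hA 1
  have hN : N = !![1, N 0 1, N 0 2; 1, N 1 1, N 1 2; 0, N 2 1, N 2 2] := by
    ext i j
    fin_cases i <;> fin_cases j <;> simp [h00, h10, h20]
  have hNdet : N.det = 1 := by rw [det_eq_of_conj hP hPN, hdet]
  refine Good.conj hP hPN ?_
  rw [hN]
  apply good_stage2 ζ h0 h1 h2
  rw [Matrix.det_fin_three, h00, h10, h20] at hNdet
  linear_combination hNdet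

end Cfsg.Agent.H4Sour
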