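import Mathlib
import Cfsg.Agent.Lib.Helper4.Sour3T
import Cfsg.Agent.Lib.Helper4.Sourour3

namespace Cfsg.Agent.H4Sour

open Matrix

theorem Good.map {F K : Type*} [Field F] [Field K] (φ : F →+* K) {X A : Matrix (Fin 3) (Fin 3) F}
    (h : Good X A) : Good (X.map φ) (A.map φ) := by
  obtain ⟨B, C, U, V, hU, hV, hA, hB, hC⟩ := h
  refine ⟨B.map φ, C.map φ, U.map φ, V.map φ, ?_, ?_, ?_, ?_, ?_⟩
  · have := RingHom.map_det φ U
    rw [RingHom.mapMatrix_apply] at this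
    rw [← this]; exact hU.map φ
  · have := RingHom.map_det φ V
    rw [RingHom.mapMatrix_apply] at this
    rw [← this]; exact hV.map φ
  · rw [hA, Matrix.map_mul]
  · rw [← Matrix.map_mul, hB, Matrix.map_mul]
  · rw [← Matrix.map_mul, hC, Matrix.map_mul]

theorem good3 (a b c d e f : ZMod 3) (h : b * e - a * f = 1) :
    Good X3 !![0, a, b; 1, c, d; 0, e, f] := by
  have hc := chk3_all a b c d e f h
  simp only [chk3, Bool.and_eq_true, eq3_iff, m3_eq] at hc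
  obtain ⟨⟨hU, hV⟩, hN⟩ := hc
  obtain ⟨U, hUdef⟩ : ∃ U, U = dec3 (tbl3.getD (a.val * 243 + b.val * 81 + c.val * 27 + d.val * 9 + e.val * 3 + f.val) (0, 0, 0, 0)).1 := ⟨_, rfl⟩
  obtain ⟨Ui, hUidef⟩ : ∃ U, U = dec3 (tbl3.getD (a.val * 243 + b.val * 81 + c.val * 27 + d.val * 9 + e.val * 3 + f.val) (0, 0, 0, 0)).2.1 := ⟨_, rfl⟩
  obtain ⟨V, hVdef⟩ : ∃ U, U = dec3 (tbl3.getD (a.val * 243 + b.val * 81 + c.val * 27 + d.val * 9 + e.val * 3 + f.val) (0, 0, 0, 0)).2.2.1 := ⟨_, rfl⟩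
  obtain ⟨Vi, hVidef⟩ : ∃ U, U = dec3 (tbl3.getD (a.val * 243 + b.val * 81 + c.val * 27 + d.val * 9 + e.val * 3 + f.val) (0, 0, 0, 0)).2.2.2 := ⟨_, rfl⟩
  rw [← hUdef, ← hUidef] at hU
  rw [← hVdef, ← hVidef] at hV
  rw [← hUdef, ← hUidef, ← hVdef, ← hVidef] at hN
  have hU' : Ui * U = 1 := mul_eq_one_comm.mp hU
  have hV' : Vi * V = 1 := mul_eq_one_comm.mp hV
  refine ⟨U * X3 * Ui, V * X3 * Vi, U, V, Matrix.isUnit_det_of_right_inverse hU,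
    Matrix.isUnit_det_of_right_inverse hV, ?_, ?_, ?_⟩
  · exact (eq3_iff _ _).mp hN
  · rw [Matrix.mul_assoc, hU', Matrix.mul_one]
  · rw [Matrix.mul_assoc, hV', Matrix.mul_one]


theorem good3F {F : Type*} [Field F] [Fintype F] (hF : Fintype.card F = 3)
    (A : Matrix (Fin 3) (Fin 3) F) (hdet : A.det = 1)
    (hA : ¬ ∃ c : F, A = c • (1 : Matrix (Fin 3) (Fin 3) F)) :
    Good (!![1, 0, 0; 0, 0, -1; 0, 1, 0] : Matrix (Fin 3) (Fin 3) F) A := by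
  obtain ⟨φ⟩ : Nonempty (ZMod 3 ≃+* F) := ⟨ZMod.ringEquivOfPrime F Nat.prime_three hF⟩
  obtain ⟨P, N, hP, hPN, h00, h10, h20⟩ := stage1 A hA 0
  have hNdet : N.det = 1 := by rw [det_eq_of_conj hP hPN, hdet]
  obtain ⟨N₀, hN₀def⟩ : ∃ N₀ : Matrix (Fin 3) (Fin 3) (ZMod 3), N₀ = N.map φ.symm := ⟨_, rfl⟩
  have hN₀ : N₀.map (φ : ZMod 3 →+* F) = N := by
    rw [hN₀def]; ext i j; simp
  have hN₀shape : N₀ = !![0, N₀ 0 1, N₀ 0 2; 1, N₀ 1 1, N₀ 1 2; 0, N₀ 2 1, N₀ 2 2] := by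
    ext i j
    fin_cases i <;> fin_cases j <;> simp [hN₀def, h00, h10, h20]
  have hN₀det : N₀.det = 1 := by
    have := RingHom.map_det (φ.symm : F →+* ZMod 3) N
    rw [RingHom.mapMatrix_apply, hNdet, map_one] at this
    rw [hN₀def]; exact this.symm
  have hX : (X3.map (φ : ZMod 3 →+* F)) = (!![1, 0, 0; 0, 0, -1; 0, 1, 0] : Matrix (Fin 3) (Fin 3) F) := by
    ext i j
    fin_cases i <;> fin_cases j <;> simp [X3]
  refine Good.conj hP hPN ?_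
  rw [← hN₀, ← hX]
  apply Good.map
  rw [hN₀shape]
  apply good3
  have h1 := hN₀det
  rw [Matrix.det_fin_three] at h1
  have e00 : N₀ 0 0 = 0 := by rw [hN₀def]; simp [h00]
  have e10 : N₀ 1 0 = 1 := by rw [hN₀def]; simp [h10]
  have e20 : N₀ 2 0 = 0 := by rw [hN₀def]; simp [h20]
  rw [e00, e10, e20] at h1
  linear_combination h1

end Cfsg.Agent.H4Sour
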