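import Mathlib
import Cfsg.Agent.Lib.Helper4.Sour3V

namespace Cfsg.Agent.H4Sour

open Matrix

variable {F : Type*} [Field F]

/-- from `Good` at the matrix level to conjugates in `SL₃` -/
theorem sl_conj_of_good (X A : Matrix.SpecialLinearGroup (Fin 3) F)
    (hX0 : ∀ j, j ≠ 0 → (X : Matrix (Fin 3) (Fin 3) F) 0 j = 0)
    (hX1 : ∀ i, i ≠ 0 → (X : Matrix (Fin 3) (Fin 3) F) i 0 = 0)
    (h : Good (X : Matrix (Fin 3) (Fin 3) F) (A : Matrix (Fin 3) (Fin 3) F)) :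
    ∃ u v : Matrix.SpecialLinearGroup (Fin 3) F, A = (u * X * u⁻¹) * (v * X * v⁻¹) := by
  obtain ⟨B, C, U, V, hU, hV, hA, hB, hC⟩ := h
  -- the correcting diagonal matrices
  have key : ∀ (B U : Matrix (Fin 3) (Fin 3) F), IsUnit U.det → B * U = U * (X : Matrix (Fin 3) (Fin 3) F) →
      ∃ u : Matrix.SpecialLinearGroup (Fin 3) F, ((u * X * u⁻¹ : Matrix.SpecialLinearGroup (Fin 3) F) : Matrix (Fin 3) (Fin 3) F) = B := by
    intro B U hU hB
    have hU0 : U.det ≠ 0 := hU.ne_zero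
    obtain ⟨D, hD⟩ : ∃ D : Matrix (Fin 3) (Fin 3) F, D = !![(U.det)⁻¹, 0, 0; 0, 1, 0; 0, 0, 1] := ⟨_, rfl⟩
    have hDX : D * (X : Matrix (Fin 3) (Fin 3) F) = (X : Matrix (Fin 3) (Fin 3) F) * D := by
      rw [hD]
      ext i j
      fin_cases i <;> fin_cases j <;>
        simp [Matrix.mul_apply, Fin.sum_univ_three, hX0 1 (by decide), hX0 2 (by decide),
          hX1 1 (by decide), hX1 2 (by decide)]
      exact mul_comm _ _
    have hDdet : D.det = (U.det)⁻¹ := by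
      rw [hD]; simp [Matrix.det_fin_three]
    have hdet : (U * D).det = 1 := by
      rw [det_mul, hDdet, mul_inv_cancel₀ hU0]
    obtain ⟨u, hu⟩ : ∃ u : Matrix.SpecialLinearGroup (Fin 3) F,
        (u : Matrix (Fin 3) (Fin 3) F) = U * D := ⟨⟨U * D, hdet⟩, rfl⟩
    refine ⟨u, ?_⟩
    have e1 : ((u * X * u⁻¹ : Matrix.SpecialLinearGroup (Fin 3) F) : Matrix (Fin 3) (Fin 3) F) * (U * D)
        = B * (U * D) := by
      have : ((u * X * u⁻¹ * u : Matrix.SpecialLinearGroup (Fin 3) F) : Matrix (Fin 3) (Fin 3) F) =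
          (U * D) * (X : Matrix (Fin 3) (Fin 3) F) := by
        rw [inv_mul_cancel_right, Matrix.SpecialLinearGroup.coe_mul, hu]
      rw [Matrix.SpecialLinearGroup.coe_mul, hu] at this
      rw [this, ← Matrix.mul_assoc B, hB, Matrix.mul_assoc, Matrix.mul_assoc, hDX]
    have hUD : IsUnit (U * D).det := by rw [hdet]; exact isUnit_one
    have := congrArg (· * (U * D)⁻¹) e1
    simpa [Matrix.mul_assoc, Matrix.mul_nonsing_inv _ hUD] using this
  obtain ⟨u, hu⟩ := key B U hU hB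
  obtain ⟨v, hv⟩ := key C V hV hC
  refine ⟨u, v, ?_⟩
  apply Subtype.ext
  rw [Matrix.SpecialLinearGroup.coe_mul, hu, hv, hA]


theorem psl_cover (X : Matrix.SpecialLinearGroup (Fin 3) F)
    (hX0 : ∀ j, j ≠ 0 → (X : Matrix (Fin 3) (Fin 3) F) 0 j = 0)
    (hX1 : ∀ i, i ≠ 0 → (X : Matrix (Fin 3) (Fin 3) F) i 0 = 0)
    (hgood : ∀ A : Matrix (Fin 3) (Fin 3) F, A.det = 1 →
      (¬ ∃ c : F, A = c • (1 : Matrix (Fin 3) (Fin 3) F)) → Good (X : Matrix (Fin 3) (Fin 3) F) A)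
    (g : Matrix.ProjectiveSpecialLinearGroup (Fin 3) F) (hg : g ≠ 1) :
    ∃ u v : Matrix.ProjectiveSpecialLinearGroup (Fin 3) F,
      g = (u * (QuotientGroup.mk X : Matrix.ProjectiveSpecialLinearGroup (Fin 3) F) * u⁻¹) *
        (v * (QuotientGroup.mk X : Matrix.ProjectiveSpecialLinearGroup (Fin 3) F) * v⁻¹) := by
  obtain ⟨A, rfl⟩ := QuotientGroup.mk_surjective g
  have hA : ¬ ∃ c : F, (A : Matrix (Fin 3) (Fin 3) F) = c • (1 : Matrix (Fin 3) (Fin 3) F) := by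
    rintro ⟨c, hc⟩
    apply hg
    rw [QuotientGroup.eq_one_iff, Matrix.SpecialLinearGroup.mem_center_iff]
    refine ⟨c, ?_, ?_⟩
    · have := A.2
      rw [hc] at this
      simpa using this
    · rw [hc]; ext i j; simp [Matrix.one_apply, Matrix.diagonal_apply]
  obtain ⟨u, v, huv⟩ := sl_conj_of_good X A hX0 hX1 (hgood A A.2 hA)
  refine ⟨QuotientGroup.mk u, QuotientGroup.mk v, ?_⟩
  rw [huv]
  rfl

theorem orderOf_mk_dvd (X : Matrix.SpecialLinearGroup (Fin 3) F) (m : ℕ) (h : X ^ m = 1) :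
    orderOf (QuotientGroup.mk X : Matrix.ProjectiveSpecialLinearGroup (Fin 3) F) ∣ m := by
  apply orderOf_dvd_of_pow_eq_one
  rw [← QuotientGroup.mk_pow, h]
  rfl

end Cfsg.Agent.H4Sour
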