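import Mathlib
import Cfsg.Agent.Lib.Helper1.Coprime
import Cfsg.Agent.Lib.Helper17.Basic

set_option autoImplicit false

namespace Cfsg.Agent.Lib.Helper4

open Subgroup

universe u

/-- If `G = HK` then `|G : K| = |H : H ∩ K|`. -/
theorem index_eq_relIndex_of_factorization {G : Type u} [Group G] (H K : Subgroup G)
    (h : ∀ g : G, ∃ a ∈ H, ∃ b ∈ K, g = a * b) : K.index = K.relIndex H := by
  have h1 : MulAction.stabilizer H (((1 : G) : G ⧸ K)) = K.subgroupOf H := by
    ext ⟨a, ha⟩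
    rw [MulAction.mem_stabilizer_iff, Subgroup.mem_subgroupOf]
    change ((a * 1 : G) : G ⧸ K) = ((1 : G) : G ⧸ K) ↔ a ∈ K
    rw [QuotientGroup.eq]
    simp
  have horb : ∀ q : G ⧸ K, ∃ a : H, a • (((1 : G) : G ⧸ K)) = q := by
    intro q
    obtain ⟨g, rfl⟩ := QuotientGroup.mk_surjective q
    obtain ⟨a, ha, b, hb, rfl⟩ := h g
    refine ⟨⟨a, ha⟩, ?_⟩
    change ((a * 1 : G) : G ⧸ K) = ((a * b : G) : G ⧸ K)
    rw [QuotientGroup.eq]
    simpa using hb
  haveI : MulAction.IsPretransitive H (G ⧸ K) := by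
    refine ⟨fun x y => ?_⟩
    obtain ⟨a, rfl⟩ := horb x
    obtain ⟨b, rfl⟩ := horb y
    exact ⟨b * a⁻¹, by rw [mul_smul, inv_smul_smul]⟩
  have h2 := MulAction.index_stabilizer_of_transitive (G := H) (((1 : G) : G ⧸ K))
  rw [h1] at h2
  exact h2.symm

/-- Relative version. -/
theorem relIndex_eq_relIndex_of_forall_mul {G : Type u} [Group G] (A B C : Subgroup G)
    (hA : A ≤ C) (hB : B ≤ C) (h : ∀ c ∈ C, ∃ a ∈ A, ∃ b ∈ B, c = a * b) :
    B.relIndex C = B.relIndex A := by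
  have := index_eq_relIndex_of_factorization (A.subgroupOf C) (B.subgroupOf C) (by
    rintro ⟨c, hc⟩
    obtain ⟨a, ha, b, hb, rfl⟩ := h c hc
    exact ⟨⟨a, hA ha⟩, ha, ⟨b, hB hb⟩, hb, rfl⟩)
  rw [Subgroup.relIndex_subgroupOf hA] at this
  exact this

/-- `index (A ⊓ B) * index (AB) = index A * index B` when `AB` is a subgroup. -/
theorem index_inf_mul_index_of_forall_mul {G : Type u} [Group G] (A B C : Subgroup G)
    (hA : A ≤ C) (hB : B ≤ C) (h : ∀ c ∈ C, ∃ a ∈ A, ∃ b ∈ B, c = a * b) :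
    (A ⊓ B).index * C.index = A.index * B.index := by
  have h1 := relIndex_eq_relIndex_of_forall_mul A B C hA hB h
  have h2 : (A ⊓ B).relIndex A * A.index = (A ⊓ B).index := Subgroup.relIndex_mul_index inf_le_left
  have h3 : B.relIndex C * C.index = B.index := Subgroup.relIndex_mul_index hB
  rw [Subgroup.inf_relIndex_left] at h2
  rw [← h2, ← h3, h1]
  ring

/-- The number of Sylow subgroups of a quotient. -/
theorem card_sylow_quotient {G : Type u} [Group G] [Finite G] (p : ℕ) [Fact p.Prime]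
    (K : Subgroup G) [K.Normal] (P : Sylow p G) :
    Nat.card (Sylow p (G ⧸ K)) = (normalizer (((P : Subgroup G) ⊔ K : Subgroup G) : Set G)).index := by
  have hsurj := QuotientGroup.mk'_surjective K
  have h1 : Nat.card (Sylow p (G ⧸ K)) = (normalizer (((P : Subgroup G).map (QuotientGroup.mk' K) :
      Subgroup (G ⧸ K)) : Set (G ⧸ K))).index :=
    Sylow.card_eq_index_normalizer (P.mapSurjective hsurj)
  rw [h1, ← Subgroup.index_comap_of_surjective _ hsurj,
    Subgroup.comap_normalizer_eq_of_surjective _ hsurj,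
    Subgroup.comap_map_eq, QuotientGroup.ker_mk']

/-- Elements of `PK` (with `K` normal) have a `p`-power in `K`. -/
theorem exists_pow_mem_of_mem_sup {G : Type u} [Group G] {p : ℕ} [Fact p.Prime]
    (P K : Subgroup G) [K.Normal] (hP : IsPGroup p P) {x : G} (hx : x ∈ P ⊔ K) :
    ∃ k : ℕ, x ^ p ^ k ∈ K := by
  rw [Subgroup.mem_sup_of_normal_right] at hx
  obtain ⟨a, ha, m, hm, rfl⟩ := hx
  obtain ⟨k, hk⟩ := hP ⟨a, ha⟩
  refine ⟨k, ?_⟩
  rw [← QuotientGroup.eq_one_iff, QuotientGroup.mk_pow, QuotientGroup.mk_mul,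
    (QuotientGroup.eq_one_iff m).mpr hm, mul_one, ← QuotientGroup.mk_pow]
  have : a ^ p ^ k = 1 := congrArg Subtype.val hk
  rw [this]
  rfl

/-- `N(P) ≤ N(PK)` for `K` normal. -/
theorem normalizer_le_normalizer_sup {G : Type u} [Group G] [Finite G]
    (P K : Subgroup G) [hK : K.Normal] :
    normalizer (P : Set G) ≤ normalizer ((P ⊔ K : Subgroup G) : Set G) := by
  intro g hg
  apply Cfsg.Agent.Lib.Helper17.mem_normalizer_of_forall_conj_mem
  intro x hx
  rw [Subgroup.mem_sup_of_normal_right] at hx ⊢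
  obtain ⟨a, ha, m, hm, rfl⟩ := hx
  refine ⟨g * a * g⁻¹, (Subgroup.mem_normalizer_iff.mp hg a).mp ha, g * m * g⁻¹,
    hK.conj_mem m hm g, by group⟩

/-- For a Sylow `p`-subgroup `P` and normal `M`, `N` with `M ∩ N = 1`: `PM ∩ PN = P`. -/
theorem sylow_sup_inf_sup {G : Type u} [Group G] [Finite G] {p : ℕ} [Fact p.Prime]
    (P : Sylow p G) (M N : Subgroup G) [M.Normal] [N.Normal] (hMN : M ⊓ N = ⊥) :
    ((P : Subgroup G) ⊔ M) ⊓ ((P : Subgroup G) ⊔ N) = (P : Subgroup G) := by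
  have hX : IsPGroup p (((P : Subgroup G) ⊔ M) ⊓ ((P : Subgroup G) ⊔ N) : Subgroup G) := by
    rintro ⟨x, hxM, hxN⟩
    obtain ⟨k, hk⟩ := exists_pow_mem_of_mem_sup (P : Subgroup G) M P.2 hxM
    obtain ⟨l, hl⟩ := exists_pow_mem_of_mem_sup (P : Subgroup G) N P.2 hxN
    refine ⟨k + l, ?_⟩
    apply Subtype.ext
    show x ^ p ^ (k + l) = 1
    have h1 : x ^ p ^ (k + l) ∈ M := by
      rw [pow_add, pow_mul]
      exact M.pow_mem hk _
    have h2 : x ^ p ^ (k + l) ∈ N := by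
      rw [pow_add, mul_comm, pow_mul]
      exact N.pow_mem hl _
    have h3 : x ^ p ^ (k + l) ∈ M ⊓ N := ⟨h1, h2⟩
    rw [hMN] at h3
    exact h3
  exact P.is_maximal' hX (le_inf le_sup_left le_sup_left)

/-- `N(PM) ∩ N(PN) = N(P)`. -/
theorem normalizer_sup_inf_normalizer_sup {G : Type u} [Group G] [Finite G] {p : ℕ}
    [Fact p.Prime] (P : Sylow p G) (M N : Subgroup G) [M.Normal] [N.Normal] (hMN : M ⊓ N = ⊥) :
    normalizer (((P : Subgroup G) ⊔ M : Subgroup G) : Set G) ⊓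
      normalizer (((P : Subgroup G) ⊔ N : Subgroup G) : Set G) =
      normalizer ((P : Subgroup G) : Set G) := by
  apply le_antisymm
  · rintro g ⟨hgM, hgN⟩
    apply Cfsg.Agent.Lib.Helper17.mem_normalizer_of_forall_conj_mem
    intro a ha
    have h1 : g * a * g⁻¹ ∈ (P : Subgroup G) ⊔ M :=
      (Subgroup.mem_normalizer_iff.mp hgM a).mp (Subgroup.mem_sup_left ha)
    have h2 : g * a * g⁻¹ ∈ (P : Subgroup G) ⊔ N :=
      (Subgroup.mem_normalizer_iff.mp hgN a).mp (Subgroup.mem_sup_left ha)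
    have h3 : g * a * g⁻¹ ∈ ((P : Subgroup G) ⊔ M) ⊓ ((P : Subgroup G) ⊔ N) := ⟨h1, h2⟩
    rw [sylow_sup_inf_sup P M N hMN] at h3
    exact h3
  · exact le_inf (normalizer_le_normalizer_sup _ M) (normalizer_le_normalizer_sup _ N)

/-- `N(PMN) = N(PM) N(PN)`. -/
theorem normalizer_sup_sup_mul {G : Type u} [Group G] [Finite G] {p : ℕ}
    [Fact p.Prime] (P : Sylow p G) (M N : Subgroup G) [hM : M.Normal] [hN : N.Normal] :
    ∀ c ∈ normalizer (((P : Subgroup G) ⊔ (M ⊔ N) : Subgroup G) : Set G),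
      ∃ a ∈ normalizer (((P : Subgroup G) ⊔ M : Subgroup G) : Set G),
        ∃ b ∈ normalizer (((P : Subgroup G) ⊔ N : Subgroup G) : Set G), c = a * b := by
  intro c hc
  set H : Subgroup G := (P : Subgroup G) ⊔ (M ⊔ N) with hH
  have hPH : (P : Subgroup G) ≤ H := le_sup_left
  obtain ⟨k, hk, hkc⟩ := Cfsg.Agent.Lib.Helper1.frattini_sylow H (P.subtype hPH) c hc
  have hmap : (((P.subtype hPH : Sylow p H) : Subgroup H).map H.subtype) = (P : Subgroup G) := by
    rw [Sylow.coe_subtype, Subgroup.subgroupOf_map_subtype, inf_of_le_left hPH]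
  rw [hmap] at hkc
  -- decompose `k = m * (n * u)`
  have hk' : k ∈ M ⊔ (N ⊔ (P : Subgroup G)) := by
    have : H = M ⊔ (N ⊔ (P : Subgroup G)) := by
      rw [hH, sup_comm (P : Subgroup G), sup_assoc]
    rw [← this]; exact hk
  rw [Subgroup.mem_sup_of_normal_left] at hk'
  obtain ⟨m, hm, y, hy, rfl⟩ := hk'
  rw [Subgroup.mem_sup_of_normal_left] at hy
  obtain ⟨n, hn, u, hu, rfl⟩ := hy
  refine ⟨m, le_normalizer (Subgroup.mem_sup_right hm), n * u * ((m * (n * u))⁻¹ * c), ?_, by group⟩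
  apply Subgroup.mul_mem
  · apply Subgroup.mul_mem
    · exact le_normalizer (Subgroup.mem_sup_right hn)
    · exact le_normalizer (Subgroup.mem_sup_left hu)
  · exact normalizer_le_normalizer_sup _ N hkc

/-- **Sylow numbers**: `n_p(G) n_p(G/MN) = n_p(G/M) n_p(G/N)` when `M ∩ N = 1`. -/
theorem card_sylow_mul_card_sylow_quotient {G : Type u} [Group G] [Finite G] (p : ℕ)
    [Fact p.Prime] (M N : Subgroup G) [M.Normal] [N.Normal] (hMN : M ⊓ N = ⊥) :
    Nat.card (Sylow p G) * Nat.card (Sylow p (G ⧸ (M ⊔ N))) =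
      Nat.card (Sylow p (G ⧸ M)) * Nat.card (Sylow p (G ⧸ N)) := by
  obtain ⟨P⟩ : Nonempty (Sylow p G) := inferInstance
  have h0 : Nat.card (Sylow p G) = (normalizer ((P : Subgroup G) : Set G)).index :=
    Sylow.card_eq_index_normalizer P
  rw [card_sylow_quotient p (M ⊔ N) P, card_sylow_quotient p M P, card_sylow_quotient p N P,
    h0, ← normalizer_sup_inf_normalizer_sup P M N hMN]
  apply index_inf_mul_index_of_forall_mul
  · rw [← sup_assoc]
    exact normalizer_le_normalizer_sup _ N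
  · have : (P : Subgroup G) ⊔ (M ⊔ N) = ((P : Subgroup G) ⊔ N) ⊔ M := by
      rw [sup_comm M N, sup_assoc]
    rw [this]
    exact normalizer_le_normalizer_sup _ M
  · exact normalizer_sup_sup_mul P M N

end Cfsg.Agent.Lib.Helper4
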