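import Mathlib
import Cfsg.Agent.Lib.Helper4.HallSystem
import Cfsg.Agent.Lib.Helper4.Basic

set_option autoImplicit false
open Pointwise

namespace Cfsg.Agent.Lib.Helper4
open Cfsg Cfsg.Agent.Lib.Helper1
universe u

theorem lowerInf_normal {G : Type u} [Group G] (L : Nat.Primes → Subgroup G)
    (hL : ∀ q, (L q).Normal) : ∀ n : ℕ, (lowerInf L n).Normal := by
  intro n
  induction n with
  | zero => rw [lowerInf]; infer_instance
  | succ n ih =>
    rw [lowerInf]
    by_cases hn : n.Prime
    · rw [dif_pos hn]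
      have := hL ⟨n, hn⟩
      infer_instance
    · rw [dif_neg hn]; exact ih

/-- general version: if each `L q` has `q`-power index, then every prime dividing the index of
`lowerInf L n` is some `q < n` with `L q ≠ ⊤`. -/
theorem lowerInf_index_gen {G : Type u} [Group G] [Finite G] (L : Nat.Primes → Subgroup G)
    (hL : ∀ q : Nat.Primes, ∃ k : ℕ, (L q).index = (q : ℕ) ^ k) :
    ∀ (n r : ℕ), r.Prime → r ∣ (lowerInf L n).index →
      ∃ q : Nat.Primes, (q : ℕ) = r ∧ r < n ∧ L q ≠ ⊤ := by
  intro n
  induction n with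
  | zero =>
    intro r hr hd
    rw [lowerInf, Subgroup.index_top] at hd
    exact absurd (Nat.dvd_one.mp hd) hr.one_lt.ne'
  | succ n ih =>
    intro r hr hd
    rw [lowerInf] at hd
    by_cases hn : n.Prime
    · rw [dif_pos hn] at hd
      obtain ⟨k, hk⟩ := hL ⟨n, hn⟩
      have hcop : Nat.Coprime (lowerInf L n).index (L ⟨n, hn⟩).index := by
        rw [hk]
        apply Nat.Coprime.pow_right
        apply Nat.Coprime.symm
        rw [Nat.Prime.coprime_iff_not_dvd hn]
        intro hnd
        obtain ⟨_, _, hlt, _⟩ := ih n hn hnd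
        exact absurd hlt (lt_irrefl n)
      rw [index_inf_of_coprime _ _ hcop] at hd
      rcases (Nat.Prime.dvd_mul hr).mp hd with h1 | h1
      · obtain ⟨q, hq1, hq2, hq3⟩ := ih r hr h1
        exact ⟨q, hq1, hq2.trans (Nat.lt_succ_self n), hq3⟩
      · refine ⟨⟨n, hn⟩, ?_, ?_, ?_⟩
        · rw [hk] at h1
          exact ((Nat.prime_dvd_prime_iff_eq hr hn).mp (hr.dvd_of_dvd_pow h1)).symm
        · rw [hk] at h1
          have := (Nat.prime_dvd_prime_iff_eq hr hn).mp (hr.dvd_of_dvd_pow h1)
          omega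
        · intro htop
          rw [htop, Subgroup.index_top] at h1
          exact absurd (Nat.dvd_one.mp h1) hr.one_lt.ne'
    · rw [dif_neg hn] at hd
      obtain ⟨q, hq1, hq2, hq3⟩ := ih r hr hd
      exact ⟨q, hq1, hq2.trans (Nat.lt_succ_self n), hq3⟩

theorem systemNormalizer_isNilpotent {G : Type u} [Group G] [Finite G]
    (K : Nat.Primes → Subgroup G) (hK : IsComplementSystem K) :
    Group.IsNilpotent (systemNormalizer K) := by
  classical
  set D := systemNormalizer K with hD
  have hDK : ∀ q : Nat.Primes, D ≤ Subgroup.normalizer (K q : Set G) := fun q => iInf_le _ q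
  apply (Group.isNilpotent_of_finite_tfae (G := ↥D)).out 3 0 |>.mp
  intro p hp P
  have hpp : p.Prime := hp.out
  -- the family in D
  let L' : Nat.Primes → Subgroup D := fun q => if (q : ℕ) = p then ⊤ else (K q).subgroupOf D
  have hL'n : ∀ q, (L' q).Normal := by
    intro q
    by_cases hq : (q : ℕ) = p
    · simp only [L', if_pos hq]; infer_instance
    · simp only [L', if_neg hq]
      exact Subgroup.normal_subgroupOf_of_le_normalizer (hDK q)
  have hL'idx : ∀ q : Nat.Primes, ∃ k : ℕ, (L' q).index = (q : ℕ) ^ k := by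
    intro q
    by_cases hq : (q : ℕ) = p
    · exact ⟨0, by simp only [L', if_pos hq, Subgroup.index_top, pow_zero]⟩
    · simp only [L', if_neg hq]
      change ∃ k, (K q).relIndex D = (q : ℕ) ^ k
      have h1 := relIndex_sup_of_le_normalizer D (K q) (hDK q)
      have h2 : (K q).relIndex (D ⊔ K q) ∣ (K q).index :=
        Dvd.intro _ (Subgroup.relIndex_mul_index (le_sup_right : K q ≤ D ⊔ K q))
      rw [h1, hK q] at h2
      obtain ⟨j, _, hj⟩ := (Nat.dvd_prime_pow q.2).mp h2
      exact ⟨j, hj⟩
  set T : Subgroup D := lowerInf L' (Nat.card G + 1) with hT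
  have hTn : T.Normal := lowerInf_normal L' hL'n _
  have hTidx : ¬ p ∣ T.index := by
    intro hd
    obtain ⟨q, hq1, _, hq3⟩ := lowerInf_index_gen L' hL'idx _ p hpp hd
    apply hq3
    simp only [L', if_pos hq1]
  have hTp : IsPGroup p T := by
    have hcard := Nat.eq_prime_pow_of_unique_prime_dvd (n := Nat.card T) (p := p) Nat.card_pos.ne'
      (fun {r} hr hrd => by
        by_contra hrp
        -- r ∣ card T ∣ card G
        have h1 : Nat.card T ∣ Nat.card G :=
          (Subgroup.card_subgroup_dvd_card T).trans (Subgroup.card_subgroup_dvd_card D)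
        have hrG : r ∣ Nat.card G := hrd.trans h1
        have hrlt : r < Nat.card G + 1 := Nat.lt_succ_of_le (Nat.le_of_dvd Nat.card_pos hrG)
        have h2 : T ≤ L' ⟨r, hr⟩ := lowerInf_le L' _ ⟨r, hr⟩ hrlt
        simp only [L', if_neg hrp] at h2
        -- card T ∣ card (K r)
        have h3 : Nat.card T ∣ Nat.card ((K ⟨r, hr⟩).subgroupOf D) := Subgroup.card_dvd_of_le h2
        have h4 : Nat.card ((K ⟨r, hr⟩).subgroupOf D) ∣ Nat.card (K ⟨r, hr⟩) := by
          have e : Nat.card ((K ⟨r, hr⟩).subgroupOf D) = Nat.card ↥(K ⟨r, hr⟩ ⊓ D) := by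
            rw [← Subgroup.inf_subgroupOf_right]
            exact Nat.card_congr (Subgroup.subgroupOfEquivOfLe inf_le_right).toEquiv
          rw [e]
          exact Subgroup.card_dvd_of_le inf_le_left
        have h5 : r ∣ Nat.card (K ⟨r, hr⟩) := hrd.trans (h3.trans h4)
        have h6 : Nat.card (K ⟨r, hr⟩) = Nat.card G / r ^ (Nat.card G).factorization r := by
          have h7 := (K ⟨r, hr⟩).card_mul_index
          rw [hK ⟨r, hr⟩] at h7
          exact (Nat.div_eq_of_eq_mul_left (pow_pos hr.pos _) h7.symm).symm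
        rw [h6] at h5
        exact Nat.not_dvd_ordCompl hr Nat.card_pos.ne' h5)
    exact IsPGroup.of_card hcard
  have hP : P = hTp.toSylow hTidx := by
    obtain ⟨g, hg⟩ := MulAction.exists_smul_eq D (hTp.toSylow hTidx) P
    rw [← hg]
    have : ((hTp.toSylow hTidx : Sylow p D) : Subgroup D).Normal := by
      rw [IsPGroup.toSylow_coe]; exact hTn
    exact Sylow.smul_eq_of_normal
  rw [hP, IsPGroup.toSylow_coe]
  exact hTn

end Cfsg.Agent.Lib.Helper4
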