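import Mathlib
import Cfsg.Agent.Lib.Helper4.HallSystemQuot

set_option autoImplicit false
open Pointwise
open scoped commutatorElement

namespace Cfsg.Agent.Lib.Helper4
open Cfsg Cfsg.Agent.Lib.Helper1
universe u

theorem systemNormalizer_normalClosure {G : Type u} [Group G] [Finite G] [Group.IsSolvable G]
    (K : Nat.Primes → Subgroup G) (hK : IsComplementSystem K) :
    Subgroup.normalClosure ((systemNormalizer K : Subgroup G) : Set G) = ⊤ := by
  by_contra hne
  set D := systemNormalizer K with hD
  set M : Subgroup G := Subgroup.normalClosure (D : Set G) with hM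
  have hDM : D ≤ M := Subgroup.le_normalClosure
  have hMn : M.Normal := Subgroup.normalClosure_normal
  -- G/M is nontrivial and solvable
  have hnt : Nontrivial (G ⧸ M) := by
    by_contra hnt
    rw [not_nontrivial_iff_subsingleton] at hnt
    apply hne
    rw [eq_top_iff]
    intro x _
    exact (QuotientGroup.eq_one_iff x).mp (Subsingleton.elim _ _)
  have hlt : commutator (G ⧸ M) < ⊤ := Group.IsSolvable.commutator_lt_top_of_nontrivial (G ⧸ M)
  set R : Subgroup G := (commutator (G ⧸ M)).comap (QuotientGroup.mk' M) with hR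
  have hRn : R.Normal := inferInstance
  have hMR : M ≤ R := by
    intro x hx
    rw [hR, Subgroup.mem_comap]
    have : QuotientGroup.mk' M x = 1 := (QuotientGroup.eq_one_iff x).mpr hx
    rw [this]; exact Subgroup.one_mem _
  have hRne : R ≠ ⊤ := by
    intro h
    apply hlt.ne
    rw [eq_top_iff]
    intro y _
    obtain ⟨x, rfl⟩ := QuotientGroup.mk'_surjective M y
    have : x ∈ R := by rw [h]; trivial
    exact this
  -- G/R commutative
  have hcomm : ∀ a b : G ⧸ R, a * b = b * a := by
    intro a b
    obtain ⟨x, rfl⟩ := QuotientGroup.mk'_surjective R a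
    obtain ⟨y, rfl⟩ := QuotientGroup.mk'_surjective R b
    rw [← map_mul, ← map_mul]
    apply (QuotientGroup.eq).mpr
    rw [hR, Subgroup.mem_comap]
    have h1 : QuotientGroup.mk' M ((x * y)⁻¹ * (y * x)) =
        ⁅(QuotientGroup.mk' M y)⁻¹, (QuotientGroup.mk' M x)⁻¹⁆ := by
      rw [commutatorElement_def]
      simp only [map_mul, map_inv, inv_inv, mul_inv_rev]
      group
    rw [h1, commutator_def]
    exact Subgroup.commutator_mem_commutator (Subgroup.mem_top _) (Subgroup.mem_top _)
  have h545 := systemNormalizer_map K hK R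
  have htop : systemNormalizer (fun p => (K p).map (QuotientGroup.mk' R)) = ⊤ := by
    rw [eq_top_iff]
    intro y _
    apply (Subgroup.mem_iInf).mpr
    intro p
    rw [Subgroup.mem_normalizer_iff]
    intro h
    have : y * h * y⁻¹ = h := by rw [hcomm y h, mul_inv_cancel_right]
    rw [this]
  have hbot : (systemNormalizer K).map (QuotientGroup.mk' R) = ⊥ := by
    rw [eq_bot_iff]
    rintro _ ⟨x, hx, rfl⟩
    rw [Subgroup.mem_bot]
    exact (QuotientGroup.eq_one_iff x).mpr (hMR (hDM hx))
  rw [htop, hbot] at h545
  apply hRne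
  rw [eq_top_iff]
  intro x _
  apply (QuotientGroup.eq_one_iff x).mp
  have h1 : (QuotientGroup.mk' R x) ∈ (⊤ : Subgroup (G ⧸ R)) := Subgroup.mem_top _
  rw [h545, Subgroup.mem_bot] at h1
  exact h1

end Cfsg.Agent.Lib.Helper4
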