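import Cfsg.Agent.Lib.Helper4.TCY5AU20 -- chain
import Cfsg.Agent.Lib.Helper28.TC2Range
import Cfsg.Agent.Lib.Helper4.TCY5AData
set_option autoImplicit false
set_option maxRecDepth 100000
set_option maxHeartbeats 0

namespace Cfsg.Agent.Lib.Helper4.TCY5AM0
open Cfsg.Agent.Lib.Helper28.TC2Upper Cfsg.Agent.Lib.Helper28.TC2Lower Cfsg.Agent.Lib.Helper28.TC2Range Cfsg.Agent.Lib.Helper4.TCY5AData

theorem fin0 : Data.finalRange data 0 8333 = true := by decide +kernel
theorem fin1 : Data.finalRange data 8333 8333 = true := by decide +kernel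
theorem fin2 : Data.finalRange data 16666 8333 = true := by decide +kernel
theorem fin3 : Data.finalRange data 24999 8333 = true := by decide +kernel
theorem fin4 : Data.finalRange data 33332 8333 = true := by decide +kernel

end Cfsg.Agent.Lib.Helper4.TCY5AM0
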