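import Cfsg.Agent.Lib.Helper4.TCY5AM2 -- chain
import Cfsg.Agent.Lib.Helper28.TC2Range
import Cfsg.Agent.Lib.Helper4.TCY5AData
set_option autoImplicit false
set_option maxRecDepth 100000
set_option maxHeartbeats 0

namespace Cfsg.Agent.Lib.Helper4.TCY5AM6
open Cfsg.Agent.Lib.Helper28.TC2Upper Cfsg.Agent.Lib.Helper28.TC2Lower Cfsg.Agent.Lib.Helper28.TC2Range Cfsg.Agent.Lib.Helper4.TCY5AData

theorem cnt0 : Data.countFrom data 0 40000 = 10596 := by decide +kernel
theorem cnt1 : Data.countFrom data 40000 40000 = 3526 := by decide +kernel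
theorem cnt2 : Data.countFrom data 80000 40000 = 2152 := by decide +kernel
theorem cnt3 : Data.countFrom data 120000 40000 = 1804 := by decide +kernel
theorem cnt4 : Data.countFrom data 160000 40000 = 1374 := by decide +kernel

end Cfsg.Agent.Lib.Helper4.TCY5AM6
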