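import Cfsg.Agent.Lib.Helper4.TCY5AData
set_option autoImplicit false
set_option maxRecDepth 100000
set_option maxHeartbeats 0

namespace Cfsg.Agent.Lib.Helper4.TCY5AU0
open Cfsg.Agent.Lib.Helper28.TC2Upper Cfsg.Agent.Lib.Helper4.TCY5AData

theorem chk0 : data.checkRange 0 548 = true := by decide +kernel
theorem chk1 : data.checkRange 548 599 = true := by decide +kernel
theorem chk2 : data.checkRange 1147 676 = true := by decide +kernel
theorem chk3 : data.checkRange 1823 725 = true := by decide +kernel
theorem chk4 : data.checkRange 2548 729 = true := by decide +kernel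

end Cfsg.Agent.Lib.Helper4.TCY5AU0
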