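import Cfsg.Agent.Lib.Helper4.TCY5AU6 -- chain
import Cfsg.Agent.Lib.Helper4.TCY5AData
set_option autoImplicit false
set_option maxRecDepth 100000
set_option maxHeartbeats 0

namespace Cfsg.Agent.Lib.Helper4.TCY5AU10
open Cfsg.Agent.Lib.Helper28.TC2Upper Cfsg.Agent.Lib.Helper4.TCY5AData

theorem chk50 : data.checkRange 83647 2339 = true := by decide +kernel
theorem chk51 : data.checkRange 85986 858 = true := by decide +kernel
theorem chk52 : data.checkRange 86844 2530 = true := by decide +kernel
theorem chk53 : data.checkRange 89374 1442 = true := by decide +kernel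
theorem chk54 : data.checkRange 90816 1747 = true := by decide +kernel

end Cfsg.Agent.Lib.Helper4.TCY5AU10
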