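import Cfsg.Agent.Lib.Helper4.TCY5AU7 -- chain
import Cfsg.Agent.Lib.Helper4.TCY5AData
set_option autoImplicit false
set_option maxRecDepth 100000
set_option maxHeartbeats 0

namespace Cfsg.Agent.Lib.Helper4.TCY5AU11
open Cfsg.Agent.Lib.Helper28.TC2Upper Cfsg.Agent.Lib.Helper4.TCY5AData

theorem chk55 : data.checkRange 92563 1143 = true := by decide +kernel
theorem chk56 : data.checkRange 93706 2292 = true := by decide +kernel
theorem chk57 : data.checkRange 95998 3793 = true := by decide +kernel
theorem chk58 : data.checkRange 99791 5602 = true := by decide +kernel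
theorem chk59 : data.checkRange 105393 3868 = true := by decide +kernel

end Cfsg.Agent.Lib.Helper4.TCY5AU11
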