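import Cfsg.Agent.Lib.Helper4.TCY5AU8 -- chain
import Cfsg.Agent.Lib.Helper4.TCY5AData
set_option autoImplicit false
set_option maxRecDepth 100000
set_option maxHeartbeats 0

namespace Cfsg.Agent.Lib.Helper4.TCY5AU12
open Cfsg.Agent.Lib.Helper28.TC2Upper Cfsg.Agent.Lib.Helper4.TCY5AData

theorem chk60 : data.checkRange 109261 5028 = true := by decide +kernel
theorem chk61 : data.checkRange 114289 2806 = true := by decide +kernel
theorem chk62 : data.checkRange 117095 2529 = true := by decide +kernel
theorem chk63 : data.checkRange 119624 4762 = true := by decide +kernel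
theorem chk64 : data.checkRange 124386 2429 = true := by decide +kernel

end Cfsg.Agent.Lib.Helper4.TCY5AU12
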