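import Cfsg.Agent.Lib.Helper4.TCY5AU9 -- chain
import Cfsg.Agent.Lib.Helper4.TCY5AData
set_option autoImplicit false
set_option maxRecDepth 100000
set_option maxHeartbeats 0

namespace Cfsg.Agent.Lib.Helper4.TCY5AU13
open Cfsg.Agent.Lib.Helper28.TC2Upper Cfsg.Agent.Lib.Helper4.TCY5AData

theorem chk65 : data.checkRange 126815 1222 = true := by decide +kernel
theorem chk66 : data.checkRange 128037 1837 = true := by decide +kernel
theorem chk67 : data.checkRange 129874 3296 = true := by decide +kernel
theorem chk68 : data.checkRange 133170 1231 = true := by decide +kernel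
theorem chk69 : data.checkRange 134401 2442 = true := by decide +kernel

end Cfsg.Agent.Lib.Helper4.TCY5AU13
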