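import Cfsg.Agent.Lib.Helper4.TCY5AU11 -- chain
import Cfsg.Agent.Lib.Helper4.TCY5AData
set_option autoImplicit false
set_option maxRecDepth 100000
set_option maxHeartbeats 0

namespace Cfsg.Agent.Lib.Helper4.TCY5AU15
open Cfsg.Agent.Lib.Helper28.TC2Upper Cfsg.Agent.Lib.Helper4.TCY5AData

theorem chk75 : data.checkRange 156009 4401 = true := by decide +kernel
theorem chk76 : data.checkRange 160410 5768 = true := by decide +kernel
theorem chk77 : data.checkRange 166178 4763 = true := by decide +kernel
theorem chk78 : data.checkRange 170941 2797 = true := by decide +kernel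
theorem chk79 : data.checkRange 173738 5154 = true := by decide +kernel

end Cfsg.Agent.Lib.Helper4.TCY5AU15
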