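import Cfsg.Agent.Lib.Helper4.TCY5AU12 -- chain
import Cfsg.Agent.Lib.Helper4.TCY5AData
set_option autoImplicit false
set_option maxRecDepth 100000
set_option maxHeartbeats 0

namespace Cfsg.Agent.Lib.Helper4.TCY5AU16
open Cfsg.Agent.Lib.Helper28.TC2Upper Cfsg.Agent.Lib.Helper4.TCY5AData

theorem chk80 : data.checkRange 178892 5226 = true := by decide +kernel
theorem chk81 : data.checkRange 184118 3175 = true := by decide +kernel
theorem chk82 : data.checkRange 187293 1857 = true := by decide +kernel
theorem chk83 : data.checkRange 189150 2621 = true := by decide +kernel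
theorem chk84 : data.checkRange 191771 4708 = true := by decide +kernel

end Cfsg.Agent.Lib.Helper4.TCY5AU16
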