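import Cfsg.Agent.Lib.Helper4.TCY5AU13 -- chain
import Cfsg.Agent.Lib.Helper4.TCY5AData
set_option autoImplicit false
set_option maxRecDepth 100000
set_option maxHeartbeats 0

namespace Cfsg.Agent.Lib.Helper4.TCY5AU17
open Cfsg.Agent.Lib.Helper28.TC2Upper Cfsg.Agent.Lib.Helper4.TCY5AData

theorem chk85 : data.checkRange 196479 1802 = true := by decide +kernel
theorem chk86 : data.checkRange 198281 3377 = true := by decide +kernel
theorem chk87 : data.checkRange 201658 1419 = true := by decide +kernel
theorem chk88 : data.checkRange 203077 2760 = true := by decide +kernel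
theorem chk89 : data.checkRange 205837 4375 = true := by decide +kernel

end Cfsg.Agent.Lib.Helper4.TCY5AU17
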