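import Cfsg.Agent.Lib.Helper4.TCY5AU17 -- chain
import Cfsg.Agent.Lib.Helper4.TCY5AData
set_option autoImplicit false
set_option maxRecDepth 100000
set_option maxHeartbeats 0

namespace Cfsg.Agent.Lib.Helper4.TCY5AU21
open Cfsg.Agent.Lib.Helper28.TC2Upper Cfsg.Agent.Lib.Helper4.TCY5AData

theorem chk105 : data.checkRange 239366 546 = true := by decide +kernel
theorem chk106 : data.checkRange 239912 546 = true := by decide +kernel
theorem chk107 : data.checkRange 240458 546 = true := by decide +kernel
theorem chk108 : data.checkRange 241004 546 = true := by decide +kernel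
theorem chk109 : data.checkRange 241550 546 = true := by decide +kernel

end Cfsg.Agent.Lib.Helper4.TCY5AU21
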