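import Cfsg.Agent.Lib.Helper4.TCY5AU2 -- chain
import Cfsg.Agent.Lib.Helper4.TCY5AData
set_option autoImplicit false
set_option maxRecDepth 100000
set_option maxHeartbeats 0

namespace Cfsg.Agent.Lib.Helper4.TCY5AU6
open Cfsg.Agent.Lib.Helper28.TC2Upper Cfsg.Agent.Lib.Helper4.TCY5AData

theorem chk30 : data.checkRange 37941 1613 = true := by decide +kernel
theorem chk31 : data.checkRange 39554 1409 = true := by decide +kernel
theorem chk32 : data.checkRange 40963 1297 = true := by decide +kernel
theorem chk33 : data.checkRange 42260 877 = true := by decide +kernel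
theorem chk34 : data.checkRange 43137 1318 = true := by decide +kernel

end Cfsg.Agent.Lib.Helper4.TCY5AU6
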