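import Cfsg.Agent.Lib.Helper4.TCY5AU3 -- chain
import Cfsg.Agent.Lib.Helper4.TCY5AData
set_option autoImplicit false
set_option maxRecDepth 100000
set_option maxHeartbeats 0

namespace Cfsg.Agent.Lib.Helper4.TCY5AU7
open Cfsg.Agent.Lib.Helper28.TC2Upper Cfsg.Agent.Lib.Helper4.TCY5AData

theorem chk35 : data.checkRange 44455 4237 = true := by decide +kernel
theorem chk36 : data.checkRange 48692 4099 = true := by decide +kernel
theorem chk37 : data.checkRange 52791 1209 = true := by decide +kernel
theorem chk38 : data.checkRange 54000 3033 = true := by decide +kernel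
theorem chk39 : data.checkRange 57033 1403 = true := by decide +kernel

end Cfsg.Agent.Lib.Helper4.TCY5AU7
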