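import Cfsg.Agent.Lib.Helper28.TC2Glue
import Cfsg.Agent.Lib.Helper28.TC2Range
import Cfsg.Agent.Lib.Helper4.TCY5ALink
import Cfsg.Agent.Lib.Helper4.TCY5AM0
import Cfsg.Agent.Lib.Helper4.TCY5AM1
import Cfsg.Agent.Lib.Helper4.TCY5AM2
import Cfsg.Agent.Lib.Helper4.TCY5AM3
import Cfsg.Agent.Lib.Helper4.TCY5AM4
import Cfsg.Agent.Lib.Helper4.TCY5AM5
import Cfsg.Agent.Lib.Helper4.TCY5AM6
import Cfsg.Agent.Lib.Helper4.TCY5AM7
import Cfsg.Agent.Lib.Helper4.TCY5AU0
import Cfsg.Agent.Lib.Helper4.TCY5AU1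
import Cfsg.Agent.Lib.Helper4.TCY5AU2
import Cfsg.Agent.Lib.Helper4.TCY5AU3
import Cfsg.Agent.Lib.Helper4.TCY5AU4
import Cfsg.Agent.Lib.Helper4.TCY5AU5
import Cfsg.Agent.Lib.Helper4.TCY5AU6
import Cfsg.Agent.Lib.Helper4.TCY5AU7
import Cfsg.Agent.Lib.Helper4.TCY5AU8
import Cfsg.Agent.Lib.Helper4.TCY5AU9
import Cfsg.Agent.Lib.Helper4.TCY5AU10
import Cfsg.Agent.Lib.Helper4.TCY5AU11
import Cfsg.Agent.Lib.Helper4.TCY5AU12
import Cfsg.Agent.Lib.Helper4.TCY5AU13
import Cfsg.Agent.Lib.Helper4.TCY5AU14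
import Cfsg.Agent.Lib.Helper4.TCY5AU15
import Cfsg.Agent.Lib.Helper4.TCY5AU16
import Cfsg.Agent.Lib.Helper4.TCY5AU17
import Cfsg.Agent.Lib.Helper4.TCY5AU18
import Cfsg.Agent.Lib.Helper4.TCY5AU19
import Cfsg.Agent.Lib.Helper4.TCY5AU20
import Cfsg.Agent.Lib.Helper4.TCY5AU21
import Cfsg.Agent.Lib.Helper4.TCY5AU22
import Cfsg.Agent.Lib.Helper4.TCY5AU23

set_option autoImplicit false
set_option maxRecDepth 100000
open Cfsg

namespace Cfsg.Agent.Lib.Helper4.TCY5AMain
open Cfsg.Agent.Lib.Helper28.TC2Upper Cfsg.Agent.Lib.Helper28.TC2Lower Cfsg.Agent.Lib.Helper28.TC2Glue Cfsg.Agent.Lib.Helper28.TC2Range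
open Cfsg.Agent.Lib.Helper4.TCY5AData Cfsg.Agent.Lib.Helper4.TCY5ATable Cfsg.Agent.Lib.Helper4.TCY5ALink

theorem hchk : ∀ v, v < data.N → data.checkNode v = true := by
  intro v hv
  have hv' : v < 245110 := hv
  rcases Nat.lt_or_ge v 548 with h0 | h0
  · exact (data.checkRange_iff 0 548).mp Cfsg.Agent.Lib.Helper4.TCY5AU0.chk0 v (by omega) (by omega)
  rcases Nat.lt_or_ge v 1147 with h1 | h1
  · exact (data.checkRange_iff 548 599).mp Cfsg.Agent.Lib.Helper4.TCY5AU0.chk1 v (by omega) (by omega)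
  rcases Nat.lt_or_ge v 1823 with h2 | h2
  · exact (data.checkRange_iff 1147 676).mp Cfsg.Agent.Lib.Helper4.TCY5AU0.chk2 v (by omega) (by omega)
  rcases Nat.lt_or_ge v 2548 with h3 | h3
  · exact (data.checkRange_iff 1823 725).mp Cfsg.Agent.Lib.Helper4.TCY5AU0.chk3 v (by omega) (by omega)
  rcases Nat.lt_or_ge v 3277 with h4 | h4
  · exact (data.checkRange_iff 2548 729).mp Cfsg.Agent.Lib.Helper4.TCY5AU0.chk4 v (by omega) (by omega)
  rcases Nat.lt_or_ge v 4089 with h5 | h5
  · exact (data.checkRange_iff 3277 812).mp Cfsg.Agent.Lib.Helper4.TCY5AU1.chk5 v (by omega) (by omega)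
  rcases Nat.lt_or_ge v 4997 with h6 | h6
  · exact (data.checkRange_iff 4089 908).mp Cfsg.Agent.Lib.Helper4.TCY5AU1.chk6 v (by omega) (by omega)
  rcases Nat.lt_or_ge v 5865 with h7 | h7
  · exact (data.checkRange_iff 4997 868).mp Cfsg.Agent.Lib.Helper4.TCY5AU1.chk7 v (by omega) (by omega)
  rcases Nat.lt_or_ge v 6721 with h8 | h8
  · exact (data.checkRange_iff 5865 856).mp Cfsg.Agent.Lib.Helper4.TCY5AU1.chk8 v (by omega) (by omega)
  rcases Nat.lt_or_ge v 7821 with h9 | h9
  · exact (data.checkRange_iff 6721 1100).mp Cfsg.Agent.Lib.Helper4.TCY5AU1.chk9 v (by omega) (by omega)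
  rcases Nat.lt_or_ge v 8798 with h10 | h10
  · exact (data.checkRange_iff 7821 977).mp Cfsg.Agent.Lib.Helper4.TCY5AU2.chk10 v (by omega) (by omega)
  rcases Nat.lt_or_ge v 9644 with h11 | h11
  · exact (data.checkRange_iff 8798 846).mp Cfsg.Agent.Lib.Helper4.TCY5AU2.chk11 v (by omega) (by omega)
  rcases Nat.lt_or_ge v 11304 with h12 | h12
  · exact (data.checkRange_iff 9644 1660).mp Cfsg.Agent.Lib.Helper4.TCY5AU2.chk12 v (by omega) (by omega)
  rcases Nat.lt_or_ge v 12296 with h13 | h13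
  · exact (data.checkRange_iff 11304 992).mp Cfsg.Agent.Lib.Helper4.TCY5AU2.chk13 v (by omega) (by omega)
  rcases Nat.lt_or_ge v 13208 with h14 | h14
  · exact (data.checkRange_iff 12296 912).mp Cfsg.Agent.Lib.Helper4.TCY5AU2.chk14 v (by omega) (by omega)
  rcases Nat.lt_or_ge v 14489 with h15 | h15
  · exact (data.checkRange_iff 13208 1281).mp Cfsg.Agent.Lib.Helper4.TCY5AU3.chk15 v (by omega) (by omega)
  rcases Nat.lt_or_ge v 16529 with h16 | h16
  · exact (data.checkRange_iff 14489 2040).mp Cfsg.Agent.Lib.Helper4.TCY5AU3.chk16 v (by omega) (by omega)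
  rcases Nat.lt_or_ge v 17809 with h17 | h17
  · exact (data.checkRange_iff 16529 1280).mp Cfsg.Agent.Lib.Helper4.TCY5AU3.chk17 v (by omega) (by omega)
  rcases Nat.lt_or_ge v 18864 with h18 | h18
  · exact (data.checkRange_iff 17809 1055).mp Cfsg.Agent.Lib.Helper4.TCY5AU3.chk18 v (by omega) (by omega)
  rcases Nat.lt_or_ge v 19734 with h19 | h19
  · exact (data.checkRange_iff 18864 870).mp Cfsg.Agent.Lib.Helper4.TCY5AU3.chk19 v (by omega) (by omega)
  rcases Nat.lt_or_ge v 21418 with h20 | h20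
  · exact (data.checkRange_iff 19734 1684).mp Cfsg.Agent.Lib.Helper4.TCY5AU4.chk20 v (by omega) (by omega)
  rcases Nat.lt_or_ge v 24198 with h21 | h21
  · exact (data.checkRange_iff 21418 2780).mp Cfsg.Agent.Lib.Helper4.TCY5AU4.chk21 v (by omega) (by omega)
  rcases Nat.lt_or_ge v 25487 with h22 | h22
  · exact (data.checkRange_iff 24198 1289).mp Cfsg.Agent.Lib.Helper4.TCY5AU4.chk22 v (by omega) (by omega)
  rcases Nat.lt_or_ge v 26822 with h23 | h23
  · exact (data.checkRange_iff 25487 1335).mp Cfsg.Agent.Lib.Helper4.TCY5AU4.chk23 v (by omega) (by omega)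
  rcases Nat.lt_or_ge v 28092 with h24 | h24
  · exact (data.checkRange_iff 26822 1270).mp Cfsg.Agent.Lib.Helper4.TCY5AU4.chk24 v (by omega) (by omega)
  rcases Nat.lt_or_ge v 29026 with h25 | h25
  · exact (data.checkRange_iff 28092 934).mp Cfsg.Agent.Lib.Helper4.TCY5AU5.chk25 v (by omega) (by omega)
  rcases Nat.lt_or_ge v 30101 with h26 | h26
  · exact (data.checkRange_iff 29026 1075).mp Cfsg.Agent.Lib.Helper4.TCY5AU5.chk26 v (by omega) (by omega)
  rcases Nat.lt_or_ge v 33707 with h27 | h27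
  · exact (data.checkRange_iff 30101 3606).mp Cfsg.Agent.Lib.Helper4.TCY5AU5.chk27 v (by omega) (by omega)
  rcases Nat.lt_or_ge v 36322 with h28 | h28
  · exact (data.checkRange_iff 33707 2615).mp Cfsg.Agent.Lib.Helper4.TCY5AU5.chk28 v (by omega) (by omega)
  rcases Nat.lt_or_ge v 37941 with h29 | h29
  · exact (data.checkRange_iff 36322 1619).mp Cfsg.Agent.Lib.Helper4.TCY5AU5.chk29 v (by omega) (by omega)
  rcases Nat.lt_or_ge v 39554 with h30 | h30
  · exact (data.checkRange_iff 37941 1613).mp Cfsg.Agent.Lib.Helper4.TCY5AU6.chk30 v (by omega) (by omega)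
  rcases Nat.lt_or_ge v 40963 with h31 | h31
  · exact (data.checkRange_iff 39554 1409).mp Cfsg.Agent.Lib.Helper4.TCY5AU6.chk31 v (by omega) (by omega)
  rcases Nat.lt_or_ge v 42260 with h32 | h32
  · exact (data.checkRange_iff 40963 1297).mp Cfsg.Agent.Lib.Helper4.TCY5AU6.chk32 v (by omega) (by omega)
  rcases Nat.lt_or_ge v 43137 with h33 | h33
  · exact (data.checkRange_iff 42260 877).mp Cfsg.Agent.Lib.Helper4.TCY5AU6.chk33 v (by omega) (by omega)
  rcases Nat.lt_or_ge v 44455 with h34 | h34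
  · exact (data.checkRange_iff 43137 1318).mp Cfsg.Agent.Lib.Helper4.TCY5AU6.chk34 v (by omega) (by omega)
  rcases Nat.lt_or_ge v 48692 with h35 | h35
  · exact (data.checkRange_iff 44455 4237).mp Cfsg.Agent.Lib.Helper4.TCY5AU7.chk35 v (by omega) (by omega)
  rcases Nat.lt_or_ge v 52791 with h36 | h36
  · exact (data.checkRange_iff 48692 4099).mp Cfsg.Agent.Lib.Helper4.TCY5AU7.chk36 v (by omega) (by omega)
  rcases Nat.lt_or_ge v 54000 with h37 | h37
  · exact (data.checkRange_iff 52791 1209).mp Cfsg.Agent.Lib.Helper4.TCY5AU7.chk37 v (by omega) (by omega)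
  rcases Nat.lt_or_ge v 57033 with h38 | h38
  · exact (data.checkRange_iff 54000 3033).mp Cfsg.Agent.Lib.Helper4.TCY5AU7.chk38 v (by omega) (by omega)
  rcases Nat.lt_or_ge v 58436 with h39 | h39
  · exact (data.checkRange_iff 57033 1403).mp Cfsg.Agent.Lib.Helper4.TCY5AU7.chk39 v (by omega) (by omega)
  rcases Nat.lt_or_ge v 59499 with h40 | h40
  · exact (data.checkRange_iff 58436 1063).mp Cfsg.Agent.Lib.Helper4.TCY5AU8.chk40 v (by omega) (by omega)
  rcases Nat.lt_or_ge v 61415 with h41 | h41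
  · exact (data.checkRange_iff 59499 1916).mp Cfsg.Agent.Lib.Helper4.TCY5AU8.chk41 v (by omega) (by omega)
  rcases Nat.lt_or_ge v 62701 with h42 | h42
  · exact (data.checkRange_iff 61415 1286).mp Cfsg.Agent.Lib.Helper4.TCY5AU8.chk42 v (by omega) (by omega)
  rcases Nat.lt_or_ge v 63828 with h43 | h43
  · exact (data.checkRange_iff 62701 1127).mp Cfsg.Agent.Lib.Helper4.TCY5AU8.chk43 v (by omega) (by omega)
  rcases Nat.lt_or_ge v 65568 with h44 | h44
  · exact (data.checkRange_iff 63828 1740).mp Cfsg.Agent.Lib.Helper4.TCY5AU8.chk44 v (by omega) (by omega)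
  rcases Nat.lt_or_ge v 70765 with h45 | h45
  · exact (data.checkRange_iff 65568 5197).mp Cfsg.Agent.Lib.Helper4.TCY5AU9.chk45 v (by omega) (by omega)
  rcases Nat.lt_or_ge v 74741 with h46 | h46
  · exact (data.checkRange_iff 70765 3976).mp Cfsg.Agent.Lib.Helper4.TCY5AU9.chk46 v (by omega) (by omega)
  rcases Nat.lt_or_ge v 78460 with h47 | h47
  · exact (data.checkRange_iff 74741 3719).mp Cfsg.Agent.Lib.Helper4.TCY5AU9.chk47 v (by omega) (by omega)
  rcases Nat.lt_or_ge v 80040 with h48 | h48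
  · exact (data.checkRange_iff 78460 1580).mp Cfsg.Agent.Lib.Helper4.TCY5AU9.chk48 v (by omega) (by omega)
  rcases Nat.lt_or_ge v 83647 with h49 | h49
  · exact (data.checkRange_iff 80040 3607).mp Cfsg.Agent.Lib.Helper4.TCY5AU9.chk49 v (by omega) (by omega)
  rcases Nat.lt_or_ge v 85986 with h50 | h50
  · exact (data.checkRange_iff 83647 2339).mp Cfsg.Agent.Lib.Helper4.TCY5AU10.chk50 v (by omega) (by omega)
  rcases Nat.lt_or_ge v 86844 with h51 | h51
  · exact (data.checkRange_iff 85986 858).mp Cfsg.Agent.Lib.Helper4.TCY5AU10.chk51 v (by omega) (by omega)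
  rcases Nat.lt_or_ge v 89374 with h52 | h52
  · exact (data.checkRange_iff 86844 2530).mp Cfsg.Agent.Lib.Helper4.TCY5AU10.chk52 v (by omega) (by omega)
  rcases Nat.lt_or_ge v 90816 with h53 | h53
  · exact (data.checkRange_iff 89374 1442).mp Cfsg.Agent.Lib.Helper4.TCY5AU10.chk53 v (by omega) (by omega)
  rcases Nat.lt_or_ge v 92563 with h54 | h54
  · exact (data.checkRange_iff 90816 1747).mp Cfsg.Agent.Lib.Helper4.TCY5AU10.chk54 v (by omega) (by omega)
  rcases Nat.lt_or_ge v 93706 with h55 | h55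
  · exact (data.checkRange_iff 92563 1143).mp Cfsg.Agent.Lib.Helper4.TCY5AU11.chk55 v (by omega) (by omega)
  rcases Nat.lt_or_ge v 95998 with h56 | h56
  · exact (data.checkRange_iff 93706 2292).mp Cfsg.Agent.Lib.Helper4.TCY5AU11.chk56 v (by omega) (by omega)
  rcases Nat.lt_or_ge v 99791 with h57 | h57
  · exact (data.checkRange_iff 95998 3793).mp Cfsg.Agent.Lib.Helper4.TCY5AU11.chk57 v (by omega) (by omega)
  rcases Nat.lt_or_ge v 105393 with h58 | h58
  · exact (data.checkRange_iff 99791 5602).mp Cfsg.Agent.Lib.Helper4.TCY5AU11.chk58 v (by omega) (by omega)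
  rcases Nat.lt_or_ge v 109261 with h59 | h59
  · exact (data.checkRange_iff 105393 3868).mp Cfsg.Agent.Lib.Helper4.TCY5AU11.chk59 v (by omega) (by omega)
  rcases Nat.lt_or_ge v 114289 with h60 | h60
  · exact (data.checkRange_iff 109261 5028).mp Cfsg.Agent.Lib.Helper4.TCY5AU12.chk60 v (by omega) (by omega)
  rcases Nat.lt_or_ge v 117095 with h61 | h61
  · exact (data.checkRange_iff 114289 2806).mp Cfsg.Agent.Lib.Helper4.TCY5AU12.chk61 v (by omega) (by omega)
  rcases Nat.lt_or_ge v 119624 with h62 | h62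
  · exact (data.checkRange_iff 117095 2529).mp Cfsg.Agent.Lib.Helper4.TCY5AU12.chk62 v (by omega) (by omega)
  rcases Nat.lt_or_ge v 124386 with h63 | h63
  · exact (data.checkRange_iff 119624 4762).mp Cfsg.Agent.Lib.Helper4.TCY5AU12.chk63 v (by omega) (by omega)
  rcases Nat.lt_or_ge v 126815 with h64 | h64
  · exact (data.checkRange_iff 124386 2429).mp Cfsg.Agent.Lib.Helper4.TCY5AU12.chk64 v (by omega) (by omega)
  rcases Nat.lt_or_ge v 128037 with h65 | h65
  · exact (data.checkRange_iff 126815 1222).mp Cfsg.Agent.Lib.Helper4.TCY5AU13.chk65 v (by omega) (by omega)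
  rcases Nat.lt_or_ge v 129874 with h66 | h66
  · exact (data.checkRange_iff 128037 1837).mp Cfsg.Agent.Lib.Helper4.TCY5AU13.chk66 v (by omega) (by omega)
  rcases Nat.lt_or_ge v 133170 with h67 | h67
  · exact (data.checkRange_iff 129874 3296).mp Cfsg.Agent.Lib.Helper4.TCY5AU13.chk67 v (by omega) (by omega)
  rcases Nat.lt_or_ge v 134401 with h68 | h68
  · exact (data.checkRange_iff 133170 1231).mp Cfsg.Agent.Lib.Helper4.TCY5AU13.chk68 v (by omega) (by omega)
  rcases Nat.lt_or_ge v 136843 with h69 | h69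
  · exact (data.checkRange_iff 134401 2442).mp Cfsg.Agent.Lib.Helper4.TCY5AU13.chk69 v (by omega) (by omega)
  rcases Nat.lt_or_ge v 137921 with h70 | h70
  · exact (data.checkRange_iff 136843 1078).mp Cfsg.Agent.Lib.Helper4.TCY5AU14.chk70 v (by omega) (by omega)
  rcases Nat.lt_or_ge v 141146 with h71 | h71
  · exact (data.checkRange_iff 137921 3225).mp Cfsg.Agent.Lib.Helper4.TCY5AU14.chk71 v (by omega) (by omega)
  rcases Nat.lt_or_ge v 144717 with h72 | h72
  · exact (data.checkRange_iff 141146 3571).mp Cfsg.Agent.Lib.Helper4.TCY5AU14.chk72 v (by omega) (by omega)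
  rcases Nat.lt_or_ge v 150582 with h73 | h73
  · exact (data.checkRange_iff 144717 5865).mp Cfsg.Agent.Lib.Helper4.TCY5AU14.chk73 v (by omega) (by omega)
  rcases Nat.lt_or_ge v 156009 with h74 | h74
  · exact (data.checkRange_iff 150582 5427).mp Cfsg.Agent.Lib.Helper4.TCY5AU14.chk74 v (by omega) (by omega)
  rcases Nat.lt_or_ge v 160410 with h75 | h75
  · exact (data.checkRange_iff 156009 4401).mp Cfsg.Agent.Lib.Helper4.TCY5AU15.chk75 v (by omega) (by omega)
  rcases Nat.lt_or_ge v 166178 with h76 | h76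
  · exact (data.checkRange_iff 160410 5768).mp Cfsg.Agent.Lib.Helper4.TCY5AU15.chk76 v (by omega) (by omega)
  rcases Nat.lt_or_ge v 170941 with h77 | h77
  · exact (data.checkRange_iff 166178 4763).mp Cfsg.Agent.Lib.Helper4.TCY5AU15.chk77 v (by omega) (by omega)
  rcases Nat.lt_or_ge v 173738 with h78 | h78
  · exact (data.checkRange_iff 170941 2797).mp Cfsg.Agent.Lib.Helper4.TCY5AU15.chk78 v (by omega) (by omega)
  rcases Nat.lt_or_ge v 178892 with h79 | h79
  · exact (data.checkRange_iff 173738 5154).mp Cfsg.Agent.Lib.Helper4.TCY5AU15.chk79 v (by omega) (by omega)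
  rcases Nat.lt_or_ge v 184118 with h80 | h80
  · exact (data.checkRange_iff 178892 5226).mp Cfsg.Agent.Lib.Helper4.TCY5AU16.chk80 v (by omega) (by omega)
  rcases Nat.lt_or_ge v 187293 with h81 | h81
  · exact (data.checkRange_iff 184118 3175).mp Cfsg.Agent.Lib.Helper4.TCY5AU16.chk81 v (by omega) (by omega)
  rcases Nat.lt_or_ge v 189150 with h82 | h82
  · exact (data.checkRange_iff 187293 1857).mp Cfsg.Agent.Lib.Helper4.TCY5AU16.chk82 v (by omega) (by omega)
  rcases Nat.lt_or_ge v 191771 with h83 | h83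
  · exact (data.checkRange_iff 189150 2621).mp Cfsg.Agent.Lib.Helper4.TCY5AU16.chk83 v (by omega) (by omega)
  rcases Nat.lt_or_ge v 196479 with h84 | h84
  · exact (data.checkRange_iff 191771 4708).mp Cfsg.Agent.Lib.Helper4.TCY5AU16.chk84 v (by omega) (by omega)
  rcases Nat.lt_or_ge v 198281 with h85 | h85
  · exact (data.checkRange_iff 196479 1802).mp Cfsg.Agent.Lib.Helper4.TCY5AU17.chk85 v (by omega) (by omega)
  rcases Nat.lt_or_ge v 201658 with h86 | h86
  · exact (data.checkRange_iff 198281 3377).mp Cfsg.Agent.Lib.Helper4.TCY5AU17.chk86 v (by omega) (by omega)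
  rcases Nat.lt_or_ge v 203077 with h87 | h87
  · exact (data.checkRange_iff 201658 1419).mp Cfsg.Agent.Lib.Helper4.TCY5AU17.chk87 v (by omega) (by omega)
  rcases Nat.lt_or_ge v 205837 with h88 | h88
  · exact (data.checkRange_iff 203077 2760).mp Cfsg.Agent.Lib.Helper4.TCY5AU17.chk88 v (by omega) (by omega)
  rcases Nat.lt_or_ge v 210212 with h89 | h89
  · exact (data.checkRange_iff 205837 4375).mp Cfsg.Agent.Lib.Helper4.TCY5AU17.chk89 v (by omega) (by omega)
  rcases Nat.lt_or_ge v 215818 with h90 | h90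
  · exact (data.checkRange_iff 210212 5606).mp Cfsg.Agent.Lib.Helper4.TCY5AU18.chk90 v (by omega) (by omega)
  rcases Nat.lt_or_ge v 221785 with h91 | h91
  · exact (data.checkRange_iff 215818 5967).mp Cfsg.Agent.Lib.Helper4.TCY5AU18.chk91 v (by omega) (by omega)
  rcases Nat.lt_or_ge v 227662 with h92 | h92
  · exact (data.checkRange_iff 221785 5877).mp Cfsg.Agent.Lib.Helper4.TCY5AU18.chk92 v (by omega) (by omega)
  rcases Nat.lt_or_ge v 232722 with h93 | h93
  · exact (data.checkRange_iff 227662 5060).mp Cfsg.Agent.Lib.Helper4.TCY5AU18.chk93 v (by omega) (by omega)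
  rcases Nat.lt_or_ge v 233906 with h94 | h94
  · exact (data.checkRange_iff 232722 1184).mp Cfsg.Agent.Lib.Helper4.TCY5AU18.chk94 v (by omega) (by omega)
  rcases Nat.lt_or_ge v 234452 with h95 | h95
  · exact (data.checkRange_iff 233906 546).mp Cfsg.Agent.Lib.Helper4.TCY5AU19.chk95 v (by omega) (by omega)
  rcases Nat.lt_or_ge v 234998 with h96 | h96
  · exact (data.checkRange_iff 234452 546).mp Cfsg.Agent.Lib.Helper4.TCY5AU19.chk96 v (by omega) (by omega)
  rcases Nat.lt_or_ge v 235544 with h97 | h97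
  · exact (data.checkRange_iff 234998 546).mp Cfsg.Agent.Lib.Helper4.TCY5AU19.chk97 v (by omega) (by omega)
  rcases Nat.lt_or_ge v 236090 with h98 | h98
  · exact (data.checkRange_iff 235544 546).mp Cfsg.Agent.Lib.Helper4.TCY5AU19.chk98 v (by omega) (by omega)
  rcases Nat.lt_or_ge v 236636 with h99 | h99
  · exact (data.checkRange_iff 236090 546).mp Cfsg.Agent.Lib.Helper4.TCY5AU19.chk99 v (by omega) (by omega)
  rcases Nat.lt_or_ge v 237182 with h100 | h100
  · exact (data.checkRange_iff 236636 546).mp Cfsg.Agent.Lib.Helper4.TCY5AU20.chk100 v (by omega) (by omega)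
  rcases Nat.lt_or_ge v 237728 with h101 | h101
  · exact (data.checkRange_iff 237182 546).mp Cfsg.Agent.Lib.Helper4.TCY5AU20.chk101 v (by omega) (by omega)
  rcases Nat.lt_or_ge v 238274 with h102 | h102
  · exact (data.checkRange_iff 237728 546).mp Cfsg.Agent.Lib.Helper4.TCY5AU20.chk102 v (by omega) (by omega)
  rcases Nat.lt_or_ge v 238820 with h103 | h103
  · exact (data.checkRange_iff 238274 546).mp Cfsg.Agent.Lib.Helper4.TCY5AU20.chk103 v (by omega) (by omega)
  rcases Nat.lt_or_ge v 239366 with h104 | h104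
  · exact (data.checkRange_iff 238820 546).mp Cfsg.Agent.Lib.Helper4.TCY5AU20.chk104 v (by omega) (by omega)
  rcases Nat.lt_or_ge v 239912 with h105 | h105
  · exact (data.checkRange_iff 239366 546).mp Cfsg.Agent.Lib.Helper4.TCY5AU21.chk105 v (by omega) (by omega)
  rcases Nat.lt_or_ge v 240458 with h106 | h106
  · exact (data.checkRange_iff 239912 546).mp Cfsg.Agent.Lib.Helper4.TCY5AU21.chk106 v (by omega) (by omega)
  rcases Nat.lt_or_ge v 241004 with h107 | h107
  · exact (data.checkRange_iff 240458 546).mp Cfsg.Agent.Lib.Helper4.TCY5AU21.chk107 v (by omega) (by omega)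
  rcases Nat.lt_or_ge v 241550 with h108 | h108
  · exact (data.checkRange_iff 241004 546).mp Cfsg.Agent.Lib.Helper4.TCY5AU21.chk108 v (by omega) (by omega)
  rcases Nat.lt_or_ge v 242096 with h109 | h109
  · exact (data.checkRange_iff 241550 546).mp Cfsg.Agent.Lib.Helper4.TCY5AU21.chk109 v (by omega) (by omega)
  rcases Nat.lt_or_ge v 242642 with h110 | h110
  · exact (data.checkRange_iff 242096 546).mp Cfsg.Agent.Lib.Helper4.TCY5AU22.chk110 v (by omega) (by omega)
  rcases Nat.lt_or_ge v 243188 with h111 | h111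
  · exact (data.checkRange_iff 242642 546).mp Cfsg.Agent.Lib.Helper4.TCY5AU22.chk111 v (by omega) (by omega)
  rcases Nat.lt_or_ge v 243734 with h112 | h112
  · exact (data.checkRange_iff 243188 546).mp Cfsg.Agent.Lib.Helper4.TCY5AU22.chk112 v (by omega) (by omega)
  rcases Nat.lt_or_ge v 244280 with h113 | h113
  · exact (data.checkRange_iff 243734 546).mp Cfsg.Agent.Lib.Helper4.TCY5AU22.chk113 v (by omega) (by omega)
  rcases Nat.lt_or_ge v 244826 with h114 | h114
  · exact (data.checkRange_iff 244280 546).mp Cfsg.Agent.Lib.Helper4.TCY5AU22.chk114 v (by omega) (by omega)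
  exact (data.checkRange_iff 244826 284).mp Cfsg.Agent.Lib.Helper4.TCY5AU23.chk115 v (by omega) (by omega)

theorem hrows : ∀ v, v < data.N → Data.rowOK data v = true := by
  intro v hv
  have hv' : v < 245110 := hv
  rcases Nat.lt_or_ge v 8333 with h0 | h0
  · exact (Data.finalRange_iff data 0 8333).mp Cfsg.Agent.Lib.Helper4.TCY5AM0.fin0 v (by omega) (by omega)
  rcases Nat.lt_or_ge v 16666 with h1 | h1
  · exact (Data.finalRange_iff data 8333 8333).mp Cfsg.Agent.Lib.Helper4.TCY5AM0.fin1 v (by omega) (by omega)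
  rcases Nat.lt_or_ge v 24999 with h2 | h2
  · exact (Data.finalRange_iff data 16666 8333).mp Cfsg.Agent.Lib.Helper4.TCY5AM0.fin2 v (by omega) (by omega)
  rcases Nat.lt_or_ge v 33332 with h3 | h3
  · exact (Data.finalRange_iff data 24999 8333).mp Cfsg.Agent.Lib.Helper4.TCY5AM0.fin3 v (by omega) (by omega)
  rcases Nat.lt_or_ge v 41665 with h4 | h4
  · exact (Data.finalRange_iff data 33332 8333).mp Cfsg.Agent.Lib.Helper4.TCY5AM0.fin4 v (by omega) (by omega)
  rcases Nat.lt_or_ge v 49998 with h5 | h5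
  · exact (Data.finalRange_iff data 41665 8333).mp Cfsg.Agent.Lib.Helper4.TCY5AM1.fin5 v (by omega) (by omega)
  rcases Nat.lt_or_ge v 58331 with h6 | h6
  · exact (Data.finalRange_iff data 49998 8333).mp Cfsg.Agent.Lib.Helper4.TCY5AM1.fin6 v (by omega) (by omega)
  rcases Nat.lt_or_ge v 66664 with h7 | h7
  · exact (Data.finalRange_iff data 58331 8333).mp Cfsg.Agent.Lib.Helper4.TCY5AM1.fin7 v (by omega) (by omega)
  rcases Nat.lt_or_ge v 74997 with h8 | h8
  · exact (Data.finalRange_iff data 66664 8333).mp Cfsg.Agent.Lib.Helper4.TCY5AM1.fin8 v (by omega) (by omega)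
  rcases Nat.lt_or_ge v 83330 with h9 | h9
  · exact (Data.finalRange_iff data 74997 8333).mp Cfsg.Agent.Lib.Helper4.TCY5AM1.fin9 v (by omega) (by omega)
  rcases Nat.lt_or_ge v 91663 with h10 | h10
  · exact (Data.finalRange_iff data 83330 8333).mp Cfsg.Agent.Lib.Helper4.TCY5AM2.fin10 v (by omega) (by omega)
  rcases Nat.lt_or_ge v 99996 with h11 | h11
  · exact (Data.finalRange_iff data 91663 8333).mp Cfsg.Agent.Lib.Helper4.TCY5AM2.fin11 v (by omega) (by omega)
  rcases Nat.lt_or_ge v 108329 with h12 | h12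
  · exact (Data.finalRange_iff data 99996 8333).mp Cfsg.Agent.Lib.Helper4.TCY5AM2.fin12 v (by omega) (by omega)
  rcases Nat.lt_or_ge v 116662 with h13 | h13
  · exact (Data.finalRange_iff data 108329 8333).mp Cfsg.Agent.Lib.Helper4.TCY5AM2.fin13 v (by omega) (by omega)
  rcases Nat.lt_or_ge v 124995 with h14 | h14
  · exact (Data.finalRange_iff data 116662 8333).mp Cfsg.Agent.Lib.Helper4.TCY5AM2.fin14 v (by omega) (by omega)
  rcases Nat.lt_or_ge v 133328 with h15 | h15
  · exact (Data.finalRange_iff data 124995 8333).mp Cfsg.Agent.Lib.Helper4.TCY5AM3.fin15 v (by omega) (by omega)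
  rcases Nat.lt_or_ge v 141661 with h16 | h16
  · exact (Data.finalRange_iff data 133328 8333).mp Cfsg.Agent.Lib.Helper4.TCY5AM3.fin16 v (by omega) (by omega)
  rcases Nat.lt_or_ge v 149994 with h17 | h17
  · exact (Data.finalRange_iff data 141661 8333).mp Cfsg.Agent.Lib.Helper4.TCY5AM3.fin17 v (by omega) (by omega)
  rcases Nat.lt_or_ge v 158327 with h18 | h18
  · exact (Data.finalRange_iff data 149994 8333).mp Cfsg.Agent.Lib.Helper4.TCY5AM3.fin18 v (by omega) (by omega)
  rcases Nat.lt_or_ge v 166660 with h19 | h19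
  · exact (Data.finalRange_iff data 158327 8333).mp Cfsg.Agent.Lib.Helper4.TCY5AM3.fin19 v (by omega) (by omega)
  rcases Nat.lt_or_ge v 174993 with h20 | h20
  · exact (Data.finalRange_iff data 166660 8333).mp Cfsg.Agent.Lib.Helper4.TCY5AM4.fin20 v (by omega) (by omega)
  rcases Nat.lt_or_ge v 183326 with h21 | h21
  · exact (Data.finalRange_iff data 174993 8333).mp Cfsg.Agent.Lib.Helper4.TCY5AM4.fin21 v (by omega) (by omega)
  rcases Nat.lt_or_ge v 191659 with h22 | h22
  · exact (Data.finalRange_iff data 183326 8333).mp Cfsg.Agent.Lib.Helper4.TCY5AM4.fin22 v (by omega) (by omega)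
  rcases Nat.lt_or_ge v 199992 with h23 | h23
  · exact (Data.finalRange_iff data 191659 8333).mp Cfsg.Agent.Lib.Helper4.TCY5AM4.fin23 v (by omega) (by omega)
  rcases Nat.lt_or_ge v 208325 with h24 | h24
  · exact (Data.finalRange_iff data 199992 8333).mp Cfsg.Agent.Lib.Helper4.TCY5AM4.fin24 v (by omega) (by omega)
  rcases Nat.lt_or_ge v 216658 with h25 | h25
  · exact (Data.finalRange_iff data 208325 8333).mp Cfsg.Agent.Lib.Helper4.TCY5AM5.fin25 v (by omega) (by omega)
  rcases Nat.lt_or_ge v 224991 with h26 | h26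
  · exact (Data.finalRange_iff data 216658 8333).mp Cfsg.Agent.Lib.Helper4.TCY5AM5.fin26 v (by omega) (by omega)
  rcases Nat.lt_or_ge v 233324 with h27 | h27
  · exact (Data.finalRange_iff data 224991 8333).mp Cfsg.Agent.Lib.Helper4.TCY5AM5.fin27 v (by omega) (by omega)
  rcases Nat.lt_or_ge v 241657 with h28 | h28
  · exact (Data.finalRange_iff data 233324 8333).mp Cfsg.Agent.Lib.Helper4.TCY5AM5.fin28 v (by omega) (by omega)
  exact (Data.finalRange_iff data 241657 3453).mp Cfsg.Agent.Lib.Helper4.TCY5AM5.fin29 v (by omega) (by omega)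

theorem hfin : data.finalOK = true := Data.finalOK_of_rows data Cfsg.Agent.Lib.Helper4.TCY5AM7.hlive0 (by decide) hrows

theorem pc0 : Data.countFrom data 0 40000 = 10596 := Cfsg.Agent.Lib.Helper4.TCY5AM6.cnt0
theorem pc1 : Data.countFrom data 0 80000 = 14122 := Data.countFrom_step data pc0 Cfsg.Agent.Lib.Helper4.TCY5AM6.cnt1 (by norm_num) (by norm_num)
theorem pc2 : Data.countFrom data 0 120000 = 16274 := Data.countFrom_step data pc1 Cfsg.Agent.Lib.Helper4.TCY5AM6.cnt2 (by norm_num) (by norm_num)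
theorem pc3 : Data.countFrom data 0 160000 = 18078 := Data.countFrom_step data pc2 Cfsg.Agent.Lib.Helper4.TCY5AM6.cnt3 (by norm_num) (by norm_num)
theorem pc4 : Data.countFrom data 0 200000 = 19452 := Data.countFrom_step data pc3 Cfsg.Agent.Lib.Helper4.TCY5AM6.cnt4 (by norm_num) (by norm_num)
theorem pc5 : Data.countFrom data 0 240000 = 26561 := Data.countFrom_step data pc4 Cfsg.Agent.Lib.Helper4.TCY5AM7.cnt5 (by norm_num) (by norm_num)
theorem pc6 : Data.countFrom data 0 245110 = 31671 := Data.countFrom_step data pc5 Cfsg.Agent.Lib.Helper4.TCY5AM7.cnt6 (by norm_num) (by norm_num)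

theorem hcount : data.countLive = 31671 := by
  rw [Data.countLive_eq]
  exact pc6

/-- the upper bound for the index -/
theorem mainU : Finite (PresentedGroup rels ⧸ (Subgroup.closure S).map (PresentedGroup.mk rels)) ∧
    Nat.card (PresentedGroup rels ⧸ (Subgroup.closure S).map (PresentedGroup.mk rels)) ≤ 31671 := by
  have h := upper link hchk hfin
  rw [hcount] at h
  exact h

end Cfsg.Agent.Lib.Helper4.TCY5AMain
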