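import Cfsg.Agent.Lib.Helper28.TC2Upper
import Cfsg.Agent.Lib.Helper4.TCY5BDataC0
set_option autoImplicit false
set_option maxRecDepth 100000

namespace Cfsg.Agent.Lib.Helper4.TCY5BData
open Cfsg.Agent.Lib.Helper28.TC2Upper

/-- relators -/
def relT : BT (ℕ × List ℕ × List ℕ) := (BT.node 50 (BT.node 25 (BT.node 12 (BT.node 6 (BT.node 3 (BT.node 1 (BT.node 0 (BT.leaf (2, [0, 0], [0, 0])) (BT.leaf (6, [1, 0, 1, 0, 1, 0], [0, 1, 0, 1, 0, 1]))) (BT.node 2 (BT.leaf (4, [2, 0, 2, 0], [0, 2, 0, 2])) (BT.leaf (4, [3, 0, 3, 0], [0, 3, 0, 3])))) (BT.node 5 (BT.node 4 (BT.leaf (4, [4, 0, 4, 0], [0, 4, 0, 4])) (BT.leaf (6, [6, 0, 6, 0, 6, 0], [0, 6, 0, 6, 0, 6]))) (BT.leaf (6, [8, 0, 8, 0, 8, 0], [0, 8, 0, 8, 0, 8])))) (BT.node 9 (BT.node 8 (BT.node 7 (BT.leaf (4, [5, 0, 5, 0], [0, 5, 0, 5])) (BT.leaf (4, [7, 0, 7, 0], [0, 7, 0, 7]))) (BT.leaf (4, [9, 0, 9, 0], [0,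 9, 0, 9]))) (BT.node 11 (BT.node 10 (BT.leaf (6, [0, 1, 0, 1, 0, 1], [1, 0, 1, 0, 1, 0])) (BT.leaf (2, [1, 1], [1, 1]))) (BT.leaf (6, [2, 1, 2, 1, 2, 1], [1, 2, 1, 2, 1, 2]))))) (BT.node 19 (BT.node 16 (BT.node 14 (BT.node 13 (BT.leaf (4, [3, 1, 3, 1], [1, 3, 1, 3])) (BT.leaf (4, [4, 1, 4, 1], [1, 4, 1, 4]))) (BT.node 15 (BT.leaf (4, [6, 1, 6, 1], [1, 6, 1, 6])) (BT.leaf (4, [8, 1, 8, 1], [1, 8, 1, 8])))) (BT.node 18 (BT.node 17 (BT.leaf (4, [5, 1, 5, 1], [1, 5, 1, 5])) (BT.leaf (4, [7, 1, 7, 1], [1, 7, 1, 7]))) (BT.leaf (4, [9, 1, 9, 1], [1, 9, 1, 9])))) (BT.node 22 (BT.node 21 (BT.node 20 (BT.leaf (4, [0, 2, 0, 2], [2, 0, 2, 0])) (BT.leaf (6, [1, 2, 1, 2, 1, 2], [2, 1, 2, 1, 2, 1]))) (BT.leaf (2, [2, 2], [2, 2]))) (BT.node 24 (BT.node 23 (BT.leaf (6, [3, 2, 3, 2, 3, 2], [2, 3, 2, 3, 2, 3])) (BT.leaf (4, [4, 2, 4, 2], [2, 4, 2, 4]))) (BT.leaf (4, [6, 2,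 6, 2], [2, 6, 2, 6])))))) (BT.node 38 (BT.node 32 (BT.node 29 (BT.node 27 (BT.node 26 (BT.leaf (4, [8, 2, 8, 2], [2, 8, 2, 8])) (BT.leaf (4, [5, 2, 5, 2], [2, 5, 2, 5]))) (BT.node 28 (BT.leaf (4, [7, 2, 7, 2], [2, 7, 2, 7])) (BT.leaf (4, [9, 2, 9, 2], [2, 9, 2, 9])))) (BT.node 31 (BT.node 30 (BT.leaf (4, [0, 3, 0, 3], [3, 0, 3, 0])) (BT.leaf (4, [1, 3, 1, 3], [3, 1, 3, 1]))) (BT.leaf (6, [2, 3, 2, 3, 2, 3], [3, 2, 3, 2, 3, 2])))) (BT.node 35 (BT.node 34 (BT.node 33 (BT.leaf (2, [3, 3], [3, 3])) (BT.leaf (6, [4, 3, 4, 3, 4, 3], [3, 4, 3, 4, 3, 4]))) (BT.leaf (4, [6, 3, 6, 3], [3, 6, 3, 6]))) (BT.node 37 (BT.node 36 (BT.leaf (4, [8, 3, 8, 3], [3, 8, 3, 8])) (BT.leaf (4, [5, 3, 5, 3], [3, 5, 3, 5]))) (BT.leaf (4, [7, 3, 7, 3], [3, 7, 3, 7]))))) (BT.node 44 (BT.node 41 (BT.node 40 (BT.node 39 (BT.leaf (4, [9, 3, 9, 3], [3, 9, 3, 9])) (BT.leaf (4, [0, 4, 0,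 4], [4, 0, 4, 0]))) (BT.leaf (4, [1, 4, 1, 4], [4, 1, 4, 1]))) (BT.node 43 (BT.node 42 (BT.leaf (4, [2, 4, 2, 4], [4, 2, 4, 2])) (BT.leaf (6, [3, 4, 3, 4, 3, 4], [4, 3, 4, 3, 4, 3]))) (BT.leaf (2, [4, 4], [4, 4])))) (BT.node 47 (BT.node 46 (BT.node 45 (BT.leaf (4, [6, 4, 6, 4], [4, 6, 4, 6])) (BT.leaf (4, [8, 4, 8, 4], [4, 8, 4, 8]))) (BT.leaf (6, [5, 4, 5, 4, 5, 4], [4, 5, 4, 5, 4, 5]))) (BT.node 49 (BT.node 48 (BT.leaf (4, [7, 4, 7, 4], [4, 7, 4, 7])) (BT.leaf (4, [9, 4, 9, 4], [4, 9, 4, 9]))) (BT.leaf (6, [0, 6, 0, 6, 0, 6], [6, 0, 6, 0, 6, 0]))))))) (BT.node 76 (BT.node 63 (BT.node 57 (BT.node 54 (BT.node 52 (BT.node 51 (BT.leaf (4, [1, 6, 1, 6], [6, 1, 6, 1])) (BT.leaf (4, [2, 6, 2, 6], [6, 2, 6, 2]))) (BT.node 53 (BT.leaf (4, [3, 6, 3, 6], [6, 3, 6, 3])) (BT.leaf (4, [4, 6, 4, 6], [6, 4, 6, 4])))) (BT.node 56 (BT.node 55 (BT.leaf (2, [6, 6], [6, 6]))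 (BT.leaf (4, [8, 6, 8, 6], [6, 8, 6, 8]))) (BT.leaf (4, [5, 6, 5, 6], [6, 5, 6, 5])))) (BT.node 60 (BT.node 59 (BT.node 58 (BT.leaf (6, [7, 6, 7, 6, 7, 6], [6, 7, 6, 7, 6, 7])) (BT.leaf (4, [9, 6, 9, 6], [6, 9, 6, 9]))) (BT.leaf (6, [0, 8, 0, 8, 0, 8], [8, 0, 8, 0, 8, 0]))) (BT.node 62 (BT.node 61 (BT.leaf (4, [1, 8, 1, 8], [8, 1, 8, 1])) (BT.leaf (4, [2, 8, 2, 8], [8, 2, 8, 2]))) (BT.leaf (4, [3, 8, 3, 8], [8, 3, 8, 3]))))) (BT.node 70 (BT.node 67 (BT.node 65 (BT.node 64 (BT.leaf (4, [4, 8, 4, 8], [8, 4, 8, 4])) (BT.leaf (4, [6, 8, 6, 8], [8, 6, 8, 6]))) (BT.node 66 (BT.leaf (2, [8, 8], [8, 8])) (BT.leaf (4, [5, 8, 5, 8], [8, 5, 8, 5])))) (BT.node 69 (BT.node 68 (BT.leaf (4, [7, 8, 7, 8], [8, 7, 8, 7])) (BT.leaf (6, [9, 8, 9, 8, 9, 8], [8, 9, 8, 9, 8, 9]))) (BT.leaf (4, [0, 5, 0, 5], [5, 0, 5, 0])))) (BT.node 73 (BT.node 72 (BT.node 71 (BT.leaf (4, [1,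 5, 1, 5], [5, 1, 5, 1])) (BT.leaf (4, [2, 5, 2, 5], [5, 2, 5, 2]))) (BT.leaf (4, [3, 5, 3, 5], [5, 3, 5, 3]))) (BT.node 75 (BT.node 74 (BT.leaf (6, [4, 5, 4, 5, 4, 5], [5, 4, 5, 4, 5, 4])) (BT.leaf (4, [6, 5, 6, 5], [5, 6, 5, 6]))) (BT.leaf (4, [8, 5, 8, 5], [5, 8, 5, 8])))))) (BT.node 89 (BT.node 83 (BT.node 80 (BT.node 78 (BT.node 77 (BT.leaf (2, [5, 5], [5, 5])) (BT.leaf (4, [7, 5, 7, 5], [5, 7, 5, 7]))) (BT.node 79 (BT.leaf (4, [9, 5, 9, 5], [5, 9, 5, 9])) (BT.leaf (4, [0, 7, 0, 7], [7, 0, 7, 0])))) (BT.node 82 (BT.node 81 (BT.leaf (4, [1, 7, 1, 7], [7, 1, 7, 1])) (BT.leaf (4, [2, 7, 2, 7], [7, 2, 7, 2]))) (BT.leaf (4, [3, 7, 3, 7], [7, 3, 7, 3])))) (BT.node 86 (BT.node 85 (BT.node 84 (BT.leaf (4, [4, 7, 4, 7], [7, 4, 7, 4])) (BT.leaf (6, [6, 7, 6, 7, 6, 7], [7, 6, 7, 6, 7, 6]))) (BT.leaf (4, [8, 7, 8, 7], [7, 8, 7, 8]))) (BT.node 88 (BT.node 87 (BT.leaf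 (4, [5, 7, 5, 7], [7, 5, 7, 5])) (BT.leaf (2, [7, 7], [7, 7]))) (BT.leaf (4, [9, 7, 9, 7], [7, 9, 7, 9]))))) (BT.node 95 (BT.node 92 (BT.node 91 (BT.node 90 (BT.leaf (4, [0, 9, 0, 9], [9, 0, 9, 0])) (BT.leaf (4, [1, 9, 1, 9], [9, 1, 9, 1]))) (BT.leaf (4, [2, 9, 2, 9], [9, 2, 9, 2]))) (BT.node 94 (BT.node 93 (BT.leaf (4, [3, 9, 3, 9], [9, 3, 9, 3])) (BT.leaf (4, [4, 9, 4, 9], [9, 4, 9, 4]))) (BT.leaf (4, [6, 9, 6, 9], [9, 6, 9, 6])))) (BT.node 98 (BT.node 97 (BT.node 96 (BT.leaf (6, [8, 9, 8, 9, 8, 9], [9, 8, 9, 8, 9, 8])) (BT.leaf (4, [5, 9, 5, 9], [9, 5, 9, 5]))) (BT.leaf (4, [7, 9, 7, 9], [9, 7, 9, 7]))) (BT.node 100 (BT.node 99 (BT.leaf (2, [9, 9], [9, 9])) (BT.leaf (90, [9, 8, 0, 2, 1, 0, 7, 6, 0, 9, 8, 0, 2, 1, 0, 7, 6, 0, 9, 8, 0, 2, 1, 0, 7, 6, 0, 9, 8, 0, 2, 1, 0, 7, 6, 0, 9, 8, 0, 2, 1, 0, 7, 6, 0, 9, 8, 0, 2, 1, 0, 7, 6, 0, 9, 8, 0, 2, 1, 0, 7,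 6, 0, 9, 8, 0, 2, 1, 0, 7, 6, 0, 9, 8, 0, 2, 1, 0, 7, 6, 0, 9, 8, 0, 2, 1, 0, 7, 6, 0], [0, 6, 7, 0, 1, 2, 0, 8, 9, 0, 6, 7, 0, 1, 2, 0, 8, 9, 0, 6, 7, 0, 1, 2, 0, 8, 9, 0, 6, 7, 0, 1, 2, 0, 8, 9, 0, 6, 7, 0, 1, 2, 0, 8, 9, 0, 6, 7, 0, 1, 2, 0, 8, 9, 0, 6, 7, 0, 1, 2, 0, 8, 9, 0, 6, 7, 0, 1, 2, 0, 8, 9, 0, 6, 7, 0, 1, 2, 0, 8, 9, 0, 6, 7, 0, 1, 2, 0, 8, 9]))) (BT.leaf (120, [8, 7, 6, 4, 3, 2, 1, 0, 8, 7, 6, 4, 3, 2, 1, 0, 8, 7, 6, 4, 3, 2, 1, 0, 8, 7, 6, 4, 3, 2, 1, 0, 8, 7, 6, 4, 3, 2, 1, 0, 8, 7, 6, 4, 3, 2, 1, 0, 8, 7, 6, 4, 3, 2, 1, 0, 8, 7, 6, 4, 3, 2, 1, 0, 8, 7, 6, 4, 3, 2, 1, 0, 8, 7, 6, 4, 3, 2, 1, 0, 8, 7, 6, 4, 3, 2, 1, 0, 8, 7, 6, 4, 3, 2, 1, 0, 8, 7, 6, 4, 3, 2, 1, 0, 8, 7, 6, 4, 3, 2, 1, 0, 8, 7, 6, 4, 3, 2, 1, 0], [0, 1, 2, 3, 4, 6, 7, 8, 0, 1, 2, 3, 4, 6, 7, 8, 0, 1, 2, 3, 4, 6, 7, 8, 0, 1, 2, 3, 4, 6, 7, 8, 0, 1, 2, 3, 4, 6, 7, 8, 0, 1,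 2, 3, 4, 6, 7, 8, 0, 1, 2, 3, 4, 6, 7, 8, 0, 1, 2, 3, 4, 6, 7, 8, 0, 1, 2, 3, 4, 6, 7, 8, 0, 1, 2, 3, 4, 6, 7, 8, 0, 1, 2, 3, 4, 6, 7, 8, 0, 1, 2, 3, 4, 6, 7, 8, 0, 1, 2, 3, 4, 6, 7, 8, 0, 1, 2, 3, 4, 6, 7, 8, 0, 1, 2, 3, 4, 6, 7, 8]))))))))
/-- subgroup generators -/
def subT : BT (ℕ × List ℕ × List ℕ) := (BT.node 4 (BT.node 2 (BT.node 1 (BT.node 0 (BT.leaf (1, [0], [0])) (BT.leaf (1, [1], [1]))) (BT.leaf (1, [2], [2]))) (BT.node 3 (BT.leaf (1, [3], [3])) (BT.leaf (1, [4], [4])))) (BT.node 6 (BT.node 5 (BT.leaf (1, [6], [6])) (BT.leaf (1, [7], [7]))) (BT.node 7 (BT.leaf (1, [8], [8])) (BT.leaf (1, [9], [9])))))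
/-- fact chunks -/
def colET : BT ℕ := (BT.node 610 (BT.node 305 (BT.node 152 (BT.node 76 (BT.node 38 (BT.node 19 (BT.node 9 (BT.node 4 (BT.node 2 (BT.node 1 (BT.node 0 (BT.leaf cE0) (BT.leaf cE1)) (BT.leaf cE2)) (BT.node 3 (BT.leaf cE3) (BT.leaf cE4))) (BT.node 7 (BT.node 6 (BT.node 5 (BT.leaf cE5) (BT.leaf cE6)) (BT.leaf cE7)) (BT.node 8 (BT.leaf cE8) (BT.leaf cE9)))) (BT.node 14 (BT.node 12 (BT.node 11 (BT.node 10 (BT.leaf cE10) (BT.leaf cE11)) (BT.leaf cE12)) (BT.node 13 (BT.leaf cE13) (BT.leaf cE14))) (BT.node 17 (BT.node 16 (BT.node 15 (BT.leaf cE15) (BT.leaf cE16)) (BT.leaf cE17)) (BT.node 18 (BT.leaf cE18) (BT.leaf cE19))))) (BT.node 29 (BT.node 24 (BT.node 22 (BT.node 21 (BT.node 20 (BT.leaf cE20) (BT.leaf cE21)) (BT.leaf cE22)) (BT.node 23 (BT.leaf cE23) (BT.leaf cE24))) (BT.node 27 (BT.node 26 (BT.node 25 (BT.leaf cE25) (BT.leaf cE26)) (BT.leaf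 cE27)) (BT.node 28 (BT.leaf cE28) (BT.leaf cE29)))) (BT.node 34 (BT.node 32 (BT.node 31 (BT.node 30 (BT.leaf cE30) (BT.leaf cE31)) (BT.leaf cE32)) (BT.node 33 (BT.leaf cE33) (BT.leaf cE34))) (BT.node 36 (BT.node 35 (BT.leaf cE35) (BT.leaf cE36)) (BT.node 37 (BT.leaf cE37) (BT.leaf cE38)))))) (BT.node 57 (BT.node 48 (BT.node 43 (BT.node 41 (BT.node 40 (BT.node 39 (BT.leaf cE39) (BT.leaf cE40)) (BT.leaf cE41)) (BT.node 42 (BT.leaf cE42) (BT.leaf cE43))) (BT.node 46 (BT.node 45 (BT.node 44 (BT.leaf cE44) (BT.leaf cE45)) (BT.leaf cE46)) (BT.node 47 (BT.leaf cE47) (BT.leaf cE48)))) (BT.node 53 (BT.node 51 (BT.node 50 (BT.node 49 (BT.leaf cE49) (BT.leaf cE50)) (BT.leaf cE51)) (BT.node 52 (BT.leaf cE52) (BT.leaf cE53))) (BT.node 55 (BT.node 54 (BT.leaf cE54) (BT.leaf cE55)) (BT.node 56 (BT.leaf cE56) (BT.leaf cE57))))) (BT.node 67 (BT.node 62 (BT.node 60 (BT.node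 59 (BT.node 58 (BT.leaf cE58) (BT.leaf cE59)) (BT.leaf cE60)) (BT.node 61 (BT.leaf cE61) (BT.leaf cE62))) (BT.node 65 (BT.node 64 (BT.node 63 (BT.leaf cE63) (BT.leaf cE64)) (BT.leaf cE65)) (BT.node 66 (BT.leaf cE66) (BT.leaf cE67)))) (BT.node 72 (BT.node 70 (BT.node 69 (BT.node 68 (BT.leaf cE68) (BT.leaf cE69)) (BT.leaf cE70)) (BT.node 71 (BT.leaf cE71) (BT.leaf cE72))) (BT.node 74 (BT.node 73 (BT.leaf cE73) (BT.leaf cE74)) (BT.node 75 (BT.leaf cE75) (BT.leaf cE76))))))) (BT.node 114 (BT.node 95 (BT.node 86 (BT.node 81 (BT.node 79 (BT.node 78 (BT.node 77 (BT.leaf cE77) (BT.leaf cE78)) (BT.leaf cE79)) (BT.node 80 (BT.leaf cE80) (BT.leaf cE81))) (BT.node 84 (BT.node 83 (BT.node 82 (BT.leaf cE82) (BT.leaf cE83)) (BT.leaf cE84)) (BT.node 85 (BT.leaf cE85) (BT.leaf cE86)))) (BT.node 91 (BT.node 89 (BT.node 88 (BT.node 87 (BT.leaf cE87) (BT.leaf cE88)) (BT.leaf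 cE89)) (BT.node 90 (BT.leaf cE90) (BT.leaf cE91))) (BT.node 93 (BT.node 92 (BT.leaf cE92) (BT.leaf cE93)) (BT.node 94 (BT.leaf cE94) (BT.leaf cE95))))) (BT.node 105 (BT.node 100 (BT.node 98 (BT.node 97 (BT.node 96 (BT.leaf cE96) (BT.leaf cE97)) (BT.leaf cE98)) (BT.node 99 (BT.leaf cE99) (BT.leaf cE100))) (BT.node 103 (BT.node 102 (BT.node 101 (BT.leaf cE101) (BT.leaf cE102)) (BT.leaf cE103)) (BT.node 104 (BT.leaf cE104) (BT.leaf cE105)))) (BT.node 110 (BT.node 108 (BT.node 107 (BT.node 106 (BT.leaf cE106) (BT.leaf cE107)) (BT.leaf cE108)) (BT.node 109 (BT.leaf cE109) (BT.leaf cE110))) (BT.node 112 (BT.node 111 (BT.leaf cE111) (BT.leaf cE112)) (BT.node 113 (BT.leaf cE113) (BT.leaf cE114)))))) (BT.node 133 (BT.node 124 (BT.node 119 (BT.node 117 (BT.node 116 (BT.node 115 (BT.leaf cE115) (BT.leaf cE116)) (BT.leaf cE117)) (BT.node 118 (BT.leaf cE118) (BT.leaf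 cE119))) (BT.node 122 (BT.node 121 (BT.node 120 (BT.leaf cE120) (BT.leaf cE121)) (BT.leaf cE122)) (BT.node 123 (BT.leaf cE123) (BT.leaf cE124)))) (BT.node 129 (BT.node 127 (BT.node 126 (BT.node 125 (BT.leaf cE125) (BT.leaf cE126)) (BT.leaf cE127)) (BT.node 128 (BT.leaf cE128) (BT.leaf cE129))) (BT.node 131 (BT.node 130 (BT.leaf cE130) (BT.leaf cE131)) (BT.node 132 (BT.leaf cE132) (BT.leaf cE133))))) (BT.node 143 (BT.node 138 (BT.node 136 (BT.node 135 (BT.node 134 (BT.leaf cE134) (BT.leaf cE135)) (BT.leaf cE136)) (BT.node 137 (BT.leaf cE137) (BT.leaf cE138))) (BT.node 141 (BT.node 140 (BT.node 139 (BT.leaf cE139) (BT.leaf cE140)) (BT.leaf cE141)) (BT.node 142 (BT.leaf cE142) (BT.leaf cE143)))) (BT.node 148 (BT.node 146 (BT.node 145 (BT.node 144 (BT.leaf cE144) (BT.leaf cE145)) (BT.leaf cE146)) (BT.node 147 (BT.leaf cE147) (BT.leaf cE148))) (BT.node 150 (BT.node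 149 (BT.leaf cE149) (BT.leaf cE150)) (BT.node 151 (BT.leaf cE151) (BT.leaf cE152)))))))) (BT.node 229 (BT.node 191 (BT.node 172 (BT.node 162 (BT.node 157 (BT.node 155 (BT.node 154 (BT.node 153 (BT.leaf cE153) (BT.leaf cE154)) (BT.leaf cE155)) (BT.node 156 (BT.leaf cE156) (BT.leaf cE157))) (BT.node 160 (BT.node 159 (BT.node 158 (BT.leaf cE158) (BT.leaf cE159)) (BT.leaf cE160)) (BT.node 161 (BT.leaf cE161) (BT.leaf cE162)))) (BT.node 167 (BT.node 165 (BT.node 164 (BT.node 163 (BT.leaf cE163) (BT.leaf cE164)) (BT.leaf cE165)) (BT.node 166 (BT.leaf cE166) (BT.leaf cE167))) (BT.node 170 (BT.node 169 (BT.node 168 (BT.leaf cE168) (BT.leaf cE169)) (BT.leaf cE170)) (BT.node 171 (BT.leaf cE171) (BT.leaf cE172))))) (BT.node 182 (BT.node 177 (BT.node 175 (BT.node 174 (BT.node 173 (BT.leaf cE173) (BT.leaf cE174)) (BT.leaf cE175)) (BT.node 176 (BT.leaf cE176) (BT.leaf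 cE177))) (BT.node 180 (BT.node 179 (BT.node 178 (BT.leaf cE178) (BT.leaf cE179)) (BT.leaf cE180)) (BT.node 181 (BT.leaf cE181) (BT.leaf cE182)))) (BT.node 187 (BT.node 185 (BT.node 184 (BT.node 183 (BT.leaf cE183) (BT.leaf cE184)) (BT.leaf cE185)) (BT.node 186 (BT.leaf cE186) (BT.leaf cE187))) (BT.node 189 (BT.node 188 (BT.leaf cE188) (BT.leaf cE189)) (BT.node 190 (BT.leaf cE190) (BT.leaf cE191)))))) (BT.node 210 (BT.node 201 (BT.node 196 (BT.node 194 (BT.node 193 (BT.node 192 (BT.leaf cE192) (BT.leaf cE193)) (BT.leaf cE194)) (BT.node 195 (BT.leaf cE195) (BT.leaf cE196))) (BT.node 199 (BT.node 198 (BT.node 197 (BT.leaf cE197) (BT.leaf cE198)) (BT.leaf cE199)) (BT.node 200 (BT.leaf cE200) (BT.leaf cE201)))) (BT.node 206 (BT.node 204 (BT.node 203 (BT.node 202 (BT.leaf cE202) (BT.leaf cE203)) (BT.leaf cE204)) (BT.node 205 (BT.leaf cE205) (BT.leaf cE206)))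 (BT.node 208 (BT.node 207 (BT.leaf cE207) (BT.leaf cE208)) (BT.node 209 (BT.leaf cE209) (BT.leaf cE210))))) (BT.node 220 (BT.node 215 (BT.node 213 (BT.node 212 (BT.node 211 (BT.leaf cE211) (BT.leaf cE212)) (BT.leaf cE213)) (BT.node 214 (BT.leaf cE214) (BT.leaf cE215))) (BT.node 218 (BT.node 217 (BT.node 216 (BT.leaf cE216) (BT.leaf cE217)) (BT.leaf cE218)) (BT.node 219 (BT.leaf cE219) (BT.leaf cE220)))) (BT.node 225 (BT.node 223 (BT.node 222 (BT.node 221 (BT.leaf cE221) (BT.leaf cE222)) (BT.leaf cE223)) (BT.node 224 (BT.leaf cE224) (BT.leaf cE225))) (BT.node 227 (BT.node 226 (BT.leaf cE226) (BT.leaf cE227)) (BT.node 228 (BT.leaf cE228) (BT.leaf cE229))))))) (BT.node 267 (BT.node 248 (BT.node 239 (BT.node 234 (BT.node 232 (BT.node 231 (BT.node 230 (BT.leaf cE230) (BT.leaf cE231)) (BT.leaf cE232)) (BT.node 233 (BT.leaf cE233) (BT.leaf cE234))) (BT.node 237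 (BT.node 236 (BT.node 235 (BT.leaf cE235) (BT.leaf cE236)) (BT.leaf cE237)) (BT.node 238 (BT.leaf cE238) (BT.leaf cE239)))) (BT.node 244 (BT.node 242 (BT.node 241 (BT.node 240 (BT.leaf cE240) (BT.leaf cE241)) (BT.leaf cE242)) (BT.node 243 (BT.leaf cE243) (BT.leaf cE244))) (BT.node 246 (BT.node 245 (BT.leaf cE245) (BT.leaf cE246)) (BT.node 247 (BT.leaf cE247) (BT.leaf cE248))))) (BT.node 258 (BT.node 253 (BT.node 251 (BT.node 250 (BT.node 249 (BT.leaf cE249) (BT.leaf cE250)) (BT.leaf cE251)) (BT.node 252 (BT.leaf cE252) (BT.leaf cE253))) (BT.node 256 (BT.node 255 (BT.node 254 (BT.leaf cE254) (BT.leaf cE255)) (BT.leaf cE256)) (BT.node 257 (BT.leaf cE257) (BT.leaf cE258)))) (BT.node 263 (BT.node 261 (BT.node 260 (BT.node 259 (BT.leaf cE259) (BT.leaf cE260)) (BT.leaf cE261)) (BT.node 262 (BT.leaf cE262) (BT.leaf cE263))) (BT.node 265 (BT.node 264 (BT.leaf cE264)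 (BT.leaf cE265)) (BT.node 266 (BT.leaf cE266) (BT.leaf cE267)))))) (BT.node 286 (BT.node 277 (BT.node 272 (BT.node 270 (BT.node 269 (BT.node 268 (BT.leaf cE268) (BT.leaf cE269)) (BT.leaf cE270)) (BT.node 271 (BT.leaf cE271) (BT.leaf cE272))) (BT.node 275 (BT.node 274 (BT.node 273 (BT.leaf cE273) (BT.leaf cE274)) (BT.leaf cE275)) (BT.node 276 (BT.leaf cE276) (BT.leaf cE277)))) (BT.node 282 (BT.node 280 (BT.node 279 (BT.node 278 (BT.leaf cE278) (BT.leaf cE279)) (BT.leaf cE280)) (BT.node 281 (BT.leaf cE281) (BT.leaf cE282))) (BT.node 284 (BT.node 283 (BT.leaf cE283) (BT.leaf cE284)) (BT.node 285 (BT.leaf cE285) (BT.leaf cE286))))) (BT.node 296 (BT.node 291 (BT.node 289 (BT.node 288 (BT.node 287 (BT.leaf cE287) (BT.leaf cE288)) (BT.leaf cE289)) (BT.node 290 (BT.leaf cE290) (BT.leaf cE291))) (BT.node 294 (BT.node 293 (BT.node 292 (BT.leaf cE292) (BT.leaf cE293))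 (BT.leaf cE294)) (BT.node 295 (BT.leaf cE295) (BT.leaf cE296)))) (BT.node 301 (BT.node 299 (BT.node 298 (BT.node 297 (BT.leaf cE297) (BT.leaf cE298)) (BT.leaf cE299)) (BT.node 300 (BT.leaf cE300) (BT.leaf cE301))) (BT.node 303 (BT.node 302 (BT.leaf cE302) (BT.leaf cE303)) (BT.node 304 (BT.leaf cE304) (BT.leaf cE305))))))))) (BT.node 458 (BT.node 382 (BT.node 344 (BT.node 325 (BT.node 315 (BT.node 310 (BT.node 308 (BT.node 307 (BT.node 306 (BT.leaf cE306) (BT.leaf cE307)) (BT.leaf cE308)) (BT.node 309 (BT.leaf cE309) (BT.leaf cE310))) (BT.node 313 (BT.node 312 (BT.node 311 (BT.leaf cE311) (BT.leaf cE312)) (BT.leaf cE313)) (BT.node 314 (BT.leaf cE314) (BT.leaf cE315)))) (BT.node 320 (BT.node 318 (BT.node 317 (BT.node 316 (BT.leaf cE316) (BT.leaf cE317)) (BT.leaf cE318)) (BT.node 319 (BT.leaf cE319) (BT.leaf cE320))) (BT.node 323 (BT.node 322 (BT.node 321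 (BT.leaf cE321) (BT.leaf cE322)) (BT.leaf cE323)) (BT.node 324 (BT.leaf cE324) (BT.leaf cE325))))) (BT.node 335 (BT.node 330 (BT.node 328 (BT.node 327 (BT.node 326 (BT.leaf cE326) (BT.leaf cE327)) (BT.leaf cE328)) (BT.node 329 (BT.leaf cE329) (BT.leaf cE330))) (BT.node 333 (BT.node 332 (BT.node 331 (BT.leaf cE331) (BT.leaf cE332)) (BT.leaf cE333)) (BT.node 334 (BT.leaf cE334) (BT.leaf cE335)))) (BT.node 340 (BT.node 338 (BT.node 337 (BT.node 336 (BT.leaf cE336) (BT.leaf cE337)) (BT.leaf cE338)) (BT.node 339 (BT.leaf cE339) (BT.leaf cE340))) (BT.node 342 (BT.node 341 (BT.leaf cE341) (BT.leaf cE342)) (BT.node 343 (BT.leaf cE343) (BT.leaf cE344)))))) (BT.node 363 (BT.node 354 (BT.node 349 (BT.node 347 (BT.node 346 (BT.node 345 (BT.leaf cE345) (BT.leaf cE346)) (BT.leaf cE347)) (BT.node 348 (BT.leaf cE348) (BT.leaf cE349))) (BT.node 352 (BT.node 351 (BT.node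 350 (BT.leaf cE350) (BT.leaf cE351)) (BT.leaf cE352)) (BT.node 353 (BT.leaf cE353) (BT.leaf cE354)))) (BT.node 359 (BT.node 357 (BT.node 356 (BT.node 355 (BT.leaf cE355) (BT.leaf cE356)) (BT.leaf cE357)) (BT.node 358 (BT.leaf cE358) (BT.leaf cE359))) (BT.node 361 (BT.node 360 (BT.leaf cE360) (BT.leaf cE361)) (BT.node 362 (BT.leaf cE362) (BT.leaf cE363))))) (BT.node 373 (BT.node 368 (BT.node 366 (BT.node 365 (BT.node 364 (BT.leaf cE364) (BT.leaf cE365)) (BT.leaf cE366)) (BT.node 367 (BT.leaf cE367) (BT.leaf cE368))) (BT.node 371 (BT.node 370 (BT.node 369 (BT.leaf cE369) (BT.leaf cE370)) (BT.leaf cE371)) (BT.node 372 (BT.leaf cE372) (BT.leaf cE373)))) (BT.node 378 (BT.node 376 (BT.node 375 (BT.node 374 (BT.leaf cE374) (BT.leaf cE375)) (BT.leaf cE376)) (BT.node 377 (BT.leaf cE377) (BT.leaf cE378))) (BT.node 380 (BT.node 379 (BT.leaf cE379) (BT.leaf cE380))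 (BT.node 381 (BT.leaf cE381) (BT.leaf cE382))))))) (BT.node 420 (BT.node 401 (BT.node 392 (BT.node 387 (BT.node 385 (BT.node 384 (BT.node 383 (BT.leaf cE383) (BT.leaf cE384)) (BT.leaf cE385)) (BT.node 386 (BT.leaf cE386) (BT.leaf cE387))) (BT.node 390 (BT.node 389 (BT.node 388 (BT.leaf cE388) (BT.leaf cE389)) (BT.leaf cE390)) (BT.node 391 (BT.leaf cE391) (BT.leaf cE392)))) (BT.node 397 (BT.node 395 (BT.node 394 (BT.node 393 (BT.leaf cE393) (BT.leaf cE394)) (BT.leaf cE395)) (BT.node 396 (BT.leaf cE396) (BT.leaf cE397))) (BT.node 399 (BT.node 398 (BT.leaf cE398) (BT.leaf cE399)) (BT.node 400 (BT.leaf cE400) (BT.leaf cE401))))) (BT.node 411 (BT.node 406 (BT.node 404 (BT.node 403 (BT.node 402 (BT.leaf cE402) (BT.leaf cE403)) (BT.leaf cE404)) (BT.node 405 (BT.leaf cE405) (BT.leaf cE406))) (BT.node 409 (BT.node 408 (BT.node 407 (BT.leaf cE407) (BT.leaf cE408))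 (BT.leaf cE409)) (BT.node 410 (BT.leaf cE410) (BT.leaf cE411)))) (BT.node 416 (BT.node 414 (BT.node 413 (BT.node 412 (BT.leaf cE412) (BT.leaf cE413)) (BT.leaf cE414)) (BT.node 415 (BT.leaf cE415) (BT.leaf cE416))) (BT.node 418 (BT.node 417 (BT.leaf cE417) (BT.leaf cE418)) (BT.node 419 (BT.leaf cE419) (BT.leaf cE420)))))) (BT.node 439 (BT.node 430 (BT.node 425 (BT.node 423 (BT.node 422 (BT.node 421 (BT.leaf cE421) (BT.leaf cE422)) (BT.leaf cE423)) (BT.node 424 (BT.leaf cE424) (BT.leaf cE425))) (BT.node 428 (BT.node 427 (BT.node 426 (BT.leaf cE426) (BT.leaf cE427)) (BT.leaf cE428)) (BT.node 429 (BT.leaf cE429) (BT.leaf cE430)))) (BT.node 435 (BT.node 433 (BT.node 432 (BT.node 431 (BT.leaf cE431) (BT.leaf cE432)) (BT.leaf cE433)) (BT.node 434 (BT.leaf cE434) (BT.leaf cE435))) (BT.node 437 (BT.node 436 (BT.leaf cE436) (BT.leaf cE437)) (BT.node 438 (BT.leaf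 cE438) (BT.leaf cE439))))) (BT.node 449 (BT.node 444 (BT.node 442 (BT.node 441 (BT.node 440 (BT.leaf cE440) (BT.leaf cE441)) (BT.leaf cE442)) (BT.node 443 (BT.leaf cE443) (BT.leaf cE444))) (BT.node 447 (BT.node 446 (BT.node 445 (BT.leaf cE445) (BT.leaf cE446)) (BT.leaf cE447)) (BT.node 448 (BT.leaf cE448) (BT.leaf cE449)))) (BT.node 454 (BT.node 452 (BT.node 451 (BT.node 450 (BT.leaf cE450) (BT.leaf cE451)) (BT.leaf cE452)) (BT.node 453 (BT.leaf cE453) (BT.leaf cE454))) (BT.node 456 (BT.node 455 (BT.leaf cE455) (BT.leaf cE456)) (BT.node 457 (BT.leaf cE457) (BT.leaf cE458)))))))) (BT.node 534 (BT.node 496 (BT.node 477 (BT.node 468 (BT.node 463 (BT.node 461 (BT.node 460 (BT.node 459 (BT.leaf cE459) (BT.leaf cE460)) (BT.leaf cE461)) (BT.node 462 (BT.leaf cE462) (BT.leaf cE463))) (BT.node 466 (BT.node 465 (BT.node 464 (BT.leaf cE464) (BT.leaf cE465)) (BT.leaf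 cE466)) (BT.node 467 (BT.leaf cE467) (BT.leaf cE468)))) (BT.node 473 (BT.node 471 (BT.node 470 (BT.node 469 (BT.leaf cE469) (BT.leaf cE470)) (BT.leaf cE471)) (BT.node 472 (BT.leaf cE472) (BT.leaf cE473))) (BT.node 475 (BT.node 474 (BT.leaf cE474) (BT.leaf cE475)) (BT.node 476 (BT.leaf cE476) (BT.leaf cE477))))) (BT.node 487 (BT.node 482 (BT.node 480 (BT.node 479 (BT.node 478 (BT.leaf cE478) (BT.leaf cE479)) (BT.leaf cE480)) (BT.node 481 (BT.leaf cE481) (BT.leaf cE482))) (BT.node 485 (BT.node 484 (BT.node 483 (BT.leaf cE483) (BT.leaf cE484)) (BT.leaf cE485)) (BT.node 486 (BT.leaf cE486) (BT.leaf cE487)))) (BT.node 492 (BT.node 490 (BT.node 489 (BT.node 488 (BT.leaf cE488) (BT.leaf cE489)) (BT.leaf cE490)) (BT.node 491 (BT.leaf cE491) (BT.leaf cE492))) (BT.node 494 (BT.node 493 (BT.leaf cE493) (BT.leaf cE494)) (BT.node 495 (BT.leaf cE495) (BT.leaf cE496))))))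 (BT.node 515 (BT.node 506 (BT.node 501 (BT.node 499 (BT.node 498 (BT.node 497 (BT.leaf cE497) (BT.leaf cE498)) (BT.leaf cE499)) (BT.node 500 (BT.leaf cE500) (BT.leaf cE501))) (BT.node 504 (BT.node 503 (BT.node 502 (BT.leaf cE502) (BT.leaf cE503)) (BT.leaf cE504)) (BT.node 505 (BT.leaf cE505) (BT.leaf cE506)))) (BT.node 511 (BT.node 509 (BT.node 508 (BT.node 507 (BT.leaf cE507) (BT.leaf cE508)) (BT.leaf cE509)) (BT.node 510 (BT.leaf cE510) (BT.leaf cE511))) (BT.node 513 (BT.node 512 (BT.leaf cE512) (BT.leaf cE513)) (BT.node 514 (BT.leaf cE514) (BT.leaf cE515))))) (BT.node 525 (BT.node 520 (BT.node 518 (BT.node 517 (BT.node 516 (BT.leaf cE516) (BT.leaf cE517)) (BT.leaf cE518)) (BT.node 519 (BT.leaf cE519) (BT.leaf cE520))) (BT.node 523 (BT.node 522 (BT.node 521 (BT.leaf cE521) (BT.leaf cE522)) (BT.leaf cE523)) (BT.node 524 (BT.leaf cE524) (BT.leaf cE525))))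 (BT.node 530 (BT.node 528 (BT.node 527 (BT.node 526 (BT.leaf cE526) (BT.leaf cE527)) (BT.leaf cE528)) (BT.node 529 (BT.leaf cE529) (BT.leaf cE530))) (BT.node 532 (BT.node 531 (BT.leaf cE531) (BT.leaf cE532)) (BT.node 533 (BT.leaf cE533) (BT.leaf cE534))))))) (BT.node 572 (BT.node 553 (BT.node 544 (BT.node 539 (BT.node 537 (BT.node 536 (BT.node 535 (BT.leaf cE535) (BT.leaf cE536)) (BT.leaf cE537)) (BT.node 538 (BT.leaf cE538) (BT.leaf cE539))) (BT.node 542 (BT.node 541 (BT.node 540 (BT.leaf cE540) (BT.leaf cE541)) (BT.leaf cE542)) (BT.node 543 (BT.leaf cE543) (BT.leaf cE544)))) (BT.node 549 (BT.node 547 (BT.node 546 (BT.node 545 (BT.leaf cE545) (BT.leaf cE546)) (BT.leaf cE547)) (BT.node 548 (BT.leaf cE548) (BT.leaf cE549))) (BT.node 551 (BT.node 550 (BT.leaf cE550) (BT.leaf cE551)) (BT.node 552 (BT.leaf cE552) (BT.leaf cE553))))) (BT.node 563 (BT.node 558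 (BT.node 556 (BT.node 555 (BT.node 554 (BT.leaf cE554) (BT.leaf cE555)) (BT.leaf cE556)) (BT.node 557 (BT.leaf cE557) (BT.leaf cE558))) (BT.node 561 (BT.node 560 (BT.node 559 (BT.leaf cE559) (BT.leaf cE560)) (BT.leaf cE561)) (BT.node 562 (BT.leaf cE562) (BT.leaf cE563)))) (BT.node 568 (BT.node 566 (BT.node 565 (BT.node 564 (BT.leaf cE564) (BT.leaf cE565)) (BT.leaf cE566)) (BT.node 567 (BT.leaf cE567) (BT.leaf cE568))) (BT.node 570 (BT.node 569 (BT.leaf cE569) (BT.leaf cE570)) (BT.node 571 (BT.leaf cE571) (BT.leaf cE572)))))) (BT.node 591 (BT.node 582 (BT.node 577 (BT.node 575 (BT.node 574 (BT.node 573 (BT.leaf cE573) (BT.leaf cE574)) (BT.leaf cE575)) (BT.node 576 (BT.leaf cE576) (BT.leaf cE577))) (BT.node 580 (BT.node 579 (BT.node 578 (BT.leaf cE578) (BT.leaf cE579)) (BT.leaf cE580)) (BT.node 581 (BT.leaf cE581) (BT.leaf cE582)))) (BT.node 587 (BT.node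 585 (BT.node 584 (BT.node 583 (BT.leaf cE583) (BT.leaf cE584)) (BT.leaf cE585)) (BT.node 586 (BT.leaf cE586) (BT.leaf cE587))) (BT.node 589 (BT.node 588 (BT.leaf cE588) (BT.leaf cE589)) (BT.node 590 (BT.leaf cE590) (BT.leaf cE591))))) (BT.node 601 (BT.node 596 (BT.node 594 (BT.node 593 (BT.node 592 (BT.leaf cE592) (BT.leaf cE593)) (BT.leaf cE594)) (BT.node 595 (BT.leaf cE595) (BT.leaf cE596))) (BT.node 599 (BT.node 598 (BT.node 597 (BT.leaf cE597) (BT.leaf cE598)) (BT.leaf cE599)) (BT.node 600 (BT.leaf cE600) (BT.leaf cE601)))) (BT.node 606 (BT.node 604 (BT.node 603 (BT.node 602 (BT.leaf cE602) (BT.leaf cE603)) (BT.leaf cE604)) (BT.node 605 (BT.leaf cE605) (BT.leaf cE606))) (BT.node 608 (BT.node 607 (BT.leaf cE607) (BT.leaf cE608)) (BT.node 609 (BT.leaf cE609) (BT.leaf cE610)))))))))) (BT.node 915 (BT.node 763 (BT.node 687 (BT.node 649 (BT.node 630 (BT.node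 620 (BT.node 615 (BT.node 613 (BT.node 612 (BT.node 611 (BT.leaf cE611) (BT.leaf cE612)) (BT.leaf cE613)) (BT.node 614 (BT.leaf cE614) (BT.leaf cE615))) (BT.node 618 (BT.node 617 (BT.node 616 (BT.leaf cE616) (BT.leaf cE617)) (BT.leaf cE618)) (BT.node 619 (BT.leaf cE619) (BT.leaf cE620)))) (BT.node 625 (BT.node 623 (BT.node 622 (BT.node 621 (BT.leaf cE621) (BT.leaf cE622)) (BT.leaf cE623)) (BT.node 624 (BT.leaf cE624) (BT.leaf cE625))) (BT.node 628 (BT.node 627 (BT.node 626 (BT.leaf cE626) (BT.leaf cE627)) (BT.leaf cE628)) (BT.node 629 (BT.leaf cE629) (BT.leaf cE630))))) (BT.node 640 (BT.node 635 (BT.node 633 (BT.node 632 (BT.node 631 (BT.leaf cE631) (BT.leaf cE632)) (BT.leaf cE633)) (BT.node 634 (BT.leaf cE634) (BT.leaf cE635))) (BT.node 638 (BT.node 637 (BT.node 636 (BT.leaf cE636) (BT.leaf cE637)) (BT.leaf cE638)) (BT.node 639 (BT.leaf cE639) (BT.leaf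 cE640)))) (BT.node 645 (BT.node 643 (BT.node 642 (BT.node 641 (BT.leaf cE641) (BT.leaf cE642)) (BT.leaf cE643)) (BT.node 644 (BT.leaf cE644) (BT.leaf cE645))) (BT.node 647 (BT.node 646 (BT.leaf cE646) (BT.leaf cE647)) (BT.node 648 (BT.leaf cE648) (BT.leaf cE649)))))) (BT.node 668 (BT.node 659 (BT.node 654 (BT.node 652 (BT.node 651 (BT.node 650 (BT.leaf cE650) (BT.leaf cE651)) (BT.leaf cE652)) (BT.node 653 (BT.leaf cE653) (BT.leaf cE654))) (BT.node 657 (BT.node 656 (BT.node 655 (BT.leaf cE655) (BT.leaf cE656)) (BT.leaf cE657)) (BT.node 658 (BT.leaf cE658) (BT.leaf cE659)))) (BT.node 664 (BT.node 662 (BT.node 661 (BT.node 660 (BT.leaf cE660) (BT.leaf cE661)) (BT.leaf cE662)) (BT.node 663 (BT.leaf cE663) (BT.leaf cE664))) (BT.node 666 (BT.node 665 (BT.leaf cE665) (BT.leaf cE666)) (BT.node 667 (BT.leaf cE667) (BT.leaf cE668))))) (BT.node 678 (BT.node 673 (BT.node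 671 (BT.node 670 (BT.node 669 (BT.leaf cE669) (BT.leaf cE670)) (BT.leaf cE671)) (BT.node 672 (BT.leaf cE672) (BT.leaf cE673))) (BT.node 676 (BT.node 675 (BT.node 674 (BT.leaf cE674) (BT.leaf cE675)) (BT.leaf cE676)) (BT.node 677 (BT.leaf cE677) (BT.leaf cE678)))) (BT.node 683 (BT.node 681 (BT.node 680 (BT.node 679 (BT.leaf cE679) (BT.leaf cE680)) (BT.leaf cE681)) (BT.node 682 (BT.leaf cE682) (BT.leaf cE683))) (BT.node 685 (BT.node 684 (BT.leaf cE684) (BT.leaf cE685)) (BT.node 686 (BT.leaf cE686) (BT.leaf cE687))))))) (BT.node 725 (BT.node 706 (BT.node 697 (BT.node 692 (BT.node 690 (BT.node 689 (BT.node 688 (BT.leaf cE688) (BT.leaf cE689)) (BT.leaf cE690)) (BT.node 691 (BT.leaf cE691) (BT.leaf cE692))) (BT.node 695 (BT.node 694 (BT.node 693 (BT.leaf cE693) (BT.leaf cE694)) (BT.leaf cE695)) (BT.node 696 (BT.leaf cE696) (BT.leaf cE697)))) (BT.node 702 (BT.node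 700 (BT.node 699 (BT.node 698 (BT.leaf cE698) (BT.leaf cE699)) (BT.leaf cE700)) (BT.node 701 (BT.leaf cE701) (BT.leaf cE702))) (BT.node 704 (BT.node 703 (BT.leaf cE703) (BT.leaf cE704)) (BT.node 705 (BT.leaf cE705) (BT.leaf cE706))))) (BT.node 716 (BT.node 711 (BT.node 709 (BT.node 708 (BT.node 707 (BT.leaf cE707) (BT.leaf cE708)) (BT.leaf cE709)) (BT.node 710 (BT.leaf cE710) (BT.leaf cE711))) (BT.node 714 (BT.node 713 (BT.node 712 (BT.leaf cE712) (BT.leaf cE713)) (BT.leaf cE714)) (BT.node 715 (BT.leaf cE715) (BT.leaf cE716)))) (BT.node 721 (BT.node 719 (BT.node 718 (BT.node 717 (BT.leaf cE717) (BT.leaf cE718)) (BT.leaf cE719)) (BT.node 720 (BT.leaf cE720) (BT.leaf cE721))) (BT.node 723 (BT.node 722 (BT.leaf cE722) (BT.leaf cE723)) (BT.node 724 (BT.leaf cE724) (BT.leaf cE725)))))) (BT.node 744 (BT.node 735 (BT.node 730 (BT.node 728 (BT.node 727 (BT.node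 726 (BT.leaf cE726) (BT.leaf cE727)) (BT.leaf cE728)) (BT.node 729 (BT.leaf cE729) (BT.leaf cE730))) (BT.node 733 (BT.node 732 (BT.node 731 (BT.leaf cE731) (BT.leaf cE732)) (BT.leaf cE733)) (BT.node 734 (BT.leaf cE734) (BT.leaf cE735)))) (BT.node 740 (BT.node 738 (BT.node 737 (BT.node 736 (BT.leaf cE736) (BT.leaf cE737)) (BT.leaf cE738)) (BT.node 739 (BT.leaf cE739) (BT.leaf cE740))) (BT.node 742 (BT.node 741 (BT.leaf cE741) (BT.leaf cE742)) (BT.node 743 (BT.leaf cE743) (BT.leaf cE744))))) (BT.node 754 (BT.node 749 (BT.node 747 (BT.node 746 (BT.node 745 (BT.leaf cE745) (BT.leaf cE746)) (BT.leaf cE747)) (BT.node 748 (BT.leaf cE748) (BT.leaf cE749))) (BT.node 752 (BT.node 751 (BT.node 750 (BT.leaf cE750) (BT.leaf cE751)) (BT.leaf cE752)) (BT.node 753 (BT.leaf cE753) (BT.leaf cE754)))) (BT.node 759 (BT.node 757 (BT.node 756 (BT.node 755 (BT.leaf cE755) (BT.leaf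 cE756)) (BT.leaf cE757)) (BT.node 758 (BT.leaf cE758) (BT.leaf cE759))) (BT.node 761 (BT.node 760 (BT.leaf cE760) (BT.leaf cE761)) (BT.node 762 (BT.leaf cE762) (BT.leaf cE763)))))))) (BT.node 839 (BT.node 801 (BT.node 782 (BT.node 773 (BT.node 768 (BT.node 766 (BT.node 765 (BT.node 764 (BT.leaf cE764) (BT.leaf cE765)) (BT.leaf cE766)) (BT.node 767 (BT.leaf cE767) (BT.leaf cE768))) (BT.node 771 (BT.node 770 (BT.node 769 (BT.leaf cE769) (BT.leaf cE770)) (BT.leaf cE771)) (BT.node 772 (BT.leaf cE772) (BT.leaf cE773)))) (BT.node 778 (BT.node 776 (BT.node 775 (BT.node 774 (BT.leaf cE774) (BT.leaf cE775)) (BT.leaf cE776)) (BT.node 777 (BT.leaf cE777) (BT.leaf cE778))) (BT.node 780 (BT.node 779 (BT.leaf cE779) (BT.leaf cE780)) (BT.node 781 (BT.leaf cE781) (BT.leaf cE782))))) (BT.node 792 (BT.node 787 (BT.node 785 (BT.node 784 (BT.node 783 (BT.leaf cE783) (BT.leaf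 cE784)) (BT.leaf cE785)) (BT.node 786 (BT.leaf cE786) (BT.leaf cE787))) (BT.node 790 (BT.node 789 (BT.node 788 (BT.leaf cE788) (BT.leaf cE789)) (BT.leaf cE790)) (BT.node 791 (BT.leaf cE791) (BT.leaf cE792)))) (BT.node 797 (BT.node 795 (BT.node 794 (BT.node 793 (BT.leaf cE793) (BT.leaf cE794)) (BT.leaf cE795)) (BT.node 796 (BT.leaf cE796) (BT.leaf cE797))) (BT.node 799 (BT.node 798 (BT.leaf cE798) (BT.leaf cE799)) (BT.node 800 (BT.leaf cE800) (BT.leaf cE801)))))) (BT.node 820 (BT.node 811 (BT.node 806 (BT.node 804 (BT.node 803 (BT.node 802 (BT.leaf cE802) (BT.leaf cE803)) (BT.leaf cE804)) (BT.node 805 (BT.leaf cE805) (BT.leaf cE806))) (BT.node 809 (BT.node 808 (BT.node 807 (BT.leaf cE807) (BT.leaf cE808)) (BT.leaf cE809)) (BT.node 810 (BT.leaf cE810) (BT.leaf cE811)))) (BT.node 816 (BT.node 814 (BT.node 813 (BT.node 812 (BT.leaf cE812) (BT.leaf cE813)) (BT.leaf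 cE814)) (BT.node 815 (BT.leaf cE815) (BT.leaf cE816))) (BT.node 818 (BT.node 817 (BT.leaf cE817) (BT.leaf cE818)) (BT.node 819 (BT.leaf cE819) (BT.leaf cE820))))) (BT.node 830 (BT.node 825 (BT.node 823 (BT.node 822 (BT.node 821 (BT.leaf cE821) (BT.leaf cE822)) (BT.leaf cE823)) (BT.node 824 (BT.leaf cE824) (BT.leaf cE825))) (BT.node 828 (BT.node 827 (BT.node 826 (BT.leaf cE826) (BT.leaf cE827)) (BT.leaf cE828)) (BT.node 829 (BT.leaf cE829) (BT.leaf cE830)))) (BT.node 835 (BT.node 833 (BT.node 832 (BT.node 831 (BT.leaf cE831) (BT.leaf cE832)) (BT.leaf cE833)) (BT.node 834 (BT.leaf cE834) (BT.leaf cE835))) (BT.node 837 (BT.node 836 (BT.leaf cE836) (BT.leaf cE837)) (BT.node 838 (BT.leaf cE838) (BT.leaf cE839))))))) (BT.node 877 (BT.node 858 (BT.node 849 (BT.node 844 (BT.node 842 (BT.node 841 (BT.node 840 (BT.leaf cE840) (BT.leaf cE841)) (BT.leaf cE842)) (BT.node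 843 (BT.leaf cE843) (BT.leaf cE844))) (BT.node 847 (BT.node 846 (BT.node 845 (BT.leaf cE845) (BT.leaf cE846)) (BT.leaf cE847)) (BT.node 848 (BT.leaf cE848) (BT.leaf cE849)))) (BT.node 854 (BT.node 852 (BT.node 851 (BT.node 850 (BT.leaf cE850) (BT.leaf cE851)) (BT.leaf cE852)) (BT.node 853 (BT.leaf cE853) (BT.leaf cE854))) (BT.node 856 (BT.node 855 (BT.leaf cE855) (BT.leaf cE856)) (BT.node 857 (BT.leaf cE857) (BT.leaf cE858))))) (BT.node 868 (BT.node 863 (BT.node 861 (BT.node 860 (BT.node 859 (BT.leaf cE859) (BT.leaf cE860)) (BT.leaf cE861)) (BT.node 862 (BT.leaf cE862) (BT.leaf cE863))) (BT.node 866 (BT.node 865 (BT.node 864 (BT.leaf cE864) (BT.leaf cE865)) (BT.leaf cE866)) (BT.node 867 (BT.leaf cE867) (BT.leaf cE868)))) (BT.node 873 (BT.node 871 (BT.node 870 (BT.node 869 (BT.leaf cE869) (BT.leaf cE870)) (BT.leaf cE871)) (BT.node 872 (BT.leaf cE872) (BT.leaf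 cE873))) (BT.node 875 (BT.node 874 (BT.leaf cE874) (BT.leaf cE875)) (BT.node 876 (BT.leaf cE876) (BT.leaf cE877)))))) (BT.node 896 (BT.node 887 (BT.node 882 (BT.node 880 (BT.node 879 (BT.node 878 (BT.leaf cE878) (BT.leaf cE879)) (BT.leaf cE880)) (BT.node 881 (BT.leaf cE881) (BT.leaf cE882))) (BT.node 885 (BT.node 884 (BT.node 883 (BT.leaf cE883) (BT.leaf cE884)) (BT.leaf cE885)) (BT.node 886 (BT.leaf cE886) (BT.leaf cE887)))) (BT.node 892 (BT.node 890 (BT.node 889 (BT.node 888 (BT.leaf cE888) (BT.leaf cE889)) (BT.leaf cE890)) (BT.node 891 (BT.leaf cE891) (BT.leaf cE892))) (BT.node 894 (BT.node 893 (BT.leaf cE893) (BT.leaf cE894)) (BT.node 895 (BT.leaf cE895) (BT.leaf cE896))))) (BT.node 906 (BT.node 901 (BT.node 899 (BT.node 898 (BT.node 897 (BT.leaf cE897) (BT.leaf cE898)) (BT.leaf cE899)) (BT.node 900 (BT.leaf cE900) (BT.leaf cE901))) (BT.node 904 (BT.node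 903 (BT.node 902 (BT.leaf cE902) (BT.leaf cE903)) (BT.leaf cE904)) (BT.node 905 (BT.leaf cE905) (BT.leaf cE906)))) (BT.node 911 (BT.node 909 (BT.node 908 (BT.node 907 (BT.leaf cE907) (BT.leaf cE908)) (BT.leaf cE909)) (BT.node 910 (BT.leaf cE910) (BT.leaf cE911))) (BT.node 913 (BT.node 912 (BT.leaf cE912) (BT.leaf cE913)) (BT.node 914 (BT.leaf cE914) (BT.leaf cE915))))))))) (BT.node 1068 (BT.node 992 (BT.node 954 (BT.node 935 (BT.node 925 (BT.node 920 (BT.node 918 (BT.node 917 (BT.node 916 (BT.leaf cE916) (BT.leaf cE917)) (BT.leaf cE918)) (BT.node 919 (BT.leaf cE919) (BT.leaf cE920))) (BT.node 923 (BT.node 922 (BT.node 921 (BT.leaf cE921) (BT.leaf cE922)) (BT.leaf cE923)) (BT.node 924 (BT.leaf cE924) (BT.leaf cE925)))) (BT.node 930 (BT.node 928 (BT.node 927 (BT.node 926 (BT.leaf cE926) (BT.leaf cE927)) (BT.leaf cE928)) (BT.node 929 (BT.leaf cE929) (BT.leaf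 cE930))) (BT.node 933 (BT.node 932 (BT.node 931 (BT.leaf cE931) (BT.leaf cE932)) (BT.leaf cE933)) (BT.node 934 (BT.leaf cE934) (BT.leaf cE935))))) (BT.node 945 (BT.node 940 (BT.node 938 (BT.node 937 (BT.node 936 (BT.leaf cE936) (BT.leaf cE937)) (BT.leaf cE938)) (BT.node 939 (BT.leaf cE939) (BT.leaf cE940))) (BT.node 943 (BT.node 942 (BT.node 941 (BT.leaf cE941) (BT.leaf cE942)) (BT.leaf cE943)) (BT.node 944 (BT.leaf cE944) (BT.leaf cE945)))) (BT.node 950 (BT.node 948 (BT.node 947 (BT.node 946 (BT.leaf cE946) (BT.leaf cE947)) (BT.leaf cE948)) (BT.node 949 (BT.leaf cE949) (BT.leaf cE950))) (BT.node 952 (BT.node 951 (BT.leaf cE951) (BT.leaf cE952)) (BT.node 953 (BT.leaf cE953) (BT.leaf cE954)))))) (BT.node 973 (BT.node 964 (BT.node 959 (BT.node 957 (BT.node 956 (BT.node 955 (BT.leaf cE955) (BT.leaf cE956)) (BT.leaf cE957)) (BT.node 958 (BT.leaf cE958) (BT.leaf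 cE959))) (BT.node 962 (BT.node 961 (BT.node 960 (BT.leaf cE960) (BT.leaf cE961)) (BT.leaf cE962)) (BT.node 963 (BT.leaf cE963) (BT.leaf cE964)))) (BT.node 969 (BT.node 967 (BT.node 966 (BT.node 965 (BT.leaf cE965) (BT.leaf cE966)) (BT.leaf cE967)) (BT.node 968 (BT.leaf cE968) (BT.leaf cE969))) (BT.node 971 (BT.node 970 (BT.leaf cE970) (BT.leaf cE971)) (BT.node 972 (BT.leaf cE972) (BT.leaf cE973))))) (BT.node 983 (BT.node 978 (BT.node 976 (BT.node 975 (BT.node 974 (BT.leaf cE974) (BT.leaf cE975)) (BT.leaf cE976)) (BT.node 977 (BT.leaf cE977) (BT.leaf cE978))) (BT.node 981 (BT.node 980 (BT.node 979 (BT.leaf cE979) (BT.leaf cE980)) (BT.leaf cE981)) (BT.node 982 (BT.leaf cE982) (BT.leaf cE983)))) (BT.node 988 (BT.node 986 (BT.node 985 (BT.node 984 (BT.leaf cE984) (BT.leaf cE985)) (BT.leaf cE986)) (BT.node 987 (BT.leaf cE987) (BT.leaf cE988))) (BT.node 990 (BT.node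 989 (BT.leaf cE989) (BT.leaf cE990)) (BT.node 991 (BT.leaf cE991) (BT.leaf cE992))))))) (BT.node 1030 (BT.node 1011 (BT.node 1002 (BT.node 997 (BT.node 995 (BT.node 994 (BT.node 993 (BT.leaf cE993) (BT.leaf cE994)) (BT.leaf cE995)) (BT.node 996 (BT.leaf cE996) (BT.leaf cE997))) (BT.node 1000 (BT.node 999 (BT.node 998 (BT.leaf cE998) (BT.leaf cE999)) (BT.leaf cE1000)) (BT.node 1001 (BT.leaf cE1001) (BT.leaf cE1002)))) (BT.node 1007 (BT.node 1005 (BT.node 1004 (BT.node 1003 (BT.leaf cE1003) (BT.leaf cE1004)) (BT.leaf cE1005)) (BT.node 1006 (BT.leaf cE1006) (BT.leaf cE1007))) (BT.node 1009 (BT.node 1008 (BT.leaf cE1008) (BT.leaf cE1009)) (BT.node 1010 (BT.leaf cE1010) (BT.leaf cE1011))))) (BT.node 1021 (BT.node 1016 (BT.node 1014 (BT.node 1013 (BT.node 1012 (BT.leaf cE1012) (BT.leaf cE1013)) (BT.leaf cE1014)) (BT.node 1015 (BT.leaf cE1015) (BT.leaf cE1016)))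 (BT.node 1019 (BT.node 1018 (BT.node 1017 (BT.leaf cE1017) (BT.leaf cE1018)) (BT.leaf cE1019)) (BT.node 1020 (BT.leaf cE1020) (BT.leaf cE1021)))) (BT.node 1026 (BT.node 1024 (BT.node 1023 (BT.node 1022 (BT.leaf cE1022) (BT.leaf cE1023)) (BT.leaf cE1024)) (BT.node 1025 (BT.leaf cE1025) (BT.leaf cE1026))) (BT.node 1028 (BT.node 1027 (BT.leaf cE1027) (BT.leaf cE1028)) (BT.node 1029 (BT.leaf cE1029) (BT.leaf cE1030)))))) (BT.node 1049 (BT.node 1040 (BT.node 1035 (BT.node 1033 (BT.node 1032 (BT.node 1031 (BT.leaf cE1031) (BT.leaf cE1032)) (BT.leaf cE1033)) (BT.node 1034 (BT.leaf cE1034) (BT.leaf cE1035))) (BT.node 1038 (BT.node 1037 (BT.node 1036 (BT.leaf cE1036) (BT.leaf cE1037)) (BT.leaf cE1038)) (BT.node 1039 (BT.leaf cE1039) (BT.leaf cE1040)))) (BT.node 1045 (BT.node 1043 (BT.node 1042 (BT.node 1041 (BT.leaf cE1041) (BT.leaf cE1042)) (BT.leaf cE1043)) (BT.node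 1044 (BT.leaf cE1044) (BT.leaf cE1045))) (BT.node 1047 (BT.node 1046 (BT.leaf cE1046) (BT.leaf cE1047)) (BT.node 1048 (BT.leaf cE1048) (BT.leaf cE1049))))) (BT.node 1059 (BT.node 1054 (BT.node 1052 (BT.node 1051 (BT.node 1050 (BT.leaf cE1050) (BT.leaf cE1051)) (BT.leaf cE1052)) (BT.node 1053 (BT.leaf cE1053) (BT.leaf cE1054))) (BT.node 1057 (BT.node 1056 (BT.node 1055 (BT.leaf cE1055) (BT.leaf cE1056)) (BT.leaf cE1057)) (BT.node 1058 (BT.leaf cE1058) (BT.leaf cE1059)))) (BT.node 1064 (BT.node 1062 (BT.node 1061 (BT.node 1060 (BT.leaf cE1060) (BT.leaf cE1061)) (BT.leaf cE1062)) (BT.node 1063 (BT.leaf cE1063) (BT.leaf cE1064))) (BT.node 1066 (BT.node 1065 (BT.leaf cE1065) (BT.leaf cE1066)) (BT.node 1067 (BT.leaf cE1067) (BT.leaf cE1068)))))))) (BT.node 1144 (BT.node 1106 (BT.node 1087 (BT.node 1078 (BT.node 1073 (BT.node 1071 (BT.node 1070 (BT.node 1069 (BT.leaf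 cE1069) (BT.leaf cE1070)) (BT.leaf cE1071)) (BT.node 1072 (BT.leaf cE1072) (BT.leaf cE1073))) (BT.node 1076 (BT.node 1075 (BT.node 1074 (BT.leaf cE1074) (BT.leaf cE1075)) (BT.leaf cE1076)) (BT.node 1077 (BT.leaf cE1077) (BT.leaf cE1078)))) (BT.node 1083 (BT.node 1081 (BT.node 1080 (BT.node 1079 (BT.leaf cE1079) (BT.leaf cE1080)) (BT.leaf cE1081)) (BT.node 1082 (BT.leaf cE1082) (BT.leaf cE1083))) (BT.node 1085 (BT.node 1084 (BT.leaf cE1084) (BT.leaf cE1085)) (BT.node 1086 (BT.leaf cE1086) (BT.leaf cE1087))))) (BT.node 1097 (BT.node 1092 (BT.node 1090 (BT.node 1089 (BT.node 1088 (BT.leaf cE1088) (BT.leaf cE1089)) (BT.leaf cE1090)) (BT.node 1091 (BT.leaf cE1091) (BT.leaf cE1092))) (BT.node 1095 (BT.node 1094 (BT.node 1093 (BT.leaf cE1093) (BT.leaf cE1094)) (BT.leaf cE1095)) (BT.node 1096 (BT.leaf cE1096) (BT.leaf cE1097)))) (BT.node 1102 (BT.node 1100 (BT.node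 1099 (BT.node 1098 (BT.leaf cE1098) (BT.leaf cE1099)) (BT.leaf cE1100)) (BT.node 1101 (BT.leaf cE1101) (BT.leaf cE1102))) (BT.node 1104 (BT.node 1103 (BT.leaf cE1103) (BT.leaf cE1104)) (BT.node 1105 (BT.leaf cE1105) (BT.leaf cE1106)))))) (BT.node 1125 (BT.node 1116 (BT.node 1111 (BT.node 1109 (BT.node 1108 (BT.node 1107 (BT.leaf cE1107) (BT.leaf cE1108)) (BT.leaf cE1109)) (BT.node 1110 (BT.leaf cE1110) (BT.leaf cE1111))) (BT.node 1114 (BT.node 1113 (BT.node 1112 (BT.leaf cE1112) (BT.leaf cE1113)) (BT.leaf cE1114)) (BT.node 1115 (BT.leaf cE1115) (BT.leaf cE1116)))) (BT.node 1121 (BT.node 1119 (BT.node 1118 (BT.node 1117 (BT.leaf cE1117) (BT.leaf cE1118)) (BT.leaf cE1119)) (BT.node 1120 (BT.leaf cE1120) (BT.leaf cE1121))) (BT.node 1123 (BT.node 1122 (BT.leaf cE1122) (BT.leaf cE1123)) (BT.node 1124 (BT.leaf cE1124) (BT.leaf cE1125))))) (BT.node 1135 (BT.node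 1130 (BT.node 1128 (BT.node 1127 (BT.node 1126 (BT.leaf cE1126) (BT.leaf cE1127)) (BT.leaf cE1128)) (BT.node 1129 (BT.leaf cE1129) (BT.leaf cE1130))) (BT.node 1133 (BT.node 1132 (BT.node 1131 (BT.leaf cE1131) (BT.leaf cE1132)) (BT.leaf cE1133)) (BT.node 1134 (BT.leaf cE1134) (BT.leaf cE1135)))) (BT.node 1140 (BT.node 1138 (BT.node 1137 (BT.node 1136 (BT.leaf cE1136) (BT.leaf cE1137)) (BT.leaf cE1138)) (BT.node 1139 (BT.leaf cE1139) (BT.leaf cE1140))) (BT.node 1142 (BT.node 1141 (BT.leaf cE1141) (BT.leaf cE1142)) (BT.node 1143 (BT.leaf cE1143) (BT.leaf cE1144))))))) (BT.node 1182 (BT.node 1163 (BT.node 1154 (BT.node 1149 (BT.node 1147 (BT.node 1146 (BT.node 1145 (BT.leaf cE1145) (BT.leaf cE1146)) (BT.leaf cE1147)) (BT.node 1148 (BT.leaf cE1148) (BT.leaf cE1149))) (BT.node 1152 (BT.node 1151 (BT.node 1150 (BT.leaf cE1150) (BT.leaf cE1151)) (BT.leaf cE1152))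 (BT.node 1153 (BT.leaf cE1153) (BT.leaf cE1154)))) (BT.node 1159 (BT.node 1157 (BT.node 1156 (BT.node 1155 (BT.leaf cE1155) (BT.leaf cE1156)) (BT.leaf cE1157)) (BT.node 1158 (BT.leaf cE1158) (BT.leaf cE1159))) (BT.node 1161 (BT.node 1160 (BT.leaf cE1160) (BT.leaf cE1161)) (BT.node 1162 (BT.leaf cE1162) (BT.leaf cE1163))))) (BT.node 1173 (BT.node 1168 (BT.node 1166 (BT.node 1165 (BT.node 1164 (BT.leaf cE1164) (BT.leaf cE1165)) (BT.leaf cE1166)) (BT.node 1167 (BT.leaf cE1167) (BT.leaf cE1168))) (BT.node 1171 (BT.node 1170 (BT.node 1169 (BT.leaf cE1169) (BT.leaf cE1170)) (BT.leaf cE1171)) (BT.node 1172 (BT.leaf cE1172) (BT.leaf cE1173)))) (BT.node 1178 (BT.node 1176 (BT.node 1175 (BT.node 1174 (BT.leaf cE1174) (BT.leaf cE1175)) (BT.leaf cE1176)) (BT.node 1177 (BT.leaf cE1177) (BT.leaf cE1178))) (BT.node 1180 (BT.node 1179 (BT.leaf cE1179) (BT.leaf cE1180))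 (BT.node 1181 (BT.leaf cE1181) (BT.leaf cE1182)))))) (BT.node 1201 (BT.node 1192 (BT.node 1187 (BT.node 1185 (BT.node 1184 (BT.node 1183 (BT.leaf cE1183) (BT.leaf cE1184)) (BT.leaf cE1185)) (BT.node 1186 (BT.leaf cE1186) (BT.leaf cE1187))) (BT.node 1190 (BT.node 1189 (BT.node 1188 (BT.leaf cE1188) (BT.leaf cE1189)) (BT.leaf cE1190)) (BT.node 1191 (BT.leaf cE1191) (BT.leaf cE1192)))) (BT.node 1197 (BT.node 1195 (BT.node 1194 (BT.node 1193 (BT.leaf cE1193) (BT.leaf cE1194)) (BT.leaf cE1195)) (BT.node 1196 (BT.leaf cE1196) (BT.leaf cE1197))) (BT.node 1199 (BT.node 1198 (BT.leaf cE1198) (BT.leaf cE1199)) (BT.node 1200 (BT.leaf cE1200) (BT.leaf cE1201))))) (BT.node 1211 (BT.node 1206 (BT.node 1204 (BT.node 1203 (BT.node 1202 (BT.leaf cE1202) (BT.leaf cE1203)) (BT.leaf cE1204)) (BT.node 1205 (BT.leaf cE1205) (BT.leaf cE1206))) (BT.node 1209 (BT.node 1208 (BT.node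 1207 (BT.leaf cE1207) (BT.leaf cE1208)) (BT.leaf cE1209)) (BT.node 1210 (BT.leaf cE1210) (BT.leaf cE1211)))) (BT.node 1216 (BT.node 1214 (BT.node 1213 (BT.node 1212 (BT.leaf cE1212) (BT.leaf cE1213)) (BT.leaf cE1214)) (BT.node 1215 (BT.leaf cE1215) (BT.leaf cE1216))) (BT.node 1218 (BT.node 1217 (BT.leaf cE1217) (BT.leaf cE1218)) (BT.node 1219 (BT.leaf cE1219) (BT.leaf cE1220)))))))))))
/-- justification chunks -/
def colJT : BT ℕ := (BT.node 610 (BT.node 305 (BT.node 152 (BT.node 76 (BT.node 38 (BT.node 19 (BT.node 9 (BT.node 4 (BT.node 2 (BT.node 1 (BT.node 0 (BT.leaf cJ0) (BT.leaf cJ1)) (BT.leaf cJ2)) (BT.node 3 (BT.leaf cJ3) (BT.leaf cJ4))) (BT.node 7 (BT.node 6 (BT.node 5 (BT.leaf cJ5) (BT.leaf cJ6)) (BT.leaf cJ7)) (BT.node 8 (BT.leaf cJ8) (BT.leaf cJ9)))) (BT.node 14 (BT.node 12 (BT.node 11 (BT.node 10 (BT.leaf cJ10) (BT.leaf cJ11)) (BT.leaf cJ12))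 (BT.node 13 (BT.leaf cJ13) (BT.leaf cJ14))) (BT.node 17 (BT.node 16 (BT.node 15 (BT.leaf cJ15) (BT.leaf cJ16)) (BT.leaf cJ17)) (BT.node 18 (BT.leaf cJ18) (BT.leaf cJ19))))) (BT.node 29 (BT.node 24 (BT.node 22 (BT.node 21 (BT.node 20 (BT.leaf cJ20) (BT.leaf cJ21)) (BT.leaf cJ22)) (BT.node 23 (BT.leaf cJ23) (BT.leaf cJ24))) (BT.node 27 (BT.node 26 (BT.node 25 (BT.leaf cJ25) (BT.leaf cJ26)) (BT.leaf cJ27)) (BT.node 28 (BT.leaf cJ28) (BT.leaf cJ29)))) (BT.node 34 (BT.node 32 (BT.node 31 (BT.node 30 (BT.leaf cJ30) (BT.leaf cJ31)) (BT.leaf cJ32)) (BT.node 33 (BT.leaf cJ33) (BT.leaf cJ34))) (BT.node 36 (BT.node 35 (BT.leaf cJ35) (BT.leaf cJ36)) (BT.node 37 (BT.leaf cJ37) (BT.leaf cJ38)))))) (BT.node 57 (BT.node 48 (BT.node 43 (BT.node 41 (BT.node 40 (BT.node 39 (BT.leaf cJ39) (BT.leaf cJ40)) (BT.leaf cJ41)) (BT.node 42 (BT.leaf cJ42) (BT.leaf cJ43))) (BT.node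 46 (BT.node 45 (BT.node 44 (BT.leaf cJ44) (BT.leaf cJ45)) (BT.leaf cJ46)) (BT.node 47 (BT.leaf cJ47) (BT.leaf cJ48)))) (BT.node 53 (BT.node 51 (BT.node 50 (BT.node 49 (BT.leaf cJ49) (BT.leaf cJ50)) (BT.leaf cJ51)) (BT.node 52 (BT.leaf cJ52) (BT.leaf cJ53))) (BT.node 55 (BT.node 54 (BT.leaf cJ54) (BT.leaf cJ55)) (BT.node 56 (BT.leaf cJ56) (BT.leaf cJ57))))) (BT.node 67 (BT.node 62 (BT.node 60 (BT.node 59 (BT.node 58 (BT.leaf cJ58) (BT.leaf cJ59)) (BT.leaf cJ60)) (BT.node 61 (BT.leaf cJ61) (BT.leaf cJ62))) (BT.node 65 (BT.node 64 (BT.node 63 (BT.leaf cJ63) (BT.leaf cJ64)) (BT.leaf cJ65)) (BT.node 66 (BT.leaf cJ66) (BT.leaf cJ67)))) (BT.node 72 (BT.node 70 (BT.node 69 (BT.node 68 (BT.leaf cJ68) (BT.leaf cJ69)) (BT.leaf cJ70)) (BT.node 71 (BT.leaf cJ71) (BT.leaf cJ72))) (BT.node 74 (BT.node 73 (BT.leaf cJ73) (BT.leaf cJ74)) (BT.node 75 (BT.leaf cJ75) (BT.leaf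 cJ76))))))) (BT.node 114 (BT.node 95 (BT.node 86 (BT.node 81 (BT.node 79 (BT.node 78 (BT.node 77 (BT.leaf cJ77) (BT.leaf cJ78)) (BT.leaf cJ79)) (BT.node 80 (BT.leaf cJ80) (BT.leaf cJ81))) (BT.node 84 (BT.node 83 (BT.node 82 (BT.leaf cJ82) (BT.leaf cJ83)) (BT.leaf cJ84)) (BT.node 85 (BT.leaf cJ85) (BT.leaf cJ86)))) (BT.node 91 (BT.node 89 (BT.node 88 (BT.node 87 (BT.leaf cJ87) (BT.leaf cJ88)) (BT.leaf cJ89)) (BT.node 90 (BT.leaf cJ90) (BT.leaf cJ91))) (BT.node 93 (BT.node 92 (BT.leaf cJ92) (BT.leaf cJ93)) (BT.node 94 (BT.leaf cJ94) (BT.leaf cJ95))))) (BT.node 105 (BT.node 100 (BT.node 98 (BT.node 97 (BT.node 96 (BT.leaf cJ96) (BT.leaf cJ97)) (BT.leaf cJ98)) (BT.node 99 (BT.leaf cJ99) (BT.leaf cJ100))) (BT.node 103 (BT.node 102 (BT.node 101 (BT.leaf cJ101) (BT.leaf cJ102)) (BT.leaf cJ103)) (BT.node 104 (BT.leaf cJ104) (BT.leaf cJ105)))) (BT.node 110 (BT.node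 108 (BT.node 107 (BT.node 106 (BT.leaf cJ106) (BT.leaf cJ107)) (BT.leaf cJ108)) (BT.node 109 (BT.leaf cJ109) (BT.leaf cJ110))) (BT.node 112 (BT.node 111 (BT.leaf cJ111) (BT.leaf cJ112)) (BT.node 113 (BT.leaf cJ113) (BT.leaf cJ114)))))) (BT.node 133 (BT.node 124 (BT.node 119 (BT.node 117 (BT.node 116 (BT.node 115 (BT.leaf cJ115) (BT.leaf cJ116)) (BT.leaf cJ117)) (BT.node 118 (BT.leaf cJ118) (BT.leaf cJ119))) (BT.node 122 (BT.node 121 (BT.node 120 (BT.leaf cJ120) (BT.leaf cJ121)) (BT.leaf cJ122)) (BT.node 123 (BT.leaf cJ123) (BT.leaf cJ124)))) (BT.node 129 (BT.node 127 (BT.node 126 (BT.node 125 (BT.leaf cJ125) (BT.leaf cJ126)) (BT.leaf cJ127)) (BT.node 128 (BT.leaf cJ128) (BT.leaf cJ129))) (BT.node 131 (BT.node 130 (BT.leaf cJ130) (BT.leaf cJ131)) (BT.node 132 (BT.leaf cJ132) (BT.leaf cJ133))))) (BT.node 143 (BT.node 138 (BT.node 136 (BT.node 135 (BT.node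 134 (BT.leaf cJ134) (BT.leaf cJ135)) (BT.leaf cJ136)) (BT.node 137 (BT.leaf cJ137) (BT.leaf cJ138))) (BT.node 141 (BT.node 140 (BT.node 139 (BT.leaf cJ139) (BT.leaf cJ140)) (BT.leaf cJ141)) (BT.node 142 (BT.leaf cJ142) (BT.leaf cJ143)))) (BT.node 148 (BT.node 146 (BT.node 145 (BT.node 144 (BT.leaf cJ144) (BT.leaf cJ145)) (BT.leaf cJ146)) (BT.node 147 (BT.leaf cJ147) (BT.leaf cJ148))) (BT.node 150 (BT.node 149 (BT.leaf cJ149) (BT.leaf cJ150)) (BT.node 151 (BT.leaf cJ151) (BT.leaf cJ152)))))))) (BT.node 229 (BT.node 191 (BT.node 172 (BT.node 162 (BT.node 157 (BT.node 155 (BT.node 154 (BT.node 153 (BT.leaf cJ153) (BT.leaf cJ154)) (BT.leaf cJ155)) (BT.node 156 (BT.leaf cJ156) (BT.leaf cJ157))) (BT.node 160 (BT.node 159 (BT.node 158 (BT.leaf cJ158) (BT.leaf cJ159)) (BT.leaf cJ160)) (BT.node 161 (BT.leaf cJ161) (BT.leaf cJ162)))) (BT.node 167 (BT.node 165 (BT.node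 164 (BT.node 163 (BT.leaf cJ163) (BT.leaf cJ164)) (BT.leaf cJ165)) (BT.node 166 (BT.leaf cJ166) (BT.leaf cJ167))) (BT.node 170 (BT.node 169 (BT.node 168 (BT.leaf cJ168) (BT.leaf cJ169)) (BT.leaf cJ170)) (BT.node 171 (BT.leaf cJ171) (BT.leaf cJ172))))) (BT.node 182 (BT.node 177 (BT.node 175 (BT.node 174 (BT.node 173 (BT.leaf cJ173) (BT.leaf cJ174)) (BT.leaf cJ175)) (BT.node 176 (BT.leaf cJ176) (BT.leaf cJ177))) (BT.node 180 (BT.node 179 (BT.node 178 (BT.leaf cJ178) (BT.leaf cJ179)) (BT.leaf cJ180)) (BT.node 181 (BT.leaf cJ181) (BT.leaf cJ182)))) (BT.node 187 (BT.node 185 (BT.node 184 (BT.node 183 (BT.leaf cJ183) (BT.leaf cJ184)) (BT.leaf cJ185)) (BT.node 186 (BT.leaf cJ186) (BT.leaf cJ187))) (BT.node 189 (BT.node 188 (BT.leaf cJ188) (BT.leaf cJ189)) (BT.node 190 (BT.leaf cJ190) (BT.leaf cJ191)))))) (BT.node 210 (BT.node 201 (BT.node 196 (BT.node 194 (BT.node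 193 (BT.node 192 (BT.leaf cJ192) (BT.leaf cJ193)) (BT.leaf cJ194)) (BT.node 195 (BT.leaf cJ195) (BT.leaf cJ196))) (BT.node 199 (BT.node 198 (BT.node 197 (BT.leaf cJ197) (BT.leaf cJ198)) (BT.leaf cJ199)) (BT.node 200 (BT.leaf cJ200) (BT.leaf cJ201)))) (BT.node 206 (BT.node 204 (BT.node 203 (BT.node 202 (BT.leaf cJ202) (BT.leaf cJ203)) (BT.leaf cJ204)) (BT.node 205 (BT.leaf cJ205) (BT.leaf cJ206))) (BT.node 208 (BT.node 207 (BT.leaf cJ207) (BT.leaf cJ208)) (BT.node 209 (BT.leaf cJ209) (BT.leaf cJ210))))) (BT.node 220 (BT.node 215 (BT.node 213 (BT.node 212 (BT.node 211 (BT.leaf cJ211) (BT.leaf cJ212)) (BT.leaf cJ213)) (BT.node 214 (BT.leaf cJ214) (BT.leaf cJ215))) (BT.node 218 (BT.node 217 (BT.node 216 (BT.leaf cJ216) (BT.leaf cJ217)) (BT.leaf cJ218)) (BT.node 219 (BT.leaf cJ219) (BT.leaf cJ220)))) (BT.node 225 (BT.node 223 (BT.node 222 (BT.node 221 (BT.leaf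 cJ221) (BT.leaf cJ222)) (BT.leaf cJ223)) (BT.node 224 (BT.leaf cJ224) (BT.leaf cJ225))) (BT.node 227 (BT.node 226 (BT.leaf cJ226) (BT.leaf cJ227)) (BT.node 228 (BT.leaf cJ228) (BT.leaf cJ229))))))) (BT.node 267 (BT.node 248 (BT.node 239 (BT.node 234 (BT.node 232 (BT.node 231 (BT.node 230 (BT.leaf cJ230) (BT.leaf cJ231)) (BT.leaf cJ232)) (BT.node 233 (BT.leaf cJ233) (BT.leaf cJ234))) (BT.node 237 (BT.node 236 (BT.node 235 (BT.leaf cJ235) (BT.leaf cJ236)) (BT.leaf cJ237)) (BT.node 238 (BT.leaf cJ238) (BT.leaf cJ239)))) (BT.node 244 (BT.node 242 (BT.node 241 (BT.node 240 (BT.leaf cJ240) (BT.leaf cJ241)) (BT.leaf cJ242)) (BT.node 243 (BT.leaf cJ243) (BT.leaf cJ244))) (BT.node 246 (BT.node 245 (BT.leaf cJ245) (BT.leaf cJ246)) (BT.node 247 (BT.leaf cJ247) (BT.leaf cJ248))))) (BT.node 258 (BT.node 253 (BT.node 251 (BT.node 250 (BT.node 249 (BT.leaf cJ249) (BT.leaf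 cJ250)) (BT.leaf cJ251)) (BT.node 252 (BT.leaf cJ252) (BT.leaf cJ253))) (BT.node 256 (BT.node 255 (BT.node 254 (BT.leaf cJ254) (BT.leaf cJ255)) (BT.leaf cJ256)) (BT.node 257 (BT.leaf cJ257) (BT.leaf cJ258)))) (BT.node 263 (BT.node 261 (BT.node 260 (BT.node 259 (BT.leaf cJ259) (BT.leaf cJ260)) (BT.leaf cJ261)) (BT.node 262 (BT.leaf cJ262) (BT.leaf cJ263))) (BT.node 265 (BT.node 264 (BT.leaf cJ264) (BT.leaf cJ265)) (BT.node 266 (BT.leaf cJ266) (BT.leaf cJ267)))))) (BT.node 286 (BT.node 277 (BT.node 272 (BT.node 270 (BT.node 269 (BT.node 268 (BT.leaf cJ268) (BT.leaf cJ269)) (BT.leaf cJ270)) (BT.node 271 (BT.leaf cJ271) (BT.leaf cJ272))) (BT.node 275 (BT.node 274 (BT.node 273 (BT.leaf cJ273) (BT.leaf cJ274)) (BT.leaf cJ275)) (BT.node 276 (BT.leaf cJ276) (BT.leaf cJ277)))) (BT.node 282 (BT.node 280 (BT.node 279 (BT.node 278 (BT.leaf cJ278) (BT.leaf cJ279)) (BT.leaf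 cJ280)) (BT.node 281 (BT.leaf cJ281) (BT.leaf cJ282))) (BT.node 284 (BT.node 283 (BT.leaf cJ283) (BT.leaf cJ284)) (BT.node 285 (BT.leaf cJ285) (BT.leaf cJ286))))) (BT.node 296 (BT.node 291 (BT.node 289 (BT.node 288 (BT.node 287 (BT.leaf cJ287) (BT.leaf cJ288)) (BT.leaf cJ289)) (BT.node 290 (BT.leaf cJ290) (BT.leaf cJ291))) (BT.node 294 (BT.node 293 (BT.node 292 (BT.leaf cJ292) (BT.leaf cJ293)) (BT.leaf cJ294)) (BT.node 295 (BT.leaf cJ295) (BT.leaf cJ296)))) (BT.node 301 (BT.node 299 (BT.node 298 (BT.node 297 (BT.leaf cJ297) (BT.leaf cJ298)) (BT.leaf cJ299)) (BT.node 300 (BT.leaf cJ300) (BT.leaf cJ301))) (BT.node 303 (BT.node 302 (BT.leaf cJ302) (BT.leaf cJ303)) (BT.node 304 (BT.leaf cJ304) (BT.leaf cJ305))))))))) (BT.node 458 (BT.node 382 (BT.node 344 (BT.node 325 (BT.node 315 (BT.node 310 (BT.node 308 (BT.node 307 (BT.node 306 (BT.leaf cJ306) (BT.leaf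 cJ307)) (BT.leaf cJ308)) (BT.node 309 (BT.leaf cJ309) (BT.leaf cJ310))) (BT.node 313 (BT.node 312 (BT.node 311 (BT.leaf cJ311) (BT.leaf cJ312)) (BT.leaf cJ313)) (BT.node 314 (BT.leaf cJ314) (BT.leaf cJ315)))) (BT.node 320 (BT.node 318 (BT.node 317 (BT.node 316 (BT.leaf cJ316) (BT.leaf cJ317)) (BT.leaf cJ318)) (BT.node 319 (BT.leaf cJ319) (BT.leaf cJ320))) (BT.node 323 (BT.node 322 (BT.node 321 (BT.leaf cJ321) (BT.leaf cJ322)) (BT.leaf cJ323)) (BT.node 324 (BT.leaf cJ324) (BT.leaf cJ325))))) (BT.node 335 (BT.node 330 (BT.node 328 (BT.node 327 (BT.node 326 (BT.leaf cJ326) (BT.leaf cJ327)) (BT.leaf cJ328)) (BT.node 329 (BT.leaf cJ329) (BT.leaf cJ330))) (BT.node 333 (BT.node 332 (BT.node 331 (BT.leaf cJ331) (BT.leaf cJ332)) (BT.leaf cJ333)) (BT.node 334 (BT.leaf cJ334) (BT.leaf cJ335)))) (BT.node 340 (BT.node 338 (BT.node 337 (BT.node 336 (BT.leaf cJ336) (BT.leaf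 cJ337)) (BT.leaf cJ338)) (BT.node 339 (BT.leaf cJ339) (BT.leaf cJ340))) (BT.node 342 (BT.node 341 (BT.leaf cJ341) (BT.leaf cJ342)) (BT.node 343 (BT.leaf cJ343) (BT.leaf cJ344)))))) (BT.node 363 (BT.node 354 (BT.node 349 (BT.node 347 (BT.node 346 (BT.node 345 (BT.leaf cJ345) (BT.leaf cJ346)) (BT.leaf cJ347)) (BT.node 348 (BT.leaf cJ348) (BT.leaf cJ349))) (BT.node 352 (BT.node 351 (BT.node 350 (BT.leaf cJ350) (BT.leaf cJ351)) (BT.leaf cJ352)) (BT.node 353 (BT.leaf cJ353) (BT.leaf cJ354)))) (BT.node 359 (BT.node 357 (BT.node 356 (BT.node 355 (BT.leaf cJ355) (BT.leaf cJ356)) (BT.leaf cJ357)) (BT.node 358 (BT.leaf cJ358) (BT.leaf cJ359))) (BT.node 361 (BT.node 360 (BT.leaf cJ360) (BT.leaf cJ361)) (BT.node 362 (BT.leaf cJ362) (BT.leaf cJ363))))) (BT.node 373 (BT.node 368 (BT.node 366 (BT.node 365 (BT.node 364 (BT.leaf cJ364) (BT.leaf cJ365)) (BT.leaf cJ366))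 (BT.node 367 (BT.leaf cJ367) (BT.leaf cJ368))) (BT.node 371 (BT.node 370 (BT.node 369 (BT.leaf cJ369) (BT.leaf cJ370)) (BT.leaf cJ371)) (BT.node 372 (BT.leaf cJ372) (BT.leaf cJ373)))) (BT.node 378 (BT.node 376 (BT.node 375 (BT.node 374 (BT.leaf cJ374) (BT.leaf cJ375)) (BT.leaf cJ376)) (BT.node 377 (BT.leaf cJ377) (BT.leaf cJ378))) (BT.node 380 (BT.node 379 (BT.leaf cJ379) (BT.leaf cJ380)) (BT.node 381 (BT.leaf cJ381) (BT.leaf cJ382))))))) (BT.node 420 (BT.node 401 (BT.node 392 (BT.node 387 (BT.node 385 (BT.node 384 (BT.node 383 (BT.leaf cJ383) (BT.leaf cJ384)) (BT.leaf cJ385)) (BT.node 386 (BT.leaf cJ386) (BT.leaf cJ387))) (BT.node 390 (BT.node 389 (BT.node 388 (BT.leaf cJ388) (BT.leaf cJ389)) (BT.leaf cJ390)) (BT.node 391 (BT.leaf cJ391) (BT.leaf cJ392)))) (BT.node 397 (BT.node 395 (BT.node 394 (BT.node 393 (BT.leaf cJ393) (BT.leaf cJ394)) (BT.leaf cJ395))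 (BT.node 396 (BT.leaf cJ396) (BT.leaf cJ397))) (BT.node 399 (BT.node 398 (BT.leaf cJ398) (BT.leaf cJ399)) (BT.node 400 (BT.leaf cJ400) (BT.leaf cJ401))))) (BT.node 411 (BT.node 406 (BT.node 404 (BT.node 403 (BT.node 402 (BT.leaf cJ402) (BT.leaf cJ403)) (BT.leaf cJ404)) (BT.node 405 (BT.leaf cJ405) (BT.leaf cJ406))) (BT.node 409 (BT.node 408 (BT.node 407 (BT.leaf cJ407) (BT.leaf cJ408)) (BT.leaf cJ409)) (BT.node 410 (BT.leaf cJ410) (BT.leaf cJ411)))) (BT.node 416 (BT.node 414 (BT.node 413 (BT.node 412 (BT.leaf cJ412) (BT.leaf cJ413)) (BT.leaf cJ414)) (BT.node 415 (BT.leaf cJ415) (BT.leaf cJ416))) (BT.node 418 (BT.node 417 (BT.leaf cJ417) (BT.leaf cJ418)) (BT.node 419 (BT.leaf cJ419) (BT.leaf cJ420)))))) (BT.node 439 (BT.node 430 (BT.node 425 (BT.node 423 (BT.node 422 (BT.node 421 (BT.leaf cJ421) (BT.leaf cJ422)) (BT.leaf cJ423)) (BT.node 424 (BT.leaf cJ424)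 (BT.leaf cJ425))) (BT.node 428 (BT.node 427 (BT.node 426 (BT.leaf cJ426) (BT.leaf cJ427)) (BT.leaf cJ428)) (BT.node 429 (BT.leaf cJ429) (BT.leaf cJ430)))) (BT.node 435 (BT.node 433 (BT.node 432 (BT.node 431 (BT.leaf cJ431) (BT.leaf cJ432)) (BT.leaf cJ433)) (BT.node 434 (BT.leaf cJ434) (BT.leaf cJ435))) (BT.node 437 (BT.node 436 (BT.leaf cJ436) (BT.leaf cJ437)) (BT.node 438 (BT.leaf cJ438) (BT.leaf cJ439))))) (BT.node 449 (BT.node 444 (BT.node 442 (BT.node 441 (BT.node 440 (BT.leaf cJ440) (BT.leaf cJ441)) (BT.leaf cJ442)) (BT.node 443 (BT.leaf cJ443) (BT.leaf cJ444))) (BT.node 447 (BT.node 446 (BT.node 445 (BT.leaf cJ445) (BT.leaf cJ446)) (BT.leaf cJ447)) (BT.node 448 (BT.leaf cJ448) (BT.leaf cJ449)))) (BT.node 454 (BT.node 452 (BT.node 451 (BT.node 450 (BT.leaf cJ450) (BT.leaf cJ451)) (BT.leaf cJ452)) (BT.node 453 (BT.leaf cJ453) (BT.leaf cJ454))) (BT.node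 456 (BT.node 455 (BT.leaf cJ455) (BT.leaf cJ456)) (BT.node 457 (BT.leaf cJ457) (BT.leaf cJ458)))))))) (BT.node 534 (BT.node 496 (BT.node 477 (BT.node 468 (BT.node 463 (BT.node 461 (BT.node 460 (BT.node 459 (BT.leaf cJ459) (BT.leaf cJ460)) (BT.leaf cJ461)) (BT.node 462 (BT.leaf cJ462) (BT.leaf cJ463))) (BT.node 466 (BT.node 465 (BT.node 464 (BT.leaf cJ464) (BT.leaf cJ465)) (BT.leaf cJ466)) (BT.node 467 (BT.leaf cJ467) (BT.leaf cJ468)))) (BT.node 473 (BT.node 471 (BT.node 470 (BT.node 469 (BT.leaf cJ469) (BT.leaf cJ470)) (BT.leaf cJ471)) (BT.node 472 (BT.leaf cJ472) (BT.leaf cJ473))) (BT.node 475 (BT.node 474 (BT.leaf cJ474) (BT.leaf cJ475)) (BT.node 476 (BT.leaf cJ476) (BT.leaf cJ477))))) (BT.node 487 (BT.node 482 (BT.node 480 (BT.node 479 (BT.node 478 (BT.leaf cJ478) (BT.leaf cJ479)) (BT.leaf cJ480)) (BT.node 481 (BT.leaf cJ481) (BT.leaf cJ482))) (BT.node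 485 (BT.node 484 (BT.node 483 (BT.leaf cJ483) (BT.leaf cJ484)) (BT.leaf cJ485)) (BT.node 486 (BT.leaf cJ486) (BT.leaf cJ487)))) (BT.node 492 (BT.node 490 (BT.node 489 (BT.node 488 (BT.leaf cJ488) (BT.leaf cJ489)) (BT.leaf cJ490)) (BT.node 491 (BT.leaf cJ491) (BT.leaf cJ492))) (BT.node 494 (BT.node 493 (BT.leaf cJ493) (BT.leaf cJ494)) (BT.node 495 (BT.leaf cJ495) (BT.leaf cJ496)))))) (BT.node 515 (BT.node 506 (BT.node 501 (BT.node 499 (BT.node 498 (BT.node 497 (BT.leaf cJ497) (BT.leaf cJ498)) (BT.leaf cJ499)) (BT.node 500 (BT.leaf cJ500) (BT.leaf cJ501))) (BT.node 504 (BT.node 503 (BT.node 502 (BT.leaf cJ502) (BT.leaf cJ503)) (BT.leaf cJ504)) (BT.node 505 (BT.leaf cJ505) (BT.leaf cJ506)))) (BT.node 511 (BT.node 509 (BT.node 508 (BT.node 507 (BT.leaf cJ507) (BT.leaf cJ508)) (BT.leaf cJ509)) (BT.node 510 (BT.leaf cJ510) (BT.leaf cJ511))) (BT.node 513 (BT.node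 512 (BT.leaf cJ512) (BT.leaf cJ513)) (BT.node 514 (BT.leaf cJ514) (BT.leaf cJ515))))) (BT.node 525 (BT.node 520 (BT.node 518 (BT.node 517 (BT.node 516 (BT.leaf cJ516) (BT.leaf cJ517)) (BT.leaf cJ518)) (BT.node 519 (BT.leaf cJ519) (BT.leaf cJ520))) (BT.node 523 (BT.node 522 (BT.node 521 (BT.leaf cJ521) (BT.leaf cJ522)) (BT.leaf cJ523)) (BT.node 524 (BT.leaf cJ524) (BT.leaf cJ525)))) (BT.node 530 (BT.node 528 (BT.node 527 (BT.node 526 (BT.leaf cJ526) (BT.leaf cJ527)) (BT.leaf cJ528)) (BT.node 529 (BT.leaf cJ529) (BT.leaf cJ530))) (BT.node 532 (BT.node 531 (BT.leaf cJ531) (BT.leaf cJ532)) (BT.node 533 (BT.leaf cJ533) (BT.leaf cJ534))))))) (BT.node 572 (BT.node 553 (BT.node 544 (BT.node 539 (BT.node 537 (BT.node 536 (BT.node 535 (BT.leaf cJ535) (BT.leaf cJ536)) (BT.leaf cJ537)) (BT.node 538 (BT.leaf cJ538) (BT.leaf cJ539))) (BT.node 542 (BT.node 541 (BT.node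 540 (BT.leaf cJ540) (BT.leaf cJ541)) (BT.leaf cJ542)) (BT.node 543 (BT.leaf cJ543) (BT.leaf cJ544)))) (BT.node 549 (BT.node 547 (BT.node 546 (BT.node 545 (BT.leaf cJ545) (BT.leaf cJ546)) (BT.leaf cJ547)) (BT.node 548 (BT.leaf cJ548) (BT.leaf cJ549))) (BT.node 551 (BT.node 550 (BT.leaf cJ550) (BT.leaf cJ551)) (BT.node 552 (BT.leaf cJ552) (BT.leaf cJ553))))) (BT.node 563 (BT.node 558 (BT.node 556 (BT.node 555 (BT.node 554 (BT.leaf cJ554) (BT.leaf cJ555)) (BT.leaf cJ556)) (BT.node 557 (BT.leaf cJ557) (BT.leaf cJ558))) (BT.node 561 (BT.node 560 (BT.node 559 (BT.leaf cJ559) (BT.leaf cJ560)) (BT.leaf cJ561)) (BT.node 562 (BT.leaf cJ562) (BT.leaf cJ563)))) (BT.node 568 (BT.node 566 (BT.node 565 (BT.node 564 (BT.leaf cJ564) (BT.leaf cJ565)) (BT.leaf cJ566)) (BT.node 567 (BT.leaf cJ567) (BT.leaf cJ568))) (BT.node 570 (BT.node 569 (BT.leaf cJ569) (BT.leaf cJ570))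 (BT.node 571 (BT.leaf cJ571) (BT.leaf cJ572)))))) (BT.node 591 (BT.node 582 (BT.node 577 (BT.node 575 (BT.node 574 (BT.node 573 (BT.leaf cJ573) (BT.leaf cJ574)) (BT.leaf cJ575)) (BT.node 576 (BT.leaf cJ576) (BT.leaf cJ577))) (BT.node 580 (BT.node 579 (BT.node 578 (BT.leaf cJ578) (BT.leaf cJ579)) (BT.leaf cJ580)) (BT.node 581 (BT.leaf cJ581) (BT.leaf cJ582)))) (BT.node 587 (BT.node 585 (BT.node 584 (BT.node 583 (BT.leaf cJ583) (BT.leaf cJ584)) (BT.leaf cJ585)) (BT.node 586 (BT.leaf cJ586) (BT.leaf cJ587))) (BT.node 589 (BT.node 588 (BT.leaf cJ588) (BT.leaf cJ589)) (BT.node 590 (BT.leaf cJ590) (BT.leaf cJ591))))) (BT.node 601 (BT.node 596 (BT.node 594 (BT.node 593 (BT.node 592 (BT.leaf cJ592) (BT.leaf cJ593)) (BT.leaf cJ594)) (BT.node 595 (BT.leaf cJ595) (BT.leaf cJ596))) (BT.node 599 (BT.node 598 (BT.node 597 (BT.leaf cJ597) (BT.leaf cJ598)) (BT.leaf cJ599))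 (BT.node 600 (BT.leaf cJ600) (BT.leaf cJ601)))) (BT.node 606 (BT.node 604 (BT.node 603 (BT.node 602 (BT.leaf cJ602) (BT.leaf cJ603)) (BT.leaf cJ604)) (BT.node 605 (BT.leaf cJ605) (BT.leaf cJ606))) (BT.node 608 (BT.node 607 (BT.leaf cJ607) (BT.leaf cJ608)) (BT.node 609 (BT.leaf cJ609) (BT.leaf cJ610)))))))))) (BT.node 915 (BT.node 763 (BT.node 687 (BT.node 649 (BT.node 630 (BT.node 620 (BT.node 615 (BT.node 613 (BT.node 612 (BT.node 611 (BT.leaf cJ611) (BT.leaf cJ612)) (BT.leaf cJ613)) (BT.node 614 (BT.leaf cJ614) (BT.leaf cJ615))) (BT.node 618 (BT.node 617 (BT.node 616 (BT.leaf cJ616) (BT.leaf cJ617)) (BT.leaf cJ618)) (BT.node 619 (BT.leaf cJ619) (BT.leaf cJ620)))) (BT.node 625 (BT.node 623 (BT.node 622 (BT.node 621 (BT.leaf cJ621) (BT.leaf cJ622)) (BT.leaf cJ623)) (BT.node 624 (BT.leaf cJ624) (BT.leaf cJ625))) (BT.node 628 (BT.node 627 (BT.node 626 (BT.leaf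 cJ626) (BT.leaf cJ627)) (BT.leaf cJ628)) (BT.node 629 (BT.leaf cJ629) (BT.leaf cJ630))))) (BT.node 640 (BT.node 635 (BT.node 633 (BT.node 632 (BT.node 631 (BT.leaf cJ631) (BT.leaf cJ632)) (BT.leaf cJ633)) (BT.node 634 (BT.leaf cJ634) (BT.leaf cJ635))) (BT.node 638 (BT.node 637 (BT.node 636 (BT.leaf cJ636) (BT.leaf cJ637)) (BT.leaf cJ638)) (BT.node 639 (BT.leaf cJ639) (BT.leaf cJ640)))) (BT.node 645 (BT.node 643 (BT.node 642 (BT.node 641 (BT.leaf cJ641) (BT.leaf cJ642)) (BT.leaf cJ643)) (BT.node 644 (BT.leaf cJ644) (BT.leaf cJ645))) (BT.node 647 (BT.node 646 (BT.leaf cJ646) (BT.leaf cJ647)) (BT.node 648 (BT.leaf cJ648) (BT.leaf cJ649)))))) (BT.node 668 (BT.node 659 (BT.node 654 (BT.node 652 (BT.node 651 (BT.node 650 (BT.leaf cJ650) (BT.leaf cJ651)) (BT.leaf cJ652)) (BT.node 653 (BT.leaf cJ653) (BT.leaf cJ654))) (BT.node 657 (BT.node 656 (BT.node 655 (BT.leaf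 cJ655) (BT.leaf cJ656)) (BT.leaf cJ657)) (BT.node 658 (BT.leaf cJ658) (BT.leaf cJ659)))) (BT.node 664 (BT.node 662 (BT.node 661 (BT.node 660 (BT.leaf cJ660) (BT.leaf cJ661)) (BT.leaf cJ662)) (BT.node 663 (BT.leaf cJ663) (BT.leaf cJ664))) (BT.node 666 (BT.node 665 (BT.leaf cJ665) (BT.leaf cJ666)) (BT.node 667 (BT.leaf cJ667) (BT.leaf cJ668))))) (BT.node 678 (BT.node 673 (BT.node 671 (BT.node 670 (BT.node 669 (BT.leaf cJ669) (BT.leaf cJ670)) (BT.leaf cJ671)) (BT.node 672 (BT.leaf cJ672) (BT.leaf cJ673))) (BT.node 676 (BT.node 675 (BT.node 674 (BT.leaf cJ674) (BT.leaf cJ675)) (BT.leaf cJ676)) (BT.node 677 (BT.leaf cJ677) (BT.leaf cJ678)))) (BT.node 683 (BT.node 681 (BT.node 680 (BT.node 679 (BT.leaf cJ679) (BT.leaf cJ680)) (BT.leaf cJ681)) (BT.node 682 (BT.leaf cJ682) (BT.leaf cJ683))) (BT.node 685 (BT.node 684 (BT.leaf cJ684) (BT.leaf cJ685)) (BT.node 686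 (BT.leaf cJ686) (BT.leaf cJ687))))))) (BT.node 725 (BT.node 706 (BT.node 697 (BT.node 692 (BT.node 690 (BT.node 689 (BT.node 688 (BT.leaf cJ688) (BT.leaf cJ689)) (BT.leaf cJ690)) (BT.node 691 (BT.leaf cJ691) (BT.leaf cJ692))) (BT.node 695 (BT.node 694 (BT.node 693 (BT.leaf cJ693) (BT.leaf cJ694)) (BT.leaf cJ695)) (BT.node 696 (BT.leaf cJ696) (BT.leaf cJ697)))) (BT.node 702 (BT.node 700 (BT.node 699 (BT.node 698 (BT.leaf cJ698) (BT.leaf cJ699)) (BT.leaf cJ700)) (BT.node 701 (BT.leaf cJ701) (BT.leaf cJ702))) (BT.node 704 (BT.node 703 (BT.leaf cJ703) (BT.leaf cJ704)) (BT.node 705 (BT.leaf cJ705) (BT.leaf cJ706))))) (BT.node 716 (BT.node 711 (BT.node 709 (BT.node 708 (BT.node 707 (BT.leaf cJ707) (BT.leaf cJ708)) (BT.leaf cJ709)) (BT.node 710 (BT.leaf cJ710) (BT.leaf cJ711))) (BT.node 714 (BT.node 713 (BT.node 712 (BT.leaf cJ712) (BT.leaf cJ713)) (BT.leaf cJ714))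 (BT.node 715 (BT.leaf cJ715) (BT.leaf cJ716)))) (BT.node 721 (BT.node 719 (BT.node 718 (BT.node 717 (BT.leaf cJ717) (BT.leaf cJ718)) (BT.leaf cJ719)) (BT.node 720 (BT.leaf cJ720) (BT.leaf cJ721))) (BT.node 723 (BT.node 722 (BT.leaf cJ722) (BT.leaf cJ723)) (BT.node 724 (BT.leaf cJ724) (BT.leaf cJ725)))))) (BT.node 744 (BT.node 735 (BT.node 730 (BT.node 728 (BT.node 727 (BT.node 726 (BT.leaf cJ726) (BT.leaf cJ727)) (BT.leaf cJ728)) (BT.node 729 (BT.leaf cJ729) (BT.leaf cJ730))) (BT.node 733 (BT.node 732 (BT.node 731 (BT.leaf cJ731) (BT.leaf cJ732)) (BT.leaf cJ733)) (BT.node 734 (BT.leaf cJ734) (BT.leaf cJ735)))) (BT.node 740 (BT.node 738 (BT.node 737 (BT.node 736 (BT.leaf cJ736) (BT.leaf cJ737)) (BT.leaf cJ738)) (BT.node 739 (BT.leaf cJ739) (BT.leaf cJ740))) (BT.node 742 (BT.node 741 (BT.leaf cJ741) (BT.leaf cJ742)) (BT.node 743 (BT.leaf cJ743) (BT.leaf cJ744)))))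 (BT.node 754 (BT.node 749 (BT.node 747 (BT.node 746 (BT.node 745 (BT.leaf cJ745) (BT.leaf cJ746)) (BT.leaf cJ747)) (BT.node 748 (BT.leaf cJ748) (BT.leaf cJ749))) (BT.node 752 (BT.node 751 (BT.node 750 (BT.leaf cJ750) (BT.leaf cJ751)) (BT.leaf cJ752)) (BT.node 753 (BT.leaf cJ753) (BT.leaf cJ754)))) (BT.node 759 (BT.node 757 (BT.node 756 (BT.node 755 (BT.leaf cJ755) (BT.leaf cJ756)) (BT.leaf cJ757)) (BT.node 758 (BT.leaf cJ758) (BT.leaf cJ759))) (BT.node 761 (BT.node 760 (BT.leaf cJ760) (BT.leaf cJ761)) (BT.node 762 (BT.leaf cJ762) (BT.leaf cJ763)))))))) (BT.node 839 (BT.node 801 (BT.node 782 (BT.node 773 (BT.node 768 (BT.node 766 (BT.node 765 (BT.node 764 (BT.leaf cJ764) (BT.leaf cJ765)) (BT.leaf cJ766)) (BT.node 767 (BT.leaf cJ767) (BT.leaf cJ768))) (BT.node 771 (BT.node 770 (BT.node 769 (BT.leaf cJ769) (BT.leaf cJ770)) (BT.leaf cJ771)) (BT.node 772 (BT.leaf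 cJ772) (BT.leaf cJ773)))) (BT.node 778 (BT.node 776 (BT.node 775 (BT.node 774 (BT.leaf cJ774) (BT.leaf cJ775)) (BT.leaf cJ776)) (BT.node 777 (BT.leaf cJ777) (BT.leaf cJ778))) (BT.node 780 (BT.node 779 (BT.leaf cJ779) (BT.leaf cJ780)) (BT.node 781 (BT.leaf cJ781) (BT.leaf cJ782))))) (BT.node 792 (BT.node 787 (BT.node 785 (BT.node 784 (BT.node 783 (BT.leaf cJ783) (BT.leaf cJ784)) (BT.leaf cJ785)) (BT.node 786 (BT.leaf cJ786) (BT.leaf cJ787))) (BT.node 790 (BT.node 789 (BT.node 788 (BT.leaf cJ788) (BT.leaf cJ789)) (BT.leaf cJ790)) (BT.node 791 (BT.leaf cJ791) (BT.leaf cJ792)))) (BT.node 797 (BT.node 795 (BT.node 794 (BT.node 793 (BT.leaf cJ793) (BT.leaf cJ794)) (BT.leaf cJ795)) (BT.node 796 (BT.leaf cJ796) (BT.leaf cJ797))) (BT.node 799 (BT.node 798 (BT.leaf cJ798) (BT.leaf cJ799)) (BT.node 800 (BT.leaf cJ800) (BT.leaf cJ801)))))) (BT.node 820 (BT.node 811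 (BT.node 806 (BT.node 804 (BT.node 803 (BT.node 802 (BT.leaf cJ802) (BT.leaf cJ803)) (BT.leaf cJ804)) (BT.node 805 (BT.leaf cJ805) (BT.leaf cJ806))) (BT.node 809 (BT.node 808 (BT.node 807 (BT.leaf cJ807) (BT.leaf cJ808)) (BT.leaf cJ809)) (BT.node 810 (BT.leaf cJ810) (BT.leaf cJ811)))) (BT.node 816 (BT.node 814 (BT.node 813 (BT.node 812 (BT.leaf cJ812) (BT.leaf cJ813)) (BT.leaf cJ814)) (BT.node 815 (BT.leaf cJ815) (BT.leaf cJ816))) (BT.node 818 (BT.node 817 (BT.leaf cJ817) (BT.leaf cJ818)) (BT.node 819 (BT.leaf cJ819) (BT.leaf cJ820))))) (BT.node 830 (BT.node 825 (BT.node 823 (BT.node 822 (BT.node 821 (BT.leaf cJ821) (BT.leaf cJ822)) (BT.leaf cJ823)) (BT.node 824 (BT.leaf cJ824) (BT.leaf cJ825))) (BT.node 828 (BT.node 827 (BT.node 826 (BT.leaf cJ826) (BT.leaf cJ827)) (BT.leaf cJ828)) (BT.node 829 (BT.leaf cJ829) (BT.leaf cJ830)))) (BT.node 835 (BT.node 833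 (BT.node 832 (BT.node 831 (BT.leaf cJ831) (BT.leaf cJ832)) (BT.leaf cJ833)) (BT.node 834 (BT.leaf cJ834) (BT.leaf cJ835))) (BT.node 837 (BT.node 836 (BT.leaf cJ836) (BT.leaf cJ837)) (BT.node 838 (BT.leaf cJ838) (BT.leaf cJ839))))))) (BT.node 877 (BT.node 858 (BT.node 849 (BT.node 844 (BT.node 842 (BT.node 841 (BT.node 840 (BT.leaf cJ840) (BT.leaf cJ841)) (BT.leaf cJ842)) (BT.node 843 (BT.leaf cJ843) (BT.leaf cJ844))) (BT.node 847 (BT.node 846 (BT.node 845 (BT.leaf cJ845) (BT.leaf cJ846)) (BT.leaf cJ847)) (BT.node 848 (BT.leaf cJ848) (BT.leaf cJ849)))) (BT.node 854 (BT.node 852 (BT.node 851 (BT.node 850 (BT.leaf cJ850) (BT.leaf cJ851)) (BT.leaf cJ852)) (BT.node 853 (BT.leaf cJ853) (BT.leaf cJ854))) (BT.node 856 (BT.node 855 (BT.leaf cJ855) (BT.leaf cJ856)) (BT.node 857 (BT.leaf cJ857) (BT.leaf cJ858))))) (BT.node 868 (BT.node 863 (BT.node 861 (BT.node 860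 (BT.node 859 (BT.leaf cJ859) (BT.leaf cJ860)) (BT.leaf cJ861)) (BT.node 862 (BT.leaf cJ862) (BT.leaf cJ863))) (BT.node 866 (BT.node 865 (BT.node 864 (BT.leaf cJ864) (BT.leaf cJ865)) (BT.leaf cJ866)) (BT.node 867 (BT.leaf cJ867) (BT.leaf cJ868)))) (BT.node 873 (BT.node 871 (BT.node 870 (BT.node 869 (BT.leaf cJ869) (BT.leaf cJ870)) (BT.leaf cJ871)) (BT.node 872 (BT.leaf cJ872) (BT.leaf cJ873))) (BT.node 875 (BT.node 874 (BT.leaf cJ874) (BT.leaf cJ875)) (BT.node 876 (BT.leaf cJ876) (BT.leaf cJ877)))))) (BT.node 896 (BT.node 887 (BT.node 882 (BT.node 880 (BT.node 879 (BT.node 878 (BT.leaf cJ878) (BT.leaf cJ879)) (BT.leaf cJ880)) (BT.node 881 (BT.leaf cJ881) (BT.leaf cJ882))) (BT.node 885 (BT.node 884 (BT.node 883 (BT.leaf cJ883) (BT.leaf cJ884)) (BT.leaf cJ885)) (BT.node 886 (BT.leaf cJ886) (BT.leaf cJ887)))) (BT.node 892 (BT.node 890 (BT.node 889 (BT.node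 888 (BT.leaf cJ888) (BT.leaf cJ889)) (BT.leaf cJ890)) (BT.node 891 (BT.leaf cJ891) (BT.leaf cJ892))) (BT.node 894 (BT.node 893 (BT.leaf cJ893) (BT.leaf cJ894)) (BT.node 895 (BT.leaf cJ895) (BT.leaf cJ896))))) (BT.node 906 (BT.node 901 (BT.node 899 (BT.node 898 (BT.node 897 (BT.leaf cJ897) (BT.leaf cJ898)) (BT.leaf cJ899)) (BT.node 900 (BT.leaf cJ900) (BT.leaf cJ901))) (BT.node 904 (BT.node 903 (BT.node 902 (BT.leaf cJ902) (BT.leaf cJ903)) (BT.leaf cJ904)) (BT.node 905 (BT.leaf cJ905) (BT.leaf cJ906)))) (BT.node 911 (BT.node 909 (BT.node 908 (BT.node 907 (BT.leaf cJ907) (BT.leaf cJ908)) (BT.leaf cJ909)) (BT.node 910 (BT.leaf cJ910) (BT.leaf cJ911))) (BT.node 913 (BT.node 912 (BT.leaf cJ912) (BT.leaf cJ913)) (BT.node 914 (BT.leaf cJ914) (BT.leaf cJ915))))))))) (BT.node 1068 (BT.node 992 (BT.node 954 (BT.node 935 (BT.node 925 (BT.node 920 (BT.node 918 (BT.node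 917 (BT.node 916 (BT.leaf cJ916) (BT.leaf cJ917)) (BT.leaf cJ918)) (BT.node 919 (BT.leaf cJ919) (BT.leaf cJ920))) (BT.node 923 (BT.node 922 (BT.node 921 (BT.leaf cJ921) (BT.leaf cJ922)) (BT.leaf cJ923)) (BT.node 924 (BT.leaf cJ924) (BT.leaf cJ925)))) (BT.node 930 (BT.node 928 (BT.node 927 (BT.node 926 (BT.leaf cJ926) (BT.leaf cJ927)) (BT.leaf cJ928)) (BT.node 929 (BT.leaf cJ929) (BT.leaf cJ930))) (BT.node 933 (BT.node 932 (BT.node 931 (BT.leaf cJ931) (BT.leaf cJ932)) (BT.leaf cJ933)) (BT.node 934 (BT.leaf cJ934) (BT.leaf cJ935))))) (BT.node 945 (BT.node 940 (BT.node 938 (BT.node 937 (BT.node 936 (BT.leaf cJ936) (BT.leaf cJ937)) (BT.leaf cJ938)) (BT.node 939 (BT.leaf cJ939) (BT.leaf cJ940))) (BT.node 943 (BT.node 942 (BT.node 941 (BT.leaf cJ941) (BT.leaf cJ942)) (BT.leaf cJ943)) (BT.node 944 (BT.leaf cJ944) (BT.leaf cJ945)))) (BT.node 950 (BT.node 948 (BT.node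 947 (BT.node 946 (BT.leaf cJ946) (BT.leaf cJ947)) (BT.leaf cJ948)) (BT.node 949 (BT.leaf cJ949) (BT.leaf cJ950))) (BT.node 952 (BT.node 951 (BT.leaf cJ951) (BT.leaf cJ952)) (BT.node 953 (BT.leaf cJ953) (BT.leaf cJ954)))))) (BT.node 973 (BT.node 964 (BT.node 959 (BT.node 957 (BT.node 956 (BT.node 955 (BT.leaf cJ955) (BT.leaf cJ956)) (BT.leaf cJ957)) (BT.node 958 (BT.leaf cJ958) (BT.leaf cJ959))) (BT.node 962 (BT.node 961 (BT.node 960 (BT.leaf cJ960) (BT.leaf cJ961)) (BT.leaf cJ962)) (BT.node 963 (BT.leaf cJ963) (BT.leaf cJ964)))) (BT.node 969 (BT.node 967 (BT.node 966 (BT.node 965 (BT.leaf cJ965) (BT.leaf cJ966)) (BT.leaf cJ967)) (BT.node 968 (BT.leaf cJ968) (BT.leaf cJ969))) (BT.node 971 (BT.node 970 (BT.leaf cJ970) (BT.leaf cJ971)) (BT.node 972 (BT.leaf cJ972) (BT.leaf cJ973))))) (BT.node 983 (BT.node 978 (BT.node 976 (BT.node 975 (BT.node 974 (BT.leaf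 cJ974) (BT.leaf cJ975)) (BT.leaf cJ976)) (BT.node 977 (BT.leaf cJ977) (BT.leaf cJ978))) (BT.node 981 (BT.node 980 (BT.node 979 (BT.leaf cJ979) (BT.leaf cJ980)) (BT.leaf cJ981)) (BT.node 982 (BT.leaf cJ982) (BT.leaf cJ983)))) (BT.node 988 (BT.node 986 (BT.node 985 (BT.node 984 (BT.leaf cJ984) (BT.leaf cJ985)) (BT.leaf cJ986)) (BT.node 987 (BT.leaf cJ987) (BT.leaf cJ988))) (BT.node 990 (BT.node 989 (BT.leaf cJ989) (BT.leaf cJ990)) (BT.node 991 (BT.leaf cJ991) (BT.leaf cJ992))))))) (BT.node 1030 (BT.node 1011 (BT.node 1002 (BT.node 997 (BT.node 995 (BT.node 994 (BT.node 993 (BT.leaf cJ993) (BT.leaf cJ994)) (BT.leaf cJ995)) (BT.node 996 (BT.leaf cJ996) (BT.leaf cJ997))) (BT.node 1000 (BT.node 999 (BT.node 998 (BT.leaf cJ998) (BT.leaf cJ999)) (BT.leaf cJ1000)) (BT.node 1001 (BT.leaf cJ1001) (BT.leaf cJ1002)))) (BT.node 1007 (BT.node 1005 (BT.node 1004 (BT.node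 1003 (BT.leaf cJ1003) (BT.leaf cJ1004)) (BT.leaf cJ1005)) (BT.node 1006 (BT.leaf cJ1006) (BT.leaf cJ1007))) (BT.node 1009 (BT.node 1008 (BT.leaf cJ1008) (BT.leaf cJ1009)) (BT.node 1010 (BT.leaf cJ1010) (BT.leaf cJ1011))))) (BT.node 1021 (BT.node 1016 (BT.node 1014 (BT.node 1013 (BT.node 1012 (BT.leaf cJ1012) (BT.leaf cJ1013)) (BT.leaf cJ1014)) (BT.node 1015 (BT.leaf cJ1015) (BT.leaf cJ1016))) (BT.node 1019 (BT.node 1018 (BT.node 1017 (BT.leaf cJ1017) (BT.leaf cJ1018)) (BT.leaf cJ1019)) (BT.node 1020 (BT.leaf cJ1020) (BT.leaf cJ1021)))) (BT.node 1026 (BT.node 1024 (BT.node 1023 (BT.node 1022 (BT.leaf cJ1022) (BT.leaf cJ1023)) (BT.leaf cJ1024)) (BT.node 1025 (BT.leaf cJ1025) (BT.leaf cJ1026))) (BT.node 1028 (BT.node 1027 (BT.leaf cJ1027) (BT.leaf cJ1028)) (BT.node 1029 (BT.leaf cJ1029) (BT.leaf cJ1030)))))) (BT.node 1049 (BT.node 1040 (BT.node 1035 (BT.node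 1033 (BT.node 1032 (BT.node 1031 (BT.leaf cJ1031) (BT.leaf cJ1032)) (BT.leaf cJ1033)) (BT.node 1034 (BT.leaf cJ1034) (BT.leaf cJ1035))) (BT.node 1038 (BT.node 1037 (BT.node 1036 (BT.leaf cJ1036) (BT.leaf cJ1037)) (BT.leaf cJ1038)) (BT.node 1039 (BT.leaf cJ1039) (BT.leaf cJ1040)))) (BT.node 1045 (BT.node 1043 (BT.node 1042 (BT.node 1041 (BT.leaf cJ1041) (BT.leaf cJ1042)) (BT.leaf cJ1043)) (BT.node 1044 (BT.leaf cJ1044) (BT.leaf cJ1045))) (BT.node 1047 (BT.node 1046 (BT.leaf cJ1046) (BT.leaf cJ1047)) (BT.node 1048 (BT.leaf cJ1048) (BT.leaf cJ1049))))) (BT.node 1059 (BT.node 1054 (BT.node 1052 (BT.node 1051 (BT.node 1050 (BT.leaf cJ1050) (BT.leaf cJ1051)) (BT.leaf cJ1052)) (BT.node 1053 (BT.leaf cJ1053) (BT.leaf cJ1054))) (BT.node 1057 (BT.node 1056 (BT.node 1055 (BT.leaf cJ1055) (BT.leaf cJ1056)) (BT.leaf cJ1057)) (BT.node 1058 (BT.leaf cJ1058) (BT.leaf cJ1059))))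 (BT.node 1064 (BT.node 1062 (BT.node 1061 (BT.node 1060 (BT.leaf cJ1060) (BT.leaf cJ1061)) (BT.leaf cJ1062)) (BT.node 1063 (BT.leaf cJ1063) (BT.leaf cJ1064))) (BT.node 1066 (BT.node 1065 (BT.leaf cJ1065) (BT.leaf cJ1066)) (BT.node 1067 (BT.leaf cJ1067) (BT.leaf cJ1068)))))))) (BT.node 1144 (BT.node 1106 (BT.node 1087 (BT.node 1078 (BT.node 1073 (BT.node 1071 (BT.node 1070 (BT.node 1069 (BT.leaf cJ1069) (BT.leaf cJ1070)) (BT.leaf cJ1071)) (BT.node 1072 (BT.leaf cJ1072) (BT.leaf cJ1073))) (BT.node 1076 (BT.node 1075 (BT.node 1074 (BT.leaf cJ1074) (BT.leaf cJ1075)) (BT.leaf cJ1076)) (BT.node 1077 (BT.leaf cJ1077) (BT.leaf cJ1078)))) (BT.node 1083 (BT.node 1081 (BT.node 1080 (BT.node 1079 (BT.leaf cJ1079) (BT.leaf cJ1080)) (BT.leaf cJ1081)) (BT.node 1082 (BT.leaf cJ1082) (BT.leaf cJ1083))) (BT.node 1085 (BT.node 1084 (BT.leaf cJ1084) (BT.leaf cJ1085)) (BT.node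 1086 (BT.leaf cJ1086) (BT.leaf cJ1087))))) (BT.node 1097 (BT.node 1092 (BT.node 1090 (BT.node 1089 (BT.node 1088 (BT.leaf cJ1088) (BT.leaf cJ1089)) (BT.leaf cJ1090)) (BT.node 1091 (BT.leaf cJ1091) (BT.leaf cJ1092))) (BT.node 1095 (BT.node 1094 (BT.node 1093 (BT.leaf cJ1093) (BT.leaf cJ1094)) (BT.leaf cJ1095)) (BT.node 1096 (BT.leaf cJ1096) (BT.leaf cJ1097)))) (BT.node 1102 (BT.node 1100 (BT.node 1099 (BT.node 1098 (BT.leaf cJ1098) (BT.leaf cJ1099)) (BT.leaf cJ1100)) (BT.node 1101 (BT.leaf cJ1101) (BT.leaf cJ1102))) (BT.node 1104 (BT.node 1103 (BT.leaf cJ1103) (BT.leaf cJ1104)) (BT.node 1105 (BT.leaf cJ1105) (BT.leaf cJ1106)))))) (BT.node 1125 (BT.node 1116 (BT.node 1111 (BT.node 1109 (BT.node 1108 (BT.node 1107 (BT.leaf cJ1107) (BT.leaf cJ1108)) (BT.leaf cJ1109)) (BT.node 1110 (BT.leaf cJ1110) (BT.leaf cJ1111))) (BT.node 1114 (BT.node 1113 (BT.node 1112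 (BT.leaf cJ1112) (BT.leaf cJ1113)) (BT.leaf cJ1114)) (BT.node 1115 (BT.leaf cJ1115) (BT.leaf cJ1116)))) (BT.node 1121 (BT.node 1119 (BT.node 1118 (BT.node 1117 (BT.leaf cJ1117) (BT.leaf cJ1118)) (BT.leaf cJ1119)) (BT.node 1120 (BT.leaf cJ1120) (BT.leaf cJ1121))) (BT.node 1123 (BT.node 1122 (BT.leaf cJ1122) (BT.leaf cJ1123)) (BT.node 1124 (BT.leaf cJ1124) (BT.leaf cJ1125))))) (BT.node 1135 (BT.node 1130 (BT.node 1128 (BT.node 1127 (BT.node 1126 (BT.leaf cJ1126) (BT.leaf cJ1127)) (BT.leaf cJ1128)) (BT.node 1129 (BT.leaf cJ1129) (BT.leaf cJ1130))) (BT.node 1133 (BT.node 1132 (BT.node 1131 (BT.leaf cJ1131) (BT.leaf cJ1132)) (BT.leaf cJ1133)) (BT.node 1134 (BT.leaf cJ1134) (BT.leaf cJ1135)))) (BT.node 1140 (BT.node 1138 (BT.node 1137 (BT.node 1136 (BT.leaf cJ1136) (BT.leaf cJ1137)) (BT.leaf cJ1138)) (BT.node 1139 (BT.leaf cJ1139) (BT.leaf cJ1140))) (BT.node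 1142 (BT.node 1141 (BT.leaf cJ1141) (BT.leaf cJ1142)) (BT.node 1143 (BT.leaf cJ1143) (BT.leaf cJ1144))))))) (BT.node 1182 (BT.node 1163 (BT.node 1154 (BT.node 1149 (BT.node 1147 (BT.node 1146 (BT.node 1145 (BT.leaf cJ1145) (BT.leaf cJ1146)) (BT.leaf cJ1147)) (BT.node 1148 (BT.leaf cJ1148) (BT.leaf cJ1149))) (BT.node 1152 (BT.node 1151 (BT.node 1150 (BT.leaf cJ1150) (BT.leaf cJ1151)) (BT.leaf cJ1152)) (BT.node 1153 (BT.leaf cJ1153) (BT.leaf cJ1154)))) (BT.node 1159 (BT.node 1157 (BT.node 1156 (BT.node 1155 (BT.leaf cJ1155) (BT.leaf cJ1156)) (BT.leaf cJ1157)) (BT.node 1158 (BT.leaf cJ1158) (BT.leaf cJ1159))) (BT.node 1161 (BT.node 1160 (BT.leaf cJ1160) (BT.leaf cJ1161)) (BT.node 1162 (BT.leaf cJ1162) (BT.leaf cJ1163))))) (BT.node 1173 (BT.node 1168 (BT.node 1166 (BT.node 1165 (BT.node 1164 (BT.leaf cJ1164) (BT.leaf cJ1165)) (BT.leaf cJ1166)) (BT.node 1167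 (BT.leaf cJ1167) (BT.leaf cJ1168))) (BT.node 1171 (BT.node 1170 (BT.node 1169 (BT.leaf cJ1169) (BT.leaf cJ1170)) (BT.leaf cJ1171)) (BT.node 1172 (BT.leaf cJ1172) (BT.leaf cJ1173)))) (BT.node 1178 (BT.node 1176 (BT.node 1175 (BT.node 1174 (BT.leaf cJ1174) (BT.leaf cJ1175)) (BT.leaf cJ1176)) (BT.node 1177 (BT.leaf cJ1177) (BT.leaf cJ1178))) (BT.node 1180 (BT.node 1179 (BT.leaf cJ1179) (BT.leaf cJ1180)) (BT.node 1181 (BT.leaf cJ1181) (BT.leaf cJ1182)))))) (BT.node 1201 (BT.node 1192 (BT.node 1187 (BT.node 1185 (BT.node 1184 (BT.node 1183 (BT.leaf cJ1183) (BT.leaf cJ1184)) (BT.leaf cJ1185)) (BT.node 1186 (BT.leaf cJ1186) (BT.leaf cJ1187))) (BT.node 1190 (BT.node 1189 (BT.node 1188 (BT.leaf cJ1188) (BT.leaf cJ1189)) (BT.leaf cJ1190)) (BT.node 1191 (BT.leaf cJ1191) (BT.leaf cJ1192)))) (BT.node 1197 (BT.node 1195 (BT.node 1194 (BT.node 1193 (BT.leaf cJ1193) (BT.leaf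 cJ1194)) (BT.leaf cJ1195)) (BT.node 1196 (BT.leaf cJ1196) (BT.leaf cJ1197))) (BT.node 1199 (BT.node 1198 (BT.leaf cJ1198) (BT.leaf cJ1199)) (BT.node 1200 (BT.leaf cJ1200) (BT.leaf cJ1201))))) (BT.node 1211 (BT.node 1206 (BT.node 1204 (BT.node 1203 (BT.node 1202 (BT.leaf cJ1202) (BT.leaf cJ1203)) (BT.leaf cJ1204)) (BT.node 1205 (BT.leaf cJ1205) (BT.leaf cJ1206))) (BT.node 1209 (BT.node 1208 (BT.node 1207 (BT.leaf cJ1207) (BT.leaf cJ1208)) (BT.leaf cJ1209)) (BT.node 1210 (BT.leaf cJ1210) (BT.leaf cJ1211)))) (BT.node 1216 (BT.node 1214 (BT.node 1213 (BT.node 1212 (BT.leaf cJ1212) (BT.leaf cJ1213)) (BT.leaf cJ1214)) (BT.node 1215 (BT.leaf cJ1215) (BT.leaf cJ1216))) (BT.node 1218 (BT.node 1217 (BT.leaf cJ1217) (BT.leaf cJ1218)) (BT.node 1219 (BT.leaf cJ1219) (BT.leaf cJ1220)))))))))))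
/-- parent chunks -/
def parCT : BT ℕ := (BT.node 55 (BT.node 27 (BT.node 13 (BT.node 6 (BT.node 3 (BT.node 1 (BT.node 0 (BT.leaf cP0) (BT.leaf cP1)) (BT.node 2 (BT.leaf cP2) (BT.leaf cP3))) (BT.node 5 (BT.node 4 (BT.leaf cP4) (BT.leaf cP5)) (BT.leaf cP6))) (BT.node 10 (BT.node 8 (BT.node 7 (BT.leaf cP7) (BT.leaf cP8)) (BT.node 9 (BT.leaf cP9) (BT.leaf cP10))) (BT.node 12 (BT.node 11 (BT.leaf cP11) (BT.leaf cP12)) (BT.leaf cP13)))) (BT.node 20 (BT.node 17 (BT.node 15 (BT.node 14 (BT.leaf cP14) (BT.leaf cP15)) (BT.node 16 (BT.leaf cP16) (BT.leaf cP17))) (BT.node 19 (BT.node 18 (BT.leaf cP18) (BT.leaf cP19)) (BT.leaf cP20))) (BT.node 24 (BT.node 22 (BT.node 21 (BT.leaf cP21) (BT.leaf cP22)) (BT.node 23 (BT.leaf cP23) (BT.leaf cP24))) (BT.node 26 (BT.node 25 (BT.leaf cP25) (BT.leaf cP26)) (BT.leaf cP27))))) (BT.node 41 (BT.node 34 (BT.node 31 (BT.node 29 (BT.node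 28 (BT.leaf cP28) (BT.leaf cP29)) (BT.node 30 (BT.leaf cP30) (BT.leaf cP31))) (BT.node 33 (BT.node 32 (BT.leaf cP32) (BT.leaf cP33)) (BT.leaf cP34))) (BT.node 38 (BT.node 36 (BT.node 35 (BT.leaf cP35) (BT.leaf cP36)) (BT.node 37 (BT.leaf cP37) (BT.leaf cP38))) (BT.node 40 (BT.node 39 (BT.leaf cP39) (BT.leaf cP40)) (BT.leaf cP41)))) (BT.node 48 (BT.node 45 (BT.node 43 (BT.node 42 (BT.leaf cP42) (BT.leaf cP43)) (BT.node 44 (BT.leaf cP44) (BT.leaf cP45))) (BT.node 47 (BT.node 46 (BT.leaf cP46) (BT.leaf cP47)) (BT.leaf cP48))) (BT.node 52 (BT.node 50 (BT.node 49 (BT.leaf cP49) (BT.leaf cP50)) (BT.node 51 (BT.leaf cP51) (BT.leaf cP52))) (BT.node 54 (BT.node 53 (BT.leaf cP53) (BT.leaf cP54)) (BT.leaf cP55)))))) (BT.node 83 (BT.node 69 (BT.node 62 (BT.node 59 (BT.node 57 (BT.node 56 (BT.leaf cP56) (BT.leaf cP57)) (BT.node 58 (BT.leaf cP58) (BT.leaf cP59))) (BT.node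 61 (BT.node 60 (BT.leaf cP60) (BT.leaf cP61)) (BT.leaf cP62))) (BT.node 66 (BT.node 64 (BT.node 63 (BT.leaf cP63) (BT.leaf cP64)) (BT.node 65 (BT.leaf cP65) (BT.leaf cP66))) (BT.node 68 (BT.node 67 (BT.leaf cP67) (BT.leaf cP68)) (BT.leaf cP69)))) (BT.node 76 (BT.node 73 (BT.node 71 (BT.node 70 (BT.leaf cP70) (BT.leaf cP71)) (BT.node 72 (BT.leaf cP72) (BT.leaf cP73))) (BT.node 75 (BT.node 74 (BT.leaf cP74) (BT.leaf cP75)) (BT.leaf cP76))) (BT.node 80 (BT.node 78 (BT.node 77 (BT.leaf cP77) (BT.leaf cP78)) (BT.node 79 (BT.leaf cP79) (BT.leaf cP80))) (BT.node 82 (BT.node 81 (BT.leaf cP81) (BT.leaf cP82)) (BT.leaf cP83))))) (BT.node 97 (BT.node 90 (BT.node 87 (BT.node 85 (BT.node 84 (BT.leaf cP84) (BT.leaf cP85)) (BT.node 86 (BT.leaf cP86) (BT.leaf cP87))) (BT.node 89 (BT.node 88 (BT.leaf cP88) (BT.leaf cP89)) (BT.leaf cP90))) (BT.node 94 (BT.node 92 (BT.node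 91 (BT.leaf cP91) (BT.leaf cP92)) (BT.node 93 (BT.leaf cP93) (BT.leaf cP94))) (BT.node 96 (BT.node 95 (BT.leaf cP95) (BT.leaf cP96)) (BT.leaf cP97)))) (BT.node 104 (BT.node 101 (BT.node 99 (BT.node 98 (BT.leaf cP98) (BT.leaf cP99)) (BT.node 100 (BT.leaf cP100) (BT.leaf cP101))) (BT.node 103 (BT.node 102 (BT.leaf cP102) (BT.leaf cP103)) (BT.leaf cP104))) (BT.node 107 (BT.node 106 (BT.node 105 (BT.leaf cP105) (BT.leaf cP106)) (BT.leaf cP107)) (BT.node 109 (BT.node 108 (BT.leaf cP108) (BT.leaf cP109)) (BT.leaf cP110)))))))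
/-- the certificate -/
def data : Data where
  k := 10
  N := 56513
  W := 30
  MW := 1073741824
  B := 65536
  CH := 512
  NCH := 111
  colE := colET
  JW := 64
  MJ := 18446744073709551616
  A := 1048576
  colJ := colJT
  PW := 25
  MP := 33554432
  parC := parCT
  inv := (BT.node 5 (BT.node 2 (BT.node 1 (BT.node 0 (BT.leaf 0) (BT.leaf 1)) (BT.leaf 2)) (BT.node 4 (BT.node 3 (BT.leaf 3) (BT.leaf 4)) (BT.leaf 5))) (BT.node 8 (BT.node 7 (BT.node 6 (BT.leaf 6) (BT.leaf 7)) (BT.leaf 8)) (BT.node 9 (BT.leaf 9) (BT.leaf 10))))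
  rel := relT
  sub := subT
  fuel := 64

end Cfsg.Agent.Lib.Helper4.TCY5BData
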