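import Cfsg.Agent.Lib.Helper4.TCY5BM0 -- chain
import Cfsg.Agent.Lib.Helper28.TC2Range
import Cfsg.Agent.Lib.Helper4.TCY5BData
set_option autoImplicit false
set_option maxRecDepth 100000
set_option maxHeartbeats 0

namespace Cfsg.Agent.Lib.Helper4.TCY5BM1
open Cfsg.Agent.Lib.Helper28.TC2Upper Cfsg.Agent.Lib.Helper28.TC2Lower Cfsg.Agent.Lib.Helper28.TC2Range Cfsg.Agent.Lib.Helper4.TCY5BData

theorem fin5 : Data.finalRange data 41665 8333 = true := by decide +kernel
theorem fin6 : Data.finalRange data 49998 6515 = true := by decide +kernel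
theorem cnt0 : Data.countFrom data 0 40000 = 1 := by decide +kernel
theorem cnt1 : Data.countFrom data 40000 16513 = 0 := by decide +kernel
theorem hlive0 : data.isLive 0 = true := by decide +kernel

end Cfsg.Agent.Lib.Helper4.TCY5BM1
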