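import Cfsg.Agent.Lib.Helper4.TCY5BU0 -- chain
import Cfsg.Agent.Lib.Helper4.TCY5BData
set_option autoImplicit false
set_option maxRecDepth 100000
set_option maxHeartbeats 0

namespace Cfsg.Agent.Lib.Helper4.TCY5BU1
open Cfsg.Agent.Lib.Helper28.TC2Upper Cfsg.Agent.Lib.Helper4.TCY5BData

theorem chk5 : data.checkRange 22619 5723 = true := by decide +kernel
theorem chk6 : data.checkRange 28342 5744 = true := by decide +kernel
theorem chk7 : data.checkRange 34086 5791 = true := by decide +kernel
theorem chk8 : data.checkRange 39877 5868 = true := by decide +kernel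
theorem chk9 : data.checkRange 45745 5958 = true := by decide +kernel

end Cfsg.Agent.Lib.Helper4.TCY5BU1
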