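import Cfsg.Agent.Lib.Helper28.TC2Glue
import Cfsg.Agent.Lib.Helper28.TC2Range
import Cfsg.Agent.Lib.Helper4.TCY5BLink
import Cfsg.Agent.Lib.Helper4.TCY5BM0
import Cfsg.Agent.Lib.Helper4.TCY5BM1
import Cfsg.Agent.Lib.Helper4.TCY5BU0
import Cfsg.Agent.Lib.Helper4.TCY5BU1
import Cfsg.Agent.Lib.Helper4.TCY5BU2

set_option autoImplicit false
set_option maxRecDepth 100000
open Cfsg

namespace Cfsg.Agent.Lib.Helper4.TCY5BMain
open Cfsg.Agent.Lib.Helper28.TC2Upper Cfsg.Agent.Lib.Helper28.TC2Lower Cfsg.Agent.Lib.Helper28.TC2Glue Cfsg.Agent.Lib.Helper28.TC2Range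
open Cfsg.Agent.Lib.Helper4.TCY5BData Cfsg.Agent.Lib.Helper4.TCY5BTable Cfsg.Agent.Lib.Helper4.TCY5BLink

theorem hchk : ∀ v, v < data.N → data.checkNode v = true := by
  intro v hv
  have hv' : v < 56513 := hv
  rcases Nat.lt_or_ge v 2239 with h0 | h0
  · exact (data.checkRange_iff 0 2239).mp Cfsg.Agent.Lib.Helper4.TCY5BU0.chk0 v (by omega) (by omega)
  rcases Nat.lt_or_ge v 6521 with h1 | h1
  · exact (data.checkRange_iff 2239 4282).mp Cfsg.Agent.Lib.Helper4.TCY5BU0.chk1 v (by omega) (by omega)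
  rcases Nat.lt_or_ge v 11621 with h2 | h2
  · exact (data.checkRange_iff 6521 5100).mp Cfsg.Agent.Lib.Helper4.TCY5BU0.chk2 v (by omega) (by omega)
  rcases Nat.lt_or_ge v 17057 with h3 | h3
  · exact (data.checkRange_iff 11621 5436).mp Cfsg.Agent.Lib.Helper4.TCY5BU0.chk3 v (by omega) (by omega)
  rcases Nat.lt_or_ge v 22619 with h4 | h4
  · exact (data.checkRange_iff 17057 5562).mp Cfsg.Agent.Lib.Helper4.TCY5BU0.chk4 v (by omega) (by omega)
  rcases Nat.lt_or_ge v 28342 with h5 | h5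
  · exact (data.checkRange_iff 22619 5723).mp Cfsg.Agent.Lib.Helper4.TCY5BU1.chk5 v (by omega) (by omega)
  rcases Nat.lt_or_ge v 34086 with h6 | h6
  · exact (data.checkRange_iff 28342 5744).mp Cfsg.Agent.Lib.Helper4.TCY5BU1.chk6 v (by omega) (by omega)
  rcases Nat.lt_or_ge v 39877 with h7 | h7
  · exact (data.checkRange_iff 34086 5791).mp Cfsg.Agent.Lib.Helper4.TCY5BU1.chk7 v (by omega) (by omega)
  rcases Nat.lt_or_ge v 45745 with h8 | h8
  · exact (data.checkRange_iff 39877 5868).mp Cfsg.Agent.Lib.Helper4.TCY5BU1.chk8 v (by omega) (by omega)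
  rcases Nat.lt_or_ge v 51703 with h9 | h9
  · exact (data.checkRange_iff 45745 5958).mp Cfsg.Agent.Lib.Helper4.TCY5BU1.chk9 v (by omega) (by omega)
  exact (data.checkRange_iff 51703 4810).mp Cfsg.Agent.Lib.Helper4.TCY5BU2.chk10 v (by omega) (by omega)

theorem hrows : ∀ v, v < data.N → Data.rowOK data v = true := by
  intro v hv
  have hv' : v < 56513 := hv
  rcases Nat.lt_or_ge v 8333 with h0 | h0
  · exact (Data.finalRange_iff data 0 8333).mp Cfsg.Agent.Lib.Helper4.TCY5BM0.fin0 v (by omega) (by omega)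
  rcases Nat.lt_or_ge v 16666 with h1 | h1
  · exact (Data.finalRange_iff data 8333 8333).mp Cfsg.Agent.Lib.Helper4.TCY5BM0.fin1 v (by omega) (by omega)
  rcases Nat.lt_or_ge v 24999 with h2 | h2
  · exact (Data.finalRange_iff data 16666 8333).mp Cfsg.Agent.Lib.Helper4.TCY5BM0.fin2 v (by omega) (by omega)
  rcases Nat.lt_or_ge v 33332 with h3 | h3
  · exact (Data.finalRange_iff data 24999 8333).mp Cfsg.Agent.Lib.Helper4.TCY5BM0.fin3 v (by omega) (by omega)
  rcases Nat.lt_or_ge v 41665 with h4 | h4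
  · exact (Data.finalRange_iff data 33332 8333).mp Cfsg.Agent.Lib.Helper4.TCY5BM0.fin4 v (by omega) (by omega)
  rcases Nat.lt_or_ge v 49998 with h5 | h5
  · exact (Data.finalRange_iff data 41665 8333).mp Cfsg.Agent.Lib.Helper4.TCY5BM1.fin5 v (by omega) (by omega)
  exact (Data.finalRange_iff data 49998 6515).mp Cfsg.Agent.Lib.Helper4.TCY5BM1.fin6 v (by omega) (by omega)

theorem hfin : data.finalOK = true := Data.finalOK_of_rows data Cfsg.Agent.Lib.Helper4.TCY5BM1.hlive0 (by decide) hrows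

theorem pc0 : Data.countFrom data 0 40000 = 1 := Cfsg.Agent.Lib.Helper4.TCY5BM1.cnt0
theorem pc1 : Data.countFrom data 0 56513 = 1 := Data.countFrom_step data pc0 Cfsg.Agent.Lib.Helper4.TCY5BM1.cnt1 (by norm_num) (by norm_num)

theorem hcount : data.countLive = 1 := by
  rw [Data.countLive_eq]
  exact pc1

/-- the upper bound for the index -/
theorem mainU : Finite (PresentedGroup rels ⧸ (Subgroup.closure S).map (PresentedGroup.mk rels)) ∧
    Nat.card (PresentedGroup rels ⧸ (Subgroup.closure S).map (PresentedGroup.mk rels)) ≤ 1 := by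
  have h := upper link hchk hfin
  rw [hcount] at h
  exact h

end Cfsg.Agent.Lib.Helper4.TCY5BMain
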