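import Cfsg.Agent.Lib.Helper28.TC2Upper
import Cfsg.Agent.Lib.Helper4.TCY5FDataC0
import Cfsg.Agent.Lib.Helper4.TCY5FDataC1
import Cfsg.Agent.Lib.Helper4.TCY5FDataC2
import Cfsg.Agent.Lib.Helper4.TCY5FDataC3
set_option autoImplicit false
set_option maxRecDepth 100000

namespace Cfsg.Agent.Lib.Helper4.TCY5FData
open Cfsg.Agent.Lib.Helper28.TC2Upper

/-- relators -/
def relT : BT (ℕ × List ℕ × List ℕ) := (BT.node 40 (BT.node 20 (BT.node 10 (BT.node 5 (BT.node 2 (BT.node 1 (BT.node 0 (BT.leaf (2, [0, 0], [0, 0])) (BT.leaf (6, [1, 0, 1, 0, 1, 0], [0, 1, 0, 1, 0, 1]))) (BT.leaf (4, [2, 0, 2, 0], [0, 2, 0, 2]))) (BT.node 4 (BT.node 3 (BT.leaf (6, [4, 0, 4, 0, 4, 0], [0, 4, 0, 4, 0, 4])) (BT.leaf (4, [5, 0, 5, 0], [0, 5, 0, 5]))) (BT.leaf (6, [7, 0, 7, 0, 7, 0], [0, 7, 0, 7, 0, 7])))) (BT.node 8 (BT.node 7 (BT.node 6 (BT.leaf (4, [3, 0, 3, 0], [0, 3, 0, 3])) (BT.leaf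 (4, [6, 0, 6, 0], [0, 6, 0, 6]))) (BT.leaf (4, [8, 0, 8, 0], [0, 8, 0, 8]))) (BT.node 9 (BT.leaf (6, [0, 1, 0, 1, 0, 1], [1, 0, 1, 0, 1, 0])) (BT.leaf (2, [1, 1], [1, 1]))))) (BT.node 15 (BT.node 13 (BT.node 12 (BT.node 11 (BT.leaf (6, [2, 1, 2, 1, 2, 1], [1, 2, 1, 2, 1, 2])) (BT.leaf (4, [4, 1, 4, 1], [1, 4, 1, 4]))) (BT.leaf (4, [5, 1, 5, 1], [1, 5, 1, 5]))) (BT.node 14 (BT.leaf (4, [7, 1, 7, 1], [1, 7, 1, 7])) (BT.leaf (4, [3, 1, 3, 1], [1, 3, 1, 3])))) (BT.node 18 (BT.node 17 (BT.node 16 (BT.leaf (4, [6, 1, 6, 1], [1, 6, 1, 6])) (BT.leaf (4, [8, 1, 8, 1], [1, 8, 1, 8]))) (BT.leaf (4, [0, 2, 0, 2], [2, 0, 2, 0]))) (BT.node 19 (BT.leaf (6, [1, 2, 1, 2, 1, 2], [2, 1, 2, 1, 2, 1])) (BT.leaf (2, [2, 2], [2, 2])))))) (BT.node 30 (BT.node 25 (BT.node 23 (BT.node 22 (BT.node 21 (BT.leaf (4, [4, 2, 4, 2], [2, 4, 2, 4])) (BT.leaf (4, [5, 2, 5, 2], [2, 5, 2, 5])))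 (BT.leaf (4, [7, 2, 7, 2], [2, 7, 2, 7]))) (BT.node 24 (BT.leaf (6, [3, 2, 3, 2, 3, 2], [2, 3, 2, 3, 2, 3])) (BT.leaf (4, [6, 2, 6, 2], [2, 6, 2, 6])))) (BT.node 28 (BT.node 27 (BT.node 26 (BT.leaf (4, [8, 2, 8, 2], [2, 8, 2, 8])) (BT.leaf (6, [0, 4, 0, 4, 0, 4], [4, 0, 4, 0, 4, 0]))) (BT.leaf (4, [1, 4, 1, 4], [4, 1, 4, 1]))) (BT.node 29 (BT.leaf (4, [2, 4, 2, 4], [4, 2, 4, 2])) (BT.leaf (2, [4, 4], [4, 4]))))) (BT.node 35 (BT.node 33 (BT.node 32 (BT.node 31 (BT.leaf (6, [5, 4, 5, 4, 5, 4], [4, 5, 4, 5, 4, 5])) (BT.leaf (4, [7, 4, 7, 4], [4, 7, 4, 7]))) (BT.leaf (4, [3, 4, 3, 4], [4, 3, 4, 3]))) (BT.node 34 (BT.leaf (4, [6, 4, 6, 4], [4, 6, 4, 6])) (BT.leaf (4, [8, 4, 8, 4], [4, 8, 4, 8])))) (BT.node 38 (BT.node 37 (BT.node 36 (BT.leaf (4, [0, 5, 0, 5], [5, 0, 5, 0])) (BT.leaf (4, [1, 5, 1, 5], [5, 1, 5, 1]))) (BT.leaf (4, [2, 5, 2, 5], [5, 2, 5, 2]))) (BT.node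 39 (BT.leaf (6, [4, 5, 4, 5, 4, 5], [5, 4, 5, 4, 5, 4])) (BT.leaf (2, [5, 5], [5, 5]))))))) (BT.node 61 (BT.node 51 (BT.node 46 (BT.node 43 (BT.node 42 (BT.node 41 (BT.leaf (4, [7, 5, 7, 5], [5, 7, 5, 7])) (BT.leaf (4, [3, 5, 3, 5], [5, 3, 5, 3]))) (BT.leaf (6, [6, 5, 6, 5, 6, 5], [5, 6, 5, 6, 5, 6]))) (BT.node 45 (BT.node 44 (BT.leaf (4, [8, 5, 8, 5], [5, 8, 5, 8])) (BT.leaf (6, [0, 7, 0, 7, 0, 7], [7, 0, 7, 0, 7, 0]))) (BT.leaf (4, [1, 7, 1, 7], [7, 1, 7, 1])))) (BT.node 49 (BT.node 48 (BT.node 47 (BT.leaf (4, [2, 7, 2, 7], [7, 2, 7, 2])) (BT.leaf (4, [4, 7, 4, 7], [7, 4, 7, 4]))) (BT.leaf (4, [5, 7, 5, 7], [7, 5, 7, 5]))) (BT.node 50 (BT.leaf (2, [7, 7], [7, 7])) (BT.leaf (4, [3, 7, 3, 7], [7, 3, 7, 3]))))) (BT.node 56 (BT.node 54 (BT.node 53 (BT.node 52 (BT.leaf (4, [6, 7, 6, 7], [7, 6, 7, 6])) (BT.leaf (6, [8, 7, 8, 7, 8, 7], [7, 8, 7, 8, 7, 8]))) (BT.leaf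 (4, [0, 3, 0, 3], [3, 0, 3, 0]))) (BT.node 55 (BT.leaf (4, [1, 3, 1, 3], [3, 1, 3, 1])) (BT.leaf (6, [2, 3, 2, 3, 2, 3], [3, 2, 3, 2, 3, 2])))) (BT.node 59 (BT.node 58 (BT.node 57 (BT.leaf (4, [4, 3, 4, 3], [3, 4, 3, 4])) (BT.leaf (4, [5, 3, 5, 3], [3, 5, 3, 5]))) (BT.leaf (4, [7, 3, 7, 3], [3, 7, 3, 7]))) (BT.node 60 (BT.leaf (2, [3, 3], [3, 3])) (BT.leaf (4, [6, 3, 6, 3], [3, 6, 3, 6])))))) (BT.node 71 (BT.node 66 (BT.node 64 (BT.node 63 (BT.node 62 (BT.leaf (4, [8, 3, 8, 3], [3, 8, 3, 8])) (BT.leaf (4, [0, 6, 0, 6], [6, 0, 6, 0]))) (BT.leaf (4, [1, 6, 1, 6], [6, 1, 6, 1]))) (BT.node 65 (BT.leaf (4, [2, 6, 2, 6], [6, 2, 6, 2])) (BT.leaf (4, [4, 6, 4, 6], [6, 4, 6, 4])))) (BT.node 69 (BT.node 68 (BT.node 67 (BT.leaf (6, [5, 6, 5, 6, 5, 6], [6, 5, 6, 5, 6, 5])) (BT.leaf (4, [7, 6, 7, 6], [6, 7, 6, 7]))) (BT.leaf (4, [3, 6, 3, 6], [6, 3, 6, 3]))) (BT.node 70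 (BT.leaf (2, [6, 6], [6, 6])) (BT.leaf (4, [8, 6, 8, 6], [6, 8, 6, 8]))))) (BT.node 76 (BT.node 74 (BT.node 73 (BT.node 72 (BT.leaf (4, [0, 8, 0, 8], [8, 0, 8, 0])) (BT.leaf (4, [1, 8, 1, 8], [8, 1, 8, 1]))) (BT.leaf (4, [2, 8, 2, 8], [8, 2, 8, 2]))) (BT.node 75 (BT.leaf (4, [4, 8, 4, 8], [8, 4, 8, 4])) (BT.leaf (4, [5, 8, 5, 8], [8, 5, 8, 5])))) (BT.node 79 (BT.node 78 (BT.node 77 (BT.leaf (6, [7, 8, 7, 8, 7, 8], [8, 7, 8, 7, 8, 7])) (BT.leaf (4, [3, 8, 3, 8], [8, 3, 8, 3]))) (BT.leaf (4, [6, 8, 6, 8], [8, 6, 8, 6]))) (BT.node 80 (BT.leaf (2, [8, 8], [8, 8])) (BT.leaf (90, [8, 7, 0, 2, 1, 0, 5, 4, 0, 8, 7, 0, 2, 1, 0, 5, 4, 0, 8, 7, 0, 2, 1, 0, 5, 4, 0, 8, 7, 0, 2, 1, 0, 5, 4, 0, 8, 7, 0, 2, 1, 0, 5, 4, 0, 8, 7, 0, 2, 1, 0, 5, 4, 0, 8, 7, 0, 2, 1, 0, 5, 4, 0, 8, 7, 0, 2, 1, 0, 5, 4, 0, 8, 7, 0, 2, 1, 0, 5, 4, 0, 8, 7, 0, 2, 1, 0, 5, 4, 0], [0, 4, 5, 0, 1,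 2, 0, 7, 8, 0, 4, 5, 0, 1, 2, 0, 7, 8, 0, 4, 5, 0, 1, 2, 0, 7, 8, 0, 4, 5, 0, 1, 2, 0, 7, 8, 0, 4, 5, 0, 1, 2, 0, 7, 8, 0, 4, 5, 0, 1, 2, 0, 7, 8, 0, 4, 5, 0, 1, 2, 0, 7, 8, 0, 4, 5, 0, 1, 2, 0, 7, 8, 0, 4, 5, 0, 1, 2, 0, 7, 8, 0, 4, 5, 0, 1, 2, 0, 7, 8]))))))))
/-- subgroup generators -/
def subT : BT (ℕ × List ℕ × List ℕ) := (BT.node 3 (BT.node 1 (BT.node 0 (BT.leaf (1, [0], [0])) (BT.leaf (1, [1], [1]))) (BT.node 2 (BT.leaf (1, [2], [2])) (BT.leaf (1, [3], [3])))) (BT.node 5 (BT.node 4 (BT.leaf (1, [4], [4])) (BT.leaf (1, [5], [5]))) (BT.node 6 (BT.leaf (1, [7], [7])) (BT.leaf (1, [8], [8])))))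
/-- fact chunks -/
def colET : BT ℕ := (BT.node 1169 (BT.node 584 (BT.node 292 (BT.node 146 (BT.node 73 (BT.node 36 (BT.node 18 (BT.node 9 (BT.node 4 (BT.node 2 (BT.node 1 (BT.node 0 (BT.leaf cE0) (BT.leaf cE1)) (BT.leaf cE2)) (BT.node 3 (BT.leaf cE3) (BT.leaf cE4))) (BT.node 7 (BT.node 6 (BT.node 5 (BT.leaf cE5) (BT.leaf cE6)) (BT.leaf cE7)) (BT.node 8 (BT.leaf cE8) (BT.leaf cE9)))) (BT.node 14 (BT.node 12 (BT.node 11 (BT.node 10 (BT.leaf cE10) (BT.leaf cE11)) (BT.leaf cE12)) (BT.node 13 (BT.leaf cE13) (BT.leaf cE14))) (BT.node 16 (BT.node 15 (BT.leaf cE15) (BT.leaf cE16)) (BT.node 17 (BT.leaf cE17) (BT.leaf cE18))))) (BT.node 27 (BT.node 23 (BT.node 21 (BT.node 20 (BT.node 19 (BT.leaf cE19) (BT.leaf cE20)) (BT.leaf cE21)) (BT.node 22 (BT.leaf cE22) (BT.leaf cE23))) (BT.node 25 (BT.node 24 (BT.leaf cE24) (BT.leaf cE25)) (BT.node 26 (BT.leaf cE26) (BT.leaf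 cE27)))) (BT.node 32 (BT.node 30 (BT.node 29 (BT.node 28 (BT.leaf cE28) (BT.leaf cE29)) (BT.leaf cE30)) (BT.node 31 (BT.leaf cE31) (BT.leaf cE32))) (BT.node 34 (BT.node 33 (BT.leaf cE33) (BT.leaf cE34)) (BT.node 35 (BT.leaf cE35) (BT.leaf cE36)))))) (BT.node 55 (BT.node 46 (BT.node 41 (BT.node 39 (BT.node 38 (BT.node 37 (BT.leaf cE37) (BT.leaf cE38)) (BT.leaf cE39)) (BT.node 40 (BT.leaf cE40) (BT.leaf cE41))) (BT.node 44 (BT.node 43 (BT.node 42 (BT.leaf cE42) (BT.leaf cE43)) (BT.leaf cE44)) (BT.node 45 (BT.leaf cE45) (BT.leaf cE46)))) (BT.node 51 (BT.node 49 (BT.node 48 (BT.node 47 (BT.leaf cE47) (BT.leaf cE48)) (BT.leaf cE49)) (BT.node 50 (BT.leaf cE50) (BT.leaf cE51))) (BT.node 53 (BT.node 52 (BT.leaf cE52) (BT.leaf cE53)) (BT.node 54 (BT.leaf cE54) (BT.leaf cE55))))) (BT.node 64 (BT.node 60 (BT.node 58 (BT.node 57 (BT.node 56 (BT.leaf cE56) (BT.leaf cE57))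 (BT.leaf cE58)) (BT.node 59 (BT.leaf cE59) (BT.leaf cE60))) (BT.node 62 (BT.node 61 (BT.leaf cE61) (BT.leaf cE62)) (BT.node 63 (BT.leaf cE63) (BT.leaf cE64)))) (BT.node 69 (BT.node 67 (BT.node 66 (BT.node 65 (BT.leaf cE65) (BT.leaf cE66)) (BT.leaf cE67)) (BT.node 68 (BT.leaf cE68) (BT.leaf cE69))) (BT.node 71 (BT.node 70 (BT.leaf cE70) (BT.leaf cE71)) (BT.node 72 (BT.leaf cE72) (BT.leaf cE73))))))) (BT.node 110 (BT.node 92 (BT.node 83 (BT.node 78 (BT.node 76 (BT.node 75 (BT.node 74 (BT.leaf cE74) (BT.leaf cE75)) (BT.leaf cE76)) (BT.node 77 (BT.leaf cE77) (BT.leaf cE78))) (BT.node 81 (BT.node 80 (BT.node 79 (BT.leaf cE79) (BT.leaf cE80)) (BT.leaf cE81)) (BT.node 82 (BT.leaf cE82) (BT.leaf cE83)))) (BT.node 88 (BT.node 86 (BT.node 85 (BT.node 84 (BT.leaf cE84) (BT.leaf cE85)) (BT.leaf cE86)) (BT.node 87 (BT.leaf cE87) (BT.leaf cE88))) (BT.node 90 (BT.node 89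 (BT.leaf cE89) (BT.leaf cE90)) (BT.node 91 (BT.leaf cE91) (BT.leaf cE92))))) (BT.node 101 (BT.node 97 (BT.node 95 (BT.node 94 (BT.node 93 (BT.leaf cE93) (BT.leaf cE94)) (BT.leaf cE95)) (BT.node 96 (BT.leaf cE96) (BT.leaf cE97))) (BT.node 99 (BT.node 98 (BT.leaf cE98) (BT.leaf cE99)) (BT.node 100 (BT.leaf cE100) (BT.leaf cE101)))) (BT.node 106 (BT.node 104 (BT.node 103 (BT.node 102 (BT.leaf cE102) (BT.leaf cE103)) (BT.leaf cE104)) (BT.node 105 (BT.leaf cE105) (BT.leaf cE106))) (BT.node 108 (BT.node 107 (BT.leaf cE107) (BT.leaf cE108)) (BT.node 109 (BT.leaf cE109) (BT.leaf cE110)))))) (BT.node 128 (BT.node 119 (BT.node 115 (BT.node 113 (BT.node 112 (BT.node 111 (BT.leaf cE111) (BT.leaf cE112)) (BT.leaf cE113)) (BT.node 114 (BT.leaf cE114) (BT.leaf cE115))) (BT.node 117 (BT.node 116 (BT.leaf cE116) (BT.leaf cE117)) (BT.node 118 (BT.leaf cE118) (BT.leaf cE119))))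 (BT.node 124 (BT.node 122 (BT.node 121 (BT.node 120 (BT.leaf cE120) (BT.leaf cE121)) (BT.leaf cE122)) (BT.node 123 (BT.leaf cE123) (BT.leaf cE124))) (BT.node 126 (BT.node 125 (BT.leaf cE125) (BT.leaf cE126)) (BT.node 127 (BT.leaf cE127) (BT.leaf cE128))))) (BT.node 137 (BT.node 133 (BT.node 131 (BT.node 130 (BT.node 129 (BT.leaf cE129) (BT.leaf cE130)) (BT.leaf cE131)) (BT.node 132 (BT.leaf cE132) (BT.leaf cE133))) (BT.node 135 (BT.node 134 (BT.leaf cE134) (BT.leaf cE135)) (BT.node 136 (BT.leaf cE136) (BT.leaf cE137)))) (BT.node 142 (BT.node 140 (BT.node 139 (BT.node 138 (BT.leaf cE138) (BT.leaf cE139)) (BT.leaf cE140)) (BT.node 141 (BT.leaf cE141) (BT.leaf cE142))) (BT.node 144 (BT.node 143 (BT.leaf cE143) (BT.leaf cE144)) (BT.node 145 (BT.leaf cE145) (BT.leaf cE146)))))))) (BT.node 219 (BT.node 183 (BT.node 165 (BT.node 156 (BT.node 151 (BT.node 149 (BT.node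 148 (BT.node 147 (BT.leaf cE147) (BT.leaf cE148)) (BT.leaf cE149)) (BT.node 150 (BT.leaf cE150) (BT.leaf cE151))) (BT.node 154 (BT.node 153 (BT.node 152 (BT.leaf cE152) (BT.leaf cE153)) (BT.leaf cE154)) (BT.node 155 (BT.leaf cE155) (BT.leaf cE156)))) (BT.node 161 (BT.node 159 (BT.node 158 (BT.node 157 (BT.leaf cE157) (BT.leaf cE158)) (BT.leaf cE159)) (BT.node 160 (BT.leaf cE160) (BT.leaf cE161))) (BT.node 163 (BT.node 162 (BT.leaf cE162) (BT.leaf cE163)) (BT.node 164 (BT.leaf cE164) (BT.leaf cE165))))) (BT.node 174 (BT.node 170 (BT.node 168 (BT.node 167 (BT.node 166 (BT.leaf cE166) (BT.leaf cE167)) (BT.leaf cE168)) (BT.node 169 (BT.leaf cE169) (BT.leaf cE170))) (BT.node 172 (BT.node 171 (BT.leaf cE171) (BT.leaf cE172)) (BT.node 173 (BT.leaf cE173) (BT.leaf cE174)))) (BT.node 179 (BT.node 177 (BT.node 176 (BT.node 175 (BT.leaf cE175) (BT.leaf cE176)) (BT.leaf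 cE177)) (BT.node 178 (BT.leaf cE178) (BT.leaf cE179))) (BT.node 181 (BT.node 180 (BT.leaf cE180) (BT.leaf cE181)) (BT.node 182 (BT.leaf cE182) (BT.leaf cE183)))))) (BT.node 201 (BT.node 192 (BT.node 188 (BT.node 186 (BT.node 185 (BT.node 184 (BT.leaf cE184) (BT.leaf cE185)) (BT.leaf cE186)) (BT.node 187 (BT.leaf cE187) (BT.leaf cE188))) (BT.node 190 (BT.node 189 (BT.leaf cE189) (BT.leaf cE190)) (BT.node 191 (BT.leaf cE191) (BT.leaf cE192)))) (BT.node 197 (BT.node 195 (BT.node 194 (BT.node 193 (BT.leaf cE193) (BT.leaf cE194)) (BT.leaf cE195)) (BT.node 196 (BT.leaf cE196) (BT.leaf cE197))) (BT.node 199 (BT.node 198 (BT.leaf cE198) (BT.leaf cE199)) (BT.node 200 (BT.leaf cE200) (BT.leaf cE201))))) (BT.node 210 (BT.node 206 (BT.node 204 (BT.node 203 (BT.node 202 (BT.leaf cE202) (BT.leaf cE203)) (BT.leaf cE204)) (BT.node 205 (BT.leaf cE205) (BT.leaf cE206))) (BT.node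 208 (BT.node 207 (BT.leaf cE207) (BT.leaf cE208)) (BT.node 209 (BT.leaf cE209) (BT.leaf cE210)))) (BT.node 215 (BT.node 213 (BT.node 212 (BT.node 211 (BT.leaf cE211) (BT.leaf cE212)) (BT.leaf cE213)) (BT.node 214 (BT.leaf cE214) (BT.leaf cE215))) (BT.node 217 (BT.node 216 (BT.leaf cE216) (BT.leaf cE217)) (BT.node 218 (BT.leaf cE218) (BT.leaf cE219))))))) (BT.node 256 (BT.node 238 (BT.node 229 (BT.node 224 (BT.node 222 (BT.node 221 (BT.node 220 (BT.leaf cE220) (BT.leaf cE221)) (BT.leaf cE222)) (BT.node 223 (BT.leaf cE223) (BT.leaf cE224))) (BT.node 227 (BT.node 226 (BT.node 225 (BT.leaf cE225) (BT.leaf cE226)) (BT.leaf cE227)) (BT.node 228 (BT.leaf cE228) (BT.leaf cE229)))) (BT.node 234 (BT.node 232 (BT.node 231 (BT.node 230 (BT.leaf cE230) (BT.leaf cE231)) (BT.leaf cE232)) (BT.node 233 (BT.leaf cE233) (BT.leaf cE234))) (BT.node 236 (BT.node 235 (BT.leaf cE235)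 (BT.leaf cE236)) (BT.node 237 (BT.leaf cE237) (BT.leaf cE238))))) (BT.node 247 (BT.node 243 (BT.node 241 (BT.node 240 (BT.node 239 (BT.leaf cE239) (BT.leaf cE240)) (BT.leaf cE241)) (BT.node 242 (BT.leaf cE242) (BT.leaf cE243))) (BT.node 245 (BT.node 244 (BT.leaf cE244) (BT.leaf cE245)) (BT.node 246 (BT.leaf cE246) (BT.leaf cE247)))) (BT.node 252 (BT.node 250 (BT.node 249 (BT.node 248 (BT.leaf cE248) (BT.leaf cE249)) (BT.leaf cE250)) (BT.node 251 (BT.leaf cE251) (BT.leaf cE252))) (BT.node 254 (BT.node 253 (BT.leaf cE253) (BT.leaf cE254)) (BT.node 255 (BT.leaf cE255) (BT.leaf cE256)))))) (BT.node 274 (BT.node 265 (BT.node 261 (BT.node 259 (BT.node 258 (BT.node 257 (BT.leaf cE257) (BT.leaf cE258)) (BT.leaf cE259)) (BT.node 260 (BT.leaf cE260) (BT.leaf cE261))) (BT.node 263 (BT.node 262 (BT.leaf cE262) (BT.leaf cE263)) (BT.node 264 (BT.leaf cE264) (BT.leaf cE265))))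 (BT.node 270 (BT.node 268 (BT.node 267 (BT.node 266 (BT.leaf cE266) (BT.leaf cE267)) (BT.leaf cE268)) (BT.node 269 (BT.leaf cE269) (BT.leaf cE270))) (BT.node 272 (BT.node 271 (BT.leaf cE271) (BT.leaf cE272)) (BT.node 273 (BT.leaf cE273) (BT.leaf cE274))))) (BT.node 283 (BT.node 279 (BT.node 277 (BT.node 276 (BT.node 275 (BT.leaf cE275) (BT.leaf cE276)) (BT.leaf cE277)) (BT.node 278 (BT.leaf cE278) (BT.leaf cE279))) (BT.node 281 (BT.node 280 (BT.leaf cE280) (BT.leaf cE281)) (BT.node 282 (BT.leaf cE282) (BT.leaf cE283)))) (BT.node 288 (BT.node 286 (BT.node 285 (BT.node 284 (BT.leaf cE284) (BT.leaf cE285)) (BT.leaf cE286)) (BT.node 287 (BT.leaf cE287) (BT.leaf cE288))) (BT.node 290 (BT.node 289 (BT.leaf cE289) (BT.leaf cE290)) (BT.node 291 (BT.leaf cE291) (BT.leaf cE292))))))))) (BT.node 438 (BT.node 365 (BT.node 329 (BT.node 311 (BT.node 302 (BT.node 297 (BT.node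 295 (BT.node 294 (BT.node 293 (BT.leaf cE293) (BT.leaf cE294)) (BT.leaf cE295)) (BT.node 296 (BT.leaf cE296) (BT.leaf cE297))) (BT.node 300 (BT.node 299 (BT.node 298 (BT.leaf cE298) (BT.leaf cE299)) (BT.leaf cE300)) (BT.node 301 (BT.leaf cE301) (BT.leaf cE302)))) (BT.node 307 (BT.node 305 (BT.node 304 (BT.node 303 (BT.leaf cE303) (BT.leaf cE304)) (BT.leaf cE305)) (BT.node 306 (BT.leaf cE306) (BT.leaf cE307))) (BT.node 309 (BT.node 308 (BT.leaf cE308) (BT.leaf cE309)) (BT.node 310 (BT.leaf cE310) (BT.leaf cE311))))) (BT.node 320 (BT.node 316 (BT.node 314 (BT.node 313 (BT.node 312 (BT.leaf cE312) (BT.leaf cE313)) (BT.leaf cE314)) (BT.node 315 (BT.leaf cE315) (BT.leaf cE316))) (BT.node 318 (BT.node 317 (BT.leaf cE317) (BT.leaf cE318)) (BT.node 319 (BT.leaf cE319) (BT.leaf cE320)))) (BT.node 325 (BT.node 323 (BT.node 322 (BT.node 321 (BT.leaf cE321) (BT.leaf cE322))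 (BT.leaf cE323)) (BT.node 324 (BT.leaf cE324) (BT.leaf cE325))) (BT.node 327 (BT.node 326 (BT.leaf cE326) (BT.leaf cE327)) (BT.node 328 (BT.leaf cE328) (BT.leaf cE329)))))) (BT.node 347 (BT.node 338 (BT.node 334 (BT.node 332 (BT.node 331 (BT.node 330 (BT.leaf cE330) (BT.leaf cE331)) (BT.leaf cE332)) (BT.node 333 (BT.leaf cE333) (BT.leaf cE334))) (BT.node 336 (BT.node 335 (BT.leaf cE335) (BT.leaf cE336)) (BT.node 337 (BT.leaf cE337) (BT.leaf cE338)))) (BT.node 343 (BT.node 341 (BT.node 340 (BT.node 339 (BT.leaf cE339) (BT.leaf cE340)) (BT.leaf cE341)) (BT.node 342 (BT.leaf cE342) (BT.leaf cE343))) (BT.node 345 (BT.node 344 (BT.leaf cE344) (BT.leaf cE345)) (BT.node 346 (BT.leaf cE346) (BT.leaf cE347))))) (BT.node 356 (BT.node 352 (BT.node 350 (BT.node 349 (BT.node 348 (BT.leaf cE348) (BT.leaf cE349)) (BT.leaf cE350)) (BT.node 351 (BT.leaf cE351) (BT.leaf cE352)))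 (BT.node 354 (BT.node 353 (BT.leaf cE353) (BT.leaf cE354)) (BT.node 355 (BT.leaf cE355) (BT.leaf cE356)))) (BT.node 361 (BT.node 359 (BT.node 358 (BT.node 357 (BT.leaf cE357) (BT.leaf cE358)) (BT.leaf cE359)) (BT.node 360 (BT.leaf cE360) (BT.leaf cE361))) (BT.node 363 (BT.node 362 (BT.leaf cE362) (BT.leaf cE363)) (BT.node 364 (BT.leaf cE364) (BT.leaf cE365))))))) (BT.node 402 (BT.node 384 (BT.node 375 (BT.node 370 (BT.node 368 (BT.node 367 (BT.node 366 (BT.leaf cE366) (BT.leaf cE367)) (BT.leaf cE368)) (BT.node 369 (BT.leaf cE369) (BT.leaf cE370))) (BT.node 373 (BT.node 372 (BT.node 371 (BT.leaf cE371) (BT.leaf cE372)) (BT.leaf cE373)) (BT.node 374 (BT.leaf cE374) (BT.leaf cE375)))) (BT.node 380 (BT.node 378 (BT.node 377 (BT.node 376 (BT.leaf cE376) (BT.leaf cE377)) (BT.leaf cE378)) (BT.node 379 (BT.leaf cE379) (BT.leaf cE380))) (BT.node 382 (BT.node 381 (BT.leaf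 cE381) (BT.leaf cE382)) (BT.node 383 (BT.leaf cE383) (BT.leaf cE384))))) (BT.node 393 (BT.node 389 (BT.node 387 (BT.node 386 (BT.node 385 (BT.leaf cE385) (BT.leaf cE386)) (BT.leaf cE387)) (BT.node 388 (BT.leaf cE388) (BT.leaf cE389))) (BT.node 391 (BT.node 390 (BT.leaf cE390) (BT.leaf cE391)) (BT.node 392 (BT.leaf cE392) (BT.leaf cE393)))) (BT.node 398 (BT.node 396 (BT.node 395 (BT.node 394 (BT.leaf cE394) (BT.leaf cE395)) (BT.leaf cE396)) (BT.node 397 (BT.leaf cE397) (BT.leaf cE398))) (BT.node 400 (BT.node 399 (BT.leaf cE399) (BT.leaf cE400)) (BT.node 401 (BT.leaf cE401) (BT.leaf cE402)))))) (BT.node 420 (BT.node 411 (BT.node 407 (BT.node 405 (BT.node 404 (BT.node 403 (BT.leaf cE403) (BT.leaf cE404)) (BT.leaf cE405)) (BT.node 406 (BT.leaf cE406) (BT.leaf cE407))) (BT.node 409 (BT.node 408 (BT.leaf cE408) (BT.leaf cE409)) (BT.node 410 (BT.leaf cE410) (BT.leaf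 cE411)))) (BT.node 416 (BT.node 414 (BT.node 413 (BT.node 412 (BT.leaf cE412) (BT.leaf cE413)) (BT.leaf cE414)) (BT.node 415 (BT.leaf cE415) (BT.leaf cE416))) (BT.node 418 (BT.node 417 (BT.leaf cE417) (BT.leaf cE418)) (BT.node 419 (BT.leaf cE419) (BT.leaf cE420))))) (BT.node 429 (BT.node 425 (BT.node 423 (BT.node 422 (BT.node 421 (BT.leaf cE421) (BT.leaf cE422)) (BT.leaf cE423)) (BT.node 424 (BT.leaf cE424) (BT.leaf cE425))) (BT.node 427 (BT.node 426 (BT.leaf cE426) (BT.leaf cE427)) (BT.node 428 (BT.leaf cE428) (BT.leaf cE429)))) (BT.node 434 (BT.node 432 (BT.node 431 (BT.node 430 (BT.leaf cE430) (BT.leaf cE431)) (BT.leaf cE432)) (BT.node 433 (BT.leaf cE433) (BT.leaf cE434))) (BT.node 436 (BT.node 435 (BT.leaf cE435) (BT.leaf cE436)) (BT.node 437 (BT.leaf cE437) (BT.leaf cE438)))))))) (BT.node 511 (BT.node 475 (BT.node 457 (BT.node 448 (BT.node 443 (BT.node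 441 (BT.node 440 (BT.node 439 (BT.leaf cE439) (BT.leaf cE440)) (BT.leaf cE441)) (BT.node 442 (BT.leaf cE442) (BT.leaf cE443))) (BT.node 446 (BT.node 445 (BT.node 444 (BT.leaf cE444) (BT.leaf cE445)) (BT.leaf cE446)) (BT.node 447 (BT.leaf cE447) (BT.leaf cE448)))) (BT.node 453 (BT.node 451 (BT.node 450 (BT.node 449 (BT.leaf cE449) (BT.leaf cE450)) (BT.leaf cE451)) (BT.node 452 (BT.leaf cE452) (BT.leaf cE453))) (BT.node 455 (BT.node 454 (BT.leaf cE454) (BT.leaf cE455)) (BT.node 456 (BT.leaf cE456) (BT.leaf cE457))))) (BT.node 466 (BT.node 462 (BT.node 460 (BT.node 459 (BT.node 458 (BT.leaf cE458) (BT.leaf cE459)) (BT.leaf cE460)) (BT.node 461 (BT.leaf cE461) (BT.leaf cE462))) (BT.node 464 (BT.node 463 (BT.leaf cE463) (BT.leaf cE464)) (BT.node 465 (BT.leaf cE465) (BT.leaf cE466)))) (BT.node 471 (BT.node 469 (BT.node 468 (BT.node 467 (BT.leaf cE467) (BT.leaf cE468))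 (BT.leaf cE469)) (BT.node 470 (BT.leaf cE470) (BT.leaf cE471))) (BT.node 473 (BT.node 472 (BT.leaf cE472) (BT.leaf cE473)) (BT.node 474 (BT.leaf cE474) (BT.leaf cE475)))))) (BT.node 493 (BT.node 484 (BT.node 480 (BT.node 478 (BT.node 477 (BT.node 476 (BT.leaf cE476) (BT.leaf cE477)) (BT.leaf cE478)) (BT.node 479 (BT.leaf cE479) (BT.leaf cE480))) (BT.node 482 (BT.node 481 (BT.leaf cE481) (BT.leaf cE482)) (BT.node 483 (BT.leaf cE483) (BT.leaf cE484)))) (BT.node 489 (BT.node 487 (BT.node 486 (BT.node 485 (BT.leaf cE485) (BT.leaf cE486)) (BT.leaf cE487)) (BT.node 488 (BT.leaf cE488) (BT.leaf cE489))) (BT.node 491 (BT.node 490 (BT.leaf cE490) (BT.leaf cE491)) (BT.node 492 (BT.leaf cE492) (BT.leaf cE493))))) (BT.node 502 (BT.node 498 (BT.node 496 (BT.node 495 (BT.node 494 (BT.leaf cE494) (BT.leaf cE495)) (BT.leaf cE496)) (BT.node 497 (BT.leaf cE497) (BT.leaf cE498)))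 (BT.node 500 (BT.node 499 (BT.leaf cE499) (BT.leaf cE500)) (BT.node 501 (BT.leaf cE501) (BT.leaf cE502)))) (BT.node 507 (BT.node 505 (BT.node 504 (BT.node 503 (BT.leaf cE503) (BT.leaf cE504)) (BT.leaf cE505)) (BT.node 506 (BT.leaf cE506) (BT.leaf cE507))) (BT.node 509 (BT.node 508 (BT.leaf cE508) (BT.leaf cE509)) (BT.node 510 (BT.leaf cE510) (BT.leaf cE511))))))) (BT.node 548 (BT.node 530 (BT.node 521 (BT.node 516 (BT.node 514 (BT.node 513 (BT.node 512 (BT.leaf cE512) (BT.leaf cE513)) (BT.leaf cE514)) (BT.node 515 (BT.leaf cE515) (BT.leaf cE516))) (BT.node 519 (BT.node 518 (BT.node 517 (BT.leaf cE517) (BT.leaf cE518)) (BT.leaf cE519)) (BT.node 520 (BT.leaf cE520) (BT.leaf cE521)))) (BT.node 526 (BT.node 524 (BT.node 523 (BT.node 522 (BT.leaf cE522) (BT.leaf cE523)) (BT.leaf cE524)) (BT.node 525 (BT.leaf cE525) (BT.leaf cE526))) (BT.node 528 (BT.node 527 (BT.leaf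 cE527) (BT.leaf cE528)) (BT.node 529 (BT.leaf cE529) (BT.leaf cE530))))) (BT.node 539 (BT.node 535 (BT.node 533 (BT.node 532 (BT.node 531 (BT.leaf cE531) (BT.leaf cE532)) (BT.leaf cE533)) (BT.node 534 (BT.leaf cE534) (BT.leaf cE535))) (BT.node 537 (BT.node 536 (BT.leaf cE536) (BT.leaf cE537)) (BT.node 538 (BT.leaf cE538) (BT.leaf cE539)))) (BT.node 544 (BT.node 542 (BT.node 541 (BT.node 540 (BT.leaf cE540) (BT.leaf cE541)) (BT.leaf cE542)) (BT.node 543 (BT.leaf cE543) (BT.leaf cE544))) (BT.node 546 (BT.node 545 (BT.leaf cE545) (BT.leaf cE546)) (BT.node 547 (BT.leaf cE547) (BT.leaf cE548)))))) (BT.node 566 (BT.node 557 (BT.node 553 (BT.node 551 (BT.node 550 (BT.node 549 (BT.leaf cE549) (BT.leaf cE550)) (BT.leaf cE551)) (BT.node 552 (BT.leaf cE552) (BT.leaf cE553))) (BT.node 555 (BT.node 554 (BT.leaf cE554) (BT.leaf cE555)) (BT.node 556 (BT.leaf cE556) (BT.leaf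 cE557)))) (BT.node 562 (BT.node 560 (BT.node 559 (BT.node 558 (BT.leaf cE558) (BT.leaf cE559)) (BT.leaf cE560)) (BT.node 561 (BT.leaf cE561) (BT.leaf cE562))) (BT.node 564 (BT.node 563 (BT.leaf cE563) (BT.leaf cE564)) (BT.node 565 (BT.leaf cE565) (BT.leaf cE566))))) (BT.node 575 (BT.node 571 (BT.node 569 (BT.node 568 (BT.node 567 (BT.leaf cE567) (BT.leaf cE568)) (BT.leaf cE569)) (BT.node 570 (BT.leaf cE570) (BT.leaf cE571))) (BT.node 573 (BT.node 572 (BT.leaf cE572) (BT.leaf cE573)) (BT.node 574 (BT.leaf cE574) (BT.leaf cE575)))) (BT.node 580 (BT.node 578 (BT.node 577 (BT.node 576 (BT.leaf cE576) (BT.leaf cE577)) (BT.leaf cE578)) (BT.node 579 (BT.leaf cE579) (BT.leaf cE580))) (BT.node 582 (BT.node 581 (BT.leaf cE581) (BT.leaf cE582)) (BT.node 583 (BT.leaf cE583) (BT.leaf cE584)))))))))) (BT.node 877 (BT.node 731 (BT.node 658 (BT.node 621 (BT.node 603 (BT.node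 594 (BT.node 589 (BT.node 587 (BT.node 586 (BT.node 585 (BT.leaf cE585) (BT.leaf cE586)) (BT.leaf cE587)) (BT.node 588 (BT.leaf cE588) (BT.leaf cE589))) (BT.node 592 (BT.node 591 (BT.node 590 (BT.leaf cE590) (BT.leaf cE591)) (BT.leaf cE592)) (BT.node 593 (BT.leaf cE593) (BT.leaf cE594)))) (BT.node 599 (BT.node 597 (BT.node 596 (BT.node 595 (BT.leaf cE595) (BT.leaf cE596)) (BT.leaf cE597)) (BT.node 598 (BT.leaf cE598) (BT.leaf cE599))) (BT.node 601 (BT.node 600 (BT.leaf cE600) (BT.leaf cE601)) (BT.node 602 (BT.leaf cE602) (BT.leaf cE603))))) (BT.node 612 (BT.node 608 (BT.node 606 (BT.node 605 (BT.node 604 (BT.leaf cE604) (BT.leaf cE605)) (BT.leaf cE606)) (BT.node 607 (BT.leaf cE607) (BT.leaf cE608))) (BT.node 610 (BT.node 609 (BT.leaf cE609) (BT.leaf cE610)) (BT.node 611 (BT.leaf cE611) (BT.leaf cE612)))) (BT.node 617 (BT.node 615 (BT.node 614 (BT.node 613 (BT.leaf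 cE613) (BT.leaf cE614)) (BT.leaf cE615)) (BT.node 616 (BT.leaf cE616) (BT.leaf cE617))) (BT.node 619 (BT.node 618 (BT.leaf cE618) (BT.leaf cE619)) (BT.node 620 (BT.leaf cE620) (BT.leaf cE621)))))) (BT.node 640 (BT.node 631 (BT.node 626 (BT.node 624 (BT.node 623 (BT.node 622 (BT.leaf cE622) (BT.leaf cE623)) (BT.leaf cE624)) (BT.node 625 (BT.leaf cE625) (BT.leaf cE626))) (BT.node 629 (BT.node 628 (BT.node 627 (BT.leaf cE627) (BT.leaf cE628)) (BT.leaf cE629)) (BT.node 630 (BT.leaf cE630) (BT.leaf cE631)))) (BT.node 636 (BT.node 634 (BT.node 633 (BT.node 632 (BT.leaf cE632) (BT.leaf cE633)) (BT.leaf cE634)) (BT.node 635 (BT.leaf cE635) (BT.leaf cE636))) (BT.node 638 (BT.node 637 (BT.leaf cE637) (BT.leaf cE638)) (BT.node 639 (BT.leaf cE639) (BT.leaf cE640))))) (BT.node 649 (BT.node 645 (BT.node 643 (BT.node 642 (BT.node 641 (BT.leaf cE641) (BT.leaf cE642)) (BT.leaf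 cE643)) (BT.node 644 (BT.leaf cE644) (BT.leaf cE645))) (BT.node 647 (BT.node 646 (BT.leaf cE646) (BT.leaf cE647)) (BT.node 648 (BT.leaf cE648) (BT.leaf cE649)))) (BT.node 654 (BT.node 652 (BT.node 651 (BT.node 650 (BT.leaf cE650) (BT.leaf cE651)) (BT.leaf cE652)) (BT.node 653 (BT.leaf cE653) (BT.leaf cE654))) (BT.node 656 (BT.node 655 (BT.leaf cE655) (BT.leaf cE656)) (BT.node 657 (BT.leaf cE657) (BT.leaf cE658))))))) (BT.node 695 (BT.node 677 (BT.node 668 (BT.node 663 (BT.node 661 (BT.node 660 (BT.node 659 (BT.leaf cE659) (BT.leaf cE660)) (BT.leaf cE661)) (BT.node 662 (BT.leaf cE662) (BT.leaf cE663))) (BT.node 666 (BT.node 665 (BT.node 664 (BT.leaf cE664) (BT.leaf cE665)) (BT.leaf cE666)) (BT.node 667 (BT.leaf cE667) (BT.leaf cE668)))) (BT.node 673 (BT.node 671 (BT.node 670 (BT.node 669 (BT.leaf cE669) (BT.leaf cE670)) (BT.leaf cE671)) (BT.node 672 (BT.leaf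 cE672) (BT.leaf cE673))) (BT.node 675 (BT.node 674 (BT.leaf cE674) (BT.leaf cE675)) (BT.node 676 (BT.leaf cE676) (BT.leaf cE677))))) (BT.node 686 (BT.node 682 (BT.node 680 (BT.node 679 (BT.node 678 (BT.leaf cE678) (BT.leaf cE679)) (BT.leaf cE680)) (BT.node 681 (BT.leaf cE681) (BT.leaf cE682))) (BT.node 684 (BT.node 683 (BT.leaf cE683) (BT.leaf cE684)) (BT.node 685 (BT.leaf cE685) (BT.leaf cE686)))) (BT.node 691 (BT.node 689 (BT.node 688 (BT.node 687 (BT.leaf cE687) (BT.leaf cE688)) (BT.leaf cE689)) (BT.node 690 (BT.leaf cE690) (BT.leaf cE691))) (BT.node 693 (BT.node 692 (BT.leaf cE692) (BT.leaf cE693)) (BT.node 694 (BT.leaf cE694) (BT.leaf cE695)))))) (BT.node 713 (BT.node 704 (BT.node 700 (BT.node 698 (BT.node 697 (BT.node 696 (BT.leaf cE696) (BT.leaf cE697)) (BT.leaf cE698)) (BT.node 699 (BT.leaf cE699) (BT.leaf cE700))) (BT.node 702 (BT.node 701 (BT.leaf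 cE701) (BT.leaf cE702)) (BT.node 703 (BT.leaf cE703) (BT.leaf cE704)))) (BT.node 709 (BT.node 707 (BT.node 706 (BT.node 705 (BT.leaf cE705) (BT.leaf cE706)) (BT.leaf cE707)) (BT.node 708 (BT.leaf cE708) (BT.leaf cE709))) (BT.node 711 (BT.node 710 (BT.leaf cE710) (BT.leaf cE711)) (BT.node 712 (BT.leaf cE712) (BT.leaf cE713))))) (BT.node 722 (BT.node 718 (BT.node 716 (BT.node 715 (BT.node 714 (BT.leaf cE714) (BT.leaf cE715)) (BT.leaf cE716)) (BT.node 717 (BT.leaf cE717) (BT.leaf cE718))) (BT.node 720 (BT.node 719 (BT.leaf cE719) (BT.leaf cE720)) (BT.node 721 (BT.leaf cE721) (BT.leaf cE722)))) (BT.node 727 (BT.node 725 (BT.node 724 (BT.node 723 (BT.leaf cE723) (BT.leaf cE724)) (BT.leaf cE725)) (BT.node 726 (BT.leaf cE726) (BT.leaf cE727))) (BT.node 729 (BT.node 728 (BT.leaf cE728) (BT.leaf cE729)) (BT.node 730 (BT.leaf cE730) (BT.leaf cE731)))))))) (BT.node 804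 (BT.node 768 (BT.node 750 (BT.node 741 (BT.node 736 (BT.node 734 (BT.node 733 (BT.node 732 (BT.leaf cE732) (BT.leaf cE733)) (BT.leaf cE734)) (BT.node 735 (BT.leaf cE735) (BT.leaf cE736))) (BT.node 739 (BT.node 738 (BT.node 737 (BT.leaf cE737) (BT.leaf cE738)) (BT.leaf cE739)) (BT.node 740 (BT.leaf cE740) (BT.leaf cE741)))) (BT.node 746 (BT.node 744 (BT.node 743 (BT.node 742 (BT.leaf cE742) (BT.leaf cE743)) (BT.leaf cE744)) (BT.node 745 (BT.leaf cE745) (BT.leaf cE746))) (BT.node 748 (BT.node 747 (BT.leaf cE747) (BT.leaf cE748)) (BT.node 749 (BT.leaf cE749) (BT.leaf cE750))))) (BT.node 759 (BT.node 755 (BT.node 753 (BT.node 752 (BT.node 751 (BT.leaf cE751) (BT.leaf cE752)) (BT.leaf cE753)) (BT.node 754 (BT.leaf cE754) (BT.leaf cE755))) (BT.node 757 (BT.node 756 (BT.leaf cE756) (BT.leaf cE757)) (BT.node 758 (BT.leaf cE758) (BT.leaf cE759)))) (BT.node 764 (BT.node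 762 (BT.node 761 (BT.node 760 (BT.leaf cE760) (BT.leaf cE761)) (BT.leaf cE762)) (BT.node 763 (BT.leaf cE763) (BT.leaf cE764))) (BT.node 766 (BT.node 765 (BT.leaf cE765) (BT.leaf cE766)) (BT.node 767 (BT.leaf cE767) (BT.leaf cE768)))))) (BT.node 786 (BT.node 777 (BT.node 773 (BT.node 771 (BT.node 770 (BT.node 769 (BT.leaf cE769) (BT.leaf cE770)) (BT.leaf cE771)) (BT.node 772 (BT.leaf cE772) (BT.leaf cE773))) (BT.node 775 (BT.node 774 (BT.leaf cE774) (BT.leaf cE775)) (BT.node 776 (BT.leaf cE776) (BT.leaf cE777)))) (BT.node 782 (BT.node 780 (BT.node 779 (BT.node 778 (BT.leaf cE778) (BT.leaf cE779)) (BT.leaf cE780)) (BT.node 781 (BT.leaf cE781) (BT.leaf cE782))) (BT.node 784 (BT.node 783 (BT.leaf cE783) (BT.leaf cE784)) (BT.node 785 (BT.leaf cE785) (BT.leaf cE786))))) (BT.node 795 (BT.node 791 (BT.node 789 (BT.node 788 (BT.node 787 (BT.leaf cE787) (BT.leaf cE788))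 (BT.leaf cE789)) (BT.node 790 (BT.leaf cE790) (BT.leaf cE791))) (BT.node 793 (BT.node 792 (BT.leaf cE792) (BT.leaf cE793)) (BT.node 794 (BT.leaf cE794) (BT.leaf cE795)))) (BT.node 800 (BT.node 798 (BT.node 797 (BT.node 796 (BT.leaf cE796) (BT.leaf cE797)) (BT.leaf cE798)) (BT.node 799 (BT.leaf cE799) (BT.leaf cE800))) (BT.node 802 (BT.node 801 (BT.leaf cE801) (BT.leaf cE802)) (BT.node 803 (BT.leaf cE803) (BT.leaf cE804))))))) (BT.node 841 (BT.node 823 (BT.node 814 (BT.node 809 (BT.node 807 (BT.node 806 (BT.node 805 (BT.leaf cE805) (BT.leaf cE806)) (BT.leaf cE807)) (BT.node 808 (BT.leaf cE808) (BT.leaf cE809))) (BT.node 812 (BT.node 811 (BT.node 810 (BT.leaf cE810) (BT.leaf cE811)) (BT.leaf cE812)) (BT.node 813 (BT.leaf cE813) (BT.leaf cE814)))) (BT.node 819 (BT.node 817 (BT.node 816 (BT.node 815 (BT.leaf cE815) (BT.leaf cE816)) (BT.leaf cE817)) (BT.node 818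 (BT.leaf cE818) (BT.leaf cE819))) (BT.node 821 (BT.node 820 (BT.leaf cE820) (BT.leaf cE821)) (BT.node 822 (BT.leaf cE822) (BT.leaf cE823))))) (BT.node 832 (BT.node 828 (BT.node 826 (BT.node 825 (BT.node 824 (BT.leaf cE824) (BT.leaf cE825)) (BT.leaf cE826)) (BT.node 827 (BT.leaf cE827) (BT.leaf cE828))) (BT.node 830 (BT.node 829 (BT.leaf cE829) (BT.leaf cE830)) (BT.node 831 (BT.leaf cE831) (BT.leaf cE832)))) (BT.node 837 (BT.node 835 (BT.node 834 (BT.node 833 (BT.leaf cE833) (BT.leaf cE834)) (BT.leaf cE835)) (BT.node 836 (BT.leaf cE836) (BT.leaf cE837))) (BT.node 839 (BT.node 838 (BT.leaf cE838) (BT.leaf cE839)) (BT.node 840 (BT.leaf cE840) (BT.leaf cE841)))))) (BT.node 859 (BT.node 850 (BT.node 846 (BT.node 844 (BT.node 843 (BT.node 842 (BT.leaf cE842) (BT.leaf cE843)) (BT.leaf cE844)) (BT.node 845 (BT.leaf cE845) (BT.leaf cE846))) (BT.node 848 (BT.node 847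 (BT.leaf cE847) (BT.leaf cE848)) (BT.node 849 (BT.leaf cE849) (BT.leaf cE850)))) (BT.node 855 (BT.node 853 (BT.node 852 (BT.node 851 (BT.leaf cE851) (BT.leaf cE852)) (BT.leaf cE853)) (BT.node 854 (BT.leaf cE854) (BT.leaf cE855))) (BT.node 857 (BT.node 856 (BT.leaf cE856) (BT.leaf cE857)) (BT.node 858 (BT.leaf cE858) (BT.leaf cE859))))) (BT.node 868 (BT.node 864 (BT.node 862 (BT.node 861 (BT.node 860 (BT.leaf cE860) (BT.leaf cE861)) (BT.leaf cE862)) (BT.node 863 (BT.leaf cE863) (BT.leaf cE864))) (BT.node 866 (BT.node 865 (BT.leaf cE865) (BT.leaf cE866)) (BT.node 867 (BT.leaf cE867) (BT.leaf cE868)))) (BT.node 873 (BT.node 871 (BT.node 870 (BT.node 869 (BT.leaf cE869) (BT.leaf cE870)) (BT.leaf cE871)) (BT.node 872 (BT.leaf cE872) (BT.leaf cE873))) (BT.node 875 (BT.node 874 (BT.leaf cE874) (BT.leaf cE875)) (BT.node 876 (BT.leaf cE876) (BT.leaf cE877))))))))) (BT.node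 1023 (BT.node 950 (BT.node 914 (BT.node 896 (BT.node 887 (BT.node 882 (BT.node 880 (BT.node 879 (BT.node 878 (BT.leaf cE878) (BT.leaf cE879)) (BT.leaf cE880)) (BT.node 881 (BT.leaf cE881) (BT.leaf cE882))) (BT.node 885 (BT.node 884 (BT.node 883 (BT.leaf cE883) (BT.leaf cE884)) (BT.leaf cE885)) (BT.node 886 (BT.leaf cE886) (BT.leaf cE887)))) (BT.node 892 (BT.node 890 (BT.node 889 (BT.node 888 (BT.leaf cE888) (BT.leaf cE889)) (BT.leaf cE890)) (BT.node 891 (BT.leaf cE891) (BT.leaf cE892))) (BT.node 894 (BT.node 893 (BT.leaf cE893) (BT.leaf cE894)) (BT.node 895 (BT.leaf cE895) (BT.leaf cE896))))) (BT.node 905 (BT.node 901 (BT.node 899 (BT.node 898 (BT.node 897 (BT.leaf cE897) (BT.leaf cE898)) (BT.leaf cE899)) (BT.node 900 (BT.leaf cE900) (BT.leaf cE901))) (BT.node 903 (BT.node 902 (BT.leaf cE902) (BT.leaf cE903)) (BT.node 904 (BT.leaf cE904) (BT.leaf cE905))))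 (BT.node 910 (BT.node 908 (BT.node 907 (BT.node 906 (BT.leaf cE906) (BT.leaf cE907)) (BT.leaf cE908)) (BT.node 909 (BT.leaf cE909) (BT.leaf cE910))) (BT.node 912 (BT.node 911 (BT.leaf cE911) (BT.leaf cE912)) (BT.node 913 (BT.leaf cE913) (BT.leaf cE914)))))) (BT.node 932 (BT.node 923 (BT.node 919 (BT.node 917 (BT.node 916 (BT.node 915 (BT.leaf cE915) (BT.leaf cE916)) (BT.leaf cE917)) (BT.node 918 (BT.leaf cE918) (BT.leaf cE919))) (BT.node 921 (BT.node 920 (BT.leaf cE920) (BT.leaf cE921)) (BT.node 922 (BT.leaf cE922) (BT.leaf cE923)))) (BT.node 928 (BT.node 926 (BT.node 925 (BT.node 924 (BT.leaf cE924) (BT.leaf cE925)) (BT.leaf cE926)) (BT.node 927 (BT.leaf cE927) (BT.leaf cE928))) (BT.node 930 (BT.node 929 (BT.leaf cE929) (BT.leaf cE930)) (BT.node 931 (BT.leaf cE931) (BT.leaf cE932))))) (BT.node 941 (BT.node 937 (BT.node 935 (BT.node 934 (BT.node 933 (BT.leaf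 cE933) (BT.leaf cE934)) (BT.leaf cE935)) (BT.node 936 (BT.leaf cE936) (BT.leaf cE937))) (BT.node 939 (BT.node 938 (BT.leaf cE938) (BT.leaf cE939)) (BT.node 940 (BT.leaf cE940) (BT.leaf cE941)))) (BT.node 946 (BT.node 944 (BT.node 943 (BT.node 942 (BT.leaf cE942) (BT.leaf cE943)) (BT.leaf cE944)) (BT.node 945 (BT.leaf cE945) (BT.leaf cE946))) (BT.node 948 (BT.node 947 (BT.leaf cE947) (BT.leaf cE948)) (BT.node 949 (BT.leaf cE949) (BT.leaf cE950))))))) (BT.node 987 (BT.node 969 (BT.node 960 (BT.node 955 (BT.node 953 (BT.node 952 (BT.node 951 (BT.leaf cE951) (BT.leaf cE952)) (BT.leaf cE953)) (BT.node 954 (BT.leaf cE954) (BT.leaf cE955))) (BT.node 958 (BT.node 957 (BT.node 956 (BT.leaf cE956) (BT.leaf cE957)) (BT.leaf cE958)) (BT.node 959 (BT.leaf cE959) (BT.leaf cE960)))) (BT.node 965 (BT.node 963 (BT.node 962 (BT.node 961 (BT.leaf cE961) (BT.leaf cE962)) (BT.leaf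 cE963)) (BT.node 964 (BT.leaf cE964) (BT.leaf cE965))) (BT.node 967 (BT.node 966 (BT.leaf cE966) (BT.leaf cE967)) (BT.node 968 (BT.leaf cE968) (BT.leaf cE969))))) (BT.node 978 (BT.node 974 (BT.node 972 (BT.node 971 (BT.node 970 (BT.leaf cE970) (BT.leaf cE971)) (BT.leaf cE972)) (BT.node 973 (BT.leaf cE973) (BT.leaf cE974))) (BT.node 976 (BT.node 975 (BT.leaf cE975) (BT.leaf cE976)) (BT.node 977 (BT.leaf cE977) (BT.leaf cE978)))) (BT.node 983 (BT.node 981 (BT.node 980 (BT.node 979 (BT.leaf cE979) (BT.leaf cE980)) (BT.leaf cE981)) (BT.node 982 (BT.leaf cE982) (BT.leaf cE983))) (BT.node 985 (BT.node 984 (BT.leaf cE984) (BT.leaf cE985)) (BT.node 986 (BT.leaf cE986) (BT.leaf cE987)))))) (BT.node 1005 (BT.node 996 (BT.node 992 (BT.node 990 (BT.node 989 (BT.node 988 (BT.leaf cE988) (BT.leaf cE989)) (BT.leaf cE990)) (BT.node 991 (BT.leaf cE991) (BT.leaf cE992))) (BT.node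 994 (BT.node 993 (BT.leaf cE993) (BT.leaf cE994)) (BT.node 995 (BT.leaf cE995) (BT.leaf cE996)))) (BT.node 1001 (BT.node 999 (BT.node 998 (BT.node 997 (BT.leaf cE997) (BT.leaf cE998)) (BT.leaf cE999)) (BT.node 1000 (BT.leaf cE1000) (BT.leaf cE1001))) (BT.node 1003 (BT.node 1002 (BT.leaf cE1002) (BT.leaf cE1003)) (BT.node 1004 (BT.leaf cE1004) (BT.leaf cE1005))))) (BT.node 1014 (BT.node 1010 (BT.node 1008 (BT.node 1007 (BT.node 1006 (BT.leaf cE1006) (BT.leaf cE1007)) (BT.leaf cE1008)) (BT.node 1009 (BT.leaf cE1009) (BT.leaf cE1010))) (BT.node 1012 (BT.node 1011 (BT.leaf cE1011) (BT.leaf cE1012)) (BT.node 1013 (BT.leaf cE1013) (BT.leaf cE1014)))) (BT.node 1019 (BT.node 1017 (BT.node 1016 (BT.node 1015 (BT.leaf cE1015) (BT.leaf cE1016)) (BT.leaf cE1017)) (BT.node 1018 (BT.leaf cE1018) (BT.leaf cE1019))) (BT.node 1021 (BT.node 1020 (BT.leaf cE1020) (BT.leaf cE1021))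 (BT.node 1022 (BT.leaf cE1022) (BT.leaf cE1023)))))))) (BT.node 1096 (BT.node 1060 (BT.node 1042 (BT.node 1033 (BT.node 1028 (BT.node 1026 (BT.node 1025 (BT.node 1024 (BT.leaf cE1024) (BT.leaf cE1025)) (BT.leaf cE1026)) (BT.node 1027 (BT.leaf cE1027) (BT.leaf cE1028))) (BT.node 1031 (BT.node 1030 (BT.node 1029 (BT.leaf cE1029) (BT.leaf cE1030)) (BT.leaf cE1031)) (BT.node 1032 (BT.leaf cE1032) (BT.leaf cE1033)))) (BT.node 1038 (BT.node 1036 (BT.node 1035 (BT.node 1034 (BT.leaf cE1034) (BT.leaf cE1035)) (BT.leaf cE1036)) (BT.node 1037 (BT.leaf cE1037) (BT.leaf cE1038))) (BT.node 1040 (BT.node 1039 (BT.leaf cE1039) (BT.leaf cE1040)) (BT.node 1041 (BT.leaf cE1041) (BT.leaf cE1042))))) (BT.node 1051 (BT.node 1047 (BT.node 1045 (BT.node 1044 (BT.node 1043 (BT.leaf cE1043) (BT.leaf cE1044)) (BT.leaf cE1045)) (BT.node 1046 (BT.leaf cE1046) (BT.leaf cE1047))) (BT.node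 1049 (BT.node 1048 (BT.leaf cE1048) (BT.leaf cE1049)) (BT.node 1050 (BT.leaf cE1050) (BT.leaf cE1051)))) (BT.node 1056 (BT.node 1054 (BT.node 1053 (BT.node 1052 (BT.leaf cE1052) (BT.leaf cE1053)) (BT.leaf cE1054)) (BT.node 1055 (BT.leaf cE1055) (BT.leaf cE1056))) (BT.node 1058 (BT.node 1057 (BT.leaf cE1057) (BT.leaf cE1058)) (BT.node 1059 (BT.leaf cE1059) (BT.leaf cE1060)))))) (BT.node 1078 (BT.node 1069 (BT.node 1065 (BT.node 1063 (BT.node 1062 (BT.node 1061 (BT.leaf cE1061) (BT.leaf cE1062)) (BT.leaf cE1063)) (BT.node 1064 (BT.leaf cE1064) (BT.leaf cE1065))) (BT.node 1067 (BT.node 1066 (BT.leaf cE1066) (BT.leaf cE1067)) (BT.node 1068 (BT.leaf cE1068) (BT.leaf cE1069)))) (BT.node 1074 (BT.node 1072 (BT.node 1071 (BT.node 1070 (BT.leaf cE1070) (BT.leaf cE1071)) (BT.leaf cE1072)) (BT.node 1073 (BT.leaf cE1073) (BT.leaf cE1074))) (BT.node 1076 (BT.node 1075 (BT.leaf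 cE1075) (BT.leaf cE1076)) (BT.node 1077 (BT.leaf cE1077) (BT.leaf cE1078))))) (BT.node 1087 (BT.node 1083 (BT.node 1081 (BT.node 1080 (BT.node 1079 (BT.leaf cE1079) (BT.leaf cE1080)) (BT.leaf cE1081)) (BT.node 1082 (BT.leaf cE1082) (BT.leaf cE1083))) (BT.node 1085 (BT.node 1084 (BT.leaf cE1084) (BT.leaf cE1085)) (BT.node 1086 (BT.leaf cE1086) (BT.leaf cE1087)))) (BT.node 1092 (BT.node 1090 (BT.node 1089 (BT.node 1088 (BT.leaf cE1088) (BT.leaf cE1089)) (BT.leaf cE1090)) (BT.node 1091 (BT.leaf cE1091) (BT.leaf cE1092))) (BT.node 1094 (BT.node 1093 (BT.leaf cE1093) (BT.leaf cE1094)) (BT.node 1095 (BT.leaf cE1095) (BT.leaf cE1096))))))) (BT.node 1133 (BT.node 1115 (BT.node 1106 (BT.node 1101 (BT.node 1099 (BT.node 1098 (BT.node 1097 (BT.leaf cE1097) (BT.leaf cE1098)) (BT.leaf cE1099)) (BT.node 1100 (BT.leaf cE1100) (BT.leaf cE1101))) (BT.node 1104 (BT.node 1103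 (BT.node 1102 (BT.leaf cE1102) (BT.leaf cE1103)) (BT.leaf cE1104)) (BT.node 1105 (BT.leaf cE1105) (BT.leaf cE1106)))) (BT.node 1111 (BT.node 1109 (BT.node 1108 (BT.node 1107 (BT.leaf cE1107) (BT.leaf cE1108)) (BT.leaf cE1109)) (BT.node 1110 (BT.leaf cE1110) (BT.leaf cE1111))) (BT.node 1113 (BT.node 1112 (BT.leaf cE1112) (BT.leaf cE1113)) (BT.node 1114 (BT.leaf cE1114) (BT.leaf cE1115))))) (BT.node 1124 (BT.node 1120 (BT.node 1118 (BT.node 1117 (BT.node 1116 (BT.leaf cE1116) (BT.leaf cE1117)) (BT.leaf cE1118)) (BT.node 1119 (BT.leaf cE1119) (BT.leaf cE1120))) (BT.node 1122 (BT.node 1121 (BT.leaf cE1121) (BT.leaf cE1122)) (BT.node 1123 (BT.leaf cE1123) (BT.leaf cE1124)))) (BT.node 1129 (BT.node 1127 (BT.node 1126 (BT.node 1125 (BT.leaf cE1125) (BT.leaf cE1126)) (BT.leaf cE1127)) (BT.node 1128 (BT.leaf cE1128) (BT.leaf cE1129))) (BT.node 1131 (BT.node 1130 (BT.leaf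 cE1130) (BT.leaf cE1131)) (BT.node 1132 (BT.leaf cE1132) (BT.leaf cE1133)))))) (BT.node 1151 (BT.node 1142 (BT.node 1138 (BT.node 1136 (BT.node 1135 (BT.node 1134 (BT.leaf cE1134) (BT.leaf cE1135)) (BT.leaf cE1136)) (BT.node 1137 (BT.leaf cE1137) (BT.leaf cE1138))) (BT.node 1140 (BT.node 1139 (BT.leaf cE1139) (BT.leaf cE1140)) (BT.node 1141 (BT.leaf cE1141) (BT.leaf cE1142)))) (BT.node 1147 (BT.node 1145 (BT.node 1144 (BT.node 1143 (BT.leaf cE1143) (BT.leaf cE1144)) (BT.leaf cE1145)) (BT.node 1146 (BT.leaf cE1146) (BT.leaf cE1147))) (BT.node 1149 (BT.node 1148 (BT.leaf cE1148) (BT.leaf cE1149)) (BT.node 1150 (BT.leaf cE1150) (BT.leaf cE1151))))) (BT.node 1160 (BT.node 1156 (BT.node 1154 (BT.node 1153 (BT.node 1152 (BT.leaf cE1152) (BT.leaf cE1153)) (BT.leaf cE1154)) (BT.node 1155 (BT.leaf cE1155) (BT.leaf cE1156))) (BT.node 1158 (BT.node 1157 (BT.leaf cE1157)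 (BT.leaf cE1158)) (BT.node 1159 (BT.leaf cE1159) (BT.leaf cE1160)))) (BT.node 1165 (BT.node 1163 (BT.node 1162 (BT.node 1161 (BT.leaf cE1161) (BT.leaf cE1162)) (BT.leaf cE1163)) (BT.node 1164 (BT.leaf cE1164) (BT.leaf cE1165))) (BT.node 1167 (BT.node 1166 (BT.leaf cE1166) (BT.leaf cE1167)) (BT.node 1168 (BT.leaf cE1168) (BT.leaf cE1169))))))))))) (BT.node 1754 (BT.node 1462 (BT.node 1316 (BT.node 1243 (BT.node 1206 (BT.node 1188 (BT.node 1179 (BT.node 1174 (BT.node 1172 (BT.node 1171 (BT.node 1170 (BT.leaf cE1170) (BT.leaf cE1171)) (BT.leaf cE1172)) (BT.node 1173 (BT.leaf cE1173) (BT.leaf cE1174))) (BT.node 1177 (BT.node 1176 (BT.node 1175 (BT.leaf cE1175) (BT.leaf cE1176)) (BT.leaf cE1177)) (BT.node 1178 (BT.leaf cE1178) (BT.leaf cE1179)))) (BT.node 1184 (BT.node 1182 (BT.node 1181 (BT.node 1180 (BT.leaf cE1180) (BT.leaf cE1181)) (BT.leaf cE1182)) (BT.node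 1183 (BT.leaf cE1183) (BT.leaf cE1184))) (BT.node 1186 (BT.node 1185 (BT.leaf cE1185) (BT.leaf cE1186)) (BT.node 1187 (BT.leaf cE1187) (BT.leaf cE1188))))) (BT.node 1197 (BT.node 1193 (BT.node 1191 (BT.node 1190 (BT.node 1189 (BT.leaf cE1189) (BT.leaf cE1190)) (BT.leaf cE1191)) (BT.node 1192 (BT.leaf cE1192) (BT.leaf cE1193))) (BT.node 1195 (BT.node 1194 (BT.leaf cE1194) (BT.leaf cE1195)) (BT.node 1196 (BT.leaf cE1196) (BT.leaf cE1197)))) (BT.node 1202 (BT.node 1200 (BT.node 1199 (BT.node 1198 (BT.leaf cE1198) (BT.leaf cE1199)) (BT.leaf cE1200)) (BT.node 1201 (BT.leaf cE1201) (BT.leaf cE1202))) (BT.node 1204 (BT.node 1203 (BT.leaf cE1203) (BT.leaf cE1204)) (BT.node 1205 (BT.leaf cE1205) (BT.leaf cE1206)))))) (BT.node 1225 (BT.node 1216 (BT.node 1211 (BT.node 1209 (BT.node 1208 (BT.node 1207 (BT.leaf cE1207) (BT.leaf cE1208)) (BT.leaf cE1209)) (BT.node 1210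 (BT.leaf cE1210) (BT.leaf cE1211))) (BT.node 1214 (BT.node 1213 (BT.node 1212 (BT.leaf cE1212) (BT.leaf cE1213)) (BT.leaf cE1214)) (BT.node 1215 (BT.leaf cE1215) (BT.leaf cE1216)))) (BT.node 1221 (BT.node 1219 (BT.node 1218 (BT.node 1217 (BT.leaf cE1217) (BT.leaf cE1218)) (BT.leaf cE1219)) (BT.node 1220 (BT.leaf cE1220) (BT.leaf cE1221))) (BT.node 1223 (BT.node 1222 (BT.leaf cE1222) (BT.leaf cE1223)) (BT.node 1224 (BT.leaf cE1224) (BT.leaf cE1225))))) (BT.node 1234 (BT.node 1230 (BT.node 1228 (BT.node 1227 (BT.node 1226 (BT.leaf cE1226) (BT.leaf cE1227)) (BT.leaf cE1228)) (BT.node 1229 (BT.leaf cE1229) (BT.leaf cE1230))) (BT.node 1232 (BT.node 1231 (BT.leaf cE1231) (BT.leaf cE1232)) (BT.node 1233 (BT.leaf cE1233) (BT.leaf cE1234)))) (BT.node 1239 (BT.node 1237 (BT.node 1236 (BT.node 1235 (BT.leaf cE1235) (BT.leaf cE1236)) (BT.leaf cE1237)) (BT.node 1238 (BT.leaf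 cE1238) (BT.leaf cE1239))) (BT.node 1241 (BT.node 1240 (BT.leaf cE1240) (BT.leaf cE1241)) (BT.node 1242 (BT.leaf cE1242) (BT.leaf cE1243))))))) (BT.node 1280 (BT.node 1262 (BT.node 1253 (BT.node 1248 (BT.node 1246 (BT.node 1245 (BT.node 1244 (BT.leaf cE1244) (BT.leaf cE1245)) (BT.leaf cE1246)) (BT.node 1247 (BT.leaf cE1247) (BT.leaf cE1248))) (BT.node 1251 (BT.node 1250 (BT.node 1249 (BT.leaf cE1249) (BT.leaf cE1250)) (BT.leaf cE1251)) (BT.node 1252 (BT.leaf cE1252) (BT.leaf cE1253)))) (BT.node 1258 (BT.node 1256 (BT.node 1255 (BT.node 1254 (BT.leaf cE1254) (BT.leaf cE1255)) (BT.leaf cE1256)) (BT.node 1257 (BT.leaf cE1257) (BT.leaf cE1258))) (BT.node 1260 (BT.node 1259 (BT.leaf cE1259) (BT.leaf cE1260)) (BT.node 1261 (BT.leaf cE1261) (BT.leaf cE1262))))) (BT.node 1271 (BT.node 1267 (BT.node 1265 (BT.node 1264 (BT.node 1263 (BT.leaf cE1263) (BT.leaf cE1264))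 (BT.leaf cE1265)) (BT.node 1266 (BT.leaf cE1266) (BT.leaf cE1267))) (BT.node 1269 (BT.node 1268 (BT.leaf cE1268) (BT.leaf cE1269)) (BT.node 1270 (BT.leaf cE1270) (BT.leaf cE1271)))) (BT.node 1276 (BT.node 1274 (BT.node 1273 (BT.node 1272 (BT.leaf cE1272) (BT.leaf cE1273)) (BT.leaf cE1274)) (BT.node 1275 (BT.leaf cE1275) (BT.leaf cE1276))) (BT.node 1278 (BT.node 1277 (BT.leaf cE1277) (BT.leaf cE1278)) (BT.node 1279 (BT.leaf cE1279) (BT.leaf cE1280)))))) (BT.node 1298 (BT.node 1289 (BT.node 1285 (BT.node 1283 (BT.node 1282 (BT.node 1281 (BT.leaf cE1281) (BT.leaf cE1282)) (BT.leaf cE1283)) (BT.node 1284 (BT.leaf cE1284) (BT.leaf cE1285))) (BT.node 1287 (BT.node 1286 (BT.leaf cE1286) (BT.leaf cE1287)) (BT.node 1288 (BT.leaf cE1288) (BT.leaf cE1289)))) (BT.node 1294 (BT.node 1292 (BT.node 1291 (BT.node 1290 (BT.leaf cE1290) (BT.leaf cE1291)) (BT.leaf cE1292)) (BT.node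 1293 (BT.leaf cE1293) (BT.leaf cE1294))) (BT.node 1296 (BT.node 1295 (BT.leaf cE1295) (BT.leaf cE1296)) (BT.node 1297 (BT.leaf cE1297) (BT.leaf cE1298))))) (BT.node 1307 (BT.node 1303 (BT.node 1301 (BT.node 1300 (BT.node 1299 (BT.leaf cE1299) (BT.leaf cE1300)) (BT.leaf cE1301)) (BT.node 1302 (BT.leaf cE1302) (BT.leaf cE1303))) (BT.node 1305 (BT.node 1304 (BT.leaf cE1304) (BT.leaf cE1305)) (BT.node 1306 (BT.leaf cE1306) (BT.leaf cE1307)))) (BT.node 1312 (BT.node 1310 (BT.node 1309 (BT.node 1308 (BT.leaf cE1308) (BT.leaf cE1309)) (BT.leaf cE1310)) (BT.node 1311 (BT.leaf cE1311) (BT.leaf cE1312))) (BT.node 1314 (BT.node 1313 (BT.leaf cE1313) (BT.leaf cE1314)) (BT.node 1315 (BT.leaf cE1315) (BT.leaf cE1316)))))))) (BT.node 1389 (BT.node 1353 (BT.node 1335 (BT.node 1326 (BT.node 1321 (BT.node 1319 (BT.node 1318 (BT.node 1317 (BT.leaf cE1317) (BT.leaf cE1318)) (BT.leaf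 cE1319)) (BT.node 1320 (BT.leaf cE1320) (BT.leaf cE1321))) (BT.node 1324 (BT.node 1323 (BT.node 1322 (BT.leaf cE1322) (BT.leaf cE1323)) (BT.leaf cE1324)) (BT.node 1325 (BT.leaf cE1325) (BT.leaf cE1326)))) (BT.node 1331 (BT.node 1329 (BT.node 1328 (BT.node 1327 (BT.leaf cE1327) (BT.leaf cE1328)) (BT.leaf cE1329)) (BT.node 1330 (BT.leaf cE1330) (BT.leaf cE1331))) (BT.node 1333 (BT.node 1332 (BT.leaf cE1332) (BT.leaf cE1333)) (BT.node 1334 (BT.leaf cE1334) (BT.leaf cE1335))))) (BT.node 1344 (BT.node 1340 (BT.node 1338 (BT.node 1337 (BT.node 1336 (BT.leaf cE1336) (BT.leaf cE1337)) (BT.leaf cE1338)) (BT.node 1339 (BT.leaf cE1339) (BT.leaf cE1340))) (BT.node 1342 (BT.node 1341 (BT.leaf cE1341) (BT.leaf cE1342)) (BT.node 1343 (BT.leaf cE1343) (BT.leaf cE1344)))) (BT.node 1349 (BT.node 1347 (BT.node 1346 (BT.node 1345 (BT.leaf cE1345) (BT.leaf cE1346)) (BT.leaf cE1347))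 (BT.node 1348 (BT.leaf cE1348) (BT.leaf cE1349))) (BT.node 1351 (BT.node 1350 (BT.leaf cE1350) (BT.leaf cE1351)) (BT.node 1352 (BT.leaf cE1352) (BT.leaf cE1353)))))) (BT.node 1371 (BT.node 1362 (BT.node 1358 (BT.node 1356 (BT.node 1355 (BT.node 1354 (BT.leaf cE1354) (BT.leaf cE1355)) (BT.leaf cE1356)) (BT.node 1357 (BT.leaf cE1357) (BT.leaf cE1358))) (BT.node 1360 (BT.node 1359 (BT.leaf cE1359) (BT.leaf cE1360)) (BT.node 1361 (BT.leaf cE1361) (BT.leaf cE1362)))) (BT.node 1367 (BT.node 1365 (BT.node 1364 (BT.node 1363 (BT.leaf cE1363) (BT.leaf cE1364)) (BT.leaf cE1365)) (BT.node 1366 (BT.leaf cE1366) (BT.leaf cE1367))) (BT.node 1369 (BT.node 1368 (BT.leaf cE1368) (BT.leaf cE1369)) (BT.node 1370 (BT.leaf cE1370) (BT.leaf cE1371))))) (BT.node 1380 (BT.node 1376 (BT.node 1374 (BT.node 1373 (BT.node 1372 (BT.leaf cE1372) (BT.leaf cE1373)) (BT.leaf cE1374)) (BT.node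 1375 (BT.leaf cE1375) (BT.leaf cE1376))) (BT.node 1378 (BT.node 1377 (BT.leaf cE1377) (BT.leaf cE1378)) (BT.node 1379 (BT.leaf cE1379) (BT.leaf cE1380)))) (BT.node 1385 (BT.node 1383 (BT.node 1382 (BT.node 1381 (BT.leaf cE1381) (BT.leaf cE1382)) (BT.leaf cE1383)) (BT.node 1384 (BT.leaf cE1384) (BT.leaf cE1385))) (BT.node 1387 (BT.node 1386 (BT.leaf cE1386) (BT.leaf cE1387)) (BT.node 1388 (BT.leaf cE1388) (BT.leaf cE1389))))))) (BT.node 1426 (BT.node 1408 (BT.node 1399 (BT.node 1394 (BT.node 1392 (BT.node 1391 (BT.node 1390 (BT.leaf cE1390) (BT.leaf cE1391)) (BT.leaf cE1392)) (BT.node 1393 (BT.leaf cE1393) (BT.leaf cE1394))) (BT.node 1397 (BT.node 1396 (BT.node 1395 (BT.leaf cE1395) (BT.leaf cE1396)) (BT.leaf cE1397)) (BT.node 1398 (BT.leaf cE1398) (BT.leaf cE1399)))) (BT.node 1404 (BT.node 1402 (BT.node 1401 (BT.node 1400 (BT.leaf cE1400) (BT.leaf cE1401))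 (BT.leaf cE1402)) (BT.node 1403 (BT.leaf cE1403) (BT.leaf cE1404))) (BT.node 1406 (BT.node 1405 (BT.leaf cE1405) (BT.leaf cE1406)) (BT.node 1407 (BT.leaf cE1407) (BT.leaf cE1408))))) (BT.node 1417 (BT.node 1413 (BT.node 1411 (BT.node 1410 (BT.node 1409 (BT.leaf cE1409) (BT.leaf cE1410)) (BT.leaf cE1411)) (BT.node 1412 (BT.leaf cE1412) (BT.leaf cE1413))) (BT.node 1415 (BT.node 1414 (BT.leaf cE1414) (BT.leaf cE1415)) (BT.node 1416 (BT.leaf cE1416) (BT.leaf cE1417)))) (BT.node 1422 (BT.node 1420 (BT.node 1419 (BT.node 1418 (BT.leaf cE1418) (BT.leaf cE1419)) (BT.leaf cE1420)) (BT.node 1421 (BT.leaf cE1421) (BT.leaf cE1422))) (BT.node 1424 (BT.node 1423 (BT.leaf cE1423) (BT.leaf cE1424)) (BT.node 1425 (BT.leaf cE1425) (BT.leaf cE1426)))))) (BT.node 1444 (BT.node 1435 (BT.node 1431 (BT.node 1429 (BT.node 1428 (BT.node 1427 (BT.leaf cE1427) (BT.leaf cE1428)) (BT.leaf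 cE1429)) (BT.node 1430 (BT.leaf cE1430) (BT.leaf cE1431))) (BT.node 1433 (BT.node 1432 (BT.leaf cE1432) (BT.leaf cE1433)) (BT.node 1434 (BT.leaf cE1434) (BT.leaf cE1435)))) (BT.node 1440 (BT.node 1438 (BT.node 1437 (BT.node 1436 (BT.leaf cE1436) (BT.leaf cE1437)) (BT.leaf cE1438)) (BT.node 1439 (BT.leaf cE1439) (BT.leaf cE1440))) (BT.node 1442 (BT.node 1441 (BT.leaf cE1441) (BT.leaf cE1442)) (BT.node 1443 (BT.leaf cE1443) (BT.leaf cE1444))))) (BT.node 1453 (BT.node 1449 (BT.node 1447 (BT.node 1446 (BT.node 1445 (BT.leaf cE1445) (BT.leaf cE1446)) (BT.leaf cE1447)) (BT.node 1448 (BT.leaf cE1448) (BT.leaf cE1449))) (BT.node 1451 (BT.node 1450 (BT.leaf cE1450) (BT.leaf cE1451)) (BT.node 1452 (BT.leaf cE1452) (BT.leaf cE1453)))) (BT.node 1458 (BT.node 1456 (BT.node 1455 (BT.node 1454 (BT.leaf cE1454) (BT.leaf cE1455)) (BT.leaf cE1456)) (BT.node 1457 (BT.leaf cE1457)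 (BT.leaf cE1458))) (BT.node 1460 (BT.node 1459 (BT.leaf cE1459) (BT.leaf cE1460)) (BT.node 1461 (BT.leaf cE1461) (BT.leaf cE1462))))))))) (BT.node 1608 (BT.node 1535 (BT.node 1499 (BT.node 1481 (BT.node 1472 (BT.node 1467 (BT.node 1465 (BT.node 1464 (BT.node 1463 (BT.leaf cE1463) (BT.leaf cE1464)) (BT.leaf cE1465)) (BT.node 1466 (BT.leaf cE1466) (BT.leaf cE1467))) (BT.node 1470 (BT.node 1469 (BT.node 1468 (BT.leaf cE1468) (BT.leaf cE1469)) (BT.leaf cE1470)) (BT.node 1471 (BT.leaf cE1471) (BT.leaf cE1472)))) (BT.node 1477 (BT.node 1475 (BT.node 1474 (BT.node 1473 (BT.leaf cE1473) (BT.leaf cE1474)) (BT.leaf cE1475)) (BT.node 1476 (BT.leaf cE1476) (BT.leaf cE1477))) (BT.node 1479 (BT.node 1478 (BT.leaf cE1478) (BT.leaf cE1479)) (BT.node 1480 (BT.leaf cE1480) (BT.leaf cE1481))))) (BT.node 1490 (BT.node 1486 (BT.node 1484 (BT.node 1483 (BT.node 1482 (BT.leaf cE1482)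 (BT.leaf cE1483)) (BT.leaf cE1484)) (BT.node 1485 (BT.leaf cE1485) (BT.leaf cE1486))) (BT.node 1488 (BT.node 1487 (BT.leaf cE1487) (BT.leaf cE1488)) (BT.node 1489 (BT.leaf cE1489) (BT.leaf cE1490)))) (BT.node 1495 (BT.node 1493 (BT.node 1492 (BT.node 1491 (BT.leaf cE1491) (BT.leaf cE1492)) (BT.leaf cE1493)) (BT.node 1494 (BT.leaf cE1494) (BT.leaf cE1495))) (BT.node 1497 (BT.node 1496 (BT.leaf cE1496) (BT.leaf cE1497)) (BT.node 1498 (BT.leaf cE1498) (BT.leaf cE1499)))))) (BT.node 1517 (BT.node 1508 (BT.node 1504 (BT.node 1502 (BT.node 1501 (BT.node 1500 (BT.leaf cE1500) (BT.leaf cE1501)) (BT.leaf cE1502)) (BT.node 1503 (BT.leaf cE1503) (BT.leaf cE1504))) (BT.node 1506 (BT.node 1505 (BT.leaf cE1505) (BT.leaf cE1506)) (BT.node 1507 (BT.leaf cE1507) (BT.leaf cE1508)))) (BT.node 1513 (BT.node 1511 (BT.node 1510 (BT.node 1509 (BT.leaf cE1509) (BT.leaf cE1510)) (BT.leaf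 cE1511)) (BT.node 1512 (BT.leaf cE1512) (BT.leaf cE1513))) (BT.node 1515 (BT.node 1514 (BT.leaf cE1514) (BT.leaf cE1515)) (BT.node 1516 (BT.leaf cE1516) (BT.leaf cE1517))))) (BT.node 1526 (BT.node 1522 (BT.node 1520 (BT.node 1519 (BT.node 1518 (BT.leaf cE1518) (BT.leaf cE1519)) (BT.leaf cE1520)) (BT.node 1521 (BT.leaf cE1521) (BT.leaf cE1522))) (BT.node 1524 (BT.node 1523 (BT.leaf cE1523) (BT.leaf cE1524)) (BT.node 1525 (BT.leaf cE1525) (BT.leaf cE1526)))) (BT.node 1531 (BT.node 1529 (BT.node 1528 (BT.node 1527 (BT.leaf cE1527) (BT.leaf cE1528)) (BT.leaf cE1529)) (BT.node 1530 (BT.leaf cE1530) (BT.leaf cE1531))) (BT.node 1533 (BT.node 1532 (BT.leaf cE1532) (BT.leaf cE1533)) (BT.node 1534 (BT.leaf cE1534) (BT.leaf cE1535))))))) (BT.node 1572 (BT.node 1554 (BT.node 1545 (BT.node 1540 (BT.node 1538 (BT.node 1537 (BT.node 1536 (BT.leaf cE1536) (BT.leaf cE1537))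 (BT.leaf cE1538)) (BT.node 1539 (BT.leaf cE1539) (BT.leaf cE1540))) (BT.node 1543 (BT.node 1542 (BT.node 1541 (BT.leaf cE1541) (BT.leaf cE1542)) (BT.leaf cE1543)) (BT.node 1544 (BT.leaf cE1544) (BT.leaf cE1545)))) (BT.node 1550 (BT.node 1548 (BT.node 1547 (BT.node 1546 (BT.leaf cE1546) (BT.leaf cE1547)) (BT.leaf cE1548)) (BT.node 1549 (BT.leaf cE1549) (BT.leaf cE1550))) (BT.node 1552 (BT.node 1551 (BT.leaf cE1551) (BT.leaf cE1552)) (BT.node 1553 (BT.leaf cE1553) (BT.leaf cE1554))))) (BT.node 1563 (BT.node 1559 (BT.node 1557 (BT.node 1556 (BT.node 1555 (BT.leaf cE1555) (BT.leaf cE1556)) (BT.leaf cE1557)) (BT.node 1558 (BT.leaf cE1558) (BT.leaf cE1559))) (BT.node 1561 (BT.node 1560 (BT.leaf cE1560) (BT.leaf cE1561)) (BT.node 1562 (BT.leaf cE1562) (BT.leaf cE1563)))) (BT.node 1568 (BT.node 1566 (BT.node 1565 (BT.node 1564 (BT.leaf cE1564) (BT.leaf cE1565)) (BT.leaf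 cE1566)) (BT.node 1567 (BT.leaf cE1567) (BT.leaf cE1568))) (BT.node 1570 (BT.node 1569 (BT.leaf cE1569) (BT.leaf cE1570)) (BT.node 1571 (BT.leaf cE1571) (BT.leaf cE1572)))))) (BT.node 1590 (BT.node 1581 (BT.node 1577 (BT.node 1575 (BT.node 1574 (BT.node 1573 (BT.leaf cE1573) (BT.leaf cE1574)) (BT.leaf cE1575)) (BT.node 1576 (BT.leaf cE1576) (BT.leaf cE1577))) (BT.node 1579 (BT.node 1578 (BT.leaf cE1578) (BT.leaf cE1579)) (BT.node 1580 (BT.leaf cE1580) (BT.leaf cE1581)))) (BT.node 1586 (BT.node 1584 (BT.node 1583 (BT.node 1582 (BT.leaf cE1582) (BT.leaf cE1583)) (BT.leaf cE1584)) (BT.node 1585 (BT.leaf cE1585) (BT.leaf cE1586))) (BT.node 1588 (BT.node 1587 (BT.leaf cE1587) (BT.leaf cE1588)) (BT.node 1589 (BT.leaf cE1589) (BT.leaf cE1590))))) (BT.node 1599 (BT.node 1595 (BT.node 1593 (BT.node 1592 (BT.node 1591 (BT.leaf cE1591) (BT.leaf cE1592)) (BT.leaf cE1593))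 (BT.node 1594 (BT.leaf cE1594) (BT.leaf cE1595))) (BT.node 1597 (BT.node 1596 (BT.leaf cE1596) (BT.leaf cE1597)) (BT.node 1598 (BT.leaf cE1598) (BT.leaf cE1599)))) (BT.node 1604 (BT.node 1602 (BT.node 1601 (BT.node 1600 (BT.leaf cE1600) (BT.leaf cE1601)) (BT.leaf cE1602)) (BT.node 1603 (BT.leaf cE1603) (BT.leaf cE1604))) (BT.node 1606 (BT.node 1605 (BT.leaf cE1605) (BT.leaf cE1606)) (BT.node 1607 (BT.leaf cE1607) (BT.leaf cE1608)))))))) (BT.node 1681 (BT.node 1645 (BT.node 1627 (BT.node 1618 (BT.node 1613 (BT.node 1611 (BT.node 1610 (BT.node 1609 (BT.leaf cE1609) (BT.leaf cE1610)) (BT.leaf cE1611)) (BT.node 1612 (BT.leaf cE1612) (BT.leaf cE1613))) (BT.node 1616 (BT.node 1615 (BT.node 1614 (BT.leaf cE1614) (BT.leaf cE1615)) (BT.leaf cE1616)) (BT.node 1617 (BT.leaf cE1617) (BT.leaf cE1618)))) (BT.node 1623 (BT.node 1621 (BT.node 1620 (BT.node 1619 (BT.leaf cE1619)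 (BT.leaf cE1620)) (BT.leaf cE1621)) (BT.node 1622 (BT.leaf cE1622) (BT.leaf cE1623))) (BT.node 1625 (BT.node 1624 (BT.leaf cE1624) (BT.leaf cE1625)) (BT.node 1626 (BT.leaf cE1626) (BT.leaf cE1627))))) (BT.node 1636 (BT.node 1632 (BT.node 1630 (BT.node 1629 (BT.node 1628 (BT.leaf cE1628) (BT.leaf cE1629)) (BT.leaf cE1630)) (BT.node 1631 (BT.leaf cE1631) (BT.leaf cE1632))) (BT.node 1634 (BT.node 1633 (BT.leaf cE1633) (BT.leaf cE1634)) (BT.node 1635 (BT.leaf cE1635) (BT.leaf cE1636)))) (BT.node 1641 (BT.node 1639 (BT.node 1638 (BT.node 1637 (BT.leaf cE1637) (BT.leaf cE1638)) (BT.leaf cE1639)) (BT.node 1640 (BT.leaf cE1640) (BT.leaf cE1641))) (BT.node 1643 (BT.node 1642 (BT.leaf cE1642) (BT.leaf cE1643)) (BT.node 1644 (BT.leaf cE1644) (BT.leaf cE1645)))))) (BT.node 1663 (BT.node 1654 (BT.node 1650 (BT.node 1648 (BT.node 1647 (BT.node 1646 (BT.leaf cE1646) (BT.leaf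 cE1647)) (BT.leaf cE1648)) (BT.node 1649 (BT.leaf cE1649) (BT.leaf cE1650))) (BT.node 1652 (BT.node 1651 (BT.leaf cE1651) (BT.leaf cE1652)) (BT.node 1653 (BT.leaf cE1653) (BT.leaf cE1654)))) (BT.node 1659 (BT.node 1657 (BT.node 1656 (BT.node 1655 (BT.leaf cE1655) (BT.leaf cE1656)) (BT.leaf cE1657)) (BT.node 1658 (BT.leaf cE1658) (BT.leaf cE1659))) (BT.node 1661 (BT.node 1660 (BT.leaf cE1660) (BT.leaf cE1661)) (BT.node 1662 (BT.leaf cE1662) (BT.leaf cE1663))))) (BT.node 1672 (BT.node 1668 (BT.node 1666 (BT.node 1665 (BT.node 1664 (BT.leaf cE1664) (BT.leaf cE1665)) (BT.leaf cE1666)) (BT.node 1667 (BT.leaf cE1667) (BT.leaf cE1668))) (BT.node 1670 (BT.node 1669 (BT.leaf cE1669) (BT.leaf cE1670)) (BT.node 1671 (BT.leaf cE1671) (BT.leaf cE1672)))) (BT.node 1677 (BT.node 1675 (BT.node 1674 (BT.node 1673 (BT.leaf cE1673) (BT.leaf cE1674)) (BT.leaf cE1675)) (BT.node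 1676 (BT.leaf cE1676) (BT.leaf cE1677))) (BT.node 1679 (BT.node 1678 (BT.leaf cE1678) (BT.leaf cE1679)) (BT.node 1680 (BT.leaf cE1680) (BT.leaf cE1681))))))) (BT.node 1718 (BT.node 1700 (BT.node 1691 (BT.node 1686 (BT.node 1684 (BT.node 1683 (BT.node 1682 (BT.leaf cE1682) (BT.leaf cE1683)) (BT.leaf cE1684)) (BT.node 1685 (BT.leaf cE1685) (BT.leaf cE1686))) (BT.node 1689 (BT.node 1688 (BT.node 1687 (BT.leaf cE1687) (BT.leaf cE1688)) (BT.leaf cE1689)) (BT.node 1690 (BT.leaf cE1690) (BT.leaf cE1691)))) (BT.node 1696 (BT.node 1694 (BT.node 1693 (BT.node 1692 (BT.leaf cE1692) (BT.leaf cE1693)) (BT.leaf cE1694)) (BT.node 1695 (BT.leaf cE1695) (BT.leaf cE1696))) (BT.node 1698 (BT.node 1697 (BT.leaf cE1697) (BT.leaf cE1698)) (BT.node 1699 (BT.leaf cE1699) (BT.leaf cE1700))))) (BT.node 1709 (BT.node 1705 (BT.node 1703 (BT.node 1702 (BT.node 1701 (BT.leaf cE1701) (BT.leaf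 cE1702)) (BT.leaf cE1703)) (BT.node 1704 (BT.leaf cE1704) (BT.leaf cE1705))) (BT.node 1707 (BT.node 1706 (BT.leaf cE1706) (BT.leaf cE1707)) (BT.node 1708 (BT.leaf cE1708) (BT.leaf cE1709)))) (BT.node 1714 (BT.node 1712 (BT.node 1711 (BT.node 1710 (BT.leaf cE1710) (BT.leaf cE1711)) (BT.leaf cE1712)) (BT.node 1713 (BT.leaf cE1713) (BT.leaf cE1714))) (BT.node 1716 (BT.node 1715 (BT.leaf cE1715) (BT.leaf cE1716)) (BT.node 1717 (BT.leaf cE1717) (BT.leaf cE1718)))))) (BT.node 1736 (BT.node 1727 (BT.node 1723 (BT.node 1721 (BT.node 1720 (BT.node 1719 (BT.leaf cE1719) (BT.leaf cE1720)) (BT.leaf cE1721)) (BT.node 1722 (BT.leaf cE1722) (BT.leaf cE1723))) (BT.node 1725 (BT.node 1724 (BT.leaf cE1724) (BT.leaf cE1725)) (BT.node 1726 (BT.leaf cE1726) (BT.leaf cE1727)))) (BT.node 1732 (BT.node 1730 (BT.node 1729 (BT.node 1728 (BT.leaf cE1728) (BT.leaf cE1729)) (BT.leaf cE1730))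 (BT.node 1731 (BT.leaf cE1731) (BT.leaf cE1732))) (BT.node 1734 (BT.node 1733 (BT.leaf cE1733) (BT.leaf cE1734)) (BT.node 1735 (BT.leaf cE1735) (BT.leaf cE1736))))) (BT.node 1745 (BT.node 1741 (BT.node 1739 (BT.node 1738 (BT.node 1737 (BT.leaf cE1737) (BT.leaf cE1738)) (BT.leaf cE1739)) (BT.node 1740 (BT.leaf cE1740) (BT.leaf cE1741))) (BT.node 1743 (BT.node 1742 (BT.leaf cE1742) (BT.leaf cE1743)) (BT.node 1744 (BT.leaf cE1744) (BT.leaf cE1745)))) (BT.node 1750 (BT.node 1748 (BT.node 1747 (BT.node 1746 (BT.leaf cE1746) (BT.leaf cE1747)) (BT.leaf cE1748)) (BT.node 1749 (BT.leaf cE1749) (BT.leaf cE1750))) (BT.node 1752 (BT.node 1751 (BT.leaf cE1751) (BT.leaf cE1752)) (BT.node 1753 (BT.leaf cE1753) (BT.leaf cE1754)))))))))) (BT.node 2047 (BT.node 1901 (BT.node 1828 (BT.node 1791 (BT.node 1773 (BT.node 1764 (BT.node 1759 (BT.node 1757 (BT.node 1756 (BT.node 1755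 (BT.leaf cE1755) (BT.leaf cE1756)) (BT.leaf cE1757)) (BT.node 1758 (BT.leaf cE1758) (BT.leaf cE1759))) (BT.node 1762 (BT.node 1761 (BT.node 1760 (BT.leaf cE1760) (BT.leaf cE1761)) (BT.leaf cE1762)) (BT.node 1763 (BT.leaf cE1763) (BT.leaf cE1764)))) (BT.node 1769 (BT.node 1767 (BT.node 1766 (BT.node 1765 (BT.leaf cE1765) (BT.leaf cE1766)) (BT.leaf cE1767)) (BT.node 1768 (BT.leaf cE1768) (BT.leaf cE1769))) (BT.node 1771 (BT.node 1770 (BT.leaf cE1770) (BT.leaf cE1771)) (BT.node 1772 (BT.leaf cE1772) (BT.leaf cE1773))))) (BT.node 1782 (BT.node 1778 (BT.node 1776 (BT.node 1775 (BT.node 1774 (BT.leaf cE1774) (BT.leaf cE1775)) (BT.leaf cE1776)) (BT.node 1777 (BT.leaf cE1777) (BT.leaf cE1778))) (BT.node 1780 (BT.node 1779 (BT.leaf cE1779) (BT.leaf cE1780)) (BT.node 1781 (BT.leaf cE1781) (BT.leaf cE1782)))) (BT.node 1787 (BT.node 1785 (BT.node 1784 (BT.node 1783 (BT.leaf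 cE1783) (BT.leaf cE1784)) (BT.leaf cE1785)) (BT.node 1786 (BT.leaf cE1786) (BT.leaf cE1787))) (BT.node 1789 (BT.node 1788 (BT.leaf cE1788) (BT.leaf cE1789)) (BT.node 1790 (BT.leaf cE1790) (BT.leaf cE1791)))))) (BT.node 1810 (BT.node 1801 (BT.node 1796 (BT.node 1794 (BT.node 1793 (BT.node 1792 (BT.leaf cE1792) (BT.leaf cE1793)) (BT.leaf cE1794)) (BT.node 1795 (BT.leaf cE1795) (BT.leaf cE1796))) (BT.node 1799 (BT.node 1798 (BT.node 1797 (BT.leaf cE1797) (BT.leaf cE1798)) (BT.leaf cE1799)) (BT.node 1800 (BT.leaf cE1800) (BT.leaf cE1801)))) (BT.node 1806 (BT.node 1804 (BT.node 1803 (BT.node 1802 (BT.leaf cE1802) (BT.leaf cE1803)) (BT.leaf cE1804)) (BT.node 1805 (BT.leaf cE1805) (BT.leaf cE1806))) (BT.node 1808 (BT.node 1807 (BT.leaf cE1807) (BT.leaf cE1808)) (BT.node 1809 (BT.leaf cE1809) (BT.leaf cE1810))))) (BT.node 1819 (BT.node 1815 (BT.node 1813 (BT.node 1812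 (BT.node 1811 (BT.leaf cE1811) (BT.leaf cE1812)) (BT.leaf cE1813)) (BT.node 1814 (BT.leaf cE1814) (BT.leaf cE1815))) (BT.node 1817 (BT.node 1816 (BT.leaf cE1816) (BT.leaf cE1817)) (BT.node 1818 (BT.leaf cE1818) (BT.leaf cE1819)))) (BT.node 1824 (BT.node 1822 (BT.node 1821 (BT.node 1820 (BT.leaf cE1820) (BT.leaf cE1821)) (BT.leaf cE1822)) (BT.node 1823 (BT.leaf cE1823) (BT.leaf cE1824))) (BT.node 1826 (BT.node 1825 (BT.leaf cE1825) (BT.leaf cE1826)) (BT.node 1827 (BT.leaf cE1827) (BT.leaf cE1828))))))) (BT.node 1865 (BT.node 1847 (BT.node 1838 (BT.node 1833 (BT.node 1831 (BT.node 1830 (BT.node 1829 (BT.leaf cE1829) (BT.leaf cE1830)) (BT.leaf cE1831)) (BT.node 1832 (BT.leaf cE1832) (BT.leaf cE1833))) (BT.node 1836 (BT.node 1835 (BT.node 1834 (BT.leaf cE1834) (BT.leaf cE1835)) (BT.leaf cE1836)) (BT.node 1837 (BT.leaf cE1837) (BT.leaf cE1838)))) (BT.node 1843 (BT.node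 1841 (BT.node 1840 (BT.node 1839 (BT.leaf cE1839) (BT.leaf cE1840)) (BT.leaf cE1841)) (BT.node 1842 (BT.leaf cE1842) (BT.leaf cE1843))) (BT.node 1845 (BT.node 1844 (BT.leaf cE1844) (BT.leaf cE1845)) (BT.node 1846 (BT.leaf cE1846) (BT.leaf cE1847))))) (BT.node 1856 (BT.node 1852 (BT.node 1850 (BT.node 1849 (BT.node 1848 (BT.leaf cE1848) (BT.leaf cE1849)) (BT.leaf cE1850)) (BT.node 1851 (BT.leaf cE1851) (BT.leaf cE1852))) (BT.node 1854 (BT.node 1853 (BT.leaf cE1853) (BT.leaf cE1854)) (BT.node 1855 (BT.leaf cE1855) (BT.leaf cE1856)))) (BT.node 1861 (BT.node 1859 (BT.node 1858 (BT.node 1857 (BT.leaf cE1857) (BT.leaf cE1858)) (BT.leaf cE1859)) (BT.node 1860 (BT.leaf cE1860) (BT.leaf cE1861))) (BT.node 1863 (BT.node 1862 (BT.leaf cE1862) (BT.leaf cE1863)) (BT.node 1864 (BT.leaf cE1864) (BT.leaf cE1865)))))) (BT.node 1883 (BT.node 1874 (BT.node 1870 (BT.node 1868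 (BT.node 1867 (BT.node 1866 (BT.leaf cE1866) (BT.leaf cE1867)) (BT.leaf cE1868)) (BT.node 1869 (BT.leaf cE1869) (BT.leaf cE1870))) (BT.node 1872 (BT.node 1871 (BT.leaf cE1871) (BT.leaf cE1872)) (BT.node 1873 (BT.leaf cE1873) (BT.leaf cE1874)))) (BT.node 1879 (BT.node 1877 (BT.node 1876 (BT.node 1875 (BT.leaf cE1875) (BT.leaf cE1876)) (BT.leaf cE1877)) (BT.node 1878 (BT.leaf cE1878) (BT.leaf cE1879))) (BT.node 1881 (BT.node 1880 (BT.leaf cE1880) (BT.leaf cE1881)) (BT.node 1882 (BT.leaf cE1882) (BT.leaf cE1883))))) (BT.node 1892 (BT.node 1888 (BT.node 1886 (BT.node 1885 (BT.node 1884 (BT.leaf cE1884) (BT.leaf cE1885)) (BT.leaf cE1886)) (BT.node 1887 (BT.leaf cE1887) (BT.leaf cE1888))) (BT.node 1890 (BT.node 1889 (BT.leaf cE1889) (BT.leaf cE1890)) (BT.node 1891 (BT.leaf cE1891) (BT.leaf cE1892)))) (BT.node 1897 (BT.node 1895 (BT.node 1894 (BT.node 1893 (BT.leaf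 cE1893) (BT.leaf cE1894)) (BT.leaf cE1895)) (BT.node 1896 (BT.leaf cE1896) (BT.leaf cE1897))) (BT.node 1899 (BT.node 1898 (BT.leaf cE1898) (BT.leaf cE1899)) (BT.node 1900 (BT.leaf cE1900) (BT.leaf cE1901)))))))) (BT.node 1974 (BT.node 1938 (BT.node 1920 (BT.node 1911 (BT.node 1906 (BT.node 1904 (BT.node 1903 (BT.node 1902 (BT.leaf cE1902) (BT.leaf cE1903)) (BT.leaf cE1904)) (BT.node 1905 (BT.leaf cE1905) (BT.leaf cE1906))) (BT.node 1909 (BT.node 1908 (BT.node 1907 (BT.leaf cE1907) (BT.leaf cE1908)) (BT.leaf cE1909)) (BT.node 1910 (BT.leaf cE1910) (BT.leaf cE1911)))) (BT.node 1916 (BT.node 1914 (BT.node 1913 (BT.node 1912 (BT.leaf cE1912) (BT.leaf cE1913)) (BT.leaf cE1914)) (BT.node 1915 (BT.leaf cE1915) (BT.leaf cE1916))) (BT.node 1918 (BT.node 1917 (BT.leaf cE1917) (BT.leaf cE1918)) (BT.node 1919 (BT.leaf cE1919) (BT.leaf cE1920))))) (BT.node 1929 (BT.node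 1925 (BT.node 1923 (BT.node 1922 (BT.node 1921 (BT.leaf cE1921) (BT.leaf cE1922)) (BT.leaf cE1923)) (BT.node 1924 (BT.leaf cE1924) (BT.leaf cE1925))) (BT.node 1927 (BT.node 1926 (BT.leaf cE1926) (BT.leaf cE1927)) (BT.node 1928 (BT.leaf cE1928) (BT.leaf cE1929)))) (BT.node 1934 (BT.node 1932 (BT.node 1931 (BT.node 1930 (BT.leaf cE1930) (BT.leaf cE1931)) (BT.leaf cE1932)) (BT.node 1933 (BT.leaf cE1933) (BT.leaf cE1934))) (BT.node 1936 (BT.node 1935 (BT.leaf cE1935) (BT.leaf cE1936)) (BT.node 1937 (BT.leaf cE1937) (BT.leaf cE1938)))))) (BT.node 1956 (BT.node 1947 (BT.node 1943 (BT.node 1941 (BT.node 1940 (BT.node 1939 (BT.leaf cE1939) (BT.leaf cE1940)) (BT.leaf cE1941)) (BT.node 1942 (BT.leaf cE1942) (BT.leaf cE1943))) (BT.node 1945 (BT.node 1944 (BT.leaf cE1944) (BT.leaf cE1945)) (BT.node 1946 (BT.leaf cE1946) (BT.leaf cE1947)))) (BT.node 1952 (BT.node 1950 (BT.node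 1949 (BT.node 1948 (BT.leaf cE1948) (BT.leaf cE1949)) (BT.leaf cE1950)) (BT.node 1951 (BT.leaf cE1951) (BT.leaf cE1952))) (BT.node 1954 (BT.node 1953 (BT.leaf cE1953) (BT.leaf cE1954)) (BT.node 1955 (BT.leaf cE1955) (BT.leaf cE1956))))) (BT.node 1965 (BT.node 1961 (BT.node 1959 (BT.node 1958 (BT.node 1957 (BT.leaf cE1957) (BT.leaf cE1958)) (BT.leaf cE1959)) (BT.node 1960 (BT.leaf cE1960) (BT.leaf cE1961))) (BT.node 1963 (BT.node 1962 (BT.leaf cE1962) (BT.leaf cE1963)) (BT.node 1964 (BT.leaf cE1964) (BT.leaf cE1965)))) (BT.node 1970 (BT.node 1968 (BT.node 1967 (BT.node 1966 (BT.leaf cE1966) (BT.leaf cE1967)) (BT.leaf cE1968)) (BT.node 1969 (BT.leaf cE1969) (BT.leaf cE1970))) (BT.node 1972 (BT.node 1971 (BT.leaf cE1971) (BT.leaf cE1972)) (BT.node 1973 (BT.leaf cE1973) (BT.leaf cE1974))))))) (BT.node 2011 (BT.node 1993 (BT.node 1984 (BT.node 1979 (BT.node 1977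 (BT.node 1976 (BT.node 1975 (BT.leaf cE1975) (BT.leaf cE1976)) (BT.leaf cE1977)) (BT.node 1978 (BT.leaf cE1978) (BT.leaf cE1979))) (BT.node 1982 (BT.node 1981 (BT.node 1980 (BT.leaf cE1980) (BT.leaf cE1981)) (BT.leaf cE1982)) (BT.node 1983 (BT.leaf cE1983) (BT.leaf cE1984)))) (BT.node 1989 (BT.node 1987 (BT.node 1986 (BT.node 1985 (BT.leaf cE1985) (BT.leaf cE1986)) (BT.leaf cE1987)) (BT.node 1988 (BT.leaf cE1988) (BT.leaf cE1989))) (BT.node 1991 (BT.node 1990 (BT.leaf cE1990) (BT.leaf cE1991)) (BT.node 1992 (BT.leaf cE1992) (BT.leaf cE1993))))) (BT.node 2002 (BT.node 1998 (BT.node 1996 (BT.node 1995 (BT.node 1994 (BT.leaf cE1994) (BT.leaf cE1995)) (BT.leaf cE1996)) (BT.node 1997 (BT.leaf cE1997) (BT.leaf cE1998))) (BT.node 2000 (BT.node 1999 (BT.leaf cE1999) (BT.leaf cE2000)) (BT.node 2001 (BT.leaf cE2001) (BT.leaf cE2002)))) (BT.node 2007 (BT.node 2005 (BT.node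 2004 (BT.node 2003 (BT.leaf cE2003) (BT.leaf cE2004)) (BT.leaf cE2005)) (BT.node 2006 (BT.leaf cE2006) (BT.leaf cE2007))) (BT.node 2009 (BT.node 2008 (BT.leaf cE2008) (BT.leaf cE2009)) (BT.node 2010 (BT.leaf cE2010) (BT.leaf cE2011)))))) (BT.node 2029 (BT.node 2020 (BT.node 2016 (BT.node 2014 (BT.node 2013 (BT.node 2012 (BT.leaf cE2012) (BT.leaf cE2013)) (BT.leaf cE2014)) (BT.node 2015 (BT.leaf cE2015) (BT.leaf cE2016))) (BT.node 2018 (BT.node 2017 (BT.leaf cE2017) (BT.leaf cE2018)) (BT.node 2019 (BT.leaf cE2019) (BT.leaf cE2020)))) (BT.node 2025 (BT.node 2023 (BT.node 2022 (BT.node 2021 (BT.leaf cE2021) (BT.leaf cE2022)) (BT.leaf cE2023)) (BT.node 2024 (BT.leaf cE2024) (BT.leaf cE2025))) (BT.node 2027 (BT.node 2026 (BT.leaf cE2026) (BT.leaf cE2027)) (BT.node 2028 (BT.leaf cE2028) (BT.leaf cE2029))))) (BT.node 2038 (BT.node 2034 (BT.node 2032 (BT.node 2031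 (BT.node 2030 (BT.leaf cE2030) (BT.leaf cE2031)) (BT.leaf cE2032)) (BT.node 2033 (BT.leaf cE2033) (BT.leaf cE2034))) (BT.node 2036 (BT.node 2035 (BT.leaf cE2035) (BT.leaf cE2036)) (BT.node 2037 (BT.leaf cE2037) (BT.leaf cE2038)))) (BT.node 2043 (BT.node 2041 (BT.node 2040 (BT.node 2039 (BT.leaf cE2039) (BT.leaf cE2040)) (BT.leaf cE2041)) (BT.node 2042 (BT.leaf cE2042) (BT.leaf cE2043))) (BT.node 2045 (BT.node 2044 (BT.leaf cE2044) (BT.leaf cE2045)) (BT.node 2046 (BT.leaf cE2046) (BT.leaf cE2047))))))))) (BT.node 2193 (BT.node 2120 (BT.node 2084 (BT.node 2066 (BT.node 2057 (BT.node 2052 (BT.node 2050 (BT.node 2049 (BT.node 2048 (BT.leaf cE2048) (BT.leaf cE2049)) (BT.leaf cE2050)) (BT.node 2051 (BT.leaf cE2051) (BT.leaf cE2052))) (BT.node 2055 (BT.node 2054 (BT.node 2053 (BT.leaf cE2053) (BT.leaf cE2054)) (BT.leaf cE2055)) (BT.node 2056 (BT.leaf cE2056) (BT.leaf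 cE2057)))) (BT.node 2062 (BT.node 2060 (BT.node 2059 (BT.node 2058 (BT.leaf cE2058) (BT.leaf cE2059)) (BT.leaf cE2060)) (BT.node 2061 (BT.leaf cE2061) (BT.leaf cE2062))) (BT.node 2064 (BT.node 2063 (BT.leaf cE2063) (BT.leaf cE2064)) (BT.node 2065 (BT.leaf cE2065) (BT.leaf cE2066))))) (BT.node 2075 (BT.node 2071 (BT.node 2069 (BT.node 2068 (BT.node 2067 (BT.leaf cE2067) (BT.leaf cE2068)) (BT.leaf cE2069)) (BT.node 2070 (BT.leaf cE2070) (BT.leaf cE2071))) (BT.node 2073 (BT.node 2072 (BT.leaf cE2072) (BT.leaf cE2073)) (BT.node 2074 (BT.leaf cE2074) (BT.leaf cE2075)))) (BT.node 2080 (BT.node 2078 (BT.node 2077 (BT.node 2076 (BT.leaf cE2076) (BT.leaf cE2077)) (BT.leaf cE2078)) (BT.node 2079 (BT.leaf cE2079) (BT.leaf cE2080))) (BT.node 2082 (BT.node 2081 (BT.leaf cE2081) (BT.leaf cE2082)) (BT.node 2083 (BT.leaf cE2083) (BT.leaf cE2084)))))) (BT.node 2102 (BT.node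 2093 (BT.node 2089 (BT.node 2087 (BT.node 2086 (BT.node 2085 (BT.leaf cE2085) (BT.leaf cE2086)) (BT.leaf cE2087)) (BT.node 2088 (BT.leaf cE2088) (BT.leaf cE2089))) (BT.node 2091 (BT.node 2090 (BT.leaf cE2090) (BT.leaf cE2091)) (BT.node 2092 (BT.leaf cE2092) (BT.leaf cE2093)))) (BT.node 2098 (BT.node 2096 (BT.node 2095 (BT.node 2094 (BT.leaf cE2094) (BT.leaf cE2095)) (BT.leaf cE2096)) (BT.node 2097 (BT.leaf cE2097) (BT.leaf cE2098))) (BT.node 2100 (BT.node 2099 (BT.leaf cE2099) (BT.leaf cE2100)) (BT.node 2101 (BT.leaf cE2101) (BT.leaf cE2102))))) (BT.node 2111 (BT.node 2107 (BT.node 2105 (BT.node 2104 (BT.node 2103 (BT.leaf cE2103) (BT.leaf cE2104)) (BT.leaf cE2105)) (BT.node 2106 (BT.leaf cE2106) (BT.leaf cE2107))) (BT.node 2109 (BT.node 2108 (BT.leaf cE2108) (BT.leaf cE2109)) (BT.node 2110 (BT.leaf cE2110) (BT.leaf cE2111)))) (BT.node 2116 (BT.node 2114 (BT.node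 2113 (BT.node 2112 (BT.leaf cE2112) (BT.leaf cE2113)) (BT.leaf cE2114)) (BT.node 2115 (BT.leaf cE2115) (BT.leaf cE2116))) (BT.node 2118 (BT.node 2117 (BT.leaf cE2117) (BT.leaf cE2118)) (BT.node 2119 (BT.leaf cE2119) (BT.leaf cE2120))))))) (BT.node 2157 (BT.node 2139 (BT.node 2130 (BT.node 2125 (BT.node 2123 (BT.node 2122 (BT.node 2121 (BT.leaf cE2121) (BT.leaf cE2122)) (BT.leaf cE2123)) (BT.node 2124 (BT.leaf cE2124) (BT.leaf cE2125))) (BT.node 2128 (BT.node 2127 (BT.node 2126 (BT.leaf cE2126) (BT.leaf cE2127)) (BT.leaf cE2128)) (BT.node 2129 (BT.leaf cE2129) (BT.leaf cE2130)))) (BT.node 2135 (BT.node 2133 (BT.node 2132 (BT.node 2131 (BT.leaf cE2131) (BT.leaf cE2132)) (BT.leaf cE2133)) (BT.node 2134 (BT.leaf cE2134) (BT.leaf cE2135))) (BT.node 2137 (BT.node 2136 (BT.leaf cE2136) (BT.leaf cE2137)) (BT.node 2138 (BT.leaf cE2138) (BT.leaf cE2139))))) (BT.node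 2148 (BT.node 2144 (BT.node 2142 (BT.node 2141 (BT.node 2140 (BT.leaf cE2140) (BT.leaf cE2141)) (BT.leaf cE2142)) (BT.node 2143 (BT.leaf cE2143) (BT.leaf cE2144))) (BT.node 2146 (BT.node 2145 (BT.leaf cE2145) (BT.leaf cE2146)) (BT.node 2147 (BT.leaf cE2147) (BT.leaf cE2148)))) (BT.node 2153 (BT.node 2151 (BT.node 2150 (BT.node 2149 (BT.leaf cE2149) (BT.leaf cE2150)) (BT.leaf cE2151)) (BT.node 2152 (BT.leaf cE2152) (BT.leaf cE2153))) (BT.node 2155 (BT.node 2154 (BT.leaf cE2154) (BT.leaf cE2155)) (BT.node 2156 (BT.leaf cE2156) (BT.leaf cE2157)))))) (BT.node 2175 (BT.node 2166 (BT.node 2162 (BT.node 2160 (BT.node 2159 (BT.node 2158 (BT.leaf cE2158) (BT.leaf cE2159)) (BT.leaf cE2160)) (BT.node 2161 (BT.leaf cE2161) (BT.leaf cE2162))) (BT.node 2164 (BT.node 2163 (BT.leaf cE2163) (BT.leaf cE2164)) (BT.node 2165 (BT.leaf cE2165) (BT.leaf cE2166)))) (BT.node 2171 (BT.node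 2169 (BT.node 2168 (BT.node 2167 (BT.leaf cE2167) (BT.leaf cE2168)) (BT.leaf cE2169)) (BT.node 2170 (BT.leaf cE2170) (BT.leaf cE2171))) (BT.node 2173 (BT.node 2172 (BT.leaf cE2172) (BT.leaf cE2173)) (BT.node 2174 (BT.leaf cE2174) (BT.leaf cE2175))))) (BT.node 2184 (BT.node 2180 (BT.node 2178 (BT.node 2177 (BT.node 2176 (BT.leaf cE2176) (BT.leaf cE2177)) (BT.leaf cE2178)) (BT.node 2179 (BT.leaf cE2179) (BT.leaf cE2180))) (BT.node 2182 (BT.node 2181 (BT.leaf cE2181) (BT.leaf cE2182)) (BT.node 2183 (BT.leaf cE2183) (BT.leaf cE2184)))) (BT.node 2189 (BT.node 2187 (BT.node 2186 (BT.node 2185 (BT.leaf cE2185) (BT.leaf cE2186)) (BT.leaf cE2187)) (BT.node 2188 (BT.leaf cE2188) (BT.leaf cE2189))) (BT.node 2191 (BT.node 2190 (BT.leaf cE2190) (BT.leaf cE2191)) (BT.node 2192 (BT.leaf cE2192) (BT.leaf cE2193)))))))) (BT.node 2266 (BT.node 2230 (BT.node 2212 (BT.node 2203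 (BT.node 2198 (BT.node 2196 (BT.node 2195 (BT.node 2194 (BT.leaf cE2194) (BT.leaf cE2195)) (BT.leaf cE2196)) (BT.node 2197 (BT.leaf cE2197) (BT.leaf cE2198))) (BT.node 2201 (BT.node 2200 (BT.node 2199 (BT.leaf cE2199) (BT.leaf cE2200)) (BT.leaf cE2201)) (BT.node 2202 (BT.leaf cE2202) (BT.leaf cE2203)))) (BT.node 2208 (BT.node 2206 (BT.node 2205 (BT.node 2204 (BT.leaf cE2204) (BT.leaf cE2205)) (BT.leaf cE2206)) (BT.node 2207 (BT.leaf cE2207) (BT.leaf cE2208))) (BT.node 2210 (BT.node 2209 (BT.leaf cE2209) (BT.leaf cE2210)) (BT.node 2211 (BT.leaf cE2211) (BT.leaf cE2212))))) (BT.node 2221 (BT.node 2217 (BT.node 2215 (BT.node 2214 (BT.node 2213 (BT.leaf cE2213) (BT.leaf cE2214)) (BT.leaf cE2215)) (BT.node 2216 (BT.leaf cE2216) (BT.leaf cE2217))) (BT.node 2219 (BT.node 2218 (BT.leaf cE2218) (BT.leaf cE2219)) (BT.node 2220 (BT.leaf cE2220) (BT.leaf cE2221)))) (BT.node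 2226 (BT.node 2224 (BT.node 2223 (BT.node 2222 (BT.leaf cE2222) (BT.leaf cE2223)) (BT.leaf cE2224)) (BT.node 2225 (BT.leaf cE2225) (BT.leaf cE2226))) (BT.node 2228 (BT.node 2227 (BT.leaf cE2227) (BT.leaf cE2228)) (BT.node 2229 (BT.leaf cE2229) (BT.leaf cE2230)))))) (BT.node 2248 (BT.node 2239 (BT.node 2235 (BT.node 2233 (BT.node 2232 (BT.node 2231 (BT.leaf cE2231) (BT.leaf cE2232)) (BT.leaf cE2233)) (BT.node 2234 (BT.leaf cE2234) (BT.leaf cE2235))) (BT.node 2237 (BT.node 2236 (BT.leaf cE2236) (BT.leaf cE2237)) (BT.node 2238 (BT.leaf cE2238) (BT.leaf cE2239)))) (BT.node 2244 (BT.node 2242 (BT.node 2241 (BT.node 2240 (BT.leaf cE2240) (BT.leaf cE2241)) (BT.leaf cE2242)) (BT.node 2243 (BT.leaf cE2243) (BT.leaf cE2244))) (BT.node 2246 (BT.node 2245 (BT.leaf cE2245) (BT.leaf cE2246)) (BT.node 2247 (BT.leaf cE2247) (BT.leaf cE2248))))) (BT.node 2257 (BT.node 2253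 (BT.node 2251 (BT.node 2250 (BT.node 2249 (BT.leaf cE2249) (BT.leaf cE2250)) (BT.leaf cE2251)) (BT.node 2252 (BT.leaf cE2252) (BT.leaf cE2253))) (BT.node 2255 (BT.node 2254 (BT.leaf cE2254) (BT.leaf cE2255)) (BT.node 2256 (BT.leaf cE2256) (BT.leaf cE2257)))) (BT.node 2262 (BT.node 2260 (BT.node 2259 (BT.node 2258 (BT.leaf cE2258) (BT.leaf cE2259)) (BT.leaf cE2260)) (BT.node 2261 (BT.leaf cE2261) (BT.leaf cE2262))) (BT.node 2264 (BT.node 2263 (BT.leaf cE2263) (BT.leaf cE2264)) (BT.node 2265 (BT.leaf cE2265) (BT.leaf cE2266))))))) (BT.node 2303 (BT.node 2285 (BT.node 2276 (BT.node 2271 (BT.node 2269 (BT.node 2268 (BT.node 2267 (BT.leaf cE2267) (BT.leaf cE2268)) (BT.leaf cE2269)) (BT.node 2270 (BT.leaf cE2270) (BT.leaf cE2271))) (BT.node 2274 (BT.node 2273 (BT.node 2272 (BT.leaf cE2272) (BT.leaf cE2273)) (BT.leaf cE2274)) (BT.node 2275 (BT.leaf cE2275) (BT.leaf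 cE2276)))) (BT.node 2281 (BT.node 2279 (BT.node 2278 (BT.node 2277 (BT.leaf cE2277) (BT.leaf cE2278)) (BT.leaf cE2279)) (BT.node 2280 (BT.leaf cE2280) (BT.leaf cE2281))) (BT.node 2283 (BT.node 2282 (BT.leaf cE2282) (BT.leaf cE2283)) (BT.node 2284 (BT.leaf cE2284) (BT.leaf cE2285))))) (BT.node 2294 (BT.node 2290 (BT.node 2288 (BT.node 2287 (BT.node 2286 (BT.leaf cE2286) (BT.leaf cE2287)) (BT.leaf cE2288)) (BT.node 2289 (BT.leaf cE2289) (BT.leaf cE2290))) (BT.node 2292 (BT.node 2291 (BT.leaf cE2291) (BT.leaf cE2292)) (BT.node 2293 (BT.leaf cE2293) (BT.leaf cE2294)))) (BT.node 2299 (BT.node 2297 (BT.node 2296 (BT.node 2295 (BT.leaf cE2295) (BT.leaf cE2296)) (BT.leaf cE2297)) (BT.node 2298 (BT.leaf cE2298) (BT.leaf cE2299))) (BT.node 2301 (BT.node 2300 (BT.leaf cE2300) (BT.leaf cE2301)) (BT.node 2302 (BT.leaf cE2302) (BT.leaf cE2303)))))) (BT.node 2321 (BT.node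 2312 (BT.node 2308 (BT.node 2306 (BT.node 2305 (BT.node 2304 (BT.leaf cE2304) (BT.leaf cE2305)) (BT.leaf cE2306)) (BT.node 2307 (BT.leaf cE2307) (BT.leaf cE2308))) (BT.node 2310 (BT.node 2309 (BT.leaf cE2309) (BT.leaf cE2310)) (BT.node 2311 (BT.leaf cE2311) (BT.leaf cE2312)))) (BT.node 2317 (BT.node 2315 (BT.node 2314 (BT.node 2313 (BT.leaf cE2313) (BT.leaf cE2314)) (BT.leaf cE2315)) (BT.node 2316 (BT.leaf cE2316) (BT.leaf cE2317))) (BT.node 2319 (BT.node 2318 (BT.leaf cE2318) (BT.leaf cE2319)) (BT.node 2320 (BT.leaf cE2320) (BT.leaf cE2321))))) (BT.node 2330 (BT.node 2326 (BT.node 2324 (BT.node 2323 (BT.node 2322 (BT.leaf cE2322) (BT.leaf cE2323)) (BT.leaf cE2324)) (BT.node 2325 (BT.leaf cE2325) (BT.leaf cE2326))) (BT.node 2328 (BT.node 2327 (BT.leaf cE2327) (BT.leaf cE2328)) (BT.node 2329 (BT.leaf cE2329) (BT.leaf cE2330)))) (BT.node 2335 (BT.node 2333 (BT.node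 2332 (BT.node 2331 (BT.leaf cE2331) (BT.leaf cE2332)) (BT.leaf cE2333)) (BT.node 2334 (BT.leaf cE2334) (BT.leaf cE2335))) (BT.node 2337 (BT.node 2336 (BT.leaf cE2336) (BT.leaf cE2337)) (BT.node 2338 (BT.leaf cE2338) (BT.leaf cE2339))))))))))))
/-- justification chunks -/
def colJT : BT ℕ := (BT.node 1169 (BT.node 584 (BT.node 292 (BT.node 146 (BT.node 73 (BT.node 36 (BT.node 18 (BT.node 9 (BT.node 4 (BT.node 2 (BT.node 1 (BT.node 0 (BT.leaf cJ0) (BT.leaf cJ1)) (BT.leaf cJ2)) (BT.node 3 (BT.leaf cJ3) (BT.leaf cJ4))) (BT.node 7 (BT.node 6 (BT.node 5 (BT.leaf cJ5) (BT.leaf cJ6)) (BT.leaf cJ7)) (BT.node 8 (BT.leaf cJ8) (BT.leaf cJ9)))) (BT.node 14 (BT.node 12 (BT.node 11 (BT.node 10 (BT.leaf cJ10) (BT.leaf cJ11)) (BT.leaf cJ12)) (BT.node 13 (BT.leaf cJ13) (BT.leaf cJ14))) (BT.node 16 (BT.node 15 (BT.leaf cJ15) (BT.leaf cJ16)) (BT.node 17 (BT.leaf cJ17) (BT.leaf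 cJ18))))) (BT.node 27 (BT.node 23 (BT.node 21 (BT.node 20 (BT.node 19 (BT.leaf cJ19) (BT.leaf cJ20)) (BT.leaf cJ21)) (BT.node 22 (BT.leaf cJ22) (BT.leaf cJ23))) (BT.node 25 (BT.node 24 (BT.leaf cJ24) (BT.leaf cJ25)) (BT.node 26 (BT.leaf cJ26) (BT.leaf cJ27)))) (BT.node 32 (BT.node 30 (BT.node 29 (BT.node 28 (BT.leaf cJ28) (BT.leaf cJ29)) (BT.leaf cJ30)) (BT.node 31 (BT.leaf cJ31) (BT.leaf cJ32))) (BT.node 34 (BT.node 33 (BT.leaf cJ33) (BT.leaf cJ34)) (BT.node 35 (BT.leaf cJ35) (BT.leaf cJ36)))))) (BT.node 55 (BT.node 46 (BT.node 41 (BT.node 39 (BT.node 38 (BT.node 37 (BT.leaf cJ37) (BT.leaf cJ38)) (BT.leaf cJ39)) (BT.node 40 (BT.leaf cJ40) (BT.leaf cJ41))) (BT.node 44 (BT.node 43 (BT.node 42 (BT.leaf cJ42) (BT.leaf cJ43)) (BT.leaf cJ44)) (BT.node 45 (BT.leaf cJ45) (BT.leaf cJ46)))) (BT.node 51 (BT.node 49 (BT.node 48 (BT.node 47 (BT.leaf cJ47) (BT.leaf cJ48))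 (BT.leaf cJ49)) (BT.node 50 (BT.leaf cJ50) (BT.leaf cJ51))) (BT.node 53 (BT.node 52 (BT.leaf cJ52) (BT.leaf cJ53)) (BT.node 54 (BT.leaf cJ54) (BT.leaf cJ55))))) (BT.node 64 (BT.node 60 (BT.node 58 (BT.node 57 (BT.node 56 (BT.leaf cJ56) (BT.leaf cJ57)) (BT.leaf cJ58)) (BT.node 59 (BT.leaf cJ59) (BT.leaf cJ60))) (BT.node 62 (BT.node 61 (BT.leaf cJ61) (BT.leaf cJ62)) (BT.node 63 (BT.leaf cJ63) (BT.leaf cJ64)))) (BT.node 69 (BT.node 67 (BT.node 66 (BT.node 65 (BT.leaf cJ65) (BT.leaf cJ66)) (BT.leaf cJ67)) (BT.node 68 (BT.leaf cJ68) (BT.leaf cJ69))) (BT.node 71 (BT.node 70 (BT.leaf cJ70) (BT.leaf cJ71)) (BT.node 72 (BT.leaf cJ72) (BT.leaf cJ73))))))) (BT.node 110 (BT.node 92 (BT.node 83 (BT.node 78 (BT.node 76 (BT.node 75 (BT.node 74 (BT.leaf cJ74) (BT.leaf cJ75)) (BT.leaf cJ76)) (BT.node 77 (BT.leaf cJ77) (BT.leaf cJ78))) (BT.node 81 (BT.node 80 (BT.node 79 (BT.leaf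 cJ79) (BT.leaf cJ80)) (BT.leaf cJ81)) (BT.node 82 (BT.leaf cJ82) (BT.leaf cJ83)))) (BT.node 88 (BT.node 86 (BT.node 85 (BT.node 84 (BT.leaf cJ84) (BT.leaf cJ85)) (BT.leaf cJ86)) (BT.node 87 (BT.leaf cJ87) (BT.leaf cJ88))) (BT.node 90 (BT.node 89 (BT.leaf cJ89) (BT.leaf cJ90)) (BT.node 91 (BT.leaf cJ91) (BT.leaf cJ92))))) (BT.node 101 (BT.node 97 (BT.node 95 (BT.node 94 (BT.node 93 (BT.leaf cJ93) (BT.leaf cJ94)) (BT.leaf cJ95)) (BT.node 96 (BT.leaf cJ96) (BT.leaf cJ97))) (BT.node 99 (BT.node 98 (BT.leaf cJ98) (BT.leaf cJ99)) (BT.node 100 (BT.leaf cJ100) (BT.leaf cJ101)))) (BT.node 106 (BT.node 104 (BT.node 103 (BT.node 102 (BT.leaf cJ102) (BT.leaf cJ103)) (BT.leaf cJ104)) (BT.node 105 (BT.leaf cJ105) (BT.leaf cJ106))) (BT.node 108 (BT.node 107 (BT.leaf cJ107) (BT.leaf cJ108)) (BT.node 109 (BT.leaf cJ109) (BT.leaf cJ110)))))) (BT.node 128 (BT.node 119 (BT.node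 115 (BT.node 113 (BT.node 112 (BT.node 111 (BT.leaf cJ111) (BT.leaf cJ112)) (BT.leaf cJ113)) (BT.node 114 (BT.leaf cJ114) (BT.leaf cJ115))) (BT.node 117 (BT.node 116 (BT.leaf cJ116) (BT.leaf cJ117)) (BT.node 118 (BT.leaf cJ118) (BT.leaf cJ119)))) (BT.node 124 (BT.node 122 (BT.node 121 (BT.node 120 (BT.leaf cJ120) (BT.leaf cJ121)) (BT.leaf cJ122)) (BT.node 123 (BT.leaf cJ123) (BT.leaf cJ124))) (BT.node 126 (BT.node 125 (BT.leaf cJ125) (BT.leaf cJ126)) (BT.node 127 (BT.leaf cJ127) (BT.leaf cJ128))))) (BT.node 137 (BT.node 133 (BT.node 131 (BT.node 130 (BT.node 129 (BT.leaf cJ129) (BT.leaf cJ130)) (BT.leaf cJ131)) (BT.node 132 (BT.leaf cJ132) (BT.leaf cJ133))) (BT.node 135 (BT.node 134 (BT.leaf cJ134) (BT.leaf cJ135)) (BT.node 136 (BT.leaf cJ136) (BT.leaf cJ137)))) (BT.node 142 (BT.node 140 (BT.node 139 (BT.node 138 (BT.leaf cJ138) (BT.leaf cJ139)) (BT.leaf cJ140))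 (BT.node 141 (BT.leaf cJ141) (BT.leaf cJ142))) (BT.node 144 (BT.node 143 (BT.leaf cJ143) (BT.leaf cJ144)) (BT.node 145 (BT.leaf cJ145) (BT.leaf cJ146)))))))) (BT.node 219 (BT.node 183 (BT.node 165 (BT.node 156 (BT.node 151 (BT.node 149 (BT.node 148 (BT.node 147 (BT.leaf cJ147) (BT.leaf cJ148)) (BT.leaf cJ149)) (BT.node 150 (BT.leaf cJ150) (BT.leaf cJ151))) (BT.node 154 (BT.node 153 (BT.node 152 (BT.leaf cJ152) (BT.leaf cJ153)) (BT.leaf cJ154)) (BT.node 155 (BT.leaf cJ155) (BT.leaf cJ156)))) (BT.node 161 (BT.node 159 (BT.node 158 (BT.node 157 (BT.leaf cJ157) (BT.leaf cJ158)) (BT.leaf cJ159)) (BT.node 160 (BT.leaf cJ160) (BT.leaf cJ161))) (BT.node 163 (BT.node 162 (BT.leaf cJ162) (BT.leaf cJ163)) (BT.node 164 (BT.leaf cJ164) (BT.leaf cJ165))))) (BT.node 174 (BT.node 170 (BT.node 168 (BT.node 167 (BT.node 166 (BT.leaf cJ166) (BT.leaf cJ167)) (BT.leaf cJ168)) (BT.node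 169 (BT.leaf cJ169) (BT.leaf cJ170))) (BT.node 172 (BT.node 171 (BT.leaf cJ171) (BT.leaf cJ172)) (BT.node 173 (BT.leaf cJ173) (BT.leaf cJ174)))) (BT.node 179 (BT.node 177 (BT.node 176 (BT.node 175 (BT.leaf cJ175) (BT.leaf cJ176)) (BT.leaf cJ177)) (BT.node 178 (BT.leaf cJ178) (BT.leaf cJ179))) (BT.node 181 (BT.node 180 (BT.leaf cJ180) (BT.leaf cJ181)) (BT.node 182 (BT.leaf cJ182) (BT.leaf cJ183)))))) (BT.node 201 (BT.node 192 (BT.node 188 (BT.node 186 (BT.node 185 (BT.node 184 (BT.leaf cJ184) (BT.leaf cJ185)) (BT.leaf cJ186)) (BT.node 187 (BT.leaf cJ187) (BT.leaf cJ188))) (BT.node 190 (BT.node 189 (BT.leaf cJ189) (BT.leaf cJ190)) (BT.node 191 (BT.leaf cJ191) (BT.leaf cJ192)))) (BT.node 197 (BT.node 195 (BT.node 194 (BT.node 193 (BT.leaf cJ193) (BT.leaf cJ194)) (BT.leaf cJ195)) (BT.node 196 (BT.leaf cJ196) (BT.leaf cJ197))) (BT.node 199 (BT.node 198 (BT.leaf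 cJ198) (BT.leaf cJ199)) (BT.node 200 (BT.leaf cJ200) (BT.leaf cJ201))))) (BT.node 210 (BT.node 206 (BT.node 204 (BT.node 203 (BT.node 202 (BT.leaf cJ202) (BT.leaf cJ203)) (BT.leaf cJ204)) (BT.node 205 (BT.leaf cJ205) (BT.leaf cJ206))) (BT.node 208 (BT.node 207 (BT.leaf cJ207) (BT.leaf cJ208)) (BT.node 209 (BT.leaf cJ209) (BT.leaf cJ210)))) (BT.node 215 (BT.node 213 (BT.node 212 (BT.node 211 (BT.leaf cJ211) (BT.leaf cJ212)) (BT.leaf cJ213)) (BT.node 214 (BT.leaf cJ214) (BT.leaf cJ215))) (BT.node 217 (BT.node 216 (BT.leaf cJ216) (BT.leaf cJ217)) (BT.node 218 (BT.leaf cJ218) (BT.leaf cJ219))))))) (BT.node 256 (BT.node 238 (BT.node 229 (BT.node 224 (BT.node 222 (BT.node 221 (BT.node 220 (BT.leaf cJ220) (BT.leaf cJ221)) (BT.leaf cJ222)) (BT.node 223 (BT.leaf cJ223) (BT.leaf cJ224))) (BT.node 227 (BT.node 226 (BT.node 225 (BT.leaf cJ225) (BT.leaf cJ226)) (BT.leaf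 cJ227)) (BT.node 228 (BT.leaf cJ228) (BT.leaf cJ229)))) (BT.node 234 (BT.node 232 (BT.node 231 (BT.node 230 (BT.leaf cJ230) (BT.leaf cJ231)) (BT.leaf cJ232)) (BT.node 233 (BT.leaf cJ233) (BT.leaf cJ234))) (BT.node 236 (BT.node 235 (BT.leaf cJ235) (BT.leaf cJ236)) (BT.node 237 (BT.leaf cJ237) (BT.leaf cJ238))))) (BT.node 247 (BT.node 243 (BT.node 241 (BT.node 240 (BT.node 239 (BT.leaf cJ239) (BT.leaf cJ240)) (BT.leaf cJ241)) (BT.node 242 (BT.leaf cJ242) (BT.leaf cJ243))) (BT.node 245 (BT.node 244 (BT.leaf cJ244) (BT.leaf cJ245)) (BT.node 246 (BT.leaf cJ246) (BT.leaf cJ247)))) (BT.node 252 (BT.node 250 (BT.node 249 (BT.node 248 (BT.leaf cJ248) (BT.leaf cJ249)) (BT.leaf cJ250)) (BT.node 251 (BT.leaf cJ251) (BT.leaf cJ252))) (BT.node 254 (BT.node 253 (BT.leaf cJ253) (BT.leaf cJ254)) (BT.node 255 (BT.leaf cJ255) (BT.leaf cJ256)))))) (BT.node 274 (BT.node 265 (BT.node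 261 (BT.node 259 (BT.node 258 (BT.node 257 (BT.leaf cJ257) (BT.leaf cJ258)) (BT.leaf cJ259)) (BT.node 260 (BT.leaf cJ260) (BT.leaf cJ261))) (BT.node 263 (BT.node 262 (BT.leaf cJ262) (BT.leaf cJ263)) (BT.node 264 (BT.leaf cJ264) (BT.leaf cJ265)))) (BT.node 270 (BT.node 268 (BT.node 267 (BT.node 266 (BT.leaf cJ266) (BT.leaf cJ267)) (BT.leaf cJ268)) (BT.node 269 (BT.leaf cJ269) (BT.leaf cJ270))) (BT.node 272 (BT.node 271 (BT.leaf cJ271) (BT.leaf cJ272)) (BT.node 273 (BT.leaf cJ273) (BT.leaf cJ274))))) (BT.node 283 (BT.node 279 (BT.node 277 (BT.node 276 (BT.node 275 (BT.leaf cJ275) (BT.leaf cJ276)) (BT.leaf cJ277)) (BT.node 278 (BT.leaf cJ278) (BT.leaf cJ279))) (BT.node 281 (BT.node 280 (BT.leaf cJ280) (BT.leaf cJ281)) (BT.node 282 (BT.leaf cJ282) (BT.leaf cJ283)))) (BT.node 288 (BT.node 286 (BT.node 285 (BT.node 284 (BT.leaf cJ284) (BT.leaf cJ285)) (BT.leaf cJ286))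 (BT.node 287 (BT.leaf cJ287) (BT.leaf cJ288))) (BT.node 290 (BT.node 289 (BT.leaf cJ289) (BT.leaf cJ290)) (BT.node 291 (BT.leaf cJ291) (BT.leaf cJ292))))))))) (BT.node 438 (BT.node 365 (BT.node 329 (BT.node 311 (BT.node 302 (BT.node 297 (BT.node 295 (BT.node 294 (BT.node 293 (BT.leaf cJ293) (BT.leaf cJ294)) (BT.leaf cJ295)) (BT.node 296 (BT.leaf cJ296) (BT.leaf cJ297))) (BT.node 300 (BT.node 299 (BT.node 298 (BT.leaf cJ298) (BT.leaf cJ299)) (BT.leaf cJ300)) (BT.node 301 (BT.leaf cJ301) (BT.leaf cJ302)))) (BT.node 307 (BT.node 305 (BT.node 304 (BT.node 303 (BT.leaf cJ303) (BT.leaf cJ304)) (BT.leaf cJ305)) (BT.node 306 (BT.leaf cJ306) (BT.leaf cJ307))) (BT.node 309 (BT.node 308 (BT.leaf cJ308) (BT.leaf cJ309)) (BT.node 310 (BT.leaf cJ310) (BT.leaf cJ311))))) (BT.node 320 (BT.node 316 (BT.node 314 (BT.node 313 (BT.node 312 (BT.leaf cJ312) (BT.leaf cJ313)) (BT.leaf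 cJ314)) (BT.node 315 (BT.leaf cJ315) (BT.leaf cJ316))) (BT.node 318 (BT.node 317 (BT.leaf cJ317) (BT.leaf cJ318)) (BT.node 319 (BT.leaf cJ319) (BT.leaf cJ320)))) (BT.node 325 (BT.node 323 (BT.node 322 (BT.node 321 (BT.leaf cJ321) (BT.leaf cJ322)) (BT.leaf cJ323)) (BT.node 324 (BT.leaf cJ324) (BT.leaf cJ325))) (BT.node 327 (BT.node 326 (BT.leaf cJ326) (BT.leaf cJ327)) (BT.node 328 (BT.leaf cJ328) (BT.leaf cJ329)))))) (BT.node 347 (BT.node 338 (BT.node 334 (BT.node 332 (BT.node 331 (BT.node 330 (BT.leaf cJ330) (BT.leaf cJ331)) (BT.leaf cJ332)) (BT.node 333 (BT.leaf cJ333) (BT.leaf cJ334))) (BT.node 336 (BT.node 335 (BT.leaf cJ335) (BT.leaf cJ336)) (BT.node 337 (BT.leaf cJ337) (BT.leaf cJ338)))) (BT.node 343 (BT.node 341 (BT.node 340 (BT.node 339 (BT.leaf cJ339) (BT.leaf cJ340)) (BT.leaf cJ341)) (BT.node 342 (BT.leaf cJ342) (BT.leaf cJ343))) (BT.node 345 (BT.node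 344 (BT.leaf cJ344) (BT.leaf cJ345)) (BT.node 346 (BT.leaf cJ346) (BT.leaf cJ347))))) (BT.node 356 (BT.node 352 (BT.node 350 (BT.node 349 (BT.node 348 (BT.leaf cJ348) (BT.leaf cJ349)) (BT.leaf cJ350)) (BT.node 351 (BT.leaf cJ351) (BT.leaf cJ352))) (BT.node 354 (BT.node 353 (BT.leaf cJ353) (BT.leaf cJ354)) (BT.node 355 (BT.leaf cJ355) (BT.leaf cJ356)))) (BT.node 361 (BT.node 359 (BT.node 358 (BT.node 357 (BT.leaf cJ357) (BT.leaf cJ358)) (BT.leaf cJ359)) (BT.node 360 (BT.leaf cJ360) (BT.leaf cJ361))) (BT.node 363 (BT.node 362 (BT.leaf cJ362) (BT.leaf cJ363)) (BT.node 364 (BT.leaf cJ364) (BT.leaf cJ365))))))) (BT.node 402 (BT.node 384 (BT.node 375 (BT.node 370 (BT.node 368 (BT.node 367 (BT.node 366 (BT.leaf cJ366) (BT.leaf cJ367)) (BT.leaf cJ368)) (BT.node 369 (BT.leaf cJ369) (BT.leaf cJ370))) (BT.node 373 (BT.node 372 (BT.node 371 (BT.leaf cJ371) (BT.leaf cJ372))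 (BT.leaf cJ373)) (BT.node 374 (BT.leaf cJ374) (BT.leaf cJ375)))) (BT.node 380 (BT.node 378 (BT.node 377 (BT.node 376 (BT.leaf cJ376) (BT.leaf cJ377)) (BT.leaf cJ378)) (BT.node 379 (BT.leaf cJ379) (BT.leaf cJ380))) (BT.node 382 (BT.node 381 (BT.leaf cJ381) (BT.leaf cJ382)) (BT.node 383 (BT.leaf cJ383) (BT.leaf cJ384))))) (BT.node 393 (BT.node 389 (BT.node 387 (BT.node 386 (BT.node 385 (BT.leaf cJ385) (BT.leaf cJ386)) (BT.leaf cJ387)) (BT.node 388 (BT.leaf cJ388) (BT.leaf cJ389))) (BT.node 391 (BT.node 390 (BT.leaf cJ390) (BT.leaf cJ391)) (BT.node 392 (BT.leaf cJ392) (BT.leaf cJ393)))) (BT.node 398 (BT.node 396 (BT.node 395 (BT.node 394 (BT.leaf cJ394) (BT.leaf cJ395)) (BT.leaf cJ396)) (BT.node 397 (BT.leaf cJ397) (BT.leaf cJ398))) (BT.node 400 (BT.node 399 (BT.leaf cJ399) (BT.leaf cJ400)) (BT.node 401 (BT.leaf cJ401) (BT.leaf cJ402)))))) (BT.node 420 (BT.node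 411 (BT.node 407 (BT.node 405 (BT.node 404 (BT.node 403 (BT.leaf cJ403) (BT.leaf cJ404)) (BT.leaf cJ405)) (BT.node 406 (BT.leaf cJ406) (BT.leaf cJ407))) (BT.node 409 (BT.node 408 (BT.leaf cJ408) (BT.leaf cJ409)) (BT.node 410 (BT.leaf cJ410) (BT.leaf cJ411)))) (BT.node 416 (BT.node 414 (BT.node 413 (BT.node 412 (BT.leaf cJ412) (BT.leaf cJ413)) (BT.leaf cJ414)) (BT.node 415 (BT.leaf cJ415) (BT.leaf cJ416))) (BT.node 418 (BT.node 417 (BT.leaf cJ417) (BT.leaf cJ418)) (BT.node 419 (BT.leaf cJ419) (BT.leaf cJ420))))) (BT.node 429 (BT.node 425 (BT.node 423 (BT.node 422 (BT.node 421 (BT.leaf cJ421) (BT.leaf cJ422)) (BT.leaf cJ423)) (BT.node 424 (BT.leaf cJ424) (BT.leaf cJ425))) (BT.node 427 (BT.node 426 (BT.leaf cJ426) (BT.leaf cJ427)) (BT.node 428 (BT.leaf cJ428) (BT.leaf cJ429)))) (BT.node 434 (BT.node 432 (BT.node 431 (BT.node 430 (BT.leaf cJ430) (BT.leaf cJ431))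 (BT.leaf cJ432)) (BT.node 433 (BT.leaf cJ433) (BT.leaf cJ434))) (BT.node 436 (BT.node 435 (BT.leaf cJ435) (BT.leaf cJ436)) (BT.node 437 (BT.leaf cJ437) (BT.leaf cJ438)))))))) (BT.node 511 (BT.node 475 (BT.node 457 (BT.node 448 (BT.node 443 (BT.node 441 (BT.node 440 (BT.node 439 (BT.leaf cJ439) (BT.leaf cJ440)) (BT.leaf cJ441)) (BT.node 442 (BT.leaf cJ442) (BT.leaf cJ443))) (BT.node 446 (BT.node 445 (BT.node 444 (BT.leaf cJ444) (BT.leaf cJ445)) (BT.leaf cJ446)) (BT.node 447 (BT.leaf cJ447) (BT.leaf cJ448)))) (BT.node 453 (BT.node 451 (BT.node 450 (BT.node 449 (BT.leaf cJ449) (BT.leaf cJ450)) (BT.leaf cJ451)) (BT.node 452 (BT.leaf cJ452) (BT.leaf cJ453))) (BT.node 455 (BT.node 454 (BT.leaf cJ454) (BT.leaf cJ455)) (BT.node 456 (BT.leaf cJ456) (BT.leaf cJ457))))) (BT.node 466 (BT.node 462 (BT.node 460 (BT.node 459 (BT.node 458 (BT.leaf cJ458) (BT.leaf cJ459)) (BT.leaf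 cJ460)) (BT.node 461 (BT.leaf cJ461) (BT.leaf cJ462))) (BT.node 464 (BT.node 463 (BT.leaf cJ463) (BT.leaf cJ464)) (BT.node 465 (BT.leaf cJ465) (BT.leaf cJ466)))) (BT.node 471 (BT.node 469 (BT.node 468 (BT.node 467 (BT.leaf cJ467) (BT.leaf cJ468)) (BT.leaf cJ469)) (BT.node 470 (BT.leaf cJ470) (BT.leaf cJ471))) (BT.node 473 (BT.node 472 (BT.leaf cJ472) (BT.leaf cJ473)) (BT.node 474 (BT.leaf cJ474) (BT.leaf cJ475)))))) (BT.node 493 (BT.node 484 (BT.node 480 (BT.node 478 (BT.node 477 (BT.node 476 (BT.leaf cJ476) (BT.leaf cJ477)) (BT.leaf cJ478)) (BT.node 479 (BT.leaf cJ479) (BT.leaf cJ480))) (BT.node 482 (BT.node 481 (BT.leaf cJ481) (BT.leaf cJ482)) (BT.node 483 (BT.leaf cJ483) (BT.leaf cJ484)))) (BT.node 489 (BT.node 487 (BT.node 486 (BT.node 485 (BT.leaf cJ485) (BT.leaf cJ486)) (BT.leaf cJ487)) (BT.node 488 (BT.leaf cJ488) (BT.leaf cJ489))) (BT.node 491 (BT.node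 490 (BT.leaf cJ490) (BT.leaf cJ491)) (BT.node 492 (BT.leaf cJ492) (BT.leaf cJ493))))) (BT.node 502 (BT.node 498 (BT.node 496 (BT.node 495 (BT.node 494 (BT.leaf cJ494) (BT.leaf cJ495)) (BT.leaf cJ496)) (BT.node 497 (BT.leaf cJ497) (BT.leaf cJ498))) (BT.node 500 (BT.node 499 (BT.leaf cJ499) (BT.leaf cJ500)) (BT.node 501 (BT.leaf cJ501) (BT.leaf cJ502)))) (BT.node 507 (BT.node 505 (BT.node 504 (BT.node 503 (BT.leaf cJ503) (BT.leaf cJ504)) (BT.leaf cJ505)) (BT.node 506 (BT.leaf cJ506) (BT.leaf cJ507))) (BT.node 509 (BT.node 508 (BT.leaf cJ508) (BT.leaf cJ509)) (BT.node 510 (BT.leaf cJ510) (BT.leaf cJ511))))))) (BT.node 548 (BT.node 530 (BT.node 521 (BT.node 516 (BT.node 514 (BT.node 513 (BT.node 512 (BT.leaf cJ512) (BT.leaf cJ513)) (BT.leaf cJ514)) (BT.node 515 (BT.leaf cJ515) (BT.leaf cJ516))) (BT.node 519 (BT.node 518 (BT.node 517 (BT.leaf cJ517) (BT.leaf cJ518))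 (BT.leaf cJ519)) (BT.node 520 (BT.leaf cJ520) (BT.leaf cJ521)))) (BT.node 526 (BT.node 524 (BT.node 523 (BT.node 522 (BT.leaf cJ522) (BT.leaf cJ523)) (BT.leaf cJ524)) (BT.node 525 (BT.leaf cJ525) (BT.leaf cJ526))) (BT.node 528 (BT.node 527 (BT.leaf cJ527) (BT.leaf cJ528)) (BT.node 529 (BT.leaf cJ529) (BT.leaf cJ530))))) (BT.node 539 (BT.node 535 (BT.node 533 (BT.node 532 (BT.node 531 (BT.leaf cJ531) (BT.leaf cJ532)) (BT.leaf cJ533)) (BT.node 534 (BT.leaf cJ534) (BT.leaf cJ535))) (BT.node 537 (BT.node 536 (BT.leaf cJ536) (BT.leaf cJ537)) (BT.node 538 (BT.leaf cJ538) (BT.leaf cJ539)))) (BT.node 544 (BT.node 542 (BT.node 541 (BT.node 540 (BT.leaf cJ540) (BT.leaf cJ541)) (BT.leaf cJ542)) (BT.node 543 (BT.leaf cJ543) (BT.leaf cJ544))) (BT.node 546 (BT.node 545 (BT.leaf cJ545) (BT.leaf cJ546)) (BT.node 547 (BT.leaf cJ547) (BT.leaf cJ548)))))) (BT.node 566 (BT.node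 557 (BT.node 553 (BT.node 551 (BT.node 550 (BT.node 549 (BT.leaf cJ549) (BT.leaf cJ550)) (BT.leaf cJ551)) (BT.node 552 (BT.leaf cJ552) (BT.leaf cJ553))) (BT.node 555 (BT.node 554 (BT.leaf cJ554) (BT.leaf cJ555)) (BT.node 556 (BT.leaf cJ556) (BT.leaf cJ557)))) (BT.node 562 (BT.node 560 (BT.node 559 (BT.node 558 (BT.leaf cJ558) (BT.leaf cJ559)) (BT.leaf cJ560)) (BT.node 561 (BT.leaf cJ561) (BT.leaf cJ562))) (BT.node 564 (BT.node 563 (BT.leaf cJ563) (BT.leaf cJ564)) (BT.node 565 (BT.leaf cJ565) (BT.leaf cJ566))))) (BT.node 575 (BT.node 571 (BT.node 569 (BT.node 568 (BT.node 567 (BT.leaf cJ567) (BT.leaf cJ568)) (BT.leaf cJ569)) (BT.node 570 (BT.leaf cJ570) (BT.leaf cJ571))) (BT.node 573 (BT.node 572 (BT.leaf cJ572) (BT.leaf cJ573)) (BT.node 574 (BT.leaf cJ574) (BT.leaf cJ575)))) (BT.node 580 (BT.node 578 (BT.node 577 (BT.node 576 (BT.leaf cJ576) (BT.leaf cJ577))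 (BT.leaf cJ578)) (BT.node 579 (BT.leaf cJ579) (BT.leaf cJ580))) (BT.node 582 (BT.node 581 (BT.leaf cJ581) (BT.leaf cJ582)) (BT.node 583 (BT.leaf cJ583) (BT.leaf cJ584)))))))))) (BT.node 877 (BT.node 731 (BT.node 658 (BT.node 621 (BT.node 603 (BT.node 594 (BT.node 589 (BT.node 587 (BT.node 586 (BT.node 585 (BT.leaf cJ585) (BT.leaf cJ586)) (BT.leaf cJ587)) (BT.node 588 (BT.leaf cJ588) (BT.leaf cJ589))) (BT.node 592 (BT.node 591 (BT.node 590 (BT.leaf cJ590) (BT.leaf cJ591)) (BT.leaf cJ592)) (BT.node 593 (BT.leaf cJ593) (BT.leaf cJ594)))) (BT.node 599 (BT.node 597 (BT.node 596 (BT.node 595 (BT.leaf cJ595) (BT.leaf cJ596)) (BT.leaf cJ597)) (BT.node 598 (BT.leaf cJ598) (BT.leaf cJ599))) (BT.node 601 (BT.node 600 (BT.leaf cJ600) (BT.leaf cJ601)) (BT.node 602 (BT.leaf cJ602) (BT.leaf cJ603))))) (BT.node 612 (BT.node 608 (BT.node 606 (BT.node 605 (BT.node 604 (BT.leaf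 cJ604) (BT.leaf cJ605)) (BT.leaf cJ606)) (BT.node 607 (BT.leaf cJ607) (BT.leaf cJ608))) (BT.node 610 (BT.node 609 (BT.leaf cJ609) (BT.leaf cJ610)) (BT.node 611 (BT.leaf cJ611) (BT.leaf cJ612)))) (BT.node 617 (BT.node 615 (BT.node 614 (BT.node 613 (BT.leaf cJ613) (BT.leaf cJ614)) (BT.leaf cJ615)) (BT.node 616 (BT.leaf cJ616) (BT.leaf cJ617))) (BT.node 619 (BT.node 618 (BT.leaf cJ618) (BT.leaf cJ619)) (BT.node 620 (BT.leaf cJ620) (BT.leaf cJ621)))))) (BT.node 640 (BT.node 631 (BT.node 626 (BT.node 624 (BT.node 623 (BT.node 622 (BT.leaf cJ622) (BT.leaf cJ623)) (BT.leaf cJ624)) (BT.node 625 (BT.leaf cJ625) (BT.leaf cJ626))) (BT.node 629 (BT.node 628 (BT.node 627 (BT.leaf cJ627) (BT.leaf cJ628)) (BT.leaf cJ629)) (BT.node 630 (BT.leaf cJ630) (BT.leaf cJ631)))) (BT.node 636 (BT.node 634 (BT.node 633 (BT.node 632 (BT.leaf cJ632) (BT.leaf cJ633)) (BT.leaf cJ634)) (BT.node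 635 (BT.leaf cJ635) (BT.leaf cJ636))) (BT.node 638 (BT.node 637 (BT.leaf cJ637) (BT.leaf cJ638)) (BT.node 639 (BT.leaf cJ639) (BT.leaf cJ640))))) (BT.node 649 (BT.node 645 (BT.node 643 (BT.node 642 (BT.node 641 (BT.leaf cJ641) (BT.leaf cJ642)) (BT.leaf cJ643)) (BT.node 644 (BT.leaf cJ644) (BT.leaf cJ645))) (BT.node 647 (BT.node 646 (BT.leaf cJ646) (BT.leaf cJ647)) (BT.node 648 (BT.leaf cJ648) (BT.leaf cJ649)))) (BT.node 654 (BT.node 652 (BT.node 651 (BT.node 650 (BT.leaf cJ650) (BT.leaf cJ651)) (BT.leaf cJ652)) (BT.node 653 (BT.leaf cJ653) (BT.leaf cJ654))) (BT.node 656 (BT.node 655 (BT.leaf cJ655) (BT.leaf cJ656)) (BT.node 657 (BT.leaf cJ657) (BT.leaf cJ658))))))) (BT.node 695 (BT.node 677 (BT.node 668 (BT.node 663 (BT.node 661 (BT.node 660 (BT.node 659 (BT.leaf cJ659) (BT.leaf cJ660)) (BT.leaf cJ661)) (BT.node 662 (BT.leaf cJ662) (BT.leaf cJ663))) (BT.node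 666 (BT.node 665 (BT.node 664 (BT.leaf cJ664) (BT.leaf cJ665)) (BT.leaf cJ666)) (BT.node 667 (BT.leaf cJ667) (BT.leaf cJ668)))) (BT.node 673 (BT.node 671 (BT.node 670 (BT.node 669 (BT.leaf cJ669) (BT.leaf cJ670)) (BT.leaf cJ671)) (BT.node 672 (BT.leaf cJ672) (BT.leaf cJ673))) (BT.node 675 (BT.node 674 (BT.leaf cJ674) (BT.leaf cJ675)) (BT.node 676 (BT.leaf cJ676) (BT.leaf cJ677))))) (BT.node 686 (BT.node 682 (BT.node 680 (BT.node 679 (BT.node 678 (BT.leaf cJ678) (BT.leaf cJ679)) (BT.leaf cJ680)) (BT.node 681 (BT.leaf cJ681) (BT.leaf cJ682))) (BT.node 684 (BT.node 683 (BT.leaf cJ683) (BT.leaf cJ684)) (BT.node 685 (BT.leaf cJ685) (BT.leaf cJ686)))) (BT.node 691 (BT.node 689 (BT.node 688 (BT.node 687 (BT.leaf cJ687) (BT.leaf cJ688)) (BT.leaf cJ689)) (BT.node 690 (BT.leaf cJ690) (BT.leaf cJ691))) (BT.node 693 (BT.node 692 (BT.leaf cJ692) (BT.leaf cJ693)) (BT.node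 694 (BT.leaf cJ694) (BT.leaf cJ695)))))) (BT.node 713 (BT.node 704 (BT.node 700 (BT.node 698 (BT.node 697 (BT.node 696 (BT.leaf cJ696) (BT.leaf cJ697)) (BT.leaf cJ698)) (BT.node 699 (BT.leaf cJ699) (BT.leaf cJ700))) (BT.node 702 (BT.node 701 (BT.leaf cJ701) (BT.leaf cJ702)) (BT.node 703 (BT.leaf cJ703) (BT.leaf cJ704)))) (BT.node 709 (BT.node 707 (BT.node 706 (BT.node 705 (BT.leaf cJ705) (BT.leaf cJ706)) (BT.leaf cJ707)) (BT.node 708 (BT.leaf cJ708) (BT.leaf cJ709))) (BT.node 711 (BT.node 710 (BT.leaf cJ710) (BT.leaf cJ711)) (BT.node 712 (BT.leaf cJ712) (BT.leaf cJ713))))) (BT.node 722 (BT.node 718 (BT.node 716 (BT.node 715 (BT.node 714 (BT.leaf cJ714) (BT.leaf cJ715)) (BT.leaf cJ716)) (BT.node 717 (BT.leaf cJ717) (BT.leaf cJ718))) (BT.node 720 (BT.node 719 (BT.leaf cJ719) (BT.leaf cJ720)) (BT.node 721 (BT.leaf cJ721) (BT.leaf cJ722)))) (BT.node 727 (BT.node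 725 (BT.node 724 (BT.node 723 (BT.leaf cJ723) (BT.leaf cJ724)) (BT.leaf cJ725)) (BT.node 726 (BT.leaf cJ726) (BT.leaf cJ727))) (BT.node 729 (BT.node 728 (BT.leaf cJ728) (BT.leaf cJ729)) (BT.node 730 (BT.leaf cJ730) (BT.leaf cJ731)))))))) (BT.node 804 (BT.node 768 (BT.node 750 (BT.node 741 (BT.node 736 (BT.node 734 (BT.node 733 (BT.node 732 (BT.leaf cJ732) (BT.leaf cJ733)) (BT.leaf cJ734)) (BT.node 735 (BT.leaf cJ735) (BT.leaf cJ736))) (BT.node 739 (BT.node 738 (BT.node 737 (BT.leaf cJ737) (BT.leaf cJ738)) (BT.leaf cJ739)) (BT.node 740 (BT.leaf cJ740) (BT.leaf cJ741)))) (BT.node 746 (BT.node 744 (BT.node 743 (BT.node 742 (BT.leaf cJ742) (BT.leaf cJ743)) (BT.leaf cJ744)) (BT.node 745 (BT.leaf cJ745) (BT.leaf cJ746))) (BT.node 748 (BT.node 747 (BT.leaf cJ747) (BT.leaf cJ748)) (BT.node 749 (BT.leaf cJ749) (BT.leaf cJ750))))) (BT.node 759 (BT.node 755 (BT.node 753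 (BT.node 752 (BT.node 751 (BT.leaf cJ751) (BT.leaf cJ752)) (BT.leaf cJ753)) (BT.node 754 (BT.leaf cJ754) (BT.leaf cJ755))) (BT.node 757 (BT.node 756 (BT.leaf cJ756) (BT.leaf cJ757)) (BT.node 758 (BT.leaf cJ758) (BT.leaf cJ759)))) (BT.node 764 (BT.node 762 (BT.node 761 (BT.node 760 (BT.leaf cJ760) (BT.leaf cJ761)) (BT.leaf cJ762)) (BT.node 763 (BT.leaf cJ763) (BT.leaf cJ764))) (BT.node 766 (BT.node 765 (BT.leaf cJ765) (BT.leaf cJ766)) (BT.node 767 (BT.leaf cJ767) (BT.leaf cJ768)))))) (BT.node 786 (BT.node 777 (BT.node 773 (BT.node 771 (BT.node 770 (BT.node 769 (BT.leaf cJ769) (BT.leaf cJ770)) (BT.leaf cJ771)) (BT.node 772 (BT.leaf cJ772) (BT.leaf cJ773))) (BT.node 775 (BT.node 774 (BT.leaf cJ774) (BT.leaf cJ775)) (BT.node 776 (BT.leaf cJ776) (BT.leaf cJ777)))) (BT.node 782 (BT.node 780 (BT.node 779 (BT.node 778 (BT.leaf cJ778) (BT.leaf cJ779)) (BT.leaf cJ780))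 (BT.node 781 (BT.leaf cJ781) (BT.leaf cJ782))) (BT.node 784 (BT.node 783 (BT.leaf cJ783) (BT.leaf cJ784)) (BT.node 785 (BT.leaf cJ785) (BT.leaf cJ786))))) (BT.node 795 (BT.node 791 (BT.node 789 (BT.node 788 (BT.node 787 (BT.leaf cJ787) (BT.leaf cJ788)) (BT.leaf cJ789)) (BT.node 790 (BT.leaf cJ790) (BT.leaf cJ791))) (BT.node 793 (BT.node 792 (BT.leaf cJ792) (BT.leaf cJ793)) (BT.node 794 (BT.leaf cJ794) (BT.leaf cJ795)))) (BT.node 800 (BT.node 798 (BT.node 797 (BT.node 796 (BT.leaf cJ796) (BT.leaf cJ797)) (BT.leaf cJ798)) (BT.node 799 (BT.leaf cJ799) (BT.leaf cJ800))) (BT.node 802 (BT.node 801 (BT.leaf cJ801) (BT.leaf cJ802)) (BT.node 803 (BT.leaf cJ803) (BT.leaf cJ804))))))) (BT.node 841 (BT.node 823 (BT.node 814 (BT.node 809 (BT.node 807 (BT.node 806 (BT.node 805 (BT.leaf cJ805) (BT.leaf cJ806)) (BT.leaf cJ807)) (BT.node 808 (BT.leaf cJ808) (BT.leaf cJ809)))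 (BT.node 812 (BT.node 811 (BT.node 810 (BT.leaf cJ810) (BT.leaf cJ811)) (BT.leaf cJ812)) (BT.node 813 (BT.leaf cJ813) (BT.leaf cJ814)))) (BT.node 819 (BT.node 817 (BT.node 816 (BT.node 815 (BT.leaf cJ815) (BT.leaf cJ816)) (BT.leaf cJ817)) (BT.node 818 (BT.leaf cJ818) (BT.leaf cJ819))) (BT.node 821 (BT.node 820 (BT.leaf cJ820) (BT.leaf cJ821)) (BT.node 822 (BT.leaf cJ822) (BT.leaf cJ823))))) (BT.node 832 (BT.node 828 (BT.node 826 (BT.node 825 (BT.node 824 (BT.leaf cJ824) (BT.leaf cJ825)) (BT.leaf cJ826)) (BT.node 827 (BT.leaf cJ827) (BT.leaf cJ828))) (BT.node 830 (BT.node 829 (BT.leaf cJ829) (BT.leaf cJ830)) (BT.node 831 (BT.leaf cJ831) (BT.leaf cJ832)))) (BT.node 837 (BT.node 835 (BT.node 834 (BT.node 833 (BT.leaf cJ833) (BT.leaf cJ834)) (BT.leaf cJ835)) (BT.node 836 (BT.leaf cJ836) (BT.leaf cJ837))) (BT.node 839 (BT.node 838 (BT.leaf cJ838) (BT.leaf cJ839))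 (BT.node 840 (BT.leaf cJ840) (BT.leaf cJ841)))))) (BT.node 859 (BT.node 850 (BT.node 846 (BT.node 844 (BT.node 843 (BT.node 842 (BT.leaf cJ842) (BT.leaf cJ843)) (BT.leaf cJ844)) (BT.node 845 (BT.leaf cJ845) (BT.leaf cJ846))) (BT.node 848 (BT.node 847 (BT.leaf cJ847) (BT.leaf cJ848)) (BT.node 849 (BT.leaf cJ849) (BT.leaf cJ850)))) (BT.node 855 (BT.node 853 (BT.node 852 (BT.node 851 (BT.leaf cJ851) (BT.leaf cJ852)) (BT.leaf cJ853)) (BT.node 854 (BT.leaf cJ854) (BT.leaf cJ855))) (BT.node 857 (BT.node 856 (BT.leaf cJ856) (BT.leaf cJ857)) (BT.node 858 (BT.leaf cJ858) (BT.leaf cJ859))))) (BT.node 868 (BT.node 864 (BT.node 862 (BT.node 861 (BT.node 860 (BT.leaf cJ860) (BT.leaf cJ861)) (BT.leaf cJ862)) (BT.node 863 (BT.leaf cJ863) (BT.leaf cJ864))) (BT.node 866 (BT.node 865 (BT.leaf cJ865) (BT.leaf cJ866)) (BT.node 867 (BT.leaf cJ867) (BT.leaf cJ868)))) (BT.node 873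 (BT.node 871 (BT.node 870 (BT.node 869 (BT.leaf cJ869) (BT.leaf cJ870)) (BT.leaf cJ871)) (BT.node 872 (BT.leaf cJ872) (BT.leaf cJ873))) (BT.node 875 (BT.node 874 (BT.leaf cJ874) (BT.leaf cJ875)) (BT.node 876 (BT.leaf cJ876) (BT.leaf cJ877))))))))) (BT.node 1023 (BT.node 950 (BT.node 914 (BT.node 896 (BT.node 887 (BT.node 882 (BT.node 880 (BT.node 879 (BT.node 878 (BT.leaf cJ878) (BT.leaf cJ879)) (BT.leaf cJ880)) (BT.node 881 (BT.leaf cJ881) (BT.leaf cJ882))) (BT.node 885 (BT.node 884 (BT.node 883 (BT.leaf cJ883) (BT.leaf cJ884)) (BT.leaf cJ885)) (BT.node 886 (BT.leaf cJ886) (BT.leaf cJ887)))) (BT.node 892 (BT.node 890 (BT.node 889 (BT.node 888 (BT.leaf cJ888) (BT.leaf cJ889)) (BT.leaf cJ890)) (BT.node 891 (BT.leaf cJ891) (BT.leaf cJ892))) (BT.node 894 (BT.node 893 (BT.leaf cJ893) (BT.leaf cJ894)) (BT.node 895 (BT.leaf cJ895) (BT.leaf cJ896))))) (BT.node 905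 (BT.node 901 (BT.node 899 (BT.node 898 (BT.node 897 (BT.leaf cJ897) (BT.leaf cJ898)) (BT.leaf cJ899)) (BT.node 900 (BT.leaf cJ900) (BT.leaf cJ901))) (BT.node 903 (BT.node 902 (BT.leaf cJ902) (BT.leaf cJ903)) (BT.node 904 (BT.leaf cJ904) (BT.leaf cJ905)))) (BT.node 910 (BT.node 908 (BT.node 907 (BT.node 906 (BT.leaf cJ906) (BT.leaf cJ907)) (BT.leaf cJ908)) (BT.node 909 (BT.leaf cJ909) (BT.leaf cJ910))) (BT.node 912 (BT.node 911 (BT.leaf cJ911) (BT.leaf cJ912)) (BT.node 913 (BT.leaf cJ913) (BT.leaf cJ914)))))) (BT.node 932 (BT.node 923 (BT.node 919 (BT.node 917 (BT.node 916 (BT.node 915 (BT.leaf cJ915) (BT.leaf cJ916)) (BT.leaf cJ917)) (BT.node 918 (BT.leaf cJ918) (BT.leaf cJ919))) (BT.node 921 (BT.node 920 (BT.leaf cJ920) (BT.leaf cJ921)) (BT.node 922 (BT.leaf cJ922) (BT.leaf cJ923)))) (BT.node 928 (BT.node 926 (BT.node 925 (BT.node 924 (BT.leaf cJ924) (BT.leaf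 cJ925)) (BT.leaf cJ926)) (BT.node 927 (BT.leaf cJ927) (BT.leaf cJ928))) (BT.node 930 (BT.node 929 (BT.leaf cJ929) (BT.leaf cJ930)) (BT.node 931 (BT.leaf cJ931) (BT.leaf cJ932))))) (BT.node 941 (BT.node 937 (BT.node 935 (BT.node 934 (BT.node 933 (BT.leaf cJ933) (BT.leaf cJ934)) (BT.leaf cJ935)) (BT.node 936 (BT.leaf cJ936) (BT.leaf cJ937))) (BT.node 939 (BT.node 938 (BT.leaf cJ938) (BT.leaf cJ939)) (BT.node 940 (BT.leaf cJ940) (BT.leaf cJ941)))) (BT.node 946 (BT.node 944 (BT.node 943 (BT.node 942 (BT.leaf cJ942) (BT.leaf cJ943)) (BT.leaf cJ944)) (BT.node 945 (BT.leaf cJ945) (BT.leaf cJ946))) (BT.node 948 (BT.node 947 (BT.leaf cJ947) (BT.leaf cJ948)) (BT.node 949 (BT.leaf cJ949) (BT.leaf cJ950))))))) (BT.node 987 (BT.node 969 (BT.node 960 (BT.node 955 (BT.node 953 (BT.node 952 (BT.node 951 (BT.leaf cJ951) (BT.leaf cJ952)) (BT.leaf cJ953)) (BT.node 954 (BT.leaf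 cJ954) (BT.leaf cJ955))) (BT.node 958 (BT.node 957 (BT.node 956 (BT.leaf cJ956) (BT.leaf cJ957)) (BT.leaf cJ958)) (BT.node 959 (BT.leaf cJ959) (BT.leaf cJ960)))) (BT.node 965 (BT.node 963 (BT.node 962 (BT.node 961 (BT.leaf cJ961) (BT.leaf cJ962)) (BT.leaf cJ963)) (BT.node 964 (BT.leaf cJ964) (BT.leaf cJ965))) (BT.node 967 (BT.node 966 (BT.leaf cJ966) (BT.leaf cJ967)) (BT.node 968 (BT.leaf cJ968) (BT.leaf cJ969))))) (BT.node 978 (BT.node 974 (BT.node 972 (BT.node 971 (BT.node 970 (BT.leaf cJ970) (BT.leaf cJ971)) (BT.leaf cJ972)) (BT.node 973 (BT.leaf cJ973) (BT.leaf cJ974))) (BT.node 976 (BT.node 975 (BT.leaf cJ975) (BT.leaf cJ976)) (BT.node 977 (BT.leaf cJ977) (BT.leaf cJ978)))) (BT.node 983 (BT.node 981 (BT.node 980 (BT.node 979 (BT.leaf cJ979) (BT.leaf cJ980)) (BT.leaf cJ981)) (BT.node 982 (BT.leaf cJ982) (BT.leaf cJ983))) (BT.node 985 (BT.node 984 (BT.leaf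 cJ984) (BT.leaf cJ985)) (BT.node 986 (BT.leaf cJ986) (BT.leaf cJ987)))))) (BT.node 1005 (BT.node 996 (BT.node 992 (BT.node 990 (BT.node 989 (BT.node 988 (BT.leaf cJ988) (BT.leaf cJ989)) (BT.leaf cJ990)) (BT.node 991 (BT.leaf cJ991) (BT.leaf cJ992))) (BT.node 994 (BT.node 993 (BT.leaf cJ993) (BT.leaf cJ994)) (BT.node 995 (BT.leaf cJ995) (BT.leaf cJ996)))) (BT.node 1001 (BT.node 999 (BT.node 998 (BT.node 997 (BT.leaf cJ997) (BT.leaf cJ998)) (BT.leaf cJ999)) (BT.node 1000 (BT.leaf cJ1000) (BT.leaf cJ1001))) (BT.node 1003 (BT.node 1002 (BT.leaf cJ1002) (BT.leaf cJ1003)) (BT.node 1004 (BT.leaf cJ1004) (BT.leaf cJ1005))))) (BT.node 1014 (BT.node 1010 (BT.node 1008 (BT.node 1007 (BT.node 1006 (BT.leaf cJ1006) (BT.leaf cJ1007)) (BT.leaf cJ1008)) (BT.node 1009 (BT.leaf cJ1009) (BT.leaf cJ1010))) (BT.node 1012 (BT.node 1011 (BT.leaf cJ1011) (BT.leaf cJ1012)) (BT.node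 1013 (BT.leaf cJ1013) (BT.leaf cJ1014)))) (BT.node 1019 (BT.node 1017 (BT.node 1016 (BT.node 1015 (BT.leaf cJ1015) (BT.leaf cJ1016)) (BT.leaf cJ1017)) (BT.node 1018 (BT.leaf cJ1018) (BT.leaf cJ1019))) (BT.node 1021 (BT.node 1020 (BT.leaf cJ1020) (BT.leaf cJ1021)) (BT.node 1022 (BT.leaf cJ1022) (BT.leaf cJ1023)))))))) (BT.node 1096 (BT.node 1060 (BT.node 1042 (BT.node 1033 (BT.node 1028 (BT.node 1026 (BT.node 1025 (BT.node 1024 (BT.leaf cJ1024) (BT.leaf cJ1025)) (BT.leaf cJ1026)) (BT.node 1027 (BT.leaf cJ1027) (BT.leaf cJ1028))) (BT.node 1031 (BT.node 1030 (BT.node 1029 (BT.leaf cJ1029) (BT.leaf cJ1030)) (BT.leaf cJ1031)) (BT.node 1032 (BT.leaf cJ1032) (BT.leaf cJ1033)))) (BT.node 1038 (BT.node 1036 (BT.node 1035 (BT.node 1034 (BT.leaf cJ1034) (BT.leaf cJ1035)) (BT.leaf cJ1036)) (BT.node 1037 (BT.leaf cJ1037) (BT.leaf cJ1038))) (BT.node 1040 (BT.node 1039 (BT.leaf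 cJ1039) (BT.leaf cJ1040)) (BT.node 1041 (BT.leaf cJ1041) (BT.leaf cJ1042))))) (BT.node 1051 (BT.node 1047 (BT.node 1045 (BT.node 1044 (BT.node 1043 (BT.leaf cJ1043) (BT.leaf cJ1044)) (BT.leaf cJ1045)) (BT.node 1046 (BT.leaf cJ1046) (BT.leaf cJ1047))) (BT.node 1049 (BT.node 1048 (BT.leaf cJ1048) (BT.leaf cJ1049)) (BT.node 1050 (BT.leaf cJ1050) (BT.leaf cJ1051)))) (BT.node 1056 (BT.node 1054 (BT.node 1053 (BT.node 1052 (BT.leaf cJ1052) (BT.leaf cJ1053)) (BT.leaf cJ1054)) (BT.node 1055 (BT.leaf cJ1055) (BT.leaf cJ1056))) (BT.node 1058 (BT.node 1057 (BT.leaf cJ1057) (BT.leaf cJ1058)) (BT.node 1059 (BT.leaf cJ1059) (BT.leaf cJ1060)))))) (BT.node 1078 (BT.node 1069 (BT.node 1065 (BT.node 1063 (BT.node 1062 (BT.node 1061 (BT.leaf cJ1061) (BT.leaf cJ1062)) (BT.leaf cJ1063)) (BT.node 1064 (BT.leaf cJ1064) (BT.leaf cJ1065))) (BT.node 1067 (BT.node 1066 (BT.leaf cJ1066)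 (BT.leaf cJ1067)) (BT.node 1068 (BT.leaf cJ1068) (BT.leaf cJ1069)))) (BT.node 1074 (BT.node 1072 (BT.node 1071 (BT.node 1070 (BT.leaf cJ1070) (BT.leaf cJ1071)) (BT.leaf cJ1072)) (BT.node 1073 (BT.leaf cJ1073) (BT.leaf cJ1074))) (BT.node 1076 (BT.node 1075 (BT.leaf cJ1075) (BT.leaf cJ1076)) (BT.node 1077 (BT.leaf cJ1077) (BT.leaf cJ1078))))) (BT.node 1087 (BT.node 1083 (BT.node 1081 (BT.node 1080 (BT.node 1079 (BT.leaf cJ1079) (BT.leaf cJ1080)) (BT.leaf cJ1081)) (BT.node 1082 (BT.leaf cJ1082) (BT.leaf cJ1083))) (BT.node 1085 (BT.node 1084 (BT.leaf cJ1084) (BT.leaf cJ1085)) (BT.node 1086 (BT.leaf cJ1086) (BT.leaf cJ1087)))) (BT.node 1092 (BT.node 1090 (BT.node 1089 (BT.node 1088 (BT.leaf cJ1088) (BT.leaf cJ1089)) (BT.leaf cJ1090)) (BT.node 1091 (BT.leaf cJ1091) (BT.leaf cJ1092))) (BT.node 1094 (BT.node 1093 (BT.leaf cJ1093) (BT.leaf cJ1094)) (BT.node 1095 (BT.leaf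 cJ1095) (BT.leaf cJ1096))))))) (BT.node 1133 (BT.node 1115 (BT.node 1106 (BT.node 1101 (BT.node 1099 (BT.node 1098 (BT.node 1097 (BT.leaf cJ1097) (BT.leaf cJ1098)) (BT.leaf cJ1099)) (BT.node 1100 (BT.leaf cJ1100) (BT.leaf cJ1101))) (BT.node 1104 (BT.node 1103 (BT.node 1102 (BT.leaf cJ1102) (BT.leaf cJ1103)) (BT.leaf cJ1104)) (BT.node 1105 (BT.leaf cJ1105) (BT.leaf cJ1106)))) (BT.node 1111 (BT.node 1109 (BT.node 1108 (BT.node 1107 (BT.leaf cJ1107) (BT.leaf cJ1108)) (BT.leaf cJ1109)) (BT.node 1110 (BT.leaf cJ1110) (BT.leaf cJ1111))) (BT.node 1113 (BT.node 1112 (BT.leaf cJ1112) (BT.leaf cJ1113)) (BT.node 1114 (BT.leaf cJ1114) (BT.leaf cJ1115))))) (BT.node 1124 (BT.node 1120 (BT.node 1118 (BT.node 1117 (BT.node 1116 (BT.leaf cJ1116) (BT.leaf cJ1117)) (BT.leaf cJ1118)) (BT.node 1119 (BT.leaf cJ1119) (BT.leaf cJ1120))) (BT.node 1122 (BT.node 1121 (BT.leaf cJ1121)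 (BT.leaf cJ1122)) (BT.node 1123 (BT.leaf cJ1123) (BT.leaf cJ1124)))) (BT.node 1129 (BT.node 1127 (BT.node 1126 (BT.node 1125 (BT.leaf cJ1125) (BT.leaf cJ1126)) (BT.leaf cJ1127)) (BT.node 1128 (BT.leaf cJ1128) (BT.leaf cJ1129))) (BT.node 1131 (BT.node 1130 (BT.leaf cJ1130) (BT.leaf cJ1131)) (BT.node 1132 (BT.leaf cJ1132) (BT.leaf cJ1133)))))) (BT.node 1151 (BT.node 1142 (BT.node 1138 (BT.node 1136 (BT.node 1135 (BT.node 1134 (BT.leaf cJ1134) (BT.leaf cJ1135)) (BT.leaf cJ1136)) (BT.node 1137 (BT.leaf cJ1137) (BT.leaf cJ1138))) (BT.node 1140 (BT.node 1139 (BT.leaf cJ1139) (BT.leaf cJ1140)) (BT.node 1141 (BT.leaf cJ1141) (BT.leaf cJ1142)))) (BT.node 1147 (BT.node 1145 (BT.node 1144 (BT.node 1143 (BT.leaf cJ1143) (BT.leaf cJ1144)) (BT.leaf cJ1145)) (BT.node 1146 (BT.leaf cJ1146) (BT.leaf cJ1147))) (BT.node 1149 (BT.node 1148 (BT.leaf cJ1148) (BT.leaf cJ1149)) (BT.node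 1150 (BT.leaf cJ1150) (BT.leaf cJ1151))))) (BT.node 1160 (BT.node 1156 (BT.node 1154 (BT.node 1153 (BT.node 1152 (BT.leaf cJ1152) (BT.leaf cJ1153)) (BT.leaf cJ1154)) (BT.node 1155 (BT.leaf cJ1155) (BT.leaf cJ1156))) (BT.node 1158 (BT.node 1157 (BT.leaf cJ1157) (BT.leaf cJ1158)) (BT.node 1159 (BT.leaf cJ1159) (BT.leaf cJ1160)))) (BT.node 1165 (BT.node 1163 (BT.node 1162 (BT.node 1161 (BT.leaf cJ1161) (BT.leaf cJ1162)) (BT.leaf cJ1163)) (BT.node 1164 (BT.leaf cJ1164) (BT.leaf cJ1165))) (BT.node 1167 (BT.node 1166 (BT.leaf cJ1166) (BT.leaf cJ1167)) (BT.node 1168 (BT.leaf cJ1168) (BT.leaf cJ1169))))))))))) (BT.node 1754 (BT.node 1462 (BT.node 1316 (BT.node 1243 (BT.node 1206 (BT.node 1188 (BT.node 1179 (BT.node 1174 (BT.node 1172 (BT.node 1171 (BT.node 1170 (BT.leaf cJ1170) (BT.leaf cJ1171)) (BT.leaf cJ1172)) (BT.node 1173 (BT.leaf cJ1173) (BT.leaf cJ1174))) (BT.node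 1177 (BT.node 1176 (BT.node 1175 (BT.leaf cJ1175) (BT.leaf cJ1176)) (BT.leaf cJ1177)) (BT.node 1178 (BT.leaf cJ1178) (BT.leaf cJ1179)))) (BT.node 1184 (BT.node 1182 (BT.node 1181 (BT.node 1180 (BT.leaf cJ1180) (BT.leaf cJ1181)) (BT.leaf cJ1182)) (BT.node 1183 (BT.leaf cJ1183) (BT.leaf cJ1184))) (BT.node 1186 (BT.node 1185 (BT.leaf cJ1185) (BT.leaf cJ1186)) (BT.node 1187 (BT.leaf cJ1187) (BT.leaf cJ1188))))) (BT.node 1197 (BT.node 1193 (BT.node 1191 (BT.node 1190 (BT.node 1189 (BT.leaf cJ1189) (BT.leaf cJ1190)) (BT.leaf cJ1191)) (BT.node 1192 (BT.leaf cJ1192) (BT.leaf cJ1193))) (BT.node 1195 (BT.node 1194 (BT.leaf cJ1194) (BT.leaf cJ1195)) (BT.node 1196 (BT.leaf cJ1196) (BT.leaf cJ1197)))) (BT.node 1202 (BT.node 1200 (BT.node 1199 (BT.node 1198 (BT.leaf cJ1198) (BT.leaf cJ1199)) (BT.leaf cJ1200)) (BT.node 1201 (BT.leaf cJ1201) (BT.leaf cJ1202))) (BT.node 1204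 (BT.node 1203 (BT.leaf cJ1203) (BT.leaf cJ1204)) (BT.node 1205 (BT.leaf cJ1205) (BT.leaf cJ1206)))))) (BT.node 1225 (BT.node 1216 (BT.node 1211 (BT.node 1209 (BT.node 1208 (BT.node 1207 (BT.leaf cJ1207) (BT.leaf cJ1208)) (BT.leaf cJ1209)) (BT.node 1210 (BT.leaf cJ1210) (BT.leaf cJ1211))) (BT.node 1214 (BT.node 1213 (BT.node 1212 (BT.leaf cJ1212) (BT.leaf cJ1213)) (BT.leaf cJ1214)) (BT.node 1215 (BT.leaf cJ1215) (BT.leaf cJ1216)))) (BT.node 1221 (BT.node 1219 (BT.node 1218 (BT.node 1217 (BT.leaf cJ1217) (BT.leaf cJ1218)) (BT.leaf cJ1219)) (BT.node 1220 (BT.leaf cJ1220) (BT.leaf cJ1221))) (BT.node 1223 (BT.node 1222 (BT.leaf cJ1222) (BT.leaf cJ1223)) (BT.node 1224 (BT.leaf cJ1224) (BT.leaf cJ1225))))) (BT.node 1234 (BT.node 1230 (BT.node 1228 (BT.node 1227 (BT.node 1226 (BT.leaf cJ1226) (BT.leaf cJ1227)) (BT.leaf cJ1228)) (BT.node 1229 (BT.leaf cJ1229) (BT.leaf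 cJ1230))) (BT.node 1232 (BT.node 1231 (BT.leaf cJ1231) (BT.leaf cJ1232)) (BT.node 1233 (BT.leaf cJ1233) (BT.leaf cJ1234)))) (BT.node 1239 (BT.node 1237 (BT.node 1236 (BT.node 1235 (BT.leaf cJ1235) (BT.leaf cJ1236)) (BT.leaf cJ1237)) (BT.node 1238 (BT.leaf cJ1238) (BT.leaf cJ1239))) (BT.node 1241 (BT.node 1240 (BT.leaf cJ1240) (BT.leaf cJ1241)) (BT.node 1242 (BT.leaf cJ1242) (BT.leaf cJ1243))))))) (BT.node 1280 (BT.node 1262 (BT.node 1253 (BT.node 1248 (BT.node 1246 (BT.node 1245 (BT.node 1244 (BT.leaf cJ1244) (BT.leaf cJ1245)) (BT.leaf cJ1246)) (BT.node 1247 (BT.leaf cJ1247) (BT.leaf cJ1248))) (BT.node 1251 (BT.node 1250 (BT.node 1249 (BT.leaf cJ1249) (BT.leaf cJ1250)) (BT.leaf cJ1251)) (BT.node 1252 (BT.leaf cJ1252) (BT.leaf cJ1253)))) (BT.node 1258 (BT.node 1256 (BT.node 1255 (BT.node 1254 (BT.leaf cJ1254) (BT.leaf cJ1255)) (BT.leaf cJ1256)) (BT.node 1257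 (BT.leaf cJ1257) (BT.leaf cJ1258))) (BT.node 1260 (BT.node 1259 (BT.leaf cJ1259) (BT.leaf cJ1260)) (BT.node 1261 (BT.leaf cJ1261) (BT.leaf cJ1262))))) (BT.node 1271 (BT.node 1267 (BT.node 1265 (BT.node 1264 (BT.node 1263 (BT.leaf cJ1263) (BT.leaf cJ1264)) (BT.leaf cJ1265)) (BT.node 1266 (BT.leaf cJ1266) (BT.leaf cJ1267))) (BT.node 1269 (BT.node 1268 (BT.leaf cJ1268) (BT.leaf cJ1269)) (BT.node 1270 (BT.leaf cJ1270) (BT.leaf cJ1271)))) (BT.node 1276 (BT.node 1274 (BT.node 1273 (BT.node 1272 (BT.leaf cJ1272) (BT.leaf cJ1273)) (BT.leaf cJ1274)) (BT.node 1275 (BT.leaf cJ1275) (BT.leaf cJ1276))) (BT.node 1278 (BT.node 1277 (BT.leaf cJ1277) (BT.leaf cJ1278)) (BT.node 1279 (BT.leaf cJ1279) (BT.leaf cJ1280)))))) (BT.node 1298 (BT.node 1289 (BT.node 1285 (BT.node 1283 (BT.node 1282 (BT.node 1281 (BT.leaf cJ1281) (BT.leaf cJ1282)) (BT.leaf cJ1283)) (BT.node 1284 (BT.leaf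 cJ1284) (BT.leaf cJ1285))) (BT.node 1287 (BT.node 1286 (BT.leaf cJ1286) (BT.leaf cJ1287)) (BT.node 1288 (BT.leaf cJ1288) (BT.leaf cJ1289)))) (BT.node 1294 (BT.node 1292 (BT.node 1291 (BT.node 1290 (BT.leaf cJ1290) (BT.leaf cJ1291)) (BT.leaf cJ1292)) (BT.node 1293 (BT.leaf cJ1293) (BT.leaf cJ1294))) (BT.node 1296 (BT.node 1295 (BT.leaf cJ1295) (BT.leaf cJ1296)) (BT.node 1297 (BT.leaf cJ1297) (BT.leaf cJ1298))))) (BT.node 1307 (BT.node 1303 (BT.node 1301 (BT.node 1300 (BT.node 1299 (BT.leaf cJ1299) (BT.leaf cJ1300)) (BT.leaf cJ1301)) (BT.node 1302 (BT.leaf cJ1302) (BT.leaf cJ1303))) (BT.node 1305 (BT.node 1304 (BT.leaf cJ1304) (BT.leaf cJ1305)) (BT.node 1306 (BT.leaf cJ1306) (BT.leaf cJ1307)))) (BT.node 1312 (BT.node 1310 (BT.node 1309 (BT.node 1308 (BT.leaf cJ1308) (BT.leaf cJ1309)) (BT.leaf cJ1310)) (BT.node 1311 (BT.leaf cJ1311) (BT.leaf cJ1312))) (BT.node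 1314 (BT.node 1313 (BT.leaf cJ1313) (BT.leaf cJ1314)) (BT.node 1315 (BT.leaf cJ1315) (BT.leaf cJ1316)))))))) (BT.node 1389 (BT.node 1353 (BT.node 1335 (BT.node 1326 (BT.node 1321 (BT.node 1319 (BT.node 1318 (BT.node 1317 (BT.leaf cJ1317) (BT.leaf cJ1318)) (BT.leaf cJ1319)) (BT.node 1320 (BT.leaf cJ1320) (BT.leaf cJ1321))) (BT.node 1324 (BT.node 1323 (BT.node 1322 (BT.leaf cJ1322) (BT.leaf cJ1323)) (BT.leaf cJ1324)) (BT.node 1325 (BT.leaf cJ1325) (BT.leaf cJ1326)))) (BT.node 1331 (BT.node 1329 (BT.node 1328 (BT.node 1327 (BT.leaf cJ1327) (BT.leaf cJ1328)) (BT.leaf cJ1329)) (BT.node 1330 (BT.leaf cJ1330) (BT.leaf cJ1331))) (BT.node 1333 (BT.node 1332 (BT.leaf cJ1332) (BT.leaf cJ1333)) (BT.node 1334 (BT.leaf cJ1334) (BT.leaf cJ1335))))) (BT.node 1344 (BT.node 1340 (BT.node 1338 (BT.node 1337 (BT.node 1336 (BT.leaf cJ1336) (BT.leaf cJ1337)) (BT.leaf cJ1338)) (BT.node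 1339 (BT.leaf cJ1339) (BT.leaf cJ1340))) (BT.node 1342 (BT.node 1341 (BT.leaf cJ1341) (BT.leaf cJ1342)) (BT.node 1343 (BT.leaf cJ1343) (BT.leaf cJ1344)))) (BT.node 1349 (BT.node 1347 (BT.node 1346 (BT.node 1345 (BT.leaf cJ1345) (BT.leaf cJ1346)) (BT.leaf cJ1347)) (BT.node 1348 (BT.leaf cJ1348) (BT.leaf cJ1349))) (BT.node 1351 (BT.node 1350 (BT.leaf cJ1350) (BT.leaf cJ1351)) (BT.node 1352 (BT.leaf cJ1352) (BT.leaf cJ1353)))))) (BT.node 1371 (BT.node 1362 (BT.node 1358 (BT.node 1356 (BT.node 1355 (BT.node 1354 (BT.leaf cJ1354) (BT.leaf cJ1355)) (BT.leaf cJ1356)) (BT.node 1357 (BT.leaf cJ1357) (BT.leaf cJ1358))) (BT.node 1360 (BT.node 1359 (BT.leaf cJ1359) (BT.leaf cJ1360)) (BT.node 1361 (BT.leaf cJ1361) (BT.leaf cJ1362)))) (BT.node 1367 (BT.node 1365 (BT.node 1364 (BT.node 1363 (BT.leaf cJ1363) (BT.leaf cJ1364)) (BT.leaf cJ1365)) (BT.node 1366 (BT.leaf cJ1366)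 (BT.leaf cJ1367))) (BT.node 1369 (BT.node 1368 (BT.leaf cJ1368) (BT.leaf cJ1369)) (BT.node 1370 (BT.leaf cJ1370) (BT.leaf cJ1371))))) (BT.node 1380 (BT.node 1376 (BT.node 1374 (BT.node 1373 (BT.node 1372 (BT.leaf cJ1372) (BT.leaf cJ1373)) (BT.leaf cJ1374)) (BT.node 1375 (BT.leaf cJ1375) (BT.leaf cJ1376))) (BT.node 1378 (BT.node 1377 (BT.leaf cJ1377) (BT.leaf cJ1378)) (BT.node 1379 (BT.leaf cJ1379) (BT.leaf cJ1380)))) (BT.node 1385 (BT.node 1383 (BT.node 1382 (BT.node 1381 (BT.leaf cJ1381) (BT.leaf cJ1382)) (BT.leaf cJ1383)) (BT.node 1384 (BT.leaf cJ1384) (BT.leaf cJ1385))) (BT.node 1387 (BT.node 1386 (BT.leaf cJ1386) (BT.leaf cJ1387)) (BT.node 1388 (BT.leaf cJ1388) (BT.leaf cJ1389))))))) (BT.node 1426 (BT.node 1408 (BT.node 1399 (BT.node 1394 (BT.node 1392 (BT.node 1391 (BT.node 1390 (BT.leaf cJ1390) (BT.leaf cJ1391)) (BT.leaf cJ1392)) (BT.node 1393 (BT.leaf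 cJ1393) (BT.leaf cJ1394))) (BT.node 1397 (BT.node 1396 (BT.node 1395 (BT.leaf cJ1395) (BT.leaf cJ1396)) (BT.leaf cJ1397)) (BT.node 1398 (BT.leaf cJ1398) (BT.leaf cJ1399)))) (BT.node 1404 (BT.node 1402 (BT.node 1401 (BT.node 1400 (BT.leaf cJ1400) (BT.leaf cJ1401)) (BT.leaf cJ1402)) (BT.node 1403 (BT.leaf cJ1403) (BT.leaf cJ1404))) (BT.node 1406 (BT.node 1405 (BT.leaf cJ1405) (BT.leaf cJ1406)) (BT.node 1407 (BT.leaf cJ1407) (BT.leaf cJ1408))))) (BT.node 1417 (BT.node 1413 (BT.node 1411 (BT.node 1410 (BT.node 1409 (BT.leaf cJ1409) (BT.leaf cJ1410)) (BT.leaf cJ1411)) (BT.node 1412 (BT.leaf cJ1412) (BT.leaf cJ1413))) (BT.node 1415 (BT.node 1414 (BT.leaf cJ1414) (BT.leaf cJ1415)) (BT.node 1416 (BT.leaf cJ1416) (BT.leaf cJ1417)))) (BT.node 1422 (BT.node 1420 (BT.node 1419 (BT.node 1418 (BT.leaf cJ1418) (BT.leaf cJ1419)) (BT.leaf cJ1420)) (BT.node 1421 (BT.leaf cJ1421)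 (BT.leaf cJ1422))) (BT.node 1424 (BT.node 1423 (BT.leaf cJ1423) (BT.leaf cJ1424)) (BT.node 1425 (BT.leaf cJ1425) (BT.leaf cJ1426)))))) (BT.node 1444 (BT.node 1435 (BT.node 1431 (BT.node 1429 (BT.node 1428 (BT.node 1427 (BT.leaf cJ1427) (BT.leaf cJ1428)) (BT.leaf cJ1429)) (BT.node 1430 (BT.leaf cJ1430) (BT.leaf cJ1431))) (BT.node 1433 (BT.node 1432 (BT.leaf cJ1432) (BT.leaf cJ1433)) (BT.node 1434 (BT.leaf cJ1434) (BT.leaf cJ1435)))) (BT.node 1440 (BT.node 1438 (BT.node 1437 (BT.node 1436 (BT.leaf cJ1436) (BT.leaf cJ1437)) (BT.leaf cJ1438)) (BT.node 1439 (BT.leaf cJ1439) (BT.leaf cJ1440))) (BT.node 1442 (BT.node 1441 (BT.leaf cJ1441) (BT.leaf cJ1442)) (BT.node 1443 (BT.leaf cJ1443) (BT.leaf cJ1444))))) (BT.node 1453 (BT.node 1449 (BT.node 1447 (BT.node 1446 (BT.node 1445 (BT.leaf cJ1445) (BT.leaf cJ1446)) (BT.leaf cJ1447)) (BT.node 1448 (BT.leaf cJ1448) (BT.leaf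 cJ1449))) (BT.node 1451 (BT.node 1450 (BT.leaf cJ1450) (BT.leaf cJ1451)) (BT.node 1452 (BT.leaf cJ1452) (BT.leaf cJ1453)))) (BT.node 1458 (BT.node 1456 (BT.node 1455 (BT.node 1454 (BT.leaf cJ1454) (BT.leaf cJ1455)) (BT.leaf cJ1456)) (BT.node 1457 (BT.leaf cJ1457) (BT.leaf cJ1458))) (BT.node 1460 (BT.node 1459 (BT.leaf cJ1459) (BT.leaf cJ1460)) (BT.node 1461 (BT.leaf cJ1461) (BT.leaf cJ1462))))))))) (BT.node 1608 (BT.node 1535 (BT.node 1499 (BT.node 1481 (BT.node 1472 (BT.node 1467 (BT.node 1465 (BT.node 1464 (BT.node 1463 (BT.leaf cJ1463) (BT.leaf cJ1464)) (BT.leaf cJ1465)) (BT.node 1466 (BT.leaf cJ1466) (BT.leaf cJ1467))) (BT.node 1470 (BT.node 1469 (BT.node 1468 (BT.leaf cJ1468) (BT.leaf cJ1469)) (BT.leaf cJ1470)) (BT.node 1471 (BT.leaf cJ1471) (BT.leaf cJ1472)))) (BT.node 1477 (BT.node 1475 (BT.node 1474 (BT.node 1473 (BT.leaf cJ1473) (BT.leaf cJ1474)) (BT.leaf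 cJ1475)) (BT.node 1476 (BT.leaf cJ1476) (BT.leaf cJ1477))) (BT.node 1479 (BT.node 1478 (BT.leaf cJ1478) (BT.leaf cJ1479)) (BT.node 1480 (BT.leaf cJ1480) (BT.leaf cJ1481))))) (BT.node 1490 (BT.node 1486 (BT.node 1484 (BT.node 1483 (BT.node 1482 (BT.leaf cJ1482) (BT.leaf cJ1483)) (BT.leaf cJ1484)) (BT.node 1485 (BT.leaf cJ1485) (BT.leaf cJ1486))) (BT.node 1488 (BT.node 1487 (BT.leaf cJ1487) (BT.leaf cJ1488)) (BT.node 1489 (BT.leaf cJ1489) (BT.leaf cJ1490)))) (BT.node 1495 (BT.node 1493 (BT.node 1492 (BT.node 1491 (BT.leaf cJ1491) (BT.leaf cJ1492)) (BT.leaf cJ1493)) (BT.node 1494 (BT.leaf cJ1494) (BT.leaf cJ1495))) (BT.node 1497 (BT.node 1496 (BT.leaf cJ1496) (BT.leaf cJ1497)) (BT.node 1498 (BT.leaf cJ1498) (BT.leaf cJ1499)))))) (BT.node 1517 (BT.node 1508 (BT.node 1504 (BT.node 1502 (BT.node 1501 (BT.node 1500 (BT.leaf cJ1500) (BT.leaf cJ1501)) (BT.leaf cJ1502))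 (BT.node 1503 (BT.leaf cJ1503) (BT.leaf cJ1504))) (BT.node 1506 (BT.node 1505 (BT.leaf cJ1505) (BT.leaf cJ1506)) (BT.node 1507 (BT.leaf cJ1507) (BT.leaf cJ1508)))) (BT.node 1513 (BT.node 1511 (BT.node 1510 (BT.node 1509 (BT.leaf cJ1509) (BT.leaf cJ1510)) (BT.leaf cJ1511)) (BT.node 1512 (BT.leaf cJ1512) (BT.leaf cJ1513))) (BT.node 1515 (BT.node 1514 (BT.leaf cJ1514) (BT.leaf cJ1515)) (BT.node 1516 (BT.leaf cJ1516) (BT.leaf cJ1517))))) (BT.node 1526 (BT.node 1522 (BT.node 1520 (BT.node 1519 (BT.node 1518 (BT.leaf cJ1518) (BT.leaf cJ1519)) (BT.leaf cJ1520)) (BT.node 1521 (BT.leaf cJ1521) (BT.leaf cJ1522))) (BT.node 1524 (BT.node 1523 (BT.leaf cJ1523) (BT.leaf cJ1524)) (BT.node 1525 (BT.leaf cJ1525) (BT.leaf cJ1526)))) (BT.node 1531 (BT.node 1529 (BT.node 1528 (BT.node 1527 (BT.leaf cJ1527) (BT.leaf cJ1528)) (BT.leaf cJ1529)) (BT.node 1530 (BT.leaf cJ1530) (BT.leaf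 cJ1531))) (BT.node 1533 (BT.node 1532 (BT.leaf cJ1532) (BT.leaf cJ1533)) (BT.node 1534 (BT.leaf cJ1534) (BT.leaf cJ1535))))))) (BT.node 1572 (BT.node 1554 (BT.node 1545 (BT.node 1540 (BT.node 1538 (BT.node 1537 (BT.node 1536 (BT.leaf cJ1536) (BT.leaf cJ1537)) (BT.leaf cJ1538)) (BT.node 1539 (BT.leaf cJ1539) (BT.leaf cJ1540))) (BT.node 1543 (BT.node 1542 (BT.node 1541 (BT.leaf cJ1541) (BT.leaf cJ1542)) (BT.leaf cJ1543)) (BT.node 1544 (BT.leaf cJ1544) (BT.leaf cJ1545)))) (BT.node 1550 (BT.node 1548 (BT.node 1547 (BT.node 1546 (BT.leaf cJ1546) (BT.leaf cJ1547)) (BT.leaf cJ1548)) (BT.node 1549 (BT.leaf cJ1549) (BT.leaf cJ1550))) (BT.node 1552 (BT.node 1551 (BT.leaf cJ1551) (BT.leaf cJ1552)) (BT.node 1553 (BT.leaf cJ1553) (BT.leaf cJ1554))))) (BT.node 1563 (BT.node 1559 (BT.node 1557 (BT.node 1556 (BT.node 1555 (BT.leaf cJ1555) (BT.leaf cJ1556)) (BT.leaf cJ1557))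 (BT.node 1558 (BT.leaf cJ1558) (BT.leaf cJ1559))) (BT.node 1561 (BT.node 1560 (BT.leaf cJ1560) (BT.leaf cJ1561)) (BT.node 1562 (BT.leaf cJ1562) (BT.leaf cJ1563)))) (BT.node 1568 (BT.node 1566 (BT.node 1565 (BT.node 1564 (BT.leaf cJ1564) (BT.leaf cJ1565)) (BT.leaf cJ1566)) (BT.node 1567 (BT.leaf cJ1567) (BT.leaf cJ1568))) (BT.node 1570 (BT.node 1569 (BT.leaf cJ1569) (BT.leaf cJ1570)) (BT.node 1571 (BT.leaf cJ1571) (BT.leaf cJ1572)))))) (BT.node 1590 (BT.node 1581 (BT.node 1577 (BT.node 1575 (BT.node 1574 (BT.node 1573 (BT.leaf cJ1573) (BT.leaf cJ1574)) (BT.leaf cJ1575)) (BT.node 1576 (BT.leaf cJ1576) (BT.leaf cJ1577))) (BT.node 1579 (BT.node 1578 (BT.leaf cJ1578) (BT.leaf cJ1579)) (BT.node 1580 (BT.leaf cJ1580) (BT.leaf cJ1581)))) (BT.node 1586 (BT.node 1584 (BT.node 1583 (BT.node 1582 (BT.leaf cJ1582) (BT.leaf cJ1583)) (BT.leaf cJ1584)) (BT.node 1585 (BT.leaf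 cJ1585) (BT.leaf cJ1586))) (BT.node 1588 (BT.node 1587 (BT.leaf cJ1587) (BT.leaf cJ1588)) (BT.node 1589 (BT.leaf cJ1589) (BT.leaf cJ1590))))) (BT.node 1599 (BT.node 1595 (BT.node 1593 (BT.node 1592 (BT.node 1591 (BT.leaf cJ1591) (BT.leaf cJ1592)) (BT.leaf cJ1593)) (BT.node 1594 (BT.leaf cJ1594) (BT.leaf cJ1595))) (BT.node 1597 (BT.node 1596 (BT.leaf cJ1596) (BT.leaf cJ1597)) (BT.node 1598 (BT.leaf cJ1598) (BT.leaf cJ1599)))) (BT.node 1604 (BT.node 1602 (BT.node 1601 (BT.node 1600 (BT.leaf cJ1600) (BT.leaf cJ1601)) (BT.leaf cJ1602)) (BT.node 1603 (BT.leaf cJ1603) (BT.leaf cJ1604))) (BT.node 1606 (BT.node 1605 (BT.leaf cJ1605) (BT.leaf cJ1606)) (BT.node 1607 (BT.leaf cJ1607) (BT.leaf cJ1608)))))))) (BT.node 1681 (BT.node 1645 (BT.node 1627 (BT.node 1618 (BT.node 1613 (BT.node 1611 (BT.node 1610 (BT.node 1609 (BT.leaf cJ1609) (BT.leaf cJ1610)) (BT.leaf cJ1611))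 (BT.node 1612 (BT.leaf cJ1612) (BT.leaf cJ1613))) (BT.node 1616 (BT.node 1615 (BT.node 1614 (BT.leaf cJ1614) (BT.leaf cJ1615)) (BT.leaf cJ1616)) (BT.node 1617 (BT.leaf cJ1617) (BT.leaf cJ1618)))) (BT.node 1623 (BT.node 1621 (BT.node 1620 (BT.node 1619 (BT.leaf cJ1619) (BT.leaf cJ1620)) (BT.leaf cJ1621)) (BT.node 1622 (BT.leaf cJ1622) (BT.leaf cJ1623))) (BT.node 1625 (BT.node 1624 (BT.leaf cJ1624) (BT.leaf cJ1625)) (BT.node 1626 (BT.leaf cJ1626) (BT.leaf cJ1627))))) (BT.node 1636 (BT.node 1632 (BT.node 1630 (BT.node 1629 (BT.node 1628 (BT.leaf cJ1628) (BT.leaf cJ1629)) (BT.leaf cJ1630)) (BT.node 1631 (BT.leaf cJ1631) (BT.leaf cJ1632))) (BT.node 1634 (BT.node 1633 (BT.leaf cJ1633) (BT.leaf cJ1634)) (BT.node 1635 (BT.leaf cJ1635) (BT.leaf cJ1636)))) (BT.node 1641 (BT.node 1639 (BT.node 1638 (BT.node 1637 (BT.leaf cJ1637) (BT.leaf cJ1638)) (BT.leaf cJ1639)) (BT.node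 1640 (BT.leaf cJ1640) (BT.leaf cJ1641))) (BT.node 1643 (BT.node 1642 (BT.leaf cJ1642) (BT.leaf cJ1643)) (BT.node 1644 (BT.leaf cJ1644) (BT.leaf cJ1645)))))) (BT.node 1663 (BT.node 1654 (BT.node 1650 (BT.node 1648 (BT.node 1647 (BT.node 1646 (BT.leaf cJ1646) (BT.leaf cJ1647)) (BT.leaf cJ1648)) (BT.node 1649 (BT.leaf cJ1649) (BT.leaf cJ1650))) (BT.node 1652 (BT.node 1651 (BT.leaf cJ1651) (BT.leaf cJ1652)) (BT.node 1653 (BT.leaf cJ1653) (BT.leaf cJ1654)))) (BT.node 1659 (BT.node 1657 (BT.node 1656 (BT.node 1655 (BT.leaf cJ1655) (BT.leaf cJ1656)) (BT.leaf cJ1657)) (BT.node 1658 (BT.leaf cJ1658) (BT.leaf cJ1659))) (BT.node 1661 (BT.node 1660 (BT.leaf cJ1660) (BT.leaf cJ1661)) (BT.node 1662 (BT.leaf cJ1662) (BT.leaf cJ1663))))) (BT.node 1672 (BT.node 1668 (BT.node 1666 (BT.node 1665 (BT.node 1664 (BT.leaf cJ1664) (BT.leaf cJ1665)) (BT.leaf cJ1666)) (BT.node 1667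 (BT.leaf cJ1667) (BT.leaf cJ1668))) (BT.node 1670 (BT.node 1669 (BT.leaf cJ1669) (BT.leaf cJ1670)) (BT.node 1671 (BT.leaf cJ1671) (BT.leaf cJ1672)))) (BT.node 1677 (BT.node 1675 (BT.node 1674 (BT.node 1673 (BT.leaf cJ1673) (BT.leaf cJ1674)) (BT.leaf cJ1675)) (BT.node 1676 (BT.leaf cJ1676) (BT.leaf cJ1677))) (BT.node 1679 (BT.node 1678 (BT.leaf cJ1678) (BT.leaf cJ1679)) (BT.node 1680 (BT.leaf cJ1680) (BT.leaf cJ1681))))))) (BT.node 1718 (BT.node 1700 (BT.node 1691 (BT.node 1686 (BT.node 1684 (BT.node 1683 (BT.node 1682 (BT.leaf cJ1682) (BT.leaf cJ1683)) (BT.leaf cJ1684)) (BT.node 1685 (BT.leaf cJ1685) (BT.leaf cJ1686))) (BT.node 1689 (BT.node 1688 (BT.node 1687 (BT.leaf cJ1687) (BT.leaf cJ1688)) (BT.leaf cJ1689)) (BT.node 1690 (BT.leaf cJ1690) (BT.leaf cJ1691)))) (BT.node 1696 (BT.node 1694 (BT.node 1693 (BT.node 1692 (BT.leaf cJ1692) (BT.leaf cJ1693)) (BT.leaf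 cJ1694)) (BT.node 1695 (BT.leaf cJ1695) (BT.leaf cJ1696))) (BT.node 1698 (BT.node 1697 (BT.leaf cJ1697) (BT.leaf cJ1698)) (BT.node 1699 (BT.leaf cJ1699) (BT.leaf cJ1700))))) (BT.node 1709 (BT.node 1705 (BT.node 1703 (BT.node 1702 (BT.node 1701 (BT.leaf cJ1701) (BT.leaf cJ1702)) (BT.leaf cJ1703)) (BT.node 1704 (BT.leaf cJ1704) (BT.leaf cJ1705))) (BT.node 1707 (BT.node 1706 (BT.leaf cJ1706) (BT.leaf cJ1707)) (BT.node 1708 (BT.leaf cJ1708) (BT.leaf cJ1709)))) (BT.node 1714 (BT.node 1712 (BT.node 1711 (BT.node 1710 (BT.leaf cJ1710) (BT.leaf cJ1711)) (BT.leaf cJ1712)) (BT.node 1713 (BT.leaf cJ1713) (BT.leaf cJ1714))) (BT.node 1716 (BT.node 1715 (BT.leaf cJ1715) (BT.leaf cJ1716)) (BT.node 1717 (BT.leaf cJ1717) (BT.leaf cJ1718)))))) (BT.node 1736 (BT.node 1727 (BT.node 1723 (BT.node 1721 (BT.node 1720 (BT.node 1719 (BT.leaf cJ1719) (BT.leaf cJ1720)) (BT.leaf cJ1721))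 (BT.node 1722 (BT.leaf cJ1722) (BT.leaf cJ1723))) (BT.node 1725 (BT.node 1724 (BT.leaf cJ1724) (BT.leaf cJ1725)) (BT.node 1726 (BT.leaf cJ1726) (BT.leaf cJ1727)))) (BT.node 1732 (BT.node 1730 (BT.node 1729 (BT.node 1728 (BT.leaf cJ1728) (BT.leaf cJ1729)) (BT.leaf cJ1730)) (BT.node 1731 (BT.leaf cJ1731) (BT.leaf cJ1732))) (BT.node 1734 (BT.node 1733 (BT.leaf cJ1733) (BT.leaf cJ1734)) (BT.node 1735 (BT.leaf cJ1735) (BT.leaf cJ1736))))) (BT.node 1745 (BT.node 1741 (BT.node 1739 (BT.node 1738 (BT.node 1737 (BT.leaf cJ1737) (BT.leaf cJ1738)) (BT.leaf cJ1739)) (BT.node 1740 (BT.leaf cJ1740) (BT.leaf cJ1741))) (BT.node 1743 (BT.node 1742 (BT.leaf cJ1742) (BT.leaf cJ1743)) (BT.node 1744 (BT.leaf cJ1744) (BT.leaf cJ1745)))) (BT.node 1750 (BT.node 1748 (BT.node 1747 (BT.node 1746 (BT.leaf cJ1746) (BT.leaf cJ1747)) (BT.leaf cJ1748)) (BT.node 1749 (BT.leaf cJ1749) (BT.leaf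 cJ1750))) (BT.node 1752 (BT.node 1751 (BT.leaf cJ1751) (BT.leaf cJ1752)) (BT.node 1753 (BT.leaf cJ1753) (BT.leaf cJ1754)))))))))) (BT.node 2047 (BT.node 1901 (BT.node 1828 (BT.node 1791 (BT.node 1773 (BT.node 1764 (BT.node 1759 (BT.node 1757 (BT.node 1756 (BT.node 1755 (BT.leaf cJ1755) (BT.leaf cJ1756)) (BT.leaf cJ1757)) (BT.node 1758 (BT.leaf cJ1758) (BT.leaf cJ1759))) (BT.node 1762 (BT.node 1761 (BT.node 1760 (BT.leaf cJ1760) (BT.leaf cJ1761)) (BT.leaf cJ1762)) (BT.node 1763 (BT.leaf cJ1763) (BT.leaf cJ1764)))) (BT.node 1769 (BT.node 1767 (BT.node 1766 (BT.node 1765 (BT.leaf cJ1765) (BT.leaf cJ1766)) (BT.leaf cJ1767)) (BT.node 1768 (BT.leaf cJ1768) (BT.leaf cJ1769))) (BT.node 1771 (BT.node 1770 (BT.leaf cJ1770) (BT.leaf cJ1771)) (BT.node 1772 (BT.leaf cJ1772) (BT.leaf cJ1773))))) (BT.node 1782 (BT.node 1778 (BT.node 1776 (BT.node 1775 (BT.node 1774 (BT.leaf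 cJ1774) (BT.leaf cJ1775)) (BT.leaf cJ1776)) (BT.node 1777 (BT.leaf cJ1777) (BT.leaf cJ1778))) (BT.node 1780 (BT.node 1779 (BT.leaf cJ1779) (BT.leaf cJ1780)) (BT.node 1781 (BT.leaf cJ1781) (BT.leaf cJ1782)))) (BT.node 1787 (BT.node 1785 (BT.node 1784 (BT.node 1783 (BT.leaf cJ1783) (BT.leaf cJ1784)) (BT.leaf cJ1785)) (BT.node 1786 (BT.leaf cJ1786) (BT.leaf cJ1787))) (BT.node 1789 (BT.node 1788 (BT.leaf cJ1788) (BT.leaf cJ1789)) (BT.node 1790 (BT.leaf cJ1790) (BT.leaf cJ1791)))))) (BT.node 1810 (BT.node 1801 (BT.node 1796 (BT.node 1794 (BT.node 1793 (BT.node 1792 (BT.leaf cJ1792) (BT.leaf cJ1793)) (BT.leaf cJ1794)) (BT.node 1795 (BT.leaf cJ1795) (BT.leaf cJ1796))) (BT.node 1799 (BT.node 1798 (BT.node 1797 (BT.leaf cJ1797) (BT.leaf cJ1798)) (BT.leaf cJ1799)) (BT.node 1800 (BT.leaf cJ1800) (BT.leaf cJ1801)))) (BT.node 1806 (BT.node 1804 (BT.node 1803 (BT.node 1802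 (BT.leaf cJ1802) (BT.leaf cJ1803)) (BT.leaf cJ1804)) (BT.node 1805 (BT.leaf cJ1805) (BT.leaf cJ1806))) (BT.node 1808 (BT.node 1807 (BT.leaf cJ1807) (BT.leaf cJ1808)) (BT.node 1809 (BT.leaf cJ1809) (BT.leaf cJ1810))))) (BT.node 1819 (BT.node 1815 (BT.node 1813 (BT.node 1812 (BT.node 1811 (BT.leaf cJ1811) (BT.leaf cJ1812)) (BT.leaf cJ1813)) (BT.node 1814 (BT.leaf cJ1814) (BT.leaf cJ1815))) (BT.node 1817 (BT.node 1816 (BT.leaf cJ1816) (BT.leaf cJ1817)) (BT.node 1818 (BT.leaf cJ1818) (BT.leaf cJ1819)))) (BT.node 1824 (BT.node 1822 (BT.node 1821 (BT.node 1820 (BT.leaf cJ1820) (BT.leaf cJ1821)) (BT.leaf cJ1822)) (BT.node 1823 (BT.leaf cJ1823) (BT.leaf cJ1824))) (BT.node 1826 (BT.node 1825 (BT.leaf cJ1825) (BT.leaf cJ1826)) (BT.node 1827 (BT.leaf cJ1827) (BT.leaf cJ1828))))))) (BT.node 1865 (BT.node 1847 (BT.node 1838 (BT.node 1833 (BT.node 1831 (BT.node 1830 (BT.node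 1829 (BT.leaf cJ1829) (BT.leaf cJ1830)) (BT.leaf cJ1831)) (BT.node 1832 (BT.leaf cJ1832) (BT.leaf cJ1833))) (BT.node 1836 (BT.node 1835 (BT.node 1834 (BT.leaf cJ1834) (BT.leaf cJ1835)) (BT.leaf cJ1836)) (BT.node 1837 (BT.leaf cJ1837) (BT.leaf cJ1838)))) (BT.node 1843 (BT.node 1841 (BT.node 1840 (BT.node 1839 (BT.leaf cJ1839) (BT.leaf cJ1840)) (BT.leaf cJ1841)) (BT.node 1842 (BT.leaf cJ1842) (BT.leaf cJ1843))) (BT.node 1845 (BT.node 1844 (BT.leaf cJ1844) (BT.leaf cJ1845)) (BT.node 1846 (BT.leaf cJ1846) (BT.leaf cJ1847))))) (BT.node 1856 (BT.node 1852 (BT.node 1850 (BT.node 1849 (BT.node 1848 (BT.leaf cJ1848) (BT.leaf cJ1849)) (BT.leaf cJ1850)) (BT.node 1851 (BT.leaf cJ1851) (BT.leaf cJ1852))) (BT.node 1854 (BT.node 1853 (BT.leaf cJ1853) (BT.leaf cJ1854)) (BT.node 1855 (BT.leaf cJ1855) (BT.leaf cJ1856)))) (BT.node 1861 (BT.node 1859 (BT.node 1858 (BT.node 1857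 (BT.leaf cJ1857) (BT.leaf cJ1858)) (BT.leaf cJ1859)) (BT.node 1860 (BT.leaf cJ1860) (BT.leaf cJ1861))) (BT.node 1863 (BT.node 1862 (BT.leaf cJ1862) (BT.leaf cJ1863)) (BT.node 1864 (BT.leaf cJ1864) (BT.leaf cJ1865)))))) (BT.node 1883 (BT.node 1874 (BT.node 1870 (BT.node 1868 (BT.node 1867 (BT.node 1866 (BT.leaf cJ1866) (BT.leaf cJ1867)) (BT.leaf cJ1868)) (BT.node 1869 (BT.leaf cJ1869) (BT.leaf cJ1870))) (BT.node 1872 (BT.node 1871 (BT.leaf cJ1871) (BT.leaf cJ1872)) (BT.node 1873 (BT.leaf cJ1873) (BT.leaf cJ1874)))) (BT.node 1879 (BT.node 1877 (BT.node 1876 (BT.node 1875 (BT.leaf cJ1875) (BT.leaf cJ1876)) (BT.leaf cJ1877)) (BT.node 1878 (BT.leaf cJ1878) (BT.leaf cJ1879))) (BT.node 1881 (BT.node 1880 (BT.leaf cJ1880) (BT.leaf cJ1881)) (BT.node 1882 (BT.leaf cJ1882) (BT.leaf cJ1883))))) (BT.node 1892 (BT.node 1888 (BT.node 1886 (BT.node 1885 (BT.node 1884 (BT.leaf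 cJ1884) (BT.leaf cJ1885)) (BT.leaf cJ1886)) (BT.node 1887 (BT.leaf cJ1887) (BT.leaf cJ1888))) (BT.node 1890 (BT.node 1889 (BT.leaf cJ1889) (BT.leaf cJ1890)) (BT.node 1891 (BT.leaf cJ1891) (BT.leaf cJ1892)))) (BT.node 1897 (BT.node 1895 (BT.node 1894 (BT.node 1893 (BT.leaf cJ1893) (BT.leaf cJ1894)) (BT.leaf cJ1895)) (BT.node 1896 (BT.leaf cJ1896) (BT.leaf cJ1897))) (BT.node 1899 (BT.node 1898 (BT.leaf cJ1898) (BT.leaf cJ1899)) (BT.node 1900 (BT.leaf cJ1900) (BT.leaf cJ1901)))))))) (BT.node 1974 (BT.node 1938 (BT.node 1920 (BT.node 1911 (BT.node 1906 (BT.node 1904 (BT.node 1903 (BT.node 1902 (BT.leaf cJ1902) (BT.leaf cJ1903)) (BT.leaf cJ1904)) (BT.node 1905 (BT.leaf cJ1905) (BT.leaf cJ1906))) (BT.node 1909 (BT.node 1908 (BT.node 1907 (BT.leaf cJ1907) (BT.leaf cJ1908)) (BT.leaf cJ1909)) (BT.node 1910 (BT.leaf cJ1910) (BT.leaf cJ1911)))) (BT.node 1916 (BT.node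 1914 (BT.node 1913 (BT.node 1912 (BT.leaf cJ1912) (BT.leaf cJ1913)) (BT.leaf cJ1914)) (BT.node 1915 (BT.leaf cJ1915) (BT.leaf cJ1916))) (BT.node 1918 (BT.node 1917 (BT.leaf cJ1917) (BT.leaf cJ1918)) (BT.node 1919 (BT.leaf cJ1919) (BT.leaf cJ1920))))) (BT.node 1929 (BT.node 1925 (BT.node 1923 (BT.node 1922 (BT.node 1921 (BT.leaf cJ1921) (BT.leaf cJ1922)) (BT.leaf cJ1923)) (BT.node 1924 (BT.leaf cJ1924) (BT.leaf cJ1925))) (BT.node 1927 (BT.node 1926 (BT.leaf cJ1926) (BT.leaf cJ1927)) (BT.node 1928 (BT.leaf cJ1928) (BT.leaf cJ1929)))) (BT.node 1934 (BT.node 1932 (BT.node 1931 (BT.node 1930 (BT.leaf cJ1930) (BT.leaf cJ1931)) (BT.leaf cJ1932)) (BT.node 1933 (BT.leaf cJ1933) (BT.leaf cJ1934))) (BT.node 1936 (BT.node 1935 (BT.leaf cJ1935) (BT.leaf cJ1936)) (BT.node 1937 (BT.leaf cJ1937) (BT.leaf cJ1938)))))) (BT.node 1956 (BT.node 1947 (BT.node 1943 (BT.node 1941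 (BT.node 1940 (BT.node 1939 (BT.leaf cJ1939) (BT.leaf cJ1940)) (BT.leaf cJ1941)) (BT.node 1942 (BT.leaf cJ1942) (BT.leaf cJ1943))) (BT.node 1945 (BT.node 1944 (BT.leaf cJ1944) (BT.leaf cJ1945)) (BT.node 1946 (BT.leaf cJ1946) (BT.leaf cJ1947)))) (BT.node 1952 (BT.node 1950 (BT.node 1949 (BT.node 1948 (BT.leaf cJ1948) (BT.leaf cJ1949)) (BT.leaf cJ1950)) (BT.node 1951 (BT.leaf cJ1951) (BT.leaf cJ1952))) (BT.node 1954 (BT.node 1953 (BT.leaf cJ1953) (BT.leaf cJ1954)) (BT.node 1955 (BT.leaf cJ1955) (BT.leaf cJ1956))))) (BT.node 1965 (BT.node 1961 (BT.node 1959 (BT.node 1958 (BT.node 1957 (BT.leaf cJ1957) (BT.leaf cJ1958)) (BT.leaf cJ1959)) (BT.node 1960 (BT.leaf cJ1960) (BT.leaf cJ1961))) (BT.node 1963 (BT.node 1962 (BT.leaf cJ1962) (BT.leaf cJ1963)) (BT.node 1964 (BT.leaf cJ1964) (BT.leaf cJ1965)))) (BT.node 1970 (BT.node 1968 (BT.node 1967 (BT.node 1966 (BT.leaf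 cJ1966) (BT.leaf cJ1967)) (BT.leaf cJ1968)) (BT.node 1969 (BT.leaf cJ1969) (BT.leaf cJ1970))) (BT.node 1972 (BT.node 1971 (BT.leaf cJ1971) (BT.leaf cJ1972)) (BT.node 1973 (BT.leaf cJ1973) (BT.leaf cJ1974))))))) (BT.node 2011 (BT.node 1993 (BT.node 1984 (BT.node 1979 (BT.node 1977 (BT.node 1976 (BT.node 1975 (BT.leaf cJ1975) (BT.leaf cJ1976)) (BT.leaf cJ1977)) (BT.node 1978 (BT.leaf cJ1978) (BT.leaf cJ1979))) (BT.node 1982 (BT.node 1981 (BT.node 1980 (BT.leaf cJ1980) (BT.leaf cJ1981)) (BT.leaf cJ1982)) (BT.node 1983 (BT.leaf cJ1983) (BT.leaf cJ1984)))) (BT.node 1989 (BT.node 1987 (BT.node 1986 (BT.node 1985 (BT.leaf cJ1985) (BT.leaf cJ1986)) (BT.leaf cJ1987)) (BT.node 1988 (BT.leaf cJ1988) (BT.leaf cJ1989))) (BT.node 1991 (BT.node 1990 (BT.leaf cJ1990) (BT.leaf cJ1991)) (BT.node 1992 (BT.leaf cJ1992) (BT.leaf cJ1993))))) (BT.node 2002 (BT.node 1998 (BT.node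 1996 (BT.node 1995 (BT.node 1994 (BT.leaf cJ1994) (BT.leaf cJ1995)) (BT.leaf cJ1996)) (BT.node 1997 (BT.leaf cJ1997) (BT.leaf cJ1998))) (BT.node 2000 (BT.node 1999 (BT.leaf cJ1999) (BT.leaf cJ2000)) (BT.node 2001 (BT.leaf cJ2001) (BT.leaf cJ2002)))) (BT.node 2007 (BT.node 2005 (BT.node 2004 (BT.node 2003 (BT.leaf cJ2003) (BT.leaf cJ2004)) (BT.leaf cJ2005)) (BT.node 2006 (BT.leaf cJ2006) (BT.leaf cJ2007))) (BT.node 2009 (BT.node 2008 (BT.leaf cJ2008) (BT.leaf cJ2009)) (BT.node 2010 (BT.leaf cJ2010) (BT.leaf cJ2011)))))) (BT.node 2029 (BT.node 2020 (BT.node 2016 (BT.node 2014 (BT.node 2013 (BT.node 2012 (BT.leaf cJ2012) (BT.leaf cJ2013)) (BT.leaf cJ2014)) (BT.node 2015 (BT.leaf cJ2015) (BT.leaf cJ2016))) (BT.node 2018 (BT.node 2017 (BT.leaf cJ2017) (BT.leaf cJ2018)) (BT.node 2019 (BT.leaf cJ2019) (BT.leaf cJ2020)))) (BT.node 2025 (BT.node 2023 (BT.node 2022 (BT.node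 2021 (BT.leaf cJ2021) (BT.leaf cJ2022)) (BT.leaf cJ2023)) (BT.node 2024 (BT.leaf cJ2024) (BT.leaf cJ2025))) (BT.node 2027 (BT.node 2026 (BT.leaf cJ2026) (BT.leaf cJ2027)) (BT.node 2028 (BT.leaf cJ2028) (BT.leaf cJ2029))))) (BT.node 2038 (BT.node 2034 (BT.node 2032 (BT.node 2031 (BT.node 2030 (BT.leaf cJ2030) (BT.leaf cJ2031)) (BT.leaf cJ2032)) (BT.node 2033 (BT.leaf cJ2033) (BT.leaf cJ2034))) (BT.node 2036 (BT.node 2035 (BT.leaf cJ2035) (BT.leaf cJ2036)) (BT.node 2037 (BT.leaf cJ2037) (BT.leaf cJ2038)))) (BT.node 2043 (BT.node 2041 (BT.node 2040 (BT.node 2039 (BT.leaf cJ2039) (BT.leaf cJ2040)) (BT.leaf cJ2041)) (BT.node 2042 (BT.leaf cJ2042) (BT.leaf cJ2043))) (BT.node 2045 (BT.node 2044 (BT.leaf cJ2044) (BT.leaf cJ2045)) (BT.node 2046 (BT.leaf cJ2046) (BT.leaf cJ2047))))))))) (BT.node 2193 (BT.node 2120 (BT.node 2084 (BT.node 2066 (BT.node 2057 (BT.node 2052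 (BT.node 2050 (BT.node 2049 (BT.node 2048 (BT.leaf cJ2048) (BT.leaf cJ2049)) (BT.leaf cJ2050)) (BT.node 2051 (BT.leaf cJ2051) (BT.leaf cJ2052))) (BT.node 2055 (BT.node 2054 (BT.node 2053 (BT.leaf cJ2053) (BT.leaf cJ2054)) (BT.leaf cJ2055)) (BT.node 2056 (BT.leaf cJ2056) (BT.leaf cJ2057)))) (BT.node 2062 (BT.node 2060 (BT.node 2059 (BT.node 2058 (BT.leaf cJ2058) (BT.leaf cJ2059)) (BT.leaf cJ2060)) (BT.node 2061 (BT.leaf cJ2061) (BT.leaf cJ2062))) (BT.node 2064 (BT.node 2063 (BT.leaf cJ2063) (BT.leaf cJ2064)) (BT.node 2065 (BT.leaf cJ2065) (BT.leaf cJ2066))))) (BT.node 2075 (BT.node 2071 (BT.node 2069 (BT.node 2068 (BT.node 2067 (BT.leaf cJ2067) (BT.leaf cJ2068)) (BT.leaf cJ2069)) (BT.node 2070 (BT.leaf cJ2070) (BT.leaf cJ2071))) (BT.node 2073 (BT.node 2072 (BT.leaf cJ2072) (BT.leaf cJ2073)) (BT.node 2074 (BT.leaf cJ2074) (BT.leaf cJ2075)))) (BT.node 2080 (BT.node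 2078 (BT.node 2077 (BT.node 2076 (BT.leaf cJ2076) (BT.leaf cJ2077)) (BT.leaf cJ2078)) (BT.node 2079 (BT.leaf cJ2079) (BT.leaf cJ2080))) (BT.node 2082 (BT.node 2081 (BT.leaf cJ2081) (BT.leaf cJ2082)) (BT.node 2083 (BT.leaf cJ2083) (BT.leaf cJ2084)))))) (BT.node 2102 (BT.node 2093 (BT.node 2089 (BT.node 2087 (BT.node 2086 (BT.node 2085 (BT.leaf cJ2085) (BT.leaf cJ2086)) (BT.leaf cJ2087)) (BT.node 2088 (BT.leaf cJ2088) (BT.leaf cJ2089))) (BT.node 2091 (BT.node 2090 (BT.leaf cJ2090) (BT.leaf cJ2091)) (BT.node 2092 (BT.leaf cJ2092) (BT.leaf cJ2093)))) (BT.node 2098 (BT.node 2096 (BT.node 2095 (BT.node 2094 (BT.leaf cJ2094) (BT.leaf cJ2095)) (BT.leaf cJ2096)) (BT.node 2097 (BT.leaf cJ2097) (BT.leaf cJ2098))) (BT.node 2100 (BT.node 2099 (BT.leaf cJ2099) (BT.leaf cJ2100)) (BT.node 2101 (BT.leaf cJ2101) (BT.leaf cJ2102))))) (BT.node 2111 (BT.node 2107 (BT.node 2105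 (BT.node 2104 (BT.node 2103 (BT.leaf cJ2103) (BT.leaf cJ2104)) (BT.leaf cJ2105)) (BT.node 2106 (BT.leaf cJ2106) (BT.leaf cJ2107))) (BT.node 2109 (BT.node 2108 (BT.leaf cJ2108) (BT.leaf cJ2109)) (BT.node 2110 (BT.leaf cJ2110) (BT.leaf cJ2111)))) (BT.node 2116 (BT.node 2114 (BT.node 2113 (BT.node 2112 (BT.leaf cJ2112) (BT.leaf cJ2113)) (BT.leaf cJ2114)) (BT.node 2115 (BT.leaf cJ2115) (BT.leaf cJ2116))) (BT.node 2118 (BT.node 2117 (BT.leaf cJ2117) (BT.leaf cJ2118)) (BT.node 2119 (BT.leaf cJ2119) (BT.leaf cJ2120))))))) (BT.node 2157 (BT.node 2139 (BT.node 2130 (BT.node 2125 (BT.node 2123 (BT.node 2122 (BT.node 2121 (BT.leaf cJ2121) (BT.leaf cJ2122)) (BT.leaf cJ2123)) (BT.node 2124 (BT.leaf cJ2124) (BT.leaf cJ2125))) (BT.node 2128 (BT.node 2127 (BT.node 2126 (BT.leaf cJ2126) (BT.leaf cJ2127)) (BT.leaf cJ2128)) (BT.node 2129 (BT.leaf cJ2129) (BT.leaf cJ2130)))) (BT.node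 2135 (BT.node 2133 (BT.node 2132 (BT.node 2131 (BT.leaf cJ2131) (BT.leaf cJ2132)) (BT.leaf cJ2133)) (BT.node 2134 (BT.leaf cJ2134) (BT.leaf cJ2135))) (BT.node 2137 (BT.node 2136 (BT.leaf cJ2136) (BT.leaf cJ2137)) (BT.node 2138 (BT.leaf cJ2138) (BT.leaf cJ2139))))) (BT.node 2148 (BT.node 2144 (BT.node 2142 (BT.node 2141 (BT.node 2140 (BT.leaf cJ2140) (BT.leaf cJ2141)) (BT.leaf cJ2142)) (BT.node 2143 (BT.leaf cJ2143) (BT.leaf cJ2144))) (BT.node 2146 (BT.node 2145 (BT.leaf cJ2145) (BT.leaf cJ2146)) (BT.node 2147 (BT.leaf cJ2147) (BT.leaf cJ2148)))) (BT.node 2153 (BT.node 2151 (BT.node 2150 (BT.node 2149 (BT.leaf cJ2149) (BT.leaf cJ2150)) (BT.leaf cJ2151)) (BT.node 2152 (BT.leaf cJ2152) (BT.leaf cJ2153))) (BT.node 2155 (BT.node 2154 (BT.leaf cJ2154) (BT.leaf cJ2155)) (BT.node 2156 (BT.leaf cJ2156) (BT.leaf cJ2157)))))) (BT.node 2175 (BT.node 2166 (BT.node 2162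 (BT.node 2160 (BT.node 2159 (BT.node 2158 (BT.leaf cJ2158) (BT.leaf cJ2159)) (BT.leaf cJ2160)) (BT.node 2161 (BT.leaf cJ2161) (BT.leaf cJ2162))) (BT.node 2164 (BT.node 2163 (BT.leaf cJ2163) (BT.leaf cJ2164)) (BT.node 2165 (BT.leaf cJ2165) (BT.leaf cJ2166)))) (BT.node 2171 (BT.node 2169 (BT.node 2168 (BT.node 2167 (BT.leaf cJ2167) (BT.leaf cJ2168)) (BT.leaf cJ2169)) (BT.node 2170 (BT.leaf cJ2170) (BT.leaf cJ2171))) (BT.node 2173 (BT.node 2172 (BT.leaf cJ2172) (BT.leaf cJ2173)) (BT.node 2174 (BT.leaf cJ2174) (BT.leaf cJ2175))))) (BT.node 2184 (BT.node 2180 (BT.node 2178 (BT.node 2177 (BT.node 2176 (BT.leaf cJ2176) (BT.leaf cJ2177)) (BT.leaf cJ2178)) (BT.node 2179 (BT.leaf cJ2179) (BT.leaf cJ2180))) (BT.node 2182 (BT.node 2181 (BT.leaf cJ2181) (BT.leaf cJ2182)) (BT.node 2183 (BT.leaf cJ2183) (BT.leaf cJ2184)))) (BT.node 2189 (BT.node 2187 (BT.node 2186 (BT.node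 2185 (BT.leaf cJ2185) (BT.leaf cJ2186)) (BT.leaf cJ2187)) (BT.node 2188 (BT.leaf cJ2188) (BT.leaf cJ2189))) (BT.node 2191 (BT.node 2190 (BT.leaf cJ2190) (BT.leaf cJ2191)) (BT.node 2192 (BT.leaf cJ2192) (BT.leaf cJ2193)))))))) (BT.node 2266 (BT.node 2230 (BT.node 2212 (BT.node 2203 (BT.node 2198 (BT.node 2196 (BT.node 2195 (BT.node 2194 (BT.leaf cJ2194) (BT.leaf cJ2195)) (BT.leaf cJ2196)) (BT.node 2197 (BT.leaf cJ2197) (BT.leaf cJ2198))) (BT.node 2201 (BT.node 2200 (BT.node 2199 (BT.leaf cJ2199) (BT.leaf cJ2200)) (BT.leaf cJ2201)) (BT.node 2202 (BT.leaf cJ2202) (BT.leaf cJ2203)))) (BT.node 2208 (BT.node 2206 (BT.node 2205 (BT.node 2204 (BT.leaf cJ2204) (BT.leaf cJ2205)) (BT.leaf cJ2206)) (BT.node 2207 (BT.leaf cJ2207) (BT.leaf cJ2208))) (BT.node 2210 (BT.node 2209 (BT.leaf cJ2209) (BT.leaf cJ2210)) (BT.node 2211 (BT.leaf cJ2211) (BT.leaf cJ2212))))) (BT.node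 2221 (BT.node 2217 (BT.node 2215 (BT.node 2214 (BT.node 2213 (BT.leaf cJ2213) (BT.leaf cJ2214)) (BT.leaf cJ2215)) (BT.node 2216 (BT.leaf cJ2216) (BT.leaf cJ2217))) (BT.node 2219 (BT.node 2218 (BT.leaf cJ2218) (BT.leaf cJ2219)) (BT.node 2220 (BT.leaf cJ2220) (BT.leaf cJ2221)))) (BT.node 2226 (BT.node 2224 (BT.node 2223 (BT.node 2222 (BT.leaf cJ2222) (BT.leaf cJ2223)) (BT.leaf cJ2224)) (BT.node 2225 (BT.leaf cJ2225) (BT.leaf cJ2226))) (BT.node 2228 (BT.node 2227 (BT.leaf cJ2227) (BT.leaf cJ2228)) (BT.node 2229 (BT.leaf cJ2229) (BT.leaf cJ2230)))))) (BT.node 2248 (BT.node 2239 (BT.node 2235 (BT.node 2233 (BT.node 2232 (BT.node 2231 (BT.leaf cJ2231) (BT.leaf cJ2232)) (BT.leaf cJ2233)) (BT.node 2234 (BT.leaf cJ2234) (BT.leaf cJ2235))) (BT.node 2237 (BT.node 2236 (BT.leaf cJ2236) (BT.leaf cJ2237)) (BT.node 2238 (BT.leaf cJ2238) (BT.leaf cJ2239)))) (BT.node 2244 (BT.node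 2242 (BT.node 2241 (BT.node 2240 (BT.leaf cJ2240) (BT.leaf cJ2241)) (BT.leaf cJ2242)) (BT.node 2243 (BT.leaf cJ2243) (BT.leaf cJ2244))) (BT.node 2246 (BT.node 2245 (BT.leaf cJ2245) (BT.leaf cJ2246)) (BT.node 2247 (BT.leaf cJ2247) (BT.leaf cJ2248))))) (BT.node 2257 (BT.node 2253 (BT.node 2251 (BT.node 2250 (BT.node 2249 (BT.leaf cJ2249) (BT.leaf cJ2250)) (BT.leaf cJ2251)) (BT.node 2252 (BT.leaf cJ2252) (BT.leaf cJ2253))) (BT.node 2255 (BT.node 2254 (BT.leaf cJ2254) (BT.leaf cJ2255)) (BT.node 2256 (BT.leaf cJ2256) (BT.leaf cJ2257)))) (BT.node 2262 (BT.node 2260 (BT.node 2259 (BT.node 2258 (BT.leaf cJ2258) (BT.leaf cJ2259)) (BT.leaf cJ2260)) (BT.node 2261 (BT.leaf cJ2261) (BT.leaf cJ2262))) (BT.node 2264 (BT.node 2263 (BT.leaf cJ2263) (BT.leaf cJ2264)) (BT.node 2265 (BT.leaf cJ2265) (BT.leaf cJ2266))))))) (BT.node 2303 (BT.node 2285 (BT.node 2276 (BT.node 2271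 (BT.node 2269 (BT.node 2268 (BT.node 2267 (BT.leaf cJ2267) (BT.leaf cJ2268)) (BT.leaf cJ2269)) (BT.node 2270 (BT.leaf cJ2270) (BT.leaf cJ2271))) (BT.node 2274 (BT.node 2273 (BT.node 2272 (BT.leaf cJ2272) (BT.leaf cJ2273)) (BT.leaf cJ2274)) (BT.node 2275 (BT.leaf cJ2275) (BT.leaf cJ2276)))) (BT.node 2281 (BT.node 2279 (BT.node 2278 (BT.node 2277 (BT.leaf cJ2277) (BT.leaf cJ2278)) (BT.leaf cJ2279)) (BT.node 2280 (BT.leaf cJ2280) (BT.leaf cJ2281))) (BT.node 2283 (BT.node 2282 (BT.leaf cJ2282) (BT.leaf cJ2283)) (BT.node 2284 (BT.leaf cJ2284) (BT.leaf cJ2285))))) (BT.node 2294 (BT.node 2290 (BT.node 2288 (BT.node 2287 (BT.node 2286 (BT.leaf cJ2286) (BT.leaf cJ2287)) (BT.leaf cJ2288)) (BT.node 2289 (BT.leaf cJ2289) (BT.leaf cJ2290))) (BT.node 2292 (BT.node 2291 (BT.leaf cJ2291) (BT.leaf cJ2292)) (BT.node 2293 (BT.leaf cJ2293) (BT.leaf cJ2294)))) (BT.node 2299 (BT.node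 2297 (BT.node 2296 (BT.node 2295 (BT.leaf cJ2295) (BT.leaf cJ2296)) (BT.leaf cJ2297)) (BT.node 2298 (BT.leaf cJ2298) (BT.leaf cJ2299))) (BT.node 2301 (BT.node 2300 (BT.leaf cJ2300) (BT.leaf cJ2301)) (BT.node 2302 (BT.leaf cJ2302) (BT.leaf cJ2303)))))) (BT.node 2321 (BT.node 2312 (BT.node 2308 (BT.node 2306 (BT.node 2305 (BT.node 2304 (BT.leaf cJ2304) (BT.leaf cJ2305)) (BT.leaf cJ2306)) (BT.node 2307 (BT.leaf cJ2307) (BT.leaf cJ2308))) (BT.node 2310 (BT.node 2309 (BT.leaf cJ2309) (BT.leaf cJ2310)) (BT.node 2311 (BT.leaf cJ2311) (BT.leaf cJ2312)))) (BT.node 2317 (BT.node 2315 (BT.node 2314 (BT.node 2313 (BT.leaf cJ2313) (BT.leaf cJ2314)) (BT.leaf cJ2315)) (BT.node 2316 (BT.leaf cJ2316) (BT.leaf cJ2317))) (BT.node 2319 (BT.node 2318 (BT.leaf cJ2318) (BT.leaf cJ2319)) (BT.node 2320 (BT.leaf cJ2320) (BT.leaf cJ2321))))) (BT.node 2330 (BT.node 2326 (BT.node 2324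 (BT.node 2323 (BT.node 2322 (BT.leaf cJ2322) (BT.leaf cJ2323)) (BT.leaf cJ2324)) (BT.node 2325 (BT.leaf cJ2325) (BT.leaf cJ2326))) (BT.node 2328 (BT.node 2327 (BT.leaf cJ2327) (BT.leaf cJ2328)) (BT.node 2329 (BT.leaf cJ2329) (BT.leaf cJ2330)))) (BT.node 2335 (BT.node 2333 (BT.node 2332 (BT.node 2331 (BT.leaf cJ2331) (BT.leaf cJ2332)) (BT.leaf cJ2333)) (BT.node 2334 (BT.leaf cJ2334) (BT.leaf cJ2335))) (BT.node 2337 (BT.node 2336 (BT.leaf cJ2336) (BT.leaf cJ2337)) (BT.node 2338 (BT.leaf cJ2338) (BT.leaf cJ2339))))))))))))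
/-- parent chunks -/
def parCT : BT ℕ := (BT.node 116 (BT.node 58 (BT.node 29 (BT.node 14 (BT.node 7 (BT.node 3 (BT.node 1 (BT.node 0 (BT.leaf cP0) (BT.leaf cP1)) (BT.node 2 (BT.leaf cP2) (BT.leaf cP3))) (BT.node 5 (BT.node 4 (BT.leaf cP4) (BT.leaf cP5)) (BT.node 6 (BT.leaf cP6) (BT.leaf cP7)))) (BT.node 11 (BT.node 9 (BT.node 8 (BT.leaf cP8) (BT.leaf cP9)) (BT.node 10 (BT.leaf cP10) (BT.leaf cP11))) (BT.node 13 (BT.node 12 (BT.leaf cP12) (BT.leaf cP13)) (BT.leaf cP14)))) (BT.node 22 (BT.node 18 (BT.node 16 (BT.node 15 (BT.leaf cP15) (BT.leaf cP16)) (BT.node 17 (BT.leaf cP17) (BT.leaf cP18))) (BT.node 20 (BT.node 19 (BT.leaf cP19) (BT.leaf cP20)) (BT.node 21 (BT.leaf cP21) (BT.leaf cP22)))) (BT.node 26 (BT.node 24 (BT.node 23 (BT.leaf cP23) (BT.leaf cP24)) (BT.node 25 (BT.leaf cP25) (BT.leaf cP26))) (BT.node 28 (BT.node 27 (BT.leaf cP27) (BT.leaf cP28)) (BT.leaf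 cP29))))) (BT.node 44 (BT.node 37 (BT.node 33 (BT.node 31 (BT.node 30 (BT.leaf cP30) (BT.leaf cP31)) (BT.node 32 (BT.leaf cP32) (BT.leaf cP33))) (BT.node 35 (BT.node 34 (BT.leaf cP34) (BT.leaf cP35)) (BT.node 36 (BT.leaf cP36) (BT.leaf cP37)))) (BT.node 41 (BT.node 39 (BT.node 38 (BT.leaf cP38) (BT.leaf cP39)) (BT.node 40 (BT.leaf cP40) (BT.leaf cP41))) (BT.node 43 (BT.node 42 (BT.leaf cP42) (BT.leaf cP43)) (BT.leaf cP44)))) (BT.node 51 (BT.node 48 (BT.node 46 (BT.node 45 (BT.leaf cP45) (BT.leaf cP46)) (BT.node 47 (BT.leaf cP47) (BT.leaf cP48))) (BT.node 50 (BT.node 49 (BT.leaf cP49) (BT.leaf cP50)) (BT.leaf cP51))) (BT.node 55 (BT.node 53 (BT.node 52 (BT.leaf cP52) (BT.leaf cP53)) (BT.node 54 (BT.leaf cP54) (BT.leaf cP55))) (BT.node 57 (BT.node 56 (BT.leaf cP56) (BT.leaf cP57)) (BT.leaf cP58)))))) (BT.node 87 (BT.node 73 (BT.node 66 (BT.node 62 (BT.node 60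 (BT.node 59 (BT.leaf cP59) (BT.leaf cP60)) (BT.node 61 (BT.leaf cP61) (BT.leaf cP62))) (BT.node 64 (BT.node 63 (BT.leaf cP63) (BT.leaf cP64)) (BT.node 65 (BT.leaf cP65) (BT.leaf cP66)))) (BT.node 70 (BT.node 68 (BT.node 67 (BT.leaf cP67) (BT.leaf cP68)) (BT.node 69 (BT.leaf cP69) (BT.leaf cP70))) (BT.node 72 (BT.node 71 (BT.leaf cP71) (BT.leaf cP72)) (BT.leaf cP73)))) (BT.node 80 (BT.node 77 (BT.node 75 (BT.node 74 (BT.leaf cP74) (BT.leaf cP75)) (BT.node 76 (BT.leaf cP76) (BT.leaf cP77))) (BT.node 79 (BT.node 78 (BT.leaf cP78) (BT.leaf cP79)) (BT.leaf cP80))) (BT.node 84 (BT.node 82 (BT.node 81 (BT.leaf cP81) (BT.leaf cP82)) (BT.node 83 (BT.leaf cP83) (BT.leaf cP84))) (BT.node 86 (BT.node 85 (BT.leaf cP85) (BT.leaf cP86)) (BT.leaf cP87))))) (BT.node 102 (BT.node 95 (BT.node 91 (BT.node 89 (BT.node 88 (BT.leaf cP88) (BT.leaf cP89)) (BT.node 90 (BT.leaf cP90)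 (BT.leaf cP91))) (BT.node 93 (BT.node 92 (BT.leaf cP92) (BT.leaf cP93)) (BT.node 94 (BT.leaf cP94) (BT.leaf cP95)))) (BT.node 99 (BT.node 97 (BT.node 96 (BT.leaf cP96) (BT.leaf cP97)) (BT.node 98 (BT.leaf cP98) (BT.leaf cP99))) (BT.node 101 (BT.node 100 (BT.leaf cP100) (BT.leaf cP101)) (BT.leaf cP102)))) (BT.node 109 (BT.node 106 (BT.node 104 (BT.node 103 (BT.leaf cP103) (BT.leaf cP104)) (BT.node 105 (BT.leaf cP105) (BT.leaf cP106))) (BT.node 108 (BT.node 107 (BT.leaf cP107) (BT.leaf cP108)) (BT.leaf cP109))) (BT.node 113 (BT.node 111 (BT.node 110 (BT.leaf cP110) (BT.leaf cP111)) (BT.node 112 (BT.leaf cP112) (BT.leaf cP113))) (BT.node 115 (BT.node 114 (BT.leaf cP114) (BT.leaf cP115)) (BT.leaf cP116))))))) (BT.node 175 (BT.node 146 (BT.node 131 (BT.node 124 (BT.node 120 (BT.node 118 (BT.node 117 (BT.leaf cP117) (BT.leaf cP118)) (BT.node 119 (BT.leaf cP119) (BT.leaf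 cP120))) (BT.node 122 (BT.node 121 (BT.leaf cP121) (BT.leaf cP122)) (BT.node 123 (BT.leaf cP123) (BT.leaf cP124)))) (BT.node 128 (BT.node 126 (BT.node 125 (BT.leaf cP125) (BT.leaf cP126)) (BT.node 127 (BT.leaf cP127) (BT.leaf cP128))) (BT.node 130 (BT.node 129 (BT.leaf cP129) (BT.leaf cP130)) (BT.leaf cP131)))) (BT.node 139 (BT.node 135 (BT.node 133 (BT.node 132 (BT.leaf cP132) (BT.leaf cP133)) (BT.node 134 (BT.leaf cP134) (BT.leaf cP135))) (BT.node 137 (BT.node 136 (BT.leaf cP136) (BT.leaf cP137)) (BT.node 138 (BT.leaf cP138) (BT.leaf cP139)))) (BT.node 143 (BT.node 141 (BT.node 140 (BT.leaf cP140) (BT.leaf cP141)) (BT.node 142 (BT.leaf cP142) (BT.leaf cP143))) (BT.node 145 (BT.node 144 (BT.leaf cP144) (BT.leaf cP145)) (BT.leaf cP146))))) (BT.node 161 (BT.node 154 (BT.node 150 (BT.node 148 (BT.node 147 (BT.leaf cP147) (BT.leaf cP148)) (BT.node 149 (BT.leaf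 cP149) (BT.leaf cP150))) (BT.node 152 (BT.node 151 (BT.leaf cP151) (BT.leaf cP152)) (BT.node 153 (BT.leaf cP153) (BT.leaf cP154)))) (BT.node 158 (BT.node 156 (BT.node 155 (BT.leaf cP155) (BT.leaf cP156)) (BT.node 157 (BT.leaf cP157) (BT.leaf cP158))) (BT.node 160 (BT.node 159 (BT.leaf cP159) (BT.leaf cP160)) (BT.leaf cP161)))) (BT.node 168 (BT.node 165 (BT.node 163 (BT.node 162 (BT.leaf cP162) (BT.leaf cP163)) (BT.node 164 (BT.leaf cP164) (BT.leaf cP165))) (BT.node 167 (BT.node 166 (BT.leaf cP166) (BT.leaf cP167)) (BT.leaf cP168))) (BT.node 172 (BT.node 170 (BT.node 169 (BT.leaf cP169) (BT.leaf cP170)) (BT.node 171 (BT.leaf cP171) (BT.leaf cP172))) (BT.node 174 (BT.node 173 (BT.leaf cP173) (BT.leaf cP174)) (BT.leaf cP175)))))) (BT.node 204 (BT.node 190 (BT.node 183 (BT.node 179 (BT.node 177 (BT.node 176 (BT.leaf cP176) (BT.leaf cP177)) (BT.node 178 (BT.leaf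 cP178) (BT.leaf cP179))) (BT.node 181 (BT.node 180 (BT.leaf cP180) (BT.leaf cP181)) (BT.node 182 (BT.leaf cP182) (BT.leaf cP183)))) (BT.node 187 (BT.node 185 (BT.node 184 (BT.leaf cP184) (BT.leaf cP185)) (BT.node 186 (BT.leaf cP186) (BT.leaf cP187))) (BT.node 189 (BT.node 188 (BT.leaf cP188) (BT.leaf cP189)) (BT.leaf cP190)))) (BT.node 197 (BT.node 194 (BT.node 192 (BT.node 191 (BT.leaf cP191) (BT.leaf cP192)) (BT.node 193 (BT.leaf cP193) (BT.leaf cP194))) (BT.node 196 (BT.node 195 (BT.leaf cP195) (BT.leaf cP196)) (BT.leaf cP197))) (BT.node 201 (BT.node 199 (BT.node 198 (BT.leaf cP198) (BT.leaf cP199)) (BT.node 200 (BT.leaf cP200) (BT.leaf cP201))) (BT.node 203 (BT.node 202 (BT.leaf cP202) (BT.leaf cP203)) (BT.leaf cP204))))) (BT.node 219 (BT.node 212 (BT.node 208 (BT.node 206 (BT.node 205 (BT.leaf cP205) (BT.leaf cP206)) (BT.node 207 (BT.leaf cP207) (BT.leaf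 cP208))) (BT.node 210 (BT.node 209 (BT.leaf cP209) (BT.leaf cP210)) (BT.node 211 (BT.leaf cP211) (BT.leaf cP212)))) (BT.node 216 (BT.node 214 (BT.node 213 (BT.leaf cP213) (BT.leaf cP214)) (BT.node 215 (BT.leaf cP215) (BT.leaf cP216))) (BT.node 218 (BT.node 217 (BT.leaf cP217) (BT.leaf cP218)) (BT.leaf cP219)))) (BT.node 226 (BT.node 223 (BT.node 221 (BT.node 220 (BT.leaf cP220) (BT.leaf cP221)) (BT.node 222 (BT.leaf cP222) (BT.leaf cP223))) (BT.node 225 (BT.node 224 (BT.leaf cP224) (BT.leaf cP225)) (BT.leaf cP226))) (BT.node 230 (BT.node 228 (BT.node 227 (BT.leaf cP227) (BT.leaf cP228)) (BT.node 229 (BT.leaf cP229) (BT.leaf cP230))) (BT.node 232 (BT.node 231 (BT.leaf cP231) (BT.leaf cP232)) (BT.leaf cP233))))))))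
/-- the certificate -/
def data : Data where
  k := 9
  N := 119612
  W := 36
  MW := 68719476736
  B := 131072
  CH := 512
  NCH := 234
  colE := colET
  JW := 64
  MJ := 18446744073709551616
  A := 1048576
  colJ := colJT
  PW := 26
  MP := 67108864
  parC := parCT
  inv := (BT.node 4 (BT.node 2 (BT.node 1 (BT.node 0 (BT.leaf 0) (BT.leaf 1)) (BT.leaf 2)) (BT.node 3 (BT.leaf 3) (BT.leaf 4))) (BT.node 7 (BT.node 6 (BT.node 5 (BT.leaf 5) (BT.leaf 6)) (BT.leaf 7)) (BT.node 8 (BT.leaf 8) (BT.leaf 9))))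
  rel := relT
  sub := subT
  fuel := 64

end Cfsg.Agent.Lib.Helper4.TCY5FData
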