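import Cfsg.Agent.Lib.Helper4.TCY5FU12 -- chain
import Cfsg.Agent.Lib.Helper28.TC2Range
import Cfsg.Agent.Lib.Helper4.TCY5FData
set_option autoImplicit false
set_option maxRecDepth 100000
set_option maxHeartbeats 0

namespace Cfsg.Agent.Lib.Helper4.TCY5FM0
open Cfsg.Agent.Lib.Helper28.TC2Upper Cfsg.Agent.Lib.Helper28.TC2Lower Cfsg.Agent.Lib.Helper28.TC2Range Cfsg.Agent.Lib.Helper4.TCY5FData

theorem fin0 : Data.finalRange data 0 9259 = true := by decide +kernel
theorem fin1 : Data.finalRange data 9259 9259 = true := by decide +kernel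
theorem fin2 : Data.finalRange data 18518 9259 = true := by decide +kernel
theorem fin3 : Data.finalRange data 27777 9259 = true := by decide +kernel
theorem fin4 : Data.finalRange data 37036 9259 = true := by decide +kernel

end Cfsg.Agent.Lib.Helper4.TCY5FM0
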