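import Cfsg.Agent.Lib.Helper4.TCY5FU14 -- chain
import Cfsg.Agent.Lib.Helper28.TC2Range
import Cfsg.Agent.Lib.Helper4.TCY5FData
set_option autoImplicit false
set_option maxRecDepth 100000
set_option maxHeartbeats 0

namespace Cfsg.Agent.Lib.Helper4.TCY5FM2
open Cfsg.Agent.Lib.Helper28.TC2Upper Cfsg.Agent.Lib.Helper28.TC2Lower Cfsg.Agent.Lib.Helper28.TC2Range Cfsg.Agent.Lib.Helper4.TCY5FData

theorem fin10 : Data.finalRange data 92590 9259 = true := by decide +kernel
theorem fin11 : Data.finalRange data 101849 9259 = true := by decide +kernel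
theorem fin12 : Data.finalRange data 111108 8504 = true := by decide +kernel
theorem cnt0 : Data.countFrom data 0 40000 = 9821 := by decide +kernel
theorem cnt1 : Data.countFrom data 40000 40000 = 4070 := by decide +kernel

end Cfsg.Agent.Lib.Helper4.TCY5FM2
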