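import Cfsg.Agent.Lib.Helper4.TCY5FData
set_option autoImplicit false
set_option maxRecDepth 100000
set_option maxHeartbeats 0

namespace Cfsg.Agent.Lib.Helper4.TCY5FU1
open Cfsg.Agent.Lib.Helper28.TC2Upper Cfsg.Agent.Lib.Helper4.TCY5FData

theorem chk5 : data.checkRange 3975 1198 = true := by decide +kernel
theorem chk6 : data.checkRange 5173 822 = true := by decide +kernel
theorem chk7 : data.checkRange 5995 1440 = true := by decide +kernel
theorem chk8 : data.checkRange 7435 884 = true := by decide +kernel
theorem chk9 : data.checkRange 8319 1584 = true := by decide +kernel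

end Cfsg.Agent.Lib.Helper4.TCY5FU1
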