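import Cfsg.Agent.Lib.Helper4.TCY5FU10 -- chain
import Cfsg.Agent.Lib.Helper4.TCY5FData
set_option autoImplicit false
set_option maxRecDepth 100000
set_option maxHeartbeats 0

namespace Cfsg.Agent.Lib.Helper4.TCY5FU13
open Cfsg.Agent.Lib.Helper28.TC2Upper Cfsg.Agent.Lib.Helper4.TCY5FData

theorem chk65 : data.checkRange 114101 600 = true := by decide +kernel
theorem chk66 : data.checkRange 114701 600 = true := by decide +kernel
theorem chk67 : data.checkRange 115301 600 = true := by decide +kernel
theorem chk68 : data.checkRange 115901 600 = true := by decide +kernel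
theorem chk69 : data.checkRange 116501 600 = true := by decide +kernel

end Cfsg.Agent.Lib.Helper4.TCY5FU13
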