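import Cfsg.Agent.Lib.Helper4.TCY5FU11 -- chain
import Cfsg.Agent.Lib.Helper4.TCY5FData
set_option autoImplicit false
set_option maxRecDepth 100000
set_option maxHeartbeats 0

namespace Cfsg.Agent.Lib.Helper4.TCY5FU14
open Cfsg.Agent.Lib.Helper28.TC2Upper Cfsg.Agent.Lib.Helper4.TCY5FData

theorem chk70 : data.checkRange 117101 600 = true := by decide +kernel
theorem chk71 : data.checkRange 117701 600 = true := by decide +kernel
theorem chk72 : data.checkRange 118301 600 = true := by decide +kernel
theorem chk73 : data.checkRange 118901 600 = true := by decide +kernel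
theorem chk74 : data.checkRange 119501 111 = true := by decide +kernel

end Cfsg.Agent.Lib.Helper4.TCY5FU14
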