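import Cfsg.Agent.Lib.Helper4.TCY5FU0 -- chain
import Cfsg.Agent.Lib.Helper4.TCY5FData
set_option autoImplicit false
set_option maxRecDepth 100000
set_option maxHeartbeats 0

namespace Cfsg.Agent.Lib.Helper4.TCY5FU3
open Cfsg.Agent.Lib.Helper28.TC2Upper Cfsg.Agent.Lib.Helper4.TCY5FData

theorem chk15 : data.checkRange 16302 1353 = true := by decide +kernel
theorem chk16 : data.checkRange 17655 2731 = true := by decide +kernel
theorem chk17 : data.checkRange 20386 1201 = true := by decide +kernel
theorem chk18 : data.checkRange 21587 1136 = true := by decide +kernel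
theorem chk19 : data.checkRange 22723 1227 = true := by decide +kernel

end Cfsg.Agent.Lib.Helper4.TCY5FU3
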