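import Cfsg.Agent.Lib.Helper4.TCY5FU1 -- chain
import Cfsg.Agent.Lib.Helper4.TCY5FData
set_option autoImplicit false
set_option maxRecDepth 100000
set_option maxHeartbeats 0

namespace Cfsg.Agent.Lib.Helper4.TCY5FU4
open Cfsg.Agent.Lib.Helper28.TC2Upper Cfsg.Agent.Lib.Helper4.TCY5FData

theorem chk20 : data.checkRange 23950 2293 = true := by decide +kernel
theorem chk21 : data.checkRange 26243 2950 = true := by decide +kernel
theorem chk22 : data.checkRange 29193 1204 = true := by decide +kernel
theorem chk23 : data.checkRange 30397 1449 = true := by decide +kernel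
theorem chk24 : data.checkRange 31846 915 = true := by decide +kernel

end Cfsg.Agent.Lib.Helper4.TCY5FU4
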