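import Cfsg.Agent.Lib.Helper4.TCY5FU5 -- chain
import Cfsg.Agent.Lib.Helper4.TCY5FData
set_option autoImplicit false
set_option maxRecDepth 100000
set_option maxHeartbeats 0

namespace Cfsg.Agent.Lib.Helper4.TCY5FU8
open Cfsg.Agent.Lib.Helper28.TC2Upper Cfsg.Agent.Lib.Helper4.TCY5FData

theorem chk40 : data.checkRange 64943 1429 = true := by decide +kernel
theorem chk41 : data.checkRange 66372 2496 = true := by decide +kernel
theorem chk42 : data.checkRange 68868 3853 = true := by decide +kernel
theorem chk43 : data.checkRange 72721 3885 = true := by decide +kernel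
theorem chk44 : data.checkRange 76606 5153 = true := by decide +kernel

end Cfsg.Agent.Lib.Helper4.TCY5FU8
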