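import Cfsg.Agent.Lib.Helper28.TC2Glue
import Cfsg.Agent.Lib.Helper28.TC2Range
import Cfsg.Agent.Lib.Helper4.TCY5FLink
import Cfsg.Agent.Lib.Helper4.TCY5FM0
import Cfsg.Agent.Lib.Helper4.TCY5FM1
import Cfsg.Agent.Lib.Helper4.TCY5FM2
import Cfsg.Agent.Lib.Helper4.TCY5FM3
import Cfsg.Agent.Lib.Helper4.TCY5FU0
import Cfsg.Agent.Lib.Helper4.TCY5FU1
import Cfsg.Agent.Lib.Helper4.TCY5FU2
import Cfsg.Agent.Lib.Helper4.TCY5FU3
import Cfsg.Agent.Lib.Helper4.TCY5FU4
import Cfsg.Agent.Lib.Helper4.TCY5FU5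
import Cfsg.Agent.Lib.Helper4.TCY5FU6
import Cfsg.Agent.Lib.Helper4.TCY5FU7
import Cfsg.Agent.Lib.Helper4.TCY5FU8
import Cfsg.Agent.Lib.Helper4.TCY5FU9
import Cfsg.Agent.Lib.Helper4.TCY5FU10
import Cfsg.Agent.Lib.Helper4.TCY5FU11
import Cfsg.Agent.Lib.Helper4.TCY5FU12
import Cfsg.Agent.Lib.Helper4.TCY5FU13
import Cfsg.Agent.Lib.Helper4.TCY5FU14

set_option autoImplicit false
set_option maxRecDepth 100000
open Cfsg

namespace Cfsg.Agent.Lib.Helper4.TCY5FMain
open Cfsg.Agent.Lib.Helper28.TC2Upper Cfsg.Agent.Lib.Helper28.TC2Lower Cfsg.Agent.Lib.Helper28.TC2Glue Cfsg.Agent.Lib.Helper28.TC2Range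
open Cfsg.Agent.Lib.Helper4.TCY5FData Cfsg.Agent.Lib.Helper4.TCY5FTable Cfsg.Agent.Lib.Helper4.TCY5FLink

theorem hchk : ∀ v, v < data.N → data.checkNode v = true := by
  intro v hv
  have hv' : v < 119612 := hv
  rcases Nat.lt_or_ge v 618 with h0 | h0
  · exact (data.checkRange_iff 0 618).mp Cfsg.Agent.Lib.Helper4.TCY5FU0.chk0 v (by omega) (by omega)
  rcases Nat.lt_or_ge v 1346 with h1 | h1
  · exact (data.checkRange_iff 618 728).mp Cfsg.Agent.Lib.Helper4.TCY5FU0.chk1 v (by omega) (by omega)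
  rcases Nat.lt_or_ge v 2106 with h2 | h2
  · exact (data.checkRange_iff 1346 760).mp Cfsg.Agent.Lib.Helper4.TCY5FU0.chk2 v (by omega) (by omega)
  rcases Nat.lt_or_ge v 2977 with h3 | h3
  · exact (data.checkRange_iff 2106 871).mp Cfsg.Agent.Lib.Helper4.TCY5FU0.chk3 v (by omega) (by omega)
  rcases Nat.lt_or_ge v 3975 with h4 | h4
  · exact (data.checkRange_iff 2977 998).mp Cfsg.Agent.Lib.Helper4.TCY5FU0.chk4 v (by omega) (by omega)
  rcases Nat.lt_or_ge v 5173 with h5 | h5
  · exact (data.checkRange_iff 3975 1198).mp Cfsg.Agent.Lib.Helper4.TCY5FU1.chk5 v (by omega) (by omega)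
  rcases Nat.lt_or_ge v 5995 with h6 | h6
  · exact (data.checkRange_iff 5173 822).mp Cfsg.Agent.Lib.Helper4.TCY5FU1.chk6 v (by omega) (by omega)
  rcases Nat.lt_or_ge v 7435 with h7 | h7
  · exact (data.checkRange_iff 5995 1440).mp Cfsg.Agent.Lib.Helper4.TCY5FU1.chk7 v (by omega) (by omega)
  rcases Nat.lt_or_ge v 8319 with h8 | h8
  · exact (data.checkRange_iff 7435 884).mp Cfsg.Agent.Lib.Helper4.TCY5FU1.chk8 v (by omega) (by omega)
  rcases Nat.lt_or_ge v 9903 with h9 | h9
  · exact (data.checkRange_iff 8319 1584).mp Cfsg.Agent.Lib.Helper4.TCY5FU1.chk9 v (by omega) (by omega)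
  rcases Nat.lt_or_ge v 11094 with h10 | h10
  · exact (data.checkRange_iff 9903 1191).mp Cfsg.Agent.Lib.Helper4.TCY5FU2.chk10 v (by omega) (by omega)
  rcases Nat.lt_or_ge v 12049 with h11 | h11
  · exact (data.checkRange_iff 11094 955).mp Cfsg.Agent.Lib.Helper4.TCY5FU2.chk11 v (by omega) (by omega)
  rcases Nat.lt_or_ge v 14050 with h12 | h12
  · exact (data.checkRange_iff 12049 2001).mp Cfsg.Agent.Lib.Helper4.TCY5FU2.chk12 v (by omega) (by omega)
  rcases Nat.lt_or_ge v 15375 with h13 | h13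
  · exact (data.checkRange_iff 14050 1325).mp Cfsg.Agent.Lib.Helper4.TCY5FU2.chk13 v (by omega) (by omega)
  rcases Nat.lt_or_ge v 16302 with h14 | h14
  · exact (data.checkRange_iff 15375 927).mp Cfsg.Agent.Lib.Helper4.TCY5FU2.chk14 v (by omega) (by omega)
  rcases Nat.lt_or_ge v 17655 with h15 | h15
  · exact (data.checkRange_iff 16302 1353).mp Cfsg.Agent.Lib.Helper4.TCY5FU3.chk15 v (by omega) (by omega)
  rcases Nat.lt_or_ge v 20386 with h16 | h16
  · exact (data.checkRange_iff 17655 2731).mp Cfsg.Agent.Lib.Helper4.TCY5FU3.chk16 v (by omega) (by omega)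
  rcases Nat.lt_or_ge v 21587 with h17 | h17
  · exact (data.checkRange_iff 20386 1201).mp Cfsg.Agent.Lib.Helper4.TCY5FU3.chk17 v (by omega) (by omega)
  rcases Nat.lt_or_ge v 22723 with h18 | h18
  · exact (data.checkRange_iff 21587 1136).mp Cfsg.Agent.Lib.Helper4.TCY5FU3.chk18 v (by omega) (by omega)
  rcases Nat.lt_or_ge v 23950 with h19 | h19
  · exact (data.checkRange_iff 22723 1227).mp Cfsg.Agent.Lib.Helper4.TCY5FU3.chk19 v (by omega) (by omega)
  rcases Nat.lt_or_ge v 26243 with h20 | h20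
  · exact (data.checkRange_iff 23950 2293).mp Cfsg.Agent.Lib.Helper4.TCY5FU4.chk20 v (by omega) (by omega)
  rcases Nat.lt_or_ge v 29193 with h21 | h21
  · exact (data.checkRange_iff 26243 2950).mp Cfsg.Agent.Lib.Helper4.TCY5FU4.chk21 v (by omega) (by omega)
  rcases Nat.lt_or_ge v 30397 with h22 | h22
  · exact (data.checkRange_iff 29193 1204).mp Cfsg.Agent.Lib.Helper4.TCY5FU4.chk22 v (by omega) (by omega)
  rcases Nat.lt_or_ge v 31846 with h23 | h23
  · exact (data.checkRange_iff 30397 1449).mp Cfsg.Agent.Lib.Helper4.TCY5FU4.chk23 v (by omega) (by omega)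
  rcases Nat.lt_or_ge v 32761 with h24 | h24
  · exact (data.checkRange_iff 31846 915).mp Cfsg.Agent.Lib.Helper4.TCY5FU4.chk24 v (by omega) (by omega)
  rcases Nat.lt_or_ge v 34465 with h25 | h25
  · exact (data.checkRange_iff 32761 1704).mp Cfsg.Agent.Lib.Helper4.TCY5FU5.chk25 v (by omega) (by omega)
  rcases Nat.lt_or_ge v 37266 with h26 | h26
  · exact (data.checkRange_iff 34465 2801).mp Cfsg.Agent.Lib.Helper4.TCY5FU5.chk26 v (by omega) (by omega)
  rcases Nat.lt_or_ge v 40607 with h27 | h27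
  · exact (data.checkRange_iff 37266 3341).mp Cfsg.Agent.Lib.Helper4.TCY5FU5.chk27 v (by omega) (by omega)
  rcases Nat.lt_or_ge v 42642 with h28 | h28
  · exact (data.checkRange_iff 40607 2035).mp Cfsg.Agent.Lib.Helper4.TCY5FU5.chk28 v (by omega) (by omega)
  rcases Nat.lt_or_ge v 43754 with h29 | h29
  · exact (data.checkRange_iff 42642 1112).mp Cfsg.Agent.Lib.Helper4.TCY5FU5.chk29 v (by omega) (by omega)
  rcases Nat.lt_or_ge v 45369 with h30 | h30
  · exact (data.checkRange_iff 43754 1615).mp Cfsg.Agent.Lib.Helper4.TCY5FU6.chk30 v (by omega) (by omega)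
  rcases Nat.lt_or_ge v 46390 with h31 | h31
  · exact (data.checkRange_iff 45369 1021).mp Cfsg.Agent.Lib.Helper4.TCY5FU6.chk31 v (by omega) (by omega)
  rcases Nat.lt_or_ge v 48007 with h32 | h32
  · exact (data.checkRange_iff 46390 1617).mp Cfsg.Agent.Lib.Helper4.TCY5FU6.chk32 v (by omega) (by omega)
  rcases Nat.lt_or_ge v 51038 with h33 | h33
  · exact (data.checkRange_iff 48007 3031).mp Cfsg.Agent.Lib.Helper4.TCY5FU6.chk33 v (by omega) (by omega)
  rcases Nat.lt_or_ge v 54165 with h34 | h34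
  · exact (data.checkRange_iff 51038 3127).mp Cfsg.Agent.Lib.Helper4.TCY5FU6.chk34 v (by omega) (by omega)
  rcases Nat.lt_or_ge v 58498 with h35 | h35
  · exact (data.checkRange_iff 54165 4333).mp Cfsg.Agent.Lib.Helper4.TCY5FU7.chk35 v (by omega) (by omega)
  rcases Nat.lt_or_ge v 60494 with h36 | h36
  · exact (data.checkRange_iff 58498 1996).mp Cfsg.Agent.Lib.Helper4.TCY5FU7.chk36 v (by omega) (by omega)
  rcases Nat.lt_or_ge v 61550 with h37 | h37
  · exact (data.checkRange_iff 60494 1056).mp Cfsg.Agent.Lib.Helper4.TCY5FU7.chk37 v (by omega) (by omega)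
  rcases Nat.lt_or_ge v 63704 with h38 | h38
  · exact (data.checkRange_iff 61550 2154).mp Cfsg.Agent.Lib.Helper4.TCY5FU7.chk38 v (by omega) (by omega)
  rcases Nat.lt_or_ge v 64943 with h39 | h39
  · exact (data.checkRange_iff 63704 1239).mp Cfsg.Agent.Lib.Helper4.TCY5FU7.chk39 v (by omega) (by omega)
  rcases Nat.lt_or_ge v 66372 with h40 | h40
  · exact (data.checkRange_iff 64943 1429).mp Cfsg.Agent.Lib.Helper4.TCY5FU8.chk40 v (by omega) (by omega)
  rcases Nat.lt_or_ge v 68868 with h41 | h41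
  · exact (data.checkRange_iff 66372 2496).mp Cfsg.Agent.Lib.Helper4.TCY5FU8.chk41 v (by omega) (by omega)
  rcases Nat.lt_or_ge v 72721 with h42 | h42
  · exact (data.checkRange_iff 68868 3853).mp Cfsg.Agent.Lib.Helper4.TCY5FU8.chk42 v (by omega) (by omega)
  rcases Nat.lt_or_ge v 76606 with h43 | h43
  · exact (data.checkRange_iff 72721 3885).mp Cfsg.Agent.Lib.Helper4.TCY5FU8.chk43 v (by omega) (by omega)
  rcases Nat.lt_or_ge v 81759 with h44 | h44
  · exact (data.checkRange_iff 76606 5153).mp Cfsg.Agent.Lib.Helper4.TCY5FU8.chk44 v (by omega) (by omega)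
  rcases Nat.lt_or_ge v 85414 with h45 | h45
  · exact (data.checkRange_iff 81759 3655).mp Cfsg.Agent.Lib.Helper4.TCY5FU9.chk45 v (by omega) (by omega)
  rcases Nat.lt_or_ge v 86467 with h46 | h46
  · exact (data.checkRange_iff 85414 1053).mp Cfsg.Agent.Lib.Helper4.TCY5FU9.chk46 v (by omega) (by omega)
  rcases Nat.lt_or_ge v 88842 with h47 | h47
  · exact (data.checkRange_iff 86467 2375).mp Cfsg.Agent.Lib.Helper4.TCY5FU9.chk47 v (by omega) (by omega)
  rcases Nat.lt_or_ge v 91491 with h48 | h48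
  · exact (data.checkRange_iff 88842 2649).mp Cfsg.Agent.Lib.Helper4.TCY5FU9.chk48 v (by omega) (by omega)
  rcases Nat.lt_or_ge v 92946 with h49 | h49
  · exact (data.checkRange_iff 91491 1455).mp Cfsg.Agent.Lib.Helper4.TCY5FU9.chk49 v (by omega) (by omega)
  rcases Nat.lt_or_ge v 94757 with h50 | h50
  · exact (data.checkRange_iff 92946 1811).mp Cfsg.Agent.Lib.Helper4.TCY5FU10.chk50 v (by omega) (by omega)
  rcases Nat.lt_or_ge v 98988 with h51 | h51
  · exact (data.checkRange_iff 94757 4231).mp Cfsg.Agent.Lib.Helper4.TCY5FU10.chk51 v (by omega) (by omega)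
  rcases Nat.lt_or_ge v 103979 with h52 | h52
  · exact (data.checkRange_iff 98988 4991).mp Cfsg.Agent.Lib.Helper4.TCY5FU10.chk52 v (by omega) (by omega)
  rcases Nat.lt_or_ge v 107501 with h53 | h53
  · exact (data.checkRange_iff 103979 3522).mp Cfsg.Agent.Lib.Helper4.TCY5FU10.chk53 v (by omega) (by omega)
  rcases Nat.lt_or_ge v 108101 with h54 | h54
  · exact (data.checkRange_iff 107501 600).mp Cfsg.Agent.Lib.Helper4.TCY5FU10.chk54 v (by omega) (by omega)
  rcases Nat.lt_or_ge v 108701 with h55 | h55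
  · exact (data.checkRange_iff 108101 600).mp Cfsg.Agent.Lib.Helper4.TCY5FU11.chk55 v (by omega) (by omega)
  rcases Nat.lt_or_ge v 109301 with h56 | h56
  · exact (data.checkRange_iff 108701 600).mp Cfsg.Agent.Lib.Helper4.TCY5FU11.chk56 v (by omega) (by omega)
  rcases Nat.lt_or_ge v 109901 with h57 | h57
  · exact (data.checkRange_iff 109301 600).mp Cfsg.Agent.Lib.Helper4.TCY5FU11.chk57 v (by omega) (by omega)
  rcases Nat.lt_or_ge v 110501 with h58 | h58
  · exact (data.checkRange_iff 109901 600).mp Cfsg.Agent.Lib.Helper4.TCY5FU11.chk58 v (by omega) (by omega)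
  rcases Nat.lt_or_ge v 111101 with h59 | h59
  · exact (data.checkRange_iff 110501 600).mp Cfsg.Agent.Lib.Helper4.TCY5FU11.chk59 v (by omega) (by omega)
  rcases Nat.lt_or_ge v 111701 with h60 | h60
  · exact (data.checkRange_iff 111101 600).mp Cfsg.Agent.Lib.Helper4.TCY5FU12.chk60 v (by omega) (by omega)
  rcases Nat.lt_or_ge v 112301 with h61 | h61
  · exact (data.checkRange_iff 111701 600).mp Cfsg.Agent.Lib.Helper4.TCY5FU12.chk61 v (by omega) (by omega)
  rcases Nat.lt_or_ge v 112901 with h62 | h62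
  · exact (data.checkRange_iff 112301 600).mp Cfsg.Agent.Lib.Helper4.TCY5FU12.chk62 v (by omega) (by omega)
  rcases Nat.lt_or_ge v 113501 with h63 | h63
  · exact (data.checkRange_iff 112901 600).mp Cfsg.Agent.Lib.Helper4.TCY5FU12.chk63 v (by omega) (by omega)
  rcases Nat.lt_or_ge v 114101 with h64 | h64
  · exact (data.checkRange_iff 113501 600).mp Cfsg.Agent.Lib.Helper4.TCY5FU12.chk64 v (by omega) (by omega)
  rcases Nat.lt_or_ge v 114701 with h65 | h65
  · exact (data.checkRange_iff 114101 600).mp Cfsg.Agent.Lib.Helper4.TCY5FU13.chk65 v (by omega) (by omega)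
  rcases Nat.lt_or_ge v 115301 with h66 | h66
  · exact (data.checkRange_iff 114701 600).mp Cfsg.Agent.Lib.Helper4.TCY5FU13.chk66 v (by omega) (by omega)
  rcases Nat.lt_or_ge v 115901 with h67 | h67
  · exact (data.checkRange_iff 115301 600).mp Cfsg.Agent.Lib.Helper4.TCY5FU13.chk67 v (by omega) (by omega)
  rcases Nat.lt_or_ge v 116501 with h68 | h68
  · exact (data.checkRange_iff 115901 600).mp Cfsg.Agent.Lib.Helper4.TCY5FU13.chk68 v (by omega) (by omega)
  rcases Nat.lt_or_ge v 117101 with h69 | h69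
  · exact (data.checkRange_iff 116501 600).mp Cfsg.Agent.Lib.Helper4.TCY5FU13.chk69 v (by omega) (by omega)
  rcases Nat.lt_or_ge v 117701 with h70 | h70
  · exact (data.checkRange_iff 117101 600).mp Cfsg.Agent.Lib.Helper4.TCY5FU14.chk70 v (by omega) (by omega)
  rcases Nat.lt_or_ge v 118301 with h71 | h71
  · exact (data.checkRange_iff 117701 600).mp Cfsg.Agent.Lib.Helper4.TCY5FU14.chk71 v (by omega) (by omega)
  rcases Nat.lt_or_ge v 118901 with h72 | h72
  · exact (data.checkRange_iff 118301 600).mp Cfsg.Agent.Lib.Helper4.TCY5FU14.chk72 v (by omega) (by omega)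
  rcases Nat.lt_or_ge v 119501 with h73 | h73
  · exact (data.checkRange_iff 118901 600).mp Cfsg.Agent.Lib.Helper4.TCY5FU14.chk73 v (by omega) (by omega)
  exact (data.checkRange_iff 119501 111).mp Cfsg.Agent.Lib.Helper4.TCY5FU14.chk74 v (by omega) (by omega)

theorem hrows : ∀ v, v < data.N → Data.rowOK data v = true := by
  intro v hv
  have hv' : v < 119612 := hv
  rcases Nat.lt_or_ge v 9259 with h0 | h0
  · exact (Data.finalRange_iff data 0 9259).mp Cfsg.Agent.Lib.Helper4.TCY5FM0.fin0 v (by omega) (by omega)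
  rcases Nat.lt_or_ge v 18518 with h1 | h1
  · exact (Data.finalRange_iff data 9259 9259).mp Cfsg.Agent.Lib.Helper4.TCY5FM0.fin1 v (by omega) (by omega)
  rcases Nat.lt_or_ge v 27777 with h2 | h2
  · exact (Data.finalRange_iff data 18518 9259).mp Cfsg.Agent.Lib.Helper4.TCY5FM0.fin2 v (by omega) (by omega)
  rcases Nat.lt_or_ge v 37036 with h3 | h3
  · exact (Data.finalRange_iff data 27777 9259).mp Cfsg.Agent.Lib.Helper4.TCY5FM0.fin3 v (by omega) (by omega)
  rcases Nat.lt_or_ge v 46295 with h4 | h4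
  · exact (Data.finalRange_iff data 37036 9259).mp Cfsg.Agent.Lib.Helper4.TCY5FM0.fin4 v (by omega) (by omega)
  rcases Nat.lt_or_ge v 55554 with h5 | h5
  · exact (Data.finalRange_iff data 46295 9259).mp Cfsg.Agent.Lib.Helper4.TCY5FM1.fin5 v (by omega) (by omega)
  rcases Nat.lt_or_ge v 64813 with h6 | h6
  · exact (Data.finalRange_iff data 55554 9259).mp Cfsg.Agent.Lib.Helper4.TCY5FM1.fin6 v (by omega) (by omega)
  rcases Nat.lt_or_ge v 74072 with h7 | h7
  · exact (Data.finalRange_iff data 64813 9259).mp Cfsg.Agent.Lib.Helper4.TCY5FM1.fin7 v (by omega) (by omega)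
  rcases Nat.lt_or_ge v 83331 with h8 | h8
  · exact (Data.finalRange_iff data 74072 9259).mp Cfsg.Agent.Lib.Helper4.TCY5FM1.fin8 v (by omega) (by omega)
  rcases Nat.lt_or_ge v 92590 with h9 | h9
  · exact (Data.finalRange_iff data 83331 9259).mp Cfsg.Agent.Lib.Helper4.TCY5FM1.fin9 v (by omega) (by omega)
  rcases Nat.lt_or_ge v 101849 with h10 | h10
  · exact (Data.finalRange_iff data 92590 9259).mp Cfsg.Agent.Lib.Helper4.TCY5FM2.fin10 v (by omega) (by omega)
  rcases Nat.lt_or_ge v 111108 with h11 | h11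
  · exact (Data.finalRange_iff data 101849 9259).mp Cfsg.Agent.Lib.Helper4.TCY5FM2.fin11 v (by omega) (by omega)
  exact (Data.finalRange_iff data 111108 8504).mp Cfsg.Agent.Lib.Helper4.TCY5FM2.fin12 v (by omega) (by omega)

theorem hfin : data.finalOK = true := Data.finalOK_of_rows data Cfsg.Agent.Lib.Helper4.TCY5FM3.hlive0 (by decide) hrows

theorem pc0 : Data.countFrom data 0 40000 = 9821 := Cfsg.Agent.Lib.Helper4.TCY5FM2.cnt0
theorem pc1 : Data.countFrom data 0 80000 = 13891 := Data.countFrom_step data pc0 Cfsg.Agent.Lib.Helper4.TCY5FM2.cnt1 (by norm_num) (by norm_num)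
theorem pc2 : Data.countFrom data 0 119612 = 28160 := Data.countFrom_step data pc1 Cfsg.Agent.Lib.Helper4.TCY5FM3.cnt2 (by norm_num) (by norm_num)

theorem hcount : data.countLive = 28160 := by
  rw [Data.countLive_eq]
  exact pc2

/-- the upper bound for the index -/
theorem mainU : Finite (PresentedGroup rels ⧸ (Subgroup.closure S).map (PresentedGroup.mk rels)) ∧
    Nat.card (PresentedGroup rels ⧸ (Subgroup.closure S).map (PresentedGroup.mk rels)) ≤ 28160 := by
  have h := upper link hchk hfin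
  rw [hcount] at h
  exact h

end Cfsg.Agent.Lib.Helper4.TCY5FMain
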