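import Cfsg.Agent.Lib.Helper4.TCY5FU2 -- chain
import Cfsg.Agent.Lib.Helper4.TCY5FData
set_option autoImplicit false
set_option maxRecDepth 100000
set_option maxHeartbeats 0

namespace Cfsg.Agent.Lib.Helper4.TCY5FU5
open Cfsg.Agent.Lib.Helper28.TC2Upper Cfsg.Agent.Lib.Helper4.TCY5FData

theorem chk25 : data.checkRange 32761 1704 = true := by decide +kernel
theorem chk26 : data.checkRange 34465 2801 = true := by decide +kernel
theorem chk27 : data.checkRange 37266 3341 = true := by decide +kernel
theorem chk28 : data.checkRange 40607 2035 = true := by decide +kernel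
theorem chk29 : data.checkRange 42642 1112 = true := by decide +kernel

end Cfsg.Agent.Lib.Helper4.TCY5FU5
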