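import Cfsg.Agent.Lib.Helper4.TCY5GBChk8 -- chain
import Cfsg.Agent.Lib.Helper4.TCY5GBTable
import Cfsg.Agent.Lib.Helper4.TCY5GW0Table
set_option autoImplicit false
set_option maxRecDepth 100000
set_option maxHeartbeats 0

namespace Cfsg.Agent.Lib.Helper4.TCY5GBChk10
open Cfsg.Agent.Lib.Helper28.TC2Upper Cfsg.Agent.Lib.Helper28.TC2Lower Cfsg.Agent.Lib.Helper28.TC2Orbit Cfsg.Agent.Lib.Helper28.TC2Range Cfsg.Agent.Lib.Helper28.TC2Bsgs Cfsg.Agent.Lib.Helper4.TCY5GBTable

theorem hgens5 : BT.all (fun s => decide (s ∈ A5.map fun l => [l])) orb5.gens = true := by decide +kernel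
theorem hA5 : ∀ l ∈ A5, l < btable.k ∧ ∀ q ∈ ([4, 3, 1, 2, 0] : List ℕ), btable.tau l q = q := by decide +kernel
theorem conn6_0 : OrbData.connOKc orb6 btable 1 0 1080 = true := by decide +kernel
theorem cnt6 : orb6.count 1080 1 = 2 := by decide +kernel
theorem hgens6 : BT.all (fun s => decide (s ∈ A6.map fun l => [l])) orb6.gens = true := by decide +kernel

end Cfsg.Agent.Lib.Helper4.TCY5GBChk10
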