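import Cfsg.Agent.Lib.Helper4.TCY5GBChk9 -- chain
import Cfsg.Agent.Lib.Helper4.TCY5GBTable
import Cfsg.Agent.Lib.Helper4.TCY5GW0Table
set_option autoImplicit false
set_option maxRecDepth 100000
set_option maxHeartbeats 0

namespace Cfsg.Agent.Lib.Helper4.TCY5GBChk11
open Cfsg.Agent.Lib.Helper28.TC2Upper Cfsg.Agent.Lib.Helper28.TC2Lower Cfsg.Agent.Lib.Helper28.TC2Orbit Cfsg.Agent.Lib.Helper28.TC2Range Cfsg.Agent.Lib.Helper28.TC2Bsgs Cfsg.Agent.Lib.Helper4.TCY5GBTable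

theorem hA6 : ∀ l ∈ A6, l < btable.k ∧ ∀ q ∈ ([5, 4, 3, 1, 2, 0] : List ℕ), btable.tau l q = q := by decide +kernel
theorem conn7_0 : OrbData.connOKc orb7 btable 1 0 1080 = true := by decide +kernel
theorem cnt7 : orb7.count 1080 1 = 2 := by decide +kernel
theorem hgens7 : BT.all (fun s => decide (s ∈ A7.map fun l => [l])) orb7.gens = true := by decide +kernel
theorem hA7 : ∀ l ∈ A7, l < btable.k ∧ ∀ q ∈ ([6, 5, 4, 3, 1, 2, 0] : List ℕ), btable.tau l q = q := by decide +kernel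

end Cfsg.Agent.Lib.Helper4.TCY5GBChk11
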