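import Cfsg.Agent.Lib.Helper4.TCY5GBChk10 -- chain
import Cfsg.Agent.Lib.Helper4.TCY5GBTable
import Cfsg.Agent.Lib.Helper4.TCY5GW0Table
set_option autoImplicit false
set_option maxRecDepth 100000
set_option maxHeartbeats 0

namespace Cfsg.Agent.Lib.Helper4.TCY5GBChk12
open Cfsg.Agent.Lib.Helper28.TC2Upper Cfsg.Agent.Lib.Helper28.TC2Lower Cfsg.Agent.Lib.Helper28.TC2Orbit Cfsg.Agent.Lib.Helper28.TC2Range Cfsg.Agent.Lib.Helper28.TC2Bsgs Cfsg.Agent.Lib.Helper4.TCY5GBTable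

theorem hinvOK : btable.invOK = true := by decide +kernel
theorem dlt : defsLt 9 btable.k defs = true := by decide +kernel

end Cfsg.Agent.Lib.Helper4.TCY5GBChk12
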