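import Cfsg.Agent.Lib.Helper4.TCY5GBChk0 -- chain
import Cfsg.Agent.Lib.Helper4.TCY5GBTable
import Cfsg.Agent.Lib.Helper4.TCY5GW0Table
set_option autoImplicit false
set_option maxRecDepth 100000
set_option maxHeartbeats 0

namespace Cfsg.Agent.Lib.Helper4.TCY5GBChk2
open Cfsg.Agent.Lib.Helper28.TC2Upper Cfsg.Agent.Lib.Helper28.TC2Lower Cfsg.Agent.Lib.Helper28.TC2Orbit Cfsg.Agent.Lib.Helper28.TC2Range Cfsg.Agent.Lib.Helper28.TC2Bsgs Cfsg.Agent.Lib.Helper4.TCY5GBTable

theorem def17_0 : defRange btable defs 17 0 1080 = true := by decide +kernel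
theorem def18_0 : defRange btable defs 18 0 1080 = true := by decide +kernel
theorem def19_0 : defRange btable defs 19 0 1080 = true := by decide +kernel
theorem def20_0 : defRange btable defs 20 0 1080 = true := by decide +kernel
theorem def21_0 : defRange btable defs 21 0 1080 = true := by decide +kernel

end Cfsg.Agent.Lib.Helper4.TCY5GBChk2
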