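import Cfsg.Agent.Lib.Helper4.TCY5GBChk2 -- chain
import Cfsg.Agent.Lib.Helper4.TCY5GBTable
import Cfsg.Agent.Lib.Helper4.TCY5GW0Table
set_option autoImplicit false
set_option maxRecDepth 100000
set_option maxHeartbeats 0

namespace Cfsg.Agent.Lib.Helper4.TCY5GBChk4
open Cfsg.Agent.Lib.Helper28.TC2Upper Cfsg.Agent.Lib.Helper28.TC2Lower Cfsg.Agent.Lib.Helper28.TC2Orbit Cfsg.Agent.Lib.Helper28.TC2Range Cfsg.Agent.Lib.Helper28.TC2Bsgs Cfsg.Agent.Lib.Helper4.TCY5GBTable

theorem def27_0 : defRange btable defs 27 0 1080 = true := by decide +kernel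
theorem def28_0 : defRange btable defs 28 0 1080 = true := by decide +kernel
theorem def29_0 : defRange btable defs 29 0 1080 = true := by decide +kernel
theorem def30_0 : defRange btable defs 30 0 1080 = true := by decide +kernel
theorem def31_0 : defRange btable defs 31 0 1080 = true := by decide +kernel

end Cfsg.Agent.Lib.Helper4.TCY5GBChk4
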