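import Cfsg.Agent.Lib.Helper4.TCY5GBChk3 -- chain
import Cfsg.Agent.Lib.Helper4.TCY5GBTable
import Cfsg.Agent.Lib.Helper4.TCY5GW0Table
set_option autoImplicit false
set_option maxRecDepth 100000
set_option maxHeartbeats 0

namespace Cfsg.Agent.Lib.Helper4.TCY5GBChk5
open Cfsg.Agent.Lib.Helper28.TC2Upper Cfsg.Agent.Lib.Helper28.TC2Lower Cfsg.Agent.Lib.Helper28.TC2Orbit Cfsg.Agent.Lib.Helper28.TC2Range Cfsg.Agent.Lib.Helper28.TC2Bsgs Cfsg.Agent.Lib.Helper4.TCY5GBTable

theorem def32_0 : defRange btable defs 32 0 1080 = true := by decide +kernel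
theorem def33_0 : defRange btable defs 33 0 1080 = true := by decide +kernel
theorem def34_0 : defRange btable defs 34 0 1080 = true := by decide +kernel
theorem conn0_0 : OrbData.connOKc orb0 btable 1 0 1080 = true := by decide +kernel
theorem cnt0 : orb0.count 1080 1 = 1080 := by decide +kernel

end Cfsg.Agent.Lib.Helper4.TCY5GBChk5
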