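import Cfsg.Prelude.Def_SporCoxeter
import Cfsg.Agent.Lib.Helper4.Y5BDef
set_option autoImplicit false

/-! Y422 + spider + w0(E8) = 1 -/

namespace Cfsg.Agent.Lib.Helper4.Y5GW0Def

/-- the generators -/
inductive Gen
  | a
  | b1
  | c1
  | d1
  | e1
  | b2
  | c2
  | b3
  | c3
  deriving DecidableEq

/-- the generators as generators of the larger presentation -/
def up : Gen → Cfsg.Agent.Lib.Helper4.Y5BDef.Gen
  | .a => .a
  | .b1 => .b1
  | .c1 => .c1
  | .d1 => .d1
  | .e1 => .e1
  | .b2 => .b2
  | .c2 => .c2
  | .b3 => .b3
  | .c3 => .c3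

/-- the Coxeter graph -/
def edges : List (Gen × ℕ × Gen) :=
  [(.a, 3, .b1), (.b1, 3, .c1), (.c1, 3, .d1), (.d1, 3, .e1), (.a, 3, .b2), (.b2, 3, .c2), (.a, 3, .b3), (.b3, 3, .c3)]

/-- the further relators -/
def extra : List (FreeGroup Gen) := [
  FreeGroup.mk [(.a, true), (.b2, true), (.c2, true), (.a, true), (.b1, true), (.c1, true), (.a, true), (.b3, true), (.c3, true), (.a, true), (.b2, true), (.c2, true), (.a, true), (.b1, true), (.c1, true), (.a, true), (.b3, true), (.c3, true), (.a, true), (.b2, true), (.c2, true), (.a, true), (.b1, true), (.c1, true), (.a, true), (.b3, true), (.c3, true), (.a, true), (.b2, true), (.c2, true), (.a, true), (.b1, true), (.c1, true), (.a, true), (.b3, true), (.c3, true), (.a, true), (.b2, true), (.c2, true), (.a, true), (.b1, true), (.c1, true), (.a, true), (.b3, true), (.c3, true), (.a, true), (.b2, true), (.c2, true), (.a, true), (.b1, true), (.c1, true), (.a, true), (.b3, true), (.c3, true), (.a, true), (.b2, true), (.c2, true), (.a, true), (.b1, true), (.c1, true), (.a, true), (.b3, true), (.c3, true), (.a, true), (.b2,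 true), (.c2, true), (.a, true), (.b1, true), (.c1, true), (.a, true), (.b3, true), (.c3, true), (.a, true), (.b2, true), (.c2, true), (.a, true), (.b1, true), (.c1, true), (.a, true), (.b3, true), (.c3, true), (.a, true), (.b2, true), (.c2, true), (.a, true), (.b1, true), (.c1, true), (.a, true), (.b3, true), (.c3, true)],
  FreeGroup.mk [(.a, true), (.b1, true), (.c1, true), (.d1, true), (.e1, true), (.b2, true), (.c2, true), (.b3, true), (.a, true), (.b1, true), (.c1, true), (.d1, true), (.e1, true), (.b2, true), (.c2, true), (.b3, true), (.a, true), (.b1, true), (.c1, true), (.d1, true), (.e1, true), (.b2, true), (.c2, true), (.b3, true), (.a, true), (.b1, true), (.c1, true), (.d1, true), (.e1, true), (.b2, true), (.c2, true), (.b3, true), (.a, true), (.b1, true), (.c1, true), (.d1, true), (.e1, true), (.b2, true), (.c2, true), (.b3, true), (.a, true), (.b1, true), (.c1, true), (.d1, true), (.e1, true), (.b2, true), (.c2, true), (.b3, true), (.a, true), (.b1, true), (.c1, true), (.d1, true), (.e1, true), (.b2, true), (.c2, true), (.b3, true), (.a, true), (.b1,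 true), (.c1, true), (.d1, true), (.e1, true), (.b2, true), (.c2, true), (.b3, true), (.a, true), (.b1, true), (.c1, true), (.d1, true), (.e1, true), (.b2, true), (.c2, true), (.b3, true), (.a, true), (.b1, true), (.c1, true), (.d1, true), (.e1, true), (.b2, true), (.c2, true), (.b3, true), (.a, true), (.b1, true), (.c1, true), (.d1, true), (.e1, true), (.b2, true), (.c2, true), (.b3, true), (.a, true), (.b1, true), (.c1, true), (.d1, true), (.e1, true), (.b2, true), (.c2, true), (.b3, true), (.a, true), (.b1, true), (.c1, true), (.d1, true), (.e1, true), (.b2, true), (.c2, true), (.b3, true), (.a, true), (.b1, true), (.c1, true), (.d1, true), (.e1, true), (.b2, true), (.c2, true), (.b3, true), (.a, true), (.b1, true), (.c1, true), (.d1, true), (.e1, true), (.b2, true), (.c2, true), (.b3, true)] ]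

end Cfsg.Agent.Lib.Helper4.Y5GW0Def
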