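import Cfsg.Agent.Lib.Helper4.TCY5GW0U0 -- chain
import Cfsg.Agent.Lib.Helper4.TCY5GW0Data
set_option autoImplicit false
set_option maxRecDepth 100000
set_option maxHeartbeats 0

namespace Cfsg.Agent.Lib.Helper4.TCY5GW0U1
open Cfsg.Agent.Lib.Helper28.TC2Upper Cfsg.Agent.Lib.Helper4.TCY5GW0Data

theorem chk5 : data.checkRange 12345 4870 = true := by decide +kernel
theorem chk6 : data.checkRange 17215 5030 = true := by decide +kernel
theorem chk7 : data.checkRange 22245 5117 = true := by decide +kernel
theorem chk8 : data.checkRange 27362 5761 = true := by decide +kernel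
theorem chk9 : data.checkRange 33123 417 = true := by decide +kernel

end Cfsg.Agent.Lib.Helper4.TCY5GW0U1
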