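import Mathlib
import Cfsg.Agent.Lib.Helper8.TWS2ALemA
import Cfsg.Agent.Lib.Helper9.TWST3
import Cfsg.Agent.Lib.Helper23.TWG1
import Cfsg.Agent.Lib.Helper12.TWTS
import Cfsg.Agent.Lib.Helper20.AschA89F2J

/-!
# S5668 (C7 symplectic; owner helper5) — STAGE II, CASE A (owner helper8): pure-tensor lemmas P2, P3, P6 (helper4)

`pure_bracket`, `pure_compress`, `pure_brackets`: conjugating a pure-tensor unipotent `1 + c • ptens W ∈ X` by the
transvections `slot l (1 ± N_u) ∈ H ≤ X`; the anchor slot `m ≠ l` with `W m * W m = 0` kills all quadratic terms.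
-/

set_option autoImplicit false
set_option linter.unusedSectionVars false
set_option linter.unusedVariables false

namespace Cfsg.Agent.Lib.Helper4.TWS2ALeaf
open Matrix Cfsg.Geo Cfsg.Agent.Lib.Helper18.AschA89 Cfsg.Agent.Lib.Helper8.TW
open Cfsg.Agent.Lib.Helper5.TWS Cfsg.Agent.Lib.Helper28.TWU2A
open Cfsg.Agent.Lib.Helper25.SpT (sf sfv)
open Cfsg.Agent.Lib.Helper29.TWSOne Cfsg.Agent.Lib.Helper8.TWS2A

variable {F : Type*} [Field F] {t k : ℕ}

/-! ### `ptens` is linear in one factor -/

lemma ptens_upd_apply4 (G : Fin t → Matrix (Fin k) (Fin k) F) (l : Fin t)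
    (A : Matrix (Fin k) (Fin k) F) (x y : Fin t → Fin k) :
    ptens k t (Function.update G l A) x y =
      A (x l) (y l) * ∏ i ∈ Finset.univ.erase l, G i (x i) (y i) := by
  rw [ptens_apply, ← Finset.mul_prod_erase Finset.univ _ (Finset.mem_univ l), Function.update_self]
  congr 1
  apply Finset.prod_congr rfl
  intro i hi
  rw [Function.update_of_ne (Finset.ne_of_mem_erase hi)]

lemma ptens_upd_add4 (G : Fin t → Matrix (Fin k) (Fin k) F) (l : Fin t) (A B : Matrix (Fin k) (Fin k) F) :
    ptens k t (Function.update G l (A + B)) =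
      ptens k t (Function.update G l A) + ptens k t (Function.update G l B) := by
  ext x y
  rw [Matrix.add_apply, ptens_upd_apply4, ptens_upd_apply4, ptens_upd_apply4, Matrix.add_apply, add_mul]

lemma ptens_upd_sub4 (G : Fin t → Matrix (Fin k) (Fin k) F) (l : Fin t) (A B : Matrix (Fin k) (Fin k) F) :
    ptens k t (Function.update G l (A - B)) =
      ptens k t (Function.update G l A) - ptens k t (Function.update G l B) := by
  ext x y
  rw [Matrix.sub_apply, ptens_upd_apply4, ptens_upd_apply4, ptens_upd_apply4, Matrix.sub_apply, sub_mul]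

lemma ptens_upd_neg4 (G : Fin t → Matrix (Fin k) (Fin k) F) (l : Fin t) (A : Matrix (Fin k) (Fin k) F) :
    ptens k t (Function.update G l (-A)) = -ptens k t (Function.update G l A) := by
  ext x y
  rw [Matrix.neg_apply, ptens_upd_apply4, ptens_upd_apply4, Matrix.neg_apply, neg_mul]

lemma ptens_upd_smul4 (G : Fin t → Matrix (Fin k) (Fin k) F) (l : Fin t) (c : F) (A : Matrix (Fin k) (Fin k) F) :
    ptens k t (Function.update G l (c • A)) = c • ptens k t (Function.update G l A) := by
  ext x y
  rw [Matrix.smul_apply, ptens_upd_apply4, ptens_upd_apply4, Matrix.smul_apply, smul_eq_mul,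
    smul_eq_mul, mul_assoc]

lemma ptens_zero4 (G : Fin t → Matrix (Fin k) (Fin k) F) (i : Fin t) (h : G i = 0) :
    ptens k t G = 0 := by
  ext x y
  rw [ptens_apply, Matrix.zero_apply]
  apply Finset.prod_eq_zero (Finset.mem_univ i)
  rw [h, Matrix.zero_apply]

/-- products of two pure tensors with the same square-zero anchor weight at `m ≠ l` vanish -/
lemma upd_mul_upd_zero4 (W : Fin t → Matrix (Fin k) (Fin k) F) (c c' : F) (m l : Fin t) (hml : m ≠ l)
    (hm : W m * W m = 0) (E E' : Matrix (Fin k) (Fin k) F) :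
    (c • ptens k t (Function.update W l E)) * (c' • ptens k t (Function.update W l E')) = 0 := by
  rw [Matrix.smul_mul, Matrix.mul_smul, Cfsg.Agent.Lib.Helper20.AschLeaf.ptens_mul,
    ptens_zero4 _ m (by
      show Function.update W l E m * Function.update W l E' m = 0
      rw [Function.update_of_ne hml, Function.update_of_ne hml, hm]), smul_zero, smul_zero]

/-- conjugation of a pure tensor by `slot l g` -/
lemma slot_conj_ptens4 (W : Fin t → Matrix (Fin k) (Fin k) F) (l : Fin t) (A B : Matrix (Fin k) (Fin k) F) (c : F) :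
    slot k t l A * (c • ptens k t W) * slot k t l B = c • ptens k t (Function.update W l (A * W l * B)) := by
  rw [Matrix.mul_smul, Matrix.smul_mul, Cfsg.Agent.Lib.Helper12.TWLeaf.slot_mul_ptens,
    Cfsg.Agent.Lib.Helper12.TWLeaf.ptens_mul_slot, Function.update_self, Function.update_idem]

/-- the transvection `slot l (1 + N_u)` lies in `H` -/
lemma slotGL_unipNz_mem_HS (hk : Even k) (l : Fin t) (u : Fin k → F) (c : F) :
    slotGL l (unip (c • Nz u) (Nz_smul_sq u c)) ∈ HS t k F :=
  ⟨Cfsg.Agent.Lib.Helper23.TWLeaf.slotGL_mem_G l _,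
    Cfsg.Agent.Lib.Helper9.TWST.slotGL_mem_GSV hk l (unipNz_mem_GSA u c)⟩

/-- the two conjugates of `1 + c • ptens W` by `slot l (1 ± N_u)` -/
lemma conj_plus4 (hk : Even k) (X : Subgroup (GL (Idx t k) F)) (hHX : HS t k F ≤ X)
    (W : Fin t → Matrix (Fin k) (Fin k) F) (c : F) (l : Fin t) (u : Fin k → F)
    (h : InM X (1 + c • ptens k t W)) :
    InM X (1 + c • ptens k t (Function.update W l ((1 + Nz u) * W l * (1 - Nz u)))) := by
  have h1 := InM_conj8 X (slotGL l (unip ((1 : F) • Nz u) (Nz_smul_sq u 1)))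
    (hHX (slotGL_unipNz_mem_HS hk l u 1)) (c • ptens k t W) h
  have e : (((slotGL l (unip ((1 : F) • Nz u) (Nz_smul_sq u 1)))⁻¹ : GL (Idx t k) F) :
      Matrix (Idx t k) (Idx t k) F) = slot k t l (1 - (1 : F) • Nz u) := rfl
  rw [slotGL_val, e, unip_val, one_smul, slot_conj_ptens4] at h1
  exact h1

lemma conj_minus4 (hk : Even k) (X : Subgroup (GL (Idx t k) F)) (hHX : HS t k F ≤ X)
    (W : Fin t → Matrix (Fin k) (Fin k) F) (c : F) (l : Fin t) (u : Fin k → F)
    (h : InM X (1 + c • ptens k t W)) :
    InM X (1 + c • ptens k t (Function.update W l ((1 - Nz u) * W l * (1 + Nz u)))) := by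
  have hg := X.inv_mem (hHX (slotGL_unipNz_mem_HS (t := t) hk l u 1))
  have h1 := InM_conj8 X _ hg (c • ptens k t W) h
  have e : (((slotGL l (unip ((1 : F) • Nz u) (Nz_smul_sq u 1)))⁻¹ : GL (Idx t k) F) :
      Matrix (Idx t k) (Idx t k) F) = slot k t l (1 - (1 : F) • Nz u) := rfl
  rw [inv_inv, slotGL_val, e, unip_val, one_smul, slot_conj_ptens4] at h1
  exact h1

/-- **P2** one bracket with `N_u` at slot `l` -/
theorem pure_bracket (hk : Even k) (X : Subgroup (GL (Idx t k) F)) (hHX : HS t k F ≤ X)
    (W : Fin t → Matrix (Fin k) (Fin k) F) (c : F) (m l : Fin t) (hml : m ≠ l) (hm : W m * W m = 0)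
    (u : Fin k → F) (h : InM X (1 + c • ptens k t W)) :
    InM X (1 + (c + c) • ptens k t (Function.update W l (Nz u * W l - W l * Nz u))) := by
  have hp := conj_plus4 hk X hHX W c l u h
  have hq := conj_minus4 hk X hHX W c l u h
  have h3 := InM_quot8 X _ _ hp hq (upd_mul_upd_zero4 W c c m l hml hm _ _)
    (upd_mul_upd_zero4 W c c m l hml hm _ _)
  have e : c • ptens k t (Function.update W l ((1 + Nz u) * W l * (1 - Nz u))) -
      c • ptens k t (Function.update W l ((1 - Nz u) * W l * (1 + Nz u))) =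
      (c + c) • ptens k t (Function.update W l (Nz u * W l - W l * Nz u)) := by
    rw [← smul_sub, ← ptens_upd_sub4, sub_eq_add_neg, conj_pm_sub, ptens_upd_add4, add_smul, smul_add]
  rw [e] at h3
  exact h3

/-- **P3** one compression with `N_u` at slot `l` -/
theorem pure_compress (hk : Even k) (X : Subgroup (GL (Idx t k) F)) (hHX : HS t k F ≤ X)
    (W : Fin t → Matrix (Fin k) (Fin k) F) (c : F) (m l : Fin t) (hml : m ≠ l) (hm : W m * W m = 0)
    (u : Fin k → F) (h : InM X (1 + c • ptens k t W)) :
    InM X (1 + (-(c + c)) • ptens k t (Function.update W l (Nz u * W l * Nz u))) := by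
  have hp := conj_plus4 hk X hHX W c l u h
  have hq := conj_minus4 hk X hHX W c l u h
  have h0 : InM X (1 + c • ptens k t (Function.update W l (W l))) := by
    rw [Function.update_eq_self]; exact h
  have h3 := InM_mul8 X _ _ hp hq (upd_mul_upd_zero4 W c c m l hml hm _ _)
  rw [← smul_add, ← ptens_upd_add4] at h3
  have h4 := InM_quot8 X _ _ h3 h0 (upd_mul_upd_zero4 W c c m l hml hm _ _)
    (upd_mul_upd_zero4 W c c m l hml hm _ _)
  rw [← smul_sub, ← ptens_upd_sub4] at h4
  have h5 := InM_quot8 X _ _ h4 h0 (upd_mul_upd_zero4 W c c m l hml hm _ _)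
    (upd_mul_upd_zero4 W c c m l hml hm _ _)
  rw [← smul_sub, ← ptens_upd_sub4] at h5
  have e : (1 + Nz u) * W l * (1 - Nz u) + (1 - Nz u) * W l * (1 + Nz u) - W l - W l =
      -(Nz u * W l * Nz u + Nz u * W l * Nz u) := by
    rw [← conj_pm_add (Nz u) (W l), sub_eq_add_neg, sub_eq_add_neg]
  rw [e, ptens_upd_neg4, ptens_upd_add4, smul_neg, ← neg_smul, ← two_smul F, smul_smul] at h5
  have e2 : -c * 2 = -(c + c) := by ring
  rw [e2] at h5
  exact h5

/-- **P6** brackets at all slots of `D` (the anchor `m ∉ D` keeps its weight) -/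
theorem pure_brackets (hk : Even k) (X : Subgroup (GL (Idx t k) F)) (hHX : HS t k F ≤ X)
    (W : Fin t → Matrix (Fin k) (Fin k) F) (c : F) (m : Fin t) (hm : W m * W m = 0)
    (D : Finset (Fin t)) (hmD : m ∉ D) (u : Fin t → Fin k → F) (h : InM X (1 + c • ptens k t W)) :
    InM X (1 + ((2 : F) ^ D.card * c) • ptens k t
      (fun l => if l ∈ D then Nz (u l) * W l - W l * Nz (u l) else W l)) := by
  induction D using Finset.induction_on with
  | empty =>
    simp only [Finset.card_empty, pow_zero, one_mul, Finset.notMem_empty, if_false]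
    exact h
  | insert a D haD ih =>
    have hma : m ≠ a := fun e => hmD (e ▸ Finset.mem_insert_self a D)
    have hmD' : m ∉ D := fun e => hmD (Finset.mem_insert_of_mem e)
    have ih' := ih hmD'
    have hm' : (fun l => if l ∈ D then Nz (u l) * W l - W l * Nz (u l) else W l) m *
        (fun l => if l ∈ D then Nz (u l) * W l - W l * Nz (u l) else W l) m = 0 := by
      show (if m ∈ D then _ else W m) * (if m ∈ D then _ else W m) = 0
      rw [if_neg hmD', hm]
    have h1 := pure_bracket hk X hHX _ _ m a hma hm' (u a) ih'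
    have e1 : Function.update (fun l => if l ∈ D then Nz (u l) * W l - W l * Nz (u l) else W l) a
        (Nz (u a) * (fun l => if l ∈ D then Nz (u l) * W l - W l * Nz (u l) else W l) a -
          (fun l => if l ∈ D then Nz (u l) * W l - W l * Nz (u l) else W l) a * Nz (u a)) =
        (fun l => if l ∈ insert a D then Nz (u l) * W l - W l * Nz (u l) else W l) := by
      funext l
      by_cases hla : l = a
      · subst hla
        rw [Function.update_self]
        show Nz (u l) * (if l ∈ D then _ else W l) - (if l ∈ D then _ else W l) * Nz (u l) = _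
        rw [if_neg haD, if_pos (Finset.mem_insert_self l D)]
      · rw [Function.update_of_ne hla]
        by_cases hlD : l ∈ D
        · rw [if_pos hlD, if_pos (Finset.mem_insert_of_mem hlD)]
        · rw [if_neg hlD, if_neg (fun e => (Finset.mem_insert.1 e).elim hla hlD)]
    rw [e1] at h1
    have e2 : (2 : F) ^ D.card * c + (2 : F) ^ D.card * c = (2 : F) ^ (insert a D).card * c := by
      rw [Finset.card_insert_of_notMem haD, pow_succ]; ring
    rw [e2] at h1
    exact h1

end Cfsg.Agent.Lib.Helper4.TWS2ALeaf
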