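import Mathlib
import Cfsg.Agent.Lib.Helper5.TWU.Defs
import Cfsg.Agent.Lib.Helper8.TW.Defs
import Cfsg.Agent.Lib.Helper22.TWExtBasic
import Cfsg.Agent.Lib.Helper22.TWExtMore
import Cfsg.Agent.Lib.Helper22.TWQK
import Cfsg.Agent.Lib.Helper22.TWQStab
import Cfsg.Agent.Lib.Helper23.TWG1
import Cfsg.Agent.Lib.Helper23.TWG6
import Cfsg.Agent.Lib.Helper23.TWUT3
import Cfsg.Agent.Lib.Helper26.TWFibA
import Cfsg.Agent.Lib.Helper26.TWFibB
import Cfsg.Agent.Lib.Helper16.TWImg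
import Cfsg.Agent.Lib.Helper12.TWIIBZ
import Cfsg.Agent.Lib.Helper12.TWIIBS
import Cfsg.Agent.Lib.Helper28.TWIIBE
import Cfsg.Agent.Lib.Helper14.TWIIDefs
import Cfsg.Agent.Lib.Helper14.TWIIBBK
import Cfsg.Agent.Lib.Helper14.TWIIBB1
import Cfsg.Agent.Lib.Helper14.TWUIIDefs

import Cfsg.Agent.Lib.Helper5.SUGen
import Cfsg.Agent.Lib.Helper5.SUMax
import Cfsg.Agent.Lib.Helper5.UForm
import Cfsg.Agent.Lib.Helper5.HermBridge

/-!
S5672 (C7 unitary) Stage II (sub-planner helper14), leaves **T2** `slotGL_mem_HU` and **T6** `exists_SUA_map` (helper4).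
-/


set_option autoImplicit false
set_option linter.unusedSectionVars false
set_option linter.unusedVariables false

namespace Cfsg.Agent.Lib.Helper4.TWUIILeaf
open Matrix Cfsg.Geo Cfsg.Agent.Lib.Helper18.AschA89 Cfsg.Agent.Lib.Helper8.TW Cfsg.Agent.Lib.Helper5.TWU
  Cfsg.Agent.Lib.Helper14.TWII Cfsg.Agent.Lib.Helper14.TWUII
open Cfsg.Agent.Lib.Helper20.UT (hv)
open Cfsg.Agent.Lib.Helper23.TWUQ (NSp)

variable {F : Type*} [Field F] [Fintype F] {t k q : ℕ}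

/-- T2 (S) -/
theorem slotGL_mem_HU (hF : Fintype.card F = q ^ 2) (i : Fin t) (α : GL (Fin k) F) (hα : α ∈ GUA k q F)
    (hdet : (α : Matrix (Fin k) (Fin k) F).det = 1) : slotGL i α ∈ HU t k q F := by
  have h1 := Cfsg.Agent.Lib.Helper12.TWIIBLeaf.slotGL_mem_H (t := t) i α hdet
  have h2 := Cfsg.Agent.Lib.Helper23.TWUT.slotGL_mem_GUV (t := t) hF i hα
  exact ⟨h1.1, h2, h1.2⟩

/-- T6 (M) `SU(A)` is transitive on non-zero isotropic vectors (`k ≥ 3`) -/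
theorem exists_SUA_map (hF : Fintype.card F = q ^ 2) (hk : 3 ≤ k) (y y' : Fin k → F) (hy0 : y ≠ 0) (hy : hv q y y = 0)
    (hy'0 : y' ≠ 0) (hy' : hv q y' y' = 0) :
    ∃ α : GL (Fin k) F, α ∈ GUA k q F ∧ (α : Matrix (Fin k) (Fin k) F).det = 1 ∧
      (α : Matrix (Fin k) (Fin k) F) *ᵥ y = y' := by
  have hf := Cfsg.Agent.Lib.Helper5.HermBridge.herm_unitary (n := k) hF
  have hd : 3 ≤ Module.finrank F (⊤ : Submodule F (Fin k → F)) := by
    rw [finrank_top, Module.finrank_fin_fun]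
    exact hk
  obtain ⟨s, -, hs⟩ := Cfsg.Agent.Lib.Helper5.SUGen.T0 hF (Cfsg.Agent.Lib.Helper5.UForm.ND_top hf) hd
    (Submodule.mem_top : y ∈ ⊤) (Submodule.mem_top : y' ∈ ⊤) hy0 hy'0 hy hy'
  refine ⟨Cfsg.Agent.Lib.Helper5.SUMax.emb k F q s, ?_, ?_, hs⟩
  · intro u v
    exact s.2 u v
  · exact (s : Matrix.SpecialLinearGroup (Fin k) F).2

end Cfsg.Agent.Lib.Helper4.TWUIILeaf
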