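import Mathlib
import Cfsg.Agent.Lib.Helper11.T23UMain
import Cfsg.Agent.Lib.Helper8.U23Q3Core
import Cfsg.Agent.Lib.Helper9.C4UTW
import Cfsg.Agent.Lib.Helper14.U23Q1b
import Cfsg.Agent.Lib.Helper5.U23Fix
import Cfsg.Agent.Lib.Helper23.U23Q3E
import Cfsg.Agent.Lib.Helper28.U23Q4

/-!
S5801 conjunct (8) at `q = 3`: final wiring of helper8's `no_nonopp_q3_of` (Helper8.U23Q3Core) onto the landed leaves
(L1, exists_x0 + twist at `-1`, helper14's `block_of_meet_two`, helper23's `T1U_of_slice`, helper28's `exists_h_meet_two`),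
the model theorem for all `q ≥ 3`, and conjunct (8) of S5801 in its frozen shape.
-/

set_option autoImplicit false
set_option linter.unusedSectionVars false
set_option linter.unusedVariables false

namespace Cfsg.Agent.Lib.Helper4.U23Q3Final
open Matrix Module
open Cfsg.Agent.Lib.Helper25.Tens Cfsg.Agent.Lib.Helper25.TensLeaf
open Cfsg.Agent.Lib.Helper20.UT Cfsg.Agent.Lib.Helper5.UTG Cfsg.Agent.Lib.Helper11.T23U
open Cfsg.Agent.Lib.Helper11.T23UMain Cfsg.Agent.Lib.Helper8.U23Q3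

variable {F : Type*} [Field F] [Fintype F] {M : Subgroup (GL (Idx 2 3) F)}

/-- the `q = 3` interface of `model_of_NO`: every pair `(R_x, g R_x)`, `g ∈ M`, is opposite or equal -/
theorem no_nonopp_q3' (h : MC 3 M) {x : Fin 2 → F} (hx0 : x ≠ 0) (hx : hv 3 x x = 0)
    {g : GL (Idx 2 3) F} (hg : g ∈ M) :
    FibA (b := 3) x ⊓ mvS g (FibA (b := 3) x) = ⊥ ∨ mvS g (FibA (b := 3) x) = FibA (b := 3) x := by
  have hF := h.hF
  have hL1 : ∀ m ∈ M, m ∈ StabA (b := 3) x → m ∈ KG 2 3 F := fun m hm hst => L1 h hx0 hx hm hst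
  have hTW : TwistProp M x := by
    intro g hg
    obtain ⟨x₀, hx₀, hgx₀⟩ := exists_x0 h hx0 hx hg
    have hmap : ∀ v ∈ FibA (b := 3) x, mv x₀ v ∈ mvS g (FibA (b := 3) x) := by
      intro v hv
      have hk := (mem_StabA.mp hgx₀.2 v).mp hv
      refine mem_mvS.mpr ⟨mv (g⁻¹ * x₀) v, hk, ?_⟩
      rw [← mv_mul, mul_inv_cancel_left]
    exact Cfsg.Agent.Lib.Helper9.C4UTW.twist h hx0 hx hg hx₀ hmap (-1 : F)
      (neg_ne_zero.mpr one_ne_zero) (by ring)
  have hB : BlockProp M x := by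
    intro g hg d hd hK
    exact Cfsg.Agent.Lib.Helper14.U23Q1b.block_of_meet_two hF h.le h.le_G hx0 hx hL1
      (fun m hm hfix => Cfsg.Agent.Lib.Helper5.U23Fix.fix_pointwise hF h.le_G hx0 hx hL1 hm hfix) hg hd hK
  have hE : EndProp M := by
    intro c hcU hc2 hcdet d hd m hm hmd
    exact Cfsg.Agent.Lib.Helper23.U23Q3.T1U_of_slice hF h.le c hcU hc2 hcdet d hd m hm hmd
  have hC : StepCProp M x := by
    intro g hg w hw hxw hK
    exact Cfsg.Agent.Lib.Helper28.U23Q4.exists_h_meet_two hF x hx0 hx w hw (mvS g (FibA (b := 3) x))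
      (Cfsg.Agent.Lib.Helper24.U23GC.isotropic_mvS hx (h.le_G hg).1)
      (by rw [Cfsg.Agent.Lib.Helper17.U23Tri.finrank_mvS, Cfsg.Agent.Lib.Helper17.U23Tri.finrank_FibA hx0])
      hxw hK
  exact no_nonopp_q3_of h hx0 hx hL1 hTW hB hE hC g hg

/-- the model theorem `GU_2(q) ⊗ GU_3(q)` maximal in `SU_6(q)` for all `q ≥ 3` -/
theorem model_all {F : Type*} [Field F] [Fintype F] {q : ℕ} (hF : Fintype.card F = q ^ 2) (hq : 3 ≤ q) :
    Cfsg.Geo.IsMaximalIn (GS 2 3 q F) (KG 2 3 F ⊓ GS 2 3 q F) := by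
  by_cases hq4 : 4 ≤ q
  · exact model_q4 hF hq4
  · obtain rfl : q = 3 := by omega
    exact model_of_NO hF (le_refl 3) (fun M h x hx0 hx g hg => no_nonopp_q3' h hx0 hx hg)

end Cfsg.Agent.Lib.Helper4.U23Q3Final
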