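-- helper4: the stabiliser GL_k(q²).2 of a pair of complementary totally isotropic k-spaces is maximal in
-- SU_2k(q) for ALL k ≥ 3 (all q).  Same statement shape as S5657 (which has 13 ≤ n; its `dep_of_star` /
-- `all_or_all` need 5 ≤ k); the "rigid" half is replaced by the unitary port of helper18's argument
-- (`Helper18.SpTIPair`): if M ≥ H contains no full transvection group centred in A ∪ B then every g ∈ M
-- mapping some non-zero a₀ ∈ A into A preserves A and B (claims A, C), and the Siegel elements of H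
-- then force M ≤ H.
import Mathlib
import Cfsg.Agent.S5657

set_option autoImplicit false
open Cfsg

namespace Cfsg.Agent.Lib.Helper4.UTIPair

set_option linter.unusedSectionVars false
set_option linter.unusedVariables false
set_option linter.unusedSimpArgs false

open Cfsg Matrix Cfsg.Agent.Lib.Helper14 Cfsg.Agent.Lib.Helper5.SpMax
  Cfsg.Agent.Lib.Helper5.UForm Cfsg.Agent.Lib.Helper5.UEichler Cfsg.Agent.Lib.Helper5.HermBridge
  Cfsg.Agent.Lib.Helper5.SUGen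
open Cfsg.Agent.S5647.S5647aux (map_eq_of_maps)
open Cfsg.Agent.Lib.Helper5.SUMax (mem_GU emb emb_mulVec emb_mem exists_tvg tv_mem_G
  Sset_smul Sset_tv Sset)
open Cfsg.Agent.S5657.S5657aux

section Basics
variable {F : Type*} [Field F] {n : ℕ}

/-- a subspace of dimension at least two is not contained in a line -/
lemma exists_not_mem_span (U : Submodule F (Fin n → F)) (hU : 2 ≤ Module.finrank F U)
    (z : Fin n → F) : ∃ a ∈ U, a ∉ Submodule.span F {z} := by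
  by_contra hcon
  push Not at hcon
  have hle : U ≤ Submodule.span F {z} := fun a ha => hcon a ha
  have h1 := Submodule.finrank_mono hle
  have h2 : Module.finrank F ↥(Submodule.span F {z}) ≤ 1 := by
    have h3 := finrank_span_le_card (R := F) ({z} : Set (Fin n → F))
    simpa using h3
  omega

lemma exists_pair (U : Submodule F (Fin n → F)) (hU : 2 ≤ Module.finrank F U) :
    ∃ b₁ ∈ U, ∃ b₂ ∈ U, b₂ ≠ 0 ∧ b₁ ≠ 0 ∧ b₁ ∉ Submodule.span F {b₂} := by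
  obtain ⟨b₂, hb₂, hb₂s⟩ := exists_not_mem_span U hU 0
  have hb₂0 : b₂ ≠ 0 := by
    rintro rfl
    exact hb₂s (Submodule.zero_mem _)
  obtain ⟨b₁, hb₁, hb₁s⟩ := exists_not_mem_span U hU b₂
  refine ⟨b₁, hb₁, b₂, hb₂, hb₂0, ?_, hb₁s⟩
  rintro rfl
  exact hb₁s (Submodule.zero_mem _)

variable {σ : F ≃+* F} {f : (Fin n → F) → (Fin n → F) → F} (hf : Cfsg.Geo.IsUnitaryForm σ f)
include hf

lemma LP.split2 {A B : Submodule F (Fin n → F)} (h : LP f A B)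
    {b₁ b₂ x : Fin n → F} (hb₁ : b₁ ∈ B) (hb₂ : b₂ ∈ B) (hb₂0 : b₂ ≠ 0)
    (hind : b₁ ∉ Submodule.span F {b₂}) (hx : x ∈ A) :
    ∃ x₁ ∈ A, ∃ x₂ ∈ A, x = x₁ + x₂ ∧ f x₁ b₁ = 0 ∧ f x₂ b₂ = 0 := by
  obtain ⟨z, hz, hz2, hz1⟩ := h.symm.sep hf hb₂ hb₁ hb₂0 hind
  have hz1' : f z b₁ ≠ 0 := u_symm_ne hf hz1
  refine ⟨x - (f x b₁ / f z b₁) • z, A.sub_mem hx (A.smul_mem _ hz),
    (f x b₁ / f z b₁) • z, A.smul_mem _ hz, by abel, ?_, ?_⟩
  · rw [u_sub_left hf, hf.smul_left, div_mul_cancel₀ _ hz1', sub_self]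
  · rw [hf.smul_left, u_symm_zero hf hz2, mul_zero]

end Basics

section Grp
variable {F : Type*} [Field F] [Fintype F] {q n : ℕ}

lemma zero_mem_Sset (hF : Fintype.card F = q ^ 2) (M : Subgroup (GL (Fin n) F)) :
    (0 : Fin n → F) ∈ Sset hF M := by
  intro c hc g hg
  have h1 : g = 1 := by
    apply Units.ext
    apply mat_eq_of_mulVec
    intro x
    rw [hg x, smul_zero, add_zero, Units.val_one, Matrix.one_mulVec]
  rw [h1]
  exact M.one_mem

/-- every skew element is `σ κ - κ` -/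
lemma exists_sub_eq (hF : Fintype.card F = q ^ 2) {c : F} (hc : frobQ hF c = -c) :
    ∃ κ : F, frobQ hF κ - κ = c := by
  have hf := herm_unitary (n := 1) hF
  obtain ⟨d, hd0, hd⟩ := exists_skew hf.involutive hf.ne_refl
  obtain ⟨z, hz⟩ := tr_surj hf.involutive hf.ne_refl (c / d)
    (by rw [map_div₀, hc, hd, neg_div_neg_eq])
  refine ⟨-(z * d), ?_⟩
  rw [map_neg, map_mul, hd]
  have h3 : -(frobQ hF z * -d) - -(z * d) = (z + frobQ hF z) * d := by ring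
  rw [h3, hz, div_mul_cancel₀ _ hd0]

/-- two non-orthogonal Siegel elements with the same centre `a` give the transvections of `a` -/
lemma local_step' (hF : Fintype.card F = q ^ 2) {M : Subgroup (GL (Fin n) F)}
    {B : Submodule F (Fin n → F)} {a : Fin n → F} (haa : Cfsg.hermForm n F q a a = 0)
    (hE : ∀ b ∈ B, Cfsg.hermForm n F q b a = 0 → ∀ g : GL (Fin n) F, IsE q g a b → g ∈ M)
    {y w : Fin n → F} (hya : Cfsg.hermForm n F q y a = 0) {g₂ : GL (Fin n) F}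
    (hg₂ : IsE q g₂ a y) (hg₂M : g₂ ∈ M) (hw : w ∈ B)
    (hwa : Cfsg.hermForm n F q w a = 0) (hne : Cfsg.hermForm n F q w y ≠ 0) :
    a ∈ Sset hF M := by
  have hf := herm_unitary (n := n) hF
  intro c hc t ht
  obtain ⟨ζ, hζdef⟩ : ∃ ζ, ζ = Cfsg.hermForm n F q w y := ⟨_, rfl⟩
  rw [← hζdef] at hne
  have hζ' : Cfsg.hermForm n F q y w = frobQ hF ζ := by rw [hζdef]; exact hf.herm y w
  obtain ⟨d, hd0, hd⟩ := exists_skew hf.involutive hf.ne_refl
  obtain ⟨z, hz⟩ := tr_surj hf.involutive hf.ne_refl (c / d)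
    (by rw [map_div₀, hc, hd, neg_div_neg_eq])
  obtain ⟨l, hldef⟩ : ∃ l, l = z * d / ζ := ⟨_, rfl⟩
  have hlζ : l * ζ = z * d := by rw [hldef, div_mul_cancel₀ _ hne]
  have hlwa : Cfsg.hermForm n F q (l • w) a = 0 := by rw [hf.smul_left, hwa, mul_zero]
  obtain ⟨g₁, -, hg₁⟩ := exists_IsE hF haa hlwa
  have hg₁M : g₁ ∈ M := hE _ (B.smul_mem _ hw) hlwa g₁ hg₁
  have hcoef : Cfsg.hermForm n F q (l • w) y - Cfsg.hermForm n F q y (l • w) = c := by
    rw [hf.smul_left, u_smul_right hf, hζ', ← hζdef, ← map_mul, hlζ, map_mul, hd]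
    have h3 : z * d - frobQ hF z * -d = (z + frobQ hF z) * d := by ring
    rw [h3, hz, div_mul_cancel₀ _ hd0]
  have hcomm := IsE_comm hF haa hlwa hya hg₁ hg₂ (t := t) (fun x => by rw [ht x, hcoef])
  have h4 : t = g₁ * g₂ * g₁⁻¹ * g₂⁻¹ := by
    rw [hcomm]
    group
  rw [h4]
  exact M.mul_mem (M.mul_mem (M.mul_mem hg₁M hg₂M) (M.inv_mem hg₁M)) (M.inv_mem hg₂M)

/-- `E_{a, w + κ a} = E_{a, w} ∘ t_{a, σ κ - κ}` -/
lemma E_add_smul_self (hF : Fintype.card F = q ^ 2) {a w : Fin n → F} {κ : F}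
    (haa : Cfsg.hermForm n F q a a = 0) (hwa : Cfsg.hermForm n F q w a = 0)
    {e e' t : GL (Fin n) F} (he : IsE q e a w) (he' : IsE q e' a (w + κ • a))
    (ht : ∀ x, (t : Matrix (Fin n) (Fin n) F) *ᵥ x =
      x + ((frobQ hF κ - κ) * Cfsg.hermForm n F q x a) • a) : t = e⁻¹ * e' := by
  have hf := herm_unitary (n := n) hF
  have haw : Cfsg.hermForm n F q a w = 0 := u_symm_zero hf hwa
  have h1 : e * t = e' := by
    apply Units.ext
    apply mat_eq_of_mulVec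
    intro x
    rw [Units.val_mul, ← Matrix.mulVec_mulVec, ht x, he' x, Matrix.mulVec_add, Matrix.mulVec_smul,
      he x, he a, haw, haa, zero_smul, zero_smul, add_zero, sub_zero]
    simp only [u_add_right hf, u_smul_right hf]
    module
  rw [← h1]
  group

end Grp

section Claims
variable {F : Type*} [Field F] [Fintype F] {q n : ℕ}

/-- Claim A: if `M ∋ g` maps `a₀ ∈ A` to a vector `a ∈ A` whose transvection group does not lie in
`M`, then `g` maps `B ∩ a₀^⊥` into `B`. -/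
lemma claimA (hF : Fintype.card F = q ^ 2) {M : Subgroup (GL (Fin n) F)}
    (hMU : M ≤ Cfsg.GU n F q) {A B : Submodule F (Fin n → F)}
    (h : LP (Cfsg.hermForm n F q) A B)
    (hE : ∀ a ∈ A, ∀ b ∈ B, Cfsg.hermForm n F q b a = 0 → ∀ e : GL (Fin n) F,
      IsE q e a b → e ∈ M)
    {g : GL (Fin n) F} (hg : g ∈ M) {a₀ b₀ : Fin n → F} (ha₀ : a₀ ∈ A)
    (hga : (g : Matrix (Fin n) (Fin n) F) *ᵥ a₀ ∈ A)
    (hnS : (g : Matrix (Fin n) (Fin n) F) *ᵥ a₀ ∉ Sset hF M)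
    (hb₀ : b₀ ∈ B) (hba : Cfsg.hermForm n F q b₀ a₀ = 0) :
    (g : Matrix (Fin n) (Fin n) F) *ᵥ b₀ ∈ B := by
  have hf := herm_unitary (n := n) hF
  obtain ⟨a, hadef⟩ : ∃ a, a = (g : Matrix (Fin n) (Fin n) F) *ᵥ a₀ := ⟨_, rfl⟩
  obtain ⟨y, hydef⟩ : ∃ y, y = (g : Matrix (Fin n) (Fin n) F) *ᵥ b₀ := ⟨_, rfl⟩
  rw [← hadef] at hga hnS
  rw [← hydef]
  have ha0 : a ≠ 0 := by
    rintro rfl
    exact hnS (zero_mem_Sset hF M)
  have haa : Cfsg.hermForm n F q a a = 0 := h.hA a hga a hga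
  have hya : Cfsg.hermForm n F q y a = 0 := by
    rw [hydef, hadef, mem_GU.mp (hMU hg) b₀ a₀]
    exact hba
  have hsy : ∀ l : F, ∀ e : GL (Fin n) F, IsE q e a (l • y) → e ∈ M := by
    intro l e he
    have h3 : Cfsg.hermForm n F q (l • b₀) a₀ = 0 := by rw [hf.smul_left, hba, mul_zero]
    obtain ⟨e₀, -, he₀⟩ := exists_IsE hF (h.hA a₀ ha₀ a₀ ha₀) h3
    have he₀M : e₀ ∈ M := hE a₀ ha₀ _ (B.smul_mem _ hb₀) h3 e₀ he₀
    have h4 := IsE_conj (hMU hg) he₀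
    rw [← hadef, Matrix.mulVec_smul, ← hydef] at h4
    have h5 : e = g * e₀ * g⁻¹ := Units.ext (mat_eq_of_mulVec fun x => by rw [he, h4])
    rw [h5]
    exact M.mul_mem (M.mul_mem hg he₀M) (M.inv_mem hg)
  have hyw : ∀ w ∈ B, Cfsg.hermForm n F q w a = 0 → Cfsg.hermForm n F q w y = 0 := by
    intro w hw hwa
    by_contra hne
    apply hnS
    obtain ⟨e₁, -, he₁⟩ := exists_IsE hF haa hya
    have he₁M : e₁ ∈ M := hsy 1 e₁ (by rw [one_smul]; exact he₁)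
    exact local_step' hF haa (hE a hga) hya he₁ he₁M hw hwa hne
  have hdec := Submodule.projection_add_projection_eq_self h.hc y
  obtain ⟨yA, hyAdef⟩ : ∃ yA, yA = A.projection B h.hc y := ⟨_, rfl⟩
  obtain ⟨yB, hyBdef⟩ : ∃ yB, yB = B.projection A h.hc.symm y := ⟨_, rfl⟩
  rw [← hyAdef, ← hyBdef] at hdec
  have hyA : yA ∈ A := by rw [hyAdef]; exact Submodule.projection_apply_mem _ _
  have hyB : yB ∈ B := by rw [hyBdef]; exact Submodule.projection_apply_mem _ _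
  have hyBa : Cfsg.hermForm n F q yB a = 0 := by
    have h1 : yB = y - yA := by rw [← hdec]; abel
    rw [h1, u_sub_left hf, hya, h.hA yA hyA a hga, sub_zero]
  have hyAw : ∀ w ∈ B, Cfsg.hermForm n F q w a = 0 → Cfsg.hermForm n F q w yA = 0 := by
    intro w hw hwa
    have h1 : yA = y - yB := by rw [← hdec]; abel
    rw [h1, u_sub_right hf, hyw w hw hwa, h.hB w hw yB hyB, sub_zero]
  have hspan : yA ∈ Submodule.span F {a} := by
    by_contra hind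
    obtain ⟨b, hb, hab, hyAb⟩ := h.sep hf hga hyA ha0 hind
    exact hyAb (u_symm_zero hf (hyAw b hb (u_symm_zero hf hab)))
  obtain ⟨κ, hκ⟩ := Submodule.mem_span_singleton.mp hspan
  by_cases hκ0 : κ = 0
  · rw [hκ0, zero_smul] at hκ
    rw [← hdec, ← hκ, zero_add]
    exact hyB
  · exfalso
    apply hnS
    intro c hc t ht
    obtain ⟨κ', hκ'⟩ := exists_sub_eq hF hc
    obtain ⟨l, hldef⟩ : ∃ l, l = κ' / κ := ⟨_, rfl⟩
    have hlκ : l * κ = κ' := by rw [hldef, div_mul_cancel₀ _ hκ0]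
    have hyBl : Cfsg.hermForm n F q (l • yB) a = 0 := by rw [hf.smul_left, hyBa, mul_zero]
    have e1 : l • y = l • yB + κ' • a := by
      rw [← hdec, ← hκ, ← hlκ]
      module
    have hyl : Cfsg.hermForm n F q (l • y) a = 0 := by rw [hf.smul_left, hya, mul_zero]
    obtain ⟨eB, -, heB⟩ := exists_IsE hF haa hyBl
    obtain ⟨ey, -, hey⟩ := exists_IsE hF haa hyl
    have heBM : eB ∈ M := hE a hga _ (B.smul_mem _ hyB) hyBl eB heB
    have heyM : ey ∈ M := hsy l ey hey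
    rw [e1] at hey
    have h6 := E_add_smul_self hF haa hyBl heB hey (t := t) (fun x => by rw [ht x, hκ'])
    rw [h6]
    exact M.mul_mem (M.inv_mem heBM) heyM

/-- Claim C: if `M` contains no full transvection group centred in `A ∪ B`, then every `g ∈ M`
mapping some non-zero vector of `A` into `A` preserves both `A` and `B`. -/
lemma claimC (hF : Fintype.card F = q ^ 2) {k : ℕ} (hk : 3 ≤ k) {M : Subgroup (GL (Fin n) F)}
    (hMU : M ≤ Cfsg.GU n F q) {A B : Submodule F (Fin n → F)}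
    (h : LP (Cfsg.hermForm n F q) A B)
    (hfrA : Module.finrank F A = k) (hfrB : Module.finrank F B = k)
    (hE0 : ∀ a ∈ A, ∀ b ∈ B, Cfsg.hermForm n F q b a = 0 → ∀ e : GL (Fin n) F,
      IsE q e a b → e ∈ M)
    (hE1 : ∀ b ∈ B, ∀ a ∈ A, Cfsg.hermForm n F q a b = 0 → ∀ e : GL (Fin n) F,
      IsE q e b a → e ∈ M)
    (hNA : ∀ a ∈ A, a ≠ 0 → a ∉ Sset hF M) (hNB : ∀ b ∈ B, b ≠ 0 → b ∉ Sset hF M)
    {g : GL (Fin n) F} (hg : g ∈ M) {a₀ : Fin n → F} (ha₀ : a₀ ∈ A)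
    (ha₀0 : a₀ ≠ 0) (hga : (g : Matrix (Fin n) (Fin n) F) *ᵥ a₀ ∈ A) :
    (∀ x ∈ A, (g : Matrix (Fin n) (Fin n) F) *ᵥ x ∈ A) ∧
      (∀ y ∈ B, (g : Matrix (Fin n) (Fin n) F) *ᵥ y ∈ B) := by
  have hf := herm_unitary (n := n) hF
  have hgne : ∀ v : Fin n → F, v ≠ 0 → (g : Matrix (Fin n) (Fin n) F) *ᵥ v ≠ 0 := by
    intro v hv h0
    apply hv
    have := inv_mul_mulVec g v
    rw [h0, Matrix.mulVec_zero] at this
    exact this.symm
  -- step A : `g` maps `B ∩ a₀^⊥` into `B`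
  have stepA : ∀ b₀ ∈ B, Cfsg.hermForm n F q b₀ a₀ = 0 →
      (g : Matrix (Fin n) (Fin n) F) *ᵥ b₀ ∈ B := fun b₀ hb₀ hba =>
    claimA hF hMU h hE0 hg ha₀ hga (hNA _ hga (hgne a₀ ha₀0)) hb₀ hba
  have hU : 2 ≤ Module.finrank F ↥(B ⊓ pp hf a₀) := by
    have := finrank_inf_pp hf B a₀
    omega
  obtain ⟨b₁, hb₁, b₂, hb₂, hb₂0, hb₁0, hind⟩ := exists_pair _ hU
  have hb₁B := (Submodule.mem_inf.mp hb₁).1
  have hb₂B := (Submodule.mem_inf.mp hb₂).1
  have hb₁a := (mem_pp hf).mp (Submodule.mem_inf.mp hb₁).2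
  have hb₂a := (mem_pp hf).mp (Submodule.mem_inf.mp hb₂).2
  have stepB : ∀ b ∈ B, b ≠ 0 → Cfsg.hermForm n F q b a₀ = 0 → ∀ x ∈ A,
      Cfsg.hermForm n F q x b = 0 → (g : Matrix (Fin n) (Fin n) F) *ᵥ x ∈ A :=
    fun b hb hb0 hba x hx hxb =>
      claimA hF hMU h.symm hE1 hg hb (stepA b hb hba)
        (hNB _ (stepA b hb hba) (hgne b hb0)) hx hxb
  have hAA : ∀ x ∈ A, (g : Matrix (Fin n) (Fin n) F) *ᵥ x ∈ A := by
    intro x hx
    obtain ⟨x₁, hx₁, x₂, hx₂, rfl, h1, h2'⟩ := LP.split2 hf h hb₁B hb₂B hb₂0 hind hx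
    rw [Matrix.mulVec_add]
    exact A.add_mem (stepB b₁ hb₁B hb₁0 hb₁a x₁ hx₁ h1) (stepB b₂ hb₂B hb₂0 hb₂a x₂ hx₂ h2')
  refine ⟨hAA, ?_⟩
  have hUA : 2 ≤ Module.finrank F ↥A := by omega
  obtain ⟨a₁, ha₁, a₂, ha₂, ha₂0, ha₁0, hindA⟩ := exists_pair _ hUA
  intro y hy
  obtain ⟨y₁, hy₁, y₂, hy₂, rfl, h1, h2'⟩ := LP.split2 hf h.symm ha₁ ha₂ ha₂0 hindA hy
  rw [Matrix.mulVec_add]
  exact B.add_mem
    (claimA hF hMU h hE0 hg ha₁ (hAA a₁ ha₁) (hNA _ (hAA a₁ ha₁) (hgne a₁ ha₁0)) hy₁ h1)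
    (claimA hF hMU h hE0 hg ha₂ (hAA a₂ ha₂) (hNA _ (hAA a₂ ha₂) (hgne a₂ ha₂0)) hy₂ h2')

/-- the rigid half: without transvections centred in `A ∪ B`, `M` lies in the stabiliser of the
pair. -/
lemma le_of_NT (hF : Fintype.card F = q ^ 2) {k : ℕ} (hk : 3 ≤ k) {M : Subgroup (GL (Fin n) F)}
    (hMU : M ≤ Cfsg.GU n F q) {A B : Submodule F (Fin n → F)}
    (h : LP (Cfsg.hermForm n F q) A B)
    (hfrA : Module.finrank F A = k) (hfrB : Module.finrank F B = k)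
    (hE0 : ∀ a ∈ A, ∀ b ∈ B, Cfsg.hermForm n F q b a = 0 → ∀ e : GL (Fin n) F,
      IsE q e a b → e ∈ M)
    (hE1 : ∀ b ∈ B, ∀ a ∈ A, Cfsg.hermForm n F q a b = 0 → ∀ e : GL (Fin n) F,
      IsE q e b a → e ∈ M)
    (hNA : ∀ a ∈ A, a ≠ 0 → a ∉ Sset hF M) (hNB : ∀ b ∈ B, b ≠ 0 → b ∉ Sset hF M)
    {H₀ : Subgroup (GL (Fin n) F)}
    (hin : ∀ g ∈ M, (∀ a ∈ A, (g : Matrix (Fin n) (Fin n) F) *ᵥ a ∈ A) →
      (∀ b ∈ B, (g : Matrix (Fin n) (Fin n) F) *ᵥ b ∈ B) → g ∈ H₀)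
    {J : GL (Fin n) F} (hJH : J ∈ H₀) (hJM : J ∈ M)
    (hJB : ∀ b ∈ B, (J : Matrix (Fin n) (Fin n) F) *ᵥ b ∈ A) : M ≤ H₀ := by
  have hf := herm_unitary (n := n) hF
  intro g hg
  by_contra hgH
  have key : ∀ k' ∈ M, ∀ a' ∈ A, a' ≠ 0 →
      (k' : Matrix (Fin n) (Fin n) F) *ᵥ a' ∈ A →
      (∀ x ∈ A, (k' : Matrix (Fin n) (Fin n) F) *ᵥ x ∈ A) ∧
        (∀ y ∈ B, (k' : Matrix (Fin n) (Fin n) F) *ᵥ y ∈ B) :=
    fun k' hk' a' ha' ha'0 hka =>
      claimC hF hk hMU h hfrA hfrB hE0 hE1 hNA hNB hk' ha' ha'0 hka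
  have hi : ∀ a' ∈ A, a' ≠ 0 → (g : Matrix (Fin n) (Fin n) F) *ᵥ a' ∉ A := by
    intro a' ha' ha'0 hga
    obtain ⟨c1, c2⟩ := key g hg a' ha' ha'0 hga
    exact hgH (hin g hg c1 c2)
  have hii : ∀ a' ∈ A, a' ≠ 0 → (g : Matrix (Fin n) (Fin n) F) *ᵥ a' ∉ B := by
    intro a' ha' ha'0 hgb
    have hJg : (((J * g : GL (Fin n) F)) : Matrix (Fin n) (Fin n) F) *ᵥ a' ∈ A := by
      rw [Units.val_mul, ← Matrix.mulVec_mulVec]
      exact hJB _ hgb
    obtain ⟨c1, c2⟩ := key (J * g) (M.mul_mem hJM hg) a' ha' ha'0 hJg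
    have h3 : J * g ∈ H₀ := hin _ (M.mul_mem hJM hg) c1 c2
    apply hgH
    have h4 : g = J⁻¹ * (J * g) := by group
    rw [h4]
    exact H₀.mul_mem (H₀.inv_mem hJH) h3
  -- a non-zero vector of `A`
  obtain ⟨a₀, ha₀, ha₀0⟩ : ∃ a ∈ A, a ≠ 0 := by
    apply (Submodule.ne_bot_iff _).mp
    intro hbot
    rw [hbot, finrank_bot] at hfrA
    omega
  obtain ⟨x, hxdef⟩ : ∃ x, x = (g : Matrix (Fin n) (Fin n) F) *ᵥ a₀ := ⟨_, rfl⟩
  have hdec := Submodule.projection_add_projection_eq_self h.hc x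
  obtain ⟨xA, hxAdef⟩ : ∃ xA, xA = A.projection B h.hc x := ⟨_, rfl⟩
  obtain ⟨xB, hxBdef⟩ : ∃ xB, xB = B.projection A h.hc.symm x := ⟨_, rfl⟩
  rw [← hxAdef, ← hxBdef] at hdec
  have hxA : xA ∈ A := by rw [hxAdef]; exact Submodule.projection_apply_mem _ _
  have hxB : xB ∈ B := by rw [hxBdef]; exact Submodule.projection_apply_mem _ _
  have hxA0 : xA ≠ 0 := by
    intro h0
    apply hii a₀ ha₀ ha₀0
    rw [← hxdef, ← hdec, h0, zero_add]
    exact hxB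
  -- choose `a ∈ A ∩ xB^⊥` off the line of `xA`
  have hU : 2 ≤ Module.finrank F ↥(A ⊓ pp hf xB) := by
    have := finrank_inf_pp hf A xB
    omega
  obtain ⟨a, haU, haspan⟩ := exists_not_mem_span _ hU xA
  have ha : a ∈ A := (Submodule.mem_inf.mp haU).1
  have haxB : Cfsg.hermForm n F q a xB = 0 := (mem_pp hf).mp (Submodule.mem_inf.mp haU).2
  have ha0 : a ≠ 0 := by
    rintro rfl
    exact haspan (Submodule.zero_mem _)
  have haa : Cfsg.hermForm n F q a a = 0 := h.hA a ha a ha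
  have hxAspan : xA ∉ Submodule.span F {a} := by
    intro hmem
    obtain ⟨κ, hκ⟩ := Submodule.mem_span_singleton.mp hmem
    have hκ0 : κ ≠ 0 := by
      rintro rfl
      rw [zero_smul] at hκ
      exact hxA0 hκ.symm
    apply haspan
    have h1 : a = κ⁻¹ • xA := by rw [← hκ, smul_smul, inv_mul_cancel₀ hκ0, one_smul]
    rw [h1]
    exact Submodule.smul_mem _ _ (Submodule.mem_span_singleton_self xA)
  obtain ⟨b, hb, hab, hxAb⟩ := h.sep hf ha hxA ha0 hxAspan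
  have hba : Cfsg.hermForm n F q b a = 0 := u_symm_zero hf hab
  obtain ⟨s, -, hs⟩ := exists_IsE hF haa hba
  have hsM : s ∈ M := hE0 a ha b hb hba s hs
  -- a non-zero `a₂ ∈ A` with `g a₂` fixed by `s`
  obtain ⟨ga, hgadef⟩ : ∃ ga, ga = ((g⁻¹ : GL (Fin n) F) : Matrix (Fin n) (Fin n) F) *ᵥ a :=
    ⟨_, rfl⟩
  obtain ⟨gb, hgbdef⟩ : ∃ gb, gb = ((g⁻¹ : GL (Fin n) F) : Matrix (Fin n) (Fin n) F) *ᵥ b :=
    ⟨_, rfl⟩
  have hU2 : 1 ≤ Module.finrank F ↥((A ⊓ pp hf ga) ⊓ pp hf gb) := by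
    have h3 := finrank_inf_pp hf A ga
    have h4 := finrank_inf_pp hf (A ⊓ pp hf ga) gb
    omega
  obtain ⟨a₂, ha₂U, ha₂0⟩ : ∃ a₂ ∈ (A ⊓ pp hf ga) ⊓ pp hf gb, a₂ ≠ 0 := by
    apply (Submodule.ne_bot_iff _).mp
    intro hbot
    rw [hbot, finrank_bot] at hU2
    omega
  have ha₂ : a₂ ∈ A := (Submodule.mem_inf.mp (Submodule.mem_inf.mp ha₂U).1).1
  have ha₂ga : Cfsg.hermForm n F q a₂ ga = 0 :=
    (mem_pp hf).mp (Submodule.mem_inf.mp (Submodule.mem_inf.mp ha₂U).1).2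
  have ha₂gb : Cfsg.hermForm n F q a₂ gb = 0 := (mem_pp hf).mp (Submodule.mem_inf.mp ha₂U).2
  have hga₂a : Cfsg.hermForm n F q ((g : Matrix (Fin n) (Fin n) F) *ᵥ a₂) a = 0 := by
    have h3 := mem_GU.mp (hMU hg) a₂ ga
    rw [hgadef, mul_inv_mulVec] at h3
    rw [h3, ← hgadef]
    exact ha₂ga
  have hga₂b : Cfsg.hermForm n F q ((g : Matrix (Fin n) (Fin n) F) *ᵥ a₂) b = 0 := by
    have h3 := mem_GU.mp (hMU hg) a₂ gb
    rw [hgbdef, mul_inv_mulVec] at h3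
    rw [h3, ← hgbdef]
    exact ha₂gb
  -- `k' = g⁻¹ * s * g` fixes `a₂`
  obtain ⟨k', hkdef⟩ : ∃ k', k' = g⁻¹ * s * g := ⟨_, rfl⟩
  have hkM : k' ∈ M := by
    rw [hkdef]
    exact M.mul_mem (M.mul_mem (M.inv_mem hg) hsM) hg
  have hkv : ∀ v : Fin n → F,
      (g : Matrix (Fin n) (Fin n) F) *ᵥ ((k' : Matrix (Fin n) (Fin n) F) *ᵥ v) =
      (s : Matrix (Fin n) (Fin n) F) *ᵥ ((g : Matrix (Fin n) (Fin n) F) *ᵥ v) := by
    intro v
    rw [hkdef, Units.val_mul, Units.val_mul, ← Matrix.mulVec_mulVec, ← Matrix.mulVec_mulVec,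
      mul_inv_mulVec]
  have hka₂ : (k' : Matrix (Fin n) (Fin n) F) *ᵥ a₂ = a₂ := by
    apply mulVec_inj g
    rw [hkv, hs, hga₂a, hga₂b, zero_smul, zero_smul, add_zero, sub_zero]
  obtain ⟨c1, -⟩ := key k' hkM a₂ ha₂ ha₂0 (by rw [hka₂]; exact ha₂)
  obtain ⟨a₃, ha₃def⟩ : ∃ a₃, a₃ = (k' : Matrix (Fin n) (Fin n) F) *ᵥ a₀ := ⟨_, rfl⟩
  have ha₃ : a₃ ∈ A := by rw [ha₃def]; exact c1 a₀ ha₀
  have hxa : Cfsg.hermForm n F q x a = 0 := by
    rw [← hdec, hf.add_left, h.hA xA hxA a ha, u_symm_zero hf haxB, add_zero]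
  have hxb : Cfsg.hermForm n F q x b = Cfsg.hermForm n F q xA b := by
    rw [← hdec, hf.add_left, h.hB xB hxB b hb, add_zero]
  have hga₃ : (g : Matrix (Fin n) (Fin n) F) *ᵥ (a₃ - a₀) = Cfsg.hermForm n F q xA b • a := by
    rw [Matrix.mulVec_sub, ha₃def, hkv, ← hxdef, hs, hxa, hxb, zero_smul, sub_zero]
    abel
  have hne : a₃ - a₀ ≠ 0 := by
    intro h0
    rw [h0, Matrix.mulVec_zero] at hga₃
    rcases smul_eq_zero.mp hga₃.symm with h5 | h5
    · exact hxAb h5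
    · exact ha0 h5
  apply hi (a₃ - a₀) (A.sub_mem ha₃ ha₀) hne
  rw [hga₃]
  exact A.smul_mem _ ha

end Claims

section Main
variable {F : Type*} [Field F] [Fintype F] {q n : ℕ}

/-- S5657 for all `3 ≤ k`: the stabiliser of a pair of complementary totally isotropic `k`-spaces is
maximal in `SU_2k(q)`. -/
theorem ti_pair_max (hF : Fintype.card F = q ^ 2) (k : ℕ) (hk3 : 3 ≤ k) (hk : 2 * k = n)
    (D : Fin 2 → Submodule F (Fin n → F)) (hD : Cfsg.Geo.IsMDecomposition k D)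
    (hts : ∀ i, Cfsg.Geo.IsTotallySingularFor (Cfsg.hermForm n F q) (D i)) :
    Cfsg.Geo.IsMaximalIn (Cfsg.GU n F q ⊓ Cfsg.Geo.specialLinear (Fin n) F)
      (Cfsg.Geo.decompositionStabilizer D ⊓
        (Cfsg.GU n F q ⊓ Cfsg.Geo.specialLinear (Fin n) F)) := by
  have hf := herm_unitary (n := n) hF
  have hc : IsCompl (D 0) (D 1) := by
    refine ⟨hD.indep.pairwiseDisjoint (by decide), ?_⟩
    rw [codisjoint_iff, eq_top_iff, ← hD.iSup_eq_top]
    apply iSup_le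
    intro i
    fin_cases i
    · exact le_sup_left
    · exact le_sup_right
  have h : LP (Cfsg.hermForm n F q) (D 0) (D 1) := ⟨hts 0, hts 1, hc⟩
  have hfrA := hD.finrank_eq 0
  have hfrB := hD.finrank_eq 1
  have hmem_of : ∀ g : GL (Fin n) F,
      ((∀ a ∈ D 0, (g : Matrix (Fin n) (Fin n) F) *ᵥ a ∈ D 0) ∧
        (∀ b ∈ D 1, (g : Matrix (Fin n) (Fin n) F) *ᵥ b ∈ D 1)) ∨
      ((∀ a ∈ D 0, (g : Matrix (Fin n) (Fin n) F) *ᵥ a ∈ D 1) ∧
        (∀ b ∈ D 1, (g : Matrix (Fin n) (Fin n) F) *ᵥ b ∈ D 0)) →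
      g ∈ Cfsg.Geo.decompositionStabilizer D := by
    rintro g (⟨h1, h2⟩ | ⟨h1, h2⟩)
    · refine ⟨1, fun i => ?_⟩
      fin_cases i
      · exact map_eq_of_maps h1 rfl
      · exact map_eq_of_maps h2 rfl
    · refine ⟨Equiv.swap 0 1, fun i => ?_⟩
      fin_cases i
      · change (D 0).map _ = D (Equiv.swap 0 1 0)
        rw [Equiv.swap_apply_left]
        exact map_eq_of_maps h1 (by rw [hfrA, hfrB])
      · change (D 1).map _ = D (Equiv.swap 0 1 1)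
        rw [Equiv.swap_apply_right]
        exact map_eq_of_maps h2 (by rw [hfrA, hfrB])
  have hne0 : ∃ a ∈ D 0, a ≠ 0 := by
    apply (Submodule.ne_bot_iff _).mp
    intro hbot
    rw [hbot, finrank_bot] at hfrA
    omega
  have hne1 : ∃ b ∈ D 1, b ≠ 0 := by
    apply (Submodule.ne_bot_iff _).mp
    intro hbot
    rw [hbot, finrank_bot] at hfrB
    omega
  have hE0 : ∀ a ∈ D 0, ∀ b ∈ D 1, Cfsg.hermForm n F q b a = 0 → ∀ g : GL (Fin n) F,
      IsE q g a b → g ∈ Cfsg.Geo.decompositionStabilizer D ⊓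
        (Cfsg.GU n F q ⊓ Cfsg.Geo.specialLinear (Fin n) F) := by
    intro a ha b hb hba g hg
    refine ⟨hmem_of _ (Or.inl ⟨?_, ?_⟩),
      IsE_mem_GU hF (h.hA a ha a ha) (h.hB b hb b hb) hba hg,
      IsE_mem_SL hF (h.hA a ha a ha) hba hg⟩
    · intro x hx
      rw [hg x, h.hA x hx a ha, zero_smul, sub_zero]
      exact (D 0).add_mem hx ((D 0).smul_mem _ ha)
    · intro x hx
      rw [hg x, h.hB x hx b hb, zero_smul, add_zero]
      exact (D 1).sub_mem hx ((D 1).smul_mem _ hb)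
  have hE1 : ∀ b ∈ D 1, ∀ a ∈ D 0, Cfsg.hermForm n F q a b = 0 → ∀ g : GL (Fin n) F,
      IsE q g b a → g ∈ Cfsg.Geo.decompositionStabilizer D ⊓
        (Cfsg.GU n F q ⊓ Cfsg.Geo.specialLinear (Fin n) F) := by
    intro b hb a ha hab g hg
    refine ⟨hmem_of _ (Or.inl ⟨?_, ?_⟩),
      IsE_mem_GU hF (h.hB b hb b hb) (h.hA a ha a ha) hab hg,
      IsE_mem_SL hF (h.hB b hb b hb) hab hg⟩
    · intro x hx
      rw [hg x, h.hA x hx a ha, zero_smul, add_zero]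
      exact (D 0).sub_mem hx ((D 0).smul_mem _ ha)
    · intro x hx
      rw [hg x, h.hB x hx b hb, zero_smul, sub_zero]
      exact (D 1).add_mem hx ((D 1).smul_mem _ hb)
  refine ⟨?_, ?_⟩
  · rw [lt_iff_le_and_ne]
    refine ⟨inf_le_right, fun heq => ?_⟩
    obtain ⟨a, ha, ha0⟩ := hne0
    obtain ⟨b, hb, hab⟩ := h.nd hf ha ha0
    obtain ⟨c, hc0, hcs⟩ := exists_skew hf.involutive hf.ne_refl
    obtain ⟨t, htG, ht⟩ := exists_tvg hF (h.hA a ha a ha) hcs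
    have hT : t ∈ Cfsg.Geo.decompositionStabilizer D ⊓
        (Cfsg.GU n F q ⊓ Cfsg.Geo.specialLinear (Fin n) F) := by
      rw [heq]; exact htG
    obtain ⟨σ, hσ⟩ := hT.1
    have hTa : (t : Matrix (Fin n) (Fin n) F) *ᵥ a = a := by
      rw [ht, h.hA a ha a ha, mul_zero, zero_smul, add_zero]
    have h0 : σ 0 = 0 := by
      by_contra hne
      have h1 : σ 0 = 1 := by
        obtain ⟨v, hv⟩ : ∃ v, σ 0 = v := ⟨_, rfl⟩
        fin_cases v
        · exact absurd hv hne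
        · exact hv
      have h3 : a ∈ D (σ 0) := by
        rw [← hσ 0]
        exact ⟨a, ha, by rw [Matrix.toLin'_apply]; exact hTa⟩
      rw [h1] at h3
      exact ha0 (h.inf_eq ha h3)
    have h1 : σ 1 = 1 := by
      obtain ⟨v, hv⟩ : ∃ v, σ 1 = v := ⟨_, rfl⟩
      fin_cases v
      · exfalso
        have := σ.injective (hv.trans h0.symm)
        exact absurd this (by decide)
      · exact hv
    have h3 : (t : Matrix (Fin n) (Fin n) F) *ᵥ b ∈ D 1 := by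
      have h4 : (t : Matrix (Fin n) (Fin n) F) *ᵥ b ∈ D (σ 1) := by
        rw [← hσ 1]
        exact ⟨b, hb, by rw [Matrix.toLin'_apply]⟩
      rwa [h1] at h4
    rw [ht, (D 1).add_mem_iff_right hb] at h3
    have hba : Cfsg.hermForm n F q b a ≠ 0 := u_symm_ne hf hab
    have h5 : a ∈ D 1 := by
      have := (D 1).smul_mem (c * Cfsg.hermForm n F q b a)⁻¹ h3
      rwa [smul_smul, inv_mul_cancel₀ (mul_ne_zero hc0 hba), one_smul] at this
    exact ha0 (h.inf_eq ha h5)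
  · intro M hHM hMG
    have hMU : M ≤ Cfsg.GU n F q := fun x hx => (hMG hx).1
    by_cases hMH : M = Cfsg.Geo.decompositionStabilizer D ⊓
        (Cfsg.GU n F q ⊓ Cfsg.Geo.specialLinear (Fin n) F)
    · left; exact hMH
    right
    apply le_antisymm hMG
    obtain ⟨g, hgM, hgH⟩ : ∃ g ∈ M, g ∉ Cfsg.Geo.decompositionStabilizer D ⊓
        (Cfsg.GU n F q ⊓ Cfsg.Geo.specialLinear (Fin n) F) := by
      by_contra hcon
      push Not at hcon
      exact hMH (le_antisymm hcon hHM)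
    have hgS : g ∉ Cfsg.Geo.decompositionStabilizer D := fun hh => hgH ⟨hh, hMG hgM⟩
    obtain ⟨J, hJG, hJA, hJB, -⟩ := exists_swap hF k (D 0) (D 1) (hts 0) (hts 1)
      (fun a ha ha0 => h.nd hf ha ha0)
      (fun b hb hb0 => by
        obtain ⟨a, ha, hba⟩ := h.symm.nd hf hb hb0
        exact ⟨a, ha, u_symm_ne hf hba⟩) hfrA
    have hJM : J ∈ M := hHM ⟨hmem_of J (Or.inr ⟨hJA, hJB⟩), hJG⟩
    have hJU' : J⁻¹ ∈ Cfsg.GU n F q := inv_mem hJG.1
    have hJH : J ∈ Cfsg.Geo.decompositionStabilizer D ⊓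
        (Cfsg.GU n F q ⊓ Cfsg.Geo.specialLinear (Fin n) F) :=
      ⟨hmem_of J (Or.inr ⟨hJA, hJB⟩), hJG⟩
    have hall : ∀ v, Cfsg.hermForm n F q v v = 0 →
        v ∈ Cfsg.Agent.Lib.Helper5.SUMax.Sset hF M := by
      by_cases hNA : ∀ a ∈ D 0, a ≠ 0 → a ∉ Sset hF M
      · by_cases hNB : ∀ b ∈ D 1, b ≠ 0 → b ∉ Sset hF M
        · exfalso
          apply hMH
          apply le_antisymm _ hHM
          exact le_of_NT hF hk3 hMU h hfrA hfrB
            (fun a ha b hb hba e he => hHM (hE0 a ha b hb hba e he))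
            (fun b hb a ha hab e he => hHM (hE1 b hb a ha hab e he)) hNA hNB
            (fun g hg c1 c2 => ⟨hmem_of g (Or.inl ⟨c1, c2⟩), hMG hg⟩) hJH hJM hJB
        · push Not at hNB
          obtain ⟨b, hb, hb0, hbS⟩ := hNB
          have hBS := spread hF h.symm
            (fun b hb a ha hab e he => hHM (hE1 b hb a ha hab e he)) hb hb0 hbS
          have hAS : ∀ a ∈ D 0, a ∈ Cfsg.Agent.Lib.Helper5.SUMax.Sset hF M := by
            intro a ha
            have h3 := Cfsg.Agent.Lib.Helper5.SUMax.Sset_mulVec_mem hF (M.inv_mem hJM) hJU'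
              (hBS _ (hJA a ha))
            rwa [inv_mul_mulVec] at h3
          exact all_of_AB hF h hAS hBS
      · push Not at hNA
        obtain ⟨a, ha, ha0, haS⟩ := hNA
        have hAS := spread hF h
          (fun a ha b hb hba e he => hHM (hE0 a ha b hb hba e he)) ha ha0 haS
        have hBS : ∀ b ∈ D 1, b ∈ Cfsg.Agent.Lib.Helper5.SUMax.Sset hF M := by
          intro b hb
          have h3 := Cfsg.Agent.Lib.Helper5.SUMax.Sset_mulVec_mem hF (M.inv_mem hJM) hJU'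
            (hAS _ (hJB b hb))
          rwa [inv_mul_mulVec] at h3
        exact all_of_AB hF h hAS hBS
    refine Cfsg.Agent.Lib.Helper5.SUMax.le_of_forall_mem_Sset hF (by omega) ?_ M hall
    rintro ⟨h1, -⟩
    omega

end Main

end Cfsg.Agent.Lib.Helper4.UTIPair
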