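/-
helper4: S2524 leaf FIN - the final assembly (= the statement of S2524).
-/
import Mathlib
import Cfsg.Agent.Lib.Helper10.WGDefs
import Cfsg.Agent.Lib.Helper10.WGDefs2
import Cfsg.Prelude.Def_Characters
import Cfsg.Agent.Lib.Lead.CharDecomp
import Cfsg.Agent.Lib.Lead.CharEquiv
import Cfsg.Agent.Lib.Helper10.WGABS
import Cfsg.Agent.Lib.Helper17.WGONE
import Cfsg.Agent.Lib.Helper17.WGISO
import Cfsg.Agent.Lib.Helper4.WGTYPE
import Cfsg.Agent.Lib.Helper25.WeilSp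
import Cfsg.Agent.Lib.Helper8.WGPW
import Cfsg.Agent.Lib.Helper14.WGMAIN
import Cfsg.Agent.Lib.Helper2.WGF7
import Cfsg.Agent.Lib.Helper8.WGWEILP
import Cfsg.Agent.Lib.Helper2.WGTW

set_option autoImplicit false

namespace Cfsg.Agent.Lib.Helper4.WGFIN

open Matrix Cfsg.Agent.Lib.Helper11.LS Cfsg.Agent.Lib.Helper10.WG

section types

variable {F : Type*} [Field F] [Fintype F] [DecidableEq F]

/-- the character `χ` has the type `(κ, ε)` -/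
def HasType (m : ℕ) (ψ : AddChar F ℂ) (χ : SpG F (m + 2) → ℂ) (κ : F) (ε : ℂ) : Prop :=
  ∃ (k : ℕ) (ρ : Representation ℂ (SpG F (m + 2)) (Fin k → ℂ)), ρ.IsIrreducible ∧ IsW ψ ρ ∧
    ρ.character = χ ∧ ∃ v : Fin k → ℂ, v ≠ 0 ∧ v ∈ wt ψ ρ (single 0 0 κ) ∧ ρ t0 v = ε • v

/-- smallness of a degree -/
def Small (q n k : ℕ) : Prop := 2 * (q + 1) * k < (q ^ n - 1) * (q ^ n - q)

theorem small_iff (q n k : ℕ) :
    ‖((k : ℕ) : ℂ)‖ < ((q ^ n - 1 : ℕ) : ℝ) * ((q ^ n - q : ℕ) : ℝ) / (2 * ((q : ℕ) + 1 : ℝ)) ↔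
      Small q n k := by
  rw [Complex.norm_natCast, lt_div_iff₀ (by positivity), Small]
  constructor
  · intro h
    have h' : ((k * (2 * (q + 1)) : ℕ) : ℝ) < (((q ^ n - 1) * (q ^ n - q) : ℕ) : ℝ) := by
      push_cast
      exact h
    have := Nat.cast_lt.1 h'
    linarith
  · intro h
    have h' : ((k * (2 * (q + 1)) : ℕ) : ℝ) < (((q ^ n - 1) * (q ^ n - q) : ℕ) : ℝ) := by
      apply Nat.cast_lt.2
      linarith
    push_cast at h'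
    exact h'

theorem char_one_fin {G : Type*} [Group G] (k : ℕ) (ρ : Representation ℂ G (Fin k → ℂ)) :
    ρ.character 1 = (k : ℂ) := by
  rw [Representation.char_one, Module.finrank_fin_fun]

/-- every small irreducible character of degree `≠ 1` has a type -/
theorem exists_hasType (m : ℕ) (h2 : (2 : F) ≠ 0) (ψ : AddChar F ℂ) (hψ : ψ.IsPrimitive) (ν : F)
    (hν : ¬ IsSquare ν) (χ : SpG F (m + 2) → ℂ) (hχ : Cfsg.IsIrrCharacter (SpG F (m + 2)) χ)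
    (h1 : χ 1 ≠ 1)
    (hs : ‖χ 1‖ < ((Fintype.card F ^ (m + 2) - 1 : ℕ) : ℝ) *
      ((Fintype.card F ^ (m + 2) - Fintype.card F : ℕ) : ℝ) / (2 * ((Fintype.card F : ℕ) + 1 : ℝ))) :
    ∃ (κ : F) (ε : ℂ), (κ = 1 ∨ κ = ν) ∧ (ε = 1 ∨ ε = -1) ∧ HasType m ψ χ κ ε := by
  obtain ⟨k, ρ, hirr, rfl⟩ := hχ
  rw [char_one_fin] at h1 hs
  rw [small_iff] at hs
  have hk1 : Module.finrank ℂ (Fin k → ℂ) ≠ 1 := by
    rw [Module.finrank_fin_fun]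
    intro h
    apply h1
    rw [h]
    norm_num
  have hW : IsW ψ ρ := by
    apply Cfsg.Agent.Lib.Helper8.WGPW.isW_of_finrank_lt (by omega) h2 ψ hψ ρ
    rw [Module.finrank_fin_fun]
    exact hs
  obtain ⟨κ, hκ, ε, hε, v, hv0, hv, hvt⟩ :=
    Cfsg.Agent.Lib.Helper4.WGTYPE.exists_type h2 ψ hψ ν hν ρ hirr hW hk1
  exact ⟨κ, ε, hκ, hε, k, ρ, hirr, hW, rfl, v, hv0, hv, hvt⟩

theorem nonsquare_ne_zero (ν : F) (hν : ¬ IsSquare ν) : ν ≠ 0 := by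
  rintro rfl
  exact hν ⟨0, by simp⟩

theorem nonsquare_ne_one (ν : F) (hν : ¬ IsSquare ν) : ν ≠ 1 := by
  rintro rfl
  exact hν ⟨1, by simp⟩

/-- a common type determines the character -/
theorem eq_of_hasType (m : ℕ) (h2 : (2 : F) ≠ 0) (ψ : AddChar F ℂ) (hψ : ψ.IsPrimitive) (ν : F)
    (hν : ¬ IsSquare ν) (χ χ' : SpG F (m + 2) → ℂ) (κ : F) (ε : ℂ) (hκ : κ = 1 ∨ κ = ν)
    (hε : ε = 1 ∨ ε = -1) (h : HasType m ψ χ κ ε) (h' : HasType m ψ χ' κ ε) : χ = χ' := by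
  obtain ⟨k, ρ, hirr, hW, rfl, v, hv0, hv, hvt⟩ := h
  obtain ⟨k', ρ', hirr', hW', rfl, v', hv'0, hv', hv't⟩ := h'
  have hκ0 : κ ≠ 0 := by
    rcases hκ with h | h
    · rw [h]; exact one_ne_zero
    · rw [h]; exact nonsquare_ne_zero ν hν
  have hS : SurjAt ψ ν ρ ρ' :=
    Cfsg.Agent.Lib.Helper14.WGMAIN.surj_main h2 ψ hψ ν hν m (Fin k' → ℂ) (Fin k → ℂ) ρ ρ' hW hW'
  obtain ⟨e⟩ := Cfsg.Agent.Lib.Helper17.WGISO.equiv_of_type ψ ν ρ ρ' hirr hirr' hS κ hκ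
    (fun T hT hT0 =>
      Cfsg.Agent.Lib.Helper2.WGF7.isStabMap_of_t0 h2 ψ hψ ρ ρ' hW hW' κ hκ0 T hT hT0)
    ε hε v hv0 hv hvt v' hv'0 hv' hv't
  exact Representation.char_iso e

/-- an equivalence of representations carries weight spaces to weight spaces -/
theorem wt_ne_bot_of_equiv {n k : ℕ} (ψ : AddChar F ℂ)
    (σ ρ : Representation ℂ (SpG F n) (Fin k → ℂ)) (e : σ.Equiv ρ)
    (B : Matrix (Fin n) (Fin n) F) (h : wt ψ σ B ≠ ⊥) : wt ψ ρ B ≠ ⊥ := by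
  obtain ⟨v, hv, hv0⟩ := (Submodule.ne_bot_iff _).1 h
  apply (Submodule.ne_bot_iff _).2
  refine ⟨e v, ?_, ?_⟩
  · intro S hS
    have h1 := LinearMap.congr_fun (e.toIntertwiningMap.isIntertwining' (Xs S hS)) v
    have h2 : ρ (Xs S hS) (e v) = e (σ (Xs S hS) v) := h1.symm
    rw [h2, hv S hS, map_smul]
  · intro h0
    apply hv0
    have : e v = e 0 := by rw [h0, map_zero]
    exact e.toLinearEquiv.injective this

/-- the twist moves every small irreducible character of degree `≠ 1` -/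
theorem twist_ne (m : ℕ) (h2 : (2 : F) ≠ 0) (ψ : AddChar F ℂ) (hψ : ψ.IsPrimitive) (ν : F)
    (hν : ¬ IsSquare ν) (δ : SpG F (m + 2) ≃* SpG F (m + 2))
    (hδ : ∀ (V : Type) [AddCommGroup V] [Module ℂ V] (ρ : Representation ℂ (SpG F (m + 2)) V),
        (wt ψ (MonoidHom.comp ρ δ.toMonoidHom : Representation ℂ (SpG F (m + 2)) V) (single 0 0 1) ≠ ⊥ ↔
          wt ψ ρ (single 0 0 ν) ≠ ⊥) ∧
        (wt ψ (MonoidHom.comp ρ δ.toMonoidHom : Representation ℂ (SpG F (m + 2)) V) (single 0 0 ν) ≠ ⊥ ↔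
          wt ψ ρ (single 0 0 1) ≠ ⊥))
    (χ : SpG F (m + 2) → ℂ) (hχ : Cfsg.IsIrrCharacter (SpG F (m + 2)) χ)
    (h1 : χ 1 ≠ 1)
    (hs : ‖χ 1‖ < ((Fintype.card F ^ (m + 2) - 1 : ℕ) : ℝ) *
      ((Fintype.card F ^ (m + 2) - Fintype.card F : ℕ) : ℝ) / (2 * ((Fintype.card F : ℕ) + 1 : ℝ))) :
    χ ∘ δ ≠ χ := by
  intro hfix
  obtain ⟨κ, ε, hκ, hε, k, ρ, hirr, hW, rfl, v, hv0, hv, hvt⟩ :=
    exists_hasType m h2 ψ hψ ν hν χ hχ h1 hs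
  set ρδ : Representation ℂ (SpG F (m + 2)) (Fin k → ℂ) := MonoidHom.comp ρ δ.toMonoidHom with hρδ
  have hchar : ρδ.character = ρ.character := by
    rw [← hfix]
    rfl
  obtain ⟨e⟩ := Cfsg.Agent.CharLib.nonempty_equiv_of_character_eq ρδ ρ hchar
  have hS : SurjAt ψ ν ρ ρ :=
    Cfsg.Agent.Lib.Helper14.WGMAIN.surj_main h2 ψ hψ ν hν m (Fin k → ℂ) (Fin k → ℂ) ρ ρ hW hW
  have hκne : wt ψ ρ (single 0 0 κ) ≠ ⊥ := (Submodule.ne_bot_iff _).2 ⟨v, hv, hv0⟩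
  apply Cfsg.Agent.Lib.Helper17.WGONE.one_kappa ψ ν ρ hirr hS
  obtain ⟨hδ1, hδ2⟩ := hδ (Fin k → ℂ) ρ
  rcases hκ with h | h
  · rw [h] at hκne
    exact ⟨hκne, wt_ne_bot_of_equiv ψ ρδ ρ e _ (hδ2.2 hκne)⟩
  · rw [h] at hκne
    exact ⟨wt_ne_bot_of_equiv ψ ρδ ρ e _ (hδ1.2 hκne), hκne⟩

end types

/-- (FIN) the final assembly = the statement of S2524. -/
theorem fin_main {F : Type*} [Field F] [Fintype F] (hodd : Odd (Fintype.card F)) (n : ℕ) (hn : 2 ≤ n) :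
    Nat.card {χ : Cfsg.IrrCharacter ↥(Matrix.symplecticGroup (Fin n) F) // (χ : ↥(Matrix.symplecticGroup (Fin n) F) → ℂ) 1 = (((Fintype.card F) ^ n + 1 : ℕ) : ℂ) / 2} = 2 ∧
    Nat.card {χ : Cfsg.IrrCharacter ↥(Matrix.symplecticGroup (Fin n) F) // (χ : ↥(Matrix.symplecticGroup (Fin n) F) → ℂ) 1 = (((Fintype.card F) ^ n - 1 : ℕ) : ℂ) / 2} = 2 ∧
    ∀ χ : Cfsg.IrrCharacter ↥(Matrix.symplecticGroup (Fin n) F),
      (χ : ↥(Matrix.symplecticGroup (Fin n) F) → ℂ) 1 ≠ 1 →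
      (χ : ↥(Matrix.symplecticGroup (Fin n) F) → ℂ) 1 ≠ (((Fintype.card F) ^ n + 1 : ℕ) : ℂ) / 2 →
      (χ : ↥(Matrix.symplecticGroup (Fin n) F) → ℂ) 1 ≠ (((Fintype.card F) ^ n - 1 : ℕ) : ℂ) / 2 →
      (((Fintype.card F) ^ n - 1 : ℕ) : ℝ) * (((Fintype.card F) ^ n - Fintype.card F : ℕ) : ℝ) / (2 * ((Fintype.card F : ℕ) + 1 : ℝ)) ≤ ‖(χ : ↥(Matrix.symplecticGroup (Fin n) F) → ℂ) 1‖ := by
  classical
  obtain ⟨m, rfl⟩ : ∃ m, n = m + 2 := ⟨n - 2, by omega⟩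
  -- the setting
  have hchar : ringChar F ≠ 2 := by
    intro h
    have h1 := FiniteField.even_card_iff_char_two.mp h
    rcases hodd with ⟨c, hc⟩
    omega
  have h2 : (2 : F) ≠ 0 := Ring.two_ne_zero hchar
  obtain ⟨ψ, hψ1⟩ : ∃ ψ : AddChar F ℂ, ψ ≠ 1 := by
    obtain ⟨ψ, hψ⟩ := (AddChar.exists_apply_ne_zero (α := F) (a := 1)).mpr one_ne_zero
    refine ⟨ψ, ?_⟩
    rintro rfl
    exact hψ rfl
  have hψ : ψ.IsPrimitive := AddChar.IsPrimitive.of_ne_one hψ1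
  obtain ⟨ν, hν⟩ := FiniteField.exists_nonsquare hchar
  obtain ⟨δ, hδ⟩ : ∃ δ : SpG F (m + 2) ≃* SpG F (m + 2),
      ∀ (V : Type) [AddCommGroup V] [Module ℂ V] (ρ : Representation ℂ (SpG F (m + 2)) V),
        (wt ψ (MonoidHom.comp ρ δ.toMonoidHom : Representation ℂ (SpG F (m + 2)) V) (single 0 0 1) ≠ ⊥ ↔
          wt ψ ρ (single 0 0 ν) ≠ ⊥) ∧
        (wt ψ (MonoidHom.comp ρ δ.toMonoidHom : Representation ℂ (SpG F (m + 2)) V) (single 0 0 ν) ≠ ⊥ ↔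
          wt ψ ρ (single 0 0 1) ≠ ⊥) :=
    Cfsg.Agent.Lib.Helper2.WGTW.exists_twist (n := m + 1) ψ ν (nonsquare_ne_zero ν hν)
  -- numerics
  set q := Fintype.card F with hq
  have hq3 : 3 ≤ q := by
    have h1 : 1 < q := Fintype.one_lt_card
    rcases hodd with ⟨c, hc⟩
    omega
  have hQodd : Odd (q ^ (m + 2)) := hodd.pow
  obtain ⟨c, hc⟩ := hQodd
  have hQ9 : q * q ≤ q ^ (m + 2) := by
    have hpos : 0 < q ^ m := Nat.pow_pos (lt_of_lt_of_le (by norm_num) hq3)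
    rw [pow_add, pow_two]
    exact Nat.le_mul_of_pos_left _ hpos
  have hd1v : (q ^ (m + 2) + 1) / 2 = c + 1 := by omega
  have hd2v : (q ^ (m + 2) - 1) / 2 = c := by omega
  have hc4 : 4 ≤ c := by nlinarith
  have hsmall1 : Small q (m + 2) (c + 1) := by
    unfold Small
    obtain ⟨A, hA⟩ : ∃ A, q ^ (m + 2) = A + 1 := ⟨q ^ (m + 2) - 1, by omega⟩
    obtain ⟨B, hB⟩ : ∃ B, q ^ (m + 2) = B + q := ⟨q ^ (m + 2) - q, by
      have : q ≤ q ^ (m + 2) := by nlinarith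
      omega⟩
    have e1 : q ^ (m + 2) - 1 = A := by omega
    have e2 : q ^ (m + 2) - q = B := by omega
    rw [e1, e2]
    have hcq : q + 1 ≤ c := by nlinarith
    have hA2 : A = 2 * c := by omega
    have hB2 : B + q = 2 * c + 1 := by omega
    have h5 : (q + 1) * c ≤ c * c := Nat.mul_le_mul_right c hcq
    nlinarith
  have hsmall2 : Small q (m + 2) c := by
    unfold Small at hsmall1 ⊢
    nlinarith
  set β : ℝ := ((q ^ (m + 2) - 1 : ℕ) : ℝ) * ((q ^ (m + 2) - q : ℕ) : ℝ) / (2 * ((q : ℕ) + 1 : ℝ))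
    with hβ
  have hβ1 : ((c + 1 : ℕ) : ℝ) < β := by
    have := (small_iff q (m + 2) (c + 1)).2 hsmall1
    rwa [Complex.norm_natCast] at this
  have hβ2 : ((c : ℕ) : ℝ) < β := by
    have := (small_iff q (m + 2) c).2 hsmall2
    rwa [Complex.norm_natCast] at this
  -- the types
  have hT1 : ∀ χ : {χ : Cfsg.IrrCharacter (SpG F (m + 2)) //
      (χ : SpG F (m + 2) → ℂ) 1 ≠ 1 ∧ ‖(χ : SpG F (m + 2) → ℂ) 1‖ < β},
      ∃ (κ : F) (ε : ℂ), (κ = 1 ∨ κ = ν) ∧ (ε = 1 ∨ ε = -1) ∧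
        HasType m ψ (χ.1 : SpG F (m + 2) → ℂ) κ ε :=
    fun χ => exists_hasType m h2 ψ hψ ν hν _ χ.1.2 χ.2.1 χ.2.2
  choose κf εf hκf hεf hTf using hT1
  have hν1 := nonsquare_ne_one ν hν
  have ht : Function.Injective
      (fun χ : {χ : Cfsg.IrrCharacter (SpG F (m + 2)) //
        (χ : SpG F (m + 2) → ℂ) 1 ≠ 1 ∧ ‖(χ : SpG F (m + 2) → ℂ) 1‖ < β} =>
        ((decide (κf χ = 1), decide (εf χ = 1)) : Bool × Bool)) := by
    intro χ χ' hχχ'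
    simp only [Prod.mk.injEq, decide_eq_decide] at hχχ'
    obtain ⟨hk, he⟩ := hχχ'
    have hκeq : κf χ = κf χ' := by
      rcases hκf χ with h | h
      · rw [h, hk.1 h]
      · rcases hκf χ' with h' | h'
        · rw [hk.2 h', h']
        · rw [h, h']
    have hεeq : εf χ = εf χ' := by
      rcases hεf χ with h | h
      · rw [h, he.1 h]
      · rcases hεf χ' with h' | h'
        · rw [he.2 h', h']
        · rw [h, h']
    have h1 := hTf χ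
    have h2' := hTf χ'
    rw [← hκeq, ← hεeq] at h2'
    apply Subtype.ext
    apply Subtype.ext
    exact eq_of_hasType m h2 ψ hψ ν hν _ _ (κf χ) (εf χ) (hκf χ) (hεf χ) h1 h2'
  -- the two Weil characters
  obtain ⟨ρ₁, hρ₁⟩ := Cfsg.Agent.Lib.Helper8.WGWEILP.symp_exists_plus (F := F) (m + 2) (by omega) hodd
  obtain ⟨ρ₂, hρ₂⟩ := Cfsg.Agent.Lib.Helper25.WeilSp.symp_exists (F := F) (m + 2) (by omega) hodd
  have hχ₁ : Cfsg.IsIrrCharacter (SpG F (m + 2)) ρ₁.character := ⟨_, ρ₁, hρ₁, rfl⟩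
  have hχ₂ : Cfsg.IsIrrCharacter (SpG F (m + 2)) ρ₂.character := ⟨_, ρ₂, hρ₂, rfl⟩
  have hmain := Cfsg.Agent.Lib.Helper10.WGABS.count_of_types δ β (c + 1) c (by omega) (by omega)
    (by omega) hβ1 hβ2 _ ht
    (fun χ h1 hs => twist_ne m h2 ψ hψ ν hν δ (fun V _ _ ρ => hδ V ρ) _ χ.2 h1 hs)
    ⟨ρ₁.character, hχ₁⟩ ⟨ρ₂.character, hχ₂⟩
    (by show ρ₁.character 1 = _; rw [char_one_fin, ← hq, hd1v])
    (by show ρ₂.character 1 = _; rw [char_one_fin, ← hq, hd2v])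
  have e1 : (((q ^ (m + 2) + 1 : ℕ) : ℂ) / 2) = ((c + 1 : ℕ) : ℂ) := by
    rw [hc]; push_cast; ring
  have e2 : (((q ^ (m + 2) - 1 : ℕ) : ℂ) / 2) = ((c : ℕ) : ℂ) := by
    have : q ^ (m + 2) - 1 = 2 * c := by omega
    rw [this]; push_cast; ring
  rw [e1, e2]
  exact hmain

end Cfsg.Agent.Lib.Helper4.WGFIN
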