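import Mathlib
import Cfsg.Agent.Lib.Helper4.GenerousOrbit

namespace Cfsg.Agent.Lib.Helper4.Wagner

open Finset
open scoped Pointwise
open Cfsg.Agent.Lib.Helper4.GenerousOrbit

variable {α : Type*}

theorem three_iff {M : Type*} [Group M] [MulAction M α] :
    MulAction.IsMultiplyPretransitive M α 3 ↔
      ∀ a b c a' b' c' : α, a ≠ b → a ≠ c → b ≠ c → a' ≠ b' → a' ≠ c' → b' ≠ c' →
        ∃ g : M, g • a = a' ∧ g • b = b' ∧ g • c = c' := by
  constructor
  · intro h a b c a' b' c' hab hac hbc hab' hac' hbc'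
    have hinj : Function.Injective ![a, b, c] := by
      intro i j hij
      fin_cases i <;> fin_cases j <;> simp_all
    have hinj' : Function.Injective ![a', b', c'] := by
      intro i j hij
      fin_cases i <;> fin_cases j <;> simp_all
    obtain ⟨g, hg⟩ := h.exists_smul_eq (⟨![a, b, c], hinj⟩ : Fin 3 ↪ α) ⟨![a', b', c'], hinj'⟩
    refine ⟨g, ?_, ?_, ?_⟩
    · have := DFunLike.congr_fun hg 0
      simpa using this
    · have := DFunLike.congr_fun hg 1
      simpa using this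
    · have := DFunLike.congr_fun hg 2
      simpa using this
  · intro h
    refine ⟨fun x y => ?_⟩
    obtain ⟨g, h0, h1, h2⟩ := h (x 0) (x 1) (x 2) (y 0) (y 1) (y 2)
      (fun e => by simpa using x.injective e) (fun e => by simpa using x.injective e)
      (fun e => by simpa using x.injective e) (fun e => by simpa using y.injective e)
      (fun e => by simpa using y.injective e) (fun e => by simpa using y.injective e)
    refine ⟨g, ?_⟩
    ext i
    fin_cases i
    · simpa using h0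
    · simpa using h1
    · simpa using h2


variable [Fintype α] [DecidableEq α]

def T1 (G : Subgroup (Equiv.Perm α)) : Prop := ∀ a a' : α, ∃ g ∈ G, g a = a'

def T2 (G : Subgroup (Equiv.Perm α)) : Prop :=
  ∀ a b a' b' : α, a ≠ b → a' ≠ b' → ∃ g ∈ G, g a = a' ∧ g b = b'

def T3 (G : Subgroup (Equiv.Perm α)) : Prop :=
  ∀ a b c a' b' c' : α, a ≠ b → a ≠ c → b ≠ c → a' ≠ b' → a' ≠ c' → b' ≠ c' →
    ∃ g ∈ G, g a = a' ∧ g b = b' ∧ g c = c'

def NormalIn (K G : Subgroup (Equiv.Perm α)) : Prop :=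
  K ≤ G ∧ ∀ g ∈ G, ∀ k ∈ K, g * k * g⁻¹ ∈ K

theorem exists_notMem_of_card_lt (s : Finset α) (h : s.card < Fintype.card α) : ∃ x, x ∉ s := by
  by_contra hcon
  push Not at hcon
  have : s = Finset.univ := Finset.eq_univ_iff_forall.2 hcon
  rw [this, Finset.card_univ] at h
  exact lt_irrefl _ h

theorem T3.t2 {G : Subgroup (Equiv.Perm α)} (h : T3 G) (h3 : 3 ≤ Fintype.card α) : T2 G := by
  intro a b a' b' hab hab'
  obtain ⟨c, hc⟩ := exists_notMem_of_card_lt ({a, b} : Finset α)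
    (lt_of_le_of_lt (Finset.card_le_two) (by omega))
  obtain ⟨c', hc'⟩ := exists_notMem_of_card_lt ({a', b'} : Finset α)
    (lt_of_le_of_lt (Finset.card_le_two) (by omega))
  simp only [Finset.mem_insert, Finset.mem_singleton, not_or] at hc hc'
  obtain ⟨g, hg, h1, h2, -⟩ := h a b c a' b' c' hab (Ne.symm hc.1) (Ne.symm hc.2) hab'
    (Ne.symm hc'.1) (Ne.symm hc'.2)
  exact ⟨g, hg, h1, h2⟩

theorem T2.t1 {G : Subgroup (Equiv.Perm α)} (h : T2 G) (h2 : 2 ≤ Fintype.card α) : T1 G := by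
  intro a a'
  obtain ⟨b, hb⟩ := exists_notMem_of_card_lt ({a} : Finset α) (by simp; omega)
  obtain ⟨b', hb'⟩ := exists_notMem_of_card_lt ({a'} : Finset α) (by simp; omega)
  simp only [Finset.mem_singleton] at hb hb'
  obtain ⟨g, hg, h1, -⟩ := h a b a' b' (Ne.symm hb) (Ne.symm hb')
  exact ⟨g, hg, h1⟩

/-- Step 1: a nontrivial normal subgroup of a 2-transitive group is transitive. -/
theorem t1_of_normal {K G : Subgroup (Equiv.Perm α)} (hG : T2 G) (hKG : NormalIn K G)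
    (hK : K ≠ ⊥) : T1 K := by
  obtain ⟨k, hk1⟩ := (Subgroup.ne_bot_iff_exists_ne_one).1 hK
  have hk' : (k : Equiv.Perm α) ≠ 1 := fun h => hk1 (Subtype.ext h)
  obtain ⟨a, ha⟩ : ∃ a, (k : Equiv.Perm α) a ≠ a := by
    by_contra hcon
    push Not at hcon
    exact hk' (Equiv.ext hcon)
  intro x y
  by_cases hxy : x = y
  · exact ⟨1, K.one_mem, by simp [hxy]⟩
  · obtain ⟨g, hg, h1, h2⟩ := hG a ((k : Equiv.Perm α) a) x y (Ne.symm ha) hxy
    refine ⟨g * k * g⁻¹, hKG.2 g hg k k.2, ?_⟩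
    have : g⁻¹ x = a := by rw [Equiv.Perm.inv_eq_iff_eq]; exact h1.symm
    simp only [Equiv.Perm.mul_apply, this, h2]

/-- Step 2a: point stabilizers in `K` are nontrivial. -/
theorem exists_ne_one_fix {K G : Subgroup (Equiv.Perm α)} (hG : T3 G) (hKG : NormalIn K G)
    (hK : K ≠ ⊥) (hodd : Odd (Fintype.card α)) (h5 : 5 ≤ Fintype.card α) :
    ∀ a : α, ∃ k ∈ K, k ≠ 1 ∧ k a = a := by
  have hT1 : T1 K := t1_of_normal (hG.t2 (by omega)) hKG hK
  by_contra hcon
  push Not at hcon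
  obtain ⟨a, ha⟩ := hcon
  have hreg : ∀ k ∈ K, k a = a → k = 1 := by
    intro k hk hka
    by_contra hne
    exact ha k hk hne hka
  obtain ⟨x, hx⟩ := exists_notMem_of_card_lt ({a} : Finset α) (by simp; omega)
  rw [Finset.mem_singleton] at hx
  obtain ⟨k, hk, hkx⟩ := hT1 a x
  have hx'a : k⁻¹ a ≠ a := by
    intro h
    rw [Equiv.Perm.inv_eq_iff_eq] at h
    exact hx (by rw [← hkx, ← h])
  have hx'x : k⁻¹ a ≠ x := by
    intro h
    -- then k^2 fixes a
    have h2 : (k * k) a = a := by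
      rw [Equiv.Perm.mul_apply, hkx, ← h]
      simp
    have hk2 : k * k = 1 := hreg _ (K.mul_mem hk hk) h2
    -- k is fixed point free
    have hfpf : ∀ y, k y ≠ y := by
      intro y hy
      obtain ⟨m, hm, hmy⟩ := hT1 a y
      have : (m⁻¹ * k * m) a = a := by
        simp only [Equiv.Perm.mul_apply, hmy, hy]
        rw [Equiv.Perm.inv_eq_iff_eq]; exact hmy.symm
      have h1 := hreg _ (K.mul_mem (K.mul_mem (K.inv_mem hm) hk) hm) this
      have hk1 : k = 1 := by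
        have := congrArg (fun z => m * z * m⁻¹) h1
        simpa [mul_assoc] using this
      rw [hk1] at hkx
      exact hx hkx.symm
    have hsupp : k.support = Finset.univ := by
      ext y
      simp [Equiv.Perm.mem_support, hfpf y]
    have := Equiv.Perm.two_dvd_card_support (σ := k) (by rw [pow_two]; exact hk2)
    rw [hsupp, Finset.card_univ] at this
    rw [← Nat.not_even_iff_odd] at hodd
    exact hodd (even_iff_two_dvd.2 this)
  obtain ⟨y, hy⟩ := exists_notMem_of_card_lt ({a, x, k⁻¹ a} : Finset α)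
    (lt_of_le_of_lt (Finset.card_le_three) (by omega))
  simp only [Finset.mem_insert, Finset.mem_singleton, not_or] at hy
  obtain ⟨g, hg, hga, hgx, hgx'⟩ := hG a x (k⁻¹ a) a x y (Ne.symm hx) (Ne.symm hx'a)
    (Ne.symm hx'x) (Ne.symm hx) (Ne.symm hy.1) (Ne.symm hy.2.1)
  have hginva : g⁻¹ a = a := by rw [Equiv.Perm.inv_eq_iff_eq]; exact hga.symm
  have h1 : (k⁻¹ * (g * k * g⁻¹)) a = a := by
    simp only [Equiv.Perm.mul_apply, hginva, hkx, hgx]
    rw [Equiv.Perm.inv_eq_iff_eq]; exact hkx.symm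
  have h2 := hreg _ (K.mul_mem (K.inv_mem hk) (hKG.2 g hg k hk)) h1
  have h3 : g * k * g⁻¹ = k := by
    have := congrArg (fun z => k * z) h2
    simpa [mul_assoc] using this
  have h4 : g * k⁻¹ * g⁻¹ = k⁻¹ := by
    calc g * k⁻¹ * g⁻¹ = (g * k * g⁻¹)⁻¹ := by group
      _ = k⁻¹ := by rw [h3]
  have h5' := congrArg (fun z : Equiv.Perm α => z a) h4
  simp only [Equiv.Perm.mul_apply, hginva, hgx'] at h5'
  exact hy.2.2 h5'

/-- Step 2b: point stabilizers of `K` are transitive on the other points. -/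
theorem stab_trans {K G : Subgroup (Equiv.Perm α)} (hG : T3 G) (hKG : NormalIn K G)
    (hfix : ∀ a : α, ∃ k ∈ K, k ≠ 1 ∧ k a = a) (a u v : α) (hu : u ≠ a) (hv : v ≠ a) :
    ∃ k ∈ K, k a = a ∧ k u = v := by
  by_cases huv : u = v
  · exact ⟨1, K.one_mem, rfl, by simp [huv]⟩
  obtain ⟨k, hk, hk1, hka⟩ := hfix a
  obtain ⟨x, hx⟩ : ∃ x, k x ≠ x := by
    by_contra hcon
    push Not at hcon
    exact hk1 (Equiv.ext hcon)
  have hxa : x ≠ a := fun h => hx (by rw [h, hka])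
  have hkxa : k x ≠ a := by
    intro h
    have : k x = k a := by rw [h, hka]
    exact hxa (k.injective this)
  obtain ⟨g, hg, hga, hgx, hgy⟩ := hG a x (k x) a u v (Ne.symm hxa) (Ne.symm hkxa)
    (Ne.symm hx) (Ne.symm hu) (Ne.symm hv) huv
  have hginva : g⁻¹ a = a := by rw [Equiv.Perm.inv_eq_iff_eq]; exact hga.symm
  have hginvu : g⁻¹ u = x := by rw [Equiv.Perm.inv_eq_iff_eq]; exact hgx.symm
  refine ⟨g * k * g⁻¹, hKG.2 g hg k hk, ?_, ?_⟩
  · simp only [Equiv.Perm.mul_apply, hginva, hka, hga]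
  · simp only [Equiv.Perm.mul_apply, hginvu, hgy]

theorem t2_of_normal {K G : Subgroup (Equiv.Perm α)} (hG : T3 G) (hKG : NormalIn K G)
    (hK : K ≠ ⊥) (hodd : Odd (Fintype.card α)) (h5 : 5 ≤ Fintype.card α) : T2 K := by
  have hT1 : T1 K := t1_of_normal (hG.t2 (by omega)) hKG hK
  have hfix := exists_ne_one_fix hG hKG hK hodd h5
  intro a b a' b' hab hab'
  obtain ⟨k1, hk1, hk1a⟩ := hT1 a a'
  have h1 : k1 b ≠ a' := by
    intro h
    rw [← hk1a] at h
    exact hab (k1.injective h).symm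
  obtain ⟨k2, hk2, hk2a, hk2b⟩ := stab_trans hG hKG hfix a' (k1 b) b' h1 (Ne.symm hab')
  refine ⟨k2 * k1, K.mul_mem hk2 hk1, ?_, ?_⟩
  · simp only [Equiv.Perm.mul_apply, hk1a, hk2a]
  · simp only [Equiv.Perm.mul_apply, hk2b]

theorem mem_Hs_pair {K : Subgroup (Equiv.Perm α)} {a b : α} {h : Equiv.Perm α} :
    h ∈ Hs K ({a, b} : Finset α) ↔ h ∈ K ∧ h a = a ∧ h b = b := by
  rw [mem_Hs]
  constructor
  · rintro ⟨h1, h2⟩
    exact ⟨h1, h2 a (by simp), h2 b (by simp)⟩
  · rintro ⟨h1, h2, h3⟩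
    refine ⟨h1, fun x hx => ?_⟩
    simp only [Finset.mem_insert, Finset.mem_singleton] at hx
    rcases hx with rfl | rfl
    · exact h2
    · exact h3

theorem mem_Ds_pair {K : Subgroup (Equiv.Perm α)} {a b : α} (hab : a ≠ b) {d : Equiv.Perm α} :
    d ∈ Ds K (∅ : Finset α) ({a, b} : Finset α) ↔
      d ∈ K ∧ ((d a = a ∧ d b = b) ∨ (d a = b ∧ d b = a)) := by
  rw [mem_Ds]
  constructor
  · rintro ⟨h1, -, h3⟩
    refine ⟨h1, ?_⟩
    have ha : d a ∈ ({a, b} : Finset α) := (mem_iff_of_smul_eq h3 a).2 (by simp)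
    have hb : d b ∈ ({a, b} : Finset α) := (mem_iff_of_smul_eq h3 b).2 (by simp)
    have hne : d a ≠ d b := fun h => hab (d.injective h)
    simp only [Finset.mem_insert, Finset.mem_singleton] at ha hb
    rcases ha with ha | ha <;> rcases hb with hb | hb
    · exact absurd (ha.trans hb.symm) hne
    · exact Or.inl ⟨ha, hb⟩
    · exact Or.inr ⟨ha, hb⟩
    · exact absurd (ha.trans hb.symm) hne
  · rintro ⟨h1, h2⟩
    refine ⟨h1, fun x hx => absurd hx (Finset.notMem_empty x), ?_⟩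
    apply smul_eq_of_forall_mem
    intro y hy
    simp only [Finset.mem_insert, Finset.mem_singleton] at hy ⊢
    rcases h2 with ⟨h2, h3⟩ | ⟨h2, h3⟩ <;> rcases hy with rfl | rfl
    · exact Or.inl h2
    · exact Or.inr h3
    · exact Or.inr h2
    · exact Or.inl h3

theorem Hs_le_Ds_pair {K : Subgroup (Equiv.Perm α)} {a b : α} (hab : a ≠ b) :
    Hs K ({a, b} : Finset α) ≤ Ds K (∅ : Finset α) ({a, b} : Finset α) := by
  intro h hh
  rw [mem_Hs_pair] at hh
  rw [mem_Ds_pair hab]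
  exact ⟨hh.1, Or.inl hh.2⟩

/-- index two -/
theorem index_pair {K : Subgroup (Equiv.Perm α)} {a b : α} (hab : a ≠ b) (t : Equiv.Perm α)
    (ht : t ∈ K) (hta : t a = b) (htb : t b = a) :
    ((Hs K ({a, b} : Finset α)).subgroupOf (Ds K (∅ : Finset α) ({a, b} : Finset α))).index
      = 2 := by
  rw [Subgroup.index_eq_two_iff]
  have htD : t ∈ Ds K (∅ : Finset α) ({a, b} : Finset α) := by
    rw [mem_Ds_pair hab]; exact ⟨ht, Or.inr ⟨hta, htb⟩⟩
  refine ⟨⟨t, htD⟩, fun d => ?_⟩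
  have hd := (mem_Ds_pair hab).1 d.2
  rw [Subgroup.mem_subgroupOf, Subgroup.mem_subgroupOf, mem_Hs_pair, mem_Hs_pair]
  simp only [Subgroup.coe_mul, Equiv.Perm.mul_apply, hta, htb]
  rcases hd.2 with ⟨h1, h2⟩ | ⟨h1, h2⟩
  · right
    refine ⟨⟨hd.1, h1, h2⟩, ?_⟩
    rintro ⟨-, h3, -⟩
    exact hab (h3.symm.trans h2)
  · left
    refine ⟨⟨K.mul_mem hd.1 ht, h2, h1⟩, ?_⟩
    rintro ⟨-, h3, -⟩
    exact hab (h3.symm.trans h1)

theorem card_Ds_pair {K : Subgroup (Equiv.Perm α)} {a b : α} (hab : a ≠ b) (t : Equiv.Perm α)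
    (ht : t ∈ K) (hta : t a = b) (htb : t b = a) :
    Nat.card ↥(Ds K (∅ : Finset α) ({a, b} : Finset α))
      = Nat.card ↥(Hs K ({a, b} : Finset α)) * 2 := by
  have h1 := Subgroup.card_mul_index
    ((Hs K ({a, b} : Finset α)).subgroupOf (Ds K (∅ : Finset α) ({a, b} : Finset α)))
  rw [index_pair hab t ht hta htb] at h1
  have h3 : Nat.card ↥((Hs K ({a, b} : Finset α)).subgroupOf
      (Ds K (∅ : Finset α) ({a, b} : Finset α))) = Nat.card ↥(Hs K ({a, b} : Finset α)) :=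
    Nat.card_congr (Subgroup.subgroupOfEquivOfLe (Hs_le_Ds_pair hab)).toEquiv
  rw [h3] at h1
  exact h1.symm

/-- the complement of `{a,b}` as a `D`-set -/
def complPair (K : Subgroup (Equiv.Perm α)) {a b : α} (hab : a ≠ b) :
    SubMulAction ↥(Ds K (∅ : Finset α) ({a, b} : Finset α)) α where
  carrier := {c | c ≠ a ∧ c ≠ b}
  smul_mem' := by
    intro d c hc
    have hd := (mem_Ds_pair hab).1 d.2
    change (d : Equiv.Perm α) c ≠ a ∧ (d : Equiv.Perm α) c ≠ b
    rcases hd.2 with ⟨h1, h2⟩ | ⟨h1, h2⟩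
    · constructor
      · intro h; exact hc.1 ((d : Equiv.Perm α).injective (h.trans h1.symm))
      · intro h; exact hc.2 ((d : Equiv.Perm α).injective (h.trans h2.symm))
    · constructor
      · intro h; exact hc.2 ((d : Equiv.Perm α).injective (h.trans h2.symm))
      · intro h; exact hc.1 ((d : Equiv.Perm α).injective (h.trans h1.symm))

theorem card_complPair (K : Subgroup (Equiv.Perm α)) {a b : α} (hab : a ≠ b) :
    Nat.card ↥(complPair K hab) = Fintype.card α - 2 := by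
  have : Nat.card ↥(complPair K hab) = Nat.card {c : α // c ≠ a ∧ c ≠ b} := rfl
  rw [this, Nat.card_eq_fintype_card, Fintype.card_subtype]
  have h2 : (Finset.univ.filter (fun c : α => c ≠ a ∧ c ≠ b)) = ({a, b} : Finset α)ᶜ := by
    ext c
    simp
  rw [h2, Finset.card_compl, Finset.card_pair hab]


/-- Step 3: the two-point stabilizer of `K` is transitive on the remaining points. -/
theorem pair_stab_trans {K G : Subgroup (Equiv.Perm α)} (hG : T3 G) (hKG : NormalIn K G)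
    (hK2 : T2 K) (hodd : Odd (Fintype.card α)) (h5 : 5 ≤ Fintype.card α) {a b : α} (hab : a ≠ b)
    (c c' : α) (hca : c ≠ a) (hcb : c ≠ b) (hca' : c' ≠ a) (hcb' : c' ≠ b) :
    ∃ h ∈ K, h a = a ∧ h b = b ∧ h c = c' := by
  classical
  haveI : Fact (Nat.Prime 2) := ⟨Nat.prime_two⟩
  obtain ⟨t, ht, hta, htb⟩ := hK2 a b b a hab hab.symm
  obtain ⟨S⟩ : Nonempty (Sylow 2 ↥(Ds K (∅ : Finset α) ({a, b} : Finset α))) := inferInstance
  have hcardD := card_Ds_pair hab t ht hta htb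
  -- valuation
  have hnot : ¬ Nat.card ↥(S : Subgroup ↥(Ds K (∅ : Finset α) ({a, b} : Finset α)))
      ∣ Nat.card ↥(Hs K ({a, b} : Finset α)) := by
    rw [S.card_eq_multiplicity, hcardD]
    intro hdvd
    have hHne : Nat.card ↥(Hs K ({a, b} : Finset α)) ≠ 0 := Nat.card_pos.ne'
    have h1 : (Nat.card ↥(Hs K ({a, b} : Finset α)) * 2).factorization 2
        = (Nat.card ↥(Hs K ({a, b} : Finset α))).factorization 2 + 1 := by
      rw [Nat.factorization_mul hHne (by norm_num)]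
      simp [Nat.prime_two.factorization_self]
    rw [h1] at hdvd
    have h3 := (Nat.prime_two.pow_dvd_iff_le_factorization hHne).1 hdvd
    omega
  -- a fixed point
  have hnd : ¬ 2 ∣ Nat.card ↥(complPair K hab) := by
    rw [card_complPair]
    obtain ⟨m, hm⟩ := hodd
    omega
  obtain ⟨⟨c1, hc1⟩, hfix⟩ := S.isPGroup'.nonempty_fixed_point_of_prime_not_dvd_card
    (complPair K hab) hnd
  have hc1a : c1 ≠ a := hc1.1
  have hc1b : c1 ≠ b := hc1.2
  have hSfix : ∀ s : ↥(Ds K (∅ : Finset α) ({a, b} : Finset α)),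
      s ∈ (S : Subgroup ↥(Ds K (∅ : Finset α) ({a, b} : Finset α))) →
        (s : Equiv.Perm α) c1 = c1 := by
    intro s hs
    have := hfix ⟨s, hs⟩
    exact congrArg Subtype.val this
  -- uniqueness of the fixed point
  have huniq : ∀ c2 : α, c2 ≠ a → c2 ≠ b →
      (∀ s : ↥(Ds K (∅ : Finset α) ({a, b} : Finset α)),
        s ∈ (S : Subgroup ↥(Ds K (∅ : Finset α) ({a, b} : Finset α))) →
          (s : Equiv.Perm α) c2 = c2) → c2 = c1 := by
    intro c2 _ _ hfix2
    by_contra hne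
    obtain ⟨k, hk, hka, hkb⟩ := hK2 a b c1 c2 hab (Ne.symm hne)
    have hQ : (((S : Subgroup ↥(Ds K (∅ : Finset α) ({a, b} : Finset α))).map
        (Ds K (∅ : Finset α) ({a, b} : Finset α)).subtype).map
          (MulAut.conj k⁻¹).toMonoidHom) ≤ Hs K ({a, b} : Finset α) := by
      rintro _ ⟨_, ⟨q, hq, rfl⟩, rfl⟩
      rw [mem_Hs_pair]
      have hqK : (q : Equiv.Perm α) ∈ K := ((mem_Ds_pair hab).1 q.2).1
      simp only [MulEquiv.coe_toMonoidHom, MulAut.conj_apply, Subgroup.coe_subtype, inv_inv,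
        Equiv.Perm.mul_apply]
      refine ⟨K.mul_mem (K.mul_mem (K.inv_mem hk) hqK) hk, ?_, ?_⟩
      · rw [hka, hSfix q hq, Equiv.Perm.inv_eq_iff_eq]; exact hka.symm
      · rw [hkb, hfix2 q hq, Equiv.Perm.inv_eq_iff_eq]; exact hkb.symm
    have hcardQ : Nat.card ↥(((S : Subgroup ↥(Ds K (∅ : Finset α) ({a, b} : Finset α))).map
        (Ds K (∅ : Finset α) ({a, b} : Finset α)).subtype).map
          (MulAut.conj k⁻¹).toMonoidHom)
        = Nat.card ↥(S : Subgroup ↥(Ds K (∅ : Finset α) ({a, b} : Finset α))) := by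
      rw [Subgroup.card_map_of_injective (MulEquiv.injective _),
        Subgroup.card_map_of_injective (Subgroup.subtype_injective _)]
    apply hnot
    rw [← hcardQ]
    exact Subgroup.card_dvd_of_le hQ
  -- transitivity of `D`
  have htrans : ∀ x : α, x ≠ a → x ≠ b →
      ∃ d : ↥(Ds K (∅ : Finset α) ({a, b} : Finset α)), (d : Equiv.Perm α) x = c1 := by
    intro x hxa hxb
    obtain ⟨g, hg, hga, hgb, hgc⟩ := hG a b c1 a b x hab (Ne.symm hc1a) (Ne.symm hc1b) hab
      (Ne.symm hxa) (Ne.symm hxb)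
    have hginva : g⁻¹ a = a := by rw [Equiv.Perm.inv_eq_iff_eq]; exact hga.symm
    have hginvb : g⁻¹ b = b := by rw [Equiv.Perm.inv_eq_iff_eq]; exact hgb.symm
    have hginvx : g⁻¹ x = c1 := by rw [Equiv.Perm.inv_eq_iff_eq]; exact hgc.symm
    -- the conjugate of `S` by `g`
    obtain ⟨S', hS'⟩ : ∃ S' : Subgroup (Equiv.Perm α),
        S' = ((S : Subgroup ↥(Ds K (∅ : Finset α) ({a, b} : Finset α))).map
          (Ds K (∅ : Finset α) ({a, b} : Finset α)).subtype).map
            (MulAut.conj g).toMonoidHom := ⟨_, rfl⟩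
    have hS'mem : ∀ z ∈ S', ∃ q : ↥(Ds K (∅ : Finset α) ({a, b} : Finset α)),
        q ∈ (S : Subgroup ↥(Ds K (∅ : Finset α) ({a, b} : Finset α))) ∧
          z = g * (q : Equiv.Perm α) * g⁻¹ := by
      intro z hz
      rw [hS'] at hz
      obtain ⟨_, ⟨q, hq, rfl⟩, rfl⟩ := hz
      exact ⟨q, hq, rfl⟩
    have hS'D : S' ≤ Ds K (∅ : Finset α) ({a, b} : Finset α) := by
      intro z hz
      obtain ⟨q, hq, rfl⟩ := hS'mem z hz
      have hqD := (mem_Ds_pair hab).1 q.2
      rw [mem_Ds_pair hab]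
      refine ⟨hKG.2 g hg _ hqD.1, ?_⟩
      simp only [Equiv.Perm.mul_apply, hginva, hginvb]
      rcases hqD.2 with ⟨h1, h2⟩ | ⟨h1, h2⟩
      · left; rw [h1, h2]; exact ⟨hga, hgb⟩
      · right; rw [h1, h2]; exact ⟨hgb, hga⟩
    have hS'fix : ∀ z ∈ S', z x = x := by
      intro z hz
      obtain ⟨q, hq, rfl⟩ := hS'mem z hz
      simp only [Equiv.Perm.mul_apply, hginvx, hSfix q hq, hgc]
    have hcardS' : Nat.card ↥(S'.subgroupOf (Ds K (∅ : Finset α) ({a, b} : Finset α)))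
        = 2 ^ (Nat.card ↥(Ds K (∅ : Finset α) ({a, b} : Finset α))).factorization 2 := by
      rw [Nat.card_congr (Subgroup.subgroupOfEquivOfLe hS'D).toEquiv, hS',
        Subgroup.card_map_of_injective (MulEquiv.injective _),
        Subgroup.card_map_of_injective (Subgroup.subtype_injective _), S.card_eq_multiplicity]
    obtain ⟨d, hd⟩ := MulAction.exists_smul_eq ↥(Ds K (∅ : Finset α) ({a, b} : Finset α))
      (Sylow.ofCard (S'.subgroupOf (Ds K (∅ : Finset α) ({a, b} : Finset α))) hcardS') S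
    refine ⟨d, ?_⟩
    apply huniq
    · exact ((complPair K hab).smul_mem d (show x ∈ complPair K hab from ⟨hxa, hxb⟩)).1
    · exact ((complPair K hab).smul_mem d (show x ∈ complPair K hab from ⟨hxa, hxb⟩)).2
    · intro s hs
      -- s = d s' d⁻¹ with s' ∈ S'
      have hs' : d⁻¹ * s * d ∈ S'.subgroupOf (Ds K (∅ : Finset α) ({a, b} : Finset α)) := by
        have h1 : s ∈ ((d • (Sylow.ofCard (S'.subgroupOf
            (Ds K (∅ : Finset α) ({a, b} : Finset α))) hcardS') :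
              Sylow 2 ↥(Ds K (∅ : Finset α) ({a, b} : Finset α))) :
                Subgroup ↥(Ds K (∅ : Finset α) ({a, b} : Finset α))) := by
          rw [hd]; exact hs
        rw [Sylow.coe_subgroup_smul, Subgroup.mem_pointwise_smul_iff_inv_smul_mem] at h1
        have h2 : (MulAut.conj d)⁻¹ • s = d⁻¹ * s * d := by
          rw [← map_inv, MulAut.smul_def, MulAut.conj_apply, inv_inv]
        rw [h2] at h1
        exact h1
      rw [Subgroup.mem_subgroupOf] at hs'
      have := hS'fix _ hs'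
      simp only [Subgroup.coe_mul, Subgroup.coe_inv, Equiv.Perm.mul_apply] at this
      rw [Equiv.Perm.inv_eq_iff_eq] at this
      exact this
  -- an element of `S` outside `H`
  obtain ⟨s, hs, hsH⟩ : ∃ s : ↥(Ds K (∅ : Finset α) ({a, b} : Finset α)),
      s ∈ (S : Subgroup ↥(Ds K (∅ : Finset α) ({a, b} : Finset α))) ∧
        (s : Equiv.Perm α) ∉ Hs K ({a, b} : Finset α) := by
    by_contra hcon
    push Not at hcon
    apply hnot
    have hle : ((S : Subgroup ↥(Ds K (∅ : Finset α) ({a, b} : Finset α))).map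
        (Ds K (∅ : Finset α) ({a, b} : Finset α)).subtype) ≤ Hs K ({a, b} : Finset α) := by
      rintro _ ⟨q, hq, rfl⟩
      exact hcon q hq
    have := Subgroup.card_dvd_of_le hle
    rwa [Subgroup.card_map_of_injective (Subgroup.subtype_injective _)] at this
  have hsD := (mem_Ds_pair hab).1 s.2
  have hs_swap : (s : Equiv.Perm α) a = b ∧ (s : Equiv.Perm α) b = a := by
    rcases hsD.2 with h | h
    · exact absurd (mem_Hs_pair.2 ⟨hsD.1, h⟩) hsH
    · exact h
  -- `H` is transitive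
  have hH : ∀ x : α, x ≠ a → x ≠ b → ∃ h ∈ K, h a = a ∧ h b = b ∧ h x = c1 := by
    intro x hxa hxb
    obtain ⟨d, hd⟩ := htrans x hxa hxb
    have hdD := (mem_Ds_pair hab).1 d.2
    rcases hdD.2 with ⟨h1, h2⟩ | ⟨h1, h2⟩
    · exact ⟨d, hdD.1, h1, h2, hd⟩
    · refine ⟨(s : Equiv.Perm α) * d, K.mul_mem hsD.1 hdD.1, ?_, ?_, ?_⟩
      · rw [Equiv.Perm.mul_apply, h1, hs_swap.2]
      · rw [Equiv.Perm.mul_apply, h2, hs_swap.1]
      · rw [Equiv.Perm.mul_apply, hd, hSfix s hs]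
  obtain ⟨h1, h1K, h1a, h1b, h1c⟩ := hH c hca hcb
  obtain ⟨h2, h2K, h2a, h2b, h2c⟩ := hH c' hca' hcb'
  refine ⟨h2⁻¹ * h1, K.mul_mem (K.inv_mem h2K) h1K, ?_, ?_, ?_⟩
  · rw [Equiv.Perm.mul_apply, h1a, Equiv.Perm.inv_eq_iff_eq]; exact h2a.symm
  · rw [Equiv.Perm.mul_apply, h1b, Equiv.Perm.inv_eq_iff_eq]; exact h2b.symm
  · rw [Equiv.Perm.mul_apply, h1c, Equiv.Perm.inv_eq_iff_eq]; exact h2c.symm

/-- Wagner's theorem, elementary form. -/
theorem t3_of_normal {K G : Subgroup (Equiv.Perm α)} (hG : T3 G) (hKG : NormalIn K G)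
    (hK : K ≠ ⊥) (hodd : Odd (Fintype.card α)) (h5 : 5 ≤ Fintype.card α) : T3 K := by
  have hK2 := t2_of_normal hG hKG hK hodd h5
  intro a b c a' b' c' hab hac hbc hab' hac' hbc'
  obtain ⟨k1, hk1, hk1a, hk1b⟩ := hK2 a b a' b' hab hab'
  have h1 : k1 c ≠ a' := by
    intro h; rw [← hk1a] at h; exact hac (k1.injective h).symm
  have h2 : k1 c ≠ b' := by
    intro h; rw [← hk1b] at h; exact hbc (k1.injective h).symm
  obtain ⟨h, hh, hha, hhb, hhc⟩ := pair_stab_trans hG hKG hK2 hodd h5 hab' (k1 c) c' h1 h2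
    (Ne.symm hac') (Ne.symm hbc')
  refine ⟨h * k1, K.mul_mem hh hk1, ?_, ?_, ?_⟩
  · rw [Equiv.Perm.mul_apply, hk1a, hha]
  · rw [Equiv.Perm.mul_apply, hk1b, hhb]
  · rw [Equiv.Perm.mul_apply, hhc]

/-- Wagner's theorem. -/
theorem main (G : Subgroup (Equiv.Perm α)) (hodd : Odd (Fintype.card α))
    (h5 : 5 ≤ Fintype.card α) (hG : MulAction.IsMultiplyPretransitive G α 3)
    (N : Subgroup G) [N.Normal] (hN : N ≠ ⊥) : MulAction.IsMultiplyPretransitive N α 3 := by
  have hG3 : T3 G := by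
    intro a b c a' b' c' hab hac hbc hab' hac' hbc'
    obtain ⟨g, h1, h2, h3⟩ := (three_iff.1 hG) a b c a' b' c' hab hac hbc hab' hac' hbc'
    exact ⟨g, g.2, h1, h2, h3⟩
  have hKG : NormalIn (N.map G.subtype) G := by
    refine ⟨?_, ?_⟩
    · rintro _ ⟨n, -, rfl⟩
      exact n.2
    · rintro g hg _ ⟨n, hn, rfl⟩
      refine ⟨⟨g, hg⟩ * n * ⟨g, hg⟩⁻¹, ?_, rfl⟩
      exact ‹N.Normal›.conj_mem n hn ⟨g, hg⟩
  have hK : N.map G.subtype ≠ ⊥ := by
    intro h
    apply hN
    rw [eq_bot_iff]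
    intro n hn
    have : (G.subtype n) ∈ N.map G.subtype := ⟨n, hn, rfl⟩
    rw [h, Subgroup.mem_bot] at this
    rw [Subgroup.mem_bot]
    exact Subtype.ext this
  have hK3 := t3_of_normal hG3 hKG hK hodd h5
  rw [three_iff]
  intro a b c a' b' c' hab hac hbc hab' hac' hbc'
  obtain ⟨_, ⟨n, hn, rfl⟩, h1, h2, h3⟩ := hK3 a b c a' b' c' hab hac hbc hab' hac' hbc'
  exact ⟨⟨n, hn⟩, h1, h2, h3⟩

end Cfsg.Agent.Lib.Helper4.Wagner
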