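import Mathlib

namespace Cfsg.Agent.Lib.Helper4.WittExt

universe u

section

variable {α : Type*} [Fintype α] [DecidableEq α]

/-- reverse normalization from one-sided normalization, by finiteness -/
theorem conj_inv_mem {K : Subgroup (Equiv.Perm α)} {s : Equiv.Perm α}
    (hsK : ∀ k ∈ K, s * k * s⁻¹ ∈ K) : ∀ k ∈ K, s⁻¹ * k * s ∈ K := by
  classical
  intro k hk
  -- the map K → K, x ↦ s x s⁻¹ is injective hence surjective
  let φ : ↥K → ↥K := fun x => ⟨s * (x : Equiv.Perm α) * s⁻¹, hsK x x.2⟩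
  have hinj : Function.Injective φ := by
    intro x y hxy
    have := congrArg Subtype.val hxy
    simp only [φ] at this
    apply Subtype.ext
    have h2 := congrArg (fun z => s⁻¹ * z * s) this
    simpa [mul_assoc] using h2
  have hsurj : Function.Surjective φ := Finite.surjective_of_injective hinj
  obtain ⟨x, hx⟩ := hsurj ⟨k, hk⟩
  have := congrArg Subtype.val hx
  simp only [φ] at this
  rw [← this]
  have : s⁻¹ * (s * (x : Equiv.Perm α) * s⁻¹) * s = x := by group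
  rw [this]
  exact x.2

/-- The abstract extension step. -/
theorem ext_step (L K : Subgroup (Equiv.Perm α)) (s r : Equiv.Perm α) (u v : α)
    (hKL : K ≤ L) (hr : r ∈ L) (hLv : ∀ l ∈ L, l v = v) (hsv : s v = u) (huv : u ≠ v)
    (hs2 : s * s ∈ L) (hsK : ∀ k ∈ K, s * k * s⁻¹ ∈ K) (hbraid : (r * s) ^ 3 ∈ L)
    (hdc : ∀ x ∈ L, x ∈ K ∨ ∃ k ∈ K, ∃ k' ∈ K, x = k * r * k') :
    (∀ y ∈ Subgroup.closure ((L : Set (Equiv.Perm α)) ∪ {s}),
        y ∈ L ∨ ∃ l ∈ L, ∃ l' ∈ L, y = l * s * l') ∧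
    (∀ y ∈ Subgroup.closure ((L : Set (Equiv.Perm α)) ∪ {s}), y v = v → y ∈ L) := by
  have hsK' := conj_inv_mem hsK
  have hsinv : ∃ l ∈ L, s⁻¹ = l * s := by
    refine ⟨(s * s)⁻¹, L.inv_mem hs2, ?_⟩
    group
  -- s r s ∈ L s L
  have hsrs : ∃ l ∈ L, ∃ l' ∈ L, s * r * s = l * s * l' := by
    obtain ⟨l0, hl0, hl0s⟩ := hsinv
    refine ⟨r⁻¹ * l0, L.mul_mem (L.inv_mem hr) hl0, r⁻¹ * (r * s) ^ 3,
      L.mul_mem (L.inv_mem hr) hbraid, ?_⟩
    have h1 : s * r * s = r⁻¹ * s⁻¹ * r⁻¹ * (r * s) ^ 3 := by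
      rw [pow_succ, pow_two]
      group
    rw [h1, hl0s]
    group
  -- s x s ∈ Y for x ∈ L
  have hsxs : ∀ x ∈ L, s * x * s ∈ L ∨ ∃ l ∈ L, ∃ l' ∈ L, s * x * s = l * s * l' := by
    intro x hx
    rcases hdc x hx with hxK | ⟨k, hk, k', hk', rfl⟩
    · left
      have : s * x * s = (s * x * s⁻¹) * (s * s) := by group
      rw [this]
      exact L.mul_mem (hKL (hsK x hxK)) hs2
    · right
      obtain ⟨l, hl, l', hl', h⟩ := hsrs
      refine ⟨(s * k * s⁻¹) * l, L.mul_mem (hKL (hsK k hk)) hl, l' * (s⁻¹ * k' * s),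
        L.mul_mem hl' (hKL (hsK' k' hk')), ?_⟩
      have : s * (k * r * k') * s = (s * k * s⁻¹) * (s * r * s) * (s⁻¹ * k' * s) := by group
      rw [this, h]
      group
  have key : ∀ y ∈ Subgroup.closure ((L : Set (Equiv.Perm α)) ∪ {s}),
      y ∈ L ∨ ∃ l ∈ L, ∃ l' ∈ L, y = l * s * l' := by
    intro y hy
    induction hy using Subgroup.closure_induction with
    | mem x hx =>
      rcases hx with hx | hx
      · exact Or.inl hx
      · right
        rw [Set.mem_singleton_iff] at hx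
        exact ⟨1, L.one_mem, 1, L.one_mem, by rw [hx]; group⟩
    | one => exact Or.inl L.one_mem
    | mul x y _ _ ihx ihy =>
      rcases ihx with hx | ⟨l1, hl1, l1', hl1', rfl⟩
      · rcases ihy with hy | ⟨l2, hl2, l2', hl2', rfl⟩
        · exact Or.inl (L.mul_mem hx hy)
        · right
          exact ⟨x * l2, L.mul_mem hx hl2, l2', hl2', by group⟩
      · rcases ihy with hy | ⟨l2, hl2, l2', hl2', rfl⟩
        · right
          exact ⟨l1, hl1, l1' * y, L.mul_mem hl1' hy, by group⟩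
        · rcases hsxs (l1' * l2) (L.mul_mem hl1' hl2) with h | ⟨l, hl, l', hl', h⟩
          · left
            have : l1 * s * l1' * (l2 * s * l2') = l1 * (s * (l1' * l2) * s) * l2' := by group
            rw [this]
            exact L.mul_mem (L.mul_mem hl1 h) hl2'
          · right
            refine ⟨l1 * l, L.mul_mem hl1 hl, l' * l2', L.mul_mem hl' hl2', ?_⟩
            have : l1 * s * l1' * (l2 * s * l2') = l1 * (s * (l1' * l2) * s) * l2' := by group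
            rw [this, h]
            group
    | inv x _ ih =>
      rcases ih with hx | ⟨l, hl, l', hl', rfl⟩
      · exact Or.inl (L.inv_mem hx)
      · right
        obtain ⟨l0, hl0, hl0s⟩ := hsinv
        refine ⟨l'⁻¹ * l0, L.mul_mem (L.inv_mem hl') hl0, l⁻¹, L.inv_mem hl, ?_⟩
        have : (l * s * l')⁻¹ = l'⁻¹ * s⁻¹ * l⁻¹ := by group
        rw [this, hl0s]
        group
  refine ⟨key, ?_⟩
  intro y hy hyv
  rcases key y hy with h | ⟨l, hl, l', hl', rfl⟩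
  · exact h
  · exfalso
    simp only [Equiv.Perm.mul_apply] at hyv
    rw [hLv l' hl', hsv] at hyv
    -- l u = v, so u = l⁻¹ v = v
    have : u = v := by
      have h1 : l⁻¹ (l u) = l⁻¹ v := by rw [hyv]
      have h2 : l⁻¹ v = v := hLv _ (L.inv_mem hl)
      simpa [h2] using h1
    exact huv this


end

/-- The data of Witt's lemma. -/
structure WData (α : Type u) [Fintype α] [DecidableEq α] : Type u where
  t : ℕ
  ht : 2 ≤ t
  q : ℕ → α
  hq : ∀ i j : ℕ, 1 ≤ i → i ≤ t → 1 ≤ j → j ≤ t → q i = q j → i = j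
  G : Subgroup (Equiv.Perm α)
  hfix : ∀ g ∈ G, ∀ i : ℕ, 3 ≤ i → i ≤ t → g (q i) = q i
  h2 : ∀ a b c d : α, (∀ i, 3 ≤ i → i ≤ t → a ≠ q i ∧ b ≠ q i ∧ c ≠ q i ∧ d ≠ q i) → a ≠ b → c ≠ d → ∃ g ∈ G, g a = c ∧ g b = d
  s : ℕ → Equiv.Perm α
  hs1 : s 1 ∈ G
  hs1q : s 1 (q 1) = q 2 ∧ s 1 (q 2) = q 1
  hsq : ∀ i : ℕ, 2 ≤ i → i + 1 ≤ t → s i (q i) = q (i + 1) ∧ s i (q (i + 1)) = q i ∧ ∀ j : ℕ, 1 ≤ j → j ≤ t → j ≠ i → j ≠ i + 1 → s i (q j) = q j
  H : Subgroup (Equiv.Perm α)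
  hH : H = G ⊓ MulAction.stabilizer (Equiv.Perm α) (q 1) ⊓ MulAction.stabilizer (Equiv.Perm α) (q 2)
  hsq2 : ∀ i : ℕ, 1 ≤ i → i + 1 ≤ t → s i ^ 2 ∈ H
  hbraid : ∀ i : ℕ, 1 ≤ i → i + 2 ≤ t → (s i * s (i + 1)) ^ 3 ∈ H
  hcomm : ∀ i j : ℕ, 1 ≤ i → i + 2 ≤ j → j + 1 ≤ t → (s i * s j) ^ 2 ∈ H ∧ (s j * s i) ^ 2 ∈ H
  hnorm : ∀ i : ℕ, 2 ≤ i → i + 1 ≤ t → ∀ g ∈ G ⊓ MulAction.stabilizer (Equiv.Perm α) (q 2), s i * g * (s i)⁻¹ ∈ G ⊓ MulAction.stabilizer (Equiv.Perm α) (q 2)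

variable {α : Type u} [Fintype α] [DecidableEq α] (D : WData α)

namespace WData

/-- The group generated by `G` and `s 2, …, s (m-1)`. -/
def X (m : ℕ) : Subgroup (Equiv.Perm α) :=
  Subgroup.closure ((D.G : Set (Equiv.Perm α)) ∪ {x | ∃ i : ℕ, 2 ≤ i ∧ i + 1 ≤ m ∧ x = D.s i})

/-- The points not among `q (m+1), …, q t`. -/
def Om (m : ℕ) (a : α) : Prop := ∀ j, m < j → j ≤ D.t → a ≠ D.q j

theorem G_le_X (m : ℕ) : D.G ≤ D.X m := by
  intro g hg
  exact Subgroup.subset_closure (Or.inl hg)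

theorem H_le_G : D.H ≤ D.G := by
  rw [D.hH]
  intro x hx
  exact hx.1.1

theorem s_mem_X (m i : ℕ) (h2 : 2 ≤ i) (him : i + 1 ≤ m) : D.s i ∈ D.X m :=
  Subgroup.subset_closure (Or.inr ⟨i, h2, him, rfl⟩)

theorem X_mono {m n : ℕ} (h : m ≤ n) : D.X m ≤ D.X n := by
  unfold X
  apply Subgroup.closure_mono
  apply Set.union_subset_union_right
  rintro x ⟨i, h2, hi, rfl⟩
  exact ⟨i, h2, by omega, rfl⟩

theorem X_two : D.X 2 = D.G := by
  apply le_antisymm
  · unfold X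
    rw [Subgroup.closure_le]
    rintro x (hx | ⟨i, h2, hi, rfl⟩)
    · exact hx
    · omega
  · exact D.G_le_X 2

theorem X_succ (m : ℕ) (hm : 2 ≤ m) :
    D.X (m + 1) = Subgroup.closure (((D.X m : Subgroup (Equiv.Perm α)) : Set (Equiv.Perm α)) ∪ {D.s m}) := by
  apply le_antisymm
  · unfold X
    rw [Subgroup.closure_le]
    rintro x (hx | ⟨i, h2, hi, rfl⟩)
    · exact Subgroup.subset_closure (Or.inl (Subgroup.subset_closure (Or.inl hx)))
    · by_cases him : i = m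
      · subst him
        exact Subgroup.subset_closure (Or.inr rfl)
      · exact Subgroup.subset_closure (Or.inl (Subgroup.subset_closure
          (Or.inr ⟨i, h2, by omega, rfl⟩)))
  · rw [Subgroup.closure_le]
    rintro x (hx | hx)
    · exact D.X_mono (Nat.le_succ m) hx
    · rw [Set.mem_singleton_iff] at hx
      rw [hx]
      exact D.s_mem_X (m+1) m hm le_rfl

/-- (A) `X m` fixes `q j` for `m < j ≤ t`, `2 ≤ m`. -/
theorem X_fix (m : ℕ) (hm : 2 ≤ m) (hmt : m ≤ D.t) :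
    ∀ x ∈ D.X m, ∀ j, m < j → j ≤ D.t → x (D.q j) = D.q j := by
  intro x hx
  unfold X at hx
  induction hx using Subgroup.closure_induction with
  | mem x hx =>
    rcases hx with hx | ⟨i, h2, hi, rfl⟩
    · intro j hj hjt
      exact D.hfix x hx j (by omega) hjt
    · intro j hj hjt
      exact (D.hsq i h2 (by omega)).2.2 j (by omega) hjt (by omega) (by omega)
  | one => intro j _ _; rfl
  | mul x y _ _ ihx ihy =>
    intro j hj hjt
    rw [Equiv.Perm.mul_apply, ihy j hj hjt, ihx j hj hjt]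
  | inv x _ ih =>
    intro j hj hjt
    have := ih j hj hjt
    rw [Equiv.Perm.inv_eq_iff_eq]
    exact this.symm

theorem q_ne {i j : ℕ} (hi1 : 1 ≤ i) (hit : i ≤ D.t) (hj1 : 1 ≤ j) (hjt : j ≤ D.t) (hij : i ≠ j) :
    D.q i ≠ D.q j := fun h => hij (D.hq i j hi1 hit hj1 hjt h)

theorem q_Om (m i : ℕ) (hi1 : 1 ≤ i) (him : i ≤ m) (hmt : m ≤ D.t) : D.Om m (D.q i) := by
  intro j hj hjt
  exact D.q_ne hi1 (by omega) (by omega) hjt (by omega)

/-- (DC₂) double coset decomposition of `G` with respect to `G_{q 2}`. -/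
theorem dc_two : ∀ x ∈ D.G, x (D.q 2) = D.q 2 ∨
    ∃ k ∈ D.G, ∃ k' ∈ D.G, k (D.q 2) = D.q 2 ∧ k' (D.q 2) = D.q 2 ∧ x = k * D.s 1 * k' := by
  intro x hx
  by_cases hx2 : x (D.q 2) = D.q 2
  · exact Or.inl hx2
  right
  have ht := D.ht
  -- c := x (q 2)
  have hc : D.Om 2 (x (D.q 2)) := by
    intro j hj hjt h
    have h1 : x (D.q 2) = x (D.q j) := by rw [D.hfix x hx j (by omega) hjt]; exact h
    exact D.q_ne (by omega) (by omega) (by omega) hjt (by omega) (x.injective h1)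
  obtain ⟨k, hk, hk2, hk1⟩ := D.h2 (D.q 2) (D.q 1) (D.q 2) (x (D.q 2)) (by
      intro i hi hit
      refine ⟨?_, ?_, ?_, ?_⟩
      · exact D.q_ne (by omega) (by omega) (by omega) hit (by omega)
      · exact D.q_ne (by omega) (by omega) (by omega) hit (by omega)
      · exact D.q_ne (by omega) (by omega) (by omega) hit (by omega)
      · exact hc i (by omega) hit)
    (D.q_ne (by omega) (by omega) (by omega) (by omega) (by omega)) (fun h => hx2 h.symm)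
  refine ⟨k, hk, (D.s 1)⁻¹ * k⁻¹ * x, D.G.mul_mem (D.G.mul_mem (D.G.inv_mem D.hs1) (D.G.inv_mem hk)) hx,
    hk2, ?_, by group⟩
  simp only [Equiv.Perm.mul_apply]
  rw [Equiv.Perm.inv_eq_iff_eq, D.hs1q.2, Equiv.Perm.inv_eq_iff_eq, hk1]

/-- (N) `s i` normalizes `G` for `i ≥ 3`. -/
theorem s_norm_G (i : ℕ) (hi : 3 ≤ i) (hit : i + 1 ≤ D.t) :
    ∀ g ∈ D.G, D.s i * g * (D.s i)⁻¹ ∈ D.G := by
  have hst : ∀ g ∈ D.G, g (D.q 2) = D.q 2 → D.s i * g * (D.s i)⁻¹ ∈ D.G := by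
    intro g hg hg2
    exact (D.hnorm i (by omega) hit g ⟨hg, hg2⟩).1
  have hs1 : D.s i * D.s 1 * (D.s i)⁻¹ ∈ D.G := by
    have h1 : D.s i * D.s 1 * (D.s i)⁻¹ = (D.s i * D.s 1) ^ 2 * (D.s 1)⁻¹ * (D.s i ^ 2)⁻¹ := by
      rw [pow_two, pow_two]; group
    rw [h1]
    refine D.G.mul_mem (D.G.mul_mem ?_ (D.G.inv_mem D.hs1)) (D.G.inv_mem ?_)
    · exact D.H_le_G (D.hcomm 1 i le_rfl (by omega) hit).2
    · exact D.H_le_G (D.hsq2 i (by omega) hit)
  intro g hg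
  rcases D.dc_two g hg with h | ⟨k, hk, k', hk', hk2, hk2', rfl⟩
  · exact hst g hg h
  · have : D.s i * (k * D.s 1 * k') * (D.s i)⁻¹ =
        (D.s i * k * (D.s i)⁻¹) * (D.s i * D.s 1 * (D.s i)⁻¹) * (D.s i * k' * (D.s i)⁻¹) := by group
    rw [this]
    exact D.G.mul_mem (D.G.mul_mem (hst k hk hk2) hs1) (hst k' hk' hk2')

/-- (NX) `s i` normalizes `X m` for `i ≥ 3`, `m ≤ i - 1`... precisely `m + 1 ≤ i`. -/
theorem s_norm_X (m i : ℕ) (hi : 3 ≤ i) (hmi : m + 1 ≤ i) (hit : i + 1 ≤ D.t) :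
    ∀ x ∈ D.X m, D.s i * x * (D.s i)⁻¹ ∈ D.X m := by
  intro x hx
  unfold X at hx
  induction hx using Subgroup.closure_induction with
  | mem x hx =>
    rcases hx with hx | ⟨j, h2, hj, rfl⟩
    · exact D.G_le_X m (D.s_norm_G i hi hit x hx)
    · have h1 : D.s i * D.s j * (D.s i)⁻¹ = (D.s i * D.s j) ^ 2 * (D.s j)⁻¹ * (D.s i ^ 2)⁻¹ := by
        rw [pow_two, pow_two]; group
      rw [h1]
      refine (D.X m).mul_mem ((D.X m).mul_mem ?_ ((D.X m).inv_mem (D.s_mem_X m j h2 hj)))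
        ((D.X m).inv_mem ?_)
      · exact D.G_le_X m (D.H_le_G (D.hcomm j i (by omega) (by omega) hit).2)
      · exact D.G_le_X m (D.H_le_G (D.hsq2 i (by omega) hit))
  | one =>
    have : D.s i * 1 * (D.s i)⁻¹ = 1 := by group
    rw [this]; exact (D.X m).one_mem
  | mul x y _ _ ihx ihy =>
    have : D.s i * (x * y) * (D.s i)⁻¹ = (D.s i * x * (D.s i)⁻¹) * (D.s i * y * (D.s i)⁻¹) := by
      group
    rw [this]; exact (D.X m).mul_mem ihx ihy
  | inv x _ ih =>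
    have : D.s i * x⁻¹ * (D.s i)⁻¹ = (D.s i * x * (D.s i)⁻¹)⁻¹ := by group
    rw [this]; exact (D.X m).inv_mem ih

/-- Induction hypothesis at level `m`. -/
def IH (m : ℕ) : Prop :=
  (∀ x ∈ D.X m, x (D.q m) = D.q m ∨ ∃ k ∈ D.X m, ∃ k' ∈ D.X m,
      k (D.q m) = D.q m ∧ k' (D.q m) = D.q m ∧ x = k * D.s (m - 1) * k') ∧
  (∀ a b, D.Om m a → D.Om m b → ∃ x ∈ D.X m, x a = b) ∧
  (∀ x ∈ D.X m, (∀ i, 1 ≤ i → i ≤ m → x (D.q i) = D.q i) → x ∈ D.H) ∧
  (∀ f g : Fin m → α, Function.Injective f → Function.Injective g →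
      (∀ i, D.Om m (f i)) → (∀ i, D.Om m (g i)) → ∃ x ∈ D.X m, ∀ i, x (f i) = g i) ∧
  (m + 1 ≤ D.t → ∀ k ∈ D.X m, k (D.q m) = D.q m → D.s m * k * (D.s m)⁻¹ ∈ D.X m)

theorem IH_two : D.IH 2 := by
  have ht := D.ht
  refine ⟨?_, ?_, ?_, ?_, ?_⟩
  · intro x hx
    rw [D.X_two] at hx
    rcases D.dc_two x hx with h | ⟨k, hk, k', hk', h1, h2, h3⟩
    · exact Or.inl h
    · right
      refine ⟨k, ?_, k', ?_, h1, h2, h3⟩
      · rw [D.X_two]; exact hk
      · rw [D.X_two]; exact hk'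
  · intro a b ha hb
    by_cases hab : a = b
    · exact ⟨1, (D.X 2).one_mem, by simpa using hab⟩
    · obtain ⟨g, hg, h1, _⟩ := D.h2 a b b a (by
        intro i hi hit
        exact ⟨ha i (by omega) hit, hb i (by omega) hit, hb i (by omega) hit, ha i (by omega) hit⟩)
        hab (fun h => hab h.symm)
      exact ⟨g, D.G_le_X 2 hg, h1⟩
  · intro x hx hfix
    rw [D.X_two] at hx
    rw [D.hH]
    exact ⟨⟨hx, hfix 1 le_rfl (by omega)⟩, hfix 2 (by omega) le_rfl⟩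
  · intro f g hf hg hfO hgO
    obtain ⟨x, hx, h0, h1⟩ := D.h2 (f 0) (f 1) (g 0) (g 1) (by
        intro i hi hit
        exact ⟨hfO 0 i (by omega) hit, hfO 1 i (by omega) hit, hgO 0 i (by omega) hit,
          hgO 1 i (by omega) hit⟩)
        (fun h => by have := hf h; simp at this) (fun h => by have := hg h; simp at this)
    refine ⟨x, D.G_le_X 2 hx, ?_⟩
    rw [Fin.forall_fin_two]
    exact ⟨h0, h1⟩
  · intro h3 k hk hk2
    rw [D.X_two] at hk ⊢
    exact (D.hnorm 2 le_rfl h3 k ⟨hk, hk2⟩).1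

theorem Om_pres (m : ℕ) (hm : 2 ≤ m) (hmt : m ≤ D.t) :
    ∀ y ∈ D.X m, ∀ a, D.Om m a → D.Om m (y a) := by
  intro y hy a ha j hj hjt h
  have h1 : y a = y (D.q j) := by rw [D.X_fix m hm hmt y hy j hj hjt]; exact h
  exact ha j hj hjt (y.injective h1)

theorem IH_succ (m : ℕ) (hm : 2 ≤ m) (hmt : m + 1 ≤ D.t) (ih : D.IH m) : D.IH (m + 1) := by
  obtain ⟨hDC, hB, hC, hP, hN⟩ := ih
  have hA := D.X_fix m hm (by omega)
  have hA' := D.X_fix (m+1) (by omega) hmt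
  have hsm := D.hsq m hm hmt
  have hr : D.s (m - 1) ∈ D.X m := by
    by_cases h : m = 2
    · subst h; exact D.G_le_X 2 D.hs1
    · exact D.s_mem_X m (m-1) (by omega) (by omega)
  obtain ⟨out1, out2⟩ := ext_step (D.X m)
    (D.X m ⊓ MulAction.stabilizer (Equiv.Perm α) (D.q m)) (D.s m) (D.s (m-1)) (D.q m) (D.q (m+1))
    inf_le_left hr (fun l hl => hA l hl (m+1) (by omega) hmt) hsm.2.1
    (D.q_ne (by omega) (by omega) (by omega) hmt (by omega))
    (by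
      have := D.G_le_X m (D.H_le_G (D.hsq2 m (by omega) hmt))
      rwa [pow_two] at this)
    (by
      intro k hk
      refine ⟨hN hmt k hk.1 hk.2, ?_⟩
      have hk2 : k (D.q m) = D.q m := hk.2
      show (D.s m * k * (D.s m)⁻¹) (D.q m) = D.q m
      simp only [Equiv.Perm.mul_apply]
      have h1 : (D.s m)⁻¹ (D.q m) = D.q (m+1) := by
        rw [Equiv.Perm.inv_eq_iff_eq]; exact hsm.2.1.symm
      rw [h1, hA k hk.1 (m+1) (by omega) hmt, hsm.2.1])
    (by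
      have h : D.s (m - 1) * D.s m = D.s (m - 1) * D.s (m - 1 + 1) := by
        rw [Nat.sub_add_cancel (by omega)]
      rw [h]
      exact D.G_le_X m (D.H_le_G (D.hbraid (m-1) (by omega) (by omega))))
    (by
      intro x hx
      rcases hDC x hx with h | ⟨k, hk, k', hk', h1, h2, h3⟩
      · exact Or.inl ⟨hx, h⟩
      · exact Or.inr ⟨k, ⟨hk, h1⟩, k', ⟨hk', h2⟩, h3⟩)
  rw [← D.X_succ m hm] at out1 out2
  have hle : D.X m ≤ D.X (m+1) := D.X_mono (Nat.le_succ m)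
  have hsmem : D.s m ∈ D.X (m+1) := D.s_mem_X (m+1) m hm le_rfl
  -- moving any point of Ω_{m+1} to q (m+1)
  have toq : ∀ a, D.Om (m+1) a → ∃ x ∈ D.X (m+1), x a = D.q (m+1) := by
    intro a ha
    by_cases haq : a = D.q (m+1)
    · exact ⟨1, (D.X (m+1)).one_mem, by simpa using haq⟩
    · have ha' : D.Om m a := by
        intro j hj hjt
        by_cases hj' : j = m + 1
        · subst hj'; exact haq
        · exact ha j (by omega) hjt
      obtain ⟨x, hx, hxa⟩ := hB a (D.q m) ha' (D.q_Om m m (by omega) le_rfl (by omega))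
      refine ⟨D.s m * x, (D.X (m+1)).mul_mem hsmem (hle hx), ?_⟩
      rw [Equiv.Perm.mul_apply, hxa, hsm.1]
  refine ⟨?_, ?_, ?_, ?_, ?_⟩
  · intro x hx
    rw [Nat.add_sub_cancel]
    rcases out1 x hx with h | ⟨l, hl, l', hl', h⟩
    · exact Or.inl (hA x h (m+1) (by omega) hmt)
    · exact Or.inr ⟨l, hle hl, l', hle hl', hA l hl (m+1) (by omega) hmt,
        hA l' hl' (m+1) (by omega) hmt, h⟩
  · intro a b ha hb
    obtain ⟨x, hx, hxa⟩ := toq a ha
    obtain ⟨y, hy, hyb⟩ := toq b hb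
    refine ⟨y⁻¹ * x, (D.X (m+1)).mul_mem ((D.X (m+1)).inv_mem hy) hx, ?_⟩
    rw [Equiv.Perm.mul_apply, hxa, Equiv.Perm.inv_eq_iff_eq, hyb]
  · intro x hx hfix
    exact hC x (out2 x hx (hfix (m+1) (by omega) le_rfl)) (fun i hi him => hfix i hi (by omega))
  · intro f g hf hg hfO hgO
    obtain ⟨y, hy, hyf⟩ := toq (f (Fin.last m)) (hfO _)
    obtain ⟨z, hz, hzg⟩ := toq (g (Fin.last m)) (hgO _)
    have key : ∀ (f : Fin (m+1) → α) (y : Equiv.Perm α), Function.Injective f →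
        (∀ i, D.Om (m+1) (f i)) → y ∈ D.X (m+1) → y (f (Fin.last m)) = D.q (m+1) →
        Function.Injective (fun i : Fin m => y (f i.castSucc)) ∧
        ∀ i : Fin m, D.Om m (y (f i.castSucc)) := by
      intro f y hf hfO hy hyf
      refine ⟨?_, ?_⟩
      · intro i j hij
        exact Fin.castSucc_injective _ (hf (y.injective hij))
      · intro i j hj hjt
        by_cases hj' : j = m + 1
        · subst hj'
          intro h
          rw [← hyf] at h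
          have := hf (y.injective h)
          exact (Fin.castSucc_lt_last i).ne this
        · exact D.Om_pres (m+1) (by omega) hmt y hy _ (hfO _) j (by omega) hjt
    obtain ⟨hf1, hf2⟩ := key f y hf hfO hy hyf
    obtain ⟨hg1, hg2⟩ := key g z hg hgO hz hzg
    obtain ⟨x, hx, hxfg⟩ := hP _ _ hf1 hg1 hf2 hg2
    refine ⟨z⁻¹ * x * y, (D.X (m+1)).mul_mem ((D.X (m+1)).mul_mem ((D.X (m+1)).inv_mem hz) (hle hx)) hy, ?_⟩
    refine Fin.lastCases ?_ ?_
    · simp only [Equiv.Perm.mul_apply]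
      rw [hyf, hA x hx (m+1) (by omega) hmt, Equiv.Perm.inv_eq_iff_eq, hzg]
    · intro i
      simp only [Equiv.Perm.mul_apply]
      rw [Equiv.Perm.inv_eq_iff_eq]
      exact hxfg i
  · intro h3 k hk hkq
    exact hle (D.s_norm_X m (m+1) (by omega) le_rfl h3 k (out2 k hk hkq))

theorem IH_all (m : ℕ) (hm : 2 ≤ m) (hmt : m ≤ D.t) : D.IH m := by
  induction m, hm using Nat.le_induction with
  | base => exact D.IH_two
  | succ n hn ih => exact D.IH_succ n hn hmt (ih (by omega))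

theorem main : MulAction.IsMultiplyPretransitive ↥(Subgroup.closure ((D.G : Set (Equiv.Perm α)) ∪
      {x | ∃ i : ℕ, 2 ≤ i ∧ i + 1 ≤ D.t ∧ x = D.s i})) α D.t ∧
    Subgroup.closure ((D.G : Set (Equiv.Perm α)) ∪ {x | ∃ i : ℕ, 2 ≤ i ∧ i + 1 ≤ D.t ∧ x = D.s i}) ⊓
      fixingSubgroup (Equiv.Perm α) {x | ∃ i : ℕ, 1 ≤ i ∧ i ≤ D.t ∧ x = D.q i} = D.H := by
  obtain ⟨-, -, hC, hP, -⟩ := D.IH_all D.t D.ht le_rfl
  change MulAction.IsMultiplyPretransitive ↥(D.X D.t) α D.t ∧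
    D.X D.t ⊓ fixingSubgroup (Equiv.Perm α) {x | ∃ i : ℕ, 1 ≤ i ∧ i ≤ D.t ∧ x = D.q i} = D.H
  refine ⟨?_, ?_⟩
  · refine ⟨fun x y => ?_⟩
    obtain ⟨g, hg, hgxy⟩ := hP x y x.injective y.injective
      (fun i j hj hjt => by omega) (fun i j hj hjt => by omega)
    refine ⟨⟨g, hg⟩, ?_⟩
    ext i
    exact hgxy i
  · apply le_antisymm
    · rintro x ⟨hx, hxf⟩
      have hxf' : x ∈ fixingSubgroup (Equiv.Perm α) {x | ∃ i : ℕ, 1 ≤ i ∧ i ≤ D.t ∧ x = D.q i} := hxf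
      rw [mem_fixingSubgroup_iff] at hxf'
      exact hC x hx (fun i hi hit => hxf' (D.q i) ⟨i, hi, hit, rfl⟩)
    · intro x hx
      refine ⟨D.G_le_X _ (D.H_le_G hx), ?_⟩
      show x ∈ fixingSubgroup (Equiv.Perm α) {x | ∃ i : ℕ, 1 ≤ i ∧ i ≤ D.t ∧ x = D.q i}
      rw [mem_fixingSubgroup_iff]
      rintro y ⟨i, hi, hit, rfl⟩
      have hx' := hx
      rw [D.hH] at hx'
      by_cases h1 : i = 1
      · subst h1; exact hx'.1.2
      · by_cases h2 : i = 2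
        · subst h2; exact hx'.2
        · exact D.hfix x (D.H_le_G hx) i (by omega) hit

end WData

end Cfsg.Agent.Lib.Helper4.WittExt
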