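import Mathlib
set_option autoImplicit false

/-!
# Generic lemmas for the `Y₅₅₅` spider computation (S5588)

* substitution of words and homomorphisms between presented groups,
* rotation and reversal of the spider word in an arbitrary group.
-/

namespace Cfsg.Agent.Lib.Helper4.Y5

section Subst
variable {α β : Type}

/-- substitute a word for every letter -/
def substW (gw : α → List (β × Bool)) (L : List (α × Bool)) : List (β × Bool) :=
  L.flatMap fun x => cond x.2 (gw x.1) (FreeGroup.invRev (gw x.1))

theorem substW_nil (gw : α → List (β × Bool)) : substW gw [] = [] := rfl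

theorem substW_cons (gw : α → List (β × Bool)) (x : α × Bool) (L : List (α × Bool)) :
    substW gw (x :: L) = cond x.2 (gw x.1) (FreeGroup.invRev (gw x.1)) ++ substW gw L := by
  simp [substW]

/-- the value of a homomorphism given by words on a word -/
theorem lift_mk_subst {G : Type*} [Group G] (q : FreeGroup β →* G) (gw : α → List (β × Bool))
    (L : List (α × Bool)) :
    FreeGroup.lift (fun x => q (FreeGroup.mk (gw x))) (FreeGroup.mk L) = q (FreeGroup.mk (substW gw L)) := by
  induction L with
  | nil => simp [substW, ← FreeGroup.one_eq_mk]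
  | cons x L ih =>
    have e : (FreeGroup.mk (x :: L) : FreeGroup α) = FreeGroup.mk [x] * FreeGroup.mk L := by
      rw [FreeGroup.mul_mk]; rfl
    rw [e, map_mul, ih, substW_cons, ← FreeGroup.mul_mk, map_mul]
    congr 1
    rcases x with ⟨x, b⟩
    cases b with
    | true =>
      show FreeGroup.lift _ (FreeGroup.of x) = _
      rw [FreeGroup.lift_apply_of]; rfl
    | false =>
      have : (FreeGroup.mk [(x, false)] : FreeGroup α) = (FreeGroup.of x)⁻¹ := by
        rw [FreeGroup.of, FreeGroup.inv_mk]; rfl
      rw [this, map_inv, FreeGroup.lift_apply_of]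
      show (q (FreeGroup.mk (gw x)))⁻¹ = q (FreeGroup.mk (FreeGroup.invRev (gw x)))
      rw [← map_inv, FreeGroup.inv_mk]

/-- a homomorphism of presented groups from a substitution of words that kills the relators -/
theorem exists_hom_of_subst (rels : Set (FreeGroup α)) (relWords : List (List (α × Bool)))
    (hrels : ∀ r, r ∈ rels → ∃ L ∈ relWords, r = FreeGroup.mk L)
    {G : Type*} [Group G] (q : FreeGroup β →* G) (gw : α → List (β × Bool))
    (h : ∀ L ∈ relWords, q (FreeGroup.mk (substW gw L)) = 1) :
    ∃ ρ : PresentedGroup rels →* G,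
      ∀ L, ρ (PresentedGroup.mk rels (FreeGroup.mk L)) = q (FreeGroup.mk (substW gw L)) := by
  have hr : ∀ r ∈ rels, FreeGroup.lift (fun x => q (FreeGroup.mk (gw x))) r = 1 := by
    intro r hr
    obtain ⟨L, hL, rfl⟩ := hrels r hr
    rw [lift_mk_subst]
    exact h L hL
  refine ⟨PresentedGroup.toGroup hr, fun L => ?_⟩
  rw [← lift_mk_subst]
  rfl

end Subst

section Spider
variable {Γ : Type*} [Group Γ]

/-- rotation of a power that is trivial -/
theorem pow_rot {x y : Γ} {n : ℕ} (h : (x * y) ^ n = 1) : (y * x) ^ n = 1 := by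
  have e : y * x = x⁻¹ * (x * y) * (x⁻¹)⁻¹ := by group
  rw [e, conj_pow, h]
  group

/-- an involution is its own inverse -/
theorem inv_eq_self_of_sq {x : Γ} (h : x * x = 1) : x⁻¹ = x := inv_eq_of_mul_eq_one_right h

/-- rotation of the spider word -/
theorem spider_rot {a b c b' c' b'' c'' : Γ} {n : ℕ}
    (h : (a * b * c * a * b' * c' * a * b'' * c'') ^ n = 1) :
    (a * b' * c' * a * b'' * c'' * a * b * c) ^ n = 1 := by
  have e1 : a * b * c * a * b' * c' * a * b'' * c'' = (a * b * c) * (a * b' * c' * a * b'' * c'') := by group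
  have e2 : a * b' * c' * a * b'' * c'' * a * b * c = (a * b' * c' * a * b'' * c'') * (a * b * c) := by group
  rw [e1] at h
  rw [e2]
  exact pow_rot h

/-- the spider relation with two arms interchanged (conjugate the inverse by `a` and by the
product of the outer nodes) -/
theorem spider_swap {a b c b' c' b'' c'' : Γ} {n : ℕ}
    (ha : a * a = 1) (hb : b * b = 1) (hc : c * c = 1) (hb' : b' * b' = 1) (hc' : c' * c' = 1)
    (hb'' : b'' * b'' = 1) (hc'' : c'' * c'' = 1)
    (hca : Commute c a) (hc'a : Commute c' a) (hc''a : Commute c'' a)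
    (hcb' : Commute c b') (hcc' : Commute c c') (hcb'' : Commute c b'') (hcc'' : Commute c c'')
    (hc'b : Commute c' b) (hc'b'' : Commute c' b'') (hc'c'' : Commute c' c'')
    (hc''b : Commute c'' b) (hc''b' : Commute c'' b')
    (h : (a * b * c * a * b' * c' * a * b'' * c'') ^ n = 1) :
    (a * b * c * a * b'' * c'' * a * b' * c') ^ n = 1 := by
  have ia := inv_eq_self_of_sq ha
  have ib := inv_eq_self_of_sq hb
  have ic := inv_eq_self_of_sq hc
  have ib' := inv_eq_self_of_sq hb'
  have ic' := inv_eq_self_of_sq hc'
  have ib'' := inv_eq_self_of_sq hb''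
  have ic'' := inv_eq_self_of_sq hc''
  -- the conjugating element
  have hCa : SemiconjBy (c * c' * c'') a a := ((hca.mul_left hc'a).mul_left hc''a)
  have hX : SemiconjBy (c * c' * c'') (b * c) (c * b) := by
    have h1 : Commute (c' * c'') (b * c) :=
      ((hc'b.mul_right hcc'.symm).mul_left (hc''b.mul_right hcc''.symm))
    show c * c' * c'' * (b * c) = c * b * (c * c' * c'')
    calc c * c' * c'' * (b * c) = c * ((c' * c'') * (b * c)) := by group
      _ = c * ((b * c) * (c' * c'')) := by rw [h1.eq]
      _ = c * b * (c * c' * c'') := by group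
  have hY : SemiconjBy (c * c' * c'') (b' * c') (c' * b') := by
    have h1 : Commute c'' (b' * c') := hc''b'.mul_right hc'c''.symm
    have h2 : Commute c (c' * b') := hcc'.mul_right hcb'
    show c * c' * c'' * (b' * c') = c' * b' * (c * c' * c'')
    calc c * c' * c'' * (b' * c') = c * c' * (c'' * (b' * c')) := by group
      _ = c * c' * ((b' * c') * c'') := by rw [h1.eq]
      _ = (c * (c' * b')) * (c' * c'') := by group
      _ = ((c' * b') * c) * (c' * c'') := by rw [h2.eq]
      _ = c' * b' * (c * c' * c'') := by group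
  have hZ : SemiconjBy (c * c' * c'') (b'' * c'') (c'' * b'') := by
    have h1 : Commute (c * c') (c'' * b'') :=
      ((hcc''.mul_right hcb'').mul_left (hc'c''.mul_right hc'b''))
    show c * c' * c'' * (b'' * c'') = c'' * b'' * (c * c' * c'')
    calc c * c' * c'' * (b'' * c'') = ((c * c') * (c'' * b'')) * c'' := by group
      _ = ((c'' * b'') * (c * c')) * c'' := by rw [h1.eq]
      _ = c'' * b'' * (c * c' * c'') := by group
  have hs : SemiconjBy (c * c' * c'') (a * (b * c) * a * (b' * c') * a * (b'' * c''))
      (a * (c * b) * a * (c' * b') * a * (c'' * b'')) :=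
    ((((hCa.mul_right hX).mul_right hCa).mul_right hY).mul_right hCa).mul_right hZ
  have e0 : a * b * c * a * b' * c' * a * b'' * c'' = a * (b * c) * a * (b' * c') * a * (b'' * c'') := by
    group
  rw [e0] at h
  have h1 := hs.pow_right n
  rw [h] at h1
  have h2 : (a * (c * b) * a * (c' * b') * a * (c'' * b'')) ^ n = 1 := by
    have : (c * c' * c'') * 1 = (a * (c * b) * a * (c' * b') * a * (c'' * b'')) ^ n * (c * c' * c'') := h1
    rw [mul_one] at this
    exact (mul_eq_right.mp this.symm)
  -- pass to the inverse
  have h3 : ((a * (c * b) * a * (c' * b') * a * (c'' * b''))⁻¹) ^ n = 1 := by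
    rw [inv_pow, h2, inv_one]
  have e1 : (a * (c * b) * a * (c' * b') * a * (c'' * b''))⁻¹ = (b'' * c'' * a * b' * c' * a * b * c) * a := by
    simp only [mul_inv_rev, ia, ib, ic, ib', ic', ib'', ic'', mul_assoc]
  rw [e1] at h3
  have h4 := pow_rot h3
  have e2 : a * (b'' * c'' * a * b' * c' * a * b * c) = (a * b'' * c'' * a * b' * c') * (a * b * c) := by group
  rw [e2] at h4
  have h5 := pow_rot h4
  have e3 : a * b * c * (a * b'' * c'' * a * b' * c') = a * b * c * a * b'' * c'' * a * b' * c' := by group
  rw [e3] at h5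
  exact h5

end Spider

end Cfsg.Agent.Lib.Helper4.Y5
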