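import Cfsg.Agent.Lib.Helper28.TC2Tower
import Cfsg.Agent.Lib.Helper28.TCFi23W0Link
import Cfsg.Agent.Lib.Helper4.TCY5ALink
import Cfsg.Agent.Lib.Helper4.Y5Lemmas
set_option autoImplicit false
set_option maxRecDepth 100000
set_option maxHeartbeats 0

namespace Cfsg.Agent.Lib.Helper4.Y5AData
open Cfsg.Agent.Lib.Helper28.TC2Upper Cfsg.Agent.Lib.Helper28.TC2Lower Cfsg.Agent.Lib.Helper28.TC2Glue Cfsg.Agent.Lib.Helper28.TC2Tower Cfsg.Agent.Lib.Helper4.Y5

/-- the generators of `Y₄₃₂` as generators of `Fi₂₃` -/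
def iotaA : Cfsg.Agent.Lib.Helper4.Y5ADef.Gen → Cfsg.Spor.Fi23.Gen
  | .a => .d
  | .b1 => .e
  | .c1 => .f
  | .d1 => .g
  | .e1 => .j
  | .b2 => .c
  | .c2 => .b
  | .d2 => .a
  | .b3 => .h
  | .c3 => .i

/-- one period of the word of the longest element of the `E₈` subdiagram -/
def w8PerA : List (Cfsg.Agent.Lib.Helper4.Y5ADef.Gen × Bool) := [(.a, true), (.b1, true), (.c1, true), (.d1, true), (.e1, true), (.b2, true), (.c2, true), (.b3, true)]
/-- the longest element of the `E₈` subdiagram -/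
def w8WordA : List (Cfsg.Agent.Lib.Helper4.Y5ADef.Gen × Bool) := (List.replicate 15 w8PerA).flatten
/-- the word of the `E₇` relator of `Fi₂₃`, pulled back -/
def e7WordA : List (Cfsg.Agent.Lib.Helper4.Y5ADef.Gen × Bool) := (List.replicate 9 [(.d2, true), (.c2, true), (.b2, true), (.a, true), (.b1, true), (.c1, true), (.b3, true)]).flatten

/-- the path of `w8WordA` in the coset table of `Fi₂₃` -/
def w8Path : List ℕ := [8, 1, 2, 7, 6, 5, 4, 3, 8, 1, 2, 7, 6, 5, 4, 3, 8, 1, 2, 7, 6, 5, 4, 3, 8, 1, 2, 7, 6, 5, 4, 3, 8, 1, 2, 7, 6, 5, 4, 3, 8, 1, 2, 7, 6, 5, 4, 3, 8, 1, 2, 7, 6, 5, 4, 3, 8, 1, 2, 7, 6, 5, 4, 3, 8, 1, 2, 7, 6, 5, 4, 3, 8, 1, 2, 7, 6, 5, 4, 3, 8, 1, 2, 7, 6, 5, 4, 3, 8, 1, 2, 7, 6, 5, 4, 3, 8, 1, 2, 7, 6, 5, 4, 3, 8, 1, 2, 7, 6, 5, 4, 3, 8, 1, 2, 7, 6, 5, 4, 3]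

theorem w8Path_eq : pathOf Cfsg.Agent.Lib.Helper28.TCFi23W0Link.lw (upWord iotaA w8WordA) = w8Path := by decide +kernel

theorem hupA : ∀ L ∈ Cfsg.Agent.Lib.Helper4.TCY5ALink.relWords, upWord iotaA L ∈ Cfsg.Agent.Lib.Helper28.TCFi23W0Link.relWords := by decide +kernel

theorem e7_mem : upWord iotaA e7WordA ∈ Cfsg.Agent.Lib.Helper28.TCFi23W0Link.relWords := by decide +kernel

theorem heven : ∀ L ∈ Cfsg.Agent.Lib.Helper4.TCY5ALink.relWords, L.length % 2 = 0 := by decide +kernel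

theorem fix0 : Cfsg.Agent.Lib.Helper28.TCFi23W0Table.table.relOK [w8Path] 0 2000 = true := by decide +kernel
theorem fix1 : Cfsg.Agent.Lib.Helper28.TCFi23W0Table.table.relOK [w8Path] 2000 2000 = true := by decide +kernel
theorem fix2 : Cfsg.Agent.Lib.Helper28.TCFi23W0Table.table.relOK [w8Path] 4000 2000 = true := by decide +kernel
theorem fix3 : Cfsg.Agent.Lib.Helper28.TCFi23W0Table.table.relOK [w8Path] 6000 2000 = true := by decide +kernel
theorem fix4 : Cfsg.Agent.Lib.Helper28.TCFi23W0Table.table.relOK [w8Path] 8000 2000 = true := by decide +kernel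
theorem fix5 : Cfsg.Agent.Lib.Helper28.TCFi23W0Table.table.relOK [w8Path] 10000 2000 = true := by decide +kernel
theorem fix6 : Cfsg.Agent.Lib.Helper28.TCFi23W0Table.table.relOK [w8Path] 12000 2000 = true := by decide +kernel
theorem fix7 : Cfsg.Agent.Lib.Helper28.TCFi23W0Table.table.relOK [w8Path] 14000 2000 = true := by decide +kernel
theorem fix8 : Cfsg.Agent.Lib.Helper28.TCFi23W0Table.table.relOK [w8Path] 16000 2000 = true := by decide +kernel
theorem fix9 : Cfsg.Agent.Lib.Helper28.TCFi23W0Table.table.relOK [w8Path] 18000 2000 = true := by decide +kernel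
theorem fix10 : Cfsg.Agent.Lib.Helper28.TCFi23W0Table.table.relOK [w8Path] 20000 2000 = true := by decide +kernel
theorem fix11 : Cfsg.Agent.Lib.Helper28.TCFi23W0Table.table.relOK [w8Path] 22000 2000 = true := by decide +kernel
theorem fix12 : Cfsg.Agent.Lib.Helper28.TCFi23W0Table.table.relOK [w8Path] 24000 2000 = true := by decide +kernel
theorem fix13 : Cfsg.Agent.Lib.Helper28.TCFi23W0Table.table.relOK [w8Path] 26000 2000 = true := by decide +kernel
theorem fix14 : Cfsg.Agent.Lib.Helper28.TCFi23W0Table.table.relOK [w8Path] 28000 2000 = true := by decide +kernel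
theorem fix15 : Cfsg.Agent.Lib.Helper28.TCFi23W0Table.table.relOK [w8Path] 30000 1671 = true := by decide +kernel

theorem hfix : ∀ p, p < 31671 → Cfsg.Agent.Lib.Helper28.TCFi23W0Table.table.walkT w8Path p = p := by
  intro p hp
  rcases Nat.lt_or_ge p 2000 with h0 | h0
  · exact (Table.relOK_iff [w8Path] 0 2000).mp fix0 p (by omega) (by omega) _ (List.mem_singleton.mpr rfl)
  rcases Nat.lt_or_ge p 4000 with h1 | h1
  · exact (Table.relOK_iff [w8Path] 2000 2000).mp fix1 p (by omega) (by omega) _ (List.mem_singleton.mpr rfl)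
  rcases Nat.lt_or_ge p 6000 with h2 | h2
  · exact (Table.relOK_iff [w8Path] 4000 2000).mp fix2 p (by omega) (by omega) _ (List.mem_singleton.mpr rfl)
  rcases Nat.lt_or_ge p 8000 with h3 | h3
  · exact (Table.relOK_iff [w8Path] 6000 2000).mp fix3 p (by omega) (by omega) _ (List.mem_singleton.mpr rfl)
  rcases Nat.lt_or_ge p 10000 with h4 | h4
  · exact (Table.relOK_iff [w8Path] 8000 2000).mp fix4 p (by omega) (by omega) _ (List.mem_singleton.mpr rfl)
  rcases Nat.lt_or_ge p 12000 with h5 | h5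
  · exact (Table.relOK_iff [w8Path] 10000 2000).mp fix5 p (by omega) (by omega) _ (List.mem_singleton.mpr rfl)
  rcases Nat.lt_or_ge p 14000 with h6 | h6
  · exact (Table.relOK_iff [w8Path] 12000 2000).mp fix6 p (by omega) (by omega) _ (List.mem_singleton.mpr rfl)
  rcases Nat.lt_or_ge p 16000 with h7 | h7
  · exact (Table.relOK_iff [w8Path] 14000 2000).mp fix7 p (by omega) (by omega) _ (List.mem_singleton.mpr rfl)
  rcases Nat.lt_or_ge p 18000 with h8 | h8
  · exact (Table.relOK_iff [w8Path] 16000 2000).mp fix8 p (by omega) (by omega) _ (List.mem_singleton.mpr rfl)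
  rcases Nat.lt_or_ge p 20000 with h9 | h9
  · exact (Table.relOK_iff [w8Path] 18000 2000).mp fix9 p (by omega) (by omega) _ (List.mem_singleton.mpr rfl)
  rcases Nat.lt_or_ge p 22000 with h10 | h10
  · exact (Table.relOK_iff [w8Path] 20000 2000).mp fix10 p (by omega) (by omega) _ (List.mem_singleton.mpr rfl)
  rcases Nat.lt_or_ge p 24000 with h11 | h11
  · exact (Table.relOK_iff [w8Path] 22000 2000).mp fix11 p (by omega) (by omega) _ (List.mem_singleton.mpr rfl)
  rcases Nat.lt_or_ge p 26000 with h12 | h12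
  · exact (Table.relOK_iff [w8Path] 24000 2000).mp fix12 p (by omega) (by omega) _ (List.mem_singleton.mpr rfl)
  rcases Nat.lt_or_ge p 28000 with h13 | h13
  · exact (Table.relOK_iff [w8Path] 26000 2000).mp fix13 p (by omega) (by omega) _ (List.mem_singleton.mpr rfl)
  rcases Nat.lt_or_ge p 30000 with h14 | h14
  · exact (Table.relOK_iff [w8Path] 28000 2000).mp fix14 p (by omega) (by omega) _ (List.mem_singleton.mpr rfl)
  exact (Table.relOK_iff [w8Path] 30000 1671).mp fix15 p (by omega) (by omega) _ (List.mem_singleton.mpr rfl)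

end Cfsg.Agent.Lib.Helper4.Y5AData
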