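import Cfsg.Agent.Lib.Helper4.TCY5GW0Link
import Cfsg.Agent.Lib.Helper4.TCY5BLink
import Cfsg.Agent.Lib.Helper4.Y5Lemmas
set_option autoImplicit false
set_option maxRecDepth 100000
set_option maxHeartbeats 0

namespace Cfsg.Agent.Lib.Helper4.Y5BData
open Cfsg.Agent.Lib.Helper28.TC2Upper Cfsg.Agent.Lib.Helper28.TC2Lower Cfsg.Agent.Lib.Helper28.TC2Glue Cfsg.Agent.Lib.Helper4.Y5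

/-- one period of the word of the longest element of the `E₇` subdiagram -/
def zPerG : List (Cfsg.Agent.Lib.Helper4.Y5GW0Def.Gen × Bool) := [(.a, true), (.b1, true), (.b2, true), (.b3, true), (.c1, true), (.c2, true), (.d1, true)]
/-- the same word in the larger presentation -/
def zPerB : List (Cfsg.Agent.Lib.Helper4.Y5BDef.Gen × Bool) := [(.a, true), (.b1, true), (.b2, true), (.b3, true), (.c1, true), (.c2, true), (.d1, true)]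
/-- the substitution: `f1` becomes the longest element of the `E₇` subdiagram -/
def gw : Cfsg.Agent.Lib.Helper4.Y5BDef.Gen → List (Cfsg.Agent.Lib.Helper4.Y5GW0Def.Gen × Bool)
  | .a => [(.a, true)]
  | .b1 => [(.b1, true)]
  | .c1 => [(.c1, true)]
  | .d1 => [(.d1, true)]
  | .e1 => [(.e1, true)]
  | .f1 => (List.replicate 9 zPerG).flatten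
  | .b2 => [(.b2, true)]
  | .c2 => [(.c2, true)]
  | .b3 => [(.b3, true)]
  | .c3 => [(.c3, true)]

/-- the paths of the substituted relators -/
def pathsB : List (List ℕ) := [[0, 0], [1, 0, 1, 0, 1, 0], [2, 0, 2, 0], [3, 0, 3, 0], [4, 0, 4, 0], [5, 0, 5, 0, 5, 0], [7, 0, 7, 0, 7, 0], [3, 6, 2, 7, 5, 1, 0, 3, 6, 2, 7, 5, 1, 0, 3, 6, 2, 7, 5, 1, 0, 3, 6, 2, 7, 5, 1, 0, 3, 6, 2, 7, 5, 1, 0, 3, 6, 2, 7, 5, 1, 0, 3, 6, 2, 7, 5, 1, 0, 3, 6, 2, 7, 5, 1, 0, 3, 6, 2, 7, 5, 1, 0, 0, 3, 6, 2, 7, 5, 1, 0, 3, 6, 2, 7, 5, 1, 0, 3, 6, 2, 7, 5, 1, 0, 3, 6, 2, 7, 5, 1, 0, 3, 6, 2, 7, 5, 1, 0, 3, 6, 2, 7, 5, 1, 0, 3, 6, 2, 7, 5, 1, 0, 3, 6, 2, 7, 5, 1, 0, 3, 6, 2, 7, 5, 1, 0, 0], [6, 0, 6,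 0], [8, 0, 8, 0], [0, 1, 0, 1, 0, 1], [1, 1], [2, 1, 2, 1, 2, 1], [3, 1, 3, 1], [4, 1, 4, 1], [5, 1, 5, 1], [7, 1, 7, 1], [3, 6, 2, 7, 5, 1, 0, 3, 6, 2, 7, 5, 1, 0, 3, 6, 2, 7, 5, 1, 0, 3, 6, 2, 7, 5, 1, 0, 3, 6, 2, 7, 5, 1, 0, 3, 6, 2, 7, 5, 1, 0, 3, 6, 2, 7, 5, 1, 0, 3, 6, 2, 7, 5, 1, 0, 3, 6, 2, 7, 5, 1, 0, 1, 3, 6, 2, 7, 5, 1, 0, 3, 6, 2, 7, 5, 1, 0, 3, 6, 2, 7, 5, 1, 0, 3, 6, 2, 7, 5, 1, 0, 3, 6, 2, 7, 5, 1, 0, 3, 6, 2, 7, 5, 1, 0, 3, 6, 2, 7, 5, 1, 0, 3, 6, 2, 7, 5, 1, 0, 3, 6, 2, 7, 5, 1, 0, 1], [6, 1, 6, 1], [8, 1, 8, 1], [0, 2, 0, 2], [1, 2, 1, 2, 1, 2], [2, 2], [3, 2, 3, 2, 3, 2], [4, 2, 4, 2], [5, 2, 5, 2], [7, 2, 7, 2], [3, 6, 2, 7, 5, 1, 0, 3, 6, 2, 7, 5, 1, 0,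 3, 6, 2, 7, 5, 1, 0, 3, 6, 2, 7, 5, 1, 0, 3, 6, 2, 7, 5, 1, 0, 3, 6, 2, 7, 5, 1, 0, 3, 6, 2, 7, 5, 1, 0, 3, 6, 2, 7, 5, 1, 0, 3, 6, 2, 7, 5, 1, 0, 2, 3, 6, 2, 7, 5, 1, 0, 3, 6, 2, 7, 5, 1, 0, 3, 6, 2, 7, 5, 1, 0, 3, 6, 2, 7, 5, 1, 0, 3, 6, 2, 7, 5, 1, 0, 3, 6, 2, 7, 5, 1, 0, 3, 6, 2, 7, 5, 1, 0, 3, 6, 2, 7, 5, 1, 0, 3, 6, 2, 7, 5, 1, 0, 2], [6, 2, 6, 2], [8, 2, 8, 2], [0, 3, 0, 3], [1, 3, 1, 3], [2, 3, 2, 3, 2, 3], [3, 3], [4, 3, 4, 3, 4, 3], [5, 3, 5, 3], [7, 3, 7, 3], [3, 6, 2, 7, 5, 1, 0, 3, 6, 2, 7, 5, 1, 0, 3, 6, 2, 7, 5, 1, 0, 3, 6, 2, 7, 5, 1, 0, 3, 6, 2, 7, 5, 1, 0, 3, 6, 2, 7, 5, 1, 0, 3, 6, 2, 7, 5, 1, 0, 3, 6, 2, 7, 5, 1, 0, 3, 6, 2, 7, 5, 1, 0, 3, 3, 6, 2, 7, 5,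 1, 0, 3, 6, 2, 7, 5, 1, 0, 3, 6, 2, 7, 5, 1, 0, 3, 6, 2, 7, 5, 1, 0, 3, 6, 2, 7, 5, 1, 0, 3, 6, 2, 7, 5, 1, 0, 3, 6, 2, 7, 5, 1, 0, 3, 6, 2, 7, 5, 1, 0, 3, 6, 2, 7, 5, 1, 0, 3], [6, 3, 6, 3], [8, 3, 8, 3], [0, 4, 0, 4], [1, 4, 1, 4], [2, 4, 2, 4], [3, 4, 3, 4, 3, 4], [4, 4], [5, 4, 5, 4], [7, 4, 7, 4], [3, 6, 2, 7, 5, 1, 0, 3, 6, 2, 7, 5, 1, 0, 3, 6, 2, 7, 5, 1, 0, 3, 6, 2, 7, 5, 1, 0, 3, 6, 2, 7, 5, 1, 0, 3, 6, 2, 7, 5, 1, 0, 3, 6, 2, 7, 5, 1, 0, 3, 6, 2, 7, 5, 1, 0, 3, 6, 2, 7, 5, 1, 0, 4, 3, 6, 2, 7, 5, 1, 0, 3, 6, 2, 7, 5, 1, 0, 3, 6, 2, 7, 5, 1, 0, 3, 6, 2, 7, 5, 1, 0, 3, 6, 2, 7, 5, 1, 0, 3, 6, 2, 7, 5, 1, 0, 3, 6, 2, 7, 5, 1, 0, 3, 6, 2, 7, 5, 1, 0, 3, 6, 2, 7, 5, 1,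 0, 4, 3, 6, 2, 7, 5, 1, 0, 3, 6, 2, 7, 5, 1, 0, 3, 6, 2, 7, 5, 1, 0, 3, 6, 2, 7, 5, 1, 0, 3, 6, 2, 7, 5, 1, 0, 3, 6, 2, 7, 5, 1, 0, 3, 6, 2, 7, 5, 1, 0, 3, 6, 2, 7, 5, 1, 0, 3, 6, 2, 7, 5, 1, 0, 4], [6, 4, 6, 4], [8, 4, 8, 4], [0, 5, 0, 5, 0, 5], [1, 5, 1, 5], [2, 5, 2, 5], [3, 5, 3, 5], [4, 5, 4, 5], [5, 5], [7, 5, 7, 5], [3, 6, 2, 7, 5, 1, 0, 3, 6, 2, 7, 5, 1, 0, 3, 6, 2, 7, 5, 1, 0, 3, 6, 2, 7, 5, 1, 0, 3, 6, 2, 7, 5, 1, 0, 3, 6, 2, 7, 5, 1, 0, 3, 6, 2, 7, 5, 1, 0, 3, 6, 2, 7, 5, 1, 0, 3, 6, 2, 7, 5, 1, 0, 5, 3, 6, 2, 7, 5, 1, 0, 3, 6, 2, 7, 5, 1, 0, 3, 6, 2, 7, 5, 1, 0, 3, 6, 2, 7, 5, 1, 0, 3, 6, 2, 7, 5, 1, 0, 3, 6, 2, 7, 5, 1, 0, 3, 6, 2, 7, 5, 1, 0, 3, 6, 2, 7, 5, 1,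 0, 3, 6, 2, 7, 5, 1, 0, 5], [6, 5, 6, 5, 6, 5], [8, 5, 8, 5], [0, 7, 0, 7, 0, 7], [1, 7, 1, 7], [2, 7, 2, 7], [3, 7, 3, 7], [4, 7, 4, 7], [5, 7, 5, 7], [7, 7], [3, 6, 2, 7, 5, 1, 0, 3, 6, 2, 7, 5, 1, 0, 3, 6, 2, 7, 5, 1, 0, 3, 6, 2, 7, 5, 1, 0, 3, 6, 2, 7, 5, 1, 0, 3, 6, 2, 7, 5, 1, 0, 3, 6, 2, 7, 5, 1, 0, 3, 6, 2, 7, 5, 1, 0, 3, 6, 2, 7, 5, 1, 0, 7, 3, 6, 2, 7, 5, 1, 0, 3, 6, 2, 7, 5, 1, 0, 3, 6, 2, 7, 5, 1, 0, 3, 6, 2, 7, 5, 1, 0, 3, 6, 2, 7, 5, 1, 0, 3, 6, 2, 7, 5, 1, 0, 3, 6, 2, 7, 5, 1, 0, 3, 6, 2, 7, 5, 1, 0, 3, 6, 2, 7, 5, 1, 0, 7], [6, 7, 6, 7], [8, 7, 8, 7, 8, 7], [0, 3, 6, 2, 7, 5, 1, 0, 3, 6, 2, 7, 5, 1, 0, 3, 6, 2, 7, 5, 1, 0, 3, 6, 2, 7, 5, 1, 0, 3, 6, 2, 7, 5,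 1, 0, 3, 6, 2, 7, 5, 1, 0, 3, 6, 2, 7, 5, 1, 0, 3, 6, 2, 7, 5, 1, 0, 3, 6, 2, 7, 5, 1, 0, 0, 3, 6, 2, 7, 5, 1, 0, 3, 6, 2, 7, 5, 1, 0, 3, 6, 2, 7, 5, 1, 0, 3, 6, 2, 7, 5, 1, 0, 3, 6, 2, 7, 5, 1, 0, 3, 6, 2, 7, 5, 1, 0, 3, 6, 2, 7, 5, 1, 0, 3, 6, 2, 7, 5, 1, 0, 3, 6, 2, 7, 5, 1, 0], [1, 3, 6, 2, 7, 5, 1, 0, 3, 6, 2, 7, 5, 1, 0, 3, 6, 2, 7, 5, 1, 0, 3, 6, 2, 7, 5, 1, 0, 3, 6, 2, 7, 5, 1, 0, 3, 6, 2, 7, 5, 1, 0, 3, 6, 2, 7, 5, 1, 0, 3, 6, 2, 7, 5, 1, 0, 3, 6, 2, 7, 5, 1, 0, 1, 3, 6, 2, 7, 5, 1, 0, 3, 6, 2, 7, 5, 1, 0, 3, 6, 2, 7, 5, 1, 0, 3, 6, 2, 7, 5, 1, 0, 3, 6, 2, 7, 5, 1, 0, 3, 6, 2, 7, 5, 1, 0, 3, 6, 2, 7, 5, 1, 0, 3, 6, 2, 7, 5, 1, 0, 3, 6, 2, 7, 5, 1, 0], [2, 3, 6, 2, 7,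 5, 1, 0, 3, 6, 2, 7, 5, 1, 0, 3, 6, 2, 7, 5, 1, 0, 3, 6, 2, 7, 5, 1, 0, 3, 6, 2, 7, 5, 1, 0, 3, 6, 2, 7, 5, 1, 0, 3, 6, 2, 7, 5, 1, 0, 3, 6, 2, 7, 5, 1, 0, 3, 6, 2, 7, 5, 1, 0, 2, 3, 6, 2, 7, 5, 1, 0, 3, 6, 2, 7, 5, 1, 0, 3, 6, 2, 7, 5, 1, 0, 3, 6, 2, 7, 5, 1, 0, 3, 6, 2, 7, 5, 1, 0, 3, 6, 2, 7, 5, 1, 0, 3, 6, 2, 7, 5, 1, 0, 3, 6, 2, 7, 5, 1, 0, 3, 6, 2, 7, 5, 1, 0], [3, 3, 6, 2, 7, 5, 1, 0, 3, 6, 2, 7, 5, 1, 0, 3, 6, 2, 7, 5, 1, 0, 3, 6, 2, 7, 5, 1, 0, 3, 6, 2, 7, 5, 1, 0, 3, 6, 2, 7, 5, 1, 0, 3, 6, 2, 7, 5, 1, 0, 3, 6, 2, 7, 5, 1, 0, 3, 6, 2, 7, 5, 1, 0, 3, 3, 6, 2, 7, 5, 1, 0, 3, 6, 2, 7, 5, 1, 0, 3, 6, 2, 7, 5, 1, 0, 3, 6, 2, 7, 5, 1, 0, 3, 6, 2, 7, 5, 1, 0, 3, 6, 2, 7,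 5, 1, 0, 3, 6, 2, 7, 5, 1, 0, 3, 6, 2, 7, 5, 1, 0, 3, 6, 2, 7, 5, 1, 0], [4, 3, 6, 2, 7, 5, 1, 0, 3, 6, 2, 7, 5, 1, 0, 3, 6, 2, 7, 5, 1, 0, 3, 6, 2, 7, 5, 1, 0, 3, 6, 2, 7, 5, 1, 0, 3, 6, 2, 7, 5, 1, 0, 3, 6, 2, 7, 5, 1, 0, 3, 6, 2, 7, 5, 1, 0, 3, 6, 2, 7, 5, 1, 0, 4, 3, 6, 2, 7, 5, 1, 0, 3, 6, 2, 7, 5, 1, 0, 3, 6, 2, 7, 5, 1, 0, 3, 6, 2, 7, 5, 1, 0, 3, 6, 2, 7, 5, 1, 0, 3, 6, 2, 7, 5, 1, 0, 3, 6, 2, 7, 5, 1, 0, 3, 6, 2, 7, 5, 1, 0, 3, 6, 2, 7, 5, 1, 0, 4, 3, 6, 2, 7, 5, 1, 0, 3, 6, 2, 7, 5, 1, 0, 3, 6, 2, 7, 5, 1, 0, 3, 6, 2, 7, 5, 1, 0, 3, 6, 2, 7, 5, 1, 0, 3, 6, 2, 7, 5, 1, 0, 3, 6, 2, 7, 5, 1, 0, 3, 6, 2, 7, 5, 1, 0, 3, 6, 2, 7, 5, 1, 0], [5, 3, 6, 2, 7, 5, 1, 0, 3, 6, 2,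 7, 5, 1, 0, 3, 6, 2, 7, 5, 1, 0, 3, 6, 2, 7, 5, 1, 0, 3, 6, 2, 7, 5, 1, 0, 3, 6, 2, 7, 5, 1, 0, 3, 6, 2, 7, 5, 1, 0, 3, 6, 2, 7, 5, 1, 0, 3, 6, 2, 7, 5, 1, 0, 5, 3, 6, 2, 7, 5, 1, 0, 3, 6, 2, 7, 5, 1, 0, 3, 6, 2, 7, 5, 1, 0, 3, 6, 2, 7, 5, 1, 0, 3, 6, 2, 7, 5, 1, 0, 3, 6, 2, 7, 5, 1, 0, 3, 6, 2, 7, 5, 1, 0, 3, 6, 2, 7, 5, 1, 0, 3, 6, 2, 7, 5, 1, 0], [7, 3, 6, 2, 7, 5, 1, 0, 3, 6, 2, 7, 5, 1, 0, 3, 6, 2, 7, 5, 1, 0, 3, 6, 2, 7, 5, 1, 0, 3, 6, 2, 7, 5, 1, 0, 3, 6, 2, 7, 5, 1, 0, 3, 6, 2, 7, 5, 1, 0, 3, 6, 2, 7, 5, 1, 0, 3, 6, 2, 7, 5, 1, 0, 7, 3, 6, 2, 7, 5, 1, 0, 3, 6, 2, 7, 5, 1, 0, 3, 6, 2, 7, 5, 1, 0, 3, 6, 2, 7, 5, 1, 0, 3, 6, 2, 7, 5, 1, 0, 3, 6, 2, 7, 5, 1, 0, 3, 6, 2,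 7, 5, 1, 0, 3, 6, 2, 7, 5, 1, 0, 3, 6, 2, 7, 5, 1, 0], [3, 6, 2, 7, 5, 1, 0, 3, 6, 2, 7, 5, 1, 0, 3, 6, 2, 7, 5, 1, 0, 3, 6, 2, 7, 5, 1, 0, 3, 6, 2, 7, 5, 1, 0, 3, 6, 2, 7, 5, 1, 0, 3, 6, 2, 7, 5, 1, 0, 3, 6, 2, 7, 5, 1, 0, 3, 6, 2, 7, 5, 1, 0, 3, 6, 2, 7, 5, 1, 0, 3, 6, 2, 7, 5, 1, 0, 3, 6, 2, 7, 5, 1, 0, 3, 6, 2, 7, 5, 1, 0, 3, 6, 2, 7, 5, 1, 0, 3, 6, 2, 7, 5, 1, 0, 3, 6, 2, 7, 5, 1, 0, 3, 6, 2, 7, 5, 1, 0, 3, 6, 2, 7, 5, 1, 0], [6, 3, 6, 2, 7, 5, 1, 0, 3, 6, 2, 7, 5, 1, 0, 3, 6, 2, 7, 5, 1, 0, 3, 6, 2, 7, 5, 1, 0, 3, 6, 2, 7, 5, 1, 0, 3, 6, 2, 7, 5, 1, 0, 3, 6, 2, 7, 5, 1, 0, 3, 6, 2, 7, 5, 1, 0, 3, 6, 2, 7, 5, 1, 0, 6, 3, 6, 2, 7, 5, 1, 0, 3, 6, 2, 7, 5, 1, 0, 3, 6, 2, 7,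 5, 1, 0, 3, 6, 2, 7, 5, 1, 0, 3, 6, 2, 7, 5, 1, 0, 3, 6, 2, 7, 5, 1, 0, 3, 6, 2, 7, 5, 1, 0, 3, 6, 2, 7, 5, 1, 0, 3, 6, 2, 7, 5, 1, 0], [8, 3, 6, 2, 7, 5, 1, 0, 3, 6, 2, 7, 5, 1, 0, 3, 6, 2, 7, 5, 1, 0, 3, 6, 2, 7, 5, 1, 0, 3, 6, 2, 7, 5, 1, 0, 3, 6, 2, 7, 5, 1, 0, 3, 6, 2, 7, 5, 1, 0, 3, 6, 2, 7, 5, 1, 0, 3, 6, 2, 7, 5, 1, 0, 8, 3, 6, 2, 7, 5, 1, 0, 3, 6, 2, 7, 5, 1, 0, 3, 6, 2, 7, 5, 1, 0, 3, 6, 2, 7, 5, 1, 0, 3, 6, 2, 7, 5, 1, 0, 3, 6, 2, 7, 5, 1, 0, 3, 6, 2, 7, 5, 1, 0, 3, 6, 2, 7, 5, 1, 0, 3, 6, 2, 7, 5, 1, 0], [0, 6, 0, 6], [1, 6, 1, 6], [2, 6, 2, 6], [3, 6, 3, 6], [4, 6, 4, 6], [5, 6, 5, 6, 5, 6], [7, 6, 7, 6], [3, 6, 2, 7, 5, 1, 0, 3, 6, 2, 7, 5, 1, 0, 3, 6, 2, 7, 5,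 1, 0, 3, 6, 2, 7, 5, 1, 0, 3, 6, 2, 7, 5, 1, 0, 3, 6, 2, 7, 5, 1, 0, 3, 6, 2, 7, 5, 1, 0, 3, 6, 2, 7, 5, 1, 0, 3, 6, 2, 7, 5, 1, 0, 6, 3, 6, 2, 7, 5, 1, 0, 3, 6, 2, 7, 5, 1, 0, 3, 6, 2, 7, 5, 1, 0, 3, 6, 2, 7, 5, 1, 0, 3, 6, 2, 7, 5, 1, 0, 3, 6, 2, 7, 5, 1, 0, 3, 6, 2, 7, 5, 1, 0, 3, 6, 2, 7, 5, 1, 0, 3, 6, 2, 7, 5, 1, 0, 6], [6, 6], [8, 6, 8, 6], [0, 8, 0, 8], [1, 8, 1, 8], [2, 8, 2, 8], [3, 8, 3, 8], [4, 8, 4, 8], [5, 8, 5, 8], [7, 8, 7, 8, 7, 8], [3, 6, 2, 7, 5, 1, 0, 3, 6, 2, 7, 5, 1, 0, 3, 6, 2, 7, 5, 1, 0, 3, 6, 2, 7, 5, 1, 0, 3, 6, 2, 7, 5, 1, 0, 3, 6, 2, 7, 5, 1, 0, 3, 6, 2, 7, 5, 1, 0, 3, 6, 2, 7, 5, 1, 0, 3, 6, 2, 7, 5, 1, 0, 8, 3, 6, 2, 7, 5, 1, 0, 3, 6, 2, 7, 5,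 1, 0, 3, 6, 2, 7, 5, 1, 0, 3, 6, 2, 7, 5, 1, 0, 3, 6, 2, 7, 5, 1, 0, 3, 6, 2, 7, 5, 1, 0, 3, 6, 2, 7, 5, 1, 0, 3, 6, 2, 7, 5, 1, 0, 3, 6, 2, 7, 5, 1, 0, 8], [6, 8, 6, 8], [8, 8], [8, 7, 0, 2, 1, 0, 6, 5, 0, 8, 7, 0, 2, 1, 0, 6, 5, 0, 8, 7, 0, 2, 1, 0, 6, 5, 0, 8, 7, 0, 2, 1, 0, 6, 5, 0, 8, 7, 0, 2, 1, 0, 6, 5, 0, 8, 7, 0, 2, 1, 0, 6, 5, 0, 8, 7, 0, 2, 1, 0, 6, 5, 0, 8, 7, 0, 2, 1, 0, 6, 5, 0, 8, 7, 0, 2, 1, 0, 6, 5, 0, 8, 7, 0, 2, 1, 0, 6, 5, 0], [7, 6, 5, 4, 3, 2, 1, 0, 7, 6, 5, 4, 3, 2, 1, 0, 7, 6, 5, 4, 3, 2, 1, 0, 7, 6, 5, 4, 3, 2, 1, 0, 7, 6, 5, 4, 3, 2, 1, 0, 7, 6, 5, 4, 3, 2, 1, 0, 7, 6, 5, 4, 3, 2, 1, 0, 7, 6, 5, 4, 3, 2, 1, 0, 7, 6, 5, 4, 3, 2, 1, 0, 7, 6, 5, 4, 3,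 2, 1, 0, 7, 6, 5, 4, 3, 2, 1, 0, 7, 6, 5, 4, 3, 2, 1, 0, 7, 6, 5, 4, 3, 2, 1, 0, 7, 6, 5, 4, 3, 2, 1, 0, 7, 6, 5, 4, 3, 2, 1, 0]]

theorem hpaths : ∀ L ∈ Cfsg.Agent.Lib.Helper4.TCY5BLink.relWords, pathOf Cfsg.Agent.Lib.Helper4.TCY5GW0Link.lw (substW gw L) ∈ pathsB := by
  decide +kernel

theorem fix0 : Cfsg.Agent.Lib.Helper4.TCY5GW0Table.table.relOK pathsB 0 135 = true := by decide +kernel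
theorem fix1 : Cfsg.Agent.Lib.Helper4.TCY5GW0Table.table.relOK pathsB 135 135 = true := by decide +kernel
theorem fix2 : Cfsg.Agent.Lib.Helper4.TCY5GW0Table.table.relOK pathsB 270 135 = true := by decide +kernel
theorem fix3 : Cfsg.Agent.Lib.Helper4.TCY5GW0Table.table.relOK pathsB 405 135 = true := by decide +kernel
theorem fix4 : Cfsg.Agent.Lib.Helper4.TCY5GW0Table.table.relOK pathsB 540 135 = true := by decide +kernel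
theorem fix5 : Cfsg.Agent.Lib.Helper4.TCY5GW0Table.table.relOK pathsB 675 135 = true := by decide +kernel
theorem fix6 : Cfsg.Agent.Lib.Helper4.TCY5GW0Table.table.relOK pathsB 810 135 = true := by decide +kernel
theorem fix7 : Cfsg.Agent.Lib.Helper4.TCY5GW0Table.table.relOK pathsB 945 135 = true := by decide +kernel

theorem hfix : ∀ P ∈ pathsB, ∀ p, p < 1080 → Cfsg.Agent.Lib.Helper4.TCY5GW0Table.table.walkT P p = p := by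
  intro P hP p hp
  rcases Nat.lt_or_ge p 135 with h0 | h0
  · exact (Table.relOK_iff pathsB 0 135).mp fix0 p (by omega) (by omega) P hP
  rcases Nat.lt_or_ge p 270 with h1 | h1
  · exact (Table.relOK_iff pathsB 135 135).mp fix1 p (by omega) (by omega) P hP
  rcases Nat.lt_or_ge p 405 with h2 | h2
  · exact (Table.relOK_iff pathsB 270 135).mp fix2 p (by omega) (by omega) P hP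
  rcases Nat.lt_or_ge p 540 with h3 | h3
  · exact (Table.relOK_iff pathsB 405 135).mp fix3 p (by omega) (by omega) P hP
  rcases Nat.lt_or_ge p 675 with h4 | h4
  · exact (Table.relOK_iff pathsB 540 135).mp fix4 p (by omega) (by omega) P hP
  rcases Nat.lt_or_ge p 810 with h5 | h5
  · exact (Table.relOK_iff pathsB 675 135).mp fix5 p (by omega) (by omega) P hP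
  rcases Nat.lt_or_ge p 945 with h6 | h6
  · exact (Table.relOK_iff pathsB 810 135).mp fix6 p (by omega) (by omega) P hP
  exact (Table.relOK_iff pathsB 945 135).mp fix7 p (by omega) (by omega) P hP

end Cfsg.Agent.Lib.Helper4.Y5BData
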