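import Cfsg.Agent.Lib.Helper28.TC2Tower
import Cfsg.Agent.Lib.Helper28.TC2Simple
import Cfsg.Agent.Lib.Helper28.TC2Bsgs
import Cfsg.Agent.Lib.Helper28.TCFi23Tower
import Cfsg.Agent.Lib.Helper4.TCY5BMain
import Cfsg.Agent.Lib.Helper4.TCY5GW0Main
import Cfsg.Agent.Lib.Helper4.TCY5GBMain
import Cfsg.Agent.Lib.Helper4.Y5BData
set_option autoImplicit false
set_option maxRecDepth 100000

/-!
# S5588, part B: in `Y₅₂₂` + spider + (`w₀(E₈) = 1`) the end node is the longest element of `E₇`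

`PB` is the group on `a, b1, …, f1, b2, c2, b3, c3` with the Coxeter relations of `Y₅₂₂`, the spider
relation and the relation `(a b1 c1 d1 e1 b2 c2 b3)^15 = 1`; `PG` is the same without `f1`.
A coset enumeration shows that `PB` is generated by the generators other than `f1`; `PG` has order
at most `1080 · |O₇(3) × 2|` (coset enumeration over the `Y₃₂₂` subdiagram, whose presentation is
bounded in helper28's `Fi₂₃` tower) and acts faithfully on `1080` points (stabiliser chain).  In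
`PG` the longest element of `E₇` satisfies all the relations of `f1`, which gives a retraction
`PB → PG`.
-/

namespace Cfsg.Agent.Lib.Helper4.Y5B

open Cfsg.Agent.Lib.Helper28.TC2Upper Cfsg.Agent.Lib.Helper28.TC2Lower Cfsg.Agent.Lib.Helper28.TC2Glue
open Cfsg.Agent.Lib.Helper28.TC2Tower Cfsg.Agent.Lib.Helper28.TC2Simple Cfsg.Agent.Lib.Helper28.TC2Bsgs
open Cfsg.Agent.Lib.Helper4.Y5 Cfsg.Agent.Lib.Helper4.Y5BData

/-- relators of `PB` -/
abbrev relsB := Cfsg.Agent.Lib.Helper4.TCY5BLink.rels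
/-- relators of `PG` -/
abbrev relsG := Cfsg.Agent.Lib.Helper4.TCY5GW0Link.rels
/-- relators of the `Y₃₂₂` level of the `Fi₂₃` tower -/
abbrev relsW := Cfsg.Agent.Lib.Helper28.TCFi23W2Link.rels

/-- the `Y₃₂₂` generators of the `Fi₂₃` tower inside `PG` -/
def upG : Cfsg.Agent.Lib.Helper28.TCFi23W2Def.Gen → Cfsg.Agent.Lib.Helper4.Y5GW0Def.Gen
  | .b => .c2
  | .c => .b2
  | .d => .a
  | .e => .b1
  | .f => .c1
  | .g => .d1
  | .h => .b3
  | .i => .c3

theorem hupG : ∀ L ∈ Cfsg.Agent.Lib.Helper28.TCFi23W2Link.relWords,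
    upWord upG L ∈ Cfsg.Agent.Lib.Helper4.TCY5GW0Link.relWords := by decide +kernel

/-- the order of `PG` -/
theorem cardG : Finite (PresentedGroup relsG) ∧ Nat.card (PresentedGroup relsG) ≤ 9904359628800 := by
  haveI := Cfsg.Agent.Lib.Helper28.TCFi23Tower.card2.1
  have hrel := hrel_of_words relsG relsW upG Cfsg.Agent.Lib.Helper4.TCY5GW0Link.relWords
    Cfsg.Agent.Lib.Helper28.TCFi23W2Link.relWords Cfsg.Agent.Lib.Helper4.TCY5GW0Link.link.hrels
    Cfsg.Agent.Lib.Helper28.TCFi23W2Link.link.hrels hupG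
  have hS : ∀ s ∈ Cfsg.Agent.Lib.Helper4.TCY5GW0Link.S, ∃ b, s = FreeGroup.of (upG b) := by
    intro s hs
    simp only [Cfsg.Agent.Lib.Helper4.TCY5GW0Link.S, Set.mem_insert_iff, Set.mem_singleton_iff] at hs
    rcases hs with rfl | rfl | rfl | rfl | rfl | rfl | rfl | rfl
    exacts [⟨.d, rfl⟩, ⟨.e, rfl⟩, ⟨.f, rfl⟩, ⟨.g, rfl⟩, ⟨.c, rfl⟩, ⟨.b, rfl⟩, ⟨.h, rfl⟩, ⟨.i, rfl⟩]
  obtain ⟨hfin, hle⟩ := card_le_of_subpres relsG relsW upG hrel Cfsg.Agent.Lib.Helper4.TCY5GW0Link.S hS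
  have hidx : ((Subgroup.closure Cfsg.Agent.Lib.Helper4.TCY5GW0Link.S).map (PresentedGroup.mk relsG)).index = 1080 :=
    Cfsg.Agent.Lib.Helper4.TCY5GW0Main.main.1
  haveI := hfin
  refine ⟨finite_of_index _ (by rw [hidx]; norm_num), ?_⟩
  have := card_le_of_index _ hidx (le_trans hle Cfsg.Agent.Lib.Helper28.TCFi23Tower.card2.2)
  norm_num at this
  exact this

/-- `PG` acts faithfully on the `1080` cosets, with the values of the action on words -/
theorem exists_phiG : ∃ φ : PresentedGroup relsG →* Equiv.Perm (Fin 1080), Function.Injective φ ∧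
    ∀ L : List (Cfsg.Agent.Lib.Helper4.Y5GW0Def.Gen × Bool),
      (∀ p, p < 1080 → Cfsg.Agent.Lib.Helper4.TCY5GW0Table.table.walkT
        (pathOf Cfsg.Agent.Lib.Helper4.TCY5GW0Link.lw L) p = p) →
      PresentedGroup.mk relsG (FreeGroup.mk L) = 1 := by
  obtain ⟨_, φ, hφ, _, _, _, _⟩ := Cfsg.Agent.Lib.Helper4.TCY5GW0Main.main
  obtain ⟨hfin, hle⟩ := cardG
  haveI : Finite (PresentedGroup relsG) := hfin
  have hlow : 9904359628800 ≤ Nat.card φ.range :=
    le_trans Cfsg.Agent.Lib.Helper4.TCY5GBMain.card_base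
      (card_baseGroup_le Cfsg.Agent.Lib.Helper4.TCY5GW0Main.hT Cfsg.Agent.Lib.Helper4.TCY5GBMain.hTB rfl (by decide)
        Cfsg.Agent.Lib.Helper4.TCY5GBMain.hagree φ.range
        (sigma_mem_range Cfsg.Agent.Lib.Helper4.TCY5GW0Link.link Cfsg.Agent.Lib.Helper4.TCY5GW0Main.hT φ hφ))
  obtain ⟨hinj, _⟩ := injective_of_card_le φ hle hlow
  refine ⟨φ, hinj, fun L hL => ?_⟩
  apply hinj
  rw [map_one]
  exact phi_mk_eq_one Cfsg.Agent.Lib.Helper4.TCY5GW0Link.link Cfsg.Agent.Lib.Helper4.TCY5GW0Main.hT φ hφ L hL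

/-- substituting a single letter for every letter is the map of letters -/
theorem substW_single {α β : Type} (ι : α → β) (L : List (α × Bool)) :
    substW (fun x => [(ι x, true)]) L = upWord ι L := by
  induction L with
  | nil => rfl
  | cons x L ih =>
    rw [substW_cons, ih]
    rcases x with ⟨x, b⟩
    cases b <;> rfl

theorem hupB : ∀ L ∈ Cfsg.Agent.Lib.Helper4.TCY5GW0Link.relWords,
    upWord Cfsg.Agent.Lib.Helper4.Y5GW0Def.up L ∈ Cfsg.Agent.Lib.Helper4.TCY5BLink.relWords := by decide +kernel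

/-- the longest element of the `E₇` subdiagram, as a word of `PB` -/
def zWordB : List (Cfsg.Agent.Lib.Helper4.Y5BDef.Gen × Bool) := (List.replicate 9 zPerB).flatten

theorem zWord_up : upWord Cfsg.Agent.Lib.Helper4.Y5GW0Def.up (List.replicate 9 zPerG).flatten = zWordB := by
  decide +kernel

/-- in `PB` the end node `f1` is the longest element of the `E₇` subdiagram -/
theorem f1_eq : (PresentedGroup.of Cfsg.Agent.Lib.Helper4.Y5BDef.Gen.f1 : PresentedGroup relsB) =
    PresentedGroup.mk relsB (FreeGroup.mk zWordB) := by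
  obtain ⟨φ, hinj, hone⟩ := exists_phiG
  -- the retraction
  obtain ⟨ρ, hρ⟩ := exists_hom_of_subst relsB Cfsg.Agent.Lib.Helper4.TCY5BLink.relWords
    (fun r hr => (Cfsg.Agent.Lib.Helper4.TCY5BLink.link.hrels r).mp hr) (PresentedGroup.mk relsG) gw
    (fun L hL => hone _ (fun p hp => hfix _ (hpaths L hL) p hp))
  -- the inclusion
  obtain ⟨ψ, hψ⟩ := exists_hom_of_subst relsG Cfsg.Agent.Lib.Helper4.TCY5GW0Link.relWords
    (fun r hr => (Cfsg.Agent.Lib.Helper4.TCY5GW0Link.link.hrels r).mp hr) (PresentedGroup.mk relsB)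
    (fun x => [(Cfsg.Agent.Lib.Helper4.Y5GW0Def.up x, true)])
    (fun L hL => by
      rw [substW_single]
      exact PresentedGroup.one_of_mem ((Cfsg.Agent.Lib.Helper4.TCY5BLink.link.hrels _).mpr ⟨_, hupB L hL, rfl⟩))
  have hψ' : ∀ L, ψ (PresentedGroup.mk relsG (FreeGroup.mk L)) =
      PresentedGroup.mk relsB (FreeGroup.mk (upWord Cfsg.Agent.Lib.Helper4.Y5GW0Def.up L)) := by
    intro L; rw [hψ, substW_single]
  -- `ρ ∘ ψ = id`
  have hρψ : ∀ y, ρ (ψ y) = y := by
    have : ρ.comp ψ = MonoidHom.id _ := by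
      apply PresentedGroup.ext
      intro x
      have e : (PresentedGroup.of x : PresentedGroup relsG) = PresentedGroup.mk relsG (FreeGroup.mk [(x, true)]) := rfl
      rw [MonoidHom.comp_apply, e, hψ', MonoidHom.id_apply]
      show ρ (PresentedGroup.mk relsB (FreeGroup.mk [(Cfsg.Agent.Lib.Helper4.Y5GW0Def.up x, true)])) = _
      rw [hρ]
      cases x <;> rfl
    intro y
    exact DFunLike.congr_fun this y
  -- `ψ` is onto
  have hsurj : Function.Surjective ψ := by
    obtain ⟨hq, hqle⟩ := Cfsg.Agent.Lib.Helper4.TCY5BMain.mainU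
    have htop : (Subgroup.closure Cfsg.Agent.Lib.Helper4.TCY5BLink.S).map (PresentedGroup.mk relsB) = ⊤ := by
      rw [← Subgroup.index_eq_one, Subgroup.index]
      have h0 : 0 < Nat.card (PresentedGroup relsB ⧸ (Subgroup.closure Cfsg.Agent.Lib.Helper4.TCY5BLink.S).map (PresentedGroup.mk relsB)) :=
        Nat.card_pos
      have h1 : Nat.card (PresentedGroup relsB ⧸ (Subgroup.closure Cfsg.Agent.Lib.Helper4.TCY5BLink.S).map (PresentedGroup.mk relsB)) ≤ 1 :=
        hqle
      exact le_antisymm h1 h0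
    have hle : (Subgroup.closure Cfsg.Agent.Lib.Helper4.TCY5BLink.S).map (PresentedGroup.mk relsB) ≤ ψ.range := by
      rw [Subgroup.map_le_iff_le_comap, Subgroup.closure_le]
      intro s hs
      simp only [Cfsg.Agent.Lib.Helper4.TCY5BLink.S, Set.mem_insert_iff, Set.mem_singleton_iff] at hs
      have key : ∀ x : Cfsg.Agent.Lib.Helper4.Y5GW0Def.Gen,
          PresentedGroup.mk relsB (FreeGroup.of (Cfsg.Agent.Lib.Helper4.Y5GW0Def.up x)) ∈ ψ.range := by
        intro x
        refine ⟨PresentedGroup.mk relsG (FreeGroup.mk [(x, true)]), ?_⟩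
        rw [hψ']; rfl
      rcases hs with rfl | rfl | rfl | rfl | rfl | rfl | rfl | rfl | rfl
      exacts [key .a, key .b1, key .c1, key .d1, key .e1, key .b2, key .c2, key .b3, key .c3]
    rw [htop] at hle
    intro g
    exact hle (Subgroup.mem_top g)
  obtain ⟨y, hy⟩ := hsurj (PresentedGroup.of Cfsg.Agent.Lib.Helper4.Y5BDef.Gen.f1)
  have h1 : ρ (PresentedGroup.of Cfsg.Agent.Lib.Helper4.Y5BDef.Gen.f1) = y := by rw [← hy, hρψ]
  have h2 : ρ (PresentedGroup.of Cfsg.Agent.Lib.Helper4.Y5BDef.Gen.f1) =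
      PresentedGroup.mk relsG (FreeGroup.mk (List.replicate 9 zPerG).flatten) := by
    have e : (PresentedGroup.of Cfsg.Agent.Lib.Helper4.Y5BDef.Gen.f1 : PresentedGroup relsB) =
        PresentedGroup.mk relsB (FreeGroup.mk [(.f1, true)]) := rfl
    rw [e, hρ]
    show PresentedGroup.mk relsG (FreeGroup.mk (gw .f1 ++ [])) = _
    rw [List.append_nil]; rfl
  rw [← hy, ← h1, h2, hψ', zWord_up]

end Cfsg.Agent.Lib.Helper4.Y5B
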