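import Cfsg.Agent.Lib.Helper4.Y5PartA
import Cfsg.Agent.Lib.Helper4.Y5PartB
set_option autoImplicit false
set_option maxRecDepth 100000

/-!
# S5588: the arm relation in any group generated by a `Y₅₃₂` spider

In a group with eleven elements satisfying the Coxeter relations of the diagram `Y₅₃₂`
(centre `a`, arms `b1 … f1`, `b2 c2 d2`, `b3 c3`) and the spider relation
`(a b2 c2 a b1 c1 a b3 c3)^10 = 1`, the end node `f1` of the long arm is the ninth power of the
Coxeter element `a b1 b2 b3 c1 c2 d1` of the `E₇` subdiagram.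
-/

namespace Cfsg.Agent.Lib.Helper4.Y5

open Cfsg.Agent.Lib.Helper28.TC2Glue Cfsg.Agent.Lib.Helper28.TC2Tower Cfsg.Agent.Lib.Helper28.TC2Simple

/-- the eleven nodes of `Y₅₃₂` -/
inductive G11
  | a | b1 | c1 | d1 | e1 | f1 | b2 | c2 | d2 | b3 | c3
  deriving DecidableEq

/-- the diagram `Y₅₃₂` -/
def edges11 : List (G11 × ℕ × G11) :=
  [(.a, 3, .b1), (.b1, 3, .c1), (.c1, 3, .d1), (.d1, 3, .e1), (.e1, 3, .f1), (.a, 3, .b2), (.b2, 3, .c2),
   (.c2, 3, .d2), (.a, 3, .b3), (.b3, 3, .c3)]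

/-- one period of the spider word -/
def spPer : List (G11 × Bool) :=
  [(.a, true), (.b2, true), (.c2, true), (.a, true), (.b1, true), (.c1, true), (.a, true), (.b3, true), (.c3, true)]

/-- one period of the longest element of `E₈` -/
def w8Per : List (G11 × Bool) :=
  [(.a, true), (.b1, true), (.c1, true), (.d1, true), (.e1, true), (.b2, true), (.c2, true), (.b3, true)]

/-- one period of the longest element of `E₇` -/
def zPer : List (G11 × Bool) :=
  [(.a, true), (.b1, true), (.b2, true), (.b3, true), (.c1, true), (.c2, true), (.d1, true)]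

/-- the nodes of `Y₄₃₂` -/
def jA : Cfsg.Agent.Lib.Helper4.Y5ADef.Gen → G11
  | .a => .a | .b1 => .b1 | .c1 => .c1 | .d1 => .d1 | .e1 => .e1
  | .b2 => .b2 | .c2 => .c2 | .d2 => .d2 | .b3 => .b3 | .c3 => .c3

/-- the nodes of `Y₅₂₂` -/
def jB : Cfsg.Agent.Lib.Helper4.Y5BDef.Gen → G11
  | .a => .a | .b1 => .b1 | .c1 => .c1 | .d1 => .d1 | .e1 => .e1 | .f1 => .f1
  | .b2 => .b2 | .c2 => .c2 | .b3 => .b3 | .c3 => .c3

theorem hjA : ∀ L ∈ Cfsg.Agent.Lib.Helper4.TCY5ALink.relWords,
    upWord jA L ∈ coxWords edges11 ++ [(List.replicate 10 spPer).flatten] := by decide +kernel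

theorem hjB : ∀ L ∈ Cfsg.Agent.Lib.Helper4.TCY5BLink.relWords,
    upWord jB L ∈ coxWords edges11 ++ [(List.replicate 10 spPer).flatten, (List.replicate 15 w8Per).flatten] := by
  decide +kernel

theorem hw8 : upWord jA Cfsg.Agent.Lib.Helper4.Y5AData.w8WordA = (List.replicate 15 w8Per).flatten := by
  decide +kernel

theorem hz : upWord jB Cfsg.Agent.Lib.Helper4.Y5B.zWordB = (List.replicate 9 zPer).flatten := by
  decide +kernel

section
variable {Γ : Type*} [Group Γ] (g : G11 → Γ)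

theorem lift_replicate (L : List (G11 × Bool)) (m : ℕ) :
    FreeGroup.lift g (FreeGroup.mk (List.replicate m L).flatten) = (FreeGroup.lift g (FreeGroup.mk L)) ^ m := by
  rw [← mk_pow, map_pow]

theorem lift_coxWords (hcox : ∀ x y, (g x * g y) ^ Cfsg.Spor.coxLabel edges11 x y = 1) :
    ∀ L ∈ coxWords edges11, FreeGroup.lift g (FreeGroup.mk L) = 1 := by
  intro L hL
  unfold coxWords at hL
  simp only [List.mem_flatMap, List.mem_map] at hL
  obtain ⟨x, _, y, _, rfl⟩ := hL
  rw [mk_coxWord, map_pow, map_mul, FreeGroup.lift_apply_of, FreeGroup.lift_apply_of]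
  exact hcox x y

/-- the arm relation -/
theorem arm_relation (hcox : ∀ x y, (g x * g y) ^ Cfsg.Spor.coxLabel edges11 x y = 1)
    (hsp : (g .a * g .b2 * g .c2 * g .a * g .b1 * g .c1 * g .a * g .b3 * g .c3) ^ 10 = 1) :
    g .f1 = (g .a * g .b1 * g .b2 * g .b3 * g .c1 * g .c2 * g .d1) ^ 9 := by
  have hspw : FreeGroup.lift g (FreeGroup.mk (List.replicate 10 spPer).flatten) = 1 := by
    rw [lift_replicate]
    have : FreeGroup.lift g (FreeGroup.mk spPer) =
        g .a * g .b2 * g .c2 * g .a * g .b1 * g .c1 * g .a * g .b3 * g .c3 := by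
      simp [spPer, FreeGroup.lift_mk, mul_assoc]
    rw [this]; exact hsp
  -- part A: the longest element of `E₈` is trivial
  obtain ⟨θA, hθA⟩ := exists_hom_of_subst Cfsg.Agent.Lib.Helper4.Y5A.relsA Cfsg.Agent.Lib.Helper4.TCY5ALink.relWords
    (fun r hr => (Cfsg.Agent.Lib.Helper4.TCY5ALink.link.hrels r).mp hr) (FreeGroup.lift g)
    (fun x => [(jA x, true)])
    (fun L hL => by
      rw [Cfsg.Agent.Lib.Helper4.Y5A.substW_single]
      have := hjA L hL
      rw [List.mem_append, List.mem_singleton] at this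
      rcases this with h | h
      · exact lift_coxWords g hcox _ h
      · rw [h]; exact hspw)
  have hw8w : FreeGroup.lift g (FreeGroup.mk (List.replicate 15 w8Per).flatten) = 1 := by
    have := hθA Cfsg.Agent.Lib.Helper4.Y5AData.w8WordA
    rw [Cfsg.Agent.Lib.Helper4.Y5A.w8_eq_one, map_one, Cfsg.Agent.Lib.Helper4.Y5A.substW_single, hw8] at this
    exact this.symm
  -- part B: the end node
  obtain ⟨θB, hθB⟩ := exists_hom_of_subst Cfsg.Agent.Lib.Helper4.Y5B.relsB Cfsg.Agent.Lib.Helper4.TCY5BLink.relWords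
    (fun r hr => (Cfsg.Agent.Lib.Helper4.TCY5BLink.link.hrels r).mp hr) (FreeGroup.lift g)
    (fun x => [(jB x, true)])
    (fun L hL => by
      rw [Cfsg.Agent.Lib.Helper4.Y5A.substW_single]
      have := hjB L hL
      simp only [List.mem_append, List.mem_cons, List.not_mem_nil, or_false] at this
      rcases this with h | h | h
      · exact lift_coxWords g hcox _ h
      · rw [h]; exact hspw
      · rw [h]; exact hw8w)
  have h1 := congrArg θB Cfsg.Agent.Lib.Helper4.Y5B.f1_eq
  have e : (PresentedGroup.of Cfsg.Agent.Lib.Helper4.Y5BDef.Gen.f1 : PresentedGroup Cfsg.Agent.Lib.Helper4.Y5B.relsB) =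
      PresentedGroup.mk Cfsg.Agent.Lib.Helper4.Y5B.relsB (FreeGroup.mk [(.f1, true)]) := rfl
  rw [e, hθB, hθB, Cfsg.Agent.Lib.Helper4.Y5A.substW_single, Cfsg.Agent.Lib.Helper4.Y5A.substW_single, hz,
    lift_replicate] at h1
  have e1 : FreeGroup.lift g (FreeGroup.mk (upWord jB [(Cfsg.Agent.Lib.Helper4.Y5BDef.Gen.f1, true)])) = g .f1 := by
    show FreeGroup.lift g (FreeGroup.of G11.f1) = _
    rw [FreeGroup.lift_apply_of]
  have e2 : FreeGroup.lift g (FreeGroup.mk zPer) =
      g .a * g .b1 * g .b2 * g .b3 * g .c1 * g .c2 * g .d1 := by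
    simp [zPer, FreeGroup.lift_mk, mul_assoc]
  rw [e1, e2] at h1
  exact h1

end

end Cfsg.Agent.Lib.Helper4.Y5
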