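import Cfsg.Agent.Lib.Helper28.TC2Tower
import Cfsg.Agent.Lib.Helper28.TC2Tower2
import Cfsg.Agent.Lib.Helper28.TC2Simple
import Cfsg.Agent.Lib.Helper28.TC2Bsgs
import Cfsg.Agent.Lib.Helper28.TCFi23Tower
import Cfsg.Agent.Lib.Helper28.TCFi23BMain
import Cfsg.Agent.Lib.Helper4.TCY5AMain
import Cfsg.Agent.Lib.Helper4.TCY5FMain
import Cfsg.Agent.Lib.Helper4.Y5AData
set_option autoImplicit false
set_option maxRecDepth 100000

/-!
# S5588, part A: in `Y₄₃₂` + spider the longest element of the `E₈` subdiagram is trivial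

`PA` is the group on `a, b1, c1, d1, e1, b2, c2, d2, b3, c3` with the Coxeter relations of `Y₄₃₂`
and the spider relation, that is, the presentation of `Fi₂₃` of the definitions without its `E₇`
relator.  Two coset enumerations (indices `31671` and `28160`) and the `Y₃₂₂` level of helper28's
`Fi₂₃` tower bound its order by `2 |Fi₂₃|`; as `PA` maps onto `Fi₂₃ × 2` (the second factor being
the parity of the word length), this map is an isomorphism.  The longest element of the `E₈`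
subdiagram has even length and acts trivially on the `31671` cosets of `Fi₂₃`, on which `Fi₂₃`
acts faithfully.
-/

namespace Cfsg.Agent.Lib.Helper4.Y5A

open Cfsg.Agent.Lib.Helper28.TC2Upper Cfsg.Agent.Lib.Helper28.TC2Lower Cfsg.Agent.Lib.Helper28.TC2Glue
open Cfsg.Agent.Lib.Helper28.TC2Tower Cfsg.Agent.Lib.Helper28.TC2Simple Cfsg.Agent.Lib.Helper28.TC2Bsgs
open Cfsg.Agent.Lib.Helper4.Y5 Cfsg.Agent.Lib.Helper4.Y5AData

/-- relators of `PA` -/
abbrev relsA := Cfsg.Agent.Lib.Helper4.TCY5ALink.rels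
/-- relators of `PF` (`Y₃₃₂` + spider) -/
abbrev relsF := Cfsg.Agent.Lib.Helper4.TCY5FLink.rels
/-- relators of the `Y₃₂₂` level of the `Fi₂₃` tower -/
abbrev relsW := Cfsg.Agent.Lib.Helper28.TCFi23W2Link.rels
/-- relators of `Fi₂₃` -/
abbrev relsFi := Cfsg.Agent.Lib.Helper28.TCFi23W0Link.rels

/-- the `Y₃₂₂` generators of the `Fi₂₃` tower inside `PF` -/
def upF : Cfsg.Agent.Lib.Helper28.TCFi23W2Def.Gen → Cfsg.Agent.Lib.Helper4.Y5FDef.Gen
  | .b => .c2
  | .c => .b2
  | .d => .a
  | .e => .b1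
  | .f => .c1
  | .g => .d1
  | .h => .b3
  | .i => .c3

theorem hupF : ∀ L ∈ Cfsg.Agent.Lib.Helper28.TCFi23W2Link.relWords,
    upWord upF L ∈ Cfsg.Agent.Lib.Helper4.TCY5FLink.relWords := by decide +kernel

/-- the order of `PF` -/
theorem cardF : Finite (PresentedGroup relsF) ∧ Nat.card (PresentedGroup relsF) ≤ 28160 * 9170703360 := by
  haveI := Cfsg.Agent.Lib.Helper28.TCFi23Tower.card2.1
  have hrel := hrel_of_words relsF relsW upF Cfsg.Agent.Lib.Helper4.TCY5FLink.relWords
    Cfsg.Agent.Lib.Helper28.TCFi23W2Link.relWords Cfsg.Agent.Lib.Helper4.TCY5FLink.link.hrels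
    Cfsg.Agent.Lib.Helper28.TCFi23W2Link.link.hrels hupF
  have hS : ∀ s ∈ Cfsg.Agent.Lib.Helper4.TCY5FLink.S, ∃ b, s = FreeGroup.of (upF b) := by
    intro s hs
    simp only [Cfsg.Agent.Lib.Helper4.TCY5FLink.S, Set.mem_insert_iff, Set.mem_singleton_iff] at hs
    rcases hs with rfl | rfl | rfl | rfl | rfl | rfl | rfl | rfl
    exacts [⟨.d, rfl⟩, ⟨.e, rfl⟩, ⟨.f, rfl⟩, ⟨.g, rfl⟩, ⟨.c, rfl⟩, ⟨.b, rfl⟩, ⟨.h, rfl⟩, ⟨.i, rfl⟩]
  obtain ⟨hfin, hle⟩ := card_le_of_subpres relsF relsW upF hrel Cfsg.Agent.Lib.Helper4.TCY5FLink.S hS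
  obtain ⟨hq, hqle⟩ := Cfsg.Agent.Lib.Helper4.TCY5FMain.mainU
  exact Cfsg.Agent.Lib.Helper28.TC2Tower2.card_le_of_quot _ hfin hq hqle
    (le_trans hle Cfsg.Agent.Lib.Helper28.TCFi23Tower.card2.2)

theorem hupFA : ∀ L ∈ Cfsg.Agent.Lib.Helper4.TCY5FLink.relWords,
    upWord Cfsg.Agent.Lib.Helper4.Y5FDef.up L ∈ Cfsg.Agent.Lib.Helper4.TCY5ALink.relWords := by decide +kernel

/-- the order of `PA` -/
theorem cardA : Finite (PresentedGroup relsA) ∧
    Nat.card (PresentedGroup relsA) ≤ 31671 * (28160 * 9170703360) := by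
  haveI := cardF.1
  have hrel := hrel_of_words relsA relsF Cfsg.Agent.Lib.Helper4.Y5FDef.up Cfsg.Agent.Lib.Helper4.TCY5ALink.relWords
    Cfsg.Agent.Lib.Helper4.TCY5FLink.relWords Cfsg.Agent.Lib.Helper4.TCY5ALink.link.hrels
    Cfsg.Agent.Lib.Helper4.TCY5FLink.link.hrels hupFA
  have hS : ∀ s ∈ Cfsg.Agent.Lib.Helper4.TCY5ALink.S, ∃ b, s = FreeGroup.of (Cfsg.Agent.Lib.Helper4.Y5FDef.up b) := by
    intro s hs
    simp only [Cfsg.Agent.Lib.Helper4.TCY5ALink.S, Set.mem_insert_iff, Set.mem_singleton_iff] at hs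
    rcases hs with rfl | rfl | rfl | rfl | rfl | rfl | rfl | rfl | rfl
    exacts [⟨.a, rfl⟩, ⟨.b1, rfl⟩, ⟨.c1, rfl⟩, ⟨.d1, rfl⟩, ⟨.b2, rfl⟩, ⟨.c2, rfl⟩, ⟨.d2, rfl⟩, ⟨.b3, rfl⟩, ⟨.c3, rfl⟩]
  obtain ⟨hfin, hle⟩ := card_le_of_subpres relsA relsF Cfsg.Agent.Lib.Helper4.Y5FDef.up hrel
    Cfsg.Agent.Lib.Helper4.TCY5ALink.S hS
  obtain ⟨hq, hqle⟩ := Cfsg.Agent.Lib.Helper4.TCY5AMain.mainU
  exact Cfsg.Agent.Lib.Helper28.TC2Tower2.card_le_of_quot _ hfin hq hqle (le_trans hle cardF.2)

/-- `Fi₂₃` has the expected order and acts faithfully on `31671` points -/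
theorem exists_phiFi : Finite (PresentedGroup relsFi) ∧ Nat.card (PresentedGroup relsFi) = 4089470473293004800 ∧
    ∀ L : List (Cfsg.Spor.Fi23.Gen × Bool),
      (∀ p, p < 31671 → Cfsg.Agent.Lib.Helper28.TCFi23W0Table.table.walkT
        (pathOf Cfsg.Agent.Lib.Helper28.TCFi23W0Link.lw L) p = p) →
      PresentedGroup.mk relsFi (FreeGroup.mk L) = 1 := by
  obtain ⟨_, φ, hφ, _, _, _, _⟩ := Cfsg.Agent.Lib.Helper28.TCFi23W0Main.main
  obtain ⟨hfin, hle⟩ := Cfsg.Agent.Lib.Helper28.TCFi23Tower.card0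
  haveI : Finite (PresentedGroup relsFi) := hfin
  have hlow : 4089470473293004800 ≤ Nat.card φ.range :=
    le_trans Cfsg.Agent.Lib.Helper28.TCFi23BMain.card_base
      (card_baseGroup_le Cfsg.Agent.Lib.Helper28.TCFi23W0Main.hT Cfsg.Agent.Lib.Helper28.TCFi23BMain.hTB rfl (by decide)
        Cfsg.Agent.Lib.Helper28.TCFi23BMain.hagree φ.range
        (sigma_mem_range Cfsg.Agent.Lib.Helper28.TCFi23W0Link.link Cfsg.Agent.Lib.Helper28.TCFi23W0Main.hT φ hφ))
  obtain ⟨hinj, hcard⟩ := injective_of_card_le φ hle hlow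
  refine ⟨hfin, hcard, fun L hL => ?_⟩
  apply hinj
  rw [map_one]
  exact phi_mk_eq_one Cfsg.Agent.Lib.Helper28.TCFi23W0Link.link Cfsg.Agent.Lib.Helper28.TCFi23W0Main.hT φ hφ L hL

/-- substituting a single letter for every letter is the map of letters -/
theorem substW_single {α β : Type} (ι : α → β) (L : List (α × Bool)) :
    substW (fun x => [(ι x, true)]) L = upWord ι L := by
  induction L with
  | nil => rfl
  | cons x L ih =>
    rw [substW_cons, ih]
    rcases x with ⟨x, b⟩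
    cases b <;> rfl

/-- the parity of a word over one letter -/
theorem parity_mk (W : List (Unit × Bool)) :
    FreeGroup.lift (fun _ : Unit => Multiplicative.ofAdd (1 : ZMod 2)) (FreeGroup.mk W) =
      Multiplicative.ofAdd ((W.length : ℕ) : ZMod 2) := by
  induction W with
  | nil => simp [← FreeGroup.one_eq_mk]
  | cons x W ih =>
    have e : (FreeGroup.mk (x :: W) : FreeGroup Unit) = FreeGroup.mk [x] * FreeGroup.mk W := by
      rw [FreeGroup.mul_mk]; rfl
    rw [e, map_mul, ih]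
    rcases x with ⟨x, b⟩
    have h1 : FreeGroup.lift (fun _ : Unit => Multiplicative.ofAdd (1 : ZMod 2)) (FreeGroup.mk [(x, b)]) =
        Multiplicative.ofAdd (1 : ZMod 2) := by
      cases b with
      | true =>
        show FreeGroup.lift _ (FreeGroup.of x) = _
        rw [FreeGroup.lift_apply_of]
      | false =>
        have : (FreeGroup.mk [(x, false)] : FreeGroup Unit) = (FreeGroup.of x)⁻¹ := by
          rw [FreeGroup.of, FreeGroup.inv_mk]; rfl
        rw [this, map_inv, FreeGroup.lift_apply_of]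
        decide
    rw [h1, ← ofAdd_add, List.length_cons]
    congr 1
    push_cast
    ring

theorem length_substW_unit {α : Type} (L : List (α × Bool)) :
    (substW (fun _ : α => [((), true)]) L).length = L.length := by
  rw [substW_single]
  simp [upWord]

/-- in `PA` the longest element of the `E₈` subdiagram is trivial -/
theorem w8_eq_one : PresentedGroup.mk relsA (FreeGroup.mk w8WordA) = 1 := by
  obtain ⟨hfinFi, hcardFi, honeFi⟩ := exists_phiFi
  obtain ⟨hfinA, hcardA⟩ := cardA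
  haveI : Finite (PresentedGroup relsA) := hfinA
  haveI : Finite (PresentedGroup relsFi) := hfinFi
  -- the map to `Fi₂₃`
  obtain ⟨π, hπ⟩ := exists_hom_of_subst relsA Cfsg.Agent.Lib.Helper4.TCY5ALink.relWords
    (fun r hr => (Cfsg.Agent.Lib.Helper4.TCY5ALink.link.hrels r).mp hr) (PresentedGroup.mk relsFi)
    (fun x => [(iotaA x, true)])
    (fun L hL => by
      rw [substW_single]
      exact PresentedGroup.one_of_mem ((Cfsg.Agent.Lib.Helper28.TCFi23W0Link.link.hrels _).mpr ⟨_, hupA L hL, rfl⟩))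
  have hπ' : ∀ L, π (PresentedGroup.mk relsA (FreeGroup.mk L)) =
      PresentedGroup.mk relsFi (FreeGroup.mk (upWord iotaA L)) := by
    intro L; rw [hπ, substW_single]
  -- the parity
  obtain ⟨σ, hσ⟩ := exists_hom_of_subst relsA Cfsg.Agent.Lib.Helper4.TCY5ALink.relWords
    (fun r hr => (Cfsg.Agent.Lib.Helper4.TCY5ALink.link.hrels r).mp hr)
    (FreeGroup.lift (fun _ : Unit => Multiplicative.ofAdd (1 : ZMod 2)))
    (fun _ => [((), true)])
    (fun L hL => by
      rw [parity_mk, length_substW_unit]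
      have := heven L hL
      have h2 : ((L.length : ℕ) : ZMod 2) = 0 := by
        rw [ZMod.natCast_eq_zero_iff]
        exact Nat.dvd_of_mod_eq_zero this
      rw [h2]; rfl)
  have hσ' : ∀ L, σ (PresentedGroup.mk relsA (FreeGroup.mk L)) = Multiplicative.ofAdd ((L.length : ℕ) : ZMod 2) := by
    intro L; rw [hσ, parity_mk, length_substW_unit]
  -- `π` is onto
  have hπsurj : Function.Surjective π := by
    have : π.range = ⊤ := by
      rw [eq_top_iff, ← PresentedGroup.closure_range_of, Subgroup.closure_le]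
      rintro _ ⟨x, rfl⟩
      have key : ∀ y : Cfsg.Agent.Lib.Helper4.Y5ADef.Gen,
          (PresentedGroup.of (iotaA y) : PresentedGroup relsFi) ∈ π.range := by
        intro y
        refine ⟨PresentedGroup.mk relsA (FreeGroup.mk [(y, true)]), ?_⟩
        rw [hπ']; rfl
      cases x
      exacts [key .d2, key .c2, key .b2, key .a, key .b1, key .c1, key .d1, key .e1, key .b3, key .c3]
    intro g
    have hg : g ∈ π.range := by rw [this]; exact Subgroup.mem_top g
    exact hg
  -- the element of odd length in the kernel of `π`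
  have hu1 : π (PresentedGroup.mk relsA (FreeGroup.mk e7WordA)) = 1 := by
    rw [hπ']
    exact PresentedGroup.one_of_mem ((Cfsg.Agent.Lib.Helper28.TCFi23W0Link.link.hrels _).mpr ⟨_, e7_mem, rfl⟩)
  have hu2 : σ (PresentedGroup.mk relsA (FreeGroup.mk e7WordA)) = Multiplicative.ofAdd (1 : ZMod 2) := by
    rw [hσ']
    decide
  -- the product map is onto, hence bijective
  have hsurj : Function.Surjective (π.prod σ) := by
    rintro ⟨x, ε⟩
    obtain ⟨g, rfl⟩ := hπsurj x
    by_cases h : σ g = ε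
    · exact ⟨g, by rw [MonoidHom.prod_apply, h]⟩
    · refine ⟨g * PresentedGroup.mk relsA (FreeGroup.mk e7WordA), ?_⟩
      rw [MonoidHom.prod_apply, map_mul, map_mul, hu1, hu2, mul_one]
      congr 1
      revert h
      generalize σ g = s
      revert s ε
      decide
  have hcard2 : Nat.card (PresentedGroup relsA) ≤
      Nat.card (PresentedGroup relsFi × Multiplicative (ZMod 2)) := by
    rw [Nat.card_prod, hcardFi]
    have : Nat.card (Multiplicative (ZMod 2)) = 2 := by
      rw [Nat.card_eq_fintype_card]; rfl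
    rw [this]
    exact le_trans hcardA (by norm_num)
  have hbij := hsurj.bijective_of_nat_card_le hcard2
  apply hbij.1
  rw [map_one, MonoidHom.prod_apply, hπ', hσ']
  refine Prod.ext ?_ ?_
  · show PresentedGroup.mk relsFi (FreeGroup.mk (upWord iotaA w8WordA)) = 1
    apply honeFi
    rw [w8Path_eq]
    exact hfix
  · show Multiplicative.ofAdd ((w8WordA.length : ℕ) : ZMod 2) = 1
    decide

end Cfsg.Agent.Lib.Helper4.Y5A
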