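import Mathlib
import Cfsg.Prelude.Def_PLocal
import Cfsg.Prelude.Def_ConjugacyFunctors
import Cfsg.Agent.Lib.Helper12.ThompsonNPC
import Cfsg.Agent.Lib.Helper12.ThompsonConfig
import Cfsg.Agent.Lib.Helper12.PStableSections
import Cfsg.Agent.Lib.Helper4.ZJEFun

/-!
# Glauberman–Thompson normal `p`-complement theorem for `Z(J_e(P))` (elementary abelian version)
-/

set_option autoImplicit false
open Cfsg

namespace Cfsg.Agent.Lib.Helper4.ZJEGT

universe u

open Cfsg.Agent.Lib.Helper4.ZJEFun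

/-- **Glauberman–Thompson** for `Z(J_e(P))`: for `p` odd, if `N_G(Z(J_e(P)))` has a normal
`p`-complement, so does `G`. -/
theorem glauberman_thompson_ea {G : Type u} [Group G] [Finite G] {p : ℕ} [Fact p.Prime] (hp : p ≠ 2)
    (P : Sylow p G)
    (hN : Cfsg.HasNormalPComplement p
      ↥(Subgroup.normalizer (Cfsg.centerThompsonOf p (P : Subgroup G) : Set G))) :
    Cfsg.HasNormalPComplement p G := by
  have hmin : ∀ (Y : Type u) [Group Y] [Finite Y], True →
      Subgroup.centralizer ((Cfsg.pCore p Y : Subgroup Y) : Set Y) ≤ Cfsg.pCore p Y →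
      Cfsg.HasNormalPComplement p (Y ⧸ Cfsg.pCore p Y) →
      ∀ T : Sylow p Y, IsCoatom (T : Subgroup Y) →
        (Cfsg.inducedFunctor (fun (Q : Type u) [Group Q] => zjE p Q) (T : Subgroup Y)).Normal := by
    intro Y _ _ _ hc hq T hT
    obtain ⟨q, hq', hpq, hsol, hdiv, hab⟩ :=
      Cfsg.Agent.Lib.Helper12.exists_prime_structure_of_coatom_sylow hq T hT
    have hqf : Fact q.Prime := ⟨hq'⟩
    have hD : Cfsg.Agent.Lib.Helper12.IsPQAb p q Y := ⟨hsol, hdiv, hab⟩
    rw [inducedFunctor_zjE]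
    apply Cfsg.Agent.Lib.Helper4.ZJE.centerThompsonOf_normal hp T hc
    apply Cfsg.Agent.Lib.Helper27.quadHyp_of_stable
    intro B hBn hB a hquad
    exact Cfsg.Agent.Lib.Helper12.mk_mem_pCore_of_quadratic hp hpq hD B hB
      (Subgroup.centralizer (B : Set Y))
      (fun x hx => Subgroup.mem_centralizer_iff.mpr (fun u hu => hx u hu)) a hquad
  have := Cfsg.Agent.Lib.Helper12.hasNormalPComplement_of_minimal_sections
    (fun (Q : Type u) [Group Q] => zjE p Q) (isCharPFunctor_zjE p)
    (fun Y _ => True) (fun _ _ _ _ => trivial) (fun _ _ _ _ _ => trivial) hmin (Nat.card G) G rfl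
    trivial P
  apply this
  rw [inducedFunctor_zjE]
  exact hN

end Cfsg.Agent.Lib.Helper4.ZJEGT
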