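import Mathlib
import Cfsg.Agent.Lib.Helper4.SubnormalFamily
import Cfsg.Agent.Lib.Helper1.Transport

set_option autoImplicit false
open Pointwise

namespace Cfsg.Agent.Lib.Helper4
universe u

section Zipper

variable {G : Type u} [Group G] [Finite G] (A : Subgroup G)
  (S : Subgroup G → Set (Subgroup G))
  (hS : ∀ V B : Subgroup G, B ∈ S V ↔ (∃ g : G, B = MulAut.conj g • A) ∧ B ≤ V ∧
    (B.subgroupOf V).IsSubnormal)

omit [Finite G] in
include hS in
theorem zipper_conj_mem {V B : Subgroup G} (hB : B ∈ S V) {v : G} (hv : v ∈ V) :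
    MulAut.conj v • B ∈ S V := by
  rw [hS] at hB ⊢
  obtain ⟨⟨g, rfl⟩, hBV, hsn⟩ := hB
  have hle : MulAut.conj v • MulAut.conj g • A ≤ V := by
    intro x hx
    rw [Subgroup.mem_pointwise_smul_iff_inv_smul_mem] at hx
    have h1 := hBV hx
    have h2 : x = v * ((MulAut.conj v)⁻¹ • x) * v⁻¹ := by
      simp only [MulAut.smul_def, MulAut.conj_inv_apply]; group
    rw [h2]
    exact V.mul_mem (V.mul_mem hv h1) (V.inv_mem hv)
  refine ⟨⟨v * g, by rw [map_mul, mul_smul]⟩, hle, ?_⟩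
  have h3 : (MulAut.conj (⟨v, hv⟩ : V) • (MulAut.conj g • A).subgroupOf V).IsSubnormal :=
    hsn.smul _
  have h4 : (MulAut.conj v • MulAut.conj g • A).subgroupOf V =
      MulAut.conj (⟨v, hv⟩ : V) • (MulAut.conj g • A).subgroupOf V := by
    apply Subgroup.map_injective V.subtype_injective
    rw [Cfsg.Agent.Lib.Helper1.map_subtype_conj_smul, Subgroup.map_subgroupOf_eq_of_le hle,
      Subgroup.map_subgroupOf_eq_of_le hBV]
  rw [h4]; exact h3

include hS in
theorem zipper_le_normalizer (V : Subgroup G) :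
    V ≤ Subgroup.normalizer ((sSup (S V) : Subgroup G) : Set G) := by
  intro v hv
  apply Cfsg.Agent.Lib.Helper17.mem_normalizer_of_map_conj_le
  rw [Subgroup.map_le_iff_le_comap]
  apply sSup_le
  intro B hB b hb
  rw [Subgroup.mem_comap]
  have h1 := zipper_conj_mem A S hS hB hv
  exact (le_sSup h1) (Subgroup.smul_mem_pointwise_smul b (MulAut.conj v) B hb)

include hS in
theorem zipper_exists_normalizes (V : Subgroup G) (F₀ : Set (Subgroup G)) (h0 : F₀ ⊂ S V) :
    ∃ B ∈ S V, B ∉ F₀ ∧ B ≤ Subgroup.normalizer ((sSup F₀ : Subgroup G) : Set G) := by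
  let 𝒯 : Set (Subgroup V) := {T | T.map V.subtype ∈ S V}
  let 𝒯₀ : Set (Subgroup V) := {T | T.map V.subtype ∈ F₀}
  have hleV : ∀ B ∈ S V, B ≤ V := fun B hB => ((hS V B).mp hB).2.1
  have hsn : ∀ T ∈ 𝒯, T.IsSubnormal := by
    intro T hT
    have h1 := ((hS V _).mp hT).2.2
    rwa [Subgroup.subgroupOf, Subgroup.comap_map_eq_self_of_injective V.subtype_injective] at h1
  have hconj : ∀ T ∈ 𝒯, ∀ v : V, MulAut.conj v • T ∈ 𝒯 := by
    intro T hT v
    change (MulAut.conj v • T).map V.subtype ∈ S V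
    rw [Cfsg.Agent.Lib.Helper1.map_subtype_conj_smul]
    exact zipper_conj_mem A S hS hT v.2
  have hsub : 𝒯₀ ⊂ 𝒯 := by
    refine ⟨fun T hT => h0.subset hT, fun hcon => ?_⟩
    obtain ⟨B, hB, hB0⟩ := Set.exists_of_ssubset h0
    have h1 : B.subgroupOf V ∈ 𝒯 := by
      change (B.subgroupOf V).map V.subtype ∈ S V
      rwa [Subgroup.map_subgroupOf_eq_of_le (hleV B hB)]
    have h2 := hcon h1
    change (B.subgroupOf V).map V.subtype ∈ F₀ at h2
    rw [Subgroup.map_subgroupOf_eq_of_le (hleV B hB)] at h2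
    exact hB0 h2
  obtain ⟨T, hT, hT0, hTn⟩ := exists_normalizes_sSup 𝒯 𝒯₀ hsn hconj hsub
  have hH : (sSup F₀ : Subgroup G) = (sSup 𝒯₀).map V.subtype := by
    apply le_antisymm
    · apply sSup_le
      intro B hB
      have hBV := hleV B (h0.subset hB)
      rw [← Subgroup.map_subgroupOf_eq_of_le hBV]
      apply Subgroup.map_mono
      apply le_sSup
      change (B.subgroupOf V).map V.subtype ∈ F₀
      rwa [Subgroup.map_subgroupOf_eq_of_le hBV]
    · rw [Subgroup.map_le_iff_le_comap]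
      apply sSup_le
      intro T' hT'
      rw [← Subgroup.map_le_iff_le_comap]
      exact le_sSup hT'
  refine ⟨T.map V.subtype, hT, hT0, ?_⟩
  rintro x ⟨t, ht, rfl⟩
  apply Cfsg.Agent.Lib.Helper17.mem_normalizer_of_forall_conj_mem
  intro y hy
  rw [hH] at hy ⊢
  obtain ⟨y', hy', rfl⟩ := hy
  have h1 := (Subgroup.mem_normalizer_iff.mp (hTn ht) y').mp hy'
  exact ⟨_, h1, rfl⟩

include hS in
/-- key step: for a pair of distinct maximal members maximizing `|S V ∩ S W|`, `V` equals any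
maximal member containing the normalizer of `⟨S V ∩ S W⟩`. -/
theorem zipper_key (U : Set (Subgroup G))
    (h2 : ∀ V ∈ U, ∀ W ∈ U, ∀ B ∈ S W, B ≤ V → B ∈ S V)
    (V W M : Subgroup G) (hV : Maximal (· ∈ U) V) (_hW : W ∈ U) (hM : Maximal (· ∈ U) M)
    (hmax : ∀ M' : Subgroup G, Maximal (· ∈ U) M' → V ≠ M' →
      (S V ∩ S M').ncard ≤ (S V ∩ S W).ncard)
    (hN : Subgroup.normalizer ((sSup (S V ∩ S W) : Subgroup G) : Set G) ≤ M) : V = M := by
  by_contra hne
  by_cases heq : S V ∩ S W = S V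
  · rw [heq] at hN
    have h1 : V ≤ M := (zipper_le_normalizer A S hS V).trans hN
    exact hne (le_antisymm h1 (hV.2 hM.1 h1))
  · have hss : S V ∩ S W ⊂ S V := ⟨Set.inter_subset_left, fun h => heq (Set.Subset.antisymm Set.inter_subset_left h)⟩
    obtain ⟨B, hBV, hB0, hBn⟩ := zipper_exists_normalizes A S hS V _ hss
    have hsub : S V ∩ S W ⊂ S V ∩ S M := by
      refine ⟨fun B' hB' => ⟨hB'.1, ?_⟩, fun hcon => ?_⟩
      · apply h2 M hM.1 V hV.1 B' hB'.1
        exact ((le_sSup hB').trans Subgroup.le_normalizer).trans hN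
      · apply hB0
        apply hcon
        exact ⟨hBV, h2 M hM.1 V hV.1 B hBV (hBn.trans hN)⟩
    have hlt := Set.ncard_lt_ncard hsub (Set.toFinite _)
    have := hmax M hM hne
    omega

include hS in
theorem zipper_greatest (U : Set (Subgroup G)) (hU : U.Nonempty)
    (h2 : ∀ V ∈ U, ∀ W ∈ U, ∀ B ∈ S W, B ≤ V → B ∈ S V)
    (h3 : ∀ V ∈ U, ∀ W ∈ U, ∃ X ∈ U,
      Subgroup.normalizer ((sSup (S V ∩ S W) : Subgroup G) : Set G) ≤ X) :
    ∃ M ∈ U, ∀ V ∈ U, V ≤ M := by
  by_contra hcon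
  push Not at hcon
  have hUfin : U.Finite := Set.toFinite U
  -- two distinct maximal members
  let P : Set (Subgroup G × Subgroup G) :=
    {x | Maximal (· ∈ U) x.1 ∧ Maximal (· ∈ U) x.2 ∧ x.1 ≠ x.2}
  have hPne : P.Nonempty := by
    obtain ⟨V0, hV0⟩ := hU
    obtain ⟨V, _, hV⟩ := hUfin.exists_le_maximal hV0
    obtain ⟨W0, hW0, hW0V⟩ := hcon V hV.1
    obtain ⟨W, hW0W, hW⟩ := hUfin.exists_le_maximal hW0
    refine ⟨(V, W), hV, hW, ?_⟩
    intro hVW
    change V = W at hVW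
    rw [hVW] at hW0V
    exact hW0V hW0W
  obtain ⟨⟨V, W⟩, ⟨hV, hW, hVW⟩, hbest⟩ :=
    Set.exists_max_image P (fun x => (S x.1 ∩ S x.2).ncard) (Set.toFinite P) hPne
  obtain ⟨X, hXU, hX⟩ := h3 V hV.1 W hW.1
  obtain ⟨M, hXM, hM⟩ := hUfin.exists_le_maximal hXU
  have e1 : V = M := by
    apply zipper_key A S hS U h2 V W M hV hW.1 hM _ (hX.trans hXM)
    intro M' hM' hne
    exact hbest (V, M') ⟨hV, hM', hne⟩
  have e2 : W = M := by
    apply zipper_key A S hS U h2 W V M hW hV.1 hM _ (by rw [Set.inter_comm]; exact hX.trans hXM)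
    intro M' hM' hne
    have h4 := hbest (W, M') ⟨hW, hM', hne⟩
    simp only at h4
    rw [Set.inter_comm (S W) (S V)]
    exact h4
  exact hVW (e1.trans e2.symm)

end Zipper

end Cfsg.Agent.Lib.Helper4
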